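import Mathlib

/-!
# Small Sylow utilities

A p-subgroup of a subgroup `K` containing a Sylow subgroup lies in a `K`-conjugate of it;
a nontrivial normal subgroup of a p-group meets the centre.
-/

set_option autoImplicit false

namespace Cfsg.Agent.Small

variable {G : Type*} [Group G] [Finite G] {p : ℕ} [Fact p.Prime]

theorem exists_smul_sylow_ge_inside (P : Subgroup G) (hP : IsPGroup p P) {K : Subgroup G} (hPK : P ≤ K)
    (U : Sylow p G) (hUK : (U : Subgroup G) ≤ K) :
    ∃ k ∈ K, P ≤ ((k • U : Sylow p G) : Subgroup G) := by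
  obtain ⟨Q, hQ⟩ := (hP.comap_of_injective K.subtype K.subtype_injective).exists_le_sylow
  obtain ⟨k, hk⟩ := MulAction.exists_smul_eq K (U.subtype hUK) Q
  refine ⟨k, k.2, fun x hx => ?_⟩
  have hxQ : (⟨x, hPK hx⟩ : K) ∈ (Q : Subgroup K) := hQ hx
  rw [← hk] at hxQ
  obtain ⟨u, hu, e⟩ := hxQ
  exact ⟨(u : G), hu, congrArg Subtype.val e⟩

omit [Fact p.Prime] in
theorem sylow_smul_mem_iff (U : Sylow p G) (a x : G) :
    x ∈ ((a • U : Sylow p G) : Subgroup G) ↔ a⁻¹ * x * a ∈ (U : Subgroup G) := by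
  constructor
  · rintro ⟨u, hu, rfl⟩
    show a⁻¹ * (a * u * a⁻¹) * a ∈ (U : Subgroup G)
    rwa [show a⁻¹ * (a * u * a⁻¹) * a = u by group]
  · intro h
    exact ⟨_, h, show a * (a⁻¹ * x * a) * a⁻¹ = x by group⟩

theorem normal_meets_center (hG : IsPGroup p G) {A : Subgroup G} (hAn : A.Normal) (hA : A ≠ ⊥) :
    A ⊓ Subgroup.center G ≠ ⊥ := by
  haveI : Nontrivial A := (Subgroup.nontrivial_iff_ne_bot A).2 hA
  have hconj : IsPGroup p (ConjAct G) := hG.of_equiv ConjAct.toConjAct
  have hdvd : p ∣ Nat.card A := by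
    obtain ⟨k, hk⟩ := IsPGroup.iff_card.1 (hG.to_subgroup A)
    rcases k with _ | k
    · exact absurd (Subgroup.card_eq_one.1 (by simpa using hk)) hA
    · exact hk ▸ dvd_pow_self p k.succ_ne_zero
  letI : MulAction (ConjAct G) A :=
    { smul := fun g a => ⟨g • (a : G), by rw [ConjAct.smul_def]; exact hAn.conj_mem _ a.2 _⟩
      one_smul := fun a => Subtype.ext (one_smul _ (a : G))
      mul_smul := fun g h a => Subtype.ext (mul_smul g h (a : G)) }
  have h1 : (1 : A) ∈ MulAction.fixedPoints (ConjAct G) A := fun g => Subtype.ext (smul_one g)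
  obtain ⟨a, ha, hne⟩ := hconj.exists_fixed_point_of_prime_dvd_card_of_fixed_point A hdvd h1
  intro hbot
  refine hne (Subtype.ext ?_).symm
  refine Subgroup.mem_bot.1 (hbot.le ⟨a.2, Subgroup.mem_center_iff.2 fun g => ?_⟩)
  have := congrArg Subtype.val (ha (ConjAct.toConjAct g))
  change ConjAct.toConjAct g • (a : G) = a at this
  rw [ConjAct.smul_def, ConjAct.ofConjAct_toConjAct] at this
  exact mul_inv_eq_iff_eq_mul.1 this

end Cfsg.Agent.Small
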