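import Cfsg.Agent.Lib.Small.SmallOrders

/-!
# Tools for the analysis of a simple group of given order
-/

set_option autoImplicit false

namespace Cfsg.Agent.Small.SimpleOrderTools

open Subgroup

variable {G : Type*} [Group G] [Finite G]

/-- A subgroup of index at most seven forces a small group order. -/
theorem card_dvd_half_factorial [IsSimpleGroup G] (hnc : ¬ IsMulCommutative G) (H : Subgroup G) (hH : H ≠ ⊤) :
    ∃ f : G →* Equiv.Perm (Fin H.index), Function.Injective f ∧
      f.range ≤ alternatingGroup (Fin H.index) := by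
  classical
  haveI := Fintype.ofFinite (G ⧸ H)
  let e : G ⧸ H ≃ Fin H.index := Finite.equivFinOfCardEq rfl
  let f : G →* Equiv.Perm (Fin H.index) :=
    (Equiv.permCongrHom e).toMonoidHom.comp (MulAction.toPermHom G (G ⧸ H))
  have hne : H.normalCore ≠ ⊤ := fun h => hH (top_le_iff.1 (h ▸ H.normalCore_le))
  have hbot : H.normalCore = ⊥ :=
    (IsSimpleGroup.eq_bot_or_eq_top_of_normal _ inferInstance).resolve_right hne
  have hinj0 : Function.Injective (MulAction.toPermHom G (G ⧸ H)) := by
    rw [← MonoidHom.ker_eq_bot_iff, ← normalCore_eq_ker, hbot]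
  refine ⟨f, (Equiv.permCongrHom e).injective.comp hinj0, ?_⟩
  rintro _ ⟨g, rfl⟩
  rw [Equiv.Perm.mem_alternatingGroup]
  let s : G →* ℤˣ := Equiv.Perm.sign.comp f
  rcases IsSimpleGroup.eq_bot_or_eq_top_of_normal s.ker inferInstance with h | h
  · exact absurd ⟨⟨fun a b => (MonoidHom.ker_eq_bot_iff s).1 h (by rw [map_mul, map_mul, mul_comm])⟩⟩ hnc
  · have : g ∈ s.ker := h ▸ mem_top g
    exact this

/-- An element of an abelian Sylow subgroup centralised by its normaliser is trivial. -/
theorem eq_one_of_fixed [IsSimpleGroup G] {p : ℕ} [Fact p.Prime] (P : Sylow p G)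
    [IsMulCommutative (P : Subgroup G)] (hlt : Nat.card P < Nat.card G) {x : G} (hx : x ∈ (P : Subgroup G))
    (hfix : ∀ n ∈ normalizer ((P : Subgroup G) : Set G), n * x = x * n) : x = 1 := by
  classical
  by_contra hx1
  letI : CommGroup (P : Subgroup G) :=
    { (inferInstance : Group (P : Subgroup G)) with mul_comm := fun a b => mul_comm' a b }
  obtain ⟨k, hk⟩ := P.2 ⟨x, hx⟩
  have hctrl : ∀ (m : ℕ) (a : G) (h : a⁻¹ * x ^ m * a ∈ (P : Subgroup G)),
      (⟨_, h⟩ : (P : Subgroup G)) = ⟨x, hx⟩ ^ m := by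
    intro m a h
    obtain ⟨n, hn, he⟩ := P.conj_eq_normalizer_conj_of_mem (x ^ m) a (pow_mem hx m) h
    apply Subtype.ext
    show a⁻¹ * x ^ m * a = x ^ m
    rw [he]
    have hc : Commute n (x ^ m) := (show Commute n x from hfix n hn).pow_right m
    rw [mul_assoc, ← hc.eq, inv_mul_cancel_left]
  have h1 : MonoidHom.transfer (MonoidHom.id (P : Subgroup G)) x =
      (⟨x, hx⟩ : (P : Subgroup G)) ^ (P : Subgroup G).index := by
    letI := (P : Subgroup G).fintypeQuotientOfFiniteIndex
    rw [MonoidHom.transfer_eq_prod_quotient_orbitRel_zpowers_quot,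
      (P : Subgroup G).index_eq_sum_minimalPeriod x, ← Finset.prod_pow_eq_pow_sum]
    exact Finset.prod_congr rfl fun q _ => hctrl _ _ _
  have hne : (⟨x, hx⟩ : (P : Subgroup G)) ^ (P : Subgroup G).index ≠ 1 := by
    intro h
    have hcop : Nat.Coprime (p ^ k) (P : Subgroup G).index :=
      ((Fact.out : p.Prime).coprime_iff_not_dvd.2 P.not_dvd_index).pow_left k
    exact hx1 (congrArg Subtype.val (orderOf_eq_one_iff.1
      (Nat.eq_one_of_dvd_coprimes hcop (orderOf_dvd_of_pow_eq_one hk) (orderOf_dvd_of_pow_eq_one h))))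
  rcases IsSimpleGroup.eq_bot_or_eq_top_of_normal (MonoidHom.transfer (MonoidHom.id (P : Subgroup G))).ker
    inferInstance with h | h
  · have := Nat.card_le_card_of_injective _ ((MonoidHom.ker_eq_bot_iff _).1 h)
    exact absurd this (not_le.2 hlt)
  · have : x ∈ (MonoidHom.transfer (MonoidHom.id (P : Subgroup G))).ker := h ▸ mem_top x
    exact hne (h1.symm.trans this)

/-- The index of the centraliser counts the conjugates. -/
theorem card_conjugates (x : G) :
    Nat.card {g : G // IsConj x g} * Nat.card (centralizer ({x} : Set G)) = Nat.card G := by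
  rw [mul_comm]
  have h := card_mul_index (MulAction.stabilizer (ConjAct G) x)
  rw [MulAction.index_stabilizer] at h
  rw [centralizer_eq_comap_stabilizer]
  have e1 : Nat.card ((MulAction.stabilizer (ConjAct G) x).comap (ConjAct.toConjAct (G := G)).toMonoidHom) =
      Nat.card (MulAction.stabilizer (ConjAct G) x) :=
    Nat.card_congr ((ConjAct.toConjAct (G := G)).toEquiv.subtypeEquiv fun g => Iff.rfl)
  have e3 := congrArg (fun n => n * Nat.card {g : G // IsConj x g}) e1
  refine Eq.trans ?_ h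
  refine e3.trans ?_
  have e2 : (MulAction.orbit (ConjAct G) x).ncard = Nat.card {g : G // IsConj x g} := by
    rw [← Nat.card_coe_set_eq]
    exact Nat.card_congr (Equiv.setCongr (Set.ext fun g => by
      rw [ConjAct.mem_orbit_conjAct]; exact isConj_comm))
  rw [← e2]

/-- A subgroup of prime order has a generator. -/
theorem exists_generator {p : ℕ} (hp : p.Prime) {P : Subgroup G} (hP : Nat.card P = p) :
    ∃ y : G, orderOf y = p ∧ zpowers y = P := by
  haveI := Fact.mk hp
  haveI : IsCyclic P := isCyclic_of_prime_card hP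
  obtain ⟨⟨y, hy⟩, hgen⟩ := IsCyclic.exists_generator (α := P)
  have he : zpowers y = P := by
    refine le_antisymm (zpowers_le.2 hy) fun z hz => ?_
    obtain ⟨n, hn⟩ := mem_zpowers_iff.1 (hgen ⟨z, hz⟩)
    exact mem_zpowers_iff.2 ⟨n, congrArg Subtype.val hn⟩
  exact ⟨y, by rw [← Nat.card_zpowers, he, hP], he⟩

/-- Elements lying in exactly one Sylow subgroup are counted by the Sylow subgroups. -/
theorem count_ti {p m : ℕ} [Fact p.Prime] (hcard : ∀ P : Sylow p G, Nat.card P = m)
    (hti : ∀ (P Q : Sylow p G) (x : G), x ≠ 1 → x ∈ (P : Subgroup G) → x ∈ (Q : Subgroup G) → P = Q) :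
    Nat.card (Sylow p G) * (m - 1) ≤ Nat.card {g : G // g ≠ 1 ∧ ∃ k : ℕ, orderOf g = p ^ k} := by
  classical
  haveI := Fintype.ofFinite (Sylow p G)
  have hc : ∀ P : Sylow p G, Nat.card {x : (P : Subgroup G) // x ≠ 1} = m - 1 := fun P => by
    haveI := Fintype.ofFinite (P : Subgroup G)
    rw [Nat.card_eq_fintype_card, Fintype.card_subtype_compl, Fintype.card_subtype_eq,
      ← Nat.card_eq_fintype_card, show Nat.card (P : Subgroup G) = m from hcard P]
  let ψ : (Σ P : Sylow p G, {x : (P : Subgroup G) // x ≠ 1}) → {g : G // g ≠ 1 ∧ ∃ k : ℕ, orderOf g = p ^ k} :=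
    fun a => ⟨a.2.1.1, fun e => a.2.2 (Subtype.ext e), by
      obtain ⟨k, hk⟩ := IsPGroup.iff_orderOf.1 a.1.2 a.2.1
      exact ⟨k, by rw [orderOf_coe, hk]⟩⟩
  have hψ : Function.Injective ψ := by
    rintro ⟨P, ⟨x, hx⟩, hx1⟩ ⟨Q, ⟨y, hy⟩, hy1⟩ e
    obtain rfl : x = y := congrArg (fun g : {g : G // g ≠ 1 ∧ ∃ k : ℕ, orderOf g = p ^ k} => g.1) e
    obtain rfl : P = Q := hti P Q x (fun h => hx1 (Subtype.ext h)) hx hy
    rfl
  have h := Nat.card_le_card_of_injective ψ hψ
  rw [Nat.card_sigma, Finset.sum_congr rfl fun P _ => hc P] at h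
  simpa [Finset.card_univ, ← Nat.card_eq_fintype_card] using h

end Cfsg.Agent.Small.SimpleOrderTools
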