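import Mathlib

/-!
Groups of small order.
-/

set_option autoImplicit false

namespace Cfsg.Agent.Small.SmallOrders

open Subgroup
open scoped Pointwise

variable {G : Type*} [Group G] [Finite G]

/-- A non-abelian simple group has trivial centre. -/
theorem center_eq_bot [IsSimpleGroup G] (h : ¬ IsMulCommutative G) : center G = ⊥ := by
  refine (IsSimpleGroup.eq_bot_or_eq_top_of_normal _ inferInstance).resolve_right fun e => h ?_
  exact ⟨⟨fun a b => ((mem_center_iff).1 (e ▸ mem_top b : b ∈ center G) a)⟩⟩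

theorem not_comm_of_card [IsSimpleGroup G] (h : ¬ (Nat.card G).Prime) : ¬ IsMulCommutative G := by
  intro hc
  haveI := hc
  letI : CommGroup G := { (inferInstance : Group G) with mul_comm := hc.is_comm.comm }
  exact h IsSimpleGroup.prime_card

/-- A proper subgroup of a simple group gives an embedding into a symmetric group. -/
theorem card_dvd_index_factorial [IsSimpleGroup G] (H : Subgroup G) (hH : H ≠ ⊤) :
    Nat.card G ∣ H.index.factorial := by
  have hne : H.normalCore ≠ ⊤ := fun h => hH (top_le_iff.1 (h ▸ H.normalCore_le))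
  have hbot : H.normalCore = ⊥ :=
    (IsSimpleGroup.eq_bot_or_eq_top_of_normal _ inferInstance).resolve_right hne
  have hinj : Function.Injective (MulAction.toPermHom G (G ⧸ H)) := by
    rw [← MonoidHom.ker_eq_bot_iff, ← normalCore_eq_ker, hbot]
  have := Subgroup.card_dvd_of_injective _ hinj
  rwa [Nat.card_perm] at this

/-- The number of Sylow subgroups divides the cofactor, is one modulo p, and is not one. -/
theorem sylow_number [IsSimpleGroup G] {p m k : ℕ} [Fact p.Prime] (P : Sylow p G)
    (hP : Nat.card P = p ^ k) (hk : 0 < k) (hG : Nat.card G = p ^ k * m) (hm : 1 < m) :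
    Nat.card (Sylow p G) ∣ m ∧ Nat.card (Sylow p G) % p = 1 ∧ Nat.card (Sylow p G) ≠ 1 := by
  have hi : (P : Subgroup G).index = m := by
    have h := (P : Subgroup G).card_mul_index
    rw [show Nat.card (P : Subgroup G) = p ^ k from hP, hG] at h
    exact Nat.eq_of_mul_eq_mul_left (pow_pos (Fact.out : p.Prime).pos _) h
  refine ⟨hi ▸ Sylow.card_dvd_index P, ?_, fun h1 => ?_⟩
  · rw [card_sylow_modEq_one p G, Nat.mod_eq_of_lt (Fact.out : p.Prime).one_lt]
  haveI : Subsingleton (Sylow p G) := (Nat.card_eq_one_iff_unique.mp h1).1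
  haveI := P.normal_of_subsingleton
  rcases IsSimpleGroup.eq_bot_or_eq_top_of_normal (P : Subgroup G) inferInstance with h | h
  · rw [show Nat.card P = Nat.card (P : Subgroup G) from rfl, h, card_bot] at hP
    exact absurd hP.symm (Nat.one_lt_pow hk.ne' (Fact.out : p.Prime).one_lt).ne'
  · rw [h, index_top] at hi
    omega

theorem sylow_card_eq {p m k : ℕ} [Fact p.Prime] (hG : Nat.card G = p ^ k * m) (hm : ¬ p ∣ m)
    (P : Sylow p G) : Nat.card P = p ^ k := by
  have hp : p.Prime := Fact.out
  have hm0 : m ≠ 0 := by rintro rfl; exact hm (dvd_zero p)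
  rw [P.card_eq_multiplicity, hG, Nat.factorization_mul (pow_ne_zero _ hp.ne_zero) hm0,
    Finsupp.add_apply, hp.factorization_pow, Finsupp.single_eq_same,
    Nat.factorization_eq_zero_of_not_dvd hm, add_zero]

theorem card_normalizer {p : ℕ} [Fact p.Prime] (P : Sylow p G) :
    Nat.card (Sylow p G) * Nat.card (normalizer ((P : Subgroup G) : Set G)) = Nat.card G := by
  rw [Sylow.card_eq_index_normalizer P, mul_comm]
  exact card_mul_index _

/-- Burnside's transfer theorem for simple groups. -/
theorem false_of_central [IsSimpleGroup G] {p : ℕ} [Fact p.Prime] (P : Sylow p G)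
    (hP : 1 < Nat.card P) (hlt : Nat.card P < Nat.card G)
    (h : normalizer ((P : Subgroup G) : Set G) ≤ centralizer ((P : Subgroup G) : Set G)) : False := by
  have hK := MonoidHom.ker_transferSylow_isComplement' P h
  rcases IsSimpleGroup.eq_bot_or_eq_top_of_normal (MonoidHom.transferSylow P h).ker inferInstance with
    e | e
  · have := hK.card_mul
    rw [e, card_bot, one_mul] at this
    exact hlt.ne this
  · have := hK.card_mul
    rw [e, card_top] at this
    have h2 : Nat.card G * Nat.card P ≤ Nat.card G * 1 := by rw [mul_one]; exact this.le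
    have := Nat.le_of_mul_le_mul_left h2 Nat.card_pos
    omega

/-- The normaliser acts trivially on a subgroup of prime order when its order is prime to p-1. -/
theorem normalizer_le_centralizer (P : Subgroup G) {p : ℕ} (hp : p.Prime) (hP : Nat.card P = p)
    (h : (Nat.card (normalizer (P : Set G))).Coprime (p - 1)) :
    normalizer (P : Set G) ≤ centralizer (P : Set G) := by
  haveI : Fact p.Prime := ⟨hp⟩
  haveI : IsCyclic P := isCyclic_of_prime_card hP
  intro x hx
  have h1 : orderOf (P.normalizerMonoidHom ⟨x, hx⟩) ∣ Nat.card (normalizer (P : Set G)) :=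
    (orderOf_map_dvd _ _).trans (_root_.orderOf_dvd_natCard _)
  have h2 : orderOf (P.normalizerMonoidHom ⟨x, hx⟩) ∣ p - 1 := by
    refine (_root_.orderOf_dvd_natCard _).trans ?_
    rw [IsCyclic.card_mulAut, hP, Nat.totient_prime hp]
  have h3 := Nat.dvd_gcd h1 h2
  rw [h.gcd_eq_one, Nat.dvd_one, orderOf_eq_one_iff] at h3
  have : (⟨x, hx⟩ : normalizer (P : Set G)) ∈ P.normalizerMonoidHom.ker := h3
  rw [normalizerMonoidHom_ker] at this
  exact this

theorem card_ne_1188 [IsSimpleGroup G] : Nat.card G ≠ 1188 := by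
  intro hG
  haveI : Fact (Nat.Prime 11) := ⟨by norm_num⟩
  obtain ⟨P⟩ : Nonempty (Sylow 11 G) := inferInstance
  have hP : Nat.card P = 11 ^ 1 := sylow_card_eq (m := 108) (by rw [hG]; norm_num) (by norm_num) P
  obtain ⟨hd, hm, h1⟩ := sylow_number P hP one_pos (m := 108) (by rw [hG]; norm_num) (by norm_num)
  have hn : Nat.card (Sylow 11 G) = 12 := by
    have hle := Nat.le_of_dvd (by norm_num) hd
    obtain ⟨n, hn⟩ : ∃ n, Nat.card (Sylow 11 G) = n := ⟨_, rfl⟩
    rw [hn] at hd hm h1 hle ⊢
    revert hd hm h1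
    interval_cases n <;> norm_num
  have hN : Nat.card (normalizer ((P : Subgroup G) : Set G)) = 99 := by
    have := card_normalizer P
    rw [hn, hG] at this
    omega
  refine false_of_central P (by rw [hP]; norm_num) (by rw [hP, hG]; norm_num) ?_
  exact normalizer_le_centralizer (P : Subgroup G) (p := 11) (by norm_num) hP (by rw [hN]; norm_num)

theorem card_ne_1104 [IsSimpleGroup G] : Nat.card G ≠ 1104 := by
  classical
  intro hG
  haveI : Fact (Nat.Prime 23) := ⟨by norm_num⟩
  haveI := Fintype.ofFinite (Sylow 23 G)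
  obtain ⟨P⟩ : Nonempty (Sylow 23 G) := inferInstance
  have hP : Nat.card P = 23 ^ 1 := sylow_card_eq (m := 48) (by rw [hG]; norm_num) (by norm_num) P
  obtain ⟨hd, hm, h1⟩ := sylow_number P hP one_pos (m := 48) (by rw [hG]; norm_num) (by norm_num)
  have hn : Nat.card (Sylow 23 G) = 24 := by
    have hle := Nat.le_of_dvd (by norm_num) hd
    obtain ⟨n, hn⟩ : ∃ n, Nat.card (Sylow 23 G) = n := ⟨_, rfl⟩
    rw [hn] at hd hm h1 hle ⊢
    revert hd hm h1
    interval_cases n <;> norm_num
  have hP' : Nat.card (P : Subgroup G) = 23 := hP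
  have hN : Nat.card (normalizer ((P : Subgroup G) : Set G)) = 46 := by
    have := card_normalizer P
    rw [hn, hG] at this
    omega
  -- an element of the normalizer outside the centralizer
  have hnc : ¬ normalizer ((P : Subgroup G) : Set G) ≤ centralizer ((P : Subgroup G) : Set G) := fun h =>
    false_of_central P (by rw [hP]; norm_num) (by rw [hP, hG]; norm_num) h
  haveI hPcyc : IsCyclic (P : Subgroup G) := isCyclic_of_prime_card hP'
  have hPC : (P : Subgroup G) ≤ centralizer ((P : Subgroup G) : Set G) :=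
    le_centralizer_iff_isMulCommutative.mpr inferInstance
  obtain ⟨t, htN, htC⟩ := SetLike.not_le_iff_exists.1 hnc
  have hsq : ∀ x ∈ normalizer ((P : Subgroup G) : Set G), x * x ∈ (P : Subgroup G) := by
    intro x hx
    have hi : ((P : Subgroup G).subgroupOf (normalizer ((P : Subgroup G) : Set G))).index = 2 := by
      have := ((P : Subgroup G).subgroupOf (normalizer ((P : Subgroup G) : Set G))).card_mul_index
      rw [Nat.card_congr (subgroupOfEquivOfLe le_normalizer).toEquiv, hP', hN] at this
      omega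
    exact (mul_self_mem_of_index_two hi ⟨x, hx⟩ : _)
  have hinv : ∀ x ∈ normalizer ((P : Subgroup G) : Set G), x ∉ centralizer ((P : Subgroup G) : Set G) →
      x * x = 1 := by
    intro x hx hxC
    by_contra hne
    refine hxC (mem_centralizer_iff.2 fun u hu => ?_)
    have hgen : zpowers (⟨x * x, hsq x hx⟩ : (P : Subgroup G)) = ⊤ := by
      haveI : Fact (Nat.Prime 23) := ⟨by norm_num⟩
      exact zpowers_eq_top_of_prime_card hP' fun e => hne (congrArg Subtype.val e)
    obtain ⟨i, hi⟩ := mem_zpowers_iff.1 (hgen ▸ mem_top (⟨u, hu⟩ : (P : Subgroup G)))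
    have hi' : (x * x) ^ i = u := congrArg Subtype.val hi
    rw [← hi']
    exact (((Commute.refl x).mul_left (Commute.refl x)).zpow_left i)
  have ht2 : t * t = 1 := hinv t htN htC
  have hflip : ∀ u ∈ (P : Subgroup G), t * u * t⁻¹ = u⁻¹ := by
    intro u hu
    have h' : t * u * (t * u) = 1 := by
      refine hinv _ (mul_mem htN (le_normalizer hu)) fun h => htC ?_
      have := mul_mem h (inv_mem (hPC hu))
      rwa [mul_inv_cancel_right] at this
    rw [inv_eq_of_mul_eq_one_right ht2]
    refine eq_inv_of_mul_eq_one_left ?_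
    rw [← h']
    group
  -- P moves all the other Sylow subgroups in one orbit
  have hfix : ∀ Q : Sylow 23 G, Q ≠ P → ∀ u ∈ (P : Subgroup G), u • Q = Q → u = 1 := by
    intro Q hQ u hu hfx
    have hu' : u ∈ (P : Subgroup G) ⊓ (Q : Subgroup G) := by
      rw [← IsPGroup.inf_normalizer_sylow P.2 Q]
      exact mem_inf.mpr ⟨hu, Sylow.smul_eq_iff_mem_normalizer.1 hfx⟩
    by_contra hne
    have hle : ∀ R : Sylow 23 G, u ∈ (R : Subgroup G) → (R : Subgroup G) = zpowers u := by
      intro R hR
      have hRc : Nat.card (R : Subgroup G) = 23 :=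
        (sylow_card_eq (m := 48) (k := 1) (by rw [hG]; norm_num) (by norm_num) R).trans (by norm_num)
      refine (eq_of_le_of_card_ge ((zpowers_le).2 hR) ?_).symm
      rw [hRc, Nat.card_zpowers]
      have h23 : orderOf u ∣ 23 := hRc ▸ Subgroup.orderOf_dvd_natCard _ hR
      rcases (Nat.dvd_prime (by norm_num)).1 h23 with h | h
      · exact absurd (orderOf_eq_one_iff.1 h) hne
      · exact h.ge
    exact hQ (Sylow.ext ((hle Q hu'.2).trans (hle P hu'.1).symm))
  obtain ⟨Q₀, hQ₀⟩ : ∃ Q : Sylow 23 G, Q ≠ P := by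
    haveI : Nontrivial (Sylow 23 G) := Finite.one_lt_card_iff_nontrivial.1 (by omega)
    exact exists_ne P
  have hP0 : ∀ u ∈ (P : Subgroup G), u • P = P := fun u hu =>
    Sylow.smul_eq_iff_mem_normalizer.2 (le_normalizer hu)
  let e : ↥(P : Subgroup G) → {Q : Sylow 23 G // Q ≠ P} := fun u =>
    ⟨(u : G) • Q₀, fun h => hQ₀ (smul_left_cancel (u : G) (h.trans (hP0 u u.2).symm))⟩
  have hinj : Function.Injective e := by
    intro u v huv
    have h : (u : G) • Q₀ = (v : G) • Q₀ := congrArg Subtype.val huv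
    have h' := hfix Q₀ hQ₀ ((v : G)⁻¹ * u) (mul_mem (inv_mem v.2) u.2)
      (by rw [mul_smul, h, inv_smul_smul])
    exact Subtype.ext (inv_mul_eq_one.1 h').symm
  have hsurj : Function.Surjective e := by
    refine (hinj.bijective_of_nat_card_le ?_).2
    rw [hP', Nat.card_eq_fintype_card, Fintype.card_subtype_compl, Fintype.card_subtype_eq,
      ← Nat.card_eq_fintype_card, hn]
  -- t fixes exactly two Sylow subgroups
  obtain ⟨σ, hσ⟩ : ∃ σ, σ = MulAction.toPermHom G (Sylow 23 G) t := ⟨_, rfl⟩
  have hσ' : ∀ Q, σ Q = t • Q := fun Q => by rw [hσ]; rfl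
  obtain ⟨v, hv⟩ : ∃ v : (P : Subgroup G), (v : G) • Q₀ = t • Q₀ := by
    have : t • Q₀ ≠ P := fun h => hQ₀ (smul_left_cancel t (h.trans
      (Sylow.smul_eq_iff_mem_normalizer.2 htN).symm))
    obtain ⟨v, hv⟩ := hsurj ⟨_, this⟩
    exact ⟨v, congrArg Subtype.val hv⟩
  have hmove : ∀ u : (P : Subgroup G), t • ((u : G) • Q₀) = ((u : G)⁻¹ * v) • Q₀ := by
    intro u
    rw [mul_smul, hv, ← mul_smul, ← mul_smul, ← hflip u u.2, inv_mul_cancel_right]
  obtain ⟨r, hr⟩ : ∃ r : (P : Subgroup G), r * r = v := by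
    refine ⟨v ^ 12, ?_⟩
    rw [← pow_add, show 12 + 12 = 23 + 1 by rfl, pow_succ]
    have : v ^ Nat.card (P : Subgroup G) = 1 := pow_card_eq_one'
    rw [hP'] at this
    rw [this, one_mul]
  have hfixset : Function.fixedPoints σ = {P, (r : G) • Q₀} := by
    ext Q
    simp only [Function.mem_fixedPoints, Function.IsFixedPt, hσ', Set.mem_insert_iff,
      Set.mem_singleton_iff]
    constructor
    · intro h
      by_cases hQ : Q = P
      · exact Or.inl hQ
      obtain ⟨u, hu⟩ := hsurj ⟨Q, hQ⟩
      have hu' : (u : G) • Q₀ = Q := congrArg Subtype.val hu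
      rw [← hu', hmove] at h
      have h2 : u⁻¹ * v = u := hinj (Subtype.ext h)
      have h3 : v = u * u := by rw [← inv_mul_eq_iff_eq_mul]; exact h2
      refine Or.inr ?_
      rw [← hu']
      have : u = r := by
        have hsqr : Function.Injective fun w : (P : Subgroup G) => w ^ 2 :=
          (powCoprime (G := (P : Subgroup G)) (n := 2) (by rw [hP']; norm_num)).injective
        exact hsqr (by simp only [pow_two]; rw [← h3, hr])
      rw [this]
    · rintro (rfl | rfl)
      · exact Sylow.smul_eq_iff_mem_normalizer.2 htN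
      · rw [hmove]
        have : r⁻¹ * v = r := by rw [← hr, inv_mul_cancel_left]
        exact congrArg (fun w : (P : Subgroup G) => (w : G) • Q₀) this
  have hsign : Equiv.Perm.sign σ = -1 := by
    have h2 : σ ^ 2 = 1 := by rw [hσ, ← map_pow, pow_two, ht2, map_one]
    have hcard : Fintype.card (Function.fixedPoints σ) = 2 := by
      rw [← Nat.card_eq_fintype_card, Nat.card_coe_set_eq, hfixset, Set.ncard_pair]
      exact fun h => (fun h' => hQ₀ (smul_left_cancel (r : G) (h'.trans (hP0 r r.2).symm))) h.symm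
    rw [Equiv.Perm.sign_of_pow_two_eq_one h2, hcard, ← Nat.card_eq_fintype_card, hn]
    decide
  let f : G →* ℤˣ := Equiv.Perm.sign.comp (MulAction.toPermHom G (Sylow 23 G))
  have hft : f t = -1 := by rw [← hsign, hσ]; rfl
  rcases IsSimpleGroup.eq_bot_or_eq_top_of_normal f.ker inferInstance with h | h
  · have := Subgroup.card_dvd_of_injective f ((MonoidHom.ker_eq_bot_iff f).1 h)
    rw [hG] at this
    norm_num at this
  · have : f t = 1 := (h ▸ mem_top t : t ∈ f.ker)
    rw [hft] at this
    exact absurd this (by decide)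

theorem card_ne_1200 [IsSimpleGroup G] : Nat.card G ≠ 1200 := by
  classical
  intro hG
  haveI : Fact (Nat.Prime 5) := ⟨by norm_num⟩
  obtain ⟨P⟩ : Nonempty (Sylow 5 G) := inferInstance
  have hcard : ∀ R : Sylow 5 G, Nat.card (R : Subgroup G) = 5 ^ 2 := fun R =>
    sylow_card_eq (m := 48) (by rw [hG]; norm_num) (by norm_num) R
  obtain ⟨hd, hm, h1⟩ := sylow_number P (hcard P) two_pos (m := 48) (by rw [hG]; norm_num) (by norm_num)
  have hcases : Nat.card (Sylow 5 G) = 6 ∨ Nat.card (Sylow 5 G) = 16 := by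
    have hle := Nat.le_of_dvd (by norm_num) hd
    obtain ⟨n, hn⟩ : ∃ n, Nat.card (Sylow 5 G) = n := ⟨_, rfl⟩
    rw [hn] at hd hm h1 hle ⊢
    revert hd hm h1
    interval_cases n <;> norm_num
  have hnorm : normalizer ((P : Subgroup G) : Set G) ≠ ⊤ := fun h => by
    have h' := card_normalizer P
    rw [h, card_top] at h'
    exact h1 (Nat.eq_of_mul_eq_mul_right Nat.card_pos (h'.trans (one_mul _).symm))
  rcases hcases with h6 | h16
  · have := card_dvd_index_factorial _ hnorm
    have hi : (normalizer ((P : Subgroup G) : Set G)).index = 6 := by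
      rw [← h6, Sylow.card_eq_index_normalizer P]; rfl
    rw [hi, hG] at this
    norm_num [Nat.factorial] at this
  obtain ⟨Q, hQP, hD⟩ : ∃ Q : Sylow 5 G, Q ≠ P ∧ (P : Subgroup G) ⊓ (Q : Subgroup G) ≠ ⊥ := by
    by_contra! h
    obtain ⟨Q₀, hQ₀⟩ : ∃ Q : Sylow 5 G, Q ≠ P := by
      haveI : Nontrivial (Sylow 5 G) := Finite.one_lt_card_iff_nontrivial.1 (by omega)
      exact exists_ne P
    have hinj : Function.Injective fun u : (P : Subgroup G) => (u : G) • Q₀ := by
      intro u v huv
      have hmem : (v : G)⁻¹ * u ∈ (P : Subgroup G) ⊓ (Q₀ : Subgroup G) := by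
        rw [← IsPGroup.inf_normalizer_sylow P.2 Q₀]
        refine mem_inf.mpr ⟨mul_mem (inv_mem v.2) u.2, Sylow.smul_eq_iff_mem_normalizer.1 ?_⟩
        rw [mul_smul]
        exact inv_smul_eq_iff.2 huv
      rw [h Q₀ hQ₀, mem_bot] at hmem
      exact Subtype.ext (inv_mul_eq_one.1 hmem).symm
    have := Nat.card_le_card_of_injective _ hinj
    rw [hcard, h16] at this
    norm_num at this
  obtain ⟨d, hd, hd1⟩ := (bot_or_exists_ne_one _).resolve_left hD
  have hab : ∀ R : Sylow 5 G, d ∈ (R : Subgroup G) → (R : Subgroup G) ≤ centralizer {d} := by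
    intro R hR x hx
    haveI := IsPGroup.isMulCommutative_of_card_eq_prime_sq (hcard R)
    rw [mem_centralizer_singleton_iff]
    exact congrArg Subtype.val ((IsMulCommutative.is_comm (M := (R : Subgroup G))).comm ⟨x, hx⟩ ⟨d, hR⟩)
  obtain ⟨C, hC⟩ : ∃ C, C = centralizer ({d} : Set G) := ⟨_, rfl⟩
  have hPC : (P : Subgroup G) ≤ C := hC ▸ hab P hd.1
  have hQC : (Q : Subgroup G) ≤ C := hC ▸ hab Q hd.2
  have hCtop : C ≠ ⊤ := by
    intro h
    have hz : d ∈ center G := mem_center_iff.2 fun g => by
      have : g ∈ centralizer ({d} : Set G) := by rw [← hC, h]; trivial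
      exact mem_centralizer_singleton_iff.1 this
    rw [center_eq_bot (not_comm_of_card (by rw [hG]; norm_num)), mem_bot] at hz
    exact hd1 hz
  have hn5 : 6 ≤ Nat.card (Sylow 5 C) := by
    have hmod : Nat.card (Sylow 5 C) % 5 = 1 := by
      rw [card_sylow_modEq_one 5 C]
    have hne : Nat.card (Sylow 5 C) ≠ 1 := fun h => by
      haveI : Subsingleton (Sylow 5 C) := (Nat.card_eq_one_iff_unique.mp h).1
      have := congrArg Sylow.toSubgroup (Subsingleton.elim (P.subtype hPC) (Q.subtype hQC))
      rw [Sylow.coe_subtype, Sylow.coe_subtype, subgroupOf_inj, inf_eq_left.2 hPC, inf_eq_left.2 hQC] at this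
      exact hQP (Sylow.ext this.symm)
    have : Nat.card (Sylow 5 C) ≠ 0 := Nat.card_pos.ne'
    omega
  have hdvd := Sylow.card_dvd_index (P.subtype hPC)
  have hmul := (P.subtype hPC : Subgroup C).card_mul_index
  rw [show Nat.card (P.subtype hPC : Subgroup C) = 5 ^ 2 from
    (Nat.card_congr (subgroupOfEquivOfLe hPC).toEquiv).trans (hcard P)] at hmul
  have hCi := C.card_mul_index
  rw [hG, ← hmul] at hCi
  have hidx : 0 < (P.subtype hPC : Subgroup C).index := Nat.pos_of_ne_zero index_ne_zero_of_finite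
  have hk := Nat.le_of_dvd hidx hdvd
  have hle : C.index ≤ 8 := by nlinarith
  have := (card_dvd_index_factorial C hCtop).trans (Nat.factorial_dvd_factorial hle)
  rw [hG] at this
  norm_num [Nat.factorial] at this

/-- A group of order 24 without elements of order 6. -/
theorem nonempty_mulEquiv_perm_four (h : Nat.card G = 24) (h6 : ∀ g : G, orderOf g ≠ 6) :
    Nonempty (G ≃* Equiv.Perm (Fin 4)) := by
  classical
  haveI : Fact (Nat.Prime 3) := ⟨Nat.prime_three⟩
  haveI : Fact (Nat.Prime 2) := ⟨Nat.prime_two⟩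
  obtain ⟨P⟩ : Nonempty (Sylow 3 G) := inferInstance
  have hP : Nat.card (P : Subgroup G) = 3 :=
    (sylow_card_eq (m := 8) (k := 1) (by rw [h]; norm_num) (by norm_num) P).trans (by norm_num)
  haveI hPcyc : IsCyclic (P : Subgroup G) := isCyclic_of_prime_card hP
  have hcomm : ∀ s u : G, orderOf s = 2 → orderOf u = 3 → Commute s u → False := fun s u hs hu hc =>
    h6 (s * u) (by rw [hc.orderOf_mul_eq_mul_orderOf_of_coprime (by rw [hs, hu]; norm_num), hs, hu])
  have hgenP : ∀ u ∈ (P : Subgroup G), u ≠ 1 → orderOf u = 3 := fun u hu hne =>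
    orderOf_eq_prime (congrArg Subtype.val (hP ▸ pow_card_eq_one' (x := (⟨u, hu⟩ : (P : Subgroup G))))) hne
  obtain ⟨u, hu, hu1⟩ := (bot_or_exists_ne_one (P : Subgroup G)).resolve_left fun e => by
    rw [e, card_bot] at hP; omega
  -- the centraliser of P is P
  have hC : ∀ H : Subgroup G, H ≤ centralizer ((P : Subgroup G) : Set G) → ¬ 2 ∣ Nat.card H := by
    intro H hH h2
    obtain ⟨s, hs⟩ := exists_prime_orderOf_dvd_card' 2 h2
    refine hcomm s u (by rwa [orderOf_coe]) (hgenP u hu hu1) ?_
    exact (mem_centralizer_iff.1 (hH s.2) u hu).symm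
  have hn : Nat.card (Sylow 3 G) = 4 := by
    have hi : (P : Subgroup G).index = 8 := by
      have := (P : Subgroup G).card_mul_index
      rw [hP, h] at this
      omega
    have hd : Nat.card (Sylow 3 G) ∣ 8 := hi ▸ Sylow.card_dvd_index P
    have hm : Nat.card (Sylow 3 G) % 3 = 1 := by
      rw [card_sylow_modEq_one 3 G]
    have hle := Nat.le_of_dvd (by norm_num) hd
    have hne : Nat.card (Sylow 3 G) ≠ 1 := fun h1 => by
      have hN := card_normalizer P
      rw [h1, one_mul, h] at hN
      refine hC ((centralizer ((P : Subgroup G) : Set G))) le_rfl ?_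
      have hker := normalizerMonoidHom_ker (H := (P : Subgroup G))
      have hmul := ((P : Subgroup G).normalizerMonoidHom.ker).card_mul_index
      rw [hN, index_ker, hker] at hmul
      have hr : Nat.card (P : Subgroup G).normalizerMonoidHom.range ∣ 2 := by
        refine (card_subgroup_dvd_card _).trans ?_
        rw [IsCyclic.card_mulAut, hP, Nat.totient_prime Nat.prime_three]
      have hle' : centralizer ((P : Subgroup G) : Set G) ≤ normalizer ((P : Subgroup G) : Set G) :=
        centralizer_le_normalizer _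
      rw [Nat.card_congr (subgroupOfEquivOfLe hle').toEquiv] at hmul
      rcases (Nat.dvd_prime Nat.prime_two).1 hr with e | e <;> rw [e] at hmul <;> omega
    obtain ⟨n, hn⟩ : ∃ n, Nat.card (Sylow 3 G) = n := ⟨_, rfl⟩
    rw [hn] at hd hm hne hle ⊢
    revert hd hm hne
    interval_cases n <;> norm_num
  have hN : Nat.card (normalizer ((P : Subgroup G) : Set G)) = 6 := by
    have := card_normalizer P
    rw [hn, h] at this
    omega
  obtain ⟨f, hf⟩ : ∃ f, f = MulAction.toPermHom G (Sylow 3 G) := ⟨_, rfl⟩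
  have hker : f.ker = ⊥ := by
    have hle : f.ker ≤ normalizer ((P : Subgroup G) : Set G) := by
      intro x hx
      refine Sylow.smul_eq_iff_mem_normalizer.1 ?_
      exact congrArg (fun σ : Equiv.Perm (Sylow 3 G) => σ P) (hf ▸ hx : MulAction.toPermHom G _ x = 1)
    have h3 : ¬ 3 ∣ Nat.card f.ker := fun h3 => by
      obtain ⟨x, hx⟩ := exists_prime_orderOf_dvd_card' 3 h3
      rw [← orderOf_coe] at hx
      -- a kernel element of order three lies in every Sylow subgroup
      have hall : ∀ Q : Sylow 3 G, (Q : Subgroup G) = zpowers (x : G) := by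
        intro Q
        have hQ : Nat.card (Q : Subgroup G) = 3 :=
          (sylow_card_eq (m := 8) (k := 1) (by rw [h]; norm_num) (by norm_num) Q).trans (by norm_num)
        have hp : IsPGroup 3 (zpowers (x : G)) := IsPGroup.of_card (n := 1) (by
          rw [Nat.card_zpowers, hx]; norm_num)
        have hxN : zpowers (x : G) ≤ normalizer ((Q : Subgroup G) : Set G) := by
          rw [zpowers_le]
          refine Sylow.smul_eq_iff_mem_normalizer.1 ?_
          exact congrArg (fun σ : Equiv.Perm (Sylow 3 G) => σ Q) (hf ▸ x.2 : MulAction.toPermHom G _ (x : G) = 1)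
        have : zpowers (x : G) ≤ (Q : Subgroup G) :=
          inf_eq_left.1 ((IsPGroup.inf_normalizer_sylow hp Q).symm.trans (inf_eq_left.2 hxN))
        exact (eq_of_le_of_card_ge this (by rw [hQ, Nat.card_zpowers, hx])).symm
      haveI : Subsingleton (Sylow 3 G) := ⟨fun a b => Sylow.ext ((hall a).trans (hall b).symm)⟩
      rw [Nat.card_of_subsingleton P] at hn
      omega
    have hd : Nat.card f.ker ∣ 6 := hN ▸ card_dvd_of_le hle
    have hk : Nat.card f.ker = 1 ∨ Nat.card f.ker = 2 := by
      have := Nat.le_of_dvd (by norm_num) hd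
      obtain ⟨k, hk⟩ : ∃ k, Nat.card f.ker = k := ⟨_, rfl⟩
      rw [hk] at hd h3 this ⊢
      revert hd h3
      interval_cases k <;> norm_num
    rcases hk with hk | hk
    · exact eq_bot_of_card_eq _ hk
    obtain ⟨s, hs⟩ := exists_prime_orderOf_dvd_card' 2 (dvd_of_eq hk.symm)
    refine (hcomm s u (by rwa [orderOf_coe]) (hgenP u hu hu1) ?_).elim
    have hconj : u * s * u⁻¹ ∈ f.ker := f.normal_ker.conj_mem _ s.2 u
    have hs1 : (s : G) ≠ 1 := fun e => by
      rw [← orderOf_coe, e, orderOf_one] at hs; omega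
    obtain ⟨a, b, hab, huniv⟩ := Nat.card_eq_two_iff.1 hk
    have key : (⟨u * s * u⁻¹, hconj⟩ : f.ker) = s := by
      have hne : (⟨u * s * u⁻¹, hconj⟩ : f.ker) ≠ 1 := fun e => hs1 (by
        have := congrArg Subtype.val e
        simpa [mul_inv_eq_iff_eq_mul] using this)
      have hne' : s ≠ 1 := fun e => hs1 (congrArg Subtype.val e)
      have hmem : ∀ z : f.ker, z = a ∨ z = b := fun z => by
        have : z ∈ ({a, b} : Set f.ker) := huniv ▸ Set.mem_univ z
        simpa using this
      rcases hmem 1 with h1 | h1 <;> rcases hmem s with h2 | h2 <;>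
        rcases hmem ⟨u * s * u⁻¹, hconj⟩ with h3 | h3 <;> simp_all
    exact (mul_inv_eq_iff_eq_mul.1 (congrArg Subtype.val key : u * s * u⁻¹ = s)).symm
  have hinj : Function.Injective f := (MonoidHom.ker_eq_bot_iff f).1 hker
  have hbij : Function.Bijective f := by
    refine hinj.bijective_of_nat_card_le ?_
    rw [Nat.card_perm, hn, h]
    rfl
  exact ⟨(MulEquiv.ofBijective f hbij).trans (Equiv.permCongrHom ((Finite.equivFin _).trans (finCongr hn)))⟩

end Cfsg.Agent.Small.SmallOrders
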