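import Mathlib

/-!
`PSL₂` over a finite field: root elements, Sylow subgroups in the defining characteristic,
conjugation and field automorphisms, and the theorem that these give all automorphisms.
-/

set_option autoImplicit false

namespace Cfsg.Agent.Small.PSL2

open Matrix

variable {F : Type*} [Field F]

local notation "SL2" => Matrix.SpecialLinearGroup (Fin 2) F
local notation "P2" => Matrix.ProjectiveSpecialLinearGroup (Fin 2) F

/-! ### Elements -/

def uS (x : F) : SL2 := ⟨!![1, x; 0, 1], by simp [Matrix.det_fin_two]⟩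
def vS (x : F) : SL2 := ⟨!![1, 0; x, 1], by simp [Matrix.det_fin_two]⟩
def wS : SL2 := ⟨!![0, 1; -1, 0], by simp [Matrix.det_fin_two]⟩
def hS (a : Fˣ) : SL2 := ⟨!![(a : F), 0; 0, (a : F)⁻¹], by simp [Matrix.det_fin_two]⟩

@[simp] theorem uS_val (x : F) : (uS x).1 = !![1, x; 0, 1] := rfl
@[simp] theorem vS_val (x : F) : (vS x).1 = !![1, 0; x, 1] := rfl
@[simp] theorem wS_val : (wS : SL2).1 = !![0, 1; -1, 0] := rfl
@[simp] theorem hS_val (a : Fˣ) : (hS a).1 = !![(a : F), 0; 0, (a : F)⁻¹] := rfl

theorem val_mul (A B : SL2) : (A * B).1 = A.1 * B.1 := rfl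

theorem uS_add (x y : F) : uS (x + y) = uS x * uS y := by
  apply Subtype.ext
  rw [val_mul, uS_val, uS_val, uS_val]
  simp [Matrix.mul_fin_two, add_comm]

theorem wS_uS (x : F) : wS * uS x = vS (-x) * wS := by
  apply Subtype.ext
  rw [val_mul, val_mul, uS_val, vS_val, wS_val]
  simp [Matrix.mul_fin_two]

theorem uS_vS_uS : uS (1 : F) * vS (-1) * uS 1 = wS := by
  apply Subtype.ext
  simp [Matrix.mul_fin_two]

theorem hS_uS (a : Fˣ) (x : F) : hS a * uS x = uS ((a : F) ^ 2 * x) * hS a := by
  apply Subtype.ext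
  simp [Matrix.mul_fin_two]
  field_simp

/-- The projection. -/
noncomputable def pr : SL2 →* P2 := QuotientGroup.mk' (Subgroup.center SL2)

theorem pr_surjective : Function.Surjective (pr : SL2 → P2) := QuotientGroup.mk'_surjective _

theorem pr_eq_iff (A B : SL2) : pr A = pr B ↔ ∃ ε : F, ε * ε = 1 ∧ A.1 = ε • B.1 := by
  rw [pr, QuotientGroup.mk'_eq_mk']
  constructor
  · rintro ⟨z, hz, rfl⟩
    obtain ⟨r, hr, hzr⟩ := Matrix.SpecialLinearGroup.mem_center_iff.mp hz
    refine ⟨r, by simpa [pow_two] using hr, ?_⟩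
    rw [val_mul, ← hzr, Matrix.scalar_apply]
    rw [show (Matrix.diagonal fun _ => r : Matrix (Fin 2) (Fin 2) F) = r • (1 : Matrix _ _ F) from
      (Matrix.smul_one_eq_diagonal r).symm]
    rw [Matrix.mul_smul, Matrix.mul_one, smul_smul]
    have : r * r = 1 := by simpa [pow_two] using hr
    rw [this, one_smul]
  · rintro ⟨ε, hε, h⟩
    have hdet : (ε • (1 : Matrix (Fin 2) (Fin 2) F)).det = 1 := by
      simp [Matrix.det_smul, pow_two, hε]
    refine ⟨⟨ε • 1, hdet⟩, ?_, ?_⟩
    · refine Matrix.SpecialLinearGroup.mem_center_iff.mpr ⟨ε, by simp [pow_two, hε], ?_⟩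
      rw [Matrix.scalar_apply]
      exact (Matrix.smul_one_eq_diagonal ε).symm
    · apply Subtype.ext
      change A.1 * (ε • 1) = B.1
      rw [h, Matrix.mul_smul, Matrix.mul_one, smul_smul, hε, one_smul]

/-- The image of the upper unitriangular group, as a homomorphism. -/
noncomputable def uP : Multiplicative F →* P2 where
  toFun x := pr (uS x.toAdd)
  map_one' := by
    have : uS (0 : F) = 1 := by apply Subtype.ext; simp [Matrix.one_fin_two]
    simp [this]
  map_mul' x y := by simp [uS_add]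

/-- The upper root group in `PSL₂`. -/
noncomputable def U : Subgroup P2 := (uP (F := F)).range

theorem mem_U (g : P2) : g ∈ U ↔ ∃ x : F, pr (uS x) = g := by
  constructor
  · rintro ⟨x, rfl⟩; exact ⟨x.toAdd, rfl⟩
  · rintro ⟨x, rfl⟩; exact ⟨Multiplicative.ofAdd x, rfl⟩

theorem uS_mem (x : F) : pr (uS x) ∈ (U : Subgroup P2) := (mem_U _).mpr ⟨x, rfl⟩

theorem pr_uS_inj {x y : F} (h : pr (uS x) = pr (uS y)) : x = y := by
  obtain ⟨ε, hε, h⟩ := (pr_eq_iff _ _).mp h
  have h0 := congrFun (congrFun h 0) 0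
  have h1 := congrFun (congrFun h 0) 1
  simp at h0 h1
  rw [h1, ← h0, one_mul]

theorem pr_vS_ne_uS {y : F} (hy : y ≠ 0) (x : F) : pr (vS y) ≠ pr (uS x) := by
  intro h
  obtain ⟨ε, hε, h⟩ := (pr_eq_iff _ _).mp h
  have h0 := congrFun (congrFun h 1) 0
  simp at h0
  exact hy h0

theorem det_two (A : SL2) : A.1 0 0 * A.1 1 1 - A.1 0 1 * A.1 1 0 = 1 := by
  rw [← Matrix.det_fin_two]; exact A.2

/-- An element commuting with a nontrivial element of `U` lies in `U`. -/
theorem mem_U_of_commute {g : P2} {x : F} (hx : x ≠ 0) (h : Commute g (pr (uS x))) :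
    g ∈ U := by
  obtain ⟨A, rfl⟩ := pr_surjective g
  have h' : pr (A * uS x) = pr (uS x * A) := by rw [map_mul, map_mul]; exact h
  obtain ⟨ε, hε, hm⟩ := (pr_eq_iff _ _).mp h'
  have h00 := congrFun (congrFun hm 0) 0
  have h10 := congrFun (congrFun hm 1) 0
  have h01 := congrFun (congrFun hm 0) 1
  simp only [val_mul, Matrix.smul_apply, Matrix.mul_apply, Fin.sum_univ_two, smul_eq_mul] at h00 h10 h01
  simp at h00 h10 h01
  have hd := det_two A
  have hc : A.1 1 0 = 0 := by
    by_contra hc
    have e1 : ε = 1 := mul_right_cancel₀ hc (by rw [← h10, one_mul])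
    subst e1
    rcases mul_eq_zero.mp (show x * A.1 1 0 = 0 by linear_combination -h00) with h1 | h1
    · exact hx h1
    · exact hc h1
  rw [hc, mul_zero, add_zero] at h00
  rw [hc, mul_zero, sub_zero] at hd
  have ha : A.1 0 0 ≠ 0 := fun h0 => by simp [h0] at hd
  have e1 : ε = 1 := mul_right_cancel₀ ha (by rw [← h00, one_mul])
  subst e1
  have had : A.1 0 0 = A.1 1 1 := by
    have : x * (A.1 0 0 - A.1 1 1) = 0 := by linear_combination h01
    rcases mul_eq_zero.mp this with h1 | h1
    · exact absurd h1 hx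
    · exact sub_eq_zero.mp h1
  refine (mem_U _).mpr ⟨A.1 0 0 * A.1 0 1, ?_⟩
  refine ((pr_eq_iff _ _).mpr ⟨A.1 0 0, by rw [← had] at hd; exact hd, ?_⟩).symm
  rw [← had] at hd
  ext i j
  fin_cases i <;> fin_cases j <;> simp [hc, ← had]
  rw [← mul_assoc, hd, one_mul]

/-- Conjugation by an upper triangular element preserves `U`. -/
theorem triangular_mul_uS (A : SL2) (h : A.1 1 0 = 0) (x : F) :
    A * uS x = uS (A.1 0 0 ^ 2 * x) * A := by
  have hd := det_two A
  rw [h, mul_zero, sub_zero] at hd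
  apply Subtype.ext
  ext i j
  fin_cases i <;> fin_cases j <;> simp only [val_mul, Matrix.mul_apply, Fin.sum_univ_two] <;> simp [h]
  linear_combination (-(A.1 0 0 * x)) * hd

/-- An element conjugating some nontrivial element of `U` into `U` is upper triangular. -/
theorem triangular_of_conj {A : SL2} {x y : F} (hx : x ≠ 0)
    (h : pr A * pr (uS x) = pr (uS y) * pr A) : A.1 1 0 = 0 := by
  rw [← map_mul, ← map_mul] at h
  obtain ⟨ε, hε, hm⟩ := (pr_eq_iff _ _).mp h
  have h10 := congrFun (congrFun hm 1) 0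
  have h11 := congrFun (congrFun hm 1) 1
  simp only [val_mul, Matrix.smul_apply, Matrix.mul_apply, Fin.sum_univ_two, smul_eq_mul] at h10 h11
  simp at h10 h11
  by_contra hc
  have e1 : ε = 1 := mul_right_cancel₀ hc (by rw [← h10, one_mul])
  subst e1
  rcases mul_eq_zero.mp (show x * A.1 1 0 = 0 by linear_combination h11) with h1 | h1
  · exact hx h1
  · exact hc h1

/-- The root groups generate `PSL₂`. -/
theorem aut_ext {α β : MulAut P2} (hu : ∀ x : F, α (pr (uS x)) = β (pr (uS x)))
    (hv : ∀ x : F, α (pr (vS x)) = β (pr (vS x))) : α = β := by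
  ext g
  obtain ⟨A, rfl⟩ := pr_surjective g
  refine Matrix.SL2.transvection_induction (fun A => α (pr A) = β (pr A)) ?_ ?_ A
  · intro i j hij c
    fin_cases i <;> fin_cases j
    · exact absurd rfl hij
    · convert hu c using 3 <;>
        (apply Subtype.ext; rw [SpecialLinearGroup.transvection_coe, uS_val]
         ext a b; fin_cases a <;> fin_cases b <;> simp)
    · convert hv c using 3 <;>
        (apply Subtype.ext; rw [SpecialLinearGroup.transvection_coe, vS_val]
         ext a b; fin_cases a <;> fin_cases b <;> simp)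
    · exact absurd rfl hij
  · intro A B hA hB
    simp [map_mul, hA, hB]

/-! ### Conjugation and field automorphisms -/

/-- Conjugation by an element of `GL₂`, on `SL₂`. -/
def conjSL : GL (Fin 2) F →* MulAut SL2 where
  toFun g :=
    { toFun := fun A => ⟨g.val * A.1 * g⁻¹.val, by rw [Matrix.det_units_conj]; exact A.2⟩
      invFun := fun A => ⟨g⁻¹.val * A.1 * g.val, by rw [Matrix.det_units_conj']; exact A.2⟩
      left_inv := fun A => by
        apply Subtype.ext
        simp [mul_assoc]
      right_inv := fun A => by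
        apply Subtype.ext
        simp [mul_assoc]
      map_mul' := fun A B => by
        apply Subtype.ext
        change g.val * (A.1 * B.1) * g⁻¹.val = (g.val * A.1 * g⁻¹.val) * (g.val * B.1 * g⁻¹.val)
        simp [mul_assoc] }
  map_one' := by
    ext A : 1
    apply Subtype.ext
    change (1 : GL (Fin 2) F).val * A.1 * (1 : GL (Fin 2) F)⁻¹.val = A.1
    simp
  map_mul' g g' := by
    ext A : 1
    apply Subtype.ext
    change (g * g').val * A.1 * (g * g')⁻¹.val = g.val * (g'.val * A.1 * g'⁻¹.val) * g⁻¹.val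
    simp [mul_assoc]

theorem conjSL_val (g : GL (Fin 2) F) (A : SL2) :
    (conjSL g A).1 = g.val * A.1 * g⁻¹.val := rfl

/-- A field automorphism acting on entries. -/
noncomputable def fieldSL : (F ≃+* F) →* MulAut SL2 where
  toFun σ :=
    { toFun := Matrix.SpecialLinearGroup.map (σ : F →+* F)
      invFun := Matrix.SpecialLinearGroup.map (σ.symm : F →+* F)
      left_inv := fun A => by ext i j; simp
      right_inv := fun A => by ext i j; simp
      map_mul' := map_mul _ }
  map_one' := by ext A i j; rfl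
  map_mul' σ τ := by ext A i j; rfl

theorem fieldSL_apply (σ : F ≃+* F) (A : SL2) (i j : Fin 2) :
    (fieldSL σ A).1 i j = σ (A.1 i j) := rfl

/-- Automorphisms of `SL₂` descend to `PSL₂`. -/
noncomputable def descend : MulAut SL2 →* MulAut P2 where
  toFun e := QuotientGroup.congr _ _ e
    (Subgroup.characteristic_iff_map_eq.mp inferInstance e)
  map_one' := by
    ext g
    obtain ⟨A, rfl⟩ := pr_surjective g
    rfl
  map_mul' e e' := by
    ext g
    obtain ⟨A, rfl⟩ := pr_surjective g
    rfl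

theorem descend_apply (e : MulAut SL2) (A : SL2) : descend e (pr A) = pr (e A) := rfl

/-- Conjugation by `GL₂` on `PSL₂`. -/
noncomputable def conjP : GL (Fin 2) F →* MulAut P2 := descend.comp conjSL

/-- Field automorphisms on `PSL₂`. -/
noncomputable def fieldP : (F ≃+* F) →* MulAut P2 := descend.comp fieldSL

theorem conjP_apply (g : GL (Fin 2) F) (A : SL2) : conjP g (pr A) = pr (conjSL g A) := rfl
theorem fieldP_apply (σ : F ≃+* F) (A : SL2) : fieldP σ (pr A) = pr (fieldSL σ A) := rfl

theorem conjP_toGL (A : SL2) :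
    conjP (Matrix.SpecialLinearGroup.toGL A) = MulAut.conj (pr A) := by
  ext g
  obtain ⟨B, rfl⟩ := pr_surjective g
  rw [conjP_apply, MulAut.conj_apply, ← map_inv, ← map_mul, ← map_mul]
  congr 1

/-- Field automorphism applied to `GL₂`. -/
noncomputable def glField (σ : F ≃+* F) : GL (Fin 2) F →* GL (Fin 2) F :=
  Units.map (RingHom.mapMatrix (σ : F →+* F)).toMonoidHom

theorem fieldP_conjP (σ : F ≃+* F) (g : GL (Fin 2) F) :
    fieldP σ * conjP g = conjP (glField σ g) * fieldP σ := by
  ext x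
  obtain ⟨A, rfl⟩ := pr_surjective x
  rw [MulAut.mul_apply, MulAut.mul_apply, conjP_apply, fieldP_apply, fieldP_apply, conjP_apply]
  congr 1
  apply Subtype.ext
  change (σ : F →+* F).mapMatrix (g.val * A.1 * g⁻¹.val) = _
  rw [map_mul, map_mul]
  rfl

/-- `diag(t, 1)`. -/
def dGL : Fˣ →* GL (Fin 2) F where
  toFun t := ⟨!![(t : F), 0; 0, 1], !![((t⁻¹ : Fˣ) : F), 0; 0, 1],
    by simp [Matrix.mul_fin_two, Matrix.one_fin_two],
    by simp [Matrix.mul_fin_two, Matrix.one_fin_two]⟩
  map_one' := by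
    apply Units.ext
    simp [Matrix.one_fin_two]
  map_mul' s t := by
    apply Units.ext
    simp [Matrix.mul_fin_two]

theorem det_dGL (t : Fˣ) : (dGL t).val.det = t := by
  simp [dGL, Matrix.det_fin_two]

theorem conjP_dGL_uS (t : Fˣ) (x : F) : conjP (dGL t) (pr (uS x)) = pr (uS ((t : F) * x)) := by
  rw [conjP_apply]
  congr 1
  apply Subtype.ext
  rw [conjSL_val, ← map_inv]
  simp [dGL, Matrix.mul_fin_two]

theorem fieldP_uS (σ : F ≃+* F) (x : F) : fieldP σ (pr (uS x)) = pr (uS (σ x)) := by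
  rw [fieldP_apply]
  congr 1
  ext i j
  rw [fieldSL_apply]
  fin_cases i <;> fin_cases j <;> simp

/-- A conjugation equal to a field automorphism forces that automorphism to be trivial. -/
theorem field_eq_one {h : GL (Fin 2) F} {τ : F ≃+* F} (e : conjP h = fieldP τ) :
    τ = 1 ∧ h.val 1 0 = 0 ∧ h.val 0 0 = h.val 1 1 := by
  have key : ∀ x : F, ∃ ε : F, ε * ε = 1 ∧
      h.val * !![1, x; 0, 1] = ε • (!![1, τ x; 0, 1] * h.val) := by
    intro x
    have e1 := DFunLike.congr_fun e (pr (uS x))
    rw [fieldP_uS, conjP_apply] at e1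
    obtain ⟨ε, hε, hm⟩ := (pr_eq_iff _ _).mp e1
    refine ⟨ε, hε, ?_⟩
    rw [conjSL_val, uS_val, uS_val] at hm
    rw [← Matrix.smul_mul, ← hm, mul_assoc _ h⁻¹.val, ← Units.val_mul, inv_mul_cancel,
      Units.val_one, mul_one]
  have hdet : h.val 0 0 * h.val 1 1 - h.val 0 1 * h.val 1 0 ≠ 0 := by
    rw [← Matrix.det_fin_two]
    exact Matrix.GeneralLinearGroup.det_ne_zero h
  have hc : h.val 1 0 = 0 := by
    obtain ⟨ε, hε, hm⟩ := key 1
    have h10 := congrFun (congrFun hm 1) 0
    have h11 := congrFun (congrFun hm 1) 1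
    simp only [val_mul, Matrix.smul_apply, Matrix.mul_apply, Fin.sum_univ_two, smul_eq_mul] at h10 h11
    simp at h10 h11
    by_contra hc
    have e1 : ε = 1 := mul_right_cancel₀ hc (by rw [← h10, one_mul])
    subst e1
    exact hc (by linear_combination h11)
  rw [hc, mul_zero, sub_zero] at hdet
  have ha := left_ne_zero_of_mul hdet
  have hd := right_ne_zero_of_mul hdet
  have hτ : ∀ x, h.val 0 0 * x = τ x * h.val 1 1 := by
    intro x
    obtain ⟨ε, hε, hm⟩ := key x
    have h00 := congrFun (congrFun hm 0) 0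
    have h01 := congrFun (congrFun hm 0) 1
    simp only [val_mul, Matrix.smul_apply, Matrix.mul_apply, Fin.sum_univ_two, smul_eq_mul] at h00 h01
    simp [hc] at h00 h01
    have e1 : ε = 1 := mul_right_cancel₀ ha (by rw [← h00, one_mul])
    subst e1
    linear_combination h01
  have had : h.val 0 0 = h.val 1 1 := by simpa using hτ 1
  refine ⟨?_, hc, had⟩
  ext x
  have := hτ x
  rw [← had, mul_comm] at this
  exact (mul_right_cancel₀ ha this).symm

/-- The kernel of `conjP` consists of scalars. -/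
theorem scalar_of_conjP_eq_one {h : GL (Fin 2) F} (e : conjP h = 1) :
    h.val = h.val 0 0 • (1 : Matrix (Fin 2) (Fin 2) F) := by
  obtain ⟨-, hc, had⟩ := field_eq_one (τ := 1) (by rw [e, map_one])
  have ha : h.val 0 0 ≠ 0 := by
    intro h0
    apply Matrix.GeneralLinearGroup.det_ne_zero h
    simp [Matrix.det_fin_two, h0, hc]
  have hb : h.val 0 1 = 0 := by
    have e1 := DFunLike.congr_fun e (pr (vS 1))
    rw [MulAut.one_apply, conjP_apply] at e1
    obtain ⟨ε, hε, hm⟩ := (pr_eq_iff _ _).mp e1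
    rw [conjSL_val, vS_val] at hm
    have hm' : h.val * !![1, 0; (1 : F), 1] = ε • (!![1, 0; (1 : F), 1] * h.val) := by
      rw [← Matrix.smul_mul, ← hm, mul_assoc _ h⁻¹.val, ← Units.val_mul, inv_mul_cancel,
        Units.val_one, mul_one]
    have h01 := congrFun (congrFun hm' 0) 1
    have h00 := congrFun (congrFun hm' 0) 0
    simp only [val_mul, Matrix.smul_apply, Matrix.mul_apply, Fin.sum_univ_two, smul_eq_mul] at h01 h00
    simp at h01 h00
    by_contra hb
    have e1 : ε = 1 := mul_right_cancel₀ hb (by rw [← h01, one_mul])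
    subst e1
    exact hb (by linear_combination h00)
  ext i j
  fin_cases i <;> fin_cases j <;> simp [hb, hc, had]

/-! ### Sylow subgroup and the automorphism theorem -/

variable [Fintype F]

theorem isPGroup_U {p f : ℕ} (hF : Fintype.card F = p ^ f) : IsPGroup p (U : Subgroup P2) := by
  apply IsPGroup.of_card (n := f)
  rw [U, ← Nat.card_congr (MonoidHom.ofInjective (f := uP (F := F)) ?_).toEquiv]
  · rw [Nat.card_congr Multiplicative.toAdd, Nat.card_eq_fintype_card, hF]
  · intro x y h
    exact Multiplicative.toAdd.injective (pr_uS_inj h)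

/-- `U` is a maximal `p`-subgroup. -/
theorem U_maximal {p : ℕ} [Fact p.Prime] {Q : Subgroup P2} (hQ : IsPGroup p Q)
    (hle : U ≤ Q) : Q = U := by
  classical
  have : Finite P2 := Finite.of_surjective _ pr_surjective
  refine le_antisymm ?_ hle
  have : Nontrivial Q := by
    refine ⟨⟨pr (uS 1), hle (uS_mem 1)⟩, ⟨pr (uS 0), hle (uS_mem 0)⟩, ?_⟩
    intro h
    exact one_ne_zero (pr_uS_inj (Subtype.ext_iff.mp h))
  have := IsPGroup.center_nontrivial hQ
  obtain ⟨⟨⟨z, hzQ⟩, hz⟩, hz1⟩ := exists_ne (1 : Subgroup.center Q)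
  have hzc : ∀ g ∈ Q, Commute g z := fun g hg =>
    congrArg Subtype.val (Subgroup.mem_center_iff.mp hz ⟨g, hg⟩)
  have hzU : z ∈ U := mem_U_of_commute one_ne_zero ((hzc _ (hle (uS_mem 1))).symm)
  obtain ⟨x, rfl⟩ := (mem_U _).mp hzU
  have hx : x ≠ 0 := by
    intro h
    apply hz1
    ext
    change pr (uS x) = 1
    rw [h]
    exact map_one uP
  intro g hg
  exact mem_U_of_commute hx (hzc g hg)

/-- The subgroup of `y` over which a normalised additive map is multiplicative is everything,
as soon as it contains all squares. -/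
theorem mem_of_squares (K : AddSubgroup F) (hK : ∀ a : F, a ^ 2 ∈ K) (y : F) : y ∈ K := by
  by_cases h2 : (2 : F) = 0
  · have : CharP F 2 := CharTwo.of_one_ne_zero_of_two_eq_zero one_ne_zero h2
    obtain ⟨a, ha⟩ := FiniteField.isSquare_of_char_two (ringChar.eq F 2) y
    rw [ha, ← pow_two]
    exact hK a
  · have : y = ((y + 1) / 2) ^ 2 - ((y - 1) / 2) ^ 2 := by
      field_simp
      ring
    rw [this]
    exact K.sub_mem (hK _) (hK _)

/-- An automorphism mapping `U` into itself acts on it as a scaled field automorphism. -/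
theorem exists_field_of_preserves {α : MulAut P2}
    (hα : ∀ x : F, α (pr (uS x)) ∈ U) :
    ∃ (c : Fˣ) (σ : F ≃+* F), ∀ x : F, α (pr (uS x)) = (conjP (dGL c) * fieldP σ) (pr (uS x)) := by
  choose s hs using fun x => (mem_U _).mp (hα x)
  have hadd : ∀ x y, s (x + y) = s x + s y := by
    intro x y
    apply pr_uS_inj
    rw [hs, uS_add, map_mul, map_mul, uS_add, map_mul, hs, hs]
  have hinj : Function.Injective s := by
    intro x y h
    apply pr_uS_inj
    apply α.injective
    rw [← hs, ← hs, h]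
  have hzero : s 0 = 0 := by simpa using hadd 0 0
  have hsq : ∀ a : F, ∃ b : F, ∀ x, s (a ^ 2 * x) = b * s x := by
    intro a
    by_cases ha : a = 0
    · exact ⟨0, fun x => by simp [ha, hzero]⟩
    · obtain ⟨D, hD⟩ := pr_surjective (α (pr (hS (Units.mk0 a ha))))
      have hrel : ∀ x, pr D * pr (uS (s x)) = pr (uS (s (a ^ 2 * x))) * pr D := by
        intro x
        rw [hD, hs, hs, ← map_mul, ← map_mul, ← map_mul, ← map_mul, hS_uS, Units.val_mk0]
      have hs1 : s 1 ≠ 0 := fun h => one_ne_zero (hinj (h.trans hzero.symm))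
      have hD10 := triangular_of_conj hs1 (hrel 1)
      refine ⟨D.1 0 0 ^ 2, fun x => pr_uS_inj ?_⟩
      have h1 := hrel x
      rw [← map_mul, triangular_mul_uS D hD10, map_mul] at h1
      exact (mul_right_cancel h1).symm
  have hc : s 1 ≠ 0 := fun h => one_ne_zero (hinj (h.trans hzero.symm))
  have hmul2 : ∀ a x : F, s (a ^ 2 * x) / s 1 = s (a ^ 2) / s 1 * (s x / s 1) := by
    intro a x
    obtain ⟨b, hb⟩ := hsq a
    have h1 := hb 1
    rw [mul_one] at h1
    rw [hb, h1]
    field_simp
  let σ₀ : F → F := fun x => s x / s 1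
  let K : AddSubgroup F :=
    { carrier := {y | ∀ x, σ₀ (y * x) = σ₀ y * σ₀ x}
      add_mem' := fun {y z} hy hz x => by
        have e : ∀ u v, σ₀ (u + v) = σ₀ u + σ₀ v := fun u v => by
          simp only [σ₀, hadd, add_div]
        rw [add_mul, e, e, hy, hz, add_mul]
      zero_mem' := fun x => by simp [σ₀, hzero]
      neg_mem' := fun {y} hy x => by
        have e : ∀ u, σ₀ (-u) = -σ₀ u := fun u => by
          have h1 := hadd u (-u)
          rw [add_neg_cancel, hzero] at h1
          simp only [σ₀]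
          rw [show s (-u) = -s u from (neg_eq_of_add_eq_zero_right h1.symm).symm, neg_div]
        rw [neg_mul, e, e, hy, neg_mul] }
  have hK : ∀ a : F, a ^ 2 ∈ K := fun a x => hmul2 a x
  have hmul : ∀ x y, σ₀ (x * y) = σ₀ x * σ₀ y := fun x y => mem_of_squares K hK x y
  let hom : F →+* F :=
    { toFun := σ₀
      map_one' := div_self hc
      map_zero' := by simp [σ₀, hzero]
      map_add' := fun u v => by simp only [σ₀, hadd, add_div]
      map_mul' := hmul }
  have hbij : Function.Bijective hom := Finite.injective_iff_bijective.mp hom.injective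
  refine ⟨Units.mk0 (s 1) hc, RingEquiv.ofBijective hom hbij, fun x => ?_⟩
  rw [MulAut.mul_apply, fieldP_uS, conjP_dGL_uS, ← hs]
  congr 2
  change s x = s 1 * (s x / s 1)
  field_simp

/-- An automorphism fixing `U` pointwise is conjugation by an element. -/
theorem inner_of_fix_U {α : MulAut P2} (hα : ∀ x : F, α (pr (uS x)) = pr (uS x)) :
    ∃ g : P2, α = MulAut.conj g := by
  obtain ⟨A, hA⟩ := pr_surjective (α (pr wS))
  have hv : ∀ y, α (pr (vS y)) = pr A * pr (uS (-y)) * (pr A)⁻¹ := by
    intro y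
    rw [eq_mul_inv_iff_mul_eq, hA, ← hα (-y), ← map_mul, ← map_mul, ← map_mul, ← map_mul]
    congr 1
    rw [wS_uS, neg_neg]
  have hc : A.1 1 0 ≠ 0 := by
    intro hc
    have h1 := hv 1
    rw [← map_mul, triangular_mul_uS A hc, map_mul, mul_inv_cancel_right] at h1
    rw [← hα] at h1
    exact pr_vS_ne_uS one_ne_zero _ (α.injective h1)
  set t := -A.1 0 0 / A.1 1 0 with ht
  set k : P2 := pr (uS t) with hk
  let α' : MulAut P2 := MulAut.conj k * α
  have hα' : ∀ x, α' (pr (uS x)) = pr (uS x) := by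
    intro x
    simp only [α', MulAut.mul_apply, MulAut.conj_apply, hα, hk]
    rw [mul_inv_eq_iff_eq_mul, ← map_mul, ← map_mul, ← uS_add, ← uS_add, add_comm]
  let h : SL2 := uS t * A * (uS t)⁻¹
  let m : SL2 := uS t * A
  have hm00 : m.1 0 0 = 0 := by
    simp only [m, val_mul, Matrix.mul_apply, Fin.sum_univ_two]
    simp [ht]
    field_simp
    ring
  set c := m.1 1 0 with hcdef
  have hconj : ∀ x, m * uS x = vS (-(c ^ 2 * x)) * m := by
    intro x
    have hd := det_two m
    rw [hm00, zero_mul, zero_sub] at hd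
    apply Subtype.ext
    ext i j
    fin_cases i <;> fin_cases j <;> simp only [val_mul, Matrix.mul_apply, Fin.sum_univ_two] <;>
      simp [hm00, ← hcdef]
    rw [← hcdef] at hd
    linear_combination (-(c * x)) * hd
  have hv' : ∀ y, α' (pr (vS y)) = pr (vS (c ^ 2 * y)) := by
    intro y
    simp only [α', MulAut.mul_apply, MulAut.conj_apply, hv, hk]
    rw [show pr (uS t) * (pr A * pr (uS (-y)) * (pr A)⁻¹) * (pr (uS t))⁻¹
      = (pr (uS t) * pr A) * pr (uS (-y)) * (pr (uS t) * pr A)⁻¹ by group]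
    rw [mul_inv_eq_iff_eq_mul, ← map_mul, ← map_mul, ← map_mul]
    congr 1
    rw [hconj, mul_neg, neg_neg]
  have hw : α' (pr wS) = pr h := by
    simp only [α', h, MulAut.mul_apply, MulAut.conj_apply, hk, ← hA, map_mul, map_inv]
  have hh00 : h.1 0 0 = 0 := by
    have h1 : h * uS t = m := by simp [h, m]
    have h2 := congrFun (congrFun (congrArg Subtype.val h1) 0) 0
    rw [hm00] at h2
    simpa [Matrix.mul_apply, Fin.sum_univ_two] using h2
  have hc2 : c ^ 2 = 1 := by
    have h1 : α' (pr wS) = pr (uS 1 * vS (c ^ 2 * -1) * uS 1) := by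
      rw [← uS_vS_uS]
      simp only [map_mul, hα', hv']
    rw [hw] at h1
    obtain ⟨ε, hε, hm⟩ := (pr_eq_iff _ _).mp h1.symm
    have h00 := congrFun (congrFun hm 0) 0
    simp only [val_mul, Matrix.smul_apply, Matrix.mul_apply, Fin.sum_univ_two, smul_eq_mul] at h00
    simp [hh00] at h00
    linear_combination -h00
  have : α' = 1 := aut_ext (fun x => by simp [hα']) (fun x => by simp [hv', hc2])
  refine ⟨k⁻¹, ?_⟩
  rw [map_inv, eq_inv_iff_mul_eq_one]
  calc α * MulAut.conj k = (MulAut.conj k)⁻¹ * (MulAut.conj k * α) * MulAut.conj k := by group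
    _ = (MulAut.conj k)⁻¹ * 1 * MulAut.conj k := by rw [show MulAut.conj k * α = 1 from this]
    _ = 1 := by group

/-- Every automorphism of `PSL₂(q)` is a conjugation composed with a field automorphism. -/
theorem aut_eq {p f : ℕ} [Fact p.Prime] (hF : Fintype.card F = p ^ f) (α : MulAut P2) :
    ∃ (g : GL (Fin 2) F) (σ : F ≃+* F), α = conjP g * fieldP σ := by
  classical
  have : Finite P2 := Finite.of_surjective _ pr_surjective
  let S₀ : Sylow p P2 :=
    { toSubgroup := U
      isPGroup' := isPGroup_U hF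
      is_maximal' := fun hQ hle => U_maximal hQ hle }
  let S₁ : Sylow p P2 :=
    { toSubgroup := (U : Subgroup P2).map α.toMonoidHom
      isPGroup' := (isPGroup_U hF).map _
      is_maximal' := fun {Q} hQ hle => by
        have h1 := U_maximal (hQ.map α.symm.toMonoidHom) (fun x hx =>
          ⟨α x, hle ⟨x, hx, rfl⟩, α.symm_apply_apply x⟩)
        rw [← h1]
        ext y
        constructor
        · intro hy
          exact ⟨α.symm y, ⟨y, hy, rfl⟩, α.apply_symm_apply y⟩
        · rintro ⟨_, ⟨z, hz, rfl⟩, rfl⟩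
          simpa using hz }
  obtain ⟨g, hg⟩ := MulAction.exists_smul_eq P2 S₁ S₀
  let α₁ : MulAut P2 := MulAut.conj g * α
  have hpres : ∀ x : F, α₁ (pr (uS x)) ∈ U := by
    intro x
    have h1 : α (pr (uS x)) ∈ (S₁ : Subgroup P2) := ⟨_, uS_mem x, rfl⟩
    have h2 := Subgroup.smul_mem_pointwise_smul _ (MulAut.conj g) _ h1
    rw [← Sylow.coe_subgroup_smul, hg] at h2
    exact h2
  obtain ⟨c, σ, hσ⟩ := exists_field_of_preserves hpres
  let β : MulAut P2 := conjP (dGL c) * fieldP σ
  obtain ⟨k, hk⟩ := inner_of_fix_U (α := β⁻¹ * α₁) (fun x => by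
    rw [MulAut.mul_apply, hσ]
    exact β.symm_apply_apply _)
  obtain ⟨A, rfl⟩ := pr_surjective g
  obtain ⟨B, rfl⟩ := pr_surjective k
  refine ⟨(Matrix.SpecialLinearGroup.toGL A)⁻¹ * dGL c *
    glField σ (Matrix.SpecialLinearGroup.toGL B), σ, ?_⟩
  rw [map_mul, map_mul, map_inv, conjP_toGL, mul_assoc _ (conjP (glField σ _)), ← fieldP_conjP,
    conjP_toGL, ← hk]
  simp only [α₁, β]
  group

/-- The field component of an automorphism is unique. -/
theorem field_unique {g g' : GL (Fin 2) F} {σ σ' : F ≃+* F}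
    (h : conjP g * fieldP σ = conjP g' * fieldP σ') : σ = σ' := by
  have e : conjP (g'⁻¹ * g) = fieldP (σ' * σ⁻¹) := by
    rw [map_mul, map_inv, map_mul fieldP, map_inv, inv_mul_eq_iff_eq_mul, ← mul_assoc,
      eq_mul_inv_iff_mul_eq, h]
  have := (field_eq_one e).1
  rw [mul_inv_eq_one] at this
  exact this.symm

end Cfsg.Agent.Small.PSL2
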