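import Cfsg.Agent.Lib.Small.FieldMatrix

/-!
Hermitian forms over the field with `q²` elements: all are congruent to the standard one; hence
unitary tori of orders `q^d + 1` and `q^{2d} - 1` (and their parts of determinant one) and regular
unipotent unitary elements.
-/

set_option autoImplicit false
set_option linter.unusedSimpArgs false
set_option linter.style.haveILetI false
set_option linter.unusedSectionVars false

namespace Cfsg.Agent.Small.Hermitian

open Matrix

/-- The involution given by a ring endomorphism of square one, as a star operation. -/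
@[reducible] def starRingOfInvolution {F : Type*} [CommRing F] (σ : F →+* F)
    (h : ∀ x, σ (σ x) = x) : StarRing F where
  star := σ
  star_involutive := h
  star_mul a b := by rw [map_mul, mul_comm]
  star_add := map_add σ

variable {F : Type*} [Field F] [Fintype F] [StarRing F] {q : ℕ}

theorem q_two_le (hF : Fintype.card F = q ^ 2) : 2 ≤ q := by
  by_contra h
  have := Fintype.one_lt_card (α := F)
  rw [hF] at this
  interval_cases q <;> simp at this

theorem sq_sub_one (q : ℕ) : q ^ 2 - 1 = (q + 1) * (q - 1) := by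
  rcases Nat.eq_zero_or_pos q with rfl | hq
  · rfl
  obtain ⟨k, rfl⟩ : ∃ k, q = k + 1 := ⟨q - 1, by omega⟩
  rw [Nat.add_sub_cancel]
  have : (k + 1) ^ 2 = (k + 1 + 1) * k + 1 := by ring
  omega

/-- An element with `c ^ (q+1) = 1` is of norm one. -/
theorem star_mul_self_of_pow (hstar : ∀ x : F, star x = x ^ q) {c : F} (h : c ^ (q + 1) = 1) :
    star c * c = 1 := by rw [hstar, ← pow_succ, h]

/-- A nonzero fixed element is a norm. -/
theorem exists_norm (hstar : ∀ x : F, star x = x ^ q) (hF : Fintype.card F = q ^ 2) {a : F}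
    (ha0 : a ≠ 0) (ha : star a = a) : ∃ c : F, c ≠ 0 ∧ star c * c = a := by
  classical
  have hq := q_two_le hF
  obtain ⟨g, hg⟩ := IsCyclic.exists_ofOrder_eq_natCard (α := Fˣ)
  rw [Nat.card_units, Nat.card_eq_fintype_card, hF, sq_sub_one] at hg
  obtain ⟨i, hi⟩ : ∃ i : ℕ, g ^ i = Units.mk0 a ha0 := by
    obtain ⟨i, hi⟩ := (mem_powers_iff_mem_zpowers (x := g) (y := Units.mk0 a ha0)).mpr
      (by
        have : Subgroup.zpowers g = ⊤ := Subgroup.eq_top_of_card_eq _ (by
          rw [Nat.card_zpowers, hg, Nat.card_units, Nat.card_eq_fintype_card, hF, sq_sub_one])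
        rw [this]; trivial)
    exact ⟨i, hi⟩
  obtain ⟨j, rfl⟩ : ∃ j, i = (q + 1) * j := by
    have h1 : g ^ (i * (q - 1)) = 1 := by
      rw [pow_mul, hi]
      apply Units.ext
      rw [Units.val_pow_eq_pow_val, Units.val_mk0, Units.val_one]
      apply mul_left_cancel₀ ha0
      rw [← pow_succ', Nat.sub_add_cancel (by omega), mul_one, ← hstar, ha]
    rw [← orderOf_dvd_iff_pow_eq_one, hg] at h1
    exact Nat.dvd_of_mul_dvd_mul_right (by omega) h1
  refine ⟨((g ^ j : Fˣ) : F), Units.ne_zero _, ?_⟩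
  rw [hstar, ← pow_succ, ← Units.val_pow_eq_pow_val, ← pow_mul, mul_comm, hi, Units.val_mk0]

theorem exists_star_ne (hstar : ∀ x : F, star x = x ^ q) (hF : Fintype.card F = q ^ 2) :
    ∃ b : F, star b ≠ b := by
  classical
  have hq := q_two_le hF
  obtain ⟨g, hg⟩ := IsCyclic.exists_ofOrder_eq_natCard (α := Fˣ)
  rw [Nat.card_units, Nat.card_eq_fintype_card, hF, sq_sub_one] at hg
  refine ⟨(g : F), fun h => ?_⟩
  rw [hstar, ← Units.val_pow_eq_pow_val] at h
  have h1 : g ^ (q - 1) = 1 := by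
    apply mul_left_cancel (a := g)
    rw [← pow_succ', Nat.sub_add_cancel (by omega), mul_one]
    exact Units.ext h
  rw [← orderOf_dvd_iff_pow_eq_one, hg] at h1
  have := Nat.le_of_dvd (by omega) h1
  have : 1 * (q - 1) < (q + 1) * (q - 1) := Nat.mul_lt_mul_of_pos_right (by omega) (by omega)
  omega

theorem exists_trace_ne (hstar : ∀ x : F, star x = x ^ q) (hF : Fintype.card F = q ^ 2) {h : F}
    (hh : h ≠ 0) : ∃ c : F, star c * h + star (star c * h) ≠ 0 := by
  by_contra! hall
  have hz : ∀ x : F, x + star x = 0 := fun x => by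
    have := hall (star (x / h))
    rwa [star_star, div_mul_cancel₀ _ hh] at this
  obtain ⟨b, hb⟩ := exists_star_ne hstar hF
  have h1 := hz 1
  rw [star_one] at h1
  apply hb
  linear_combination hz b - b * h1

/-- A column of value one. -/
theorem exists_col_one (hstar : ∀ x : F, star x = x ^ q) (hF : Fintype.card F = q ^ 2) {ι : Type*}
    [Fintype ι] [DecidableEq ι] [Nonempty ι] (H : Matrix ι ι F) (hH : Hᴴ = H) (hu : IsUnit H) :
    ∃ P : Matrix ι ι F, IsUnit P ∧ ∃ i, (Pᴴ * H * P) i i = 1 := by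
  classical
  suffices hne : ∃ P : Matrix ι ι F, IsUnit P ∧ ∃ i, (Pᴴ * H * P) i i ≠ 0 by
    obtain ⟨P, hP, i, hi⟩ := hne
    have hfix : star ((Pᴴ * H * P) i i) = (Pᴴ * H * P) i i := by
      have : (Pᴴ * H * P)ᴴ = Pᴴ * H * P := by
        simp [conjTranspose_mul, hH, mul_assoc]
      conv_rhs => rw [← this]
      rfl
    obtain ⟨c, hc0, hc⟩ := exists_norm hstar hF (inv_ne_zero hi) (by rw [star_inv₀, hfix])
    refine ⟨P * Matrix.scalar ι c, hP.mul (hc0.isUnit.map (Matrix.scalar ι)), i, ?_⟩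
    rw [Matrix.scalar_apply, ← Matrix.smul_one_eq_diagonal, Matrix.mul_smul, mul_one]
    simp only [conjTranspose_smul, Matrix.smul_mul, Matrix.mul_smul, smul_smul, Matrix.smul_apply,
      smul_eq_mul]
    rw [← mul_assoc, mul_comm c, hc, inv_mul_cancel₀ hi]
  by_cases hdiag : ∃ i, H i i ≠ 0
  · obtain ⟨i, hi⟩ := hdiag
    exact ⟨1, isUnit_one, i, by simpa using hi⟩
  push Not at hdiag
  obtain ⟨i⟩ := ‹Nonempty ι›
  obtain ⟨j, hj⟩ : ∃ j, H i j ≠ 0 := by
    by_contra! hall
    have hdet : H.det = 0 := Matrix.det_eq_zero_of_row_eq_zero i hall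
    exact ((Matrix.isUnit_iff_isUnit_det H).mp hu).ne_zero hdet
  have hij : i ≠ j := fun h => hj (h ▸ hdiag i)
  obtain ⟨c, hc⟩ := exists_trace_ne hstar hF hj
  refine ⟨Matrix.transvection i j c, ?_, j, ?_⟩
  · rw [Matrix.isUnit_iff_isUnit_det, Matrix.det_transvection_of_ne _ _ hij]
    exact isUnit_one
  have hji : H j i = star (H i j) := by
    conv_lhs => rw [← hH]
    rfl
  have hcomp : ((Matrix.transvection i j c)ᴴ * H * Matrix.transvection i j c) j j =
      star c * H i j + star (star c * H i j) := by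
    rw [Matrix.transvection, conjTranspose_add, conjTranspose_one, conjTranspose_single]
    simp [add_mul, mul_add, hdiag, hji, mul_comm]
  rwa [hcomp]

/-- Every nondegenerate Hermitian form is congruent to the standard one. -/
theorem exists_congr_one (hstar : ∀ x : F, star x = x ^ q) (hF : Fintype.card F = q ^ 2) :
    ∀ (n : ℕ) (H : Matrix (Fin n) (Fin n) F), Hᴴ = H → IsUnit H →
      ∃ P : Matrix (Fin n) (Fin n) F, IsUnit P ∧ Pᴴ * H * P = 1 := by
  intro n
  induction n with
  | zero => exact fun H _ _ => ⟨1, isUnit_one, Subsingleton.elim _ _⟩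
  | succ n ih =>
    intro H hH hu
    classical
    obtain ⟨P₁, hP₁, i, hi⟩ := exists_col_one hstar hF H hH hu
    -- move the index with value one into a separate block
    let e : Fin 1 ⊕ Fin n ≃ Fin (n + 1) :=
      (finSumFinEquiv.trans (finCongr (Nat.add_comm 1 n))).trans (Equiv.swap 0 i)
    have he : e (Sum.inl 0) = i := by
      have h0 : (finSumFinEquiv.trans (finCongr (Nat.add_comm 1 n))) (Sum.inl (0 : Fin 1)) = 0 :=
        Fin.ext (by simp)
      rw [Equiv.trans_apply, h0, Equiv.swap_apply_left]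
    set K : Matrix (Fin 1 ⊕ Fin n) (Fin 1 ⊕ Fin n) F := (P₁ᴴ * H * P₁).submatrix e e with hK
    have hKh : Kᴴ = K := by
      rw [hK, conjTranspose_submatrix]
      simp [conjTranspose_mul, hH, mul_assoc]
    have hK11 : K.toBlocks₁₁ = 1 := by
      ext a b
      rw [Subsingleton.elim a 0, Subsingleton.elim b 0]
      simp [hK, Matrix.toBlocks₁₁, he, hi]
    set r : Matrix (Fin 1) (Fin n) F := K.toBlocks₁₂ with hr
    have hK21 : K.toBlocks₂₁ = rᴴ := by
      ext a b
      simp only [Matrix.toBlocks₂₁, Matrix.of_apply, hr, Matrix.toBlocks₁₂, conjTranspose_apply]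
      conv_lhs => rw [← hKh]
      rfl
    set Hs : Matrix (Fin n) (Fin n) F := K.toBlocks₂₂ - rᴴ * r with hHs
    set U : Matrix (Fin 1 ⊕ Fin n) (Fin 1 ⊕ Fin n) F := fromBlocks 1 (-r) 0 1 with hU
    have hUu : IsUnit U := by
      rw [Matrix.isUnit_iff_isUnit_det, hU, det_fromBlocks_zero₂₁, det_one, det_one, one_mul]
      exact isUnit_one
    have hUK : Uᴴ * K * U = fromBlocks 1 0 0 Hs := by
      rw [← fromBlocks_toBlocks K, hK11, hK21, ← hr, hU, fromBlocks_conjTranspose,
        fromBlocks_multiply, fromBlocks_multiply]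
      simp [hHs, add_comm, sub_eq_add_neg, neg_mul, mul_neg]
    have hKu : IsUnit K := by
      rw [hK, Matrix.isUnit_submatrix_equiv]
      exact (((Matrix.isUnit_conjTranspose (A := P₁)).mpr hP₁).mul hu).mul hP₁
    have hHsu : IsUnit Hs := by
      have h1 : IsUnit (fromBlocks (1 : Matrix (Fin 1) (Fin 1) F) 0 0 Hs) := by
        rw [← hUK]
        exact (((Matrix.isUnit_conjTranspose (A := U)).mpr hUu).mul hKu).mul hUu
      rw [Matrix.isUnit_iff_isUnit_det, det_fromBlocks_zero₂₁, det_one, one_mul,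
        ← Matrix.isUnit_iff_isUnit_det] at h1
      exact h1
    have hHsh : Hsᴴ = Hs := by
      have h1 : (Uᴴ * K * U)ᴴ = Uᴴ * K * U := by simp [conjTranspose_mul, hKh, mul_assoc]
      rw [hUK, fromBlocks_conjTranspose] at h1
      exact (fromBlocks_inj.mp h1).2.2.2
    obtain ⟨P₂, hP₂, hP₂'⟩ := ih Hs hHsh hHsu
    set Q : Matrix (Fin 1 ⊕ Fin n) (Fin 1 ⊕ Fin n) F := U * fromBlocks 1 0 0 P₂ with hQ
    have hQu : IsUnit Q := by
      refine hUu.mul ?_
      rw [Matrix.isUnit_iff_isUnit_det, det_fromBlocks_zero₂₁, det_one, one_mul,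
        ← Matrix.isUnit_iff_isUnit_det]
      exact hP₂
    have hQK : Qᴴ * K * Q = 1 := by
      calc Qᴴ * K * Q = (fromBlocks 1 0 0 P₂)ᴴ * (Uᴴ * K * U) * fromBlocks 1 0 0 P₂ := by
            simp only [hQ, conjTranspose_mul, mul_assoc]
        _ = 1 := by
            rw [hUK, fromBlocks_conjTranspose, fromBlocks_multiply, fromBlocks_multiply]
            simp [hP₂', fromBlocks_one]
    refine ⟨P₁ * Q.submatrix e.symm e.symm, hP₁.mul ((Matrix.isUnit_submatrix_equiv _ _).mpr hQu), ?_⟩
    have hKsym : P₁ᴴ * H * P₁ = K.submatrix e.symm e.symm := by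
      rw [hK, Matrix.submatrix_submatrix, Equiv.self_comp_symm, Matrix.submatrix_id_id]
    calc (P₁ * Q.submatrix e.symm e.symm)ᴴ * H * (P₁ * Q.submatrix e.symm e.symm)
        = (Q.submatrix e.symm e.symm)ᴴ * (P₁ᴴ * H * P₁) * Q.submatrix e.symm e.symm := by
          simp only [conjTranspose_mul, mul_assoc]
      _ = 1 := by
          rw [hKsym, conjTranspose_submatrix, Matrix.submatrix_mul_equiv,
            Matrix.submatrix_mul_equiv, hQK, Matrix.submatrix_one_equiv]

/-- A copy of the isometries of a Hermitian form inside the unitary group. -/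
theorem exists_transport (hstar : ∀ x : F, star x = x ^ q) (hF : Fintype.card F = q ^ 2) {n : ℕ}
    (H : Matrix (Fin n) (Fin n) F) (hH : Hᴴ = H) (hu : IsUnit H) (u : GL (Fin n) F)
    (hiso : (u : Matrix (Fin n) (Fin n) F)ᴴ * H * (u : Matrix (Fin n) (Fin n) F) = H) :
    ∃ v : GL (Fin n) F, (v : Matrix (Fin n) (Fin n) F)ᴴ * (v : Matrix (Fin n) (Fin n) F) = 1 ∧
      orderOf v = orderOf u ∧
      (v : Matrix (Fin n) (Fin n) F).det = (u : Matrix (Fin n) (Fin n) F).det ∧
      ∀ (c : F) (k : ℕ), ((v : Matrix (Fin n) (Fin n) F) - c • 1) ^ k = 0 ↔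
        ((u : Matrix (Fin n) (Fin n) F) - c • 1) ^ k = 0 := by
  obtain ⟨P, ⟨P', rfl⟩, hP⟩ := exists_congr_one hstar hF n H hH hu
  refine ⟨P'⁻¹ * u * P', ?_, ?_, ?_, ?_⟩
  · have hPinv : (P' : Matrix (Fin n) (Fin n) F)ᴴ * H = ((P'⁻¹ : GL (Fin n) F) : Matrix (Fin n) (Fin n) F) := by
      calc (P' : Matrix (Fin n) (Fin n) F)ᴴ * H =
          (P' : Matrix (Fin n) (Fin n) F)ᴴ * H * (P' : Matrix (Fin n) (Fin n) F) *
            ((P'⁻¹ : GL (Fin n) F) : Matrix (Fin n) (Fin n) F) := by rw [mul_assoc ((P' : Matrix (Fin n) (Fin n) F)ᴴ * H), P'.mul_inv, mul_one]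
        _ = _ := by rw [hP, one_mul]
    set R : Matrix (Fin n) (Fin n) F := ((P'⁻¹ : GL (Fin n) F) : Matrix (Fin n) (Fin n) F) with hR
    have hRR : Rᴴ * R = H := by
      have h1 : R * (P' : Matrix (Fin n) (Fin n) F) = 1 := P'.inv_mul
      calc Rᴴ * R = Rᴴ * ((P' : Matrix (Fin n) (Fin n) F)ᴴ * H) := by rw [hPinv]
        _ = ((P' : Matrix (Fin n) (Fin n) F) * R)ᴴ * H := by rw [conjTranspose_mul, mul_assoc]
        _ = H := by rw [P'.mul_inv, conjTranspose_one, one_mul]
    simp only [Units.val_mul, ← hR, conjTranspose_mul]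
    calc (P' : Matrix (Fin n) (Fin n) F)ᴴ * ((u : Matrix (Fin n) (Fin n) F)ᴴ * Rᴴ) *
          (R * (u : Matrix (Fin n) (Fin n) F) * (P' : Matrix (Fin n) (Fin n) F))
        = (P' : Matrix (Fin n) (Fin n) F)ᴴ * ((u : Matrix (Fin n) (Fin n) F)ᴴ * (Rᴴ * R) *
            (u : Matrix (Fin n) (Fin n) F)) * (P' : Matrix (Fin n) (Fin n) F) := by
          simp only [mul_assoc]
      _ = 1 := by rw [hRR, hiso, hP]
  · have h1 := orderOf_injective (MulAut.conj P'⁻¹ : MulAut (GL (Fin n) F)).toMonoidHom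
      (MulAut.conj P'⁻¹ : MulAut (GL (Fin n) F)).injective u
    simpa [MulAut.conj_apply] using h1
  · simp only [Units.val_mul, det_mul]
    rw [mul_comm, ← mul_assoc, ← det_mul, P'.mul_inv, det_one, one_mul]
  · intro c k
    have h1 : ((P'⁻¹ * u * P' : GL (Fin n) F) : Matrix (Fin n) (Fin n) F) - c • 1 =
        ((P'⁻¹ : GL (Fin n) F) : Matrix (Fin n) (Fin n) F) * ((u : Matrix (Fin n) (Fin n) F) - c • 1) *
          (P' : Matrix (Fin n) (Fin n) F) := by
      simp only [Units.val_mul, mul_sub, sub_mul, mul_smul_comm, smul_mul_assoc, mul_one, P'.inv_mul]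
    have hconj : ∀ (M : Matrix (Fin n) (Fin n) F) (k : ℕ),
        (((P'⁻¹ : GL (Fin n) F) : Matrix (Fin n) (Fin n) F) * M * (P' : Matrix (Fin n) (Fin n) F)) ^ k =
          ((P'⁻¹ : GL (Fin n) F) : Matrix (Fin n) (Fin n) F) * M ^ k * (P' : Matrix (Fin n) (Fin n) F) := by
      intro M k
      induction k with
      | zero => simp [P'.inv_mul]
      | succ k ih =>
        rw [pow_succ, ih, pow_succ]
        simp only [mul_assoc]
        rw [← mul_assoc (P' : Matrix (Fin n) (Fin n) F) (((P'⁻¹ : GL (Fin n) F) : Matrix (Fin n) (Fin n) F)),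
          P'.mul_inv, one_mul]
    rw [h1, hconj, Units.mul_left_eq_zero, Units.mul_right_eq_zero]

/-- A regular unipotent unitary element. -/
theorem exists_unipotent (hstar : ∀ x : F, star x = x ^ q) (hF : Fintype.card F = q ^ 2)
    (p : ℕ) [Fact p.Prime] [CharP F p] (m : ℕ) (hm : 1 ≤ m) :
    ∃ v : GL (Fin m) F, (v : Matrix (Fin m) (Fin m) F)ᴴ * (v : Matrix (Fin m) (Fin m) F) = 1 ∧
      orderOf v = p ^ Nat.clog p m ∧ (v : Matrix (Fin m) (Fin m) F).det = 1 := by
  classical
  obtain ⟨b, hb⟩ := exists_star_ne hstar hF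
  set N := shiftMat m F with hN
  set H : Matrix (Fin m) (Fin m) F := Matrix.of fun i j => if j = i.rev then 1 else 0 with hH
  have hHh : Hᴴ = H := by
    ext i j
    simp only [conjTranspose_apply, hH, Matrix.of_apply]
    have : (i = j.rev) ↔ (j = i.rev) := ⟨fun h => by rw [h, Fin.rev_rev], fun h => by rw [h, Fin.rev_rev]⟩
    by_cases h : j = i.rev
    · rw [if_pos h, if_pos (this.mpr h), star_one]
    · rw [if_neg h, if_neg (fun c => h (this.mp c)), star_zero]
  have hHH : H * H = 1 := by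
    ext i j
    rw [Matrix.mul_apply, Finset.sum_eq_single i.rev]
    · simp [hH, Matrix.one_apply, eq_comm]
    · intro k _ hk; simp [hH, hk]
    · simp
  have hHu : IsUnit H := ⟨⟨H, H, hHH, hHH⟩, rfl⟩
  have hsa : ∀ c : F, star c = c ∨ True := fun _ => Or.inr trivial
  have hNH : Nᴴ * H = H * N := by
    ext i j
    rw [Matrix.mul_apply, Matrix.mul_apply]
    rw [Finset.sum_eq_single j.rev, Finset.sum_eq_single i.rev]
    · have h1 : star (N j.rev i) = N j.rev i := by
        simp only [hN, shiftMat, Matrix.of_apply]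
        split_ifs <;> simp
      simp only [conjTranspose_apply, h1]
      simp [hH, hN, shiftMat]
      have := i.isLt
      have := j.isLt
      congr 1
      apply propext
      omega
    · intro k _ hk; simp [hH, hk]
    · simp
    · intro k _ hk
      have : ¬ j = k.rev := fun h => hk (by rw [h, Fin.rev_rev])
      simp [hH, this]
    · simp
  have hnil : ∀ c : F, IsNilpotent (c • N) := fun c =>
    ⟨m, by rw [_root_.smul_pow, shiftMat_pow_self, smul_zero]⟩
  set Z : GL (Fin m) F := (hnil b).isUnit_one_add.unit with hZ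
  set Z' : GL (Fin m) F := (hnil (star b)).isUnit_one_add.unit with hZ'
  have hZv : (Z : Matrix (Fin m) (Fin m) F) = 1 + b • N := rfl
  have hZ'v : (Z' : Matrix (Fin m) (Fin m) F) = 1 + star b • N := rfl
  have hcomm : Commute (Z : Matrix (Fin m) (Fin m) F) (Z' : Matrix (Fin m) (Fin m) F) := by
    rw [hZv, hZ'v]
    exact (Commute.one_left _).add_left ((Commute.one_right _).add_right
      (((Commute.refl N).smul_right _).smul_left _))
  set u : GL (Fin m) F := Z * Z'⁻¹ with hu
  have hiso : (u : Matrix (Fin m) (Fin m) F)ᴴ * H * (u : Matrix (Fin m) (Fin m) F) = H := by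
    have hadj : ∀ c : F, (1 + c • N)ᴴ * H = H * (1 + star c • N) := by
      intro c
      rw [conjTranspose_add, conjTranspose_one, conjTranspose_smul, add_mul, one_mul,
        Matrix.smul_mul, hNH, mul_add, mul_one, Matrix.mul_smul]
    have h1 : (Z : Matrix (Fin m) (Fin m) F)ᴴ * H = H * (Z' : Matrix (Fin m) (Fin m) F) := by
      rw [hZv, hZ'v, hadj]
    have h2 : (Z' : Matrix (Fin m) (Fin m) F)ᴴ * H = H * (Z : Matrix (Fin m) (Fin m) F) := by
      rw [hZv, hZ'v, hadj, star_star]
    have h3 : ((Z'⁻¹ : GL (Fin m) F) : Matrix (Fin m) (Fin m) F)ᴴ * H =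
        H * ((Z⁻¹ : GL (Fin m) F) : Matrix (Fin m) (Fin m) F) := by
      calc ((Z'⁻¹ : GL (Fin m) F) : Matrix (Fin m) (Fin m) F)ᴴ * H
          = ((Z'⁻¹ : GL (Fin m) F) : Matrix (Fin m) (Fin m) F)ᴴ *
              (H * (Z : Matrix (Fin m) (Fin m) F)) * ((Z⁻¹ : GL (Fin m) F) : Matrix (Fin m) (Fin m) F) := by
            rw [mul_assoc, mul_assoc H, Z.mul_inv, mul_one]
        _ = H * ((Z⁻¹ : GL (Fin m) F) : Matrix (Fin m) (Fin m) F) := by
            rw [← h2, ← mul_assoc, ← conjTranspose_mul, Z'.mul_inv, conjTranspose_one, one_mul]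
    rw [hu, Units.val_mul, conjTranspose_mul]
    calc ((Z'⁻¹ : GL (Fin m) F) : Matrix (Fin m) (Fin m) F)ᴴ * (Z : Matrix (Fin m) (Fin m) F)ᴴ * H *
          ((Z : Matrix (Fin m) (Fin m) F) * ((Z'⁻¹ : GL (Fin m) F) : Matrix (Fin m) (Fin m) F))
        = ((Z'⁻¹ : GL (Fin m) F) : Matrix (Fin m) (Fin m) F)ᴴ * H *
            ((Z' : Matrix (Fin m) (Fin m) F) * (Z : Matrix (Fin m) (Fin m) F)) *
              ((Z'⁻¹ : GL (Fin m) F) : Matrix (Fin m) (Fin m) F) := by
          rw [mul_assoc _ _ H, h1]; simp only [mul_assoc]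
      _ = H := by
          rw [h3, ← hcomm.eq, mul_assoc H, mul_assoc H]
          simp only [← mul_assoc]
          rw [mul_assoc H, Z.inv_mul, mul_one, mul_assoc, Z'.mul_inv, mul_one]
  have hsub : (u : Matrix (Fin m) (Fin m) F) - 1 =
      (b - star b) • (N * ((Z'⁻¹ : GL (Fin m) F) : Matrix (Fin m) (Fin m) F)) := by
    calc (u : Matrix (Fin m) (Fin m) F) - 1
        = ((Z : Matrix (Fin m) (Fin m) F) - (Z' : Matrix (Fin m) (Fin m) F)) *
            ((Z'⁻¹ : GL (Fin m) F) : Matrix (Fin m) (Fin m) F) := by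
          rw [sub_mul, Z'.mul_inv, hu, Units.val_mul]
      _ = _ := by rw [hZv, hZ'v, add_sub_add_left_eq_sub, ← sub_smul, Matrix.smul_mul]
  have hNZ : Commute N ((Z'⁻¹ : GL (Fin m) F) : Matrix (Fin m) (Fin m) F) := by
    have : Commute N (Z' : Matrix (Fin m) (Fin m) F) := by
      rw [hZ'v]; exact (Commute.one_right _).add_right ((Commute.refl N).smul_right _)
    exact this.units_inv_right
  obtain ⟨v, hv, hvord, hvdet, hvnil⟩ := exists_transport hstar hF H hHh hHu u hiso
  have hnil1 : IsNilpotent ((u : Matrix (Fin m) (Fin m) F) - 1) :=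
    ⟨m, by rw [hsub, _root_.smul_pow, hNZ.mul_pow, shiftMat_pow_self, zero_mul, smul_zero]⟩
  have hord : orderOf u = p ^ Nat.clog p m := by
    refine orderOf_unipotent_eq p u hnil1 ?_
    rw [hsub, _root_.smul_pow, hNZ.mul_pow]
    intro h0
    rcases smul_eq_zero.mp h0 with h1 | h1
    · exact hb (sub_eq_zero.mp (pow_eq_zero_iff'.mp h1).1).symm
    · rw [← Units.val_pow_eq_pow_val, Units.mul_left_eq_zero] at h1
      exact shiftMat_pow_pred_ne m F hm h1
  refine ⟨v, hv, by rw [hvord, hord], ?_⟩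
  rw [hvdet]
  apply iterateFrobenius_inj F p (Nat.clog p m)
  rw [iterateFrobenius_def, iterateFrobenius_def, one_pow, ← Matrix.det_pow,
    ← Units.val_pow_eq_pow_val, ← hord, pow_orderOf_eq_one, Units.val_one, Matrix.det_one]

theorem leftMul_conj {K : Type*} [Field K] [Algebra F K] {d : ℕ} (b : Module.Basis (Fin d) F K)
    (τ : K →+* K) (hτ : ∀ c : F, τ (algebraMap F K c) = algebraMap F K (star c)) (a : K) :
    (Algebra.leftMulMatrix b a)ᴴ *
        (Matrix.of fun i j => Algebra.trace F K (τ (b i) * b j) : Matrix (Fin d) (Fin d) F) *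
        Algebra.leftMulMatrix b a =
      Matrix.of fun i j => Algebra.trace F K (τ (a * b i) * (a * b j)) := by
  ext i j
  have hexp : τ (a * b i) * (a * b j) = ∑ x, ∑ y,
      (star (b.repr (a * b i) y) * b.repr (a * b j) x) • (τ (b y) * b x) := by
    conv_lhs => rw [← b.sum_repr (a * b i), ← b.sum_repr (a * b j)]
    rw [map_sum, Finset.sum_mul_sum, Finset.sum_comm]
    refine Finset.sum_congr rfl fun x _ => Finset.sum_congr rfl fun y _ => ?_
    rw [Algebra.smul_def, Algebra.smul_def, Algebra.smul_def, map_mul τ, hτ,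
      map_mul (algebraMap F K)]
    ring
  simp only [Matrix.of_apply, hexp, map_sum, map_smul, smul_eq_mul, Matrix.mul_apply,
    Finset.sum_mul, conjTranspose_apply, Algebra.leftMulMatrix_eq_repr_mul]
  exact Finset.sum_congr rfl fun x _ => Finset.sum_congr rfl fun y _ => by ring

/-- The unitary torus of order `(q^d + 1) / (q + 1)`, `d` odd. -/
theorem exists_torus_odd (hstar : ∀ x : F, star x = x ^ q) (hF : Fintype.card F = q ^ 2)
    {d : ℕ} (hd : Odd d) :
    ∃ v : GL (Fin d) F, (v : Matrix (Fin d) (Fin d) F)ᴴ * (v : Matrix (Fin d) (Fin d) F) = 1 ∧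
      orderOf v = (q ^ d + 1) / (q + 1) ∧ (v : Matrix (Fin d) (Fin d) F).det = 1 := by
  classical
  obtain ⟨p, hp⟩ := CharP.exists F
  haveI := hp
  haveI : Fact p.Prime := ⟨(CharP.char_is_prime F p)⟩
  obtain ⟨e, he⟩ := hd
  haveI : NeZero d := ⟨by omega⟩
  have hq := q_two_le hF
  let K := FiniteField.Extension F p d
  have hK : Module.finrank F K = d := FiniteField.finrank_extension F p d
  haveI : Module.Finite F K := Module.finite_of_finrank_eq_succ (n := d - 1) (by omega)
  haveI : Finite K := Module.finite_of_finite F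
  haveI := Fintype.ofFinite K
  haveI : CharP K p := charP_of_injective_algebraMap (algebraMap F K).injective p
  let b : Module.Basis (Fin d) F K := Module.finBasisOfFinrankEq F K hK
  have hcard : Fintype.card K = q ^ (2 * d) := by
    rw [← Nat.card_eq_fintype_card, Module.natCard_eq_pow_finrank (K := F) (V := K), hK,
      Nat.card_eq_fintype_card, hF, ← pow_mul]
  obtain ⟨f, hfq⟩ : ∃ f, q = p ^ f := by
    obtain ⟨k, -, hk⟩ := FiniteField.card F p
    rw [hF] at hk
    obtain ⟨f, -, hf⟩ := (Nat.dvd_prime_pow (Fact.out : p.Prime)).mp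
      (hk ▸ dvd_pow_self q two_ne_zero : q ∣ p ^ (k : ℕ))
    exact ⟨f, hf⟩
  set τ : K →+* K := iterateFrobenius K p (f * d) with hτdef
  have hτ : ∀ x, τ x = x ^ q ^ d := fun x => by
    rw [hτdef, iterateFrobenius_def, pow_mul, ← hfq]
  have hτc : ∀ c : F, τ (algebraMap F K c) = algebraMap F K (star c) := by
    intro c
    rw [hτ, ← map_pow]
    congr 1
    rw [he, pow_succ, pow_mul q 2 e, ← hF, pow_mul, FiniteField.pow_card_pow, hstar]
  have hττ : ∀ x, τ (τ x) = x := fun x => by
    rw [hτ, hτ, ← pow_mul, ← pow_add, ← two_mul, ← hcard, FiniteField.pow_card]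
  set H : Matrix (Fin d) (Fin d) F :=
    Matrix.of fun i j => Algebra.trace F K (τ (b i) * b j) with hH
  have htr : ∀ x : K, Algebra.trace F K (τ x) = star (Algebra.trace F K x) := by
    intro x
    let e₁ : F ≃+* F := starRingAut
    let e₂ : K ≃+* K := RingEquiv.ofRingHom τ τ (RingHom.ext hττ) (RingHom.ext hττ)
    have := Algebra.trace_eq_of_equiv_equiv e₁ e₂ (RingHom.ext fun c => (hτc c).symm) (τ x)
    rw [this]
    apply star_injective
    rw [star_star]
    simp [e₁, e₂, hττ]
    exact starRingAut.apply_symm_apply _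
  have hHh : Hᴴ = H := by
    ext i j
    simp only [conjTranspose_apply, hH, Matrix.of_apply, ← htr, map_mul, hττ, mul_comm]
  have hHu : IsUnit H := by
    refine Matrix.mulVec_injective_iff_isUnit.mp ?_
    rw [← Matrix.coe_mulVecLin, ← LinearMap.ker_eq_bot, Matrix.ker_mulVecLin_eq_bot_iff]
    intro v hv
    set y : K := ∑ j, v j • b j with hy
    have h1 : ∀ i, Algebra.trace F K (τ (b i) * y) = 0 := by
      intro i
      have := congrFun hv i
      simp only [Matrix.mulVec, dotProduct, hH, Matrix.of_apply, Pi.zero_apply] at this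
      rw [hy, Finset.mul_sum, map_sum, ← this]
      refine Finset.sum_congr rfl fun j _ => ?_
      rw [mul_smul_comm, map_smul, smul_eq_mul, mul_comm]
    have h2 : ∀ x : K, Algebra.trace F K (x * y) = 0 := by
      intro x
      rw [← hττ x, ← b.sum_repr (τ x), map_sum, Finset.sum_mul, map_sum]
      refine Finset.sum_eq_zero fun i _ => ?_
      rw [Algebra.smul_def, map_mul τ, hτc, mul_assoc, ← Algebra.smul_def, map_smul, h1, smul_zero]
    have hy0 : y = 0 := by
      refine (traceForm_nondegenerate F K).2 y fun x => ?_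
      rw [Algebra.traceForm_apply]
      exact h2 x
    funext j
    have := congrArg (fun z => b.repr z j) hy0
    simpa [hy, Finsupp.single_apply] using this
  obtain ⟨z, hz⟩ := IsCyclic.exists_ofOrder_eq_natCard (α := Kˣ)
  rw [Nat.card_units, Nat.card_eq_fintype_card, hcard] at hz
  set Q := q ^ d with hQdef
  have hQ1 : 1 ≤ Q := Nat.one_le_pow _ _ (by omega)
  have hzo : orderOf z = (Q + 1) * (Q - 1) := by
    rw [hz, ← sq_sub_one Q, hQdef, ← pow_mul, mul_comm 2 d]
  have hdvd : q + 1 ∣ Q + 1 := by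
    rw [hQdef, he]
    have := Odd.nat_add_dvd_pow_add_pow q 1 (n := 2 * e + 1) ⟨e, rfl⟩
    simpa using this
  obtain ⟨M, hM⟩ := hdvd
  have hMdiv : (Q + 1) / (q + 1) = M := by rw [hM, Nat.mul_div_cancel_left _ (by omega)]
  set a : Kˣ := z ^ ((Q - 1) * (q + 1)) with ha
  have hao : orderOf a = M := by
    rw [ha, orderOf_pow' _ (Nat.mul_ne_zero (by
        have : 2 ≤ Q := by
          rw [hQdef]; exact le_trans hq (Nat.le_self_pow (by omega) q)
        omega) (by omega)), hzo, hM,
      show (q + 1) * M * (Q - 1) = M * ((Q - 1) * (q + 1)) by ring,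
      Nat.gcd_mul_left_left, Nat.mul_div_cancel _ (Nat.mul_pos (by
        have : 2 ≤ Q := by
          rw [hQdef]; exact le_trans hq (Nat.le_self_pow (by omega) q)
        omega) (by omega))]
  let u : GL (Fin d) F := Units.map (Algebra.leftMulMatrix b : K →ₐ[F] _).toMonoidHom a
  have huv : (u : Matrix (Fin d) (Fin d) F) = Algebra.leftMulMatrix b (a : K) := rfl
  have haτ : τ (a : K) * (a : K) = 1 := by
    rw [hτ, ← pow_succ, ha, ← Units.val_pow_eq_pow_val, ← pow_mul,
      show (Q - 1) * (q + 1) * (Q + 1) = (Q + 1) * (Q - 1) * (q + 1) by ring, ← hzo, pow_mul,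
      pow_orderOf_eq_one, one_pow, Units.val_one]
  have hiso : (u : Matrix (Fin d) (Fin d) F)ᴴ * H * (u : Matrix (Fin d) (Fin d) F) = H := by
    rw [huv, hH, leftMul_conj b τ hτc]
    ext i j
    simp only [Matrix.of_apply, map_mul]
    congr 1
    linear_combination (τ (b i) * b j) * haτ
  obtain ⟨v, hv, hvord, hvdet, -⟩ := exists_transport hstar hF H hHh hHu u hiso
  refine ⟨v, hv, ?_, ?_⟩
  · rw [hvord, orderOf_injective _ (Units.map_injective (Algebra.leftMulMatrix_injective b)), hao,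
      ← hMdiv, hQdef]
  · rw [hvdet, huv, ← Algebra.norm_eq_matrix_det b]
    apply (algebraMap F K).injective
    rw [map_one, FiniteField.algebraMap_norm_eq_pow, ha, Units.val_pow_eq_pow_val, ← pow_mul,
      Nat.card_eq_fintype_card, Nat.card_eq_fintype_card, hcard, hF, sq_sub_one]
    have h1 : (q + 1) * (q - 1) ∣ q ^ (2 * d) - 1 := by
      rw [← sq_sub_one, pow_mul]; exact Nat.sub_one_dvd_pow_sub_one _ _
    obtain ⟨T, hT⟩ := h1
    rw [hT, Nat.mul_div_cancel_left _ (Nat.mul_pos (by omega) (by omega))]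
    obtain ⟨w, hw⟩ : q - 1 ∣ Q - 1 := Nat.sub_one_dvd_pow_sub_one q d
    have hzT : q ^ (2 * d) - 1 = (q + 1) * (q - 1) * T := hT
    rw [hw, show (q - 1) * w * (q + 1) * T = (q + 1) * (q - 1) * T * w by ring, ← hzT,
      ← Units.val_pow_eq_pow_val, pow_mul, ← hz, pow_orderOf_eq_one, one_pow, Units.val_one]

/-- The unitary torus of order `(q^{2d} - 1) / (q + 1)`. -/
theorem exists_torus_even (hstar : ∀ x : F, star x = x ^ q) (hF : Fintype.card F = q ^ 2)
    (d : ℕ) (hd : 1 ≤ d) :
    ∃ v : GL (Fin (d + d)) F,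
      (v : Matrix (Fin (d + d)) (Fin (d + d)) F)ᴴ * (v : Matrix (Fin (d + d)) (Fin (d + d)) F) = 1 ∧
      orderOf v = (q ^ (2 * d) - 1) / (q + 1) ∧
      (v : Matrix (Fin (d + d)) (Fin (d + d)) F).det = 1 := by
  classical
  have hq := q_two_le hF
  obtain ⟨s, hs⟩ := exists_singer (F := F) d hd
  rw [Nat.card_eq_fintype_card, hF, ← pow_mul] at hs
  set t : GL (Fin d) F := s ^ (q + 1) with ht
  have hto : orderOf t = (q ^ (2 * d) - 1) / (q + 1) := by
    have h1 : q + 1 ∣ q ^ (2 * d) - 1 :=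
      (Dvd.intro _ (sq_sub_one q).symm).trans (by
        rw [pow_mul]; exact Nat.sub_one_dvd_pow_sub_one _ _)
    rw [ht, orderOf_pow' _ (by omega), hs, Nat.gcd_eq_right h1]
  let ι : Fin d ⊕ Fin d ≃ Fin (d + d) := finSumFinEquiv
  let lev : GL (Fin d) F →* GL (Fin (d + d)) F :=
    MonoidHom.toHomUnits
      { toFun := fun A => Matrix.reindex ι ι (fromBlocks (A : Matrix (Fin d) (Fin d) F) 0 0
          ((A⁻¹ : GL (Fin d) F) : Matrix (Fin d) (Fin d) F)ᴴ)
        map_one' := by simp
        map_mul' := fun A B => by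
          simp [fromBlocks_multiply, Matrix.reindex_apply, Matrix.submatrix_mul_equiv,
            _root_.mul_inv_rev, conjTranspose_mul] }
  have hlev : ∀ A, (lev A : Matrix (Fin (d + d)) (Fin (d + d)) F) =
      Matrix.reindex ι ι (fromBlocks (A : Matrix (Fin d) (Fin d) F) 0 0
          ((A⁻¹ : GL (Fin d) F) : Matrix (Fin d) (Fin d) F)ᴴ) := fun A => rfl
  have hinj : Function.Injective lev := by
    intro A B h
    have := congrArg Units.val h
    rw [hlev, hlev] at this
    exact Units.ext (fromBlocks_inj.mp ((Matrix.reindex ι ι).injective this)).1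
  set H : Matrix (Fin (d + d)) (Fin (d + d)) F :=
    Matrix.reindex ι ι (fromBlocks 0 1 1 0) with hH
  have hHH : H * H = 1 := by
    simp [hH, Matrix.reindex_apply, Matrix.submatrix_mul_equiv, fromBlocks_multiply,
      fromBlocks_one]
  have hHh : Hᴴ = H := by
    simp [hH, Matrix.reindex_apply, conjTranspose_submatrix, fromBlocks_conjTranspose]
  have hiso : (lev t : Matrix (Fin (d + d)) (Fin (d + d)) F)ᴴ * H * (lev t : Matrix _ _ F) = H := by
    rw [hlev, hH]
    simp [Matrix.reindex_apply, conjTranspose_submatrix, fromBlocks_conjTranspose,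
      Matrix.submatrix_mul_equiv, fromBlocks_multiply, ← conjTranspose_mul]
  obtain ⟨v, hv, hvord, hvdet, -⟩ :=
    exists_transport hstar hF H hHh ⟨⟨H, H, hHH, hHH⟩, rfl⟩ (lev t) hiso
  refine ⟨v, hv, by rw [hvord, orderOf_injective _ hinj, hto], ?_⟩
  rw [hvdet, hlev, Matrix.det_reindex_self, det_fromBlocks_zero₂₁, det_conjTranspose]
  set a := (s : Matrix (Fin d) (Fin d) F).det with ha
  have ha0 : a ≠ 0 := ((Matrix.isUnit_iff_isUnit_det _).mp s.isUnit).ne_zero
  have h1 : ((t : GL (Fin d) F) : Matrix (Fin d) (Fin d) F).det = a ^ (q + 1) := by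
    rw [ht, Units.val_pow_eq_pow_val, Matrix.det_pow]
  have h2 : ((t⁻¹ : GL (Fin d) F) : Matrix (Fin d) (Fin d) F).det = (a ^ (q + 1))⁻¹ := by
    rw [← h1]
    refine eq_inv_of_mul_eq_one_left ?_
    rw [← Matrix.det_mul, t.inv_mul, Matrix.det_one]
  have hfix : star (a ^ (q + 1)) = a ^ (q + 1) := by
    rw [hstar, ← pow_mul, show (q + 1) * q = q ^ 2 + q by ring, pow_add, ← hF,
      FiniteField.pow_card, pow_succ, mul_comm]
  rw [h1, h2, star_inv₀, hfix, mul_inv_cancel₀ (pow_ne_zero _ ha0)]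

end Cfsg.Agent.Small.Hermitian
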