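import Mathlib

/-!
# The rank one Steinberg presentation of `SL₂` over a finite field

An abstract group generated by two root subgroups subject to additivity and the Weyl element relations
has a multiplicative torus map (Steinberg's symbol argument), hence a Bruhat normal form.
-/

set_option autoImplicit false
set_option linter.unusedSectionVars false

namespace Cfsg.Agent.Small.SteinbergSL2

/-- A family `x`, `y` satisfying the rank one Steinberg relations. -/
structure Rels (K : Type*) [Field K] (G : Type*) [Group G] where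
  x : K → G
  y : K → G
  xadd : ∀ t u, x t * x u = x (t + u)
  yadd : ∀ t u, y t * y u = y (t + u)
  wx : ∀ t u : K, t ≠ 0 →
    x t * y (-t⁻¹) * x t * x u * (x t * y (-t⁻¹) * x t)⁻¹ = y (-(t⁻¹ ^ 2 * u))
  wy : ∀ t u : K, t ≠ 0 →
    y t * x (-t⁻¹) * y t * y u * (y t * x (-t⁻¹) * y t)⁻¹ = x (-(t⁻¹ ^ 2 * u))

variable {K : Type*} [Field K] {G : Type*} [Group G] (S : Rels K G)

namespace Rels

theorem x_zero : S.x 0 = 1 := by
  have := S.xadd 0 0; rwa [add_zero, mul_eq_left] at this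

theorem y_zero : S.y 0 = 1 := by
  have := S.yadd 0 0; rwa [add_zero, mul_eq_left] at this

theorem x_inv (t : K) : (S.x t)⁻¹ = S.x (-t) := by
  rw [inv_eq_iff_mul_eq_one, S.xadd, add_neg_cancel, S.x_zero]

theorem y_inv (t : K) : (S.y t)⁻¹ = S.y (-t) := by
  rw [inv_eq_iff_mul_eq_one, S.yadd, add_neg_cancel, S.y_zero]

/-- The Weyl elements. -/
def w (t : K) : G := S.x t * S.y (-t⁻¹) * S.x t

/-- The torus elements. -/
def h (t : K) : G := S.w t * (S.w 1)⁻¹

theorem w_inv (t : K) : (S.w t)⁻¹ = S.w (-t) := by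
  simp only [w, mul_inv_rev, x_inv, y_inv, inv_neg, neg_neg, mul_assoc]

theorem w_x {t : K} (ht : t ≠ 0) (u : K) : S.w t * S.x u = S.y (-(t⁻¹ ^ 2 * u)) * S.w t := by
  rw [← mul_inv_eq_iff_eq_mul]; exact S.wx t u ht

theorem w_y {t : K} (ht : t ≠ 0) (v : K) : S.w t * S.y v = S.x (-(t ^ 2 * v)) * S.w t := by
  have h := S.w_x (neg_ne_zero.2 ht) (-(t ^ 2 * v))
  rw [← S.w_inv, inv_neg, neg_sq, mul_neg, neg_neg, ← mul_assoc, inv_pow,
    inv_mul_cancel₀ (pow_ne_zero 2 ht), one_mul, inv_mul_eq_iff_eq_mul] at h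
  rw [h]
  group

/-- The opposite Weyl elements agree with the Weyl elements. -/
theorem w_eq {t : K} (ht : t ≠ 0) : S.w t = S.y (-t⁻¹) * S.x t * S.y (-t⁻¹) := by
  have h1 := S.w_x ht t
  have h2 := S.w_y ht (-t⁻¹)
  have e1 : -(t⁻¹ ^ 2 * t) = -t⁻¹ := by field_simp
  have e2 : -(t ^ 2 * -t⁻¹) = t := by field_simp
  rw [e1] at h1
  rw [e2] at h2
  have key : S.w t * (S.x t * S.y (-t⁻¹) * S.x t) = S.y (-t⁻¹) * S.x t * S.y (-t⁻¹) * S.w t := by
    rw [← mul_assoc, ← mul_assoc, h1, mul_assoc (S.y (-t⁻¹)) (S.w t), h2, ← mul_assoc,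
      mul_assoc (S.y (-t⁻¹) * S.x t) (S.w t), h1, ← mul_assoc]
  exact mul_right_cancel key

theorem w_conj {t : K} (ht : t ≠ 0) {u : K} (hu : u ≠ 0) :
    S.w t * S.w u * (S.w t)⁻¹ = S.w (t ^ 2 * u⁻¹) := by
  rw [mul_inv_eq_iff_eq_mul]
  conv_rhs => rw [S.w_eq (mul_ne_zero (pow_ne_zero 2 ht) (inv_ne_zero hu))]
  have e1 : -(t ^ 2 * u⁻¹)⁻¹ = -(t⁻¹ ^ 2 * u) := by field_simp
  have e2 : t ^ 2 * u⁻¹ = -(t ^ 2 * -u⁻¹) := by ring
  rw [e1, e2]
  show S.w t * (S.x u * S.y (-u⁻¹) * S.x u) = _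
  rw [← mul_assoc, ← mul_assoc, S.w_x ht, mul_assoc (S.y _) (S.w t), S.w_y ht, ← mul_assoc,
    mul_assoc (S.y _ * S.x _) (S.w t), S.w_x ht, ← mul_assoc]

theorem h_one : S.h 1 = 1 := mul_inv_cancel _

theorem w_eq_h (t : K) : S.w t = S.h t * S.w 1 := by rw [h, inv_mul_cancel_right]

theorem h_x {t : K} (ht : t ≠ 0) (u : K) : S.h t * S.x u = S.x (t ^ 2 * u) * S.h t := by
  rw [h, mul_assoc, w_inv, S.w_x (neg_ne_zero.2 one_ne_zero), ← mul_assoc, S.w_y ht, mul_assoc]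
  congr 2
  field_simp

theorem h_y {t : K} (ht : t ≠ 0) (v : K) : S.h t * S.y v = S.y (t⁻¹ ^ 2 * v) * S.h t := by
  rw [h, mul_assoc, w_inv, S.w_y (neg_ne_zero.2 one_ne_zero), ← mul_assoc, S.w_x ht, mul_assoc]
  congr 2
  ring

theorem h_w {t : K} (ht : t ≠ 0) (u : K) : S.h t * S.w u = S.w (t ^ 2 * u) * S.h t := by
  show S.h t * (S.x u * S.y (-u⁻¹) * S.x u) = S.x (t ^ 2 * u) * S.y (-(t ^ 2 * u)⁻¹) * S.x (t ^ 2 * u) * S.h t
  rw [← mul_assoc, ← mul_assoc, S.h_x ht, mul_assoc (S.x _) (S.h t), S.h_y ht, ← mul_assoc,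
    mul_assoc (S.x _ * S.y _) (S.h t), S.h_x ht, ← mul_assoc]
  congr 4
  rw [mul_inv, inv_pow]
  ring

theorem h_h {t : K} (ht : t ≠ 0) {u : K} (hu : u ≠ 0) :
    S.h t * S.h u = S.h (t ^ 2 * u) * (S.h (t ^ 2))⁻¹ * S.h t := by
  have h1 := S.h_w ht u
  have h2 := S.h_w ht 1
  rw [mul_one] at h2
  have h2' : S.h t * (S.w 1)⁻¹ = (S.w (t ^ 2))⁻¹ * S.h t := by
    rw [eq_inv_mul_iff_mul_eq, ← mul_assoc, ← h2, mul_inv_cancel_right]
  rw [show S.h u = S.w u * (S.w 1)⁻¹ from rfl, ← mul_assoc, h1, mul_assoc, h2',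
    show S.h (t ^ 2 * u) = S.w (t ^ 2 * u) * (S.w 1)⁻¹ from rfl,
    show S.h (t ^ 2) = S.w (t ^ 2) * (S.w 1)⁻¹ from rfl, mul_inv_rev, inv_inv]
  group

/-- Steinberg's relation `h(a) h(1 - a) = h(a (1 - a))`. -/
theorem steinberg {a b : K} (ha : a ≠ 0) (hb : b ≠ 0) (hab : a + b = 1) :
    S.h a * S.h b = S.h (a * b) := by
  have hm : (S.w 1)⁻¹ = S.y 1 * S.x (-1) * S.y 1 := by
    rw [w_inv, S.w_eq (neg_ne_zero.2 one_ne_zero), inv_neg, inv_one, neg_neg]
  have hy : S.y 1 * S.w b = S.w b * S.x (-(b ^ 2)) := by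
    rw [S.w_x hb]
    congr 2
    field_simp
  have key : S.w a * (S.w 1)⁻¹ * S.w b = S.w (a * b) := by
    rw [hm, mul_assoc (S.y 1) (S.x (-1)), ← mul_assoc (S.w a), S.w_y ha, mul_assoc, mul_assoc, mul_assoc, hy]
    show S.x (-(a ^ 2 * 1)) * (S.x a * S.y (-a⁻¹) * S.x a * (S.x (-1) *
      (S.x b * S.y (-b⁻¹) * S.x b * S.x (-(b ^ 2))))) = S.x (a * b) * S.y (-(a * b)⁻¹) * S.x (a * b)
    have e : ∀ (P Q R : G), S.x a * P * S.x a * (S.x (-1) * (S.x b * Q * S.x b * R)) =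
        S.x a * P * (S.x a * S.x (-1) * S.x b) * Q * (S.x b * R) := fun P Q R => by group
    rw [e, S.xadd a, S.xadd (a + -1) b, show a + -1 + b = 0 by linear_combination hab, x_zero]
    simp only [mul_one]
    rw [mul_assoc (S.x a) (S.y _), S.yadd, S.xadd b, ← mul_assoc, ← mul_assoc, S.xadd]
    have e1 : -a ^ 2 + a = a * b := by linear_combination -a * hab
    have e2 : b + -(b ^ 2) = a * b := by linear_combination -b * hab
    have e3 : -a⁻¹ + -b⁻¹ = -(a * b)⁻¹ := by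
      field_simp
      linear_combination -hab
    rw [e1, e2, e3]
  show S.w a * (S.w 1)⁻¹ * (S.w b * (S.w 1)⁻¹) = S.w (a * b) * (S.w 1)⁻¹
  rw [← mul_assoc, key]

section Gen

variable (hgen : Subgroup.closure (Set.range S.x ∪ Set.range S.y) = ⊤)
include hgen

theorem central (g : G) (hx : ∀ u, g * S.x u = S.x u * g) (hy : ∀ u, g * S.y u = S.y u * g) :
    g ∈ Subgroup.center G := by
  rw [Subgroup.mem_center_iff]
  intro z
  have : z ∈ Subgroup.centralizer ({g} : Set G) := by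
    have hle : Subgroup.closure (Set.range S.x ∪ Set.range S.y) ≤ Subgroup.centralizer ({g} : Set G) := by
      rw [Subgroup.closure_le]
      rintro _ (⟨u, rfl⟩ | ⟨u, rfl⟩) <;> rw [SetLike.mem_coe, Subgroup.mem_centralizer_singleton_iff]
      · exact (hx u).symm
      · exact (hy u).symm
    exact hle (hgen ▸ Subgroup.mem_top z)
  exact Subgroup.mem_centralizer_singleton_iff.1 this

theorem symbol_mem {t u : K} (ht : t ≠ 0) (hu : u ≠ 0) :
    (S.h (t * u))⁻¹ * (S.h t * S.h u) ∈ Subgroup.center G := by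
  obtain ⟨P, hP⟩ : ∃ P, P = S.h t * S.h u := ⟨_, rfl⟩
  rw [← hP]
  refine S.central hgen _ (fun v => ?_) (fun v => ?_)
  · have e : P * S.x v = S.x ((t * u) ^ 2 * v) * P := by
      rw [hP, mul_assoc, S.h_x hu, ← mul_assoc, S.h_x ht, mul_assoc, ← mul_assoc (t ^ 2), mul_pow]
    rw [mul_assoc, e, ← mul_assoc, ← mul_assoc]
    congr 1
    rw [inv_mul_eq_iff_eq_mul, ← mul_assoc, eq_mul_inv_iff_mul_eq, S.h_x (mul_ne_zero ht hu)]
  · have e : P * S.y v = S.y ((t * u)⁻¹ ^ 2 * v) * P := by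
      rw [hP, mul_assoc, S.h_y hu, ← mul_assoc, S.h_y ht, mul_assoc, ← mul_assoc (t⁻¹ ^ 2), ← mul_pow, ← mul_inv]
    rw [mul_assoc, e, ← mul_assoc, ← mul_assoc]
    congr 1
    rw [inv_mul_eq_iff_eq_mul, ← mul_assoc, eq_mul_inv_iff_mul_eq, S.h_y (mul_ne_zero ht hu)]

variable [Finite K]

theorem h_comm {t u : K} (ht : t ≠ 0) (hu : u ≠ 0) : Commute (S.h t) (S.h u) := by
  obtain ⟨g, hg⟩ := IsCyclic.exists_monoid_generator (α := Kˣ)
  have main : ∀ k : ℕ, ∃ z ∈ Subgroup.center G, S.h ((g : K) ^ k) = S.h g ^ k * z := by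
    intro k
    induction k with
    | zero => exact ⟨1, one_mem _, by rw [pow_zero, pow_zero, h_one, one_mul]⟩
    | succ k ih =>
      obtain ⟨z, hz, he⟩ := ih
      have hm := S.symbol_mem hgen (pow_ne_zero k g.ne_zero) g.ne_zero
      have e : S.h g ^ k * z * S.h g = S.h g ^ (k + 1) * z := by
        rw [mul_assoc, ← Subgroup.mem_center_iff.1 hz, ← mul_assoc, ← pow_succ]
      rw [← pow_succ, he, e] at hm
      obtain ⟨c, hc, hc'⟩ : ∃ c ∈ Subgroup.center G, (S.h ((g : K) ^ (k + 1)))⁻¹ * (S.h g ^ (k + 1) * z) = c :=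
        ⟨_, hm, rfl⟩
      refine ⟨z * c⁻¹, mul_mem hz (inv_mem hc), ?_⟩
      rw [← hc']
      group
  obtain ⟨i, hi⟩ := hg (Units.mk0 t ht)
  obtain ⟨j, hj⟩ := hg (Units.mk0 u hu)
  have hi' : (g : K) ^ i = t := by
    have := congrArg Units.val hi; simpa using this
  have hj' : (g : K) ^ j = u := by
    have := congrArg Units.val hj; simpa using this
  obtain ⟨z, hz, e⟩ := main i
  obtain ⟨z', hz', e'⟩ := main j
  rw [← hi', ← hj', e, e']
  have c1 : ∀ a, Commute z a := fun a => (Subgroup.mem_center_iff.1 hz a).symm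
  have c2 : ∀ a, Commute z' a := fun a => (Subgroup.mem_center_iff.1 hz' a).symm
  exact ((Commute.pow_pow_self (S.h (g : K)) i j).mul_right (c2 _).symm).mul_left (c1 _)

theorem h_sq {t u : K} (ht : t ≠ 0) (hu : u ≠ 0) : S.h (t ^ 2 * u) = S.h (t ^ 2) * S.h u := by
  have h1 := S.h_h ht hu
  rw [(S.h_comm hgen ht hu).eq] at h1
  have h2 := mul_right_cancel h1
  rw [h2, (S.h_comm hgen (pow_ne_zero 2 ht) (mul_ne_zero (pow_ne_zero 2 ht) hu)).inv_left.symm.eq,
    mul_inv_cancel_left]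

theorem h_mul {t u : K} (ht : t ≠ 0) (hu : u ≠ 0) : S.h (t * u) = S.h t * S.h u := by
  classical
  haveI := Fintype.ofFinite K
  by_cases hc : ringChar K = 2
  · obtain ⟨r, hr⟩ := FiniteField.isSquare_of_char_two hc t
    have hr0 : r ≠ 0 := fun h0 => ht (by rw [hr, h0, mul_zero])
    rw [hr, ← pow_two]
    exact S.h_sq hgen hr0 hu
  -- a pair of non-squares summing to one
  obtain ⟨a, b, ha, hb, hab⟩ : ∃ a b : K, ¬ IsSquare a ∧ ¬ IsSquare b ∧ a + b = 1 := by
    by_contra! hall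
    obtain ⟨N, hN⟩ : ∃ N : Finset K, N = Finset.univ.filter fun a => ¬ IsSquare a := ⟨_, rfl⟩
    obtain ⟨S', hS⟩ : ∃ S' : Finset K, S' = Finset.univ.filter fun a => IsSquare a ∧ a ≠ 0 := ⟨_, rfl⟩
    have h1 : N.card ≤ (S'.erase 1).card := by
      refine Finset.card_le_card_of_injOn (fun a => 1 - a) (fun a ha => ?_) (fun a _ b _ h => by simpa using h)
      simp only [hN, Finset.coe_filter, Finset.mem_univ, true_and] at ha
      have ha0 : a ≠ 0 := fun h => ha (h ▸ IsSquare.zero)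
      have ha1 : a ≠ 1 := fun h => ha (h ▸ IsSquare.one)
      simp only [hS, Finset.coe_erase, Finset.coe_filter, Finset.mem_univ, true_and]
      refine ⟨⟨?_, sub_ne_zero.2 (Ne.symm ha1)⟩, by simpa using ha0⟩
      by_contra hsq
      exact hall a (1 - a) ha hsq (add_sub_cancel a 1)
    obtain ⟨ν, hν⟩ := FiniteField.exists_nonsquare hc
    have hν0 : ν ≠ 0 := fun h => hν (h ▸ IsSquare.zero)
    have h2 : S'.card ≤ N.card := by
      refine Finset.card_le_card_of_injOn (fun a => ν * a) (fun a ha => ?_) (fun a _ b _ h => by simpa [hν0] using h)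
      simp only [hS, Finset.coe_filter, Finset.mem_univ, true_and] at ha
      simp only [hN, Finset.coe_filter, Finset.mem_univ, true_and]
      intro hsq
      exact hν (by simpa [ha.2] using hsq.div ha.1)
    have h3 : (1 : K) ∈ S' := by simp [hS]
    rw [Finset.card_erase_of_mem h3] at h1
    have := Finset.card_pos.2 ⟨1, h3⟩
    omega
  have ha0 : a ≠ 0 := fun h => ha (h ▸ IsSquare.zero)
  have hb0 : b ≠ 0 := fun h => hb (h ▸ IsSquare.zero)
  have key := S.steinberg ha0 hb0 hab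
  have decomp : ∀ c : K, c ≠ 0 → ∃ r : K, r ≠ 0 ∧ (c = r ^ 2 ∨ c = r ^ 2 * a) := by
    intro c hc0
    by_cases hsq : IsSquare c
    · obtain ⟨r, hr⟩ := hsq
      exact ⟨r, fun h => hc0 (by rw [hr, h, mul_zero]), Or.inl (by rw [hr, pow_two])⟩
    · obtain ⟨r, hr⟩ : IsSquare (c / a) := by
        rw [div_eq_mul_inv]
        exact (quadraticChar_one_iff_isSquare (mul_ne_zero hc0 (inv_ne_zero ha0))).1 (by
          rw [map_mul, quadraticChar_neg_one_iff_not_isSquare.2 hsq,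
            quadraticChar_neg_one_iff_not_isSquare.2 (fun hh => ha (by simpa using hh.inv)), neg_mul_neg, one_mul])
      refine ⟨r, fun h => hc0 ?_, Or.inr ?_⟩
      · rw [h, mul_zero, div_eq_zero_iff] at hr
        exact hr.resolve_right ha0
      · rw [pow_two, ← hr, div_mul_cancel₀ c ha0]
  have haa : S.h a * S.h a = S.h (a * a) := by
    obtain ⟨r, hr0, hr⟩ := decomp b hb0
    rcases hr with rfl | rfl
    · exact absurd ⟨r, pow_two r⟩ hb
    · rw [S.h_sq hgen hr0 ha0, ← mul_assoc, (S.h_comm hgen ha0 (pow_ne_zero 2 hr0)).eq, mul_assoc,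
        show a * (r ^ 2 * a) = r ^ 2 * (a * a) by ring, S.h_sq hgen hr0 (mul_ne_zero ha0 ha0)] at key
      exact mul_left_cancel key
  obtain ⟨r, hr0, hr⟩ := decomp t ht
  obtain ⟨s, hs0, hs⟩ := decomp u hu
  rcases hr with rfl | rfl
  · exact S.h_sq hgen hr0 hu
  rcases hs with rfl | rfl
  · rw [mul_comm, S.h_sq hgen hs0 ht]
    exact S.h_comm hgen (pow_ne_zero 2 hs0) ht
  · rw [show r ^ 2 * a * (s ^ 2 * a) = r ^ 2 * (s ^ 2 * (a * a)) by ring,
      S.h_sq hgen hr0 (mul_ne_zero (pow_ne_zero 2 hs0) (mul_ne_zero ha0 ha0)),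
      S.h_sq hgen hs0 (mul_ne_zero ha0 ha0), S.h_sq hgen hr0 ha0, S.h_sq hgen hs0 ha0, ← haa]
    simp only [mul_assoc]
    congr 1
    rw [← mul_assoc, ← mul_assoc, (S.h_comm hgen ha0 (pow_ne_zero 2 hs0)).eq]

/-- The Bruhat normal form. -/
theorem normal_form (g : G) : (∃ a t, t ≠ 0 ∧ g = S.x a * S.h t) ∨
    ∃ a t b, t ≠ 0 ∧ g = S.x a * S.h t * S.w 1 * S.x b := by
  have h1 : (1 : K) ≠ 0 := one_ne_zero
  have hw : ∀ t : K, t ≠ 0 → S.w 1 * S.h t = S.h t⁻¹ * S.w 1 := by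
    intro t ht
    have := S.w_conj h1 ht
    rw [one_pow, one_mul, mul_inv_eq_iff_eq_mul] at this
    rw [show S.h t = S.w t * (S.w 1)⁻¹ from rfl, ← mul_assoc, this, mul_inv_cancel_right,
      show S.h t⁻¹ = S.w t⁻¹ * (S.w 1)⁻¹ from rfl, inv_mul_cancel_right]
  have hw2 : S.w 1 * S.w 1 = S.h (-1) := by
    have e : (S.w 1)⁻¹ = S.h (-1) * S.w 1 := by rw [← w_eq_h, w_inv]
    have e2 := S.h_mul hgen (neg_ne_zero.2 h1) (neg_ne_zero.2 h1)
    rw [neg_mul_neg, one_mul, h_one, eq_comm, mul_eq_one_iff_eq_inv] at e2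
    rw [e2, eq_inv_iff_mul_eq_one, mul_assoc]
    have : S.w 1 * (S.w 1)⁻¹ = 1 := mul_inv_cancel _
    have hcomm : S.w 1 * S.h (-1) = S.h (-1) * S.w 1 := by
      rw [hw (-1) (neg_ne_zero.2 h1), inv_neg, inv_one]
    rw [hcomm, ← e]
    exact this
  let P : G → Prop := fun g => (∃ a t, t ≠ 0 ∧ g = S.x a * S.h t) ∨
    ∃ a t b, t ≠ 0 ∧ g = S.x a * S.h t * S.w 1 * S.x b
  have Px : ∀ u g, P g → P (S.x u * g) := by
    rintro u g (⟨a, t, ht, rfl⟩ | ⟨a, t, b, ht, rfl⟩)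
    · exact Or.inl ⟨u + a, t, ht, by rw [← mul_assoc, S.xadd]⟩
    · exact Or.inr ⟨u + a, t, b, ht, by rw [← mul_assoc, ← mul_assoc, ← mul_assoc, S.xadd]⟩
  have Ph : ∀ s g, s ≠ 0 → P g → P (S.h s * g) := by
    rintro s g hs (⟨a, t, ht, rfl⟩ | ⟨a, t, b, ht, rfl⟩)
    · exact Or.inl ⟨s ^ 2 * a, s * t, mul_ne_zero hs ht, by
        rw [← mul_assoc, S.h_x hs, mul_assoc, ← S.h_mul hgen hs ht]⟩
    · exact Or.inr ⟨s ^ 2 * a, s * t, b, mul_ne_zero hs ht, by
        rw [← mul_assoc, ← mul_assoc, ← mul_assoc, S.h_x hs, mul_assoc (S.x _) (S.h s), ← S.h_mul hgen hs ht]⟩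
  have hwx : ∀ a t : K, t ≠ 0 → S.w 1 * (S.x a * S.h t) = S.h t⁻¹ * S.w 1 * S.x (t⁻¹ ^ 2 * a) := by
    intro a t ht
    have := S.h_x ht (t⁻¹ ^ 2 * a)
    rw [← mul_assoc, ← mul_pow, mul_inv_cancel₀ ht, one_pow, one_mul] at this
    rw [← this, ← mul_assoc, hw t ht]
  have Pw : ∀ g, P g → P (S.w 1 * g) := by
    rintro g (⟨a, t, ht, rfl⟩ | ⟨a, t, b, ht, rfl⟩)
    · exact Or.inr ⟨0, t⁻¹, t⁻¹ ^ 2 * a, inv_ne_zero ht, by rw [x_zero, one_mul, hwx a t ht]⟩
    · rw [← mul_assoc, ← mul_assoc, hwx a t ht, mul_assoc (S.h t⁻¹), mul_assoc (S.h t⁻¹)]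
      simp only [mul_assoc]
      refine Ph _ _ (inv_ne_zero ht) ?_
      simp only [← mul_assoc]
      generalize t⁻¹ ^ 2 * a = c
      rw [S.w_x h1, mul_assoc (S.y _), hw2, inv_one, one_pow, one_mul]
      by_cases hc : c = 0
      · refine Or.inl ⟨b, -1, neg_ne_zero.2 h1, ?_⟩
        rw [hc, neg_zero, y_zero, one_mul, S.h_x (neg_ne_zero.2 h1), neg_one_sq, one_mul]
      · refine Or.inr ⟨-c⁻¹, -c⁻¹, -c⁻¹ + b, neg_ne_zero.2 (inv_ne_zero hc), ?_⟩
        have hy : S.y (-c) = S.x (-c⁻¹) * S.h c⁻¹ * S.w 1 * S.x (-c⁻¹) := by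
          rw [mul_assoc (S.x _) (S.h _), ← w_eq_h]
          show _ = S.x (-c⁻¹) * (S.x c⁻¹ * S.y (-c⁻¹⁻¹) * S.x c⁻¹) * S.x (-c⁻¹)
          rw [← x_inv, inv_inv]
          group
        have hcomm : S.x (-c⁻¹) * S.h (-1) = S.h (-1) * S.x (-c⁻¹) := by
          rw [S.h_x (neg_ne_zero.2 h1), neg_one_sq, one_mul]
        have hcomm' : S.w 1 * S.h (-1) = S.h (-1) * S.w 1 := by
          rw [hw (-1) (neg_ne_zero.2 h1), inv_neg, inv_one]
        rw [hy, mul_assoc (S.x (-c⁻¹) * S.h c⁻¹ * S.w 1), hcomm, ← mul_assoc,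
          mul_assoc (S.x (-c⁻¹) * S.h c⁻¹), hcomm', ← mul_assoc, mul_assoc (S.x (-c⁻¹)) (S.h c⁻¹),
          ← S.h_mul hgen (inv_ne_zero hc) (neg_ne_zero.2 h1), mul_neg_one, mul_assoc, S.xadd]
  have hwinv : ∀ g, P g → P ((S.w 1)⁻¹ * g) := fun g hg => by
    rw [w_inv, w_eq_h, mul_assoc]
    exact Ph _ _ (neg_ne_zero.2 h1) (Pw _ hg)
  have Py : ∀ u g, P g → P (S.y u * g) := by
    intro u g hg
    have e : S.y u = S.w 1 * S.x (-u) * (S.w 1)⁻¹ := by
      rw [S.w_x h1, mul_inv_cancel_right]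
      congr 1
      simp
    rw [e, mul_assoc, mul_assoc]
    exact Pw _ (Px _ _ (hwinv _ hg))
  have hall : P g := by
    refine Subgroup.closure_induction_left (p := fun g _ => P g) ?_ ?_ ?_ (hgen ▸ Subgroup.mem_top g)
    · exact Or.inl ⟨0, 1, h1, by rw [x_zero, h_one, one_mul]⟩
    · rintro _ (⟨u, rfl⟩ | ⟨u, rfl⟩) y _ hy
      · exact Px u y hy
      · exact Py u y hy
    · rintro _ (⟨u, rfl⟩ | ⟨u, rfl⟩) y _ hy
      · rw [x_inv]; exact Px _ y hy
      · rw [y_inv]; exact Py _ y hy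
  exact hall

end Gen

end Rels

open Matrix

theorem cm (A B : SpecialLinearGroup (Fin 2) K) : (A * B).1 = A.1 * B.1 := rfl

/-- The relators, as in the presentation. -/
def rels (K : Type*) [Field K] : Set (FreeGroup (Bool × K)) :=
  {g | ∃ (b : Bool) (t u : K), g = FreeGroup.of (b, t) * FreeGroup.of (b, u) * (FreeGroup.of (b, t + u))⁻¹} ∪
    {g | ∃ (b : Bool) (t u : K), t ≠ 0 ∧
      g = (FreeGroup.of (b, t) * FreeGroup.of (!b, -t⁻¹) * FreeGroup.of (b, t)) * FreeGroup.of (b, u) *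
        (FreeGroup.of (b, t) * FreeGroup.of (!b, -t⁻¹) * FreeGroup.of (b, t))⁻¹ *
          (FreeGroup.of (!b, -(t⁻¹ ^ 2 * u)))⁻¹}

/-- The images of the generators. -/
def el (b : Bool) (t : K) : SpecialLinearGroup (Fin 2) K :=
  if b then ⟨!![1, t; 0, 1], by simp [det_fin_two]⟩ else ⟨!![1, 0; t, 1], by simp [det_fin_two]⟩

theorem el_true (t : K) : ((el true t : SpecialLinearGroup (Fin 2) K) : Matrix (Fin 2) (Fin 2) K) = !![1, t; 0, 1] :=
  rfl

theorem el_false (t : K) : ((el false t : SpecialLinearGroup (Fin 2) K) : Matrix (Fin 2) (Fin 2) K) = !![1, 0; t, 1] :=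
  rfl

theorem el_weyl {t : K} (ht : t ≠ 0) (b : Bool) :
    ((el b t * el (!b) (-t⁻¹) * el b t : SpecialLinearGroup (Fin 2) K) : Matrix (Fin 2) (Fin 2) K) =
      if b then !![0, t; -t⁻¹, 0] else !![0, -t⁻¹; t, 0] := by
  cases b <;>
    · simp only [Bool.not_false, Bool.not_true, cm, el_true, el_false, mul_fin_two,
        if_true, Bool.false_eq_true, if_false]
      ext i j
      fin_cases i <;> fin_cases j <;> simp [ht]

theorem el_rels : ∀ r ∈ rels K, FreeGroup.lift (fun bt : Bool × K => el bt.1 bt.2) r = 1 := by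
  rintro r (⟨b, t, u, rfl⟩ | ⟨b, t, u, ht, rfl⟩)
  · rw [map_mul, map_mul, map_inv, FreeGroup.lift_apply_of, FreeGroup.lift_apply_of, FreeGroup.lift_apply_of,
      mul_inv_eq_one]
    cases b <;> refine Subtype.ext ?_ <;>
      simp [cm, el_true, el_false, mul_fin_two, add_comm]
  · simp only [map_mul, map_inv, FreeGroup.lift_apply_of]
    rw [mul_inv_eq_one, mul_inv_eq_iff_eq_mul]
    refine Subtype.ext ?_
    rw [cm, cm (el (!b) _), el_weyl ht b]
    cases b <;>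
      · simp only [Bool.not_false, Bool.not_true, el_true, el_false, mul_fin_two, if_true, Bool.false_eq_true,
          if_false]
        ext i j
        fin_cases i <;> fin_cases j <;> simp <;> field_simp

theorem main [Finite K] : ∃ e : PresentedGroup (rels K) ≃* SpecialLinearGroup (Fin 2) K,
    (∀ t : K, ((e (PresentedGroup.of (true, t)) : Matrix (Fin 2) (Fin 2) K)) = !![1, t; 0, 1]) ∧
      (∀ t : K, ((e (PresentedGroup.of (false, t)) : Matrix (Fin 2) (Fin 2) K)) = !![1, 0; t, 1]) := by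
  classical
  let φ : PresentedGroup (rels K) →* SpecialLinearGroup (Fin 2) K := PresentedGroup.toGroup (el_rels (K := K))
  have φof : ∀ b t, φ (PresentedGroup.of (b, t)) = el b t := fun b t => PresentedGroup.toGroup.of _
  let S : Rels K (PresentedGroup (rels K)) :=
    { x := fun t => PresentedGroup.of (true, t)
      y := fun t => PresentedGroup.of (false, t)
      xadd := fun t u => by
        rw [← mul_inv_eq_one]
        exact PresentedGroup.mk_eq_one_iff.2 (Subgroup.subset_normalClosure (Or.inl ⟨true, t, u, rfl⟩))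
      yadd := fun t u => by
        rw [← mul_inv_eq_one]
        exact PresentedGroup.mk_eq_one_iff.2 (Subgroup.subset_normalClosure (Or.inl ⟨false, t, u, rfl⟩))
      wx := fun t u ht => by
        rw [← mul_inv_eq_one]
        exact PresentedGroup.mk_eq_one_iff.2 (Subgroup.subset_normalClosure (Or.inr ⟨true, t, u, ht, rfl⟩))
      wy := fun t u ht => by
        rw [← mul_inv_eq_one]
        exact PresentedGroup.mk_eq_one_iff.2 (Subgroup.subset_normalClosure (Or.inr ⟨false, t, u, ht, rfl⟩)) }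
  have hgen : Subgroup.closure (Set.range S.x ∪ Set.range S.y) = ⊤ := by
    refine eq_top_iff.2 ((PresentedGroup.closure_range_of (rels K)).ge.trans (Subgroup.closure_mono ?_))
    rintro _ ⟨⟨b, t⟩, rfl⟩
    cases b
    · exact Or.inr ⟨t, rfl⟩
    · exact Or.inl ⟨t, rfl⟩
  have hx : ∀ t, (φ (S.x t) : Matrix (Fin 2) (Fin 2) K) = !![1, t; 0, 1] := fun t => by
    rw [show φ (S.x t) = el true t from φof true t, el_true]
  have hwm : ∀ t : K, t ≠ 0 → (φ (S.w t) : Matrix (Fin 2) (Fin 2) K) = !![0, t; -t⁻¹, 0] := by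
    intro t ht
    rw [show φ (S.w t) = el true t * el (!true) (-t⁻¹) * el true t by
      simp only [Rels.w, map_mul]; rw [φof true t, φof false]; rfl]
    exact el_weyl ht true
  have hhm : ∀ t : K, t ≠ 0 → (φ (S.h t) : Matrix (Fin 2) (Fin 2) K) = !![t, 0; 0, t⁻¹] := by
    intro t ht
    rw [show S.h t = S.w t * S.w (-1) by rw [Rels.h, Rels.w_inv], map_mul, cm, hwm t ht,
      hwm (-1) (neg_ne_zero.2 one_ne_zero), mul_fin_two]
    ext i j
    fin_cases i <;> fin_cases j <;> simp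
  have hinj : Function.Injective φ := by
    rw [injective_iff_map_eq_one]
    intro g hg
    have hg' : (φ g : Matrix (Fin 2) (Fin 2) K) = 1 := by rw [hg]; rfl
    rcases S.normal_form hgen g with ⟨a, t, ht, rfl⟩ | ⟨a, t, b, ht, rfl⟩
    · rw [map_mul, cm, hx, hhm t ht, mul_fin_two] at hg'
      have e1 := congrFun (congrFun hg' 0) 0
      have e2 := congrFun (congrFun hg' 0) 1
      simp at e1 e2
      rcases e2 with e2 | e2
      · rw [e1, e2, S.x_zero, S.h_one, one_mul]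
      · exact absurd e2 ht
    · exfalso
      rw [map_mul, map_mul, map_mul, cm, cm,
        cm, hx, hx, hhm t ht, hwm 1 one_ne_zero, mul_fin_two, mul_fin_two, mul_fin_two] at hg'
      have e := congrFun (congrFun hg' 1) 0
      simp at e
      exact ht e
  have hsurj : Function.Surjective φ := by
    intro A
    have mem : ∀ b t, el b t ∈ φ.range := fun b t => ⟨PresentedGroup.of (b, t), φof b t⟩
    have gen : ∀ B : SpecialLinearGroup (Fin 2) K, (B : Matrix (Fin 2) (Fin 2) K) 1 0 ≠ 0 → B ∈ φ.range := by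
      intro B hc
      have : B = el true (((B : Matrix (Fin 2) (Fin 2) K) 0 0 - 1) / (B : Matrix (Fin 2) (Fin 2) K) 1 0) *
          el false ((B : Matrix (Fin 2) (Fin 2) K) 1 0) *
          el true (((B : Matrix (Fin 2) (Fin 2) K) 1 1 - 1) / (B : Matrix (Fin 2) (Fin 2) K) 1 0) := by
        refine Subtype.ext ?_
        have hdet := B.2
        rw [det_fin_two] at hdet
        rw [cm, cm, el_true, el_false, el_true, mul_fin_two,
          mul_fin_two]
        ext i j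
        fin_cases i <;> fin_cases j <;> simp <;> field_simp <;> grind
      rw [this]
      exact mul_mem (mul_mem (mem _ _) (mem _ _)) (mem _ _)
    by_cases hc : (A : Matrix (Fin 2) (Fin 2) K) 1 0 = 0
    · have hdet := A.2
      rw [det_fin_two, hc, mul_zero, sub_zero] at hdet
      have h' := gen (el false 1 * A) (by
        rw [cm, el_false, Matrix.mul_apply, Fin.sum_univ_two]
        simp [hc]
        exact fun h => by rw [h, zero_mul] at hdet; exact zero_ne_one hdet)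
      simpa using mul_mem (inv_mem (mem false 1)) h'
    · exact gen A hc
  refine ⟨MulEquiv.ofBijective φ ⟨hinj, hsurj⟩, fun t => ?_, fun t => ?_⟩
  · exact hx t
  · show (φ (PresentedGroup.of (false, t)) : Matrix (Fin 2) (Fin 2) K) = _
    rw [φof]; rfl

end Cfsg.Agent.Small.SteinbergSL2
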