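import Cfsg.Agent.Lib.Small.SchurLifts
import Cfsg.Agent.Lib.Small.SteinbergSL2
import Cfsg.Prelude.Def_KGroupFacts

/-!
# Central extensions of quotients of `SL_2` lift to `SL_2`
-/

set_option autoImplicit false
set_option linter.unusedSectionVars false

namespace Cfsg.Agent.Small.SchurSL2

open Matrix SchurLifts
open scoped commutatorElement

variable {K : Type*} [Field K]

/-- An alternating biadditive function invariant under the squares vanishes. -/
theorem alt_eq_one [Fintype K] {A : Type*} [CommGroup A] (h4 : Fintype.card K ≠ 4) (h9 : Fintype.card K ≠ 9)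
    (c : K → K → A) (hl : ∀ t t' u, c (t + t') u = c t u * c t' u) (hr : ∀ t u u', c t (u + u') = c t u * c t u')
    (halt : ∀ t, c t t = 1) (hinv : ∀ r, r ≠ 0 → ∀ t u, c (r ^ 2 * t) (r ^ 2 * u) = c t u) :
    ∀ t u, c t u = 1 := by
  classical
  obtain ⟨p, hp⟩ := CharP.exists K
  obtain ⟨k, hp', hk⟩ := FiniteField.card K p
  haveI := Fact.mk hp'
  intro t u
  by_cases hk1 : (k : ℕ) = 1
  · rw [hk1, pow_one] at hk
    have hsurj : ∀ x : K, ∃ m : ℕ, x = (m : K) := fun x => by
      obtain ⟨z, hz⟩ := (ZMod.castHom_bijective K hk).2 x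
      exact ⟨z.val, by rw [← hz, ← map_natCast (ZMod.castHom (dvd_refl p) K), ZMod.natCast_zmod_val]⟩
    have c0l : ∀ b, c 0 b = 1 := fun b => by
      have := hl 0 0 b; rwa [add_zero, left_eq_mul] at this
    have c0r : ∀ a, c a 0 = 1 := fun a => by
      have := hr a 0 0; rwa [add_zero, left_eq_mul] at this
    obtain ⟨m, rfl⟩ := hsurj t
    obtain ⟨l, rfl⟩ := hsurj u
    have h1 : ∀ l : ℕ, c 1 (l : K) = 1 := by
      intro l
      induction l with
      | zero => rw [Nat.cast_zero, c0r]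
      | succ l ih => rw [Nat.cast_succ, hr, ih, halt, one_mul]
    induction m with
    | zero => rw [Nat.cast_zero, c0l]
    | succ m ih => rw [Nat.cast_succ, hl, ih, h1, one_mul]
  have hk2 : 2 ≤ (k : ℕ) := by have := k.pos; omega
  have hpk : p ^ 2 ≤ Fintype.card K := by rw [hk]; exact Nat.pow_le_pow_right hp'.pos hk2
  have hodd : p ≠ 2 → (2 : K) ≠ 0 := fun hp2 h => by
    have h' : ((2 : ℕ) : K) = 0 := by exact_mod_cast h
    exact hp2 ((Nat.prime_dvd_prime_iff_eq hp' Nat.prime_two).1 ((CharP.cast_eq_zero_iff K p 2).1 h'))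
  obtain ⟨r, w, hr0, hw0, hwr, hs⟩ :
      ∃ r w : K, r ≠ 0 ∧ w ≠ 0 ∧ w ^ 2 = 1 + r ^ 2 ∧ (r ^ 2) ^ 2 + r ^ 2 + 1 ≠ 0 := by
    by_cases hp2 : p = 2
    · subst hp2
      obtain ⟨x, hx⟩ : ∃ x : K, x ^ 4 ≠ x := by
        by_contra! hall
        have hd : (Polynomial.X ^ 4 - Polynomial.X : Polynomial K) = 0 := by
          refine Polynomial.eq_zero_of_natDegree_lt_card_of_eval_eq_zero _ Function.injective_id
            (fun x => by simp [hall x]) ?_
          rw [FiniteField.X_pow_card_sub_X_natDegree_eq K (p := 4) (by norm_num)]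
          omega
        have := congrArg (fun P : Polynomial K => P.coeff 4) hd
        simp [Polynomial.coeff_X] at this
      obtain ⟨r, hr⟩ := FiniteField.isSquare_of_char_two (ringChar.eq_iff.2 hp) x
      have h2 : (2 : K) = 0 := by exact_mod_cast (CharP.cast_eq_zero K 2)
      refine ⟨r, 1 + r, fun h => hx ?_, fun h => hx ?_, ?_, fun h => hx ?_⟩
      · subst hr; subst h; simp
      · subst hr
        have : r = 1 := by linear_combination h - h2
        subst this; simp
      · linear_combination r * h2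
      · subst hr
        linear_combination (r * r * (r * r - 1)) * h
    · have h2 := hodd hp2
      have hq : 25 ≤ Fintype.card K := by
        have hp3 : 3 ≤ p := by have := hp'.two_le; omega
        by_cases hp5 : 5 ≤ p
        · nlinarith [Nat.pow_le_pow_left hp5 2]
        · have hp3' : p = 3 := by
            have : p ≠ 4 := fun h => absurd (h ▸ hp') (by norm_num)
            omega
          subst hp3'
          have hk3 : 3 ≤ (k : ℕ) := by
            rcases (show 3 ≤ (k : ℕ) ∨ (k : ℕ) = 2 by omega) with h | h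
            · exact h
            · exfalso; rw [h] at hk; exact h9 (by rw [hk]; norm_num)
          calc 25 ≤ 3 ^ 3 := by norm_num
            _ ≤ 3 ^ (k : ℕ) := Nat.pow_le_pow_right (by norm_num) hk3
            _ = _ := hk.symm
      obtain ⟨x, hx⟩ : ∃ x : K, x * (x ^ 4 - 1) * (x ^ 8 + 14 * x ^ 4 + 1) ≠ 0 := by
        by_contra! hall
        obtain ⟨P, hP⟩ : ∃ P : Polynomial K, P = Polynomial.X * (Polynomial.X ^ 4 - 1) *
            (Polynomial.X ^ 8 + Polynomial.C 14 * Polynomial.X ^ 4 + 1) := ⟨_, rfl⟩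
        have hd : P.natDegree = 13 := by
          rw [hP]
          compute_degree!
        have h0 : P = 0 := Polynomial.eq_zero_of_natDegree_lt_card_of_eval_eq_zero _ Function.injective_id
          (fun x => by simpa [hP] using hall x) (by omega)
        rw [h0, Polynomial.natDegree_zero] at hd
        omega
      simp only [mul_ne_zero_iff] at hx
      obtain ⟨⟨hx0, hx4⟩, hx8⟩ := hx
      refine ⟨(x - x⁻¹) / 2, (x + x⁻¹) / 2, fun h => hx4 ?_, fun h => hx4 ?_, ?_, fun h => hx8 ?_⟩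
      · field_simp at h
        linear_combination (x ^ 2 + 1) * h
      · field_simp at h
        linear_combination (x ^ 2 - 1) * h
      · field_simp
        ring
      · field_simp at h
        linear_combination h
  have hs0 : r ^ 2 ≠ 0 := pow_ne_zero 2 hr0
  have key : ∀ v, c 1 v = 1 := by
    intro v
    obtain ⟨v', hv'⟩ : ∃ v', v = v' + r ^ 2 * v' + v' / r ^ 2 :=
      ⟨v * r ^ 2 / ((r ^ 2) ^ 2 + r ^ 2 + 1), by
        clear hwr
        generalize r ^ 2 = s at hs0 hs ⊢
        obtain ⟨D, hD⟩ : ∃ D, D = s ^ 2 + s + 1 := ⟨_, rfl⟩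
        rw [← hD] at hs ⊢
        field_simp
        rw [hD]
        ring⟩
    rw [hv', hr, hr]
    have e1 := hinv r hr0 1 v'
    have e2 := hinv w hw0 1 v'
    have e3 := hinv r hr0 1 (v' / r ^ 2)
    rw [mul_one] at e1 e2 e3
    rw [mul_div_cancel₀ v' hs0] at e3
    rw [hwr, add_mul, one_mul, hl, hr, hr, e1, e3] at e2
    -- e2 : c 1 v' * c 1 (r ^ 2 * v') * (c 1 (v' / r ^ 2) * c 1 v') = c 1 v'
    rwa [← mul_assoc, mul_eq_right] at e2
  have hsq : ∀ r' v, c (r' ^ 2) v = 1 := by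
    intro r' v
    by_cases h : r' = 0
    · subst h
      have := hl 0 0 v
      rw [add_zero, left_eq_mul] at this
      rwa [zero_pow two_ne_zero]
    · have := hinv r' h 1 (v / r' ^ 2)
      rwa [mul_one, mul_div_cancel₀ v (pow_ne_zero 2 h), key] at this
  by_cases hp2 : p = 2
  · subst hp2
    obtain ⟨r', rfl⟩ := FiniteField.isSquare_of_char_two (ringChar.eq_iff.2 hp) t
    rw [← pow_two]; exact hsq r' u
  · have h2 := hodd hp2
    have e : t + ((t - 1) / 2) ^ 2 = ((t + 1) / 2) ^ 2 := by field_simp; ring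
    have := hl t (((t - 1) / 2) ^ 2) u
    rwa [e, hsq, hsq, mul_one, eq_comm] at this

/-- The torus. -/
def tor (s : Kˣ) : SpecialLinearGroup (Fin 2) K :=
  ⟨!![(s : K), 0; 0, ((s⁻¹ : Kˣ) : K)], by simp [det_fin_two]⟩

/-- Its character on a root subgroup. -/
def chi (b : Bool) (s : Kˣ) : K := if b then (s : K) ^ 2 else ((s⁻¹ : Kˣ) : K) ^ 2

open SteinbergSL2 in
theorem tor_el (b : Bool) (s : Kˣ) (t : K) : tor s * el b t = el b (chi b s * t) * tor s := by
  refine Subtype.ext ?_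
  rw [SteinbergSL2.cm, SteinbergSL2.cm]
  cases b <;>
    · simp only [chi, tor, el_true, el_false, if_true, Bool.false_eq_true, if_false, mul_fin_two]
      ext i j
      fin_cases i <;> fin_cases j <;> simp <;> field_simp

theorem tor_comm (s a : Kˣ) : tor s * tor a = tor a * tor s := by
  refine Subtype.ext ?_
  rw [SteinbergSL2.cm, SteinbergSL2.cm]
  simp only [tor, mul_fin_two]
  ext i j
  fin_cases i <;> fin_cases j <;> simp <;> ring

theorem tor_inv (a : Kˣ) : (tor a)⁻¹ = tor a⁻¹ := by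
  refine (eq_inv_of_mul_eq_one_left ?_).symm
  refine Subtype.ext ?_
  rw [SteinbergSL2.cm]
  simp only [tor, mul_fin_two]
  ext i j
  fin_cases i <;> fin_cases j <;> simp

open SteinbergSL2 in
theorem weyl_el (b : Bool) {t : K} (ht : t ≠ 0) (u : K) :
    (el b t * el (!b) (-t⁻¹) * el b t) * el b u * (el b t * el (!b) (-t⁻¹) * el b t)⁻¹ =
      el (!b) (-(t⁻¹ ^ 2 * u)) := by
  rw [mul_inv_eq_iff_eq_mul]
  refine Subtype.ext ?_
  rw [SteinbergSL2.cm, SteinbergSL2.cm (el (!b) _), el_weyl ht b]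
  cases b <;>
    · simp only [Bool.not_false, Bool.not_true, el_true, el_false, mul_fin_two, if_true, Bool.false_eq_true,
        if_false]
      ext i j
      fin_cases i <;> fin_cases j <;> simp <;> field_simp

open SteinbergSL2 in
theorem weyl_tor (b : Bool) {t : K} (ht : t ≠ 0) (a : Kˣ) :
    (el b t * el (!b) (-t⁻¹) * el b t) * tor a * (el b t * el (!b) (-t⁻¹) * el b t)⁻¹ = (tor a)⁻¹ := by
  rw [mul_inv_eq_iff_eq_mul, tor_inv]
  refine Subtype.ext ?_
  rw [SteinbergSL2.cm, SteinbergSL2.cm (tor a⁻¹), el_weyl ht b]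
  cases b <;>
    · simp only [tor, mul_fin_two, if_true, Bool.false_eq_true, if_false]
      ext i j
      fin_cases i <;> fin_cases j <;> simp <;> ring

theorem el_add (b : Bool) (t u : K) :
    SteinbergSL2.el b t * SteinbergSL2.el b u = SteinbergSL2.el b (t + u) := by
  refine Subtype.ext ?_
  rw [SteinbergSL2.cm]
  cases b <;> simp [SteinbergSL2.el_true, SteinbergSL2.el_false, mul_fin_two, add_comm]

theorem el_comm (b : Bool) (t u : K) : Commute (SteinbergSL2.el b t) (SteinbergSL2.el b u) := by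
  rw [commute_iff_eq, el_add, el_add, add_comm]

theorem chi_not (b : Bool) (s : Kˣ) : chi (!b) s = (chi b s)⁻¹ := by
  cases b <;> simp [chi]

section Lift

open SteinbergSL2

variable [Fintype K] {Γ Q : Type*} [Group Γ] [Group Q] (C : Central Γ Q)
  (ι : SpecialLinearGroup (Fin 2) K →* Q)

/-- A lift of the Steinberg relations gives a lift of `ι`. -/
theorem hom_of_rels {G : Type*} [Group G] (π : G →* Q) (R : Rels K G)
    (hx : ∀ t, π (R.x t) = ι (el true t)) (hy : ∀ t, π (R.y t) = ι (el false t)) :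
    ∃ θ : SpecialLinearGroup (Fin 2) K →* G, π.comp θ = ι := by
  obtain ⟨Y, hY⟩ : ∃ Y : Bool → K → G, Y = fun b => if b then R.x else R.y := ⟨_, rfl⟩
  have hrel : ∀ r ∈ rels K, FreeGroup.lift (fun p : Bool × K => Y p.1 p.2) r = 1 := by
    rintro r (⟨b, t, u, rfl⟩ | ⟨b, t, u, ht, rfl⟩)
    · simp only [map_mul, map_inv, FreeGroup.lift_apply_of, hY]
      cases b
      · rw [mul_inv_eq_one]; exact R.yadd t u
      · rw [mul_inv_eq_one]; exact R.xadd t u
    · simp only [map_mul, map_inv, FreeGroup.lift_apply_of, hY]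
      cases b
      · rw [mul_inv_eq_one]; exact R.wy t u ht
      · rw [mul_inv_eq_one]; exact R.wx t u ht
  obtain ⟨e, he, he'⟩ := SteinbergSL2.main (K := K)
  refine ⟨(PresentedGroup.toGroup hrel).comp e.symm.toMonoidHom, ?_⟩
  suffices h : π.comp (PresentedGroup.toGroup hrel) = ι.comp e.toMonoidHom by
    ext g
    have := DFunLike.congr_fun h (e.symm g)
    simpa using this
  refine PresentedGroup.ext fun p => ?_
  obtain ⟨b, t⟩ := p
  show π (PresentedGroup.toGroup hrel _) = ι (e (PresentedGroup.of _))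
  rw [PresentedGroup.toGroup.of, hY]
  cases b
  · rw [show e (PresentedGroup.of (false, t)) = el false t from Subtype.ext (he' t)]; exact hy t
  · rw [show e (PresentedGroup.of (true, t)) = el true t from Subtype.ext (he t)]; exact hx t

theorem exists_hom (h4 : 4 < Fintype.card K) (h9 : Fintype.card K ≠ 9) :
    ∃ θ : SpecialLinearGroup (Fin 2) K →* Γ, C.π.comp θ = ι := by
  classical
  obtain ⟨a, ha⟩ : ∃ a : Kˣ, a ^ 2 ≠ 1 := by
    obtain ⟨a, ha⟩ := IsCyclic.exists_generator (α := Kˣ)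
    refine ⟨a, fun he => ?_⟩
    have h1 := orderOf_le_of_pow_eq_one two_pos he
    rw [orderOf_eq_card_of_forall_mem_zpowers ha, Nat.card_eq_fintype_card, Fintype.card_units] at h1
    omega
  obtain ⟨X, hX⟩ : ∃ X : Bool → K → Γ, ∀ b t, X b t = C.L (ι (el b t)) := ⟨_, fun _ _ => rfl⟩
  have hπX : ∀ b t, C.π (X b t) = ι (el b t) := fun b t => by rw [hX, C.π_L]
  have hXadd : ∀ b t t', ι (el b t) * ι (el b t') = ι (el b (t + t')) := fun b t t' => by
    rw [← map_mul, el_add]
  -- lifts of one root subgroup commute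
  have hcomm : ∀ b t u, Commute (X b t) (X b u) := by
    intro b t u
    obtain ⟨f, hf⟩ : ∃ f : K → Q, f = fun t => ι (el b t) := ⟨_, rfl⟩
    have hfg : ∀ t u, Commute (f t) (f u) := fun t u => by rw [hf]; exact (el_comm b t u).map ι
    have hfadd : ∀ t t', f t * f t' = f (t + t') := fun t t' => by rw [hf]; exact hXadd b t t'
    letI : CommGroup (Subgroup.center Γ) :=
      { mul_comm := fun a b => Subtype.ext (Subgroup.mem_center_iff.1 b.2 a.1) }
    obtain ⟨c, hc⟩ : ∃ c : K → K → Subgroup.center Γ, ∀ t u, (c t u : Γ) = C.pair f f t u :=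
      ⟨fun t u => ⟨_, C.pair_central hfg t u⟩, fun _ _ => rfl⟩
    have main : c t u = 1 := by
      refine alt_eq_one h4.ne' h9 c (fun t t' u => Subtype.ext ?_) (fun t u u' => Subtype.ext ?_)
        (fun t => Subtype.ext ?_) (fun r hr t u => Subtype.ext ?_) t u
      · rw [Subgroup.coe_mul, hc, hc, hc, C.pair_add_left hfg hfadd t t' u]
        exact Subgroup.mem_center_iff.1 (C.pair_central hfg t u) _
      · rw [Subgroup.coe_mul, hc, hc, hc]
        exact C.pair_add_right hfg hfadd t u u'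
      · rw [hc]; exact commutatorElement_self _
      · rw [hc, hc]
        obtain ⟨s, hs⟩ : ∃ s : Kˣ, chi b s = r ^ 2 := by
          cases b
          · exact ⟨(Units.mk0 r hr)⁻¹, by simp [chi]⟩
          · exact ⟨Units.mk0 r hr, by simp [chi]⟩
        refine C.pair_invariant (d := ι (tor s)) hfg ?_ ?_ <;>
          · rw [hf]
            show ι (tor s) * ι (el b _) * (ι (tor s))⁻¹ = ι (el b _)
            rw [← map_mul, tor_el, hs, map_mul, mul_inv_cancel_right]
    refine commutatorElement_eq_one_iff_mul_comm.1 ?_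
    have := congrArg Subtype.val main
    rw [hc] at this
    rw [hX, hX]
    simpa [Central.pair, hf] using this
  obtain ⟨H, hH⟩ : ∃ H, H = C.L (ι (tor a)) := ⟨_, rfl⟩
  have hπH : C.π H = ι (tor a) := by rw [hH, C.π_L]
  obtain ⟨Y, hY⟩ : ∃ Y : Bool → K → Γ, ∀ b t, Y b t = ⁅H, X b (t / (chi b a - 1))⁆ := ⟨_, fun _ _ => rfl⟩
  have hχ0 : ∀ b, chi b a ≠ 0 := fun b => by cases b <;> simp [chi]
  have hχ1 : ∀ b, chi b a - 1 ≠ 0 := fun b => by
    rw [sub_ne_zero]
    cases b <;> simp only [chi, if_true, Bool.false_eq_true, if_false] <;> intro h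
    · exact ha (inv_eq_one.1 (Units.ext (by simpa using h)))
    · exact ha (Units.ext (by simpa using h))
  have hπY : ∀ b t, C.π (Y b t) = ι (el b t) := by
    intro b t
    rw [hY, map_commutatorElement, hπH, hπX, ← map_commutatorElement, commutatorElement_def, tor_el,
      mul_inv_cancel_right, show el b (t / (chi b a - 1)) = el b (t / (chi b a - 1)) from rfl]
    congr 1
    rw [mul_inv_eq_iff_eq_mul, el_add]
    congr 1
    field_simp [hχ1 b]
    ring
  have hYadd : ∀ b t u, Y b t * Y b u = Y b (t + u) := by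
    intro b t u
    rw [hY, hY, hY, add_div, hX, hX, hX]
    refine (C.add_right (fun v => ι (el b v)) (hXadd b) _ _ ?_).symm
    refine C.commute_indep (a' := X b (t / (chi b a - 1))) (b' := X b u) (by rw [hπX, C.π_L]) ?_ (hcomm b _ _)
    rw [← hX, ← hY, hπY, hπX]
  have hY0 : ∀ b, Y b 0 = 1 := fun b => by
    have := hYadd b 0 0; rwa [add_zero, mul_eq_left] at this
  have hYneg : ∀ b t, Y b (-t) = (Y b t)⁻¹ := fun b t =>
    eq_inv_of_mul_eq_one_left (by rw [hYadd, neg_add_cancel, hY0])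
  have hHY : ∀ b t, H * Y b t * H⁻¹ = Y b (chi b a * t) := by
    intro b t
    rw [hY, hY]
    refine C.conj_comm ?_ ?_
    · rw [mul_inv_cancel_right]
    · rw [map_mul, map_mul, map_inv, hπH, hπX, hπX, ← map_mul, tor_el, map_mul, mul_inv_cancel_right, mul_div_assoc]
  have hWY : ∀ b t u, t ≠ 0 →
      Y b t * Y (!b) (-t⁻¹) * Y b t * Y b u * (Y b t * Y (!b) (-t⁻¹) * Y b t)⁻¹ = Y (!b) (-(t⁻¹ ^ 2 * u)) := by
    intro b t u ht
    obtain ⟨W, hW⟩ : ∃ W, W = Y b t * Y (!b) (-t⁻¹) * Y b t := ⟨_, rfl⟩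
    obtain ⟨z, hz⟩ : ∃ z, z = -(t⁻¹ ^ 2 * (u / (chi b a - 1))) := ⟨_, rfl⟩
    have hπW : C.π W = ι (el b t * el (!b) (-t⁻¹) * el b t) := by
      rw [hW, map_mul, map_mul, hπY, hπY, map_mul, map_mul]
    rw [← hW]
    calc W * Y b u * W⁻¹ = ⁅H⁻¹, X (!b) z⁆ := by
          rw [hY]
          refine C.conj_comm ?_ ?_
          · rw [map_mul, map_mul, map_inv, map_inv, hπH, hπW, ← map_inv, ← map_inv, ← map_mul, ← map_mul,
              weyl_tor b ht]
          · rw [map_mul, map_mul, map_inv, hπX, hπX, hπW, ← map_inv, ← map_mul, ← map_mul, weyl_el b ht, hz]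
      _ = H⁻¹ * (⁅H, X (!b) z⁆)⁻¹ * H := by simp only [commutatorElement_def]; group
      _ = Y (!b) (-(t⁻¹ ^ 2 * u)) := by
          have e1 : ⁅H, X (!b) z⁆ = Y (!b) (z * (chi (!b) a - 1)) := by
            rw [hY, mul_div_cancel_right₀ z (hχ1 (!b))]
          have e2 := hHY (!b) (-(t⁻¹ ^ 2 * u))
          rw [e1, ← hYneg, show -(z * (chi (!b) a - 1)) = chi (!b) a * -(t⁻¹ ^ 2 * u) by
            rw [hz, chi_not]; field_simp [hχ0 b, hχ1 b]; ring, ← e2]
          group
  exact hom_of_rels ι C.π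
    { x := Y true
      y := Y false
      xadd := hYadd true
      yadd := hYadd false
      wx := hWY true
      wy := hWY false } (hπY true) (hπY false)

end Lift

/-- A kernel inside the commutators of a group mapping to one with a section is trivial. -/
theorem ker_eq_one_of_section {Γ G Q : Type*} [Group Γ] [Group G] [Group Q] (σ : Γ →* Q)
    (hσ : σ.ker ≤ commutator Γ) (ψ : Γ →* G) (hψ : Function.Injective ψ) (Φ : G →* Q) (hΦψ : Φ.comp ψ = σ)
    (hΦ : Φ.ker ≤ Subgroup.center G) (θ : Q →* G) (hθ : Φ.comp θ = MonoidHom.id Q) : ∀ k ∈ σ.ker, k = 1 := by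
  have hle : commutator G ≤ θ.range := by
    rw [commutator_def, Subgroup.commutator_le]
    intro x _ y _
    let C : Central G Q := ⟨Φ, fun q => ⟨θ q, DFunLike.congr_fun hθ q⟩, hΦ⟩
    rw [C.comm_indep (a := x) (b := y) (a' := θ (Φ x)) (b' := θ (Φ y)) (DFunLike.congr_fun hθ _).symm
      (DFunLike.congr_fun hθ _).symm, ← map_commutatorElement]
    exact ⟨_, rfl⟩
  intro k hk
  obtain ⟨q, hq⟩ : ψ k ∈ θ.range := hle (by
    have := Subgroup.mem_map_of_mem ψ (hσ hk)
    rw [commutator_def, Subgroup.map_commutator] at this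
    rw [commutator_def]
    exact Subgroup.commutator_mono le_top le_top this)
  apply hψ
  have h1 : q = 1 := by
    have := DFunLike.congr_fun hθ q
    rw [MonoidHom.comp_apply, hq, ← MonoidHom.comp_apply, hΦψ, MonoidHom.mem_ker.1 hk] at this
    exact this.symm
  rw [← hq, h1, map_one, map_one]

section Small

open SteinbergSL2

theorem zmod_two : ∀ t : ZMod 2, t ≠ 0 → t = 1 ∨ t = -1 := by decide

theorem zmod_three : ∀ t : ZMod 3, t ≠ 0 → t = 1 ∨ t = -1 := by decide

/-- The braid relation gives the Steinberg relations over the prime fields of order two and three. -/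
theorem rels_of_braid {p : ℕ} [Fact p.Prime] (hp : p = 2 ∨ p = 3) {G : Type*} [Group G] (X Y : G)
    (hX : X ^ p = 1) (hY : Y ^ p = 1) (hb : X * Y * X = Y * X * Y) :
    ∃ R : Rels (ZMod p) G, (∀ n : ℕ, R.x (n : ZMod p) = X ^ n) ∧ (∀ n : ℕ, R.y (-(n : ZMod p)) = Y ^ n) := by
  obtain ⟨W, hW⟩ : ∃ W, W = X * Y * X := ⟨_, rfl⟩
  have cx : ∀ n, SemiconjBy W (X ^ n) (Y ^ n) := fun n => SemiconjBy.pow_right (by
    show W * X = Y * W
    rw [hW]; nth_rw 1 [hb]; simp only [mul_assoc]) n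
  have cy : ∀ n, SemiconjBy W (Y ^ n) (X ^ n) := fun n => SemiconjBy.pow_right (by
    show W * Y = X * W
    rw [hW]; nth_rw 2 [hb]; simp only [mul_assoc]) n
  obtain ⟨f, hf⟩ : ∃ f : G → ZMod p → G, f = fun g t => g ^ t.val := ⟨_, rfl⟩
  have fnat : ∀ g : G, g ^ p = 1 → ∀ n : ℕ, f g (n : ZMod p) = g ^ n := fun g hg n => by
    simp only [hf, ZMod.val_natCast]
    rw [← pow_eq_pow_mod n hg]
  have fadd : ∀ g : G, g ^ p = 1 → ∀ t u, f g t * f g u = f g (t + u) := fun g hg t u => by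
    simp only [hf, ZMod.val_add, ← pow_add]
    rw [← pow_eq_pow_mod _ hg]
  have f1 : ∀ g : G, f g 1 = g := fun g => by
    simp only [hf, ZMod.val_one, pow_one]
  have fneg : ∀ g : G, g ^ p = 1 → ∀ t, f g (-t) = (f g t)⁻¹ := fun g hg t => by
    refine eq_inv_of_mul_eq_one_left ?_
    rw [fadd g hg, neg_add_cancel]
    simp [hf]
  have hall : ∀ t : ZMod p, t ≠ 0 → t = 1 ∨ t = -1 := by
    rcases hp with rfl | rfl
    · exact zmod_two
    · exact zmod_three
  refine ⟨{
    x := f X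
    y := fun t => f Y (-t)
    xadd := fadd X hX
    yadd := fun t u => by rw [fadd Y hY, ← neg_add]
    wx := fun t u ht => ?_
    wy := fun t u ht => ?_ }, fnat X hX, fun n => by show f Y (- -(n : ZMod p)) = _; rw [neg_neg, fnat Y hY]⟩
  · rcases hall t ht with rfl | rfl
    · simp only [inv_one, neg_neg, one_pow, one_mul, f1]
      rw [← hW, mul_inv_eq_iff_eq_mul]
      simp only [hf]; exact cx u.val
    · have e : f X (-1) * f Y (- -(-1 : ZMod p)⁻¹) * f X (-1) = W⁻¹ := by
        rw [inv_neg, inv_one, neg_neg, fneg X hX, fneg Y hY, f1, f1, hW]; group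
      simp only [inv_neg, inv_one, neg_neg, neg_sq, one_pow, one_mul] at e ⊢
      rw [e, inv_inv, mul_assoc, inv_mul_eq_iff_eq_mul, eq_comm]
      simp only [hf]; exact cy u.val
  · rcases hall t ht with rfl | rfl
    · have e : f Y (-1) * f X (-(1 : ZMod p)⁻¹) * f Y (-1) = W⁻¹ := by
        rw [inv_one, fneg X hX, fneg Y hY, f1, f1, hW, hb]; group
      simp only [inv_one, one_pow, one_mul] at e ⊢
      rw [e, inv_inv, mul_assoc, inv_mul_eq_iff_eq_mul, eq_comm]
      simp only [hf]; exact cx (-u).val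
    · simp only [inv_neg, inv_one, neg_neg, neg_sq, one_pow, one_mul, f1]
      rw [← hb, ← hW, mul_inv_eq_iff_eq_mul]
      simp only [hf]; exact cy (-u).val

/-- `SL(2, p)`, `p ≤ 3`, has trivial multiplier. -/
theorem ker_eq_one_small {p : ℕ} [Fact p.Prime] (hp : p = 2 ∨ p = 3) {Γ : Type*} [Group Γ]
    (σ : Γ →* SpecialLinearGroup (Fin 2) (ZMod p)) (hσ : Cfsg.IsStemExtension σ) : ∀ k ∈ σ.ker, k = 1 := by
  obtain ⟨hsurj, hcent, hcomm⟩ := hσ
  obtain ⟨X, hX⟩ := hsurj (el true 1)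
  obtain ⟨Y₀, hY₀⟩ := hsurj (el false (-1))
  have hb₀ : (el true (1 : ZMod p) * el false (-1) * el true 1 : SpecialLinearGroup (Fin 2) (ZMod p)) =
      el false (-1) * el true 1 * el false (-1) := by
    refine Subtype.ext ?_
    simp only [SteinbergSL2.cm, el_true, el_false, mul_fin_two]
    ext i j
    fin_cases i <;> fin_cases j <;> simp
  obtain ⟨z, hzdef⟩ : ∃ z, z = (Y₀ * X * Y₀)⁻¹ * (X * Y₀ * X) := ⟨_, rfl⟩
  have hzk : z ∈ σ.ker := by
    rw [hzdef, MonoidHom.mem_ker, map_mul, map_inv, map_mul, map_mul, map_mul, map_mul, hX, hY₀, hb₀, inv_mul_cancel]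
  have hz : ∀ g, g * z = z * g := fun g => Subgroup.mem_center_iff.1 (hcent hzk) g
  obtain ⟨Y, hY⟩ : ∃ Y, Y = z * Y₀ := ⟨_, rfl⟩
  have hσY : σ Y = el false (-1) := by rw [hY, map_mul, MonoidHom.mem_ker.1 hzk, one_mul, hY₀]
  have hb : X * Y * X = Y * X * Y := by
    have e : X * Y₀ * X = Y₀ * X * Y₀ * z := by rw [hzdef]; group
    calc X * Y * X = z * (X * Y₀ * X) := by rw [hY, ← mul_assoc X z, hz X]; simp only [mul_assoc]
      _ = z * (Y₀ * X * (Y₀ * z)) := by rw [e]; simp only [mul_assoc]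
      _ = Y * X * Y := by rw [hY, hz Y₀]; simp only [mul_assoc]
  obtain ⟨c, hc⟩ : ∃ c, c = X ^ p := ⟨_, rfl⟩
  have hpow : ∀ b : Bool, ∀ n : ℕ, ∀ v : ZMod p,
      (el b v : SpecialLinearGroup (Fin 2) (ZMod p)) ^ n = el b (n * v) := by
    intro b n v
    induction n with
    | zero =>
      refine Subtype.ext ?_
      cases b <;> simp [el_true, el_false, one_fin_two]
    | succ n ih => rw [pow_succ, ih, el_add, Nat.cast_succ, add_mul, one_mul]
  have hck : c ∈ σ.ker := by
    rw [hc, MonoidHom.mem_ker, map_pow, hX, hpow, ZMod.natCast_self, zero_mul]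
    refine Subtype.ext ?_
    simp [el_true, one_fin_two]
  have hcY : Y ^ p = c := by
    have h : SemiconjBy (X * Y) (X ^ p) (Y ^ p) := SemiconjBy.pow_right (by
      show X * Y * X = Y * (X * Y); rw [hb, mul_assoc]) p
    have h' : X * Y * X ^ p = Y ^ p * (X * Y) := h
    rw [← hc, Subgroup.mem_center_iff.1 (hcent hck) (X * Y)] at h'
    exact (mul_right_cancel h').symm
  -- enlarge the centre by a degree
  obtain ⟨N, hN⟩ : ∃ N : Subgroup (Γ × Multiplicative ℤ),
      N = Subgroup.zpowers (c, Multiplicative.ofAdd (p : ℤ)) := ⟨_, rfl⟩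
  haveI hNn : N.Normal := ⟨fun n hn g => by
    rw [hN] at hn
    obtain ⟨i, rfl⟩ := hn
    have hcen : (c, Multiplicative.ofAdd (p : ℤ)) ∈ Subgroup.center (Γ × Multiplicative ℤ) :=
      Subgroup.mem_center_iff.2 fun g => Prod.ext (Subgroup.mem_center_iff.1 (hcent hck) g.1) (mul_comm _ _)
    rw [Subgroup.mem_center_iff.1 (zpow_mem hcen i) g, mul_inv_cancel_right, hN]
    exact ⟨i, rfl⟩⟩
  have hNk : N ≤ (σ.comp (MonoidHom.fst Γ (Multiplicative ℤ))).ker := by
    rw [hN, Subgroup.zpowers_le]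
    exact hck
  let Φ : (Γ × Multiplicative ℤ) ⧸ N →* SpecialLinearGroup (Fin 2) (ZMod p) := QuotientGroup.lift N _ hNk
  obtain ⟨ρ, hρ⟩ : ∃ ρ : Γ × Multiplicative ℤ →* (Γ × Multiplicative ℤ) ⧸ N, ρ = QuotientGroup.mk' N := ⟨_, rfl⟩
  have hρ1 : ρ (c, Multiplicative.ofAdd (p : ℤ)) = 1 := by
    rw [hρ, ← MonoidHom.mem_ker, QuotientGroup.ker_mk', hN]; exact Subgroup.mem_zpowers _
  have hpair : ∀ g : Γ, g ^ p = c → ρ (g, Multiplicative.ofAdd 1) ^ p = 1 := fun g hg => by
    rw [← map_pow, ← hρ1]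
    congr 1
    refine Prod.ext hg ?_
    show Multiplicative.ofAdd (1 : ℤ) ^ p = _
    rw [← ofAdd_nsmul, nsmul_one]
  obtain ⟨R, hRx, hRy⟩ := rels_of_braid hp (ρ (X, Multiplicative.ofAdd 1)) (ρ (Y, Multiplicative.ofAdd 1))
    (hpair X hc.symm) (hpair Y hcY) (by
      simp only [← map_mul]
      exact congrArg ρ (Prod.ext hb rfl))
  have hΦρ : ∀ x, Φ (ρ x) = σ x.1 := fun x => by rw [hρ]; rfl
  obtain ⟨θ, hθ⟩ := hom_of_rels (MonoidHom.id _) Φ R (fun t => by
      obtain ⟨n, rfl⟩ := ZMod.natCast_zmod_surjective t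
      rw [hRx, map_pow, hΦρ, hX, hpow, mul_one]; rfl) (fun t => by
      obtain ⟨n, hn⟩ := ZMod.natCast_zmod_surjective (-t)
      rw [show t = -(n : ZMod p) by rw [hn, neg_neg], hRy, map_pow, hΦρ, hσY, hpow, mul_neg_one]; rfl)
  refine ker_eq_one_of_section σ hcomm (ρ.comp (MonoidHom.inl Γ (Multiplicative ℤ))) ?_ Φ
    (MonoidHom.ext fun g => by rw [MonoidHom.comp_apply, MonoidHom.comp_apply, hΦρ]; rfl) ?_ θ hθ
  · rw [injective_iff_map_eq_one]
    intro g hg
    rw [MonoidHom.comp_apply, hρ, ← MonoidHom.mem_ker, QuotientGroup.ker_mk', hN, Subgroup.mem_zpowers_iff] at hg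
    obtain ⟨i, hi⟩ := hg
    have h2 := congrArg (fun x => Multiplicative.toAdd x.2) hi
    have : i = 0 := by simpa [(Fact.out : p.Prime).ne_zero] using h2
    have h1 := congrArg Prod.fst hi
    rw [this] at h1
    simpa using h1.symm
  · intro x hx
    obtain ⟨⟨g, n⟩, rfl⟩ : ∃ y, ρ y = x := by rw [hρ]; exact QuotientGroup.mk'_surjective N x
    rw [MonoidHom.mem_ker, hΦρ] at hx
    rw [Subgroup.mem_center_iff]
    intro y
    obtain ⟨⟨g', n'⟩, rfl⟩ : ∃ y', ρ y' = y := by rw [hρ]; exact QuotientGroup.mk'_surjective N y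
    rw [← map_mul, ← map_mul]
    exact congrArg ρ (Prod.ext (Subgroup.mem_center_iff.1 (hcent hx) g') (mul_comm _ _))

end Small

end Cfsg.Agent.Small.SchurSL2
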