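import Cfsg.Agent.Lib.Small.SchurSLn
import Cfsg.Agent.Lib.Small.SchurSL2
import Cfsg.Agent.Lib.Classical.LinBasic
import Cfsg.Agent.Lib.Solv.SchurSmall

/-!
# The Schur multipliers of `SL_n` and `PSL_n`
-/

set_option autoImplicit false
set_option linter.unusedSectionVars false

namespace Cfsg.Agent.Small.SchurSLFinal

open Matrix SchurLifts
open scoped commutatorElement

universe u

variable {K : Type u} [Field K] [Fintype K]

/-- Central extensions of quotients of `SL_n` lift outside the exceptional cases. -/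
theorem exists_hom (n : ℕ)
    (h : (n = 2 ∧ 4 < Fintype.card K ∧ Fintype.card K ≠ 9) ∨ 5 ≤ n ∨ (n = 4 ∧ Fintype.card K ≠ 2) ∨
      (n = 3 ∧ Fintype.card K ≠ 2 ∧ Fintype.card K ≠ 4))
    {Γ Q : Type*} [Group Γ] [Group Q] (C : Central Γ Q) (ι : SpecialLinearGroup (Fin n) K →* Q) :
    ∃ θ : SpecialLinearGroup (Fin n) K →* Γ, C.π.comp θ = ι := by
  rcases h with ⟨rfl, h4, h9⟩ | h
  · exact SchurSL2.exists_hom C ι h4 h9
  · obtain ⟨S, hS⟩ := SchurSLn.exists_St (K := K) (n := n) (by omega)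
    exact SchurSLn.exists_hom C ι S hS h

theorem commutator_le_range {Γ Q H : Type*} [Group Γ] [Group Q] [Group H] (C : Central Γ Q)
    (ι : H →* Q) (hι : Function.Surjective ι) (θ : H →* Γ) (hθ : C.π.comp θ = ι) : commutator Γ ≤ θ.range := by
  rw [commutator_def, Subgroup.commutator_le]
  intro x _ y _
  obtain ⟨a, ha⟩ := hι (C.π x)
  obtain ⟨b, hb⟩ := hι (C.π y)
  rw [← hθ, MonoidHom.comp_apply] at ha hb
  rw [C.comm_indep ha.symm hb.symm, ← map_commutatorElement]
  exact ⟨_, rfl⟩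

/-- Outside the exceptional cases `SL_n` has trivial multiplier. -/
theorem sl (n : ℕ) (h : (n = 2 ∧ 4 < Fintype.card K ∧ Fintype.card K ≠ 9) ∨ 5 ≤ n ∨ (n = 4 ∧ Fintype.card K ≠ 2) ∨
      (n = 3 ∧ Fintype.card K ≠ 2 ∧ Fintype.card K ≠ 4)) :
    Cfsg.HasCyclicSchurMultiplier (SpecialLinearGroup (Fin n) K) 1 := by
  haveI : Finite (SpecialLinearGroup (Fin n) K) := Subtype.finite
  refine Solv.hasCyclicSchur_one_of fun Γ _ _ σ hσ => ?_
  let C : Central Γ (SpecialLinearGroup (Fin n) K) := ⟨σ, hσ.1, hσ.2.1⟩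
  obtain ⟨θ, hθ⟩ := exists_hom n h C (MonoidHom.id _)
  exact SchurSL2.ker_eq_one_of_section σ hσ.2.2 (MonoidHom.id Γ) Function.injective_id σ (MonoidHom.comp_id σ)
    hσ.2.1 θ hθ

/-- Transport of the smallest cases from the prime field. -/
theorem sl_two_small (p : ℕ) [Fact p.Prime] (hp : p = 2 ∨ p = 3) (hK : Fintype.card K = p) :
    Cfsg.HasCyclicSchurMultiplier (SpecialLinearGroup (Fin 2) K) 1 := by
  haveI : Finite (SpecialLinearGroup (Fin 2) K) := Subtype.finite
  refine Solv.hasCyclicSchur_one_of fun Γ _ _ σ hσ => ?_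
  haveI : CharP K p := charP_of_card_eq_prime hK
  let e : K ≃+* ZMod p := (RingEquiv.ofBijective _ (ZMod.castHom_bijective K hK)).symm
  let m : SpecialLinearGroup (Fin 2) K →* SpecialLinearGroup (Fin 2) (ZMod p) := SpecialLinearGroup.map e.toRingHom
  have hinj : Function.Injective m := fun A B hAB => Subtype.ext (Matrix.ext fun i j => e.injective
    (congrFun (congrFun (congrArg Subtype.val hAB) i) j))
  have hsurj : Function.Surjective m := fun B => ⟨SpecialLinearGroup.map e.symm.toRingHom B,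
    Subtype.ext (Matrix.ext fun i j => e.apply_symm_apply _)⟩
  have hker : (m.comp σ).ker = σ.ker := by
    rw [← MonoidHom.comap_ker, (MonoidHom.ker_eq_bot_iff m).2 hinj]
    exact MonoidHom.comap_bot σ
  intro k hk
  exact SchurSL2.ker_eq_one_small hp (m.comp σ)
    ⟨hsurj.comp hσ.1, hker ▸ hσ.2.1, hker ▸ hσ.2.2⟩ k (hker ▸ hk)

/-- `S2117`. -/
theorem sl_two (h4 : Fintype.card K ≠ 4) (h9 : Fintype.card K ≠ 9) :
    Cfsg.HasCyclicSchurMultiplier (SpecialLinearGroup (Fin 2) K) 1 := by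
  by_cases hq : 4 < Fintype.card K
  · exact sl 2 (Or.inl ⟨rfl, hq, h9⟩)
  · have := Fintype.one_lt_card (α := K)
    rcases (show Fintype.card K = 2 ∨ Fintype.card K = 3 by omega) with h | h
    · haveI := Fact.mk Nat.prime_two
      exact sl_two_small 2 (Or.inl rfl) h
    · haveI := Fact.mk Nat.prime_three
      exact sl_two_small 3 (Or.inr rfl) h

theorem perfect (n : ℕ) (hn : 2 ≤ n) (hq : n = 2 → 4 ≤ Fintype.card K) :
    commutator (SpecialLinearGroup (Fin n) K) = ⊤ := by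
  rcases (show n = 2 ∨ 3 ≤ n by omega) with rfl | h3
  swap
  · exact Classical.sl_commutator_eq_top (by simpa using h3)
  classical
  obtain ⟨a, ha⟩ : ∃ a : Kˣ, a ^ 2 ≠ 1 := by
    obtain ⟨a, ha⟩ := IsCyclic.exists_generator (α := Kˣ)
    refine ⟨a, fun he => ?_⟩
    have h1 := orderOf_le_of_pow_eq_one two_pos he
    rw [orderOf_eq_card_of_forall_mem_zpowers ha, Nat.card_eq_fintype_card, Fintype.card_units] at h1
    have := hq rfl
    omega
  have hel : ∀ b t, SteinbergSL2.el b t ∈ commutator (SpecialLinearGroup (Fin 2) K) := by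
    intro b t
    have hc : SchurSL2.chi b a - 1 ≠ 0 := by
      rw [sub_ne_zero]
      cases b <;> simp only [SchurSL2.chi, if_true, Bool.false_eq_true, if_false] <;> intro h
      · exact ha (inv_eq_one.1 (Units.ext (by simpa using h)))
      · exact ha (Units.ext (by simpa using h))
    have e : ⁅SchurSL2.tor a, SteinbergSL2.el b (t / (SchurSL2.chi b a - 1))⁆ = SteinbergSL2.el b t := by
      rw [commutatorElement_def, SchurSL2.tor_el, mul_inv_cancel_right, mul_inv_eq_iff_eq_mul, SchurSL2.el_add]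
      congr 1
      field_simp
      ring
    rw [← e, commutator_def]
    exact Subgroup.commutator_mem_commutator (Subgroup.mem_top _) (Subgroup.mem_top _)
  obtain ⟨e, he, he'⟩ := SteinbergSL2.main (K := K)
  rw [eq_top_iff]
  intro g _
  have hle : (⊤ : Subgroup (PresentedGroup (SteinbergSL2.rels K))) ≤
      (commutator (SpecialLinearGroup (Fin 2) K)).comap e.toMonoidHom := by
    rw [← PresentedGroup.closure_range_of, Subgroup.closure_le]
    rintro _ ⟨⟨b, t⟩, rfl⟩
    show e (PresentedGroup.of (b, t)) ∈ commutator _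
    cases b
    · rw [show e (PresentedGroup.of (false, t)) = SteinbergSL2.el false t from Subtype.ext (he' t)]; exact hel _ _
    · rw [show e (PresentedGroup.of (true, t)) = SteinbergSL2.el true t from Subtype.ext (he t)]; exact hel _ _
  simpa using hle (Subgroup.mem_top (e.symm g))

theorem center_cyclic (n : ℕ) [NeZero n] :
    IsCyclic (Subgroup.center (SpecialLinearGroup (Fin n) K)) ∧
      Nat.card (Subgroup.center (SpecialLinearGroup (Fin n) K)) = Nat.gcd n (Fintype.card K - 1) := by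
  have e := (SpecialLinearGroup.center_equiv_rootsOfUnity' (R := K) (n := Fin n) 0).toEquiv
  have e' := SpecialLinearGroup.center_equiv_rootsOfUnity' (R := K) (n := Fin n) 0
  refine ⟨isCyclic_of_injective (((rootsOfUnity (Fintype.card (Fin n)) K).subtype).comp e'.toMonoidHom)
    (Subtype.val_injective.comp e'.injective), ?_⟩
  rw [Nat.card_congr e, rootsOfUnity_eq_ker, IsCyclic.card_powMonoidHom_ker, Fintype.card_fin,
    Nat.card_units, Nat.card_eq_fintype_card, Nat.gcd_comm]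

/-- `S2086`. -/
theorem psl {q : ℕ} (hF : Fintype.card K = q) (n : ℕ) (hn : 2 ≤ n) (h2 : n = 2 → 4 ≤ q)
    (hexc : (n, q) ∉ ({(2, 4), (2, 9), (3, 2), (3, 4), (4, 2)} : Set (ℕ × ℕ))) :
    Cfsg.HasCyclicSchurMultiplier (ProjectiveSpecialLinearGroup (Fin n) K) (Nat.gcd n (q - 1)) := by
  subst hF
  simp only [Set.mem_insert_iff, Set.mem_singleton_iff, Prod.mk.injEq, not_or, not_and] at hexc
  obtain ⟨e1, e2, e3, e4, e5⟩ := hexc
  have hd : (n = 2 ∧ 4 < Fintype.card K ∧ Fintype.card K ≠ 9) ∨ 5 ≤ n ∨ (n = 4 ∧ Fintype.card K ≠ 2) ∨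
      (n = 3 ∧ Fintype.card K ≠ 2 ∧ Fintype.card K ≠ 4) := by
    rcases (show n = 2 ∨ n = 3 ∨ n = 4 ∨ 5 ≤ n by omega) with h | h | h | h
    · exact Or.inl ⟨h, lt_of_le_of_ne (h2 h) (Ne.symm (e1 h)), e2 h⟩
    · exact Or.inr (Or.inr (Or.inr ⟨h, e3 h, e4 h⟩))
    · exact Or.inr (Or.inr (Or.inl ⟨h, e5 h⟩))
    · exact Or.inr (Or.inl h)
  haveI : NeZero n := ⟨by omega⟩
  haveI : Finite (SpecialLinearGroup (Fin n) K) := Subtype.finite
  obtain ⟨hcyc, hcard⟩ := center_cyclic (K := K) n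
  haveI := hcyc
  obtain ⟨Z, hZdef⟩ : ∃ Z, Z = Subgroup.center (SpecialLinearGroup (Fin n) K) := ⟨_, rfl⟩
  let π₀ : SpecialLinearGroup (Fin n) K →* ProjectiveSpecialLinearGroup (Fin n) K :=
    QuotientGroup.mk' (Subgroup.center _)
  have hker : π₀.ker = Subgroup.center (SpecialLinearGroup (Fin n) K) := QuotientGroup.ker_mk' _
  refine Solv.hasCyclicSchur_of ⟨SpecialLinearGroup (Fin n) K, inferInstance, inferInstance, π₀,
    ⟨QuotientGroup.mk'_surjective _, hker.le, (perfect n hn h2).symm ▸ le_top⟩,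
    ⟨(MulEquiv.subgroupCongr hker).trans (mulEquivOfCyclicCardEq (by rw [hcard, Nat.card_congr Multiplicative.toAdd, Nat.card_zmod]))⟩⟩ ?_
  intro Γ _ _ σ hσ
  let C : Central Γ (ProjectiveSpecialLinearGroup (Fin n) K) := ⟨σ, hσ.1, hσ.2.1⟩
  obtain ⟨θ, hθ⟩ := exists_hom n hd C π₀
  have hθ' : ∀ g, σ (θ g) = π₀ g := DFunLike.congr_fun hθ
  have hle := commutator_le_range C π₀ (QuotientGroup.mk'_surjective _) θ hθ
  obtain ⟨z, hz⟩ := IsCyclic.exists_generator (α := Subgroup.center (SpecialLinearGroup (Fin n) K))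
  have hzk : θ z.1 ∈ σ.ker := by
    rw [MonoidHom.mem_ker, hθ', ← MonoidHom.mem_ker, hker]; exact z.2
  refine ⟨⟨θ z.1, hzk⟩, Subtype.ext ?_, fun k => ?_⟩
  · show θ z.1 ^ _ = 1
    rw [← map_pow, ← Subgroup.coe_pow, ← hcard, pow_card_eq_one', Subgroup.coe_one, map_one]
  · obtain ⟨g, hg⟩ := hle (hσ.2.2 k.2)
    have hgc : g ∈ Subgroup.center (SpecialLinearGroup (Fin n) K) := by
      rw [← hker, MonoidHom.mem_ker, ← hθ', hg]; exact k.2
    obtain ⟨i, hi⟩ := Subgroup.mem_zpowers_iff.1 (hz ⟨g, hgc⟩)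
    refine Subgroup.mem_zpowers_iff.2 ⟨i, Subtype.ext ?_⟩
    rw [Subgroup.coe_zpow, ← map_zpow, ← Subgroup.coe_zpow, hi]
    exact hg

end Cfsg.Agent.Small.SchurSLFinal
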