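import Cfsg.Agent.Lib.Small.Order168Iso
import Cfsg.Agent.Lib.Small.SchurSLFinal
import Cfsg.Agent.Lib.Classical.Dickson.Tools
import Cfsg.Agent.Lib.Small.PSLn.Simple
import Cfsg.Agent.Lib.Local.FS.SimplePSL3

/-!
# `PSL(3,2)` and `PSL(2,7)`
-/

set_option autoImplicit false
set_option linter.unusedSectionVars false

namespace Cfsg.Agent.Small.PSLThreeTwo

universe u

variable {F : Type u} [Field F] [Fintype F]

theorem psl_two_seven (hF : Fintype.card F = 7) :
    IsSimpleGroup (Matrix.ProjectiveSpecialLinearGroup (Fin 2) F) ∧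
      Nat.card (Matrix.ProjectiveSpecialLinearGroup (Fin 2) F) = 168 := by
  refine ⟨Matrix.ProjectiveSpecialLinearGroup.rank_two_simple (by rw [Nat.card_eq_fintype_card, hF]; norm_num), ?_⟩
  have h := Classical.Dickson.card_psl F
  rw [hF] at h
  norm_num at h
  omega

theorem psl_three_two (hF : Fintype.card F = 2) :
    IsSimpleGroup (Matrix.ProjectiveSpecialLinearGroup (Fin 3) F) ∧
      Nat.card (Matrix.ProjectiveSpecialLinearGroup (Fin 3) F) = 168 := by
  classical
  haveI : Finite (Matrix.SpecialLinearGroup (Fin 3) F) := Subtype.finite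
  refine ⟨Small.PSLn.psl_simple le_rfl, ?_⟩
  have h1 : Nat.card (Matrix.SpecialLinearGroup (Fin 3) F) = 168 := by
    have := Local.FS.PSL3Simple.card_SL3 (F := F)
    rw [hF] at this
    norm_num at this
    rw [Nat.card_eq_fintype_card]; exact this
  obtain ⟨-, h2⟩ := SchurSLFinal.center_cyclic (K := F) 3
  rw [hF, show Nat.gcd 3 (2 - 1) = 1 from rfl] at h2
  have h3 := Subgroup.card_eq_card_quotient_mul_card_subgroup
    (Subgroup.center (Matrix.SpecialLinearGroup (Fin 3) F))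
  rw [h1, h2, mul_one] at h3
  exact h3.symm

/-- Stem extensions transport along isomorphisms. -/
theorem transport {G H : Type u} [Group G] [Group H] (e : G ≃* H) {n : ℕ}
    (h : Cfsg.HasCyclicSchurMultiplier G n) : Cfsg.HasCyclicSchurMultiplier H n := by
  obtain ⟨⟨Γ, _, _, σ, hσ, ⟨f⟩⟩, hall⟩ := h
  have hker : ∀ {Δ : Type u} [Group Δ] (τ : Δ →* G), (e.toMonoidHom.comp τ).ker = τ.ker := fun τ => by
    ext x; simp [MonoidHom.mem_ker]
  refine ⟨⟨Γ, ‹_›, ‹_›, e.toMonoidHom.comp σ, ⟨e.surjective.comp hσ.1, ?_, ?_⟩,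
    ⟨(MulEquiv.subgroupCongr (hker σ)).trans f⟩⟩, fun Δ _ _ τ hτ => ?_⟩
  · rw [hker]; exact hσ.2.1
  · rw [hker]; exact hσ.2.2
  have hk : (e.symm.toMonoidHom.comp τ).ker = τ.ker := by ext x; simp [MonoidHom.mem_ker]
  obtain ⟨π, hπ⟩ := hall Δ (e.symm.toMonoidHom.comp τ)
    ⟨e.symm.surjective.comp hτ.1, hk ▸ hτ.2.1, hk ▸ hτ.2.2⟩
  exact ⟨(MulEquiv.subgroupCongr hk).toMonoidHom.comp π, (MulEquiv.subgroupCongr hk).surjective.comp hπ⟩

/-- `S2087`. -/
theorem schur (hF : Fintype.card F = 2) :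
    Cfsg.HasCyclicSchurMultiplier (Matrix.ProjectiveSpecialLinearGroup (Fin 3) F) 2 := by
  classical
  haveI : Fact (Nat.Prime 7) := ⟨by norm_num⟩
  haveI : Finite (Matrix.SpecialLinearGroup (Fin 3) F) := Subtype.finite
  let K : Type u := ULift.{u, 0} (ZMod 7)
  have hK : Fintype.card K = 7 := by rw [Fintype.card_ulift, ZMod.card]
  haveI : Finite (Matrix.SpecialLinearGroup (Fin 2) K) := Subtype.finite
  obtain ⟨hs, hc⟩ := psl_three_two hF
  obtain ⟨hs', hc'⟩ := psl_two_seven hK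
  haveI := hs
  haveI := hs'
  obtain ⟨e⟩ := Order168Iso.iso (G := Matrix.ProjectiveSpecialLinearGroup (Fin 2) K) hc'
    (H := Matrix.ProjectiveSpecialLinearGroup (Fin 3) F) hc
  refine transport e ?_
  have h := SchurSLFinal.psl hK 2 le_rfl (fun _ => by norm_num) (by simp)
  simpa using h

end Cfsg.Agent.Small.PSLThreeTwo
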