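import Mathlib

/-!
# The model of a simple group of order 360 on ten points

The points are `∞` and the plane over `ZMod 3`. The translations, a rotation of order four and one
further permutation generate the model.
-/

set_option autoImplicit false

namespace Cfsg.Agent.Small.Order360

/-- The plane over `ZMod 3`. -/
abbrev Pl := ZMod 3 × ZMod 3

/-- The ten points. -/
abbrev Pt := Option Pl

/-- Rotation of order four. -/
def rot (p : Pl) : Pl := (-p.2, p.1)

/-- A power of the rotation. -/
def rotN : ℕ → Pl → Pl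
  | 0, p => p
  | n + 1, p => rot (rotN n p)

/-- A translation. -/
def tr (q : Pl) : Pt → Pt := Option.map (fun p => q + p)

/-- The candidate for the element exchanging `∞` and `0`. -/
def wF (s : ℕ) (a b : Pl) : Pt → Pt
  | none => some 0
  | some p =>
    if p = (1, 0) then some a
    else if p = (0, 1) then some (rotN s a)
    else if p = (2, 0) then some (rotN (2 * s) a)
    else if p = (0, 2) then some (rotN (3 * s) a)
    else if p = (1, 1) then some b
    else if p = (2, 1) then some (rotN s b)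
    else if p = (2, 2) then some (rotN (2 * s) b)
    else if p = (1, 2) then some (rotN (3 * s) b)
    else none

/-- The translation by `(1, 0)`. -/
def X : Equiv.Perm Pt where
  toFun := tr (1, 0)
  invFun := tr (2, 0)
  left_inv := by decide
  right_inv := by decide

/-- The translation by `(0, 1)`. -/
def Y : Equiv.Perm Pt where
  toFun := tr (0, 1)
  invFun := tr (0, 2)
  left_inv := by decide
  right_inv := by decide

/-- The rotation. -/
def R : Equiv.Perm Pt where
  toFun := Option.map rot
  invFun := Option.map (rotN 3)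
  left_inv := by decide
  right_inv := by decide

/-- The element exchanging `∞` and `0`. -/
def W : Equiv.Perm Pt where
  toFun := wF 3 (1, 0) (2, 1)
  invFun := wF 3 (1, 0) (2, 1)
  left_inv := by decide +kernel
  right_inv := by decide +kernel

/-- The relation that holds in the group. -/
def Rel (f : Pt → Pt) : Prop :=
  ∃ c q : Pl, ∃ j : Fin 4, ∀ p : Pt, f (tr (1, 0) (f p)) = tr c (f (tr q (Option.map (rotN j) p)))

instance (f : Pt → Pt) : Decidable (Rel f) := by unfold Rel; infer_instance

/-- The relation determines the candidate. -/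
theorem eq_W : ∀ s : Bool, ∀ a b : Pl, (a = (1, 0) ∨ a = (1, 1)) →
    (b ≠ 0 ∧ b ≠ a ∧ b ≠ rot a ∧ b ≠ rotN 2 a ∧ b ≠ rotN 3 a) →
    Rel (wF (bif s then 3 else 1) a b) →
    ∀ p, wF (bif s then 3 else 1) a b p = wF 3 (1, 0) (2, 1) p := by
  decide +kernel

/-- The rotation has two orbits on nonzero vectors. -/
theorem two_orbits : ∀ p : Pl, p ≠ 0 → ∃ j : Fin 4, rotN j p = (1, 0) ∨ rotN j p = (1, 1) := by
  decide +kernel

/-- Every nonzero vector is a rotation of one of two. -/
theorem pl_cases : ∀ p : Pl, p = 0 ∨ p = (1, 0) ∨ p = (0, 1) ∨ p = (2, 0) ∨ p = (0, 2) ∨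
    p = (1, 1) ∨ p = (2, 1) ∨ p = (2, 2) ∨ p = (1, 2) := by
  decide +kernel

/-- The nonzero elements of `ZMod 3`. -/
theorem zmod3_cases : ∀ c : ZMod 3, c ≠ 0 → c = 1 ∨ c = 2 := by decide

/-- The square of two. -/
theorem two_mul_two : (2 : ZMod 3) * 2 = 1 := by decide

/-- Vectors different from `(1, 1)`. -/
theorem ne_one_one : ((1, 0) : Pl) ≠ (1, 1) ∧ ((0, 1) : Pl) ≠ (1, 1) ∧ ((2, 0) : Pl) ≠ (1, 1) ∧
    ((0, 2) : Pl) ≠ (1, 1) := by decide

/-- The orbits of `(1, 0)` and `(1, 1)`. -/
theorem rot_values : rotN 1 (1, 0) = (0, 1) ∧ rotN 2 (1, 0) = (2, 0) ∧ rotN 3 (1, 0) = (0, 2) ∧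
    rotN 1 (1, 1) = (2, 1) ∧ rotN 2 (1, 1) = (2, 2) ∧ rotN 3 (1, 1) = (1, 2) := by decide

/-- The values of the candidate. -/
theorem wF_values (s : ℕ) (a b : Pl) :
    wF s a b (some (1, 0)) = some a ∧ wF s a b (some (0, 1)) = some (rotN s a) ∧
    wF s a b (some (2, 0)) = some (rotN (2 * s) a) ∧ wF s a b (some (0, 2)) = some (rotN (3 * s) a) ∧
    wF s a b (some (1, 1)) = some b ∧ wF s a b (some (2, 1)) = some (rotN s b) ∧
    wF s a b (some (2, 2)) = some (rotN (2 * s) b) ∧ wF s a b (some (1, 2)) = some (rotN (3 * s) b) ∧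
    wF s a b (some 0) = none :=
  ⟨rfl, rfl, rfl, rfl, rfl, rfl, rfl, rfl, rfl⟩

end Cfsg.Agent.Small.Order360
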