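import Cfsg.Agent.Lib.Small.SmallOrders
import Cfsg.Agent.Lib.Small.Order360Model

/-!
# The simple groups of order 360 are isomorphic

A simple group of order 360 has ten Sylow 3-subgroups, meeting pairwise trivially, and acts on them
doubly transitively; a point stabiliser of a second point is cyclic of order four and acts without
fixed points on the Sylow subgroup. This determines the permutation group.
-/

set_option autoImplicit false
set_option linter.unusedSectionVars false

namespace Cfsg.Agent.Small.Order360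

open Subgroup
open scoped Pointwise

variable {G : Type*} [Group G] [Finite G] [IsSimpleGroup G] (h : Nat.card G = 360)
include h

theorem not_comm : ¬ IsMulCommutative G :=
  SmallOrders.not_comm_of_card (by rw [h]; norm_num)

/-- A proper subgroup has order at most 60. -/
theorem card_le_sixty (H : Subgroup G) (hH : H ≠ ⊤) : Nat.card H ≤ 60 := by
  have hd := SmallOrders.card_dvd_index_factorial H hH
  have hm := H.card_mul_index
  rw [h] at hd hm
  have h0 : H.index ≠ 0 := H.index_ne_zero_of_finite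
  have h1 : H.index ≠ 1 := fun e => hH (index_eq_one.1 e)
  have h6 : 6 ≤ H.index := by
    by_contra hlt
    obtain ⟨n, hn⟩ : ∃ n, H.index = n := ⟨_, rfl⟩
    rw [hn] at hd h0 h1 hlt
    have hn5 : n < 6 := by omega
    interval_cases n <;> norm_num [Nat.factorial] at hd <;> omega
  nlinarith

theorem card_P3 (P : Sylow 3 G) : Nat.card (P : Subgroup G) = 9 :=
  haveI : Fact (Nat.Prime 3) := ⟨Nat.prime_three⟩
  (SmallOrders.sylow_card_eq (m := 40) (k := 2) (by rw [h]; norm_num) (by norm_num) P).trans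
    (by norm_num)

theorem comm_P3 (P : Sylow 3 G) : ∀ a ∈ (P : Subgroup G), ∀ b ∈ (P : Subgroup G), a * b = b * a :=
  fun a ha b hb => haveI : Fact (Nat.Prime 3) := ⟨Nat.prime_three⟩
  congrArg Subtype.val (IsPGroup.commutative_of_card_eq_prime_sq (p := 3)
    (G := ↥(P : Subgroup G)) (by rw [card_P3 h P]; norm_num) ⟨a, ha⟩ ⟨b, hb⟩)

theorem card_sylow3 : Nat.card (Sylow 3 G) = 10 := by
  haveI : Fact (Nat.Prime 3) := ⟨Nat.prime_three⟩
  obtain ⟨P⟩ : Nonempty (Sylow 3 G) := inferInstance
  obtain ⟨hd, hm, h1⟩ := SmallOrders.sylow_number (k := 2) P ((card_P3 h P).trans (by norm_num))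
    two_pos (m := 40) (by rw [h]; norm_num) (by norm_num)
  have hN := SmallOrders.card_normalizer P
  obtain ⟨n, hn⟩ : ∃ n, Nat.card (Sylow 3 G) = n := ⟨_, rfl⟩
  rw [hn, h] at hN
  rw [hn] at hd hm h1 ⊢
  have hle := Nat.le_of_dvd (by norm_num) hd
  have hn4 : n ≠ 4 := by
    rintro rfl
    have hle' := card_le_sixty h (normalizer ((P : Subgroup G) : Set G)) (fun e => by
      rw [e, card_top, h] at hN; omega)
    omega
  have hn40 : n ≠ 40 := by
    rintro rfl
    refine SmallOrders.false_of_central P (by rw [show Nat.card P = 9 from card_P3 h P]; norm_num)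
      (by rw [show Nat.card P = 9 from card_P3 h P, h]; norm_num) fun g hg => ?_
    have heq : (P : Subgroup G) = normalizer ((P : Subgroup G) : Set G) :=
      eq_of_le_of_card_ge le_normalizer (by rw [card_P3 h P]; omega)
    exact mem_centralizer_iff.2 fun b hb => comm_P3 h P b hb g (heq.ge hg)
  revert hd hm h1
  interval_cases n <;> intros <;> first | omega | (simp [Nat.ModEq] at *)

theorem card_N3 (P : Sylow 3 G) : Nat.card (normalizer ((P : Subgroup G) : Set G)) = 36 := by
  haveI : Fact (Nat.Prime 3) := ⟨Nat.prime_three⟩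
  have := SmallOrders.card_normalizer P
  rw [card_sylow3 h, h] at this
  omega

/-- Distinct Sylow 3-subgroups meet trivially. -/
theorem trivial_inter (P Q : Sylow 3 G) {x : G} (hxP : x ∈ (P : Subgroup G))
    (hxQ : x ∈ (Q : Subgroup G)) (hx : x ≠ 1) : P = Q := by
  haveI : Fact (Nat.Prime 3) := ⟨Nat.prime_three⟩
  by_contra hPQ
  set C := centralizer ({x} : Set G) with hC
  have hPC : ∀ R : Sylow 3 G, x ∈ (R : Subgroup G) → (R : Subgroup G) ≤ C := fun R hR a ha =>
    mem_centralizer_singleton_iff.2 (comm_P3 h R a ha x hR)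
  have hCtop : C ≠ ⊤ := fun e => hx <| by
    have h1 : x ∈ center G := mem_center_iff.2 fun g =>
      (mem_centralizer_singleton_iff.1 (e ▸ mem_top g : g ∈ C))
    rwa [SmallOrders.center_eq_bot (not_comm h), mem_bot] at h1
  have hcard := card_le_sixty h C hCtop
  obtain ⟨P', hP'⟩ : ∃ P' : Sylow 3 C, (P' : Subgroup C) = (P : Subgroup G).subgroupOf C :=
    ⟨P.subtype (hPC P hxP), rfl⟩
  obtain ⟨Q', hQ'⟩ : ∃ Q' : Sylow 3 C, (Q' : Subgroup C) = (Q : Subgroup G).subgroupOf C :=
    ⟨Q.subtype (hPC Q hxQ), rfl⟩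
  have hne : P' ≠ Q' := fun e => hPQ <| Sylow.ext <| by
    have h1 := congrArg (fun R : Sylow 3 C => (R : Subgroup C).map C.subtype) e
    simpa only [hP', hQ', map_subgroupOf_eq_of_le (hPC P hxP), map_subgroupOf_eq_of_le (hPC Q hxQ)] using h1
  have h9 : Nat.card (P' : Subgroup C) = 9 := by
    rw [hP', Nat.card_congr (subgroupOfEquivOfLe (hPC P hxP)).toEquiv, card_P3 h P]
  have hm := card_sylow_modEq_one 3 C
  have h1 : Nat.card (Sylow 3 C) ≠ 1 := fun e => by
    haveI := (Nat.card_eq_one_iff_unique.1 e).1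
    exact hne (Subsingleton.elim _ _)
  have hpos : 0 < Nat.card (Sylow 3 C) := Nat.card_pos
  have hN := SmallOrders.card_normalizer P'
  have hd : 9 ∣ Nat.card (normalizer ((P' : Subgroup C) : Set C)) :=
    h9 ▸ card_dvd_of_le le_normalizer
  obtain ⟨k, hk⟩ := hd
  have hd' : Nat.card C ∣ 360 := h ▸ card_subgroup_dvd_card C
  have h4 : 4 ≤ Nat.card (Sylow 3 C) := by
    have : Nat.card (Sylow 3 C) % 3 = 1 := hm
    omega
  have hk0 : 0 < k := by
    rcases Nat.eq_zero_or_pos k with rfl | hk0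
    · exact absurd hk (by simp [Nat.card_pos.ne'])
    · exact hk0
  rw [hk] at hN
  have hk1 : k = 1 := by nlinarith
  subst hk1
  have hn4 : Nat.card (Sylow 3 C) = 4 := by
    have : Nat.card (Sylow 3 C) % 3 = 1 := hm
    omega
  have hCcard : Nat.card C = 36 := by omega
  -- the Sylow 2-subgroup of `C` is normal
  have hNP : normalizer ((P' : Subgroup C) : Set C) ≤ centralizer ((P' : Subgroup C) : Set C) := by
    have heq : (P' : Subgroup C) = normalizer ((P' : Subgroup C) : Set C) :=
      eq_of_le_of_card_ge le_normalizer (by rw [h9, hk])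
    intro g hg
    refine mem_centralizer_iff.2 fun b hb => Subtype.ext ?_
    have hbP : (b : G) ∈ (P : Subgroup G) := by
      have hb' : b ∈ (P' : Subgroup C) := hb
      rw [hP'] at hb'; exact hb'
    have hgP : (g : G) ∈ (P : Subgroup G) := by
      have hg' : g ∈ (P' : Subgroup C) := heq.ge hg
      rw [hP'] at hg'; exact hg'
    exact comm_P3 h P _ hbP _ hgP
  set T := (MonoidHom.transferSylow P' hNP).ker
  have hK := MonoidHom.ker_transferSylow_isComplement' P' hNP
  have hTcard : Nat.card T = 4 := by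
    have := hK.card_mul
    rw [h9, hCcard] at this
    have h' : Nat.card T * 9 = 36 := this
    omega
  set T' := T.map C.subtype
  have hT' : Nat.card T' = 4 := by
    rw [← hTcard]
    exact (Nat.card_congr (T.equivMapOfInjective _ C.subtype_injective).toEquiv).symm
  have hCN : C ≤ normalizer (T' : Set G) := fun g hg =>
    le_normalizer_map C.subtype ⟨⟨g, hg⟩,
      (normalizer_eq_top_iff.2 (inferInstance : T.Normal)).ge (mem_top _), rfl⟩
  haveI : Fact (Nat.Prime 2) := ⟨Nat.prime_two⟩
  obtain ⟨S, hS⟩ := (IsPGroup.of_card (p := 2) (n := 2) (hT'.trans (by norm_num))).exists_le_sylow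
  have hScard : Nat.card (S : Subgroup G) = 8 :=
    (SmallOrders.sylow_card_eq (m := 45) (k := 3) (by rw [h]; norm_num) (by norm_num) S).trans (by norm_num)
  have hSN : (S : Subgroup G) ≤ normalizer (T' : Set G) := by
    have hidx : (T'.subgroupOf (S : Subgroup G)).index = 2 := by
      have := (T'.subgroupOf (S : Subgroup G)).card_mul_index
      rw [Nat.card_congr (subgroupOfEquivOfLe hS).toEquiv, hT', hScard] at this
      omega
    exact (normal_subgroupOf_iff_le_normalizer hS).1 (normal_of_index_eq_two hidx)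
  have hbig : 72 ∣ Nat.card (normalizer (T' : Set G)) := by
    have h1 := card_dvd_of_le hCN
    have h2 := card_dvd_of_le hSN
    rw [hCcard] at h1; rw [hScard] at h2
    exact (Nat.lcm_dvd h1 h2 : Nat.lcm 36 8 ∣ _)
  have htop : normalizer (T' : Set G) = ⊤ := by_contra fun hn => by
    have := card_le_sixty h _ hn
    have := Nat.le_of_dvd Nat.card_pos hbig
    omega
  haveI := normalizer_eq_top_iff.1 htop
  rcases IsSimpleGroup.eq_bot_or_eq_top_of_normal T' inferInstance with e | e
  · rw [e, card_bot] at hT'; omega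
  · rw [e, card_top, h] at hT'; omega

/-- A 3-element fixing a second Sylow 3-subgroup is trivial. -/
theorem eq_one_of_fixes (P Q : Sylow 3 G) (hPQ : Q ≠ P) {x : G} (hx : x ∈ (P : Subgroup G))
    (hfix : x • Q = Q) : x = 1 := by
  haveI : Fact (Nat.Prime 3) := ⟨Nat.prime_three⟩
  by_contra hne
  have hu : x ∈ (P : Subgroup G) ⊓ (Q : Subgroup G) := by
    rw [← IsPGroup.inf_normalizer_sylow P.2 Q]
    exact mem_inf.mpr ⟨hx, Sylow.smul_eq_iff_mem_normalizer.1 hfix⟩
  exact hPQ (trivial_inter h P Q hx hu.2 hne).symm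

/-- A Sylow 3-subgroup is regular on the others. -/
theorem exists_smul (α β : Sylow 3 G) (hβ : β ≠ α) (γ : Sylow 3 G) (hγ : γ ≠ α) :
    ∃ x ∈ (α : Subgroup G), x • β = γ := by
  classical
  haveI : Fact (Nat.Prime 3) := ⟨Nat.prime_three⟩
  haveI := Fintype.ofFinite (Sylow 3 G)
  haveI := Fintype.ofFinite ↥(α : Subgroup G)
  have hfixα : ∀ x ∈ (α : Subgroup G), x • α = α := fun x hx =>
    Sylow.smul_eq_iff_mem_normalizer.2 (le_normalizer hx)
  let f : ↥(α : Subgroup G) → {γ : Sylow 3 G // γ ≠ α} := fun x => ⟨(x : G) • β, fun e => hβ (by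
    have h1 : (x : G) • β = (x : G) • α := e.trans (hfixα x x.2).symm
    exact smul_left_cancel _ h1)⟩
  have hinj : Function.Injective f := fun x y e => by
    have h1 : (x : G) • β = (y : G) • β := congrArg Subtype.val e
    have h2 : ((y : G)⁻¹ * x) • β = β := by rw [mul_smul, h1, inv_smul_smul]
    exact Subtype.ext (inv_mul_eq_one.1 (eq_one_of_fixes h α β hβ
      (mul_mem (inv_mem y.2) x.2) h2)).symm
  have hbij : Function.Bijective f := by
    refine (Fintype.bijective_iff_injective_and_card f).2 ⟨hinj, ?_⟩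
    rw [← Nat.card_eq_fintype_card, card_P3 h α, Fintype.card_subtype_compl,
      Fintype.card_subtype_eq, ← Nat.card_eq_fintype_card, card_sylow3 h]
  obtain ⟨x, hx⟩ := hbij.2 ⟨γ, hγ⟩
  exact ⟨x, x.2, congrArg Subtype.val hx⟩

theorem card_two_point (α β : Sylow 3 G) (hβ : β ≠ α) :
    Nat.card ↥(MulAction.stabilizer G α ⊓ MulAction.stabilizer G β) = 4 := by
  haveI : Fact (Nat.Prime 3) := ⟨Nat.prime_three⟩
  set N := MulAction.stabilizer G α
  set K := N ⊓ MulAction.stabilizer G β
  have hNcard : Nat.card N = 36 := by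
    show Nat.card (MulAction.stabilizer G α) = 36
    rw [Sylow.stabilizer_eq_normalizer]; exact card_N3 h α
  have hPN : (α : Subgroup G) ≤ N := fun x hx => Sylow.smul_eq_iff_mem_normalizer.2 (le_normalizer hx)
  let f : ↥(α : Subgroup G) × ↥K → N := fun p => ⟨(p.1 : G) * p.2, N.mul_mem (hPN p.1.2) p.2.2.1⟩
  have hbij : Function.Bijective f := by
    refine ⟨fun p q e => ?_, fun g => ?_⟩
    · have e' : (p.1 : G) * p.2 = (q.1 : G) * q.2 := congrArg Subtype.val e
      have h1 : (p.1 : G) • β = (q.1 : G) • β := by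
        have := congrArg (· • β) e'
        simpa only [mul_smul, show (p.2 : G) • β = β from p.2.2.2, show (q.2 : G) • β = β from q.2.2.2] using this
      have h2 : ((q.1 : G)⁻¹ * p.1) • β = β := by rw [mul_smul, h1, inv_smul_smul]
      have h3 : p.1 = q.1 := Subtype.ext (inv_mul_eq_one.1 (eq_one_of_fixes h α β hβ
        (mul_mem (inv_mem q.1.2) p.1.2) h2)).symm
      rw [h3] at e'
      exact Prod.ext h3 (Subtype.ext (mul_left_cancel e'))
    · have hne : (g : G) • β ≠ α := fun e => hβ (smul_left_cancel (g : G) (e.trans (g.2 : (g : G) • α = α).symm))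
      obtain ⟨x, hx, hxe⟩ := exists_smul h α β hβ _ hne
      refine ⟨(⟨x, hx⟩, ⟨x⁻¹ * g, N.mul_mem (N.inv_mem (hPN hx)) g.2, ?_⟩),
        Subtype.ext (mul_inv_cancel_left x g)⟩
      show (x⁻¹ * g) • β = β
      rw [mul_smul, ← hxe, inv_smul_smul]
  have := Nat.card_congr (Equiv.ofBijective f hbij)
  rw [Nat.card_prod, card_P3 h α, hNcard] at this
  omega

/-- Every element acts as an even permutation. -/
theorem sign_eq_one [Fintype (Sylow 3 G)] [DecidableEq (Sylow 3 G)] (g : G) :
    Equiv.Perm.sign (MulAction.toPerm g : Equiv.Perm (Sylow 3 G)) = 1 := by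
  let s : G →* ℤˣ := Equiv.Perm.sign.comp (MulAction.toPermHom G (Sylow 3 G))
  rcases IsSimpleGroup.eq_bot_or_eq_top_of_normal s.ker inferInstance with e | e
  · exfalso
    refine not_comm h ⟨⟨fun a b => (MonoidHom.ker_eq_bot_iff s).1 e ?_⟩⟩
    rw [map_mul, map_mul, mul_comm]
  · exact MonoidHom.mem_ker.1 (e ▸ mem_top g : g ∈ s.ker)

theorem eq_one_of_smul_eq {g : G} (hg : ∀ γ : Sylow 3 G, g • γ = γ) : g = 1 := by
  haveI : Fact (Nat.Prime 3) := ⟨Nat.prime_three⟩
  have hk : g ∈ (MulAction.toPermHom G (Sylow 3 G)).ker := MonoidHom.mem_ker.2 (Equiv.ext hg)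
  rcases IsSimpleGroup.eq_bot_or_eq_top_of_normal (MulAction.toPermHom G (Sylow 3 G)).ker
    inferInstance with e | e
  · exact Subgroup.mem_bot.1 (e ▸ hk)
  · exfalso
    obtain ⟨α⟩ : Nonempty (Sylow 3 G) := inferInstance
    have h1 : normalizer ((α : Subgroup G) : Set G) = ⊤ := top_le_iff.1 fun a _ => by
      have h2 : a ∈ (MulAction.toPermHom G (Sylow 3 G)).ker := e.ge (mem_top a)
      rw [MonoidHom.mem_ker] at h2
      exact Sylow.smul_eq_iff_mem_normalizer.1 (Equiv.ext_iff.1 h2 α)
    have := card_N3 h α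
    rw [h1, card_top, h] at this
    omega

/-- An involution fixing two points inverts the Sylow subgroup. -/
theorem inverts (α β : Sylow 3 G) (hβ : β ≠ α) {z : G} (hzα : z • α = α) (hzβ : z • β = β)
    (hz : z * z = 1) (hz1 : z ≠ 1) {x : G} (hx : x ∈ (α : Subgroup G)) : z * x * z⁻¹ = x⁻¹ := by
  classical
  haveI : Fact (Nat.Prime 3) := ⟨Nat.prime_three⟩
  haveI := Fintype.ofFinite (Sylow 3 G)
  have hzN : z ∈ normalizer ((α : Subgroup G) : Set G) := Sylow.smul_eq_iff_mem_normalizer.1 hzα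
  have hmem : ∀ x ∈ (α : Subgroup G), z * x * z⁻¹ ∈ (α : Subgroup G) := fun x hx =>
    (mem_normalizer_iff.1 hzN x).1 hx
  have hfixα : ∀ x ∈ (α : Subgroup G), x • α = α := fun x hx =>
    Sylow.smul_eq_iff_mem_normalizer.2 (le_normalizer hx)
  -- `z` centralises only the identity
  have hfpf : ∀ x ∈ (α : Subgroup G), z * x * z⁻¹ = x → x = 1 := by
    intro x hx hxz
    by_contra hx1
    let Cz := (α : Subgroup G) ⊓ centralizer ({z} : Set G)
    have hCz : ∀ y, y ∈ Cz ↔ y ∈ (α : Subgroup G) ∧ z * y * z⁻¹ = y := fun y => by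
      rw [mem_inf, mem_centralizer_singleton_iff, mul_inv_eq_iff_eq_mul]
      exact and_congr_right fun _ => eq_comm
    have hzi : z⁻¹ = z := inv_eq_of_mul_eq_one_right hz
    have hsm : ∀ y : G, z • y • β = (z * y * z⁻¹) • β := fun y => by
      rw [smul_smul, mul_smul (z * y), hzi, hzβ]
    have hd : Nat.card Cz ∣ 9 := card_P3 h α ▸ card_dvd_of_le inf_le_left
    have hne1 : Nat.card Cz ≠ 1 := fun e => hx1 (by
      have h1 : x ∈ Cz := (hCz x).2 ⟨hx, hxz⟩
      rw [Subgroup.eq_bot_of_card_eq _ e, mem_bot] at h1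
      exact h1)
    have hne9 : Nat.card Cz ≠ 9 := fun e => by
      have he : Cz = (α : Subgroup G) := eq_of_le_of_card_ge inf_le_left (by rw [e, card_P3 h α])
      refine hz1 (eq_one_of_smul_eq h fun γ => ?_)
      by_cases hγ : γ = α
      · rw [hγ, hzα]
      · obtain ⟨y, hy, rfl⟩ := exists_smul h α β hβ γ hγ
        rw [hsm, ((hCz y).1 (he.ge hy)).2]
    have hc3 : Nat.card Cz = 3 := by
      have hle := Nat.le_of_dvd (by norm_num) hd
      obtain ⟨n, hn⟩ : ∃ n, Nat.card Cz = n := ⟨_, rfl⟩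
      rw [hn] at hd hne1 hne9 hle ⊢
      revert hd hne1 hne9
      interval_cases n <;> norm_num
    set σ : Equiv.Perm (Sylow 3 G) := MulAction.toPerm z
    -- the fixed points
    let e : Option ↥Cz ≃ {γ : Sylow 3 G // σ γ = γ} := Equiv.ofBijective
      (fun o => o.elim ⟨α, hzα⟩ fun y => ⟨(y : G) • β, by
        show z • (y : G) • β = _
        rw [hsm, ((hCz y).1 y.2).2]⟩) (by
      refine ⟨?_, fun γ => ?_⟩
      · rintro (_ | y) (_ | w) e'
        · rfl
        · exfalso
          have e'' : α = (w : G) • β := congrArg Subtype.val e'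
          rw [← hfixα w w.2.1] at e''
          exact hβ (smul_left_cancel _ e'').symm
        · exfalso
          have e'' : (y : G) • β = α := congrArg Subtype.val e'
          rw [← hfixα y y.2.1] at e''
          exact hβ (smul_left_cancel _ e'')
        · have e'' : (y : G) • β = (w : G) • β := congrArg Subtype.val e'
          have h2 : ((w : G)⁻¹ * y) • β = β := by rw [mul_smul, e'', inv_smul_smul]
          exact congrArg some (Subtype.ext (inv_mul_eq_one.1 (eq_one_of_fixes h α β hβ
            (mul_mem (inv_mem w.2.1) y.2.1) h2)).symm)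
      · by_cases hγ : (γ : Sylow 3 G) = α
        · exact ⟨none, Subtype.ext hγ.symm⟩
        · obtain ⟨y, hy, hye⟩ := exists_smul h α β hβ _ hγ
          have h2 : z • y • β = y • β := by rw [hye]; exact γ.2
          rw [hsm] at h2
          have h3 : (y⁻¹ * (z * y * z⁻¹)) • β = β := by rw [mul_smul, h2, inv_smul_smul]
          have h4 := eq_one_of_fixes h α β hβ (mul_mem (inv_mem hy) (hmem y hy)) h3
          exact ⟨some ⟨y, (hCz y).2 ⟨hy, (inv_mul_eq_one.1 h4).symm⟩⟩, Subtype.ext hye⟩)
    have hfix : Fintype.card {γ : Sylow 3 G // σ γ = γ} = 4 := by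
      rw [← Nat.card_eq_fintype_card, ← Nat.card_congr e, Finite.card_option, hc3]
    have hsupp : σ.support.card = 6 := by
      have h1 := Fintype.card_subtype_compl (fun γ => σ γ = γ)
      rw [hfix, ← Nat.card_eq_fintype_card (α := Sylow 3 G), card_sylow3 h, Fintype.card_subtype] at h1
      simpa [Equiv.Perm.support] using h1
    have hσ : σ ^ 2 = 1 := Equiv.ext fun γ => by
      rw [sq, Equiv.Perm.mul_apply]
      show z • z • γ = γ
      rw [smul_smul, hz, one_smul]
    have hs1 := sign_eq_one h z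
    have hσ1 : σ ≠ 1 := fun e' => by simp [e'] at hsupp
    have hord : orderOf σ = 2 := orderOf_eq_prime hσ hσ1
    obtain ⟨k, hk⟩ := Equiv.Perm.cycleType_prime_order (σ := σ) (by rw [hord]; exact Nat.prime_two)
    rw [hord] at hk
    have hsum := Equiv.Perm.sum_cycleType σ
    rw [hk, Multiset.sum_replicate, hsupp, smul_eq_mul] at hsum
    rw [Equiv.Perm.sign_of_cycleType, hk] at hs1
    simp only [Multiset.sum_replicate, Multiset.card_replicate, smul_eq_mul] at hs1
    rw [show k + 1 = 3 by omega] at hs1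
    norm_num at hs1
  have hy : z * x * z⁻¹ * x ∈ (α : Subgroup G) := mul_mem (hmem x hx) hx
  have hy1 := hfpf _ hy (by
    have hzi : z⁻¹ = z := inv_eq_of_mul_eq_one_right hz
    rw [show z * (z * x * z⁻¹ * x) * z⁻¹ = (z * z) * x * (z * z)⁻¹ * (z * x * z⁻¹) by group, hz,
      comm_P3 h α _ (hmem x hx) x hx]
    group)
  exact eq_inv_of_mul_eq_one_left hy1

theorem exists_k (α β : Sylow 3 G) (hβ : β ≠ α) :
    ∃ k : G, k • α = α ∧ k • β = β ∧ orderOf k = 4 ∧
      ∀ g : G, g • α = α → g • β = β → ∃ j : Fin 4, g = k ^ (j : ℕ) := by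
  classical
  haveI : Fact (Nat.Prime 3) := ⟨Nat.prime_three⟩
  set K := MulAction.stabilizer G α ⊓ MulAction.stabilizer G β
  have hK : Nat.card K = 4 := card_two_point h α β hβ
  obtain ⟨x, hx, hx1⟩ : ∃ x ∈ (α : Subgroup G), x ≠ 1 := by
    by_contra hcon
    simp only [not_exists, not_and, not_not] at hcon
    have := card_P3 h α
    rw [show (α : Subgroup G) = ⊥ from (eq_bot_iff_forall _).2 hcon, card_bot] at this
    omega
  -- at most one involution fixes both points
  have huniq : ∀ a ∈ K, ∀ b ∈ K, a * a = 1 → b * b = 1 → a ≠ 1 → b ≠ 1 → a = b := by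
    intro a ha b hb haa hbb ha1 hb1
    by_contra hab
    have h1 := inverts h α β hβ ha.1 ha.2 haa ha1 hx
    have h2 := inverts h α β hβ hb.1 hb.2 hbb hb1 hx
    have hcom : (⟨a, ha⟩ : K) * ⟨b, hb⟩ = ⟨b, hb⟩ * ⟨a, ha⟩ :=
      haveI : Fact (Nat.Prime 2) := ⟨Nat.prime_two⟩
      IsPGroup.commutative_of_card_eq_prime_sq (p := 2) (by rw [hK]; norm_num) _ _
    have hcom' : a * b = b * a := congrArg Subtype.val hcom
    have hc1 : a * b ≠ 1 := fun e => hab (by
      rw [eq_inv_of_mul_eq_one_left e, inv_eq_of_mul_eq_one_right hbb])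
    have hcc : a * b * (a * b) = 1 := by
      rw [show a * b * (a * b) = a * (b * a) * b by group, ← hcom',
        show a * (a * b) * b = a * a * (b * b) by group, haa, hbb, one_mul]
    have hab' : a * b ∈ K := K.mul_mem ha hb
    have h3 := inverts h α β hβ hab'.1 hab'.2 hcc hc1 hx
    have h4 : a * b * x * (a * b)⁻¹ = x := by
      rw [show a * b * x * (a * b)⁻¹ = a * (b * x * b⁻¹) * a⁻¹ by group, h2]
      rw [show a * x⁻¹ * a⁻¹ = (a * x * a⁻¹)⁻¹ by group, h1, inv_inv]
    rw [h4] at h3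
    refine hx1 ?_
    have h5 : x ^ 2 = 1 := by rw [sq]; nth_rw 2 [h3]; exact mul_inv_cancel x
    have h9 : orderOf x ∣ 9 := card_P3 h α ▸ Subgroup.orderOf_dvd_natCard _ hx
    have h22 := orderOf_dvd_of_pow_eq_one h5
    exact orderOf_eq_one_iff.1 (Nat.dvd_one.1 ((Nat.dvd_gcd h22 h9).trans (by norm_num)))
  obtain ⟨k, hk, hk4⟩ : ∃ k ∈ K, orderOf k = 4 := by
    by_contra hcon
    simp only [not_exists, not_and] at hcon
    have hsq : ∀ a ∈ K, a * a = 1 := fun a ha => by
      have hd : orderOf a ∣ 4 := hK ▸ Subgroup.orderOf_dvd_natCard _ ha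
      have h4 := hcon a ha
      have hle := Nat.le_of_dvd (by norm_num) hd
      rw [← sq]
      refine orderOf_dvd_iff_pow_eq_one.1 ?_
      revert hd h4
      interval_cases (orderOf a) <;> norm_num
    haveI := Fintype.ofFinite K
    have hle : Fintype.card K ≤ 2 := by
      rcases Classical.em (∃ a ∈ K, a ≠ 1) with ⟨a, ha, ha1⟩ | hno
      · have hsurj : Function.Surjective (fun b : Bool => if b then (⟨a, ha⟩ : K) else 1) := by
          rintro ⟨c, hc⟩
          by_cases hc1 : c = 1
          · exact ⟨false, Subtype.ext hc1.symm⟩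
          · exact ⟨true, Subtype.ext (huniq a ha c hc (hsq a ha) (hsq c hc) ha1 hc1)⟩
        simpa using Fintype.card_le_of_surjective _ hsurj
      · simp only [not_exists, not_and, not_not] at hno
        have hsurj : Function.Surjective (fun _ : Bool => (1 : K)) := fun c =>
          ⟨true, Subtype.ext (hno c c.2).symm⟩
        simpa using Fintype.card_le_of_surjective _ hsurj
    rw [← Nat.card_eq_fintype_card, hK] at hle
    omega
  refine ⟨k, hk.1, hk.2, hk4, fun g hgα hgβ => ?_⟩
  have hKz : zpowers k = K := eq_of_le_of_card_ge (zpowers_le.2 hk) (by rw [hK, Nat.card_zpowers, hk4])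
  obtain ⟨n, hn⟩ := (isOfFinOrder_of_finite k).mem_zpowers_iff_mem_range_orderOf.1
    (hKz.ge (show g ∈ K from ⟨hgα, hgβ⟩)) |> Finset.mem_image.1
  rw [Finset.mem_range, hk4] at hn
  exact ⟨⟨n, hn.1⟩, hn.2.symm⟩

/-- The data of the model. -/
theorem exists_model :
    ∃ φ : G →* Equiv.Perm Pt, Function.Injective φ ∧ φ.range = closure {X, Y, R, W} := by
  classical
  haveI : Fact (Nat.Prime 3) := ⟨Nat.prime_three⟩
  obtain ⟨α⟩ : Nonempty (Sylow 3 G) := inferInstance
  obtain ⟨β, hβ⟩ : ∃ β : Sylow 3 G, β ≠ α := by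
    haveI : Nontrivial (Sylow 3 G) := Finite.one_lt_card_iff_nontrivial.1 (by rw [card_sylow3 h]; norm_num)
    exact exists_ne α
  obtain ⟨k, hkα, hkβ, hk4, hgenK⟩ := exists_k h α β hβ
  have hkN : k ∈ normalizer ((α : Subgroup G) : Set G) := Sylow.smul_eq_iff_mem_normalizer.1 hkα
  have hPk : ∀ x ∈ (α : Subgroup G), k * x * k⁻¹ ∈ (α : Subgroup G) := fun x hx =>
    (mem_normalizer_iff.1 hkN x).1 hx
  have hk2 : ∀ x ∈ (α : Subgroup G), k * (k * x * k⁻¹) * k⁻¹ = x⁻¹ := fun x hx => by
    have h4 : k ^ 4 = 1 := hk4 ▸ pow_orderOf_eq_one k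
    have hne : k ^ 2 ≠ 1 := fun e => by
      have := Nat.le_of_dvd two_pos (orderOf_dvd_of_pow_eq_one e)
      omega
    have hcc : k ^ 2 * k ^ 2 = 1 := by rw [← pow_add]; exact h4
    have := inverts h α β hβ (z := k ^ 2) (by rw [sq, mul_smul, hkα, hkα])
      (by rw [sq, mul_smul, hkβ, hkβ]) hcc hne hx
    rw [sq] at this
    rw [← this]; group
  obtain ⟨x, hx, hx3⟩ : ∃ x ∈ (α : Subgroup G), orderOf x = 3 := by
    obtain ⟨⟨x, hx⟩, hx3⟩ := exists_prime_orderOf_dvd_card' (G := ↥(α : Subgroup G)) 3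
      (by rw [card_P3 h α]; norm_num)
    exact ⟨x, hx, by rwa [orderOf_mk] at hx3⟩
  set y := k * x * k⁻¹ with hy
  have hyP : y ∈ (α : Subgroup G) := hPk x hx
  have hy3 : orderOf y = 3 := by
    rw [hy, show k * x * k⁻¹ = MulAut.conj k x from rfl, MulEquiv.orderOf_eq, hx3]
  have hky : k * y * k⁻¹ = x⁻¹ := hk2 x hx
  have hxne : x ≠ 1 := fun e => by rw [e, orderOf_one] at hx3; omega
  have hx33 : x ^ 3 = 1 := hx3 ▸ pow_orderOf_eq_one x
  have hy33 : y ^ 3 = 1 := hy3 ▸ pow_orderOf_eq_one y
  have hxy : Commute x y := comm_P3 h α x hx y hyP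
  -- the coordinates
  let v : Pl → G := fun p => x ^ p.1.val * y ^ p.2.val
  have hv : ∀ p, v p ∈ (α : Subgroup G) := fun p => mul_mem (pow_mem hx _) (pow_mem hyP _)
  have hcast : ∀ (a : G), a ^ 3 = 1 → ∀ n m : ℕ, (n : ZMod 3) = m → a ^ n = a ^ m := fun a ha n m e => by
    rw [ZMod.natCast_eq_natCast_iff'] at e
    rw [← Nat.div_add_mod n 3, ← Nat.div_add_mod m 3, pow_add, pow_add, pow_mul, pow_mul, ha, one_pow,
      one_pow, e]
  have hvadd : ∀ p q, v (p + q) = v p * v q := fun p q => by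
    show x ^ (p.1 + q.1).val * y ^ (p.2 + q.2).val = _
    rw [hcast x hx33 _ (p.1.val + q.1.val) (by push_cast; simp),
      hcast y hy33 _ (p.2.val + q.2.val) (by push_cast; simp), pow_add, pow_add]
    show _ = x ^ p.1.val * y ^ p.2.val * (x ^ q.1.val * y ^ q.2.val)
    rw [mul_assoc (x ^ p.1.val), mul_assoc (x ^ p.1.val), ← mul_assoc (x ^ q.1.val),
      (hxy.pow_pow q.1.val p.2.val).eq, mul_assoc]
  have hv10 : v (1, 0) = x := by
    show x ^ (1 : ZMod 3).val * y ^ (0 : ZMod 3).val = x
    rw [show (1 : ZMod 3).val = 1 from rfl, show (0 : ZMod 3).val = 0 from rfl, pow_one, pow_zero, mul_one]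
  have hv01 : v (0, 1) = y := by
    show x ^ (0 : ZMod 3).val * y ^ (1 : ZMod 3).val = y
    rw [show (1 : ZMod 3).val = 1 from rfl, show (0 : ZMod 3).val = 0 from rfl, pow_one, pow_zero, one_mul]
  have hv0 : v 0 = 1 := by
    show x ^ (0 : ZMod 3).val * y ^ (0 : ZMod 3).val = 1
    simp
  have hvk : ∀ p, k * v p * k⁻¹ = v (rot p) := fun p => by
    show k * (x ^ p.1.val * y ^ p.2.val) * k⁻¹ = x ^ (-p.2).val * y ^ p.1.val
    rw [← conj_mul, ← conj_pow, ← conj_pow, ← hy, hky, (hxy.symm.inv_right.pow_pow p.1.val p.2.val).eq]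
    congr 1
    rw [inv_pow]
    refine inv_eq_of_mul_eq_one_right ?_
    rw [← pow_add, hcast x hx33 _ 0 (by push_cast; simp), pow_zero]
  have hinj0 : ∀ p, v p = 1 → p = 0 := by
    intro p hp
    have hp1 : x ^ p.1.val * y ^ p.2.val = 1 := hp
    have hpow : ∀ n : ℕ, (n : ZMod 3) ≠ 0 → ∀ a b : G, a ^ 3 = 1 → a ^ n ∈ zpowers b → a ∈ zpowers b := by
      intro n hn a b ha hmem
      rcases zmod3_cases _ hn with e | e
      · rwa [hcast a ha n 1 (by simpa using e), pow_one] at hmem
      · have : a = (a ^ n) ^ 2 := by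
          rw [← pow_mul, hcast a ha (n * 2) 1 (by push_cast; rw [e]; exact two_mul_two), pow_one]
        rw [this]; exact pow_mem hmem 2
    by_cases h2 : p.2 = 0
    · rw [h2] at hp1
      simp only [ZMod.val_zero, pow_zero, mul_one] at hp1
      have h3 : (p.1.val : ℕ) < 3 := ZMod.val_lt _
      have hd : orderOf x ∣ p.1.val := orderOf_dvd_of_pow_eq_one hp1
      rw [hx3] at hd
      have : p.1.val = 0 := by omega
      exact Prod.ext ((ZMod.val_eq_zero _).1 this) h2
    · exfalso
      have hmem : y ^ p.2.val ∈ zpowers x := by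
        rw [eq_inv_of_mul_eq_one_right hp1]
        exact inv_mem (pow_mem (mem_zpowers x) _)
      have hyx := hpow p.2.val (by rwa [ZMod.natCast_zmod_val]) y x hy33 hmem
      obtain ⟨n, hn⟩ := ((isOfFinOrder_of_finite x).mem_zpowers_iff_mem_range_orderOf.1 hyx) |> Finset.mem_image.1
      rw [Finset.mem_range, hx3] at hn
      obtain ⟨hn3, hn⟩ := hn
      have hxx : k * (k * x * k⁻¹) * k⁻¹ = y ^ n := by
        rw [← hy, ← hn, ← conj_pow, ← hy, ← hn]
      rw [← hy, hky, ← hn, ← pow_mul] at hxx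
      have hx1 : x ^ (n * n + 1) = 1 := by rw [pow_succ, ← hxx, inv_mul_cancel]
      have hd := orderOf_dvd_of_pow_eq_one hx1
      rw [hx3] at hd
      interval_cases n <;> norm_num at hd
  have hvinj : Function.Injective v := fun p q e => by
    have h1 : v (p - q) = 1 := by
      have h2 : v (p - q) * v q = v q := by rw [← hvadd, sub_add_cancel, e]
      exact mul_eq_right.1 h2
    exact sub_eq_zero.1 (hinj0 _ h1)
  have hfixα : ∀ p, v p • α = α := fun p => Sylow.smul_eq_iff_mem_normalizer.2 (le_normalizer (hv p))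
  obtain ⟨e, he⟩ : ∃ e : Pt ≃ Sylow 3 G, ⇑e = fun o => o.elim α (fun p => v p • β) := by
    haveI := Fintype.ofFinite (Sylow 3 G)
    refine ⟨Equiv.ofBijective _ ((Fintype.bijective_iff_injective_and_card _).2 ⟨?_, ?_⟩), rfl⟩
    · rintro (_ | p) (_ | q) e
      · rfl
      · exfalso
        have e' : α = v q • β := e
        rw [← hfixα q] at e'
        exact hβ (smul_left_cancel _ e').symm
      · exfalso
        have e' : v p • β = α := e
        rw [← hfixα p] at e'
        exact hβ (smul_left_cancel _ e')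
      · have e' : v p • β = v q • β := e
        have h2 : ((v q)⁻¹ * v p) • β = β := by rw [mul_smul, e', inv_smul_smul]
        exact congrArg some (hvinj (inv_mul_eq_one.1 (eq_one_of_fixes h α β hβ
          (mul_mem (inv_mem (hv q)) (hv p)) h2)).symm)
    · rw [← Nat.card_eq_fintype_card (α := Sylow 3 G), card_sylow3 h]
      rfl
  obtain ⟨φ, hφ⟩ : ∃ φ : G →* Equiv.Perm Pt, ∀ g o, e (φ g o) = g • e o :=
    ⟨(e.symm.permCongrHom.toMonoidHom).comp (MulAction.toPermHom G (Sylow 3 G)), fun g o => by simp⟩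
  have heN : e none = α := by rw [he]; rfl
  have heS : ∀ p, e (some p) = v p • β := fun p => by rw [he]; rfl
  have hval : ∀ (g : G) (f : Pt → Pt), (∀ o, g • e o = e (f o)) → ∀ o, φ g o = f o := fun g f hf o =>
    e.injective (by rw [hφ, hf])
  have hφv : ∀ p o, φ (v p) o = tr p o := fun p => hval _ _ fun o => by
    cases o with
    | none => rw [heN, hfixα]; exact heN.symm
    | some q =>
      show v p • e (some q) = e (some (p + q))
      rw [heS, heS, smul_smul, hvadd]
  have hφk : ∀ o, φ k o = Option.map rot o := hval _ _ fun o => by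
    cases o with
    | none => rw [heN, hkα]; exact heN.symm
    | some q =>
      show k • e (some q) = e (some (rot q))
      rw [heS, heS, ← hvk]
      conv_rhs => rw [mul_smul]
      rw [inv_smul_eq_iff.2 hkβ.symm, smul_smul]
  have hφkn : ∀ (n : ℕ) o, φ (k ^ n) o = Option.map (rotN n) o := fun n => by
    induction n with
    | zero => intro o; cases o <;> simp [rotN]
    | succ n ih => intro o; rw [pow_succ', map_mul, Equiv.Perm.mul_apply, ih, hφk]; cases o <;> rfl
  have hφinj : Function.Injective φ := fun a b e' => inv_mul_eq_one.1 (eq_one_of_smul_eq h fun γ => by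
    obtain ⟨o, rfl⟩ := e.surjective γ
    rw [← hφ]
    congr 1
    rw [map_mul, map_inv, e', inv_mul_cancel, Equiv.Perm.one_apply])
  -- decomposition of the point stabiliser
  have hN : ∀ g : G, φ g none = none → ∃ q : Pl, ∃ j : Fin 4, g = v q * k ^ (j : ℕ) := by
    intro g hg
    have hgα : g • α = α := by rw [← heN, ← hφ, hg]
    obtain ⟨q, hq⟩ : ∃ q, φ g (some 0) = some q := by
      cases hc : φ g (some 0) with
      | none => exact absurd ((φ g).injective (hc.trans hg.symm)) (by simp)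
      | some q => exact ⟨q, rfl⟩
    have hgβ : g • β = v q • β := by
      have h1 := hφ g (some 0)
      rw [hq, heS, heS, hv0, one_smul] at h1
      exact h1.symm
    obtain ⟨j, hj⟩ := hgenK ((v q)⁻¹ * g) (by rw [mul_smul, hgα, inv_smul_eq_iff.2 (hfixα q).symm])
      (by rw [mul_smul, hgβ, inv_smul_smul])
    exact ⟨q, j, by rw [← hj, mul_inv_cancel_left]⟩
  -- an element exchanging the two points, normalised
  obtain ⟨w₁, hw₁α, hw₁β⟩ : ∃ w : G, w • α = β ∧ w • β = α := by
    obtain ⟨g, hg⟩ := MulAction.exists_smul_eq G α β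
    have hne : g⁻¹ • α ≠ α := fun e' => hβ (by
      rw [inv_smul_eq_iff] at e'
      exact (e'.trans hg).symm)
    obtain ⟨n, hn, hnβ⟩ := exists_smul h α β hβ _ hne
    refine ⟨g * n, ?_, ?_⟩
    · rw [mul_smul, Sylow.smul_eq_iff_mem_normalizer.2 (le_normalizer hn), hg]
    · rw [mul_smul, hnβ, smul_inv_smul]
  have hsw : ∀ j : ℕ, φ (k ^ j * w₁) none = some 0 ∧ φ (k ^ j * w₁) (some 0) = none := fun j => by
    have h1 : φ w₁ none = some 0 := e.injective (by rw [hφ, heN, hw₁α, heS, hv0, one_smul])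
    have h2 : φ w₁ (some 0) = none := e.injective (by rw [hφ, heS, hv0, one_smul, hw₁β, heN])
    simp only [map_mul, Equiv.Perm.mul_apply, h1, h2, hφkn]
    refine ⟨?_, rfl⟩
    show some (rotN j 0) = some 0
    congr 1
    induction j with
    | zero => rfl
    | succ j ih => show rot (rotN j 0) = 0; rw [ih]; simp [rot]
  obtain ⟨a₁, ha₁⟩ : ∃ a, φ w₁ (some (1, 0)) = some a := by
    cases hc : φ w₁ (some (1, 0)) with
    | none =>
      have h2 := (hsw 0).2
      rw [pow_zero, one_mul] at h2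
      exact absurd ((φ w₁).injective (hc.trans h2.symm)) (by simp)
    | some a => exact ⟨a, rfl⟩
  have ha₁0 : a₁ ≠ 0 := fun e' => by
    have h1 := (hsw 0).1
    rw [pow_zero, one_mul] at h1
    rw [e'] at ha₁
    exact absurd ((φ w₁).injective (ha₁.trans h1.symm)) (by simp)
  obtain ⟨j₀, hj₀⟩ := two_orbits a₁ ha₁0
  set w := k ^ (j₀ : ℕ) * w₁
  obtain ⟨hw0, hwN⟩ := hsw j₀
  obtain ⟨a, haw, ha⟩ : ∃ a, φ w (some (1, 0)) = some a ∧ (a = (1, 0) ∨ a = (1, 1)) := by
    refine ⟨rotN j₀ a₁, ?_, hj₀⟩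
    rw [map_mul, Equiv.Perm.mul_apply, ha₁, hφkn]
    rfl
  have hfin : ∀ p : Pl, p ≠ 0 → ∃ q, q ≠ 0 ∧ φ w (some p) = some q := by
    intro p hp
    cases hc : φ w (some p) with
    | none => exact absurd ((φ w).injective (hc.trans hwN.symm)) (by simpa using hp)
    | some q =>
      refine ⟨q, fun e' => ?_, rfl⟩
      rw [e'] at hc
      exact absurd ((φ w).injective (hc.trans hw0.symm)) (by simp)
  obtain ⟨b, hb0, hbw⟩ := hfin (1, 1) (by simp)
  -- `w` normalises the stabiliser of the two points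
  obtain ⟨s, hs⟩ : ∃ s : Bool, w * k = k ^ (bif s then 3 else 1) * w := by
    have hwα : w • α = β := by rw [← heN, ← hφ, hw0, heS, hv0, one_smul]
    have hwβ : w • β = α := by
      conv_lhs => rw [← one_smul G β, ← hv0, ← heS, ← hφ, hwN, heN]
    obtain ⟨j, hj⟩ := hgenK (w * k * w⁻¹)
      (by rw [mul_smul, mul_smul, inv_smul_eq_iff.2 hwβ.symm, hkβ, hwβ])
      (by rw [mul_smul, mul_smul, inv_smul_eq_iff.2 hwα.symm, hkα, hwα])
    have ho : orderOf (k ^ (j : ℕ)) = 4 := by
      rw [← hj, show w * k * w⁻¹ = MulAut.conj w k from rfl, MulEquiv.orderOf_eq, hk4]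
    have hwk : w * k = k ^ (j : ℕ) * w := by rw [← hj]; group
    fin_cases j
    · simp at ho
    · exact ⟨false, by simpa using hwk⟩
    · exfalso
      change orderOf (k ^ (2 : ℕ)) = 4 at ho
      rw [orderOf_pow, hk4] at ho
      norm_num at ho
    · exact ⟨true, by simpa using hwk⟩
  set s' := (bif s then 3 else 1 : ℕ) with hs'
  have hrot : ∀ (n : ℕ) o, φ w (Option.map (rotN n) o) = Option.map (rotN (n * s')) (φ w o) := by
    intro n o
    have hc : w * k ^ n = k ^ (n * s') * w := by
      have h1 : (w * k * w⁻¹) ^ n = k ^ (n * s') := by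
        rw [hs, mul_inv_cancel_right, ← pow_mul, mul_comm]
      rw [← h1, conj_pow]; group
    rw [← hφkn, ← hφkn, ← Equiv.Perm.mul_apply, ← Equiv.Perm.mul_apply, ← map_mul, ← map_mul, hc]
  have hwf : ∀ o, φ w o = wF s' a b o := by
    intro o
    cases o with
    | none => exact hw0
    | some p =>
      obtain ⟨v1, v2, v3, v4, v5, v6, v7, v8, v9⟩ := wF_values s' a b
      obtain ⟨r1, r2, r3, r4, r5, r6⟩ := rot_values
      rcases pl_cases p with rfl | rfl | rfl | rfl | rfl | rfl | rfl | rfl | rfl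
      · rw [v9]; exact hwN
      · rw [v1]; exact haw
      · rw [v2, ← r1, ← Option.map_some, hrot, haw, Option.map_some, one_mul]
      · rw [v3, ← r2, ← Option.map_some, hrot, haw, Option.map_some]
      · rw [v4, ← r3, ← Option.map_some, hrot, haw, Option.map_some]
      · rw [v5]; exact hbw
      · rw [v6, ← r4, ← Option.map_some, hrot, hbw, Option.map_some, one_mul]
      · rw [v7, ← r5, ← Option.map_some, hrot, hbw, Option.map_some]
      · rw [v8, ← r6, ← Option.map_some, hrot, hbw, Option.map_some]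
  have hrel : Rel (wF s' a b) := by
    obtain ⟨c, -, hcw⟩ := hfin (1, 0) (by simp)
    have h1 : φ (w * v (1, 0) * w) none = some c := by
      rw [map_mul, map_mul, Equiv.Perm.mul_apply, Equiv.Perm.mul_apply, hw0, hφv]
      show φ w (some ((1, 0) + 0)) = _
      rw [add_zero, hcw]
    have h2 : φ ((v c * w)⁻¹ * (w * v (1, 0) * w)) none = none := by
      rw [map_mul, Equiv.Perm.mul_apply, h1, map_inv, Equiv.Perm.inv_eq_iff_eq, map_mul,
        Equiv.Perm.mul_apply, hw0, hφv]
      show some c = some (c + 0)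
      rw [add_zero]
    obtain ⟨q, j, hqj⟩ := hN _ h2
    rw [inv_mul_eq_iff_eq_mul] at hqj
    refine ⟨c, q, j, fun o => ?_⟩
    have h3 : φ (w * v (1, 0) * w) o = φ (v c * w * (v q * k ^ (j : ℕ))) o := by rw [hqj]
    simp only [map_mul, Equiv.Perm.mul_apply, hφv, hφkn, hwf] at h3
    exact h3
  have hbcond : b ≠ 0 ∧ b ≠ a ∧ b ≠ rot a ∧ b ≠ rotN 2 a ∧ b ≠ rotN 3 a := by
    have hne : ∀ p : Pl, p ≠ (1, 1) → φ w (some p) ≠ some b := fun p hp e' =>
      hp (Option.some_injective _ ((φ w).injective (e'.trans hbw.symm)))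
    have e1 := hne (1, 0) ne_one_one.1
    have e2 := hne (0, 1) ne_one_one.2.1
    have e3 := hne (2, 0) ne_one_one.2.2.1
    have e4 := hne (0, 2) ne_one_one.2.2.2
    rw [hwf] at e1 e2 e3 e4
    change some a ≠ some b at e1
    change some (rotN s' a) ≠ some b at e2
    change some (rotN (2 * s') a) ≠ some b at e3
    change some (rotN (3 * s') a) ≠ some b at e4
    rw [Ne, Option.some.injEq] at e1 e2 e3 e4
    have h4 : ∀ p, rotN 4 p = p := by decide +kernel
    refine ⟨hb0, fun e' => e1 e'.symm, ?_⟩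
    cases s
    · exact ⟨fun e' => e2 e'.symm, fun e' => e3 e'.symm, fun e' => e4 e'.symm⟩
    · refine ⟨fun e' => e4 ?_, fun e' => e3 ?_, fun e' => e2 e'.symm⟩
      · show rotN 9 a = b
        rw [e']
        show rotN 4 (rotN 4 (rot a)) = rot a
        rw [h4, h4]
      · show rotN 6 a = b
        rw [e']
        show rotN 4 (rotN 2 a) = rotN 2 a
        rw [h4]
  have hW : φ w = W := Equiv.ext fun o => (hwf o).trans (eq_W s a b ha hbcond hrel o)
  have hX : φ x = X := Equiv.ext fun o => by rw [← hv10, hφv]; rfl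
  have hY : φ y = Y := Equiv.ext fun o => by rw [← hv01, hφv]; rfl
  have hR : φ k = R := Equiv.ext fun o => (hφk o).trans rfl
  have htop : closure {x, y, k, w} = (⊤ : Subgroup G) := by
    set H := closure ({x, y, k, w} : Set G)
    have hvH : ∀ p, v p ∈ H := fun p => H.mul_mem (H.pow_mem (subset_closure (by simp)) _)
      (H.pow_mem (subset_closure (by simp)) _)
    have hkH : k ∈ H := subset_closure (by simp)
    have hwH : w ∈ H := subset_closure (by simp)
    have hNH : ∀ g, φ g none = none → g ∈ H := fun g hg => by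
      obtain ⟨q, j, rfl⟩ := hN g hg
      exact H.mul_mem (hvH q) (H.pow_mem hkH _)
    refine top_le_iff.1 fun g _ => ?_
    cases hc : φ g none with
    | none => exact hNH g hc
    | some p =>
      have h1 : (v p * w)⁻¹ * g ∈ H := hNH _ (by
        rw [map_mul, Equiv.Perm.mul_apply, hc, map_inv, Equiv.Perm.inv_eq_iff_eq, map_mul,
          Equiv.Perm.mul_apply, hw0, hφv]
        show some p = some (p + 0)
        rw [add_zero])
      have h2 := H.mul_mem (H.mul_mem (hvH p) hwH) h1
      rwa [mul_inv_cancel_left] at h2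
  refine ⟨φ, hφinj, ?_⟩
  rw [MonoidHom.range_eq_map, ← htop, MonoidHom.map_closure, Set.image_insert_eq, Set.image_insert_eq,
    Set.image_insert_eq, Set.image_singleton, hX, hY, hR, hW]

theorem iso {H : Type*} [Group H] [Finite H] [IsSimpleGroup H] (h' : Nat.card H = 360) :
    Nonempty (G ≃* H) := by
  obtain ⟨φ, hφ, hr⟩ := exists_model h
  obtain ⟨ψ, hψ, hr'⟩ := exists_model h'
  exact ⟨(MonoidHom.ofInjective hφ).trans ((MulEquiv.subgroupCongr (hr.trans hr'.symm)).trans
    (MonoidHom.ofInjective hψ).symm)⟩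

end Cfsg.Agent.Small.Order360
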