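import Cfsg.Agent.Lib.Small.AltSevenGens

/-!
# Simple groups of order 2520: enumerating the cosets along a chain of subgroups
-/

set_option autoImplicit false

namespace Cfsg.Agent.Small.AltSeven

open Subgroup

universe u

variable {G : Type u} [Group G] [Finite G]

/-- The action of a word on the labels of the cosets. -/
def act {n m : ℕ} (σ : Fin m → Fin n → Fin n) (w : List (Fin m)) (i : Fin n) : Fin n :=
  w.foldl (fun j s => σ s j) i

/-- A coset table whose action separates all pairs of labels. -/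
theorem coset_table {n m : ℕ} (H K : Subgroup G) (S : Fin m → G) (r : Fin (n + 2) → G)
    (σ : Fin m → Fin (n + 2) → Fin (n + 2)) (W : List (List (Fin m))) (hr0 : r 0 = 1)
    (hσ : ∀ s i, r i * S s * (r (σ s i))⁻¹ ∈ H) (hK : K = closure (Set.range S)) (hH : H ≤ K)
    (hr : ∀ i, r i ∈ K) (h1 : r 1 ∉ H)
    (hW : ∀ i j, i ≠ j → ∃ w ∈ W, (act σ w i = 0 ∧ act σ w j = 1) ∨ (act σ w i = 1 ∧ act σ w j = 0)) :
    Nat.card K = (n + 2) * Nat.card H ∧ (∀ g ∈ K, ∃ i, g * (r i)⁻¹ ∈ H) ∧
      ∀ i j, r i * (r j)⁻¹ ∈ H → i = j := by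
  classical
  have hstep : ∀ (w : List (Fin m)) i j, r i * (r j)⁻¹ ∈ H →
      r (act σ w i) * (r (act σ w j))⁻¹ ∈ H := by
    intro w
    induction w with
    | nil => exact fun i j h => h
    | cons s w ih =>
      intro i j h
      refine ih (σ s i) (σ s j) ?_
      have e := mul_mem (mul_mem (H.inv_mem (hσ s i)) h) (hσ s j)
      rwa [show (r i * S s * (r (σ s i))⁻¹)⁻¹ * (r i * (r j)⁻¹) * (r j * S s * (r (σ s j))⁻¹) =
        r (σ s i) * (r (σ s j))⁻¹ by group] at e
  have hinj : ∀ i j, r i * (r j)⁻¹ ∈ H → i = j := by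
    intro i j h
    by_contra hne
    obtain ⟨w, -, ⟨e0, e1⟩ | ⟨e1, e0⟩⟩ := hW i j hne
    · have := hstep w i j h
      rw [e0, e1, hr0, one_mul] at this
      exact h1 (by simpa using H.inv_mem this)
    · have := hstep w i j h
      rw [e0, e1, hr0, inv_one, mul_one] at this
      exact h1 this
  have hcov : ∀ g ∈ K, ∀ i, ∃ j, r i * g * (r j)⁻¹ ∈ H := by
    intro g hg
    rw [hK, ← mem_toSubmonoid, closure_toSubmonoid_of_finite] at hg
    induction hg using Submonoid.closure_induction with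
    | mem x hx => obtain ⟨s, rfl⟩ := hx; exact fun i => ⟨σ s i, hσ s i⟩
    | one => exact fun i => ⟨i, by rw [mul_one, mul_inv_cancel]; exact H.one_mem⟩
    | mul x y _ _ hx hy =>
      intro i
      obtain ⟨j, hj⟩ := hx i
      obtain ⟨l, hl⟩ := hy j
      refine ⟨l, ?_⟩
      have e := mul_mem hj hl
      rwa [show r i * x * (r j)⁻¹ * (r j * y * (r l)⁻¹) = r i * (x * y) * (r l)⁻¹ by group] at e
  have hcov0 : ∀ g ∈ K, ∃ i, g * (r i)⁻¹ ∈ H := fun g hg => by
    obtain ⟨j, hj⟩ := hcov g hg 0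
    exact ⟨j, by rwa [hr0, one_mul] at hj⟩
  refine ⟨?_, hcov0, hinj⟩
  let f : Fin (n + 2) × H → K := fun p => ⟨(p.2 : G) * r p.1, mul_mem (hH p.2.2) (hr p.1)⟩
  have hf : Function.Bijective f := by
    refine ⟨fun p q e => ?_, fun g => ?_⟩
    · have e' : (p.2 : G) * r p.1 = q.2 * r q.1 := congrArg Subtype.val e
      have hi : p.1 = q.1 := hinj _ _ (by
        rw [show r p.1 * (r q.1)⁻¹ = (p.2 : G)⁻¹ * q.2 by
          rw [eq_inv_mul_iff_mul_eq, ← mul_assoc, e', mul_inv_cancel_right]]
        exact mul_mem (H.inv_mem p.2.2) q.2.2)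
      rw [hi] at e'
      exact Prod.ext hi (Subtype.ext (mul_right_cancel e'))
    · obtain ⟨i, hi⟩ := hcov0 g g.2
      exact ⟨⟨i, ⟨_, hi⟩⟩, Subtype.ext (inv_mul_cancel_right _ _)⟩
  rw [← Nat.card_congr (Equiv.ofBijective f hf), Nat.card_prod, Nat.card_fin]

omit [Finite G] in
theorem mem_coset {H : Subgroup G} {p q : G} (h : G) (hh : h ∈ H) (e : p = h * q) :
    p * q⁻¹ ∈ H := by rwa [e, mul_inv_cancel_right]

omit [Finite G] in
theorem range_three (p q s : G) : Set.range ![p, q, s] = {p, q, s} := by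
  simp only [Matrix.range_cons, Matrix.range_empty, Set.union_empty, Set.singleton_union]

/-- The stage `⟨x⟩ ≤ ⟨x, v⟩`. -/
theorem stage_one {x v : G} (hx : orderOf x = 3) (hv : v * v = 1)
    (hvxv : v * x * v = x⁻¹ * v * x⁻¹) (hne : v ∉ zpowers x) :
    Nat.card (closure ({x, v} : Set G)) = 12 := by
  have hxx := mul_self_eq_inv hx
  set K := closure ({x, v} : Set G)
  have hxK : x ∈ K := subset_closure (by simp)
  have hvK : v ∈ K := subset_closure (by simp)
  have hm : x ∈ zpowers x := mem_zpowers x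
  have := (coset_table (n := 2) (zpowers x) K ![x, v] ![1, v, v * x, v * x⁻¹]
    ![![0, 2, 3, 1], ![1, 0, 3, 2]] [[], [0], [0, 0], [0, 0, 1, 0], [0, 1, 0], [1, 0]] rfl ?_ ?_
    (zpowers_le.2 hxK) ?_ hne (by decide)).1
  · rw [this, Nat.card_zpowers, hx]
  · intro s i
    fin_cases s <;> fin_cases i <;> simp only [Matrix.cons_val, Fin.isValue, Fin.mk_one, Fin.zero_eta, Fin.reduceFinMk]
    · exact mem_coset x hm (by group)
    · exact mem_coset 1 (one_mem _) (by group)
    · exact mem_coset 1 (one_mem _) (by rw [mul_assoc, hxx]; group)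
    · exact mem_coset 1 (one_mem _) (by group)
    · exact mem_coset 1 (one_mem _) (by group)
    · exact mem_coset 1 (one_mem _) (by rw [hv]; group)
    · exact mem_coset x⁻¹ (inv_mem hm) (by rw [hvxv]; group)
    · refine mem_coset x hm ?_
      calc v * x⁻¹ * v = (v⁻¹ * x * v⁻¹)⁻¹ := by group
        _ = (v * x * v)⁻¹ := by rw [inv_eq_of_mul_eq_one_right hv]
        _ = x * v⁻¹ * x := by rw [hvxv]; group
        _ = _ := by rw [inv_eq_of_mul_eq_one_right hv, mul_assoc]
  · rw [Matrix.range_cons, Matrix.range_cons, Matrix.range_empty, Set.union_empty, Set.singleton_union]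
  · intro i
    fin_cases i
    exacts [one_mem _, hvK, mul_mem hvK hxK, mul_mem hvK (inv_mem hxK)]

/-- The stage `⟨x, v⟩ ≤ ⟨x, v, a⟩`. -/
theorem stage_two {x v a : G} (hx : orderOf x = 3) (hv : v * v = 1) (ha : a * a = 1)
    (hvxv : v * x * v = x⁻¹ * v * x⁻¹) (hax : a * x = x⁻¹ * a) (hava : a * v * a = v * a * v)
    (hne : a ∉ closure ({x, v} : Set G)) :
    Nat.card (closure ({x, v, a} : Set G)) = 5 * Nat.card (closure ({x, v} : Set G)) ∧
      ∀ g ∈ closure ({x, v, a} : Set G), g * v = v * g → g ∈ closure ({x, v} : Set G) := by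
  have hxx := mul_self_eq_inv hx
  have hxa : a * x⁻¹ = x * a := by
    rw [mul_inv_eq_iff_eq_mul, mul_assoc, hax, mul_inv_cancel_left]
  have hvi := inv_eq_of_mul_eq_one_right hv
  set H := closure ({x, v} : Set G)
  set K := closure ({x, v, a} : Set G)
  have hxH : x ∈ H := subset_closure (by simp)
  have hvH : v ∈ H := subset_closure (by simp)
  have hxK : x ∈ K := subset_closure (by simp)
  have hvK : v ∈ K := subset_closure (by simp)
  have haK : a ∈ K := subset_closure (by simp)
  have hvxv' : v * x⁻¹ * v = x * v * x := by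
    calc v * x⁻¹ * v = (v⁻¹ * x * v⁻¹)⁻¹ := by group
      _ = (v * x * v)⁻¹ := by rw [hvi]
      _ = x * v⁻¹ * x := by rw [hvxv]; group
      _ = _ := by rw [hvi]
  have hHK : H ≤ K := closure_mono (by simp [Set.insert_subset_iff])
  have hr : ∀ i : Fin 5, ![1, a, a * v, a * v * x, a * v * x⁻¹] i ∈ K := by
    intro i
    fin_cases i
    exacts [one_mem _, haK, mul_mem haK hvK, mul_mem (mul_mem haK hvK) hxK,
      mul_mem (mul_mem haK hvK) (inv_mem hxK)]
  obtain ⟨h1, h2, h3, hσ⟩ : _ ∧ _ ∧ _ ∧ _ := by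
    have hσ : ∀ (s : Fin 3) (i : Fin 5), ![1, a, a * v, a * v * x, a * v * x⁻¹] i * ![x, v, a] s *
        (![1, a, a * v, a * v * x, a * v * x⁻¹]
          (![![0, 1, 3, 4, 2], ![0, 2, 1, 4, 3], ![1, 0, 2, 4, 3]] s i))⁻¹ ∈ H := ?_
    obtain ⟨h1, h2, h3⟩ := coset_table (n := 3) H K ![x, v, a] ![1, a, a * v, a * v * x, a * v * x⁻¹]
      ![![0, 1, 3, 4, 2], ![0, 2, 1, 4, 3], ![1, 0, 2, 4, 3]]
      [[], [0, 0, 1], [0, 1], [0, 1, 2, 0, 1], [0, 2, 1], [1], [1, 0, 2, 1], [1, 2, 0, 1], [2, 0, 1], [2, 1]]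
      rfl hσ (by rw [range_three]) hHK hr hne (by decide)
    · exact ⟨h1, h2, h3, hσ 1⟩
    · intro s i
      fin_cases s <;> fin_cases i <;> simp only [Matrix.cons_val, Fin.isValue, Fin.mk_one, Fin.zero_eta, Fin.reduceFinMk]
      · exact mem_coset x hxH (by group)
      · exact mem_coset x⁻¹ (inv_mem hxH) hax
      · exact mem_coset 1 (one_mem _) (by group)
      · exact mem_coset 1 (one_mem _) (by rw [mul_assoc (a * v), hxx]; group)
      · exact mem_coset 1 (one_mem _) (by group)
      · exact mem_coset v hvH (by group)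
      · exact mem_coset 1 (one_mem _) (by group)
      · exact mem_coset 1 (one_mem _) (by rw [mul_assoc, hv]; group)
      · refine mem_coset x hxH ?_
        calc a * v * x * v = a * (v * x * v) := by group
          _ = (a * x⁻¹) * (v * x⁻¹) := by rw [hvxv]; group
          _ = _ := by rw [hxa]; group
      · refine mem_coset x⁻¹ (inv_mem hxH) ?_
        calc a * v * x⁻¹ * v = a * (v * x⁻¹ * v) := by group
          _ = (a * x) * (v * x) := by rw [hvxv']; group
          _ = _ := by rw [hax]; group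
      · exact mem_coset 1 (one_mem _) (by group)
      · exact mem_coset 1 (one_mem _) (by rw [ha]; group)
      · exact mem_coset v hvH (by rw [hava]; group)
      · refine mem_coset v hvH ?_
        calc a * v * x * a = a * v * (x * a) := by group
          _ = (a * v * a) * x⁻¹ := by rw [← hxa]; group
          _ = _ := by rw [hava]; group
      · refine mem_coset v hvH ?_
        calc a * v * x⁻¹ * a = a * v * (x⁻¹ * a) := by group
          _ = (a * v * a) * x := by rw [← hax]; group
          _ = _ := by rw [hava]; group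
  refine ⟨h1, fun g hg hgv => ?_⟩
  obtain ⟨i, hi⟩ := h2 g hg
  set r : Fin 5 → G := ![1, a, a * v, a * v * x, a * v * x⁻¹]
  set σ : Fin 5 → Fin 5 := ![0, 2, 1, 4, 3]
  have hri : r i * v * (r i)⁻¹ ∈ H := by
    have e := mul_mem (mul_mem (H.inv_mem hi) hvH) hi
    rwa [show (g * (r i)⁻¹)⁻¹ * v * (g * (r i)⁻¹) = r i * (g⁻¹ * (v * g)) * (r i)⁻¹ by group,
      ← hgv, inv_mul_cancel_left] at e
  have hfix : r (σ i) * (r i)⁻¹ ∈ H := by
    have e := mul_mem (H.inv_mem (show r i * v * (r (σ i))⁻¹ ∈ H from hσ i)) hri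
    rwa [show (r i * v * (r (σ i))⁻¹)⁻¹ * (r i * v * (r i)⁻¹) = r (σ i) * (r i)⁻¹ by group] at e
  have h0 : i = 0 := (by decide : ∀ j : Fin 5, σ j = j → j = 0) i (h3 _ _ hfix)
  rw [h0, show r 0 = 1 from rfl, inv_one, mul_one] at hi
  exact hi

/-- The stage `⟨x, v, a⟩ ≤ ⟨x, v, a, b⟩`. -/
theorem stage_three {x v a b : G} (hx : orderOf x = 3) (hv : v * v = 1) (ha : a * a = 1) (hb : b * b = 1)
    (hvxv : v * x * v = x⁻¹ * v * x⁻¹) (hax : a * x = x⁻¹ * a) (hbx : b * x = x⁻¹ * b)
    (hbv : b * v = v * b) (hava : a * v * a = v * a * v) (hbab : b * a * b = a * b * a)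
    (hne : b ∉ closure ({x, v, a} : Set G)) :
    Nat.card (closure ({x, v, a, b} : Set G)) = 6 * Nat.card (closure ({x, v, a} : Set G)) := by
  have hxx := mul_self_eq_inv hx
  have hxa : a * x⁻¹ = x * a := by
    rw [mul_inv_eq_iff_eq_mul, mul_assoc, hax, mul_inv_cancel_left]
  have hxb : b * x⁻¹ = x * b := by
    rw [mul_inv_eq_iff_eq_mul, mul_assoc, hbx, mul_inv_cancel_left]
  have hvi := inv_eq_of_mul_eq_one_right hv
  set H := closure ({x, v, a} : Set G)
  set K := closure ({x, v, a, b} : Set G)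
  have hxH : x ∈ H := subset_closure (by simp)
  have hvH : v ∈ H := subset_closure (by simp)
  have haH : a ∈ H := subset_closure (by simp)
  have hbK : b ∈ K := subset_closure (by simp)
  have hvxv' : v * x⁻¹ * v = x * v * x := by
    calc v * x⁻¹ * v = (v⁻¹ * x * v⁻¹)⁻¹ := by group
      _ = (v * x * v)⁻¹ := by rw [hvi]
      _ = x * v⁻¹ * x := by rw [hvxv]; group
      _ = _ := by rw [hvi]
  have hHK : H ≤ K := closure_mono (by simp [Set.insert_subset_iff])
  refine (coset_table (n := 4) H K ![x, v, a, b]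
    ![1, b, b * a, b * a * v, b * a * v * x, b * a * v * x⁻¹]
    ![![0, 1, 2, 4, 5, 3], ![0, 1, 3, 2, 5, 4], ![0, 2, 1, 3, 5, 4], ![1, 0, 2, 3, 5, 4]]
    [[], [0, 0, 1, 2], [0, 1, 2], [0, 1, 2, 0, 1, 3, 2], [0, 1, 3, 2], [0, 2, 1, 3, 2],
      [1, 0, 2, 1, 3, 2], [1, 2], [1, 2, 0, 1, 3, 2], [1, 3, 2], [2], [2, 0, 1, 3, 2], [2, 1, 3, 2],
      [3, 0, 1, 2], [3, 2]]
    rfl ?_ ?_ hHK ?_ hne (by decide)).1
  · intro s i
    fin_cases s <;> fin_cases i <;> simp only [Matrix.cons_val, Fin.isValue, Fin.mk_one, Fin.zero_eta, Fin.reduceFinMk]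
    · exact mem_coset x hxH (by group)
    · exact mem_coset x⁻¹ (inv_mem hxH) hbx
    · refine mem_coset x hxH ?_
      calc b * a * x = (b * x⁻¹) * a := by rw [mul_assoc b a x, hax]; group
        _ = _ := by rw [hxb]; group
    · exact mem_coset 1 (one_mem _) (by group)
    · exact mem_coset 1 (one_mem _) (by rw [mul_assoc (b * a * v), hxx]; group)
    · exact mem_coset 1 (one_mem _) (by group)
    · exact mem_coset v hvH (by group)
    · exact mem_coset v hvH hbv
    · exact mem_coset 1 (one_mem _) (by group)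
    · exact mem_coset 1 (one_mem _) (by rw [mul_assoc (b * a), hv]; group)
    · refine mem_coset x⁻¹ (inv_mem hxH) ?_
      calc b * a * v * x * v = b * a * (v * x * v) := by group
        _ = b * (a * x⁻¹) * (v * x⁻¹) := by rw [hvxv]; group
        _ = (b * x) * (a * v * x⁻¹) := by rw [hxa]; group
        _ = _ := by rw [hbx]; group
    · refine mem_coset x hxH ?_
      calc b * a * v * x⁻¹ * v = b * a * (v * x⁻¹ * v) := by group
        _ = b * (a * x) * (v * x) := by rw [hvxv']; group
        _ = (b * x⁻¹) * (a * v * x) := by rw [hax]; group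
        _ = _ := by rw [hxb]; group
    · exact mem_coset a haH (by group)
    · exact mem_coset 1 (one_mem _) (by group)
    · exact mem_coset 1 (one_mem _) (by rw [mul_assoc, ha]; group)
    · refine mem_coset v hvH ?_
      calc b * a * v * a = b * (a * v * a) := by group
        _ = (b * v) * (a * v) := by rw [hava]; group
        _ = _ := by rw [hbv]; group
    · refine mem_coset v hvH ?_
      calc b * a * v * x * a = b * a * v * (x * a) := by group
        _ = b * (a * v * a) * x⁻¹ := by rw [← hxa]; group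
        _ = (b * v) * (a * v * x⁻¹) := by rw [hava]; group
        _ = _ := by rw [hbv]; group
    · refine mem_coset v hvH ?_
      calc b * a * v * x⁻¹ * a = b * a * v * (x⁻¹ * a) := by group
        _ = b * (a * v * a) * x := by rw [← hax]; group
        _ = (b * v) * (a * v * x) := by rw [hava]; group
        _ = _ := by rw [hbv]; group
    · exact mem_coset 1 (one_mem _) (by group)
    · exact mem_coset 1 (one_mem _) (by rw [hb]; group)
    · exact mem_coset a haH (by rw [hbab]; group)
    · refine mem_coset a haH ?_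
      calc b * a * v * b = b * a * (v * b) := by group
        _ = (b * a * b) * v := by rw [← hbv]; group
        _ = _ := by rw [hbab]; group
    · refine mem_coset a haH ?_
      calc b * a * v * x * b = b * a * v * (x * b) := by group
        _ = b * a * (v * b) * x⁻¹ := by rw [← hxb]; group
        _ = (b * a * b) * (v * x⁻¹) := by rw [← hbv]; group
        _ = _ := by rw [hbab]; group
    · refine mem_coset a haH ?_
      calc b * a * v * x⁻¹ * b = b * a * v * (x⁻¹ * b) := by group
        _ = b * a * (v * b) * x := by rw [← hbx]; group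
        _ = (b * a * b) * (v * x) := by rw [← hbv]; group
        _ = _ := by rw [hbab]; group
  · show K = _
    simp only [K, Matrix.range_cons, Matrix.range_empty, Set.union_empty, Set.singleton_union]
  · intro i
    fin_cases i
    exacts [one_mem _, hbK, mul_mem hbK (hHK haH), mul_mem (mul_mem hbK (hHK haH)) (hHK hvH),
      mul_mem (mul_mem (mul_mem hbK (hHK haH)) (hHK hvH)) (hHK hxH),
      mul_mem (mul_mem (mul_mem hbK (hHK haH)) (hHK hvH)) (inv_mem (hHK hxH))]

variable [IsSimpleGroup G] (h : Nat.card G = 2520)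

include h

theorem exists_card_subgroup : ∃ H : Subgroup G, Nat.card H = 360 := by
  obtain ⟨x, v, a, b, g⟩ := gens h
  have h12 := stage_one g.hx g.hv g.vxv g.hvx
  obtain ⟨h60, hcov⟩ := stage_two g.hx g.hv g.ha g.vxv g.ax g.ava g.hav
  refine ⟨closure ({x, v, a, b} : Set G), ?_⟩
  rw [stage_three g.hx g.hv g.ha g.hb g.vxv g.ax g.bx g.bv g.ava g.bab ?_, h60, h12]
  exact fun hb' => g.hbv (hcov b hb' g.bv)

end Cfsg.Agent.Small.AltSeven
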