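import Cfsg.Agent.Lib.Lie.SuzukiAct

/-!
Suzuki groups: real 2-elements, the maximal subgroup over a Sylow 2-subgroup.
-/

set_option autoImplicit false

namespace Cfsg.Agent.Small.SuzukiFacts

open Cfsg.Agent.Lie.Suzuki

variable {F : Type*} [Field F] {m : ℕ} [Fintype F] (hF : Fintype.card F = 2 ^ (2 * m + 1))
include hF

theorem exists_conj_uSub (hm : 1 ≤ m) (P : Sylow 2 (Cfsg.Sz F m)) :
    ∃ g : Cfsg.Sz F m, (P : Subgroup (Cfsg.Sz F m)) = (uSub hF).map (MulAut.conj g).toMonoidHom := by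
  haveI : Fact (Nat.Prime 2) := ⟨Nat.prime_two⟩
  obtain ⟨g, hg⟩ := MulAction.exists_smul_eq (Cfsg.Sz F m)
    ((uSub_isPGroup (m := m) hF).toSylow (not_two_dvd_index hF hm)) P
  exact ⟨g, by rw [← hg]; rfl⟩

theorem real_uSub (hm : 1 ≤ m) {a b : F} (h : IsConj (tS (m := m) hF a b) (tS hF a b)⁻¹) : a = 0 := by
  obtain ⟨g, hg⟩ := isConj_iff.1 h
  by_contra ha
  -- `g` fixes the point at infinity
  have hinf : g • Cfsg.suzukiPointInfinity F = Cfsg.suzukiPointInfinity F := by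
    rcases mem_ovoid.1 (smul_mem hF g.2 inf_mem) with h | ⟨x, y, h⟩
    · exact h
    · exfalso
      have h' : g • Cfsg.suzukiPointInfinity F = pt m x y := h
      have h1 : (tS (m := m) hF a b)⁻¹ • pt m x y = pt m x y := by
        rw [← hg, ← h', mul_smul, mul_smul, inv_smul_smul]
        exact congrArg (g • ·) (tM_inf a b)
      rw [tS_inv hF] at h1
      have h2 : tM m a (b + a ^ (2 ^ (m + 1) + 1)) • pt m x y = pt m x y := h1
      rw [tM_pt hF] at h2
      have := (pt_inj h2).1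
      exact ha (by simpa using this)
  obtain ⟨c, d, k, rfl⟩ := sz_fix hF hm g hinf
  rw [mul_inv_eq_iff_eq_mul, mul_assoc, dS_mul_tS hF hm, ← mul_assoc, tS_mul hF, tS_inv hF, ← mul_assoc (tS hF a _),
    tS_mul hF] at hg
  have h0 := congrArg (fun z : Cfsg.Sz F m =>
    (z : Matrix.SpecialLinearGroup (Fin 4) F) • pt m (0 : F) 0) hg
  simp only [Subgroup.coe_mul, mul_smul] at h0
  change tM m _ _ • dM m k • pt m (0 : F) 0 = tM m _ _ • dM m k • pt m (0 : F) 0 at h0
  rw [dM_pt hF, mul_zero, mul_zero, tM_pt_zero hF, tM_pt_zero hF] at h0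
  obtain ⟨h1, h2⟩ := pt_inj h0
  have hk : (k : F) = 1 := by
    rw [add_comm a c] at h1
    exact (mul_left_eq_self₀.1 (add_left_cancel h1)).resolve_right ha
  rw [hk, one_pow, one_mul] at h2
  obtain ⟨x, hx⟩ : ∃ x, c = x * a := ⟨c / a, (div_mul_cancel₀ c ha).symm⟩
  rw [hx, mul_pow] at h2
  have hxx : x + x ^ 2 ^ (m + 1) = 1 := by
    refine mul_left_cancel₀ (mul_ne_zero (pow_ne_zero (2 ^ (m + 1)) ha) ha) ?_
    rw [pow_succ] at h2
    linear_combination h2 + (a ^ 2 ^ (m + 1) * a * x) *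
      two_eq_zero hF
  have hsq : x ^ 2 ^ (m + 1) + x ^ 2 = 1 := by
    have := congrArg (fun z : F => z ^ 2 ^ (m + 1)) hxx
    simp only [one_pow] at this
    rwa [add_pow_sg hF, sg_sg hF] at this
  have hx2 : x * x = x := by linear_combination hsq - hxx
  rcases eq_or_ne x 0 with h | h
  · rw [h, zero_pow (pow_ne_zero _ two_ne_zero), add_zero] at hxx
    exact zero_ne_one hxx
  · have h1' : x = 1 := (mul_eq_left₀ h).1 hx2
    rw [h1', one_pow, add_self hF] at hxx
    exact zero_ne_one hxx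

theorem real_iff (hm : 1 ≤ m) (P : Sylow 2 (Cfsg.Sz F m)) (g : Cfsg.Sz F m)
    (hg : g ∈ (P : Subgroup (Cfsg.Sz F m))) (h1 : g ≠ 1) : IsConj g g⁻¹ ↔ orderOf g = 2 := by
  constructor
  · intro hc
    obtain ⟨x, hx⟩ := exists_conj_uSub hF hm P
    rw [hx] at hg
    obtain ⟨u, ⟨a, b, rfl⟩, rfl⟩ := hg
    have hu : IsConj (tS (m := m) hF a b) (tS hF a b)⁻¹ := by
      have h1' : IsConj (tS (m := m) hF a b) ((MulAut.conj x).toMonoidHom (tS hF a b)) :=
        isConj_iff.2 ⟨x, rfl⟩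
      have h2' : IsConj ((MulAut.conj x).toMonoidHom (tS hF a b))⁻¹ (tS (m := m) hF a b)⁻¹ :=
        (isConj_iff.2 ⟨x, by simp [MulAut.conj_apply, mul_assoc]⟩ :
          IsConj (tS (m := m) hF a b)⁻¹ ((MulAut.conj x).toMonoidHom (tS hF a b))⁻¹).symm
      exact (h1'.trans hc).trans h2'
    obtain rfl : a = 0 := real_uSub hF hm hu
    haveI : Fact (Nat.Prime 2) := ⟨Nat.prime_two⟩
    refine orderOf_eq_prime ?_ h1
    rw [← map_pow, sq, tS_mul hF]
    simp [tS_zero hF, add_self hF]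
  · intro ho
    rw [show g⁻¹ = g from inv_eq_of_mul_eq_one_right (by rw [← sq, ← ho, pow_orderOf_eq_one])]

theorem stab_maximal (hm : 1 ≤ m) :
    IsCoatom (MulAction.stabilizer (Cfsg.Sz F m) (Cfsg.suzukiPointInfinity F)) ∧
      ∀ M : Subgroup (Cfsg.Sz F m), IsCoatom M → uSub hF ≤ M →
        M = MulAction.stabilizer (Cfsg.Sz F m) (Cfsg.suzukiPointInfinity F) := by
  have hUS : uSub (m := m) hF ≤ MulAction.stabilizer (Cfsg.Sz F m) (Cfsg.suzukiPointInfinity F) := by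
    rintro _ ⟨a, b, rfl⟩
    exact tM_inf a b
  have key : ∀ M : Subgroup (Cfsg.Sz F m), uSub hF ≤ M → M ≠ ⊤ →
      M ≤ MulAction.stabilizer (Cfsg.Sz F m) (Cfsg.suzukiPointInfinity F) := by
    intro M hM hne h hh
    rw [MulAction.mem_stabilizer_iff]
    rcases mem_ovoid.1 (smul_mem hF h.2 inf_mem) with e | ⟨x, y, e⟩
    · exact e
    exfalso
    have e' : h • Cfsg.suzukiPointInfinity F = pt m x y := e
    have hclosure : Subgroup.normalClosure (uSub (m := m) hF : Set (Cfsg.Sz F m)) ≤ M := by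
      refine (Subgroup.closure_le _).2 fun z hz => ?_
      obtain ⟨w, hw, hwz⟩ := Group.mem_conjugatesOfSet_iff.1 hz
      obtain ⟨g, rfl⟩ := isConj_iff.1 hwz
      obtain ⟨r, hr, hrg⟩ : ∃ r ∈ M, r • Cfsg.suzukiPointInfinity F = g • Cfsg.suzukiPointInfinity F := by
        rcases mem_ovoid.1 (smul_mem hF g.2 inf_mem) with e2 | ⟨u, v, e2⟩
        · exact ⟨1, M.one_mem, by rw [one_smul]; exact e2.symm⟩
        · refine ⟨tS hF u v * (tS hF x y)⁻¹ * h,
            M.mul_mem (M.mul_mem (hM ⟨u, v, rfl⟩) (M.inv_mem (hM ⟨x, y, rfl⟩))) hh, ?_⟩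
          rw [mul_smul, mul_smul, e']
          refine Eq.trans ?_ e2.symm
          show tM m u v • (tM m x y)⁻¹ • pt m x y = pt m u v
          rw [tM_inv_pt hF, tM_pt_zero hF]
      have hn : r⁻¹ * g ∈ Subgroup.normalizer ((uSub (m := m) hF : Subgroup _) : Set (Cfsg.Sz F m)) := by
        rw [normalizer_uSub hF hm, MulAction.mem_stabilizer_iff, mul_smul, inv_smul_eq_iff, hrg]
      have := (Subgroup.mem_set_normalizer_iff.1 hn w).1 hw
      have h3 := M.mul_mem (M.mul_mem hr (hM this)) (M.inv_mem hr)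
      rwa [show r * (r⁻¹ * g * w * (r⁻¹ * g)⁻¹) * r⁻¹ = g * w * g⁻¹ by group] at h3
    haveI := sz_simple hF hm
    rcases IsSimpleGroup.eq_bot_or_eq_top_of_normal
      (Subgroup.normalClosure (uSub (m := m) hF : Set (Cfsg.Sz F m))) inferInstance with e1 | e1
    · have hb : uSub (m := m) hF = ⊥ :=
        eq_bot_iff.2 ((Subgroup.le_normalClosure).trans e1.le)
      have hc := card_uSub (m := m) hF
      rw [hb, Subgroup.card_bot] at hc
      have h2 : 2 ≤ Fintype.card F := Fintype.one_lt_card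
      nlinarith
    · exact hne (top_le_iff.1 (e1 ▸ hclosure))
  have htop : MulAction.stabilizer (Cfsg.Sz F m) (Cfsg.suzukiPointInfinity F) ≠ ⊤ := by
    intro h
    have : wS (m := m) hF ∈ MulAction.stabilizer (Cfsg.Sz F m) (Cfsg.suzukiPointInfinity F) :=
      h ▸ Subgroup.mem_top _
    have h2 : wM F • Cfsg.suzukiPointInfinity F = Cfsg.suzukiPointInfinity F := this
    rw [wM_inf (m := m)] at h2
    exact pt_ne_inf (0 : F) 0 h2
  refine ⟨⟨htop, fun M hlt => ?_⟩, fun M hM hle => ?_⟩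
  · by_contra hne
    exact hlt.not_ge (key M (hUS.trans hlt.le) hne)
  · rcases (key M hle hM.1).lt_or_eq with h | h
    · exact absurd (hM.2 _ h) htop
    · exact h

theorem normalizer_maximal (hm : 1 ≤ m) (P : Sylow 2 (Cfsg.Sz F m)) :
    IsCoatom (Subgroup.normalizer ((P : Subgroup (Cfsg.Sz F m)) : Set (Cfsg.Sz F m))) ∧
      ∀ M : Subgroup (Cfsg.Sz F m), IsCoatom M → (P : Subgroup (Cfsg.Sz F m)) ≤ M →
        M = Subgroup.normalizer ((P : Subgroup (Cfsg.Sz F m)) : Set (Cfsg.Sz F m)) := by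
  obtain ⟨g, hg⟩ := exists_conj_uSub hF hm P
  obtain ⟨h1, h2⟩ := stab_maximal hF hm
  rw [← normalizer_uSub hF hm] at h1 h2
  have hN : Subgroup.normalizer ((P : Subgroup (Cfsg.Sz F m)) : Set (Cfsg.Sz F m)) =
      (MulAut.conj g).mapSubgroup
        (Subgroup.normalizer ((uSub (m := m) hF : Subgroup _) : Set (Cfsg.Sz F m))) := by
    rw [hg]
    exact (Subgroup.map_equiv_normalizer_eq _ (MulAut.conj g)).symm
  rw [hN]
  refine ⟨((MulAut.conj g).mapSubgroup.isCoatom_iff _).2 h1, fun M hM hle => ?_⟩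
  obtain ⟨M', rfl⟩ := (MulAut.conj g).mapSubgroup.surjective M
  have hle' : (MulAut.conj g).mapSubgroup (uSub (m := m) hF) ≤ (MulAut.conj g).mapSubgroup M' := by
    rw [hg] at hle
    exact hle
  rw [OrderIso.le_iff_le] at hle'
  rw [h2 M' (((MulAut.conj g).mapSubgroup.isCoatom_iff _).1 hM) hle']

end Cfsg.Agent.Small.SuzukiFacts
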