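import Cfsg.Agent.Lib.Small.Ree.MultUnip
import Cfsg.Agent.Lib.Small.SuzukiSylowFacts
import Cfsg.Agent.Lib.Lie.SuzukiTori
import Cfsg.Agent.Lib.Lie.SuzukiSp4
import Cfsg.Agent.Lib.Solv.StemSylowLocal

/-!
The Schur multiplier of the Suzuki groups over fields with at least thirty-two elements: the torus forces every
commutator of lifts of the translation group to avoid the kernel.
-/

set_option autoImplicit false
set_option maxHeartbeats 1000000
set_option linter.style.haveILetI false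

open scoped commutatorElement IsMulCommutative

namespace Cfsg.Agent.Small.SuzukiMult

open Cfsg.Agent.Small.Ree.MultUnip
open Cfsg.Agent.Lie.Suzuki

section Forms

variable {K : Type*} [Field K] [Fintype K] {A : Type*} [CommGroup A] {f : K → K → A} (hf : Biadd f)
  (h2 : (2 : K) = 0)

include hf h2

theorem mul_self (x y : K) : f x y * f x y = 1 := by
  rw [← hf.left, show x + x = 2 * x by ring, h2, zero_mul, hf.zero_left]

theorem scalar (h4 : 4 < Fintype.card K) (hinv : ∀ l : K, l ≠ 0 → ∀ x y, f (l * x) (l * y) = f x y) (x y : K) :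
    f x y = 1 := by
  classical
  have key : ∀ w : K, w ≠ 0 → w + 1 ≠ 0 → f (w * x) y * f x (w * y) = f x y := fun w hw hw1 => by
    have h := hinv (w + 1) hw1 x y
    rw [add_mul, add_mul, one_mul, one_mul, hf.left, hf.right, hf.right, hinv w hw] at h
    refine mul_left_cancel (a := f x y * f x y) ?_
    rw [mul_self hf h2 x y, one_mul, one_mul]
    refine Eq.trans ?_ h
    rw [← mul_one (f (w * x) y * f x (w * y)), ← mul_self hf h2 x y]
    simp only [mul_comm, mul_left_comm, mul_assoc]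
  obtain ⟨u, hu⟩ : ∃ u, u ∉ ({0, 1} : Finset K) := by
    by_contra h
    push Not at h
    have := (Finset.card_le_card (fun x (_ : x ∈ Finset.univ) => h x)).trans (Finset.card_le_two (a := (0 : K)))
    rw [Finset.card_univ] at this
    omega
  obtain ⟨v, hv⟩ : ∃ v, v ∉ ({0, 1, u, u + 1} : Finset K) := by
    by_contra h
    push Not at h
    have := (Finset.card_le_card (fun x (_ : x ∈ Finset.univ) => h x)).trans (Finset.card_le_four (a := (0 : K)))
    rw [Finset.card_univ] at this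
    omega
  simp only [Finset.mem_insert, Finset.mem_singleton, not_or] at hu hv
  obtain ⟨hu0, hu1⟩ := hu
  obtain ⟨hv0, hv1, hv2, hv3⟩ := hv
  have h1 := key u hu0 (fun h => hu1 (by linear_combination h - h2))
  have h2' := key v hv0 (fun h => hv1 (by linear_combination h - h2))
  have h3 := key (u + v) (fun h => hv2 (by linear_combination h - u * h2))
    (fun h => hv3 (by linear_combination h - (u + 1) * h2))
  rw [add_mul, add_mul, hf.left, hf.right, mul_mul_mul_comm, h1, h2', mul_self hf h2 x y] at h3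
  exact h3.symm

theorem first_last (h8 : 8 < Fintype.card K) (s : K → K) (hs : ∀ a b, s (a + b) = s a + s b)
    (hinv : ∀ z : K, z ≠ 0 → ∀ x y, f (z * x) (s z * z * y) = f x y) (x y : K) : f x y = 1 := by
  classical
  obtain ⟨T, hT⟩ : ∃ T : K → K → K → A, ∀ a b c, T a b c = f (a * x) (s b * c * y) := ⟨_, fun _ _ _ => rfl⟩
  let Q : K → K → A := fun u v => T u u v * T u v u * T v u u * (T u v v * T v u v * T v v u)
  let M : K → K → K → A := fun u v w => T u v w * T u w v * T v u w * T v w u * T w u v * T w v u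
  have l1 : ∀ a a' b c, T (a + a') b c = T a b c * T a' b c := fun a a' b c => by
    rw [hT, hT, hT, add_mul, hf.left]
  have l2 : ∀ a b b' c, T a (b + b') c = T a b c * T a b' c := fun a b b' c => by
    rw [hT, hT, hT, hs, add_mul, add_mul, hf.right]
  have l3 : ∀ a b c c', T a b (c + c') = T a b c * T a b c' := fun a b c c' => by
    rw [hT, hT, hT, mul_add, add_mul, hf.right]
  have hP : ∀ z, z ≠ 0 → T z z z = f x y := fun z hz => by rw [hT]; exact hinv z hz x y
  have hQ : ∀ u v, u ≠ 0 → v ≠ 0 → u + v ≠ 0 → Q u v = f x y := fun u v hu hv huv => by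
    have h := hP _ huv
    have e : T (u + v) (u + v) (u + v) = T u u u * Q u v * T v v v := by
      simp only [l1, l2, l3, Q, mul_comm, mul_left_comm, mul_assoc]
    rw [e, hP u hu, hP v hv] at h
    refine mul_left_cancel (a := f x y) (mul_right_cancel (b := f x y) ?_)
    rw [h, mul_self hf h2 x y, one_mul]
  have hQM : ∀ u v w, Q u (v + w) = Q u v * Q u w * M u v w := fun u v w => by
    simp only [l1, l2, l3, Q, M, mul_comm, mul_left_comm, mul_assoc]
  have hM : ∀ u v w, u ≠ 0 → v ≠ 0 → w ≠ 0 → u + v ≠ 0 → u + w ≠ 0 → v + w ≠ 0 → u + (v + w) ≠ 0 →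
      M u v w = f x y := fun u v w hu hv hw huv huw hvw huvw => by
    have h := hQM u v w
    rwa [hQ u _ hu hvw huvw, hQ u v hu hv huv, hQ u w hu hw huw, mul_self hf h2 x y, one_mul, eq_comm] at h
  have hlin : ∀ u v w w', M u v (w + w') = M u v w * M u v w' := fun u v w w' => by
    simp only [l1, l2, l3, M, mul_comm, mul_left_comm, mul_assoc]
  have pick : ∀ s : Finset K, s.card ≤ 8 → ∃ z, z ∉ s := fun s hs => by
    by_contra h
    push Not at h
    have := Finset.card_le_card (fun x (_ : x ∈ Finset.univ) => h x)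
    rw [Finset.card_univ] at this
    omega
  have hne : ∀ a b : K, b ≠ a → a + b ≠ 0 := fun a b h e => h (by linear_combination e - a * h2)
  obtain ⟨v, hv⟩ := pick {0, 1} (Finset.card_le_two.trans (by norm_num))
  obtain ⟨w, hw⟩ := pick {0, 1, v, 1 + v} (Finset.card_le_four.trans (by norm_num))
  obtain ⟨w', hw'⟩ := pick ({0, 1, v, 1 + v} ∪ {w, 1 + w, v + w, 1 + v + w})
    ((Finset.card_union_le _ _).trans (by
      have := Finset.card_le_four (a := (0 : K)) (b := 1) (c := v) (d := 1 + v)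
      have := Finset.card_le_four (a := w) (b := 1 + w) (c := v + w) (d := 1 + v + w)
      omega))
  simp only [Finset.mem_insert, Finset.mem_singleton, Finset.mem_union, not_or] at hv hw hw'
  obtain ⟨⟨a0, a1, a2, a3⟩, b0, b1, b2, b3⟩ := hw'
  obtain ⟨c0, c1, c2, c3⟩ := hw
  obtain ⟨d0, d1⟩ := hv
  have e1 := hM 1 v w one_ne_zero d0 c0 (hne _ _ d1) (hne _ _ c1) (hne _ _ c2) (by
    rw [← add_assoc]; exact hne _ _ c3)
  have e2 := hM 1 v w' one_ne_zero d0 a0 (hne _ _ d1) (hne _ _ a1) (hne _ _ a2) (by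
    rw [← add_assoc]; exact hne _ _ a3)
  have e3 := hM 1 v (w + w') one_ne_zero d0 (hne _ _ b0) (hne _ _ d1) (by rw [← add_assoc]; exact hne _ _ b1)
    (by rw [← add_assoc]; exact hne _ _ b2) (by rw [← add_assoc, ← add_assoc]; exact hne _ _ b3)
  rw [hlin, e1, e2, mul_self hf h2 x y] at e3
  exact e3.symm

end Forms

variable {F : Type*} [Field F] [Fintype F] {m : ℕ} (hF : Fintype.card F = 2 ^ (2 * m + 1))
variable {Γ : Type*} [Group Γ] (σ : Γ →* Cfsg.Sz F m) (hsurj : Function.Surjective σ)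
  (hc : σ.ker ≤ Subgroup.center Γ)

include hF hsurj hc

/-- Commutators of lifts of translations avoid the kernel. -/
theorem commutator_ker (hm : 2 ≤ m) {R : Subgroup Γ} (hR : ∀ x ∈ R, σ x ∈ uSub hF) {x : Γ} (hx : x ∈ ⁅R, R⁆)
    (hσ : σ x = 1) : x = 1 := by
  classical
  have hm1 : 1 ≤ m := by omega
  have h32 : 32 ≤ Fintype.card F := by
    rw [hF]
    calc 32 = 2 ^ 5 := by norm_num
      _ ≤ _ := Nat.pow_le_pow_right (by norm_num) (by omega)
  have h2 : (2 : F) = 0 := two_eq_zero hF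
  have hs0 : (0 : F) ^ (2 ^ (m + 1)) = 0 := zero_pow (by positivity)
  let L : F → F → Γ := fun a b => UData.lift σ hsurj (tS hF a b)
  have hL : ∀ a b, σ (L a b) = tS hF a b := fun a b => UData.σ_lift σ hsurj _
  let T : Fˣ → Γ := fun k => UData.lift σ hsurj (dS hF k)
  have hT : ∀ k, σ (T k) = dS hF k := fun k => UData.σ_lift σ hsurj _
  have hconj : ∀ (k : Fˣ) a b, σ (T k * L a b * (T k)⁻¹) =
      tS hF ((k : F) * a) ((k : F) ^ (2 ^ (m + 1) + 1) * b) := fun k a b => by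
    rw [map_mul, map_mul, map_inv, hT, hL, dS_mul_tS hF hm1, mul_inv_cancel_right]
  have hzc : ∀ e c d, σ (L 0 e) * σ (L c d) = σ (L c d) * σ (L 0 e) := fun e c d => by
    rw [hL, hL]; exact tS_zero_comm hF e c d
  -- the centre of the translation group
  let pz : F → F → ↥(Subgroup.center Γ) := fun b d => ⟨⁅L 0 b, L 0 d⁆, UData.central σ hc (hzc _ _ _)⟩
  have hpz : Biadd pz := ⟨fun b b' d => Subtype.ext (by
      show ⁅L 0 (b + b'), L 0 d⁆ = ⁅L 0 b, L 0 d⁆ * ⁅L 0 b', L 0 d⁆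
      rw [← UData.left_of_central (UData.central σ hc (hzc _ _ _))]
      exact UData.same σ hc (by rw [map_mul, hL, hL, hL, tS_mul hF]; simp [hs0]) rfl),
    fun b d d' => Subtype.ext (by
      show ⁅L 0 b, L 0 (d + d')⁆ = ⁅L 0 b, L 0 d⁆ * ⁅L 0 b, L 0 d'⁆
      rw [← UData.right_of_central (UData.central σ hc (hzc _ _ _))]
      exact UData.same σ hc rfl (by rw [map_mul, hL, hL, hL, tS_mul hF]; simp [hs0]))⟩
  have hzz : ∀ b d, pz b d = 1 := scalar hpz h2 (by omega) fun l hl b d => by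
    obtain ⟨k, hk⟩ : ∃ k : Fˣ, (k : F) ^ (2 ^ (m + 1) + 1) = l :=
      ⟨Units.mk0 (l ^ (2 ^ (m + 1) - 1)) (pow_ne_zero _ hl), (sg_add_one_left_inv hF l).1⟩
    refine Subtype.ext ?_
    show ⁅L 0 (l * b), L 0 (l * d)⁆ = ⁅L 0 b, L 0 d⁆
    rw [← UData.conj_of_central (T := T k) (pz b d).2]
    refine UData.same σ hc ?_ ?_ <;> rw [hL, hconj, mul_zero, hk]
  let pa : F → F → ↥(Subgroup.center Γ) := fun a d =>
    ⟨⁅L a 0, L 0 d⁆, UData.central σ hc (hzc _ _ _).symm⟩
  have hpa : Biadd pa := ⟨fun a a' d => Subtype.ext (by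
      show ⁅L (a + a') 0, L 0 d⁆ = ⁅L a 0, L 0 d⁆ * ⁅L a' 0, L 0 d⁆
      rw [← UData.left_of_central (UData.central σ hc (hzc _ _ _).symm),
        UData.same σ hc (x := L a 0 * L a' 0) (x' := L (a + a') 0 * L 0 (a ^ (2 ^ (m + 1)) * a')) (by
          simp only [map_mul, hL, tS_mul hF, add_zero, zero_add, mul_zero]) rfl,
        UData.left_of_central (UData.central σ hc (hzc _ _ _)),
        show ⁅L 0 (a ^ (2 ^ (m + 1)) * a'), L 0 d⁆ = 1 from congrArg Subtype.val (hzz _ _), mul_one]),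
    fun a d d' => Subtype.ext (by
      show ⁅L a 0, L 0 (d + d')⁆ = ⁅L a 0, L 0 d⁆ * ⁅L a 0, L 0 d'⁆
      rw [← UData.right_of_central (UData.central σ hc (hzc _ _ _).symm)]
      exact UData.same σ hc rfl (by rw [map_mul, hL, hL, hL, tS_mul hF]; simp [hs0]))⟩
  have haz : ∀ a d, pa a d = 1 := first_last hpa h2 (by omega) (fun z => z ^ (2 ^ (m + 1))) (add_pow_sg hF)
    fun z hz a d => by
      refine Subtype.ext ?_
      show ⁅L (z * a) 0, L 0 (z ^ (2 ^ (m + 1)) * z * d)⁆ = ⁅L a 0, L 0 d⁆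
      rw [← UData.conj_of_central (T := T (Units.mk0 z hz)) (pa a d).2]
      refine UData.same σ hc ?_ ?_
      · rw [hL, hconj, mul_zero]; rfl
      · rw [hL, hconj, mul_zero, Units.val_mk0, ← pow_succ]
  -- lifts of the centre commute with the lifted translations
  have hZ : ∀ {e r : Γ} {b : F}, σ e = tS hF 0 b → σ r ∈ uSub hF → e * r = r * e := by
    rintro e r b he ⟨c, d, hr⟩
    rw [eq_comm, ← commutatorElement_eq_one_iff_mul_comm,
      UData.same σ hc (x := r) (x' := L c 0 * L 0 d) (y := e) (y' := L 0 b)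
        (by rw [map_mul, hL, hL, hr, tS_mul hF]; simp) (by rw [hL, he]),
      UData.left_of_central (UData.central σ hc (hzc _ _ _)),
      show ⁅L 0 d, L 0 b⁆ = 1 from congrArg Subtype.val (hzz _ _), mul_one]
    exact congrArg Subtype.val (haz _ _)
  -- the equivariant section
  obtain ⟨k, hk⟩ := exists_unit_ne_one (m := m) hF hm1
  have hμ : (k : F) ^ (2 ^ (m + 1) + 1) + 1 ≠ 0 := fun h => hk (eq_one_of_pow_sg_add_one hF (by
    linear_combination h - h2))
  let sec : F → Γ := fun b => ⁅T k, L 0 (b / ((k : F) ^ (2 ^ (m + 1) + 1) + 1))⁆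
  have hsec : ∀ b, σ (sec b) = tS hF 0 b := fun b => by
    show σ ⁅T k, L 0 _⁆ = _
    rw [commutatorElement_def, map_mul, hconj, map_inv, hL, tS_inv hF, tS_mul hF]
    congr 1
    · simp
    · simp only [mul_zero, zero_pow (show 2 ^ (m + 1) + 1 ≠ 0 by omega), add_zero]
      field_simp
  have hadd : ∀ b d, sec (b + d) = sec b * sec d := fun b d => by
    show ⁅T k, L 0 ((b + d) / _)⁆ = _
    rw [UData.same σ hc (x := T k) (x' := T k) (y' := L 0 (b / ((k : F) ^ (2 ^ (m + 1) + 1) + 1)) *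
        L 0 (d / ((k : F) ^ (2 ^ (m + 1) + 1) + 1))) rfl (by
      rw [map_mul, hL, hL, hL, tS_mul hF, add_div]; simp [hs0]), UData.mul_right_comm',
      ← hZ (hsec d) (show σ (L 0 _) ∈ uSub hF from ⟨_, _, hL _ _⟩), mul_inv_cancel_right]
  have hsecT : ∀ (l : Fˣ) b, T l * sec b * (T l)⁻¹ = sec ((l : F) ^ (2 ^ (m + 1) + 1) * b) := fun l b => by
    show T l * ⁅T k, L 0 _⁆ * (T l)⁻¹ = ⁅T k, L 0 _⁆
    rw [conjugate_commutatorElement]
    refine UData.same σ hc ?_ ?_
    · rw [map_mul, map_mul, map_inv, hT, hT, ← map_mul, mul_comm l, map_mul, mul_inv_cancel_right]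
    · rw [hconj, hL, mul_zero, mul_div_assoc]
  -- the commutator of two lifts
  let β : F → F → F := fun a c => a ^ (2 ^ (m + 1)) * c + c ^ (2 ^ (m + 1)) * a
  have hσc : ∀ a c, σ ⁅L a 0, L c 0⁆ = tS hF 0 (β a c) := fun a c => by
    rw [map_commutatorElement, hL, hL]; exact comm_tS hF a 0 c 0
  let F1 : F → F → ↥(Subgroup.center Γ) := fun a c => ⟨⁅L a 0, L c 0⁆ * (sec (β a c))⁻¹, hc (by
    rw [MonoidHom.mem_ker, map_mul, map_inv, hσc, hsec, mul_inv_cancel])⟩
  have hF1 : ∀ a c, ⁅L a 0, L c 0⁆ = (F1 a c : Γ) * sec (β a c) := fun a c =>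
    (inv_mul_cancel_right _ _).symm
  have hbi : Biadd F1 := by
    have hl : ∀ a a' c, ⁅L (a + a') 0, L c 0⁆ = ⁅L a' 0, L c 0⁆ * ⁅L a 0, L c 0⁆ := fun a a' c => by
      have e1 : ⁅L (a + a') 0 * L 0 (a ^ (2 ^ (m + 1)) * a'), L c 0⁆ = ⁅L (a + a') 0, L c 0⁆ := by
        rw [UData.mul_left_comm', commutatorElement_eq_one_iff_mul_comm.2
          (hZ (hL 0 _) ⟨_, _, hL _ _⟩), mul_one, mul_inv_cancel, one_mul]
      rw [← e1, UData.same σ hc (x := L (a + a') 0 * L 0 (a ^ (2 ^ (m + 1)) * a')) (x' := L a 0 * L a' 0) (by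
          simp only [map_mul, hL, tS_mul hF, add_zero, zero_add, mul_zero]) rfl, UData.mul_left_comm',
        ← hZ (hσc a' c) (show σ (L a 0) ∈ uSub hF from ⟨_, _, hL _ _⟩), mul_inv_cancel_right]
    have hr : ∀ a c c', ⁅L a 0, L (c + c') 0⁆ = ⁅L a 0, L c 0⁆ * ⁅L a 0, L c' 0⁆ := fun a c c' => by
      rw [← commutatorElement_inv, hl, _root_.mul_inv_rev, commutatorElement_inv, commutatorElement_inv]
    have hmid : ∀ (k₁ k₂ : ↥(Subgroup.center Γ)) (u v : Γ),
        (k₁ : Γ) * u * ((k₂ : Γ) * v) * (u * v)⁻¹ = (k₁ : Γ) * k₂ := fun k₁ k₂ u v => by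
      rw [show (k₁ : Γ) * u * ((k₂ : Γ) * v) * (u * v)⁻¹ = (k₁ : Γ) * (u * (k₂ : Γ)) * u⁻¹ by group,
        Subgroup.mem_center_iff.1 k₂.2 u]
      group
    refine ⟨fun a a' c => Subtype.ext ?_, fun a c c' => Subtype.ext ?_⟩
    · show ⁅L (a + a') 0, L c 0⁆ * (sec (β (a + a') c))⁻¹ = (F1 a c : Γ) * (F1 a' c : Γ)
      have eβ : β (a + a') c = β a' c + β a c := by simp only [β, add_pow_sg hF]; ring
      rw [hl, hF1 a c, hF1 a' c, eβ, hadd (β a' c) (β a c), hmid]
      exact (Subgroup.mem_center_iff.1 (F1 a' c).2 _).symm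
    · show ⁅L a 0, L (c + c') 0⁆ * (sec (β a (c + c')))⁻¹ = (F1 a c : Γ) * (F1 a c' : Γ)
      have eβ : β a (c + c') = β a c + β a c' := by simp only [β, add_pow_sg hF]; ring
      rw [hr, hF1 a c, hF1 a c', eβ, hadd (β a c) (β a c'), hmid]
  have h1 : ∀ a c, F1 a c = 1 := scalar hbi h2 (by omega) fun l hl a c => by
    obtain ⟨u, rfl⟩ : ∃ u : Fˣ, (u : F) = l := ⟨Units.mk0 l hl, rfl⟩
    refine Subtype.ext ?_
    show ⁅L ((u : F) * a) 0, L ((u : F) * c) 0⁆ * (sec (β ((u : F) * a) ((u : F) * c)))⁻¹ = (F1 a c : Γ)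
    have eβ : β ((u : F) * a) ((u : F) * c) = (u : F) ^ (2 ^ (m + 1) + 1) * β a c := by
      simp only [β, mul_pow, pow_succ]; ring
    rw [eβ, ← hsecT, UData.same σ hc (x := L ((u : F) * a) 0) (x' := T u * L a 0 * (T u)⁻¹) (y := L ((u : F) * c) 0)
      (y' := T u * L c 0 * (T u)⁻¹) (by rw [hconj, hL, mul_zero]) (by rw [hconj, hL, mul_zero]),
      ← conjugate_commutatorElement, hF1]
    calc T u * ((F1 a c : Γ) * sec (β a c)) * (T u)⁻¹ * (T u * sec (β a c) * (T u)⁻¹)⁻¹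
        = T u * (F1 a c : Γ) * (T u)⁻¹ := by group
      _ = _ := by rw [Subgroup.mem_center_iff.1 (F1 a c).2, mul_inv_cancel_right]
  let M : Subgroup Γ :=
    { carrier := {y | ∃ b, y = sec b}
      one_mem' := ⟨0, (left_eq_mul.1 (show sec 0 = sec 0 * sec 0 by rw [← hadd, add_zero])).symm⟩
      mul_mem' := fun {y z} ⟨b, hy⟩ ⟨d, hz⟩ => ⟨b + d, by rw [hadd, hy, hz]⟩
      inv_mem' := fun {y} ⟨b, hy⟩ => ⟨b, by
        rw [hy]
        refine inv_eq_of_mul_eq_one_right ?_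
        rw [← hadd, show b + b = 0 by linear_combination b * h2]
        exact left_eq_mul.1 (show sec 0 = sec 0 * sec 0 by rw [← hadd, add_zero])⟩ }
  have hle : ⁅R, R⁆ ≤ M := Subgroup.commutator_le.2 fun r hr r' hr' => by
    obtain ⟨a, b, ha⟩ := hR r hr
    obtain ⟨c, d, hc'⟩ := hR r' hr'
    refine ⟨β a c, ?_⟩
    rw [UData.same σ hc (x := r) (x' := L a 0 * L 0 b) (y := r') (y' := L c 0 * L 0 d)
      (by rw [map_mul, hL, hL, ha, tS_mul hF]; simp) (by rw [map_mul, hL, hL, hc', tS_mul hF]; simp),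
      UData.mul_left_comm', commutatorElement_eq_one_iff_mul_comm.2 (hZ (hL 0 b)
        (show σ (L c 0 * L 0 d) ∈ uSub hF by rw [map_mul, hL, hL, tS_mul hF]; exact ⟨_, _, rfl⟩)),
      mul_one, mul_inv_cancel, one_mul, UData.mul_right_comm',
      commutatorElement_eq_one_iff_mul_comm.2 (hZ (hL 0 d) ⟨_, _, hL a 0⟩).symm, mul_one, mul_inv_cancel, mul_one,
      hF1, h1, OneMemClass.coe_one, one_mul]
  obtain ⟨b, rfl⟩ := hle hx
  rw [hsec, ← tS_zero hF] at hσ
  rw [(tS_inj' hF hσ)]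
  exact left_eq_mul.1 (show sec 0 = sec 0 * sec 0 by rw [← hadd, add_zero])
where
  tS_inj' {F : Type _} [Field F] [Fintype F] {m : ℕ} (hF : Fintype.card F = 2 ^ (2 * m + 1)) {b : F}
      (h : tS (m := m) hF 0 b = tS hF 0 0) : b = 0 := (tM_injective (congrArg Subtype.val h)).2

omit hsurj hc in
/-- The Schur multiplier is trivial. -/
theorem stem_trivial (hm : 2 ≤ m) [Finite Γ] (hσ : Cfsg.IsStemExtension σ) : σ.ker = ⊥ := by
  classical
  obtain ⟨hsurj, hc, -⟩ := id hσ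
  refine Cfsg.Agent.Solv.StemLocal.ker_eq_bot σ hσ fun p hp R x hx hσx => ?_
  haveI : Fact p.Prime := ⟨hp⟩
  have hx' : (x : Γ) ∈ ⁅(R : Subgroup Γ), (R : Subgroup Γ)⁆ := by
    rw [← Subgroup.map_subtype_commutator]; exact ⟨x, hx, rfl⟩
  refine Subtype.ext ?_
  show (x : Γ) = 1
  obtain ⟨Q, hQ⟩ := (R.2.map σ).exists_le_sylow
  rcases eq_or_ne p 2 with rfl | hp2
  · obtain ⟨g, hg⟩ := Small.SuzukiFacts.exists_conj_uSub hF (by omega) Q
    obtain ⟨T, rfl⟩ := hsurj g
    have hxc : (x : Γ) ∈ Subgroup.center Γ := hc hσx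
    refine commutator_ker hF σ hsurj hc hm (R := (R : Subgroup Γ).map (MulAut.conj T⁻¹).toMonoidHom) ?_ ?_ hσx
    · rintro _ ⟨r, hr, rfl⟩
      have h2 : σ r ∈ (Q : Subgroup (Cfsg.Sz F m)) := hQ ⟨r, hr, rfl⟩
      rw [hg] at h2
      obtain ⟨y, hy, e⟩ := h2
      show σ (T⁻¹ * r * T⁻¹⁻¹) ∈ uSub hF
      rw [inv_inv, map_mul, map_mul, map_inv, ← e]
      show (σ T)⁻¹ * (σ T * y * (σ T)⁻¹) * σ T ∈ uSub hF
      rwa [show (σ T)⁻¹ * (σ T * y * (σ T)⁻¹) * σ T = y by group]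
    · rw [← Subgroup.map_commutator]
      refine ⟨x, hx', ?_⟩
      show T⁻¹ * (x : Γ) * T⁻¹⁻¹ = x
      rw [Subgroup.mem_center_iff.1 hxc T⁻¹, mul_inv_cancel_right]
  · haveI := sylow_cyclic hF (by omega) hp2 Q
    haveI : IsCyclic ↥((R : Subgroup Γ).map σ) := Subgroup.isCyclic_of_le hQ
    have := Cfsg.Agent.Lie.StemSylow.comm_of_cyclic_image σ hc (R : Subgroup Γ) inferInstance
    have hbot : ⁅(R : Subgroup Γ), (R : Subgroup Γ)⁆ = ⊥ := Subgroup.commutator_eq_bot_iff_le_centralizer.2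
      fun a ha => Subgroup.mem_centralizer_iff.2 fun b hb => congrArg Subtype.val (this.1.1 ⟨b, hb⟩ ⟨a, ha⟩)
    rwa [hbot, Subgroup.mem_bot] at hx'

end Cfsg.Agent.Small.SuzukiMult
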