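import Cfsg.Agent.Lib.Small.OrderSearch
import Cfsg.Agent.Lib.Small.SimpleOrderTools
import Cfsg.Agent.Lib.Char.Burnside
import Cfsg.Agent.S0073

/-!
# A decidable sieve for orders of simple groups

`kill N = true` implies that no nonabelian simple group has order `N`: Burnside's theorems,
Sylow counting, intersections of Sylow subgroups and the degree searches.
-/

set_option autoImplicit false

namespace Cfsg.Agent.Small.OrderSieve

open Subgroup

/-- The primes below 80. -/
def pl : List ℕ :=
  [2, 3, 5, 7, 11, 13, 17, 19, 23, 29, 31, 37, 41, 43, 47, 53, 59, 61, 67, 71, 73, 79]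

/-- Their product. -/
def prodPl : ℕ := pl.foldl (· * ·) 1

/-- No simple group of order `N` has a proper subgroup of index `n`. -/
def small (N n : ℕ) : Bool := decide (n < 14 ∧ n.factorial % (2 * N) ≠ 0)

/-- The possible numbers of Sylow subgroups. -/
def adm (q m : ℕ) : List ℕ :=
  (DegreeSearch.divs m).filter fun n => decide (n % q = 1 ∧ n ≠ 1)

/-- The exponent of `q` in `N`, for `N < 2 ^ 13`. -/
def expo (q N : ℕ) : ℕ := ((List.range 13).filter fun k => decide (N % q ^ (k + 1) = 0)).length

/-- The possible number `n` of Sylow subgroups is impossible. -/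
def killN (N q k m n : ℕ) : Bool :=
  small N n || (decide (k ≤ 2) && decide (n = m)) ||
    (decide (k = 1) && (List.range q).all fun e =>
      decide (¬ (e ≠ 1 ∧ (q - 1) % e = 0 ∧ m % (n * e) = 0))) ||
    (decide (2 ≤ k ∧ n % q ^ 2 ≠ 1) && (DegreeSearch.divs m).all fun j =>
      (adm q j).isEmpty || small N (m / j))

/-- The prime `q` rules out the order. -/
def killP (N q : ℕ) : Bool :=
  let k := expo q N
  let m := N / q ^ k
  decide (0 < k ∧ 1 < m ∧ N = q ^ k * m ∧ m % q ≠ 0) &&
    ((adm q m).all (killN N q k m) ||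
      (decide (k = 1 ∧ 2 < q ∧ m % 2 = 0) &&
        ((DegreeSearch.divs m).filter (fun n => decide (n % q = 1 ∧ n ≠ 1))).all fun n =>
          (if n < 14 ∧ n.factorial % (q * m) ≠ 0 then true else
            (List.range q).all fun e =>
              if e ≠ 1 ∧ (q - 1) % e = 0 ∧ m % (n * e) = 0 then OrderSearch.checkPair q m n e
              else true)))

/-- The smallest prime divisor violates Burnside's criterion. -/
def killMin (N : ℕ) : Bool :=
  match pl.filter fun q => decide (N % q = 0) with
  | [] => false
  | q :: _ => decide (N % q ^ 3 ≠ 0 ∧ N % 12 ≠ 0)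

/-- No nonabelian simple group has order `N`. -/
def kill (N : ℕ) : Bool :=
  if N ≤ 1 then true else if prodPl ^ 13 % N ≠ 0 then true
  else if (pl.filter fun q => decide (N % q = 0)).length ≤ 2 then true
  else if killMin N then true
  else pl.any fun q => decide (N % q = 0) && killP N q

theorem prime_of_mem : ∀ q ∈ pl, Nat.Prime q := by decide +kernel

theorem mem_pl : ∀ q < 80, Nat.Prime q → q ∈ pl := by decide +kernel

theorem mem_of_dvd_prod : ∀ q < 80, Nat.Prime q → prodPl % q = 0 := by decide +kernel

universe u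

variable {G : Type u} [Group G] [Finite G] [IsSimpleGroup G]

theorem false_of_small (hnc : ¬ IsMulCommutative G) (H : Subgroup G) (hH : H ≠ ⊤)
    (h : small (Nat.card G) H.index = true) : False := by
  obtain ⟨h1, h2⟩ := of_decide_eq_true h
  obtain ⟨f, hf, hr⟩ := SimpleOrderTools.card_dvd_half_factorial hnc H hH
  have hi : 1 < H.index := H.one_lt_index_of_ne_top hH
  haveI : Nontrivial (Fin H.index) := Fin.nontrivial_iff_two_le.2 (by omega)
  have h3 := card_dvd_of_le hr
  rw [Nat.card_congr (MonoidHom.ofInjective hf).toEquiv.symm] at h3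
  refine h2 (Nat.mod_eq_zero_of_dvd ?_)
  have h4 := two_mul_nat_card_alternatingGroup (α := Fin H.index)
  rw [Nat.card_perm, Nat.card_fin] at h4
  rw [← h4]
  exact Nat.mul_dvd_mul_left 2 h3

omit [IsSimpleGroup G] in
/-- Two Sylow subgroups meet in a subgroup of index `p` unless their number is one mod `p ^ 2`. -/
theorem exists_inter {p k : ℕ} [Fact p.Prime] (hcard : ∀ P : Sylow p G, Nat.card P = p ^ k)
    (h : Nat.card (Sylow p G) % p ^ 2 ≠ 1) (P : Sylow p G) :
    ∃ Q : Sylow p G, Q ≠ P ∧
      ((P : Subgroup G) ⊓ (Q : Subgroup G)).relIndex (P : Subgroup G) = p := by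
  classical
  have hp : p.Prime := Fact.out
  by_contra hne
  push Not at hne
  refine h ?_
  have hst : ∀ Q : Sylow p G, MulAction.stabilizer (P : Subgroup G) Q =
      (Q : Subgroup G).subgroupOf (P : Subgroup G) := by
    intro Q
    ext x
    rw [MulAction.mem_stabilizer_iff, Subgroup.mem_subgroupOf]
    constructor
    · intro hx
      have h1 : (x : G) ∈ (P : Subgroup G) ⊓ normalizer ((Q : Subgroup G) : Set G) :=
        ⟨x.2, Sylow.smul_eq_iff_mem_normalizer.mp hx⟩
      exact ((SetLike.ext_iff.mp (P.isPGroup'.inf_normalizer_sylow Q) _).mp h1).2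
    · intro hx
      exact Sylow.smul_eq_iff_mem_normalizer.mpr (le_normalizer hx)
  have hsize : ∀ Q : Sylow p G, Nat.card (MulAction.orbit (P : Subgroup G) Q) % p ^ 2 =
      if Q = P then 1 else 0 := by
    intro Q
    have h2 : 1 < p ^ 2 := Nat.one_lt_pow two_ne_zero hp.one_lt
    have h3 : Nat.card (MulAction.orbit (P : Subgroup G) Q) =
        ((P : Subgroup G) ⊓ (Q : Subgroup G)).relIndex (P : Subgroup G) := by
      rw [Nat.card_coe_set_eq, ← MulAction.index_stabilizer, hst, Subgroup.inf_relIndex_left]
      rfl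
    obtain ⟨i, hi, hi'⟩ := (Nat.dvd_prime_pow hp).mp
      (show ((P : Subgroup G) ⊓ (Q : Subgroup G)).relIndex (P : Subgroup G) ∣ p ^ k by
        rw [← hcard P]; exact Subgroup.index_dvd_card _)
    rw [h3, hi']
    split_ifs with hQ
    · subst hQ
      rw [inf_idem, Subgroup.relIndex_self] at hi'
      rw [← hi', Nat.mod_eq_of_lt h2]
    · rcases Nat.lt_or_ge i 2 with h4 | h4
      · exfalso
        rcases (show i = 0 ∨ i = 1 by omega) with rfl | rfl
        · rw [pow_zero, Subgroup.relIndex_eq_one] at hi'
          exact hQ (Sylow.ext ((P.3 Q.2 (hi'.trans inf_le_right))))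
        · rw [pow_one] at hi'
          exact hne Q hQ hi'
      · exact Nat.mod_eq_zero_of_dvd (pow_dvd_pow p h4)
  haveI : Fintype (Sylow p G) := Fintype.ofFinite _
  haveI : Fintype (Quotient (MulAction.orbitRel (P : Subgroup G) (Sylow p G))) := Fintype.ofFinite _
  rw [Nat.card_congr (MulAction.selfEquivSigmaOrbits (P : Subgroup G) (Sylow p G)), Nat.card_sigma,
    Finset.sum_nat_mod]
  have hPo : ∀ ω : Quotient (MulAction.orbitRel (P : Subgroup G) (Sylow p G)),
      ω.out = P ↔ ω = Quotient.mk'' P := by
    intro ω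
    refine ⟨fun e => (Quotient.out_eq' ω).symm.trans (congrArg Quotient.mk'' e), fun e => ?_⟩
    have h5 : ω.out ∈ MulAction.orbit (P : Subgroup G) P := by
      rw [← MulAction.orbitRel_apply, ← Quotient.eq'', Quotient.out_eq', e]
    obtain ⟨x, hx⟩ := h5
    rw [← hx]
    exact Sylow.smul_eq_iff_mem_normalizer.mpr (le_normalizer x.2)
  rw [Finset.sum_congr rfl (g := fun ω => if ω = Quotient.mk'' P then 1 else 0) fun ω _ => by
    rw [hsize ω.out]; exact if_congr (hPo ω) rfl rfl, Finset.sum_ite_eq' Finset.univ]
  simp only [Finset.mem_univ, if_true]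
  exact Nat.mod_eq_of_lt (Nat.one_lt_pow two_ne_zero hp.one_lt)

/-- Such an intersection has a proper normaliser with several Sylow subgroups. -/
theorem exists_local {p k m : ℕ} [Fact p.Prime] (hk : 2 ≤ k) (hm : 1 < m)
    (hG : Nat.card G = p ^ k * m) (hpm : ¬ p ∣ m) (h : Nat.card (Sylow p G) % p ^ 2 ≠ 1) :
    ∃ H : Subgroup G, H ≠ ⊤ ∧ ∃ j, Nat.card H = p ^ k * j ∧ j ∣ m ∧ H.index = m / j ∧
      ∃ n, n ∣ j ∧ n % p = 1 ∧ n ≠ 1 := by
  have hp : p.Prime := Fact.out
  have hcard := fun P : Sylow p G => SmallOrders.sylow_card_eq hG hpm P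
  obtain ⟨P⟩ := (inferInstance : Nonempty (Sylow p G))
  obtain ⟨Q, hQP, hi⟩ := exists_inter hcard h P
  set X := (P : Subgroup G) ⊓ (Q : Subgroup G) with hX
  have hXc : Nat.card X * p = p ^ k := by
    have h0 := (X.subgroupOf (P : Subgroup G)).card_mul_index
    rw [Nat.card_congr (subgroupOfEquivOfLe (inf_le_left : X ≤ P)).toEquiv,
      show (X.subgroupOf (P : Subgroup G)).index = p from hi] at h0
    exact h0.trans (hcard P)
  have hnorm : ∀ R : Sylow p G, X ≤ (R : Subgroup G) →
      (R : Subgroup G) ≤ normalizer (X : Set G) := by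
    intro R hR
    have h1 : (X.subgroupOf (R : Subgroup G)).index = p := by
      have h2 := (X.subgroupOf (R : Subgroup G)).card_mul_index
      rw [Nat.card_congr (subgroupOfEquivOfLe hR).toEquiv, show Nat.card (R : Subgroup G) = p ^ k from
        hcard R, ← hXc] at h2
      exact Nat.eq_of_mul_eq_mul_left Nat.card_pos h2
    have hn : (X.subgroupOf (R : Subgroup G)).Normal := by
      refine Subgroup.normal_of_index_eq_minFac_card ?_
      rw [h1, show Nat.card (R : Subgroup G) = p ^ k from hcard R, hp.pow_minFac (by omega)]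
    exact (normal_subgroupOf_iff_le_normalizer hR).mp hn
  have hPn := hnorm P inf_le_left
  have hQn := hnorm Q inf_le_right
  refine ⟨normalizer (X : Set G), fun htop => ?_, ?_⟩
  · haveI : X.Normal := normalizer_eq_top_iff.mp htop
    have hlt : p ^ k < Nat.card G := by rw [hG]; exact lt_mul_of_one_lt_right (pow_pos hp.pos k) hm
    rcases IsSimpleGroup.eq_bot_or_eq_top_of_normal X inferInstance with e | e
    · rw [e, card_bot, one_mul] at hXc
      have h2 : p ^ 2 ≤ p ^ k := Nat.pow_le_pow_right hp.pos hk
      nlinarith [hp.two_le]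
    · rw [e, card_top] at hXc
      have := hp.two_le
      nlinarith
  · set H := normalizer (X : Set G) with hH
    obtain ⟨j, hj⟩ : p ^ k ∣ Nat.card H := by
      have := card_dvd_of_le hPn
      rwa [show Nat.card (P : Subgroup G) = p ^ k from hcard P] at this
    have hjm : j * H.index = m := by
      have h2 := H.card_mul_index
      rw [hj, hG, mul_assoc] at h2
      exact Nat.eq_of_mul_eq_mul_left (pow_pos hp.pos k) h2
    have hjdvd : j ∣ m := ⟨_, hjm.symm⟩
    refine ⟨j, hj, hjdvd, ?_, Nat.card (Sylow p H), ?_, ?_, ?_⟩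
    · rw [← hjm, Nat.mul_div_cancel_left _ (Nat.pos_of_mul_pos_right (a := j) (b := H.index)
        (by omega))]
    · have h2 : ((P.subtype hPn : Sylow p H) : Subgroup H).index = j := by
        have h3 := ((P.subtype hPn : Sylow p H) : Subgroup H).card_mul_index
        rw [Sylow.coe_subtype, Nat.card_congr (subgroupOfEquivOfLe hPn).toEquiv,
          show Nat.card (P : Subgroup G) = p ^ k from hcard P, hj] at h3
        rw [Sylow.coe_subtype]
        exact Nat.eq_of_mul_eq_mul_left (pow_pos hp.pos k) h3
      rw [← h2]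
      exact Sylow.card_dvd_index _
    · rw [card_sylow_modEq_one p H, Nat.mod_eq_of_lt hp.one_lt]
    · intro h1
      haveI := (Nat.card_eq_one_iff_unique.mp h1).1
      exact hQP (Sylow.subtype_injective (hP := hQn) (hQ := hPn) (Subsingleton.elim _ _))

/-- Soundness of one case for the number of Sylow subgroups. -/
theorem false_of_killN (hnc : ¬ IsMulCommutative G) {N q k m : ℕ} [Fact q.Prime] (hN : Nat.card G = N)
    (hk : 0 < k) (hm : 1 < m) (hG : N = q ^ k * m) (hqm : ¬ q ∣ m) (P : Sylow q G)
    (h : killN N q k m (Nat.card (Sylow q G)) = true) : False := by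
  have hq : q.Prime := Fact.out
  subst hN
  have hP := SmallOrders.sylow_card_eq hG hqm P
  obtain ⟨hn1, hn2, hn3⟩ := SmallOrders.sylow_number P hP hk hG hm
  have hidx : (normalizer ((P : Subgroup G) : Set G)).index = Nat.card (Sylow q G) :=
    (Sylow.card_eq_index_normalizer P).symm
  simp only [killN, Bool.or_eq_true, Bool.and_eq_true, decide_eq_true_eq, List.all_eq_true,
    List.mem_range] at h
  rcases h with ((h | ⟨hk2, hnm⟩) | ⟨hk1, h⟩) | ⟨⟨hk2, hmod⟩, h⟩
  · have hne : normalizer ((P : Subgroup G) : Set G) ≠ ⊤ := fun e => hn3 (by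
      rw [← hidx, e, index_top])
    refine false_of_small hnc _ hne ?_
    rwa [hidx]
  · have hlt : Nat.card P < Nat.card G := by
      rw [hP, hG]; exact lt_mul_of_one_lt_right (pow_pos hq.pos k) hm
    refine SmallOrders.false_of_central P (hP ▸ Nat.one_lt_pow hk.ne' hq.one_lt) hlt ?_
    have hN' : Nat.card (normalizer ((P : Subgroup G) : Set G)) = Nat.card P := by
      have h2 := SmallOrders.card_normalizer P
      rw [hnm, hG, mul_comm (q ^ k)] at h2
      rw [hP]
      exact Nat.eq_of_mul_eq_mul_left (by omega) h2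
    have hc : IsMulCommutative (P : Subgroup G) := by
      rcases (show k = 1 ∨ k = 2 by omega) with rfl | rfl
      · haveI : IsCyclic (P : Subgroup G) := isCyclic_of_prime_card (hP.trans (pow_one q))
        infer_instance
      · exact ⟨⟨IsPGroup.commutative_of_card_eq_prime_sq hP⟩⟩
    rw [← eq_of_le_of_card_ge (le_normalizer (H := (P : Subgroup G))) hN'.le]
    exact le_centralizer_iff_isMulCommutative.mpr hc
  · subst hk1
    obtain ⟨P', e, -, -, he, he1, he2, he3⟩ :=
      Lead.BlockDeg.sylow_data (p := q) (m := m) (by rw [hG, pow_one]) hqm hm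
    have he0 : e ≤ q - 1 := Nat.le_of_dvd (by have := hq.two_le; omega) he1
    exact h e (by have := hq.two_le; omega) ⟨he2, Nat.mod_eq_zero_of_dvd he1,
      Nat.mod_eq_zero_of_dvd he3⟩
  · obtain ⟨H, hH, j, -, hjm, hji, n, hnj, hnq, hn⟩ := exists_local hk2 hm hG hqm hmod
    rcases h j (DegreeSearch.mem_divs (by omega) hjm) with h' | h'
    · have hj0 : j ≠ 0 := by rintro rfl; rw [zero_dvd_iff] at hjm; omega
      rw [List.isEmpty_iff] at h'
      have : n ∈ adm q j := by
        simp only [adm, List.mem_filter, decide_eq_true_eq]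
        exact ⟨DegreeSearch.mem_divs hj0 hnj, hnq, hn⟩
      rw [h'] at this
      exact List.not_mem_nil this
    · exact false_of_small hnc H hH (by rw [hji]; exact h')

theorem false_of_killP (hnc : ¬ IsMulCommutative G) {q : ℕ} (hq : q.Prime)
    (h : killP (Nat.card G) q = true) : False := by
  haveI := Fintype.ofFinite G
  haveI := Fact.mk hq
  unfold killP at h
  set k := expo q (Nat.card G)
  set m := Nat.card G / q ^ k
  simp only [Bool.and_eq_true, decide_eq_true_eq, Bool.or_eq_true] at h
  obtain ⟨⟨hk, hm, hG, hqm⟩, h⟩ := h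
  have hqm' : ¬ q ∣ m := fun h' => hqm (Nat.mod_eq_zero_of_dvd h')
  obtain ⟨P⟩ := (inferInstance : Nonempty (Sylow q G))
  have hP := SmallOrders.sylow_card_eq hG hqm' P
  obtain ⟨hn1, hn2, hn3⟩ := SmallOrders.sylow_number P hP hk hG hm
  rcases h with h | ⟨⟨hk1, hq2, hm2⟩, h⟩
  · rw [List.all_eq_true] at h
    refine false_of_killN hnc rfl hk hm hG hqm' P (h _ ?_)
    simp only [adm, List.mem_filter, decide_eq_true_eq]
    exact ⟨DegreeSearch.mem_divs (by omega) hn1, hn2, hn3⟩
  · exact OrderSearch.card_ne (m := m) hq hq2 hqm' (Nat.dvd_of_mod_eq_zero hm2) hm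
      (List.all_eq_true.mp h) (hG.trans (congrArg (fun t => t * m)
        (show q ^ k = q by rw [hk1, pow_one])))

/-- Soundness of the sieve. -/
theorem kill_eq_false (hnc : ¬ IsMulCommutative G) (hN : Nat.card G < 6400) :
    kill (Nat.card G) = false := by
  by_contra h
  rw [Bool.not_eq_false] at h
  set N := Nat.card G with hNdef
  have hN0 : 0 < N := Nat.card_pos
  unfold kill at h
  split_ifs at h with h1 h2 h3 h4
  · haveI := IsSimpleGroup.toNontrivial (G := G)
    exact absurd (Finite.one_lt_card (α := G)) (by omega)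
  · obtain ⟨q, hq, hqN, hq80⟩ : ∃ q : ℕ, q.Prime ∧ q ∣ N ∧ 80 ≤ q := by
      by_contra hall
      push Not at hall
      refine h2 (Nat.mod_eq_zero_of_dvd ?_)
      rw [← Nat.factorization_prime_le_iff_dvd hN0.ne' (pow_ne_zero _ (by decide +kernel))]
      intro p hp
      rcases Nat.eq_zero_or_pos (N.factorization p) with e | e
      · omega
      · have hpN : p ∣ N := Nat.dvd_of_factorization_pos e.ne'
        have hd := Nat.dvd_of_mod_eq_zero (mem_of_dvd_prod p (hall p hp hpN) hp)
        have h5 : N.factorization p ≤ 13 := by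
          by_contra h6
          have h7 : 2 ^ 14 ≤ p ^ N.factorization p :=
            (Nat.pow_le_pow_left hp.two_le 14).trans (Nat.pow_le_pow_right hp.pos (by omega))
          have h8 := Nat.le_of_dvd hN0 (Nat.ordProj_dvd N p)
          omega
        refine h5.trans ((hp.pow_dvd_iff_le_factorization (pow_ne_zero _ (by decide +kernel))).mp ?_)
        exact pow_dvd_pow_of_dvd hd 13
    haveI := Fact.mk hq
    obtain ⟨m, hm⟩ := hqN
    have hm80 : m < 80 ∨ 80 ≤ m := lt_or_ge m 80
    rcases hm80 with hm80 | hm80
    swap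
    · have := Nat.mul_le_mul hq80 hm80
      rw [← hm] at this
      omega
    have hm1 : 1 < m := by
      rcases Nat.lt_or_ge 1 m with h5 | h5
      · exact h5
      · rcases (show m = 0 ∨ m = 1 by omega) with rfl | rfl
        · omega
        · exfalso
          rw [mul_one] at hm
          exact hnc (by
            haveI : IsCyclic G := isCyclic_of_prime_card (p := q) hm
            infer_instance)
    have hqm : ¬ q ∣ m := fun h5 => absurd (Nat.le_of_dvd (by omega) h5) (by omega)
    obtain ⟨P⟩ := (inferInstance : Nonempty (Sylow q G))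
    have hP := SmallOrders.sylow_card_eq (k := 1) (by rw [pow_one]; exact hm) hqm P
    obtain ⟨hn1, hn2, hn3⟩ := SmallOrders.sylow_number P hP one_pos (by rw [pow_one]; exact hm) hm1
    have h6 := Nat.le_of_dvd (by omega) hn1
    rw [Nat.mod_eq_of_lt (by omega)] at hn2
    exact hn3 hn2
  · refine hnc ?_
    have hall : ∀ p, p.Prime → p ∣ N → p ∈ pl.filter fun q => decide (N % q = 0) := by
      intro p hp hpN
      have hd : p ∣ prodPl ^ 13 := hpN.trans (Nat.dvd_of_mod_eq_zero (not_not.mp h2))
      have hp80 : p < 80 := by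
        by_contra h5
        have h6 : ∀ l : List ℕ, (∀ x ∈ l, 0 < x ∧ x < 80) → ∀ a, ¬ p ∣ a → ¬ p ∣ l.foldl (· * ·) a := by
          intro l
          induction l with
          | nil => intro _ a ha; simpa using ha
          | cons x xs ih =>
            intro hl a ha
            refine ih (fun y hy => hl y (List.mem_cons_of_mem _ hy)) _ fun h7 => ?_
            rcases hp.dvd_mul.mp h7 with h8 | h8
            · exact ha h8
            · have := Nat.le_of_dvd (hl x (List.mem_cons_self ..)).1 h8
              have := (hl x (List.mem_cons_self ..)).2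
              omega
        exact h6 pl (by decide +kernel) 1 (Nat.Prime.not_dvd_one hp) (hp.dvd_of_dvd_pow hd)
      simp only [List.mem_filter, decide_eq_true_eq]
      exact ⟨mem_pl p hp80 hp, Nat.mod_eq_zero_of_dvd hpN⟩
    have hsol : Group.IsSolvable G := by
      generalize hl : (pl.filter fun q => decide (N % q = 0)) = l at hall h3
      have hpr : ∀ x ∈ l, Nat.Prime x := fun x hx =>
        prime_of_mem x (List.mem_of_mem_filter (hl ▸ hx))
      match l with
      | [] =>
        exact Char.isSolvable_of_two_primes Nat.prime_two Nat.prime_three N hNdef.symm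
          (fun r hr hrN => absurd (hall r hr hrN) List.not_mem_nil)
      | [a] =>
        exact Char.isSolvable_of_two_primes (hpr a (by simp)) (hpr a (by simp)) N hNdef.symm
          (fun r hr hrN => Or.inl (by simpa using hall r hr hrN))
      | [a, b] =>
        exact Char.isSolvable_of_two_primes (hpr a (by simp)) (hpr b (by simp)) N hNdef.symm
          (fun r hr hrN => by simpa using hall r hr hrN)
      | a :: b :: c :: t => simp at h3
    exact ⟨⟨fun a b => IsSimpleGroup.comm_iff_isSolvable.mpr hsol a b⟩⟩
  · have hex : ∃ x y : G, x * y ≠ y * x := by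
      by_contra hc
      push Not at hc
      exact hnc ⟨⟨hc⟩⟩
    unfold killMin at h4
    have h5 := S0073.result hex
    rw [← hNdef] at h5
    revert h4
    generalize hl : (pl.filter fun q => decide (N % q = 0)) = l
    intro h4
    match l with
    | [] => simp at h4
    | q :: t =>
      simp only [decide_eq_true_eq] at h4
      have hq : q ∈ pl.filter fun q => decide (N % q = 0) := by rw [hl]; simp
      simp only [List.mem_filter, decide_eq_true_eq] at hq
      have hqp := prime_of_mem q hq.1
      have hmf := Nat.minFac_prime (n := N) (by omega)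
      have hle := Nat.minFac_le_of_dvd hqp.two_le (Nat.dvd_of_mod_eq_zero hq.2)
      have hq80 : q < 80 := (show ∀ x ∈ pl, x < 80 by decide +kernel) q hq.1
      have hmem : N.minFac ∈ q :: t := by
        rw [← hl]
        simp only [List.mem_filter, decide_eq_true_eq]
        exact ⟨mem_pl _ (by omega) hmf, Nat.mod_eq_zero_of_dvd N.minFac_dvd⟩
      have heq : N.minFac = q := by
        rcases List.mem_cons.mp hmem with e | e
        · exact e
        · have hs : (q :: t).Pairwise (· < ·) := hl ▸ List.Pairwise.filter _ (by decide)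
          have := List.rel_of_pairwise_cons hs e
          omega
      rw [heq] at h5
      rcases h5 with h5 | h5
      · exact h4.1 (Nat.mod_eq_zero_of_dvd h5)
      · exact h4.2 (Nat.mod_eq_zero_of_dvd h5)
  · obtain ⟨q, hq, h'⟩ := List.any_eq_true.mp h
    rw [Bool.and_eq_true] at h'
    exact false_of_killP hnc (prime_of_mem q hq) h'.2

end Cfsg.Agent.Small.OrderSieve
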