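import Mathlib

/-!
Short arguments with Sylow subgroups.
-/

set_option autoImplicit false

namespace Cfsg.Agent.Small.SylowTricks

open Subgroup Pointwise

variable {G : Type*} [Group G]

/-- A prime power automorphism fixes a smaller set pointwise. -/
theorem commute_of_small [Finite G] (r : ℕ) [Fact r.Prime] (Q : Subgroup G) [Q.Normal]
    (hQ : Nat.card Q < r) {x : G} (hx : x ^ r = 1) {u : G} (hu : u ∈ Q) : Commute x u := by
  have hle : Nat.card (MulAction.orbit (zpowers (ConjAct.toConjAct x)) u) ≤ Nat.card Q := by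
    refine Nat.card_le_card_of_injective (fun y => (⟨y.1, ?_⟩ : Q)) fun a b h =>
      Subtype.ext (congrArg (fun z : Q => z.1) h)
    obtain ⟨g, hg⟩ := y.2
    rw [← hg]
    exact Normal.conj_mem inferInstance u hu (ConjAct.ofConjAct g.1)
  have hdvd : Nat.card (MulAction.orbit (zpowers (ConjAct.toConjAct x)) u) ∣ r := by
    rw [Nat.card_coe_set_eq, ← MulAction.index_stabilizer]
    refine (index_dvd_card _).trans ?_
    rw [Nat.card_zpowers]
    exact orderOf_dvd_of_pow_eq_one (by rw [← map_pow, hx, map_one])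
  rcases (Nat.dvd_prime Fact.out).mp hdvd with h | h
  · have hsub : Subsingleton (MulAction.orbit (zpowers (ConjAct.toConjAct x)) u) :=
      (Nat.card_eq_one_iff_unique.mp h).1
    have := congrArg Subtype.val (hsub.elim ⟨_, MulAction.mem_orbit u ⟨_, mem_zpowers _⟩⟩
      ⟨u, MulAction.mem_orbit_self u⟩)
    have h' : x * u * x⁻¹ = u := this
    exact mul_inv_eq_iff_eq_mul.mp h'
  · omega

theorem card_sylow_cases {p : ℕ} [Fact p.Prime] [Finite G] (P : Sylow p G) :
    Nat.card (Sylow p G) ∣ (P : Subgroup G).index ∧ Nat.card (Sylow p G) % p = 1 := by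
  refine ⟨Sylow.card_dvd_index P, ?_⟩
  rw [card_sylow_modEq_one p G, Nat.mod_eq_of_lt (Fact.out : p.Prime).one_lt]

theorem sylow_card {p a m : ℕ} [Fact p.Prime] [Finite G] (hG : Nat.card G = p ^ a * m)
    (hm : ¬ p ∣ m) (P : Sylow p G) : Nat.card P = p ^ a := by
  have hm0 : m ≠ 0 := by rintro rfl; exact hm (dvd_zero p)
  have hp : p.Prime := Fact.out
  rw [P.card_eq_multiplicity, hG, Nat.factorization_mul (pow_ne_zero _ hp.ne_zero) hm0,
    Finsupp.add_apply, hp.factorization_pow, Finsupp.single_eq_same,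
    Nat.factorization_eq_zero_of_not_dvd hm, add_zero]

/-- Groups of order `pqr`. -/
theorem normal_of_pqr [Finite G] (p q r : ℕ) (hp : p.Prime) (hq : q.Prime) [Fact r.Prime] (hpq : p < q)
    (hqr : q < r) (hG : Nat.card G = p * q * r) (R : Sylow r G) : (R : Subgroup G).Normal := by
  have hr : r.Prime := Fact.out
  have : Fact q.Prime := ⟨hq⟩
  have hpr : ¬ r ∣ p * q := fun h => by
    rcases hr.dvd_mul.mp h with h | h
    · exact absurd (Nat.le_of_dvd hp.pos h) (by omega)
    · exact absurd (Nat.le_of_dvd hq.pos h) (by omega)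
  have hRc : Nat.card (R : Subgroup G) = r := by
    simpa using sylow_card (a := 1) (by rw [hG, pow_one]; ring) hpr R
  have hidx : (R : Subgroup G).index = p * q := by
    have h := (R : Subgroup G).card_mul_index
    rw [hRc, hG] at h
    refine Nat.eq_of_mul_eq_mul_left hr.pos (h.trans ?_)
    ring
  obtain ⟨hdvd, hmod⟩ := card_sylow_cases R
  rw [hidx] at hdvd
  obtain ⟨⟨a, b, ha, hb, hab⟩⟩ : Nonempty (∃ a b, a ∣ p ∧ b ∣ q ∧ a * b = Nat.card (Sylow r G)) := by
    obtain ⟨a, b, ha, hb, e⟩ := dvd_mul.mp hdvd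
    exact ⟨a, b, ha, hb, e.symm⟩
  by_cases h1 : Nat.card (Sylow r G) = 1
  · have : Subsingleton (Sylow r G) := (Nat.card_eq_one_iff_unique.mp h1).1
    exact R.normal_of_subsingleton
  exfalso
  have hn : Nat.card (Sylow r G) = p * q := by
    rcases (Nat.dvd_prime hp).mp ha with rfl | rfl <;> rcases (Nat.dvd_prime hq).mp hb with rfl | rfl
    · omega
    · rw [one_mul] at hab; rw [← hab, Nat.mod_eq_of_lt hqr] at hmod; omega
    · rw [mul_one] at hab; rw [← hab, Nat.mod_eq_of_lt (hpq.trans hqr)] at hmod; omega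
    · exact hab.symm
  have hN : normalizer ((R : Subgroup G) : Set G) = R := by
    refine (eq_of_le_of_card_ge le_normalizer ?_).symm
    have h := (normalizer ((R : Subgroup G) : Set G)).card_mul_index
    rw [show (normalizer ((R : Subgroup G) : Set G)).index = Nat.card (Sylow r G) from
      (Sylow.card_eq_index_normalizer R).symm, hn, hG, mul_comm (p * q)] at h
    rw [Nat.eq_of_mul_eq_mul_right (Nat.mul_pos hp.pos hq.pos) h]
    exact hRc.ge
  have : IsCyclic (R : Subgroup G) := isCyclic_of_prime_card hRc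
  have hcyc : normalizer ((R : Subgroup G) : Set G) ≤ centralizer ((R : Subgroup G) : Set G) := by
    rw [hN]
    exact le_centralizer_iff_isMulCommutative.mpr inferInstance
  have hK := MonoidHom.ker_transferSylow_isComplement' R hcyc
  set K := (MonoidHom.transferSylow R hcyc).ker
  have hKc : Nat.card K = p * q := by
    have := hK.card_mul
    rw [hRc, hG] at this
    exact Nat.eq_of_mul_eq_mul_right hr.pos this
  obtain ⟨Q⟩ : Nonempty (Sylow q K) := inferInstance
  have hQc : Nat.card (Q : Subgroup K) = q := by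
    simpa using sylow_card (a := 1) (by rw [hKc, pow_one, mul_comm])
      (fun h => absurd (Nat.le_of_dvd hp.pos h) (by omega)) Q
  have hQ1 : Nat.card (Sylow q K) = 1 := by
    obtain ⟨hd, hm⟩ := card_sylow_cases Q
    have hi : (Q : Subgroup K).index = p := by
      have h := (Q : Subgroup K).card_mul_index
      rw [hQc, hKc] at h
      exact Nat.eq_of_mul_eq_mul_left hq.pos (h.trans (mul_comm _ _))
    rw [hi] at hd
    rcases (Nat.dvd_prime hp).mp hd with h | h
    · exact h
    · rw [h, Nat.mod_eq_of_lt hpq] at hm; exact h.trans hm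
  have : Subsingleton (Sylow q K) := (Nat.card_eq_one_iff_unique.mp hQ1).1
  have : (Q : Subgroup K).Characteristic := Sylow.characteristic_of_subsingleton Q
  have hQn : ((Q : Subgroup K).map K.subtype).Normal := inferInstance
  have hQc' : Nat.card ((Q : Subgroup K).map K.subtype) = q := by
    rw [card_map_of_injective K.subtype_injective, hQc]
  have hne : (Q : Subgroup K).map K.subtype ≠ ⊥ := fun h => by
    rw [h, card_bot] at hQc'; exact hq.one_lt.ne hQc'
  obtain ⟨u, hu, hu1⟩ := (bot_or_exists_ne_one _).resolve_left hne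
  have hmem : u ∈ (R : Subgroup G) := by
    rw [← hN]
    refine mem_normalizer_fintype fun x hx => ?_
    have hxr : x ^ r = 1 := by
      rw [← hRc]
      exact congrArg Subtype.val (pow_card_eq_one' (x := (⟨x, hx⟩ : (R : Subgroup G))))
    have hc := commute_of_small r ((Q : Subgroup K).map K.subtype) (by rw [hQc']; exact hqr) hxr hu
    rw [SetLike.mem_coe, ← hc.eq, mul_inv_cancel_right]
    exact hx
  have h2 : orderOf u ∣ Nat.gcd r q :=
    Nat.dvd_gcd (hRc ▸ orderOf_dvd_natCard _ hmem) (hQc' ▸ orderOf_dvd_natCard _ hu)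
  rw [(Nat.coprime_primes hr hq).mpr (by omega), Nat.dvd_one, orderOf_eq_one_iff] at h2
  exact hu1 h2

/-- Brodkey's theorem. -/
theorem brodkey [Finite G] (p : ℕ) [Fact p.Prime]
    (hab : ∀ P : Sylow p G, IsMulCommutative ↥(P : Subgroup G)) :
    ∃ P Q : Sylow p G, (P : Subgroup G) ⊓ (Q : Subgroup G) = ⨅ R : Sylow p G, (R : Subgroup G) := by
  obtain ⟨⟨P, Q⟩, hmin⟩ := Finite.exists_min fun x : Sylow p G × Sylow p G =>
    Nat.card ↥((x.1 : Subgroup G) ⊓ (x.2 : Subgroup G))
  refine ⟨P, Q, le_antisymm (le_iInf fun R => ?_) (le_inf (iInf_le _ P) (iInf_le _ Q))⟩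
  obtain ⟨D, hD⟩ : ∃ D, D = (P : Subgroup G) ⊓ (Q : Subgroup G) := ⟨_, rfl⟩
  rw [← hD]
  obtain ⟨C, hC⟩ : ∃ C, C = centralizer (D : Set G) := ⟨_, rfl⟩
  have hcomm : ∀ (S : Sylow p G), D ≤ (S : Subgroup G) → (S : Subgroup G) ≤ C := fun S hS x hx => by
    rw [hC, mem_centralizer_iff]
    intro y hy
    have := (hab S).is_comm.comm ⟨y, hS hy⟩ ⟨x, hx⟩
    exact congrArg Subtype.val this
  have hPC := hcomm P (hD ▸ inf_le_left)
  have hQC := hcomm Q (hD ▸ inf_le_right)
  have hRp : IsPGroup p (((R : Subgroup G) ⊓ C).subgroupOf C) :=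
    IsPGroup.of_equiv (R.2.to_le inf_le_left) (subgroupOfEquivOfLe inf_le_right).symm
  obtain ⟨S, hS⟩ := hRp.exists_le_sylow
  obtain ⟨c, hc⟩ := MulAction.exists_smul_eq C (P.subtype hPC) S
  obtain ⟨R', hR'⟩ : ∃ R' : Sylow p G, R' = (c : G)⁻¹ • R := ⟨_, rfl⟩
  have hle : (R' : Subgroup G) ⊓ C ≤ (P : Subgroup G) := by
    rintro y ⟨hy, hyC0⟩
    have hyC : y ∈ C := hyC0
    rw [hR'] at hy
    have hy0 : y ∈ (((c : G)⁻¹ • R : Sylow p G) : Subgroup G) := hy
    rw [Sylow.coe_subgroup_smul, mem_pointwise_smul_iff_inv_smul_mem] at hy0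
    have hy' : (c : G) * y * (c : G)⁻¹ ∈ (R : Subgroup G) := by simpa [MulAut.smul_def] using hy0
    have hm : (c : G) * y * (c : G)⁻¹ ∈ C := mul_mem (mul_mem c.2 hyC) (inv_mem c.2)
    have hyS : (⟨(c : G) * y * (c : G)⁻¹, hm⟩ : C) ∈ (S : Subgroup C) :=
      hS (mem_subgroupOf.mpr (mem_inf.mpr ⟨hy', hm⟩))
    rw [← hc, Sylow.coe_subgroup_smul, mem_pointwise_smul_iff_inv_smul_mem] at hyS
    simpa [MulAut.smul_def, Sylow.coe_subtype, mem_subgroupOf, mul_assoc] using hyS
  have hle2 : (R' : Subgroup G) ⊓ Q ≤ D := by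
    rintro y ⟨hy, hyQ⟩
    rw [hD]
    exact ⟨hle ⟨hy, hQC hyQ⟩, hyQ⟩
  have heq : (R' : Subgroup G) ⊓ Q = D := eq_of_le_of_card_ge hle2 (hD ▸ hmin (R', Q))
  intro d hd
  have hdR' : d ∈ (R' : Subgroup G) := (heq ▸ hd : d ∈ (R' : Subgroup G) ⊓ Q).1
  rw [hR', Sylow.coe_subgroup_smul, mem_pointwise_smul_iff_inv_smul_mem] at hdR'
  have h1 : (c : G) * d * (c : G)⁻¹ ∈ (R : Subgroup G) := by simpa [MulAut.smul_def] using hdR'
  have h2 := c.2
  simp only [hC, mem_centralizer_iff] at h2
  rwa [← h2 d hd, mul_inv_cancel_right] at h1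

theorem frattini_centralizer [Finite G] {p : ℕ} [Fact p.Prime] (P : Sylow p G)
    (hP : IsMulCommutative (P : Subgroup G)) (Q : Subgroup G) (hQ : Q ≤ (P : Subgroup G)) :
    normalizer (Q : Set G) =
      (normalizer (Q : Set G) ⊓ normalizer ((P : Subgroup G) : Set G)) ⊔ centralizer (Q : Set G) ∧
    ((centralizer (Q : Set G)).subgroupOf (normalizer (Q : Set G))).index ∣
      ((centralizer ((P : Subgroup G) : Set G)).subgroupOf
        (normalizer ((P : Subgroup G) : Set G))).index := by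
  obtain ⟨N, hN⟩ : ∃ N, N = normalizer (Q : Set G) := ⟨_, rfl⟩
  obtain ⟨A, hA⟩ : ∃ A, A = N ⊓ normalizer ((P : Subgroup G) : Set G) := ⟨_, rfl⟩
  obtain ⟨C, hC⟩ : ∃ C, C = centralizer (Q : Set G) := ⟨_, rfl⟩
  rw [← hN, ← hA, ← hC]
  have hCN : C ≤ N := hC ▸ hN ▸ centralizer_le_normalizer _
  have hPC : (P : Subgroup G) ≤ C := fun x hx => by
    rw [hC, mem_centralizer_iff]
    exact fun y hy => congrArg Subtype.val (hP.is_comm.comm ⟨y, hQ hy⟩ ⟨x, hx⟩)
  have hnorm : ∀ g ∈ N, ∀ z ∈ C, g * z * g⁻¹ ∈ C := by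
    intro g hg z hz
    rw [hC, mem_centralizer_iff] at hz ⊢
    intro y hy
    have h := hz (g⁻¹ * y * g) ((mem_normalizer_iff''.mp (hN ▸ hg) y).mp hy)
    calc y * (g * z * g⁻¹) = g * ((g⁻¹ * y * g) * z) * g⁻¹ := by group
      _ = g * (z * (g⁻¹ * y * g)) * g⁻¹ := by rw [h]
      _ = g * z * g⁻¹ * y := by group
  have heq : N = A ⊔ C := by
    refine le_antisymm (fun g hg => ?_) (sup_le (hA ▸ inf_le_left) hCN)
    have hle : ((g • P : Sylow p G) : Subgroup G) ≤ C := by
      intro y hy
      rw [Sylow.coe_subgroup_smul, mem_pointwise_smul_iff_inv_smul_mem] at hy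
      have h1 : g⁻¹ * y * g ∈ (P : Subgroup G) := by simpa [MulAut.smul_def] using hy
      have h2 := hnorm g hg _ (hPC h1)
      rwa [show g * (g⁻¹ * y * g) * g⁻¹ = y by group] at h2
    obtain ⟨c, hc⟩ := MulAction.exists_smul_eq C ((g • P).subtype hle) (P.subtype hPC)
    have hcg : (c : G) * g ∈ A := by
      rw [hA]
      refine ⟨mul_mem (hCN c.2) hg, ?_⟩
      show (c : G) * g ∈ normalizer ((P : Subgroup G) : Set G)
      rw [show normalizer ((P : Subgroup G) : Set G) = normalizer (P : Set G) from rfl,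
        ← Sylow.smul_eq_iff_mem_normalizer, mul_smul]
      rw [Sylow.smul_subtype hle c] at hc
      exact Sylow.subtype_injective hc
    have : g = (c : G)⁻¹ * ((c : G) * g) := (inv_mul_cancel_left _ _).symm
    rw [this]
    exact mul_mem (mem_sup_right (inv_mem c.2)) (mem_sup_left hcg)
  refine ⟨heq, ?_⟩
  show C.relIndex N ∣ (centralizer ((P : Subgroup G) : Set G)).relIndex (normalizer ((P : Subgroup G) : Set G))
  have hCP : centralizer ((P : Subgroup G) : Set G) ≤ C := hC ▸ centralizer_le hQ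
  have hCPA : centralizer ((P : Subgroup G) : Set G) ≤ A :=
    hA ▸ le_inf (hCP.trans hCN) (centralizer_le_normalizer _)
  have h1 : C.relIndex N = C.relIndex A := by
    have hn : (C.subgroupOf N).Normal := ⟨fun z hz g => hnorm g g.2 z hz⟩
    have hAN : A ≤ N := hA ▸ inf_le_left
    have : (A.subgroupOf N) ⊔ (C.subgroupOf N) = ⊤ := by
      rw [← Subgroup.subgroupOf_sup hAN hCN, ← heq, subgroupOf_self]
    have h := relIndex_sup_left (H := A.subgroupOf N) (K := C.subgroupOf N)
    rw [sup_comm, this, relIndex_top_right] at h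
    rw [relIndex, h, relIndex_subgroupOf hAN]
  rw [h1]
  refine dvd_trans ?_ (dvd_of_eq (relIndex_mul_relIndex _ A _ hCPA (hA ▸ inf_le_right))) |>.trans dvd_rfl
  exact dvd_mul_of_dvd_left (relIndex_dvd_of_le_left A hCP) _

/-- Regular elements of a complement. -/
theorem conj_coset [Finite G] (U T : Subgroup G) [U.Normal] (hcompl : IsComplement' U T) (t : G)
    (hreg : centralizer ({t} : Set G) = T) (u : G) (hu : u ∈ U) :
    ∃ b : G, b * t * b⁻¹ = t * u := by
  let f : U → U := fun b => ⟨(t⁻¹ * b.1 * t) * b.1⁻¹,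
    mul_mem (by simpa using Normal.conj_mem inferInstance b.1 b.2 t⁻¹) (inv_mem b.2)⟩
  have hf : Function.Injective f := by
    intro a b h
    have h' : (t⁻¹ * a.1 * t) * a.1⁻¹ = (t⁻¹ * b.1 * t) * b.1⁻¹ := congrArg Subtype.val h
    have hT : b.1⁻¹ * a.1 ∈ T := by
      rw [← hreg, mem_centralizer_singleton_iff]
      calc b.1⁻¹ * a.1 * t = b.1⁻¹ * t * ((t⁻¹ * a.1 * t) * a.1⁻¹) * a.1 := by group
        _ = t * (b.1⁻¹ * a.1) := by rw [h']; group
    have : b.1⁻¹ * a.1 = 1 :=
      (Subgroup.mem_bot).mp (hcompl.disjoint.le_bot (mem_inf.mpr ⟨mul_mem (inv_mem b.2) a.2, hT⟩))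
    exact Subtype.ext (inv_mul_eq_one.mp this).symm
  obtain ⟨b, hb⟩ := Finite.surjective_of_injective hf ⟨u, hu⟩
  exact ⟨b.1, by rw [← show (t⁻¹ * b.1 * t) * b.1⁻¹ = u from congrArg Subtype.val hb]; group⟩

/-- A self-centralising element of prime order. -/
theorem class_equation [Finite G] (p : ℕ) [Fact p.Prime] (z : G) (hz : orderOf z = p)
    (hC : centralizer ({z} : Set G) = zpowers z) :
    ∃ n t : ℕ, t = Nat.card {c : ConjClasses G // ∃ g : G, ConjClasses.mk g = c ∧ orderOf g = p} ∧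
      t ∣ p - 1 ∧ Nat.card (Sylow p G) = 1 + n * p ∧
      Nat.card G * t = (p - 1) * p * (1 + n * p) := by
  classical
  have hp : p.Prime := Fact.out
  obtain ⟨P, hP⟩ := (IsPGroup.of_card (n := 1) (by rw [Nat.card_zpowers, hz, pow_one]) :
    IsPGroup p (zpowers z)).exists_le_sylow
  have hzP : z ∈ (P : Subgroup G) := hP (mem_zpowers z)
  have hPz : (P : Subgroup G) = zpowers z := by
    refine le_antisymm ?_ hP
    rw [← hC]
    have : Nontrivial (P : Subgroup G) := ⟨⟨z, hzP⟩, 1, fun h => by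
      rw [show z = 1 from congrArg Subtype.val h, orderOf_one] at hz
      exact hp.one_lt.ne hz⟩
    have := IsPGroup.center_nontrivial P.2
    obtain ⟨w, hw⟩ := exists_ne (1 : center (P : Subgroup G))
    have hwz : (w.1 : G) ∈ zpowers z := by
      rw [← hC, mem_centralizer_singleton_iff]
      exact (congrArg Subtype.val (mem_center_iff.mp w.2 ⟨z, hzP⟩)).symm
    have hw1 : (w.1 : G) ≠ 1 := fun h => hw (Subtype.ext (Subtype.ext h))
    have hgen : z ∈ zpowers (w.1 : G) := by
      have : zpowers (w.1 : G) = zpowers z := by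
        refine eq_of_le_of_card_ge (zpowers_le.mpr hwz) ?_
        rw [Nat.card_zpowers, Nat.card_zpowers, hz]
        have h := orderOf_dvd_natCard _ hwz
        rw [Nat.card_zpowers, hz] at h
        exact ((hp.eq_one_or_self_of_dvd _ h).resolve_left fun e => hw1 (orderOf_eq_one_iff.mp e)).ge
      exact this ▸ mem_zpowers z
    intro x hx
    rw [mem_centralizer_singleton_iff]
    obtain ⟨i, hi⟩ := mem_zpowers_iff.mp hgen
    have hc : Commute x (w.1 : G) := congrArg Subtype.val (mem_center_iff.mp w.2 ⟨x, hx⟩)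
    rw [← hi]
    exact (hc.zpow_right i).eq
  have hPc : ∀ S : Sylow p G, Nat.card (S : Subgroup G) = p := fun S => by
    rw [Nat.card_congr (Sylow.equiv S P).toEquiv, hPz, Nat.card_zpowers, hz]
  have hgen : ∀ (S : Sylow p G) (x : G), x ∈ (S : Subgroup G) → x ≠ 1 →
      orderOf x = p ∧ zpowers x = (S : Subgroup G) := by
    intro S x hx h1
    have h2 : orderOf x = p := by
      have := orderOf_dvd_natCard _ hx
      rw [hPc] at this
      exact (hp.eq_one_or_self_of_dvd _ this).resolve_left fun h => h1 (orderOf_eq_one_iff.mp h)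
    exact ⟨h2, eq_of_le_of_card_ge (zpowers_le.mpr hx) (by rw [hPc, Nat.card_zpowers, h2])⟩
  have hne : ∀ x : G, orderOf x = p → x ≠ 1 := fun x hx h => by
    rw [h, orderOf_one] at hx; exact hp.one_lt.ne hx
  have hsyl : ∀ x : G, orderOf x = p → ∃ S : Sylow p G, x ∈ (S : Subgroup G) := fun x hx => by
    obtain ⟨S, hS⟩ := (IsPGroup.of_card (n := 1) (by rw [Nat.card_zpowers, hx, pow_one]) :
      IsPGroup p (zpowers x)).exists_le_sylow
    exact ⟨S, hS (mem_zpowers x)⟩
  choose S hS using fun x : {x : G // orderOf x = p} => hsyl x.1 x.2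
  have hcount : Nat.card {x : G // orderOf x = p} = Nat.card (Sylow p G) * (p - 1) := by
    let e : (Σ T : Sylow p G, {x : (T : Subgroup G) // x ≠ 1}) → {x : G // orderOf x = p} :=
      fun a => ⟨a.2.1.1, (hgen a.1 _ a.2.1.2 fun h => a.2.2 (Subtype.ext h)).1⟩
    have he : Function.Bijective e := by
      constructor
      · rintro ⟨T, ⟨⟨x, hx⟩, hx1⟩⟩ ⟨T', ⟨⟨y, hy⟩, hy1⟩⟩ h
        obtain rfl : x = y := congrArg Subtype.val h
        obtain rfl : T = T' := Sylow.ext (((hgen T x hx fun h => hx1 (Subtype.ext h)).2.symm.trans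
          (hgen T' x hy fun h => hy1 (Subtype.ext h)).2))
        rfl
      · exact fun x => ⟨⟨S x, ⟨x.1, hS x⟩, fun h => hne _ x.2 (congrArg Subtype.val h)⟩, rfl⟩
    have := Fintype.ofFinite (Sylow p G)
    rw [← Nat.card_congr (Equiv.ofBijective e he), Nat.card_sigma]
    have : ∀ T : Sylow p G, Nat.card {x : (T : Subgroup G) // x ≠ 1} = p - 1 := fun T => by
      have := Fintype.ofFinite (T : Subgroup G)
      rw [Nat.card_eq_fintype_card, Fintype.card_subtype_compl, Fintype.card_subtype_eq,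
        ← Nat.card_eq_fintype_card, hPc]
    simp [this, Finset.sum_const, Nat.card_eq_fintype_card]
  have hcl : ∀ x : G, orderOf x = p → Nat.card {y : G // IsConj x y} * p = Nat.card G := by
    intro x hx
    obtain ⟨g, hg⟩ := MulAction.exists_smul_eq G P (S ⟨x, hx⟩)
    have hx' := hS ⟨x, hx⟩
    rw [← hg, Sylow.coe_subgroup_smul, mem_pointwise_smul_iff_inv_smul_mem] at hx'
    have hy : g⁻¹ * x * g ∈ (P : Subgroup G) := by simpa [MulAut.smul_def] using hx'
    have hy1 : g⁻¹ * x * g ≠ 1 := fun h => hne x hx (by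
      calc x = g * (g⁻¹ * x * g) * g⁻¹ := by group
        _ = 1 := by rw [h]; group)
    have hcent : Nat.card (centralizer ({x} : Set G)) = p := by
      have hyz := (hgen P _ hy hy1).2
      have e : centralizer ({g⁻¹ * x * g} : Set G) = zpowers z := by
        rw [← hC]
        refine Subgroup.ext fun w => ?_
        rw [mem_centralizer_singleton_iff, mem_centralizer_singleton_iff]
        have h1 : g⁻¹ * x * g ∈ zpowers z := hPz ▸ hy
        have h2 : z ∈ zpowers (g⁻¹ * x * g) := hyz ▸ hzP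
        obtain ⟨i, hi⟩ := mem_zpowers_iff.mp h1
        obtain ⟨j, hj⟩ := mem_zpowers_iff.mp h2
        exact ⟨fun h => hj ▸ (Commute.zpow_right h j).eq, fun h => hi ▸ (Commute.zpow_right h i).eq⟩
      rw [← hz, ← Nat.card_zpowers, ← e]
      exact Nat.card_congr
        { toFun := fun w => ⟨g⁻¹ * w.1 * g, mem_centralizer_singleton_iff.mpr (by
            have := mem_centralizer_singleton_iff.mp w.2
            calc g⁻¹ * w.1 * g * (g⁻¹ * x * g) = g⁻¹ * (w.1 * x) * g := by group
              _ = g⁻¹ * x * g * (g⁻¹ * w.1 * g) := by rw [this]; group)⟩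
          invFun := fun w => ⟨g * w.1 * g⁻¹, mem_centralizer_singleton_iff.mpr (by
            have := mem_centralizer_singleton_iff.mp w.2
            calc g * w.1 * g⁻¹ * x = g * (w.1 * (g⁻¹ * x * g)) * g⁻¹ := by group
              _ = x * (g * w.1 * g⁻¹) := by rw [this]; group)⟩
          left_inv := fun w => Subtype.ext (by group)
          right_inv := fun w => Subtype.ext (by group) }
    have e : Nat.card {y : G // IsConj x y} = (centralizer ({x} : Set G)).index := by
      have h1 : {y : G | IsConj x y} = (ConjClasses.mk x).carrier := by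
        ext y
        rw [Set.mem_setOf_eq, ConjClasses.mem_carrier_iff_mk_eq, ConjClasses.mk_eq_mk_iff_isConj]
        exact ⟨IsConj.symm, IsConj.symm⟩
      rw [show Nat.card {y : G // IsConj x y} = Nat.card ↥({y : G | IsConj x y}) from rfl, h1,
        ← ConjAct.orbit_eq_carrier_conjClasses, Nat.card_coe_set_eq, ← MulAction.index_stabilizer,
        ConjAct.stabilizer_eq_centralizer]
      rfl
    rw [e, ← hcent, mul_comm, card_mul_index]
  obtain ⟨t, ht⟩ : ∃ t, t = Nat.card {c : ConjClasses G // ∃ g : G, ConjClasses.mk g = c ∧ orderOf g = p} :=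
    ⟨_, rfl⟩
  have hclass : Nat.card {x : G // orderOf x = p} * p = t * Nat.card G := by
    have e : {x : G // orderOf x = p} ≃ Σ c : {c : ConjClasses G // ∃ g : G, ConjClasses.mk g = c ∧ orderOf g = p},
        {x : G // ConjClasses.mk x = c.1} :=
      { toFun := fun x => ⟨⟨ConjClasses.mk x.1, x.1, rfl, x.2⟩, x.1, rfl⟩
        invFun := fun a => ⟨a.2.1, by
          obtain ⟨g, hg, hgo⟩ := a.1.2
          obtain ⟨c, hc⟩ := isConj_iff.mp (ConjClasses.mk_eq_mk_iff_isConj.mp (hg.trans a.2.2.symm))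
          rw [← hc, ← hgo]
          exact orderOf_eq_orderOf_iff.mpr fun n => by rw [conj_pow, conj_eq_one_iff]⟩
        left_inv := fun x => rfl
        right_inv := fun ⟨⟨c, hc⟩, ⟨x, hx⟩⟩ => by
          dsimp only at hx
          cases hx
          rfl }
    have := Fintype.ofFinite {c : ConjClasses G // ∃ g : G, ConjClasses.mk g = c ∧ orderOf g = p}
    rw [Nat.card_congr e, Nat.card_sigma, Finset.sum_mul, ht, Nat.card_eq_fintype_card]
    have hterm : ∀ c : {c : ConjClasses G // ∃ g : G, ConjClasses.mk g = c ∧ orderOf g = p},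
        Nat.card {x : G // ConjClasses.mk x = c.1} * p = Nat.card G := by
      rintro ⟨_, g, rfl, hgo⟩
      rw [← hcl g hgo]
      congr 1
      exact Nat.card_congr (Equiv.subtypeEquivRight fun y => by
        rw [ConjClasses.mk_eq_mk_iff_isConj]; exact ⟨IsConj.symm, IsConj.symm⟩)
    simp [hterm, Nat.card_eq_fintype_card]
  rw [hcount] at hclass
  refine ⟨Nat.card (Sylow p G) / p, t, ht, ?_, ?_, ?_⟩
  · have h1 := (normalizer ((P : Subgroup G) : Set G)).card_mul_index
    rw [show (normalizer ((P : Subgroup G) : Set G)).index = Nat.card (Sylow p G) from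
      (Sylow.card_eq_index_normalizer P).symm] at h1
    obtain ⟨k, hk⟩ := card_dvd_of_le (le_normalizer (H := (P : Subgroup G)))
    rw [hPc] at hk
    rw [hk] at h1
    rw [← h1] at hclass
    refine ⟨k, Nat.eq_of_mul_eq_mul_left (Nat.mul_pos (Nat.card_pos (α := Sylow p G)) hp.pos) ?_⟩
    linear_combination hclass
  · have := (card_sylow_cases P).2
    have := Nat.div_add_mod (Nat.card (Sylow p G)) p
    rw [mul_comm]; omega
  · have h1 : Nat.card (Sylow p G) = 1 + Nat.card (Sylow p G) / p * p := by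
      have := (card_sylow_cases P).2
      have := Nat.div_add_mod (Nat.card (Sylow p G)) p
      rw [mul_comm]; omega
    rw [← h1]
    linear_combination -hclass

/-- Maximal intersections of Sylow subgroups. -/
theorem maximal_inter [Finite G] (p : ℕ) [Fact p.Prime] (P Q : Sylow p G) (hPQ : P ≠ Q)
    (hmax : ∀ P' Q' : Sylow p G, P' ≠ Q' → Nat.card ↥((P' : Subgroup G) ⊓ (Q' : Subgroup G)) ≤
      Nat.card ↥((P : Subgroup G) ⊓ (Q : Subgroup G))) (D : Subgroup G) (N : Subgroup G)
    (hD : D = (P : Subgroup G) ⊓ (Q : Subgroup G)) (hN : N = normalizer (D : Set G)) :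
    1 < Nat.card (Sylow p N) ∧
    (∀ S T : Sylow p N, S ≠ T → (S : Subgroup N) ⊓ (T : Subgroup N) = D.subgroupOf N) ∧
    ∀ S : Sylow p N, ∃! T : Sylow p G, (S : Subgroup N).map N.subtype ≤ (T : Subgroup G) := by
  classical
  rw [← hD] at hmax
  have hne : ∀ R R' : Sylow p G, (R : Subgroup G) ≤ (R' : Subgroup G) → R = R' := fun R R' h =>
    Sylow.ext (R.3 R'.2 h).symm
  have hlt : ∀ R : Sylow p G, D ≤ (R : Subgroup G) → D ≠ (R : Subgroup G) →
      D < (R : Subgroup G) ⊓ N := by
    intro R hle hne'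
    have hlt' : D.subgroupOf (R : Subgroup G) < ⊤ := lt_top_iff_ne_top.mpr fun h =>
      hne' (le_antisymm hle (subgroupOf_eq_top.mp h))
    have := (R.2.isNilpotent)
    have hn := normalizerCondition_of_isNilpotent _ hlt'
    obtain ⟨y, hy, hyD⟩ := SetLike.exists_of_lt hn
    refine lt_of_le_of_ne (le_inf hle (hN ▸ le_normalizer)) fun h => hyD ?_
    rw [mem_subgroupOf, h]
    refine ⟨y.2, ?_⟩
    rw [hN]
    refine mem_normalizer_fintype fun d hd => ?_
    exact (mem_normalizer_iff.mp hy ⟨d, hle hd⟩).mp hd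
  have hDP : D ≠ (P : Subgroup G) := fun h => hPQ (hne P Q (h ▸ hD ▸ inf_le_right))
  have hDQ : D ≠ (Q : Subgroup G) := fun h => hPQ (hne Q P (h ▸ hD ▸ inf_le_left)).symm
  have hDn : (D.subgroupOf N).Normal := by
    subst hN
    exact normal_in_normalizer
  have hDp : IsPGroup p (D.subgroupOf N) :=
    IsPGroup.of_equiv (P.2.to_le (hD ▸ inf_le_left)) (subgroupOfEquivOfLe (hN ▸ le_normalizer)).symm
  have hDS : ∀ S : Sylow p N, D.subgroupOf N ≤ (S : Subgroup N) := fun S =>
    le_sup_left.trans (S.3 (hDp.to_sup_of_normal_left S.2) le_sup_right).le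
  have hbig : ∀ S : Sylow p N, Nat.card D < Nat.card (S : Subgroup N) := by
    intro S
    obtain ⟨S', hS'⟩ := (IsPGroup.of_equiv (P.2.to_le inf_le_left : IsPGroup p ↥((P : Subgroup G) ⊓ N))
      (subgroupOfEquivOfLe inf_le_right).symm).exists_le_sylow
    have h1 := card_dvd_of_le hS'
    rw [Nat.card_congr (subgroupOfEquivOfLe inf_le_right).toEquiv,
      Nat.card_congr (Sylow.equiv S' S).toEquiv] at h1
    have h2 := hlt P (hD ▸ inf_le_left) hDP
    refine lt_of_lt_of_le ?_ (Nat.le_of_dvd Nat.card_pos h1)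
    exact lt_of_le_of_ne (card_le_of_le h2.le) fun h => h2.ne (eq_of_le_of_card_ge h2.le h.ge)
  have huniq : ∀ S : Sylow p N, ∀ T T' : Sylow p G, (S : Subgroup N).map N.subtype ≤ (T : Subgroup G) →
      (S : Subgroup N).map N.subtype ≤ (T' : Subgroup G) → T = T' := by
    intro S T T' h h'
    by_contra hne'
    have h1 := card_le_of_le (le_inf h h')
    rw [card_map_of_injective N.subtype_injective] at h1
    have := hmax T T' hne'
    have := hbig S
    omega
  have hex : ∀ S : Sylow p N, ∃ T : Sylow p G, (S : Subgroup N).map N.subtype ≤ (T : Subgroup G) :=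
    fun S => (S.2.map N.subtype).exists_le_sylow
  refine ⟨?_, fun S T hST => ?_, fun S => ?_⟩
  · rw [Finite.one_lt_card_iff_nontrivial]
    by_contra hsub
    rw [not_nontrivial_iff_subsingleton] at hsub
    obtain ⟨S⟩ : Nonempty (Sylow p N) := inferInstance
    obtain ⟨T, hT⟩ := hex S
    have key : ∀ R : Sylow p G, D ≤ (R : Subgroup G) → D ≠ (R : Subgroup G) → T = R := by
      intro R hle hne'
      by_contra hTR
      obtain ⟨S', hS'⟩ := (IsPGroup.of_equiv (R.2.to_le inf_le_left : IsPGroup p ↥((R : Subgroup G) ⊓ N))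
        (subgroupOfEquivOfLe inf_le_right).symm).exists_le_sylow
      rw [Subsingleton.elim S' S] at hS'
      have hsub' : (R : Subgroup G) ⊓ N ≤ (T : Subgroup G) ⊓ R := fun x hx =>
        ⟨hT ⟨⟨x, hx.2⟩, hS' hx, rfl⟩, hx.1⟩
      have h1 := card_le_of_le hsub'
      have h2 := hmax T R hTR
      have h3 := hlt R hle hne'
      exact h3.ne (eq_of_le_of_card_ge h3.le (h1.trans h2))
    exact hPQ ((key P (hD ▸ inf_le_left) hDP).symm.trans (key Q (hD ▸ inf_le_right) hDQ))
  · obtain ⟨R, hR⟩ := hex S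
    obtain ⟨R', hR'⟩ := hex T
    have hne' : R ≠ R' := by
      rintro rfl
      apply hST
      have hp' : IsPGroup p ↥((R : Subgroup G).subgroupOf N) :=
        IsPGroup.of_equiv (R.2.to_le inf_le_left : IsPGroup p ↥((R : Subgroup G) ⊓ N))
          ((MulEquiv.subgroupCongr rfl).trans (subgroupOfEquivOfLe inf_le_right).symm |>.trans
            (MulEquiv.subgroupCongr (by rw [inf_comm, inf_subgroupOf_left])))
      have e1 := S.3 hp' (fun x hx => hR ⟨x, hx, rfl⟩)
      have e2 := T.3 hp' (fun x hx => hR' ⟨x, hx, rfl⟩)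
      exact Sylow.ext (e1.symm.trans e2)
    refine (eq_of_le_of_card_ge (le_inf (hDS S) (hDS T)) ?_).symm
    rw [Nat.card_congr (subgroupOfEquivOfLe (hN ▸ le_normalizer : D ≤ N)).toEquiv,
      ← card_map_of_injective N.subtype_injective]
    refine (card_le_of_le ?_).trans (hmax R R' hne')
    rintro _ ⟨x, hx, rfl⟩
    exact ⟨hR ⟨x, hx.1, rfl⟩, hR' ⟨x, hx.2, rfl⟩⟩
  · obtain ⟨T, hT⟩ := hex S
    exact ⟨T, hT, fun T' hT' => huniq S T' T hT' hT⟩

/-- The normaliser of an odd Sylow subgroup of the symmetric group. -/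
theorem alt_normalizer {α : Type*} [Fintype α] [DecidableEq α] (hα : 2 ≤ Fintype.card α) (p : ℕ)
    [Fact p.Prime] (hp : p ≠ 2) (P : Sylow p (Equiv.Perm α)) :
    (P : Subgroup (Equiv.Perm α)) ≤ alternatingGroup α ∧
    2 * Nat.card ↥(normalizer ((((P : Subgroup (Equiv.Perm α)).subgroupOf (alternatingGroup α) :
        Subgroup ↥(alternatingGroup α)) : Set ↥(alternatingGroup α)))) =
      Nat.card ↥(normalizer ((P : Subgroup (Equiv.Perm α)) : Set (Equiv.Perm α))) := by
  have : Nontrivial α := Fintype.one_lt_card_iff_nontrivial.mp (by omega)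
  have hle : (P : Subgroup (Equiv.Perm α)) ≤ alternatingGroup α := by
    intro x hx
    rw [Equiv.Perm.mem_alternatingGroup]
    obtain ⟨k, hk⟩ := P.2 ⟨x, hx⟩
    have h1 : Equiv.Perm.sign x ^ p ^ k = 1 := by
      rw [← map_pow, show x ^ p ^ k = 1 from congrArg Subtype.val hk, map_one]
    have hodd : Odd (p ^ k) := ((Fact.out : p.Prime).odd_of_ne_two hp).pow
    rcases Int.units_eq_one_or (Equiv.Perm.sign x) with h | h
    · exact h
    · rw [h, hodd.neg_one_pow] at h1; exact absurd h1 (by decide)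
  refine ⟨hle, ?_⟩
  obtain ⟨N, hN⟩ : ∃ N, N = normalizer ((P : Subgroup (Equiv.Perm α)) : Set (Equiv.Perm α)) := ⟨_, rfl⟩
  rw [← subgroupOf_normalizer_eq hle, ← hN]
  have htop : N ⊔ alternatingGroup α = ⊤ := by
    have h := Sylow.normalizer_sup_eq_top (P.subtype hle)
    rw [Sylow.coe_subtype, subgroupOf_map_subtype, inf_eq_left.mpr hle] at h
    rw [hN]
    exact h
  have hidx : (alternatingGroup α).relIndex N = 2 := by
    have h := relIndex_sup_left (H := N) (K := alternatingGroup α)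
    rw [sup_comm, htop, relIndex_top_right] at h
    rw [← h]
    exact alternatingGroup.index_eq_two
  have hc := ((alternatingGroup α).subgroupOf N).card_mul_index
  rw [← hc, show ((alternatingGroup α).subgroupOf N).index = 2 from hidx, mul_comm]
  congr 1
  exact Nat.card_congr
    { toFun := fun x => ⟨⟨x.1.1, x.2⟩, x.1.2⟩
      invFun := fun x => ⟨⟨x.1.1, x.2⟩, x.1.2⟩
      left_inv := fun x => rfl
      right_inv := fun x => rfl }

end Cfsg.Agent.Small.SylowTricks
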