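import Mathlib
import Cfsg.Agent.Lib.Small.SylowTricks

/-!
Sylow subgroups of prime order and abelian ones in symmetric groups; small `2`-parts in simple groups.
-/

set_option autoImplicit false

namespace Cfsg.Agent.Small.SymSylow

open Subgroup Pointwise

theorem card_order_p {G : Type*} [Group G] [Finite G] (p : ℕ) [Fact p.Prime] (P : Sylow p G)
    (hP : Nat.card (P : Subgroup G) = p) :
    Nat.card {x : G // orderOf x = p} = Nat.card (Sylow p G) * (p - 1) := by
  have hp : p.Prime := Fact.out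
  have := Fintype.ofFinite (Sylow p G)
  have hPc : ∀ S : Sylow p G, Nat.card (S : Subgroup G) = p := fun S => by
    rw [Nat.card_congr (Sylow.equiv S P).toEquiv, hP]
  have hgen : ∀ (S : Sylow p G) (x : G), x ∈ (S : Subgroup G) → x ≠ 1 →
      orderOf x = p ∧ zpowers x = (S : Subgroup G) := by
    intro S x hx h1
    have h2 : orderOf x = p := by
      have := orderOf_dvd_natCard _ hx
      rw [hPc] at this
      exact (hp.eq_one_or_self_of_dvd _ this).resolve_left fun h => h1 (orderOf_eq_one_iff.mp h)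
    exact ⟨h2, eq_of_le_of_card_ge (zpowers_le.mpr hx) (by rw [hPc, Nat.card_zpowers, h2])⟩
  let e : (Σ T : Sylow p G, {x : (T : Subgroup G) // x ≠ 1}) → {x : G // orderOf x = p} :=
    fun a => ⟨a.2.1.1, (hgen a.1 _ a.2.1.2 fun h => a.2.2 (Subtype.ext h)).1⟩
  have he : Function.Bijective e := by
    constructor
    · rintro ⟨T, ⟨⟨x, hx⟩, hx1⟩⟩ ⟨T', ⟨⟨y, hy⟩, hy1⟩⟩ h
      obtain rfl : x = y := congrArg Subtype.val h
      obtain rfl : T = T' := Sylow.ext (((hgen T x hx fun h => hx1 (Subtype.ext h)).2.symm.trans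
        (hgen T' x hy fun h => hy1 (Subtype.ext h)).2))
      rfl
    · rintro ⟨x, hx⟩
      obtain ⟨S, hS⟩ := (IsPGroup.of_card (n := 1) (by rw [Nat.card_zpowers, hx, pow_one]) :
        IsPGroup p (zpowers x)).exists_le_sylow
      refine ⟨⟨S, ⟨x, hS (mem_zpowers x)⟩, fun h => ?_⟩, rfl⟩
      rw [show x = 1 from congrArg Subtype.val h, orderOf_one] at hx
      exact hp.one_lt.ne hx
  rw [← Nat.card_congr (Equiv.ofBijective e he), Nat.card_sigma]
  have : ∀ T : Sylow p G, Nat.card {x : (T : Subgroup G) // x ≠ 1} = p - 1 := fun T => by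
    classical
    have := Fintype.ofFinite (T : Subgroup G)
    rw [Nat.card_eq_fintype_card, Fintype.card_subtype_compl, Fintype.card_subtype_eq,
      ← Nat.card_eq_fintype_card, hPc]
  simp [this, Finset.sum_const, Nat.card_eq_fintype_card]

theorem card_normalizer_prime_degree {α : Type*} [Fintype α] [DecidableEq α] (p : ℕ) [Fact p.Prime]
    (hα : Fintype.card α = p ∨ Fintype.card α = p + 1) (P : Sylow p (Equiv.Perm α)) :
    Nat.card ↥(normalizer ((P : Subgroup (Equiv.Perm α)) : Set (Equiv.Perm α))) = p * (p - 1) := by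
  have hp : p.Prime := Fact.out
  have h2 := hp.two_le
  obtain ⟨n, hn⟩ : ∃ n, n = Fintype.card α := ⟨_, rfl⟩
  have hpn : p ≤ n ∧ n < 2 * p ∧ n - p ≤ 1 := by omega
  have hG : Nat.card (Equiv.Perm α) = n.factorial := by rw [Nat.card_perm, Nat.card_eq_fintype_card, hn]
  obtain ⟨m, hm, hpm⟩ : ∃ m, n.factorial = p ^ 1 * m ∧ ¬ p ∣ m := by
    have hd : ¬ p ∣ (p - 1).factorial := fun h => by have := hp.dvd_factorial.mp h; omega
    have hpf : p.factorial = p * (p - 1).factorial := by
      conv_lhs => rw [show p = (p - 1) + 1 by omega, Nat.factorial_succ]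
      rw [show p - 1 + 1 = p by omega]
    rcases hα with h | h <;> rw [← hn] at h <;> subst h
    · exact ⟨_, by rw [hpf, pow_one], hd⟩
    · refine ⟨(p + 1) * (p - 1).factorial, by rw [Nat.factorial_succ, hpf, pow_one]; ring, fun h' => ?_⟩
      rcases hp.dvd_mul.mp h' with h' | h'
      · have := Nat.le_of_dvd one_pos ((Nat.dvd_add_right (dvd_refl p)).mp h')
        omega
      · exact hd h'
  have hP : Nat.card (P : Subgroup (Equiv.Perm α)) = p := by
    simpa using SylowTricks.sylow_card (a := 1) (hG.trans hm) hpm P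
  have hcount := card_order_p p P hP
  have hord : ∀ g : Equiv.Perm α, orderOf g = p ↔ g.cycleType = {p} := by
    intro g
    constructor
    · intro hg
      obtain ⟨k, hk⟩ := Equiv.Perm.cycleType_prime_order (hg.symm ▸ hp : (orderOf g).Prime)
      rw [hg] at hk
      have hsum := Equiv.Perm.sum_cycleType_le g
      rw [hk, Multiset.sum_replicate, smul_eq_mul, ← hn] at hsum
      obtain rfl : k = 0 := by
        by_contra h
        have : 2 * p ≤ (k + 1) * p := Nat.mul_le_mul_right p (by omega)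
        omega
      rw [hk]
      rfl
    · intro hg
      rw [← Equiv.Perm.lcm_cycleType, hg, Multiset.lcm_singleton, normalize_eq]
  rw [Nat.card_congr (Equiv.subtypeEquivRight hord), Nat.card_eq_fintype_card, Fintype.card_subtype,
    Equiv.Perm.card_of_cycleType, if_pos (by simp; omega), ← hn] at hcount
  simp only [Multiset.sum_singleton, Multiset.prod_singleton, Multiset.toFinset_singleton,
    Finset.prod_singleton, Multiset.count_singleton_self, Nat.factorial_one, mul_one] at hcount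
  rw [Nat.factorial_eq_one.mpr hpn.2.2, one_mul, hm, pow_one, Nat.mul_div_cancel_left _ hp.pos] at hcount
  have h1 := (normalizer ((P : Subgroup (Equiv.Perm α)) : Set (Equiv.Perm α))).card_mul_index
  rw [show (normalizer ((P : Subgroup (Equiv.Perm α)) : Set (Equiv.Perm α))).index =
      Nat.card (Sylow p (Equiv.Perm α)) from (Sylow.card_eq_index_normalizer P).symm, hG, hm, pow_one,
    hcount] at h1
  exact Nat.eq_of_mul_eq_mul_right (Nat.card_pos (α := Sylow p (Equiv.Perm α)))
    (h1.trans (by ring))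

theorem abelian_sylow_fusion_even {n : ℕ} {p : ℕ} [Fact p.Prime] (hp : p ≠ 2) (hpn : p ≤ n)
    (P : Sylow p (Equiv.Perm (Fin n))) (hP : IsMulCommutative (P : Subgroup (Equiv.Perm (Fin n)))) :
    2 ∣ ((centralizer ((P : Subgroup (Equiv.Perm (Fin n))) : Set (Equiv.Perm (Fin n)))).subgroupOf
      (normalizer ((P : Subgroup (Equiv.Perm (Fin n))) : Set (Equiv.Perm (Fin n))))).index := by
  classical
  have hpp : p.Prime := Fact.out
  have hne : (P : Subgroup (Equiv.Perm (Fin n))) ≠ ⊥ := P.ne_bot_of_dvd_card (by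
    rw [Nat.card_perm, Nat.card_eq_fintype_card, Fintype.card_fin]
    exact Nat.dvd_factorial hpp.pos hpn)
  obtain ⟨x, hx, hx1⟩ := (bot_or_exists_ne_one _).resolve_left hne
  obtain ⟨c, hc⟩ := isConj_iff.mp (Equiv.Perm.isConj_iff_cycleType_eq.mpr (Equiv.Perm.cycleType_inv x))
  obtain ⟨g, hg, hgx⟩ := P.conj_eq_normalizer_conj_of_mem x⁻¹ c⁻¹ (inv_mem hx)
    (by rw [inv_inv, hc]; exact hx)
  rw [inv_inv, hc] at hgx
  obtain ⟨N, hN⟩ : ∃ N, N = normalizer ((P : Subgroup (Equiv.Perm (Fin n))) : Set (Equiv.Perm (Fin n))) :=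
    ⟨_, rfl⟩
  obtain ⟨C, hC⟩ : ∃ C, C = centralizer ((P : Subgroup (Equiv.Perm (Fin n))) : Set (Equiv.Perm (Fin n))) :=
    ⟨_, rfl⟩
  rw [← hN, ← hC]
  have hgN : g ∈ N := hN ▸ hg
  have hnorm : (C.subgroupOf N).Normal := by
    subst hN hC
    exact ⟨fun z hz w => by
      rw [mem_subgroupOf, mem_centralizer_iff] at hz ⊢
      intro y hy
      have hy' := (mem_normalizer_iff''.mp w.2 y).mp hy
      have h := hz _ hy'
      simp only [coe_mul, coe_inv]
      calc y * (w.1 * z.1 * w.1⁻¹) = w.1 * ((w.1⁻¹ * y * w.1) * z.1) * w.1⁻¹ := by group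
        _ = w.1 * (z.1 * (w.1⁻¹ * y * w.1)) * w.1⁻¹ := by rw [h]
        _ = w.1 * z.1 * w.1⁻¹ * y := by group⟩
  obtain ⟨o, ho⟩ : ∃ o, o = orderOf (QuotientGroup.mk' (C.subgroupOf N) ⟨g, hgN⟩) := ⟨_, rfl⟩
  have hdvd : o ∣ (C.subgroupOf N).index := by rw [ho, index_eq_card]; exact orderOf_dvd_natCard _
  refine dvd_trans ?_ hdvd
  by_contra hodd
  have hmem : (⟨g, hgN⟩ : N) ^ o ∈ C.subgroupOf N := by
    rw [← QuotientGroup.eq_one_iff, QuotientGroup.mk_pow, ho]
    exact pow_orderOf_eq_one _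
  have hgm : g ^ o ∈ C := by simpa [mem_subgroupOf] using hmem
  have key : ∀ k : ℕ, g ^ k * x * (g ^ k)⁻¹ = if k % 2 = 0 then x else x⁻¹ := by
    have h1 : g * x * g⁻¹ = x⁻¹ := by
      calc g * x * g⁻¹ = g * (g⁻¹ * x⁻¹ * g) * g⁻¹ := by rw [← hgx]
        _ = x⁻¹ := by group
    have h2 : g * x⁻¹ * g⁻¹ = x := by
      rw [show g * x⁻¹ * g⁻¹ = (g * x * g⁻¹)⁻¹ by group, h1, inv_inv]
    intro k
    induction k with
    | zero => simp
    | succ k ih =>
      rw [pow_succ', show g * g ^ k * x * (g * g ^ k)⁻¹ = g * (g ^ k * x * (g ^ k)⁻¹) * g⁻¹ by group, ih]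
      rcases Nat.mod_two_eq_zero_or_one k with h | h
      · rw [if_pos h, if_neg (by omega), h1]
      · rw [if_neg (by omega), if_pos (by omega), h2]
  have h1 := key o
  rw [hC, mem_centralizer_iff] at hgm
  rw [← hgm x hx, mul_inv_cancel_right, if_neg (by omega)] at h1
  have hxx : x ^ 2 = 1 := by rw [pow_two]; exact mul_eq_one_iff_eq_inv.mpr h1
  have h3 : orderOf x ∣ 2 := orderOf_dvd_of_pow_eq_one hxx
  obtain ⟨k, hk⟩ := P.2 ⟨x, hx⟩
  have h4 : orderOf x ∣ p ^ k := orderOf_dvd_of_pow_eq_one (congrArg Subtype.val hk)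
  have h5 := Nat.dvd_gcd h3 h4
  rw [Nat.Coprime.gcd_eq_one (((Nat.coprime_primes Nat.prime_two hpp).mpr (Ne.symm hp)).pow_right k),
    Nat.dvd_one, orderOf_eq_one_iff] at h5
  exact hx1 h5

theorem klein_sylow {G : Type*} [Group G] [Finite G] [IsSimpleGroup G] (hG : ¬ IsMulCommutative G)
    (h2 : Even (Nat.card G)) (h8 : ¬ 8 ∣ Nat.card G) (T : Sylow 2 G) :
    IsKleinFour ↥(T : Subgroup G) ∧
      (centralizer ((T : Subgroup G) : Set G)).relIndex (normalizer ((T : Subgroup G) : Set G)) = 3 := by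
  classical
  obtain ⟨k, hk⟩ := IsPGroup.iff_card.mp T.2
  have hTd : Nat.card T ∣ Nat.card G := Subgroup.card_subgroup_dvd_card _
  have hk1 : k ≠ 0 := fun h => T.ne_bot_of_dvd_card h2.two_dvd (card_eq_one.mp (by rw [hk, h, pow_zero]))
  have hk2 : k ≤ 2 := by
    by_contra h
    exact h8 (dvd_trans (pow_dvd_pow 2 (by omega : 3 ≤ k)) (hk ▸ hTd))
  have hno : ¬ normalizer ((T : Subgroup G) : Set G) ≤ centralizer ((T : Subgroup G) : Set G) := by
    intro hle
    have hK := MonoidHom.ker_transferSylow_isComplement' T hle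
    rcases IsSimpleGroup.eq_bot_or_eq_top_of_normal _ (inferInstance :
      (MonoidHom.transferSylow T hle).ker.Normal) with h | h
    · rw [h, isComplement'_bot_left] at hK
      refine hG ⟨⟨fun a b => ?_⟩⟩
      have hm : ∀ g : G, g ∈ (T : Subgroup G) := fun g => hK ▸ mem_top g
      have := (mem_centralizer_iff.mp (hle (le_normalizer (hm b))) a (hm a))
      exact this
    · rw [h, isComplement'_top_left] at hK
      exact T.ne_bot_of_dvd_card h2.two_dvd hK
  have hnc : ¬ IsCyclic (T : Subgroup G) := fun h => hno (by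
    refine h.normalizer_le_centralizer ?_
    rw [Nat.minFac_eq_two_iff]
    exact h2.two_dvd)
  have hk' : k = 2 := by
    by_contra h
    exact hnc (isCyclic_of_prime_card (p := 2) (by rw [hk, show k = 1 by omega, pow_one]))
  subst hk'
  have hT4 : Nat.card (T : Subgroup G) = 4 := hk
  have hexp : ∀ t : (T : Subgroup G), t ^ 2 = 1 := by
    intro t
    have hd := orderOf_dvd_natCard t
    rw [hT4] at hd
    obtain ⟨i, hi, hi'⟩ := (Nat.dvd_prime_pow (m := 2) Nat.prime_two).mp hd
    rcases (show i = 0 ∨ i = 1 ∨ i = 2 by omega) with rfl | rfl | rfl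
    · rw [orderOf_eq_one_iff.mp hi', one_pow]
    · exact orderOf_dvd_iff_pow_eq_one.mp (by rw [hi', pow_one])
    · exact absurd (isCyclic_of_orderOf_eq_card t (by rw [hi', hT4]; norm_num)) hnc
  have : IsKleinFour (T : Subgroup G) :=
    { card_four := hT4
      exponent_two := by
        refine ((Nat.dvd_prime Nat.prime_two).mp (Monoid.exponent_dvd_of_forall_pow_eq_one hexp)).resolve_left fun h => ?_
        rw [Monoid.exp_eq_one_iff] at h
        rw [Nat.card_unique] at hT4
        omega }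
  refine ⟨this, ?_⟩
  obtain ⟨N, hN⟩ : ∃ N, N = normalizer ((T : Subgroup G) : Set G) := ⟨_, rfl⟩
  obtain ⟨C, hC⟩ : ∃ C, C = centralizer ((T : Subgroup G) : Set G) := ⟨_, rfl⟩
  rw [← hN, ← hC] at hno ⊢
  have hne1 : C.relIndex N ≠ 1 := fun h => hno (relIndex_eq_one.mp h)
  have hTC : (T : Subgroup G) ≤ C := by
    rw [hC]
    refine le_centralizer_iff_isMulCommutative.mpr ⟨⟨fun a b => ?_⟩⟩
    have hinv : ∀ c : (T : Subgroup G), c⁻¹ = c := fun c => inv_eq_of_mul_eq_one_left (by rw [← pow_two, hexp])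
    rw [← hinv (a * b), mul_inv_rev, hinv a, hinv b]
  have hodd : ¬ 2 ∣ C.relIndex N := by
    intro h
    have h1 : C.relIndex N ∣ (T : Subgroup G).relIndex N := relIndex_dvd_of_le_left N hTC
    have h2 : (T : Subgroup G).relIndex N ∣ (T : Subgroup G).index :=
      relIndex_dvd_index_of_le (hN ▸ le_normalizer)
    exact T.not_dvd_index ((h.trans h1).trans h2)
  let S := {t : (T : Subgroup G) // t ≠ 1}
  let f : N →* Equiv.Perm S :=
    { toFun := fun g =>
        { toFun := fun t => ⟨⟨g.1 * t.1.1 * g.1⁻¹,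
            (mem_normalizer_iff.mp (hN ▸ g.2 : g.1 ∈ normalizer ((T : Subgroup G) : Set G)) _).mp t.1.2⟩,
              fun h => t.2 (Subtype.ext (conj_eq_one_iff.mp (congrArg Subtype.val h)))⟩
          invFun := fun t => ⟨⟨g.1⁻¹ * t.1.1 * g.1,
            (mem_normalizer_iff''.mp (hN ▸ g.2 : g.1 ∈ normalizer ((T : Subgroup G) : Set G)) _).mp t.1.2⟩,
              fun h => t.2 (Subtype.ext (conj_eq_one_iff.mp
                (show g.1⁻¹ * t.1.1 * (g.1⁻¹)⁻¹ = 1 by simpa using congrArg Subtype.val h)))⟩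
          left_inv := fun t => Subtype.ext (Subtype.ext (by group))
          right_inv := fun t => Subtype.ext (Subtype.ext (by group)) }
      map_one' := Equiv.ext fun t => Subtype.ext (Subtype.ext (by simp))
      map_mul' := fun a b => Equiv.ext fun t => Subtype.ext (Subtype.ext (by simp [mul_assoc])) }
  have hker : f.ker = C.subgroupOf N := by
    ext g
    rw [MonoidHom.mem_ker, mem_subgroupOf, hC, mem_centralizer_iff]
    constructor
    · intro h y hy
      by_cases hy1 : y = 1
      · simp [hy1]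
      have h' := congrArg (fun e : Equiv.Perm S => (e ⟨⟨y, hy⟩, fun e => hy1 (congrArg Subtype.val e)⟩).1.1) h
      have h'' : g.1 * y * g.1⁻¹ = y := h'
      exact (mul_inv_eq_iff_eq_mul.mp h'').symm
    · intro h
      refine Equiv.ext fun t => Subtype.ext (Subtype.ext ?_)
      show g.1 * t.1.1 * g.1⁻¹ = t.1.1
      rw [← h t.1.1 t.1.2, mul_inv_cancel_right]
  have h6 : C.relIndex N ∣ 6 := by
    rw [relIndex, ← hker, index_ker]
    refine (card_subgroup_dvd_card _).trans ?_
    have := Fintype.ofFinite (T : Subgroup G)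
    rw [Nat.card_perm, Nat.card_eq_fintype_card, Fintype.card_subtype_compl, Fintype.card_subtype_eq,
      ← Nat.card_eq_fintype_card, hT4]
    rfl
  have := Nat.le_of_dvd (by norm_num) h6
  interval_cases h : C.relIndex N <;> omega

end Cfsg.Agent.Small.SymSylow
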