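import Cfsg.Agent.Lib.Small.Order168
import Cfsg.Agent.Lib.Small.SL2.Classes
import Mathlib.LinearAlgebra.Matrix.ProjectiveSpecialLinearGroup

/-!
# The simple groups of order 168 are isomorphic
-/

set_option autoImplicit false
set_option linter.unusedSectionVars false

namespace Cfsg.Agent.Small.Order168Iso

open Subgroup Cfsg.Agent.Small.Order168
open scoped Pointwise

abbrev Pt := Option (ZMod 7)

/-- Translation. -/
def X : Equiv.Perm Pt where
  toFun := Option.map (· + 1)
  invFun := Option.map (· - 1)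
  left_inv := by decide
  right_inv := by decide

/-- Multiplication by two. -/
def Y : Equiv.Perm Pt where
  toFun := Option.map (2 * ·)
  invFun := Option.map (4 * ·)
  left_inv := by decide
  right_inv := by decide

/-- `i ↦ -1/i`. -/
def tFun : Pt → Pt
  | none => some 0
  | some i => if i = 0 then none else some (6 * i ^ 5)

/-- Inversion. -/
def T : Equiv.Perm Pt where
  toFun := tFun
  invFun := tFun
  left_inv := by decide
  right_inv := by decide

theorem m24 : (2 : ZMod 7) * 4 = 1 := by decide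
theorem m22 : (2 : ZMod 7) * 2 = 4 := by decide
theorem m44 : (4 : ZMod 7) * 4 = 2 := by decide
theorem m01 : (0 : ZMod 7) ≠ 1 := by decide
theorem cCases : ∀ c : ZMod 7, c ≠ 0 → c ≠ 1 → c ≠ 2 → c ≠ 4 → c = 3 ∨ c = 5 ∨ c = 6 := by decide
theorem seven : ∀ i : ZMod 7, i = 0 ∨ i = 1 ∨ i = 2 ∨ i = 3 ∨ i = 4 ∨ i = 5 ∨ i = 6 := by decide
theorem X_ne : X ≠ 1 := fun e => absurd (Equiv.ext_iff.1 e (some 0)) (by decide)

variable {G : Type*} [Group G] [Finite G] [IsSimpleGroup G] (h : Nat.card G = 168)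
include h

theorem exists_model :
    ∃ φ : G →* Equiv.Perm Pt, Function.Injective φ ∧ φ.range = closure {X, Y, T} := by
  classical
  haveI : Fact (Nat.Prime 7) := ⟨by norm_num⟩
  haveI : Fact (Nat.Prime 3) := ⟨Nat.prime_three⟩
  obtain ⟨x, hx⟩ := exists_prime_orderOf_dvd_card' (G := G) 7 (by rw [h]; norm_num)
  obtain ⟨P₀, hP₀⟩ := exists_sylow_zpowers hx (card_P7 h)
  have hxN : x ∈ normalizer ((P₀ : Subgroup G) : Set G) := le_normalizer (hP₀ ▸ mem_zpowers x)
  -- an element of order three acting on x by squaring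
  obtain ⟨y, hy, hyx⟩ : ∃ y : G, orderOf y = 3 ∧ y * x * y⁻¹ = x ^ 2 := by
    obtain ⟨⟨y, hyN⟩, hy⟩ := exists_prime_orderOf_dvd_card' (G := normalizer ((P₀ : Subgroup G) : Set G)) 3
      (by rw [card_N7 h P₀]; norm_num)
    rw [orderOf_mk] at hy
    have hm : y * x * y⁻¹ ∈ (P₀ : Subgroup G) := (mem_normalizer_iff.1 hyN x).1 (hP₀ ▸ mem_zpowers x)
    rw [hP₀] at hm
    clear hxN
    obtain ⟨k, hk⟩ := ((isOfFinOrder_of_finite x).mem_zpowers_iff_mem_range_orderOf.1 hm) |>
      Finset.mem_image.1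
    obtain ⟨hk7, hk⟩ := hk
    rw [Finset.mem_range, hx] at hk7
    have hn : ∀ n : ℕ, y * x ^ n * y⁻¹ = x ^ (k * n) := fun n => by rw [← conj_pow, ← hk, ← pow_mul]
    have hy3 : y ^ 3 = 1 := hy ▸ pow_orderOf_eq_one y
    have h3 : x ^ (k * (k * k)) = x := by
      rw [← hn, ← hn, hk]
      calc y * (y * (y * x * y⁻¹) * y⁻¹) * y⁻¹ = y ^ 3 * x * (y ^ 3)⁻¹ := by
            simp only [pow_succ, pow_zero, one_mul, _root_.mul_inv_rev, mul_assoc]
        _ = x := by rw [hy3, one_mul, inv_one, mul_one]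
    have h3' : (k * (k * k)) % 7 = 1 := by
      have e := pow_mod_orderOf x (k * (k * k))
      rw [h3, hx] at e
      exact pow_injOn_Iio_orderOf (by rw [Set.mem_Iio, hx]; exact Nat.mod_lt _ (by norm_num))
        (by rw [Set.mem_Iio, hx]; norm_num) (e.trans (pow_one x).symm)
    have hk1 : k ≠ 1 := by
      rintro rfl
      rw [pow_one] at hk
      have := card_dvd_of_le (show zpowers y ≤ centralizer ({x} : Set G) from
        zpowers_le.2 (mem_centralizer_singleton_iff.2 (mul_inv_eq_iff_eq_mul.1 hk.symm)))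
      rw [Nat.card_zpowers, hy, card_C7 h hx] at this
      norm_num at this
    interval_cases k
    all_goals (try omega)
    · exact ⟨y, hy, hk.symm⟩
    · refine ⟨y⁻¹, by rw [orderOf_inv, hy], ?_⟩
      rw [inv_inv]
      have h2 : y * x ^ 2 * y⁻¹ = x := by rw [hn, ← pow_mod_orderOf, hx]; norm_num
      calc y⁻¹ * x * y = y⁻¹ * (y * x ^ 2 * y⁻¹) * y := by rw [h2]
        _ = x ^ 2 := by group
  have hy3 : y ^ 3 = 1 := hy ▸ pow_orderOf_eq_one y
  have hfixN : ∀ {g : G} {P : Sylow 7 G}, g • P = P → orderOf g ∣ 21 := fun {g P} hg => by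
    rw [← orderOf_mk g (Sylow.smul_eq_iff_mem_normalizer.1 hg)]
    exact (_root_.orderOf_dvd_natCard _).trans (dvd_of_eq (card_N7 h P))
  have hyP₀ : y • P₀ = P₀ := by
    rw [Sylow.smul_eq_iff_mem_normalizer]
    show y ∈ normalizer ((P₀ : Subgroup G) : Set G)
    rw [hP₀, mem_normalizer_iff]
    intro g
    have key : ∀ g ∈ zpowers x, y * g * y⁻¹ ∈ zpowers x ∧ y⁻¹ * g * y ∈ zpowers x := by
      intro g hg
      obtain ⟨n, rfl⟩ := mem_zpowers_iff.1 hg
      refine ⟨mem_zpowers_iff.2 ⟨2 * n, ?_⟩, mem_zpowers_iff.2 ⟨4 * n, ?_⟩⟩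
      · rw [← conj_zpow, hyx, zpow_mul, zpow_two, pow_two]
      · have h4 : y * x ^ (4 : ℤ) * y⁻¹ = x := by
          rw [← conj_zpow, hyx, ← zpow_natCast, ← zpow_mul, ← zpow_mod_orderOf, hx]; norm_num
        conv_rhs => rw [← h4, conj_zpow, ← zpow_mul]
        group
    exact ⟨fun hg => (key g hg).1, fun hg => by simpa [mul_assoc] using (key _ hg).2⟩
  -- the other fixed point
  obtain ⟨Q₀, hQ₀, hyQ₀⟩ : ∃ Q₀ : Sylow 7 G, Q₀ ≠ P₀ ∧ y • Q₀ = Q₀ := by
    have hp : IsPGroup 3 (zpowers y) := IsPGroup.of_card (n := 1) (by rw [Nat.card_zpowers, hy, pow_one])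
    have hm := hp.card_modEq_card_fixedPoints (Sylow 7 G)
    rw [card_sylow7 h] at hm
    by_contra! hne
    have hsub : MulAction.fixedPoints (zpowers y) (Sylow 7 G) = {P₀} := by
      ext Q
      refine ⟨fun hQ => by_contra fun hQP => hne Q hQP (hQ ⟨y, mem_zpowers y⟩), ?_⟩
      rintro rfl ⟨g, hg⟩
      obtain ⟨n, rfl⟩ := mem_zpowers_iff.1 hg
      have : y ∈ MulAction.stabilizer G Q := hyP₀
      exact zpow_mem this n
    rw [hsub] at hm
    simp [Nat.ModEq] at hm
  obtain ⟨pt, hpt⟩ : ∃ pt : ZMod 7 → Sylow 7 G, ∀ i, pt i = x ^ i.val • Q₀ := ⟨_, fun _ => rfl⟩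
  have hmod : ∀ n : ℕ, x ^ n • Q₀ = pt (n : ZMod 7) := fun n => by
    rw [hpt, ZMod.val_natCast, ← pow_mod_orderOf x n, hx]
  have hxP : x • P₀ = P₀ := Sylow.smul_eq_iff_mem_normalizer.2 hxN
  have hxn : ∀ n : ℕ, x ^ n • P₀ = P₀ := fun n => pow_mem (show x ∈ MulAction.stabilizer G P₀ from hxP) n
  have hptP : ∀ i, pt i ≠ P₀ := fun i e => by
    rw [hpt, ← hxn i.val] at e
    exact hQ₀ (smul_left_cancel _ e)
  have hptinj : Function.Injective pt := by
    intro i j e
    by_contra hne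
    rw [hpt, hpt] at e
    have h1 : (x ^ (i - j).val) • Q₀ = Q₀ := by
      apply smul_left_cancel (x ^ j.val)
      rw [smul_smul, ← pow_add, hmod, Nat.cast_add, ZMod.natCast_zmod_val, ZMod.natCast_zmod_val, add_sub_cancel,
        hpt, e]
    have hne' : (i - j).val ≠ 0 := fun h0 => hne (sub_eq_zero.1 ((ZMod.val_eq_zero _).1 h0))
    have hord : orderOf (x ^ (i - j).val) = 7 := by
      have hlt := ZMod.val_lt (i - j)
      rw [Nat.Coprime.orderOf_pow (by
        rw [hx]
        exact (Nat.Prime.coprime_iff_not_dvd (by norm_num)).2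
          (fun hd => by have := Nat.le_of_dvd (Nat.pos_of_ne_zero hne') hd; omega)), hx]
    have hmem := Sylow.smul_eq_iff_mem_normalizer.1 h1
    have hin : x ^ (i - j).val ∈ (Q₀ : Subgroup G) := by
      by_contra hout
      rw [order_three_of_mem_N7 h Q₀ hmem hout] at hord
      norm_num at hord
    refine hQ₀ (Sylow.ext ?_)
    rw [← eq_of_le_of_card_ge (zpowers_le.2 hin) (by rw [Nat.card_zpowers, hord, card_P7 h]),
      hP₀, eq_of_le_of_card_ge (zpowers_le.2 (pow_mem (mem_zpowers x) (i - j).val))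
        (by rw [Nat.card_zpowers, Nat.card_zpowers, hord, hx])]
  obtain ⟨e, he⟩ : ∃ e : Pt ≃ Sylow 7 G, ⇑e = fun o => o.elim P₀ pt := by
    haveI := Fintype.ofFinite (Sylow 7 G)
    have hinj : Function.Injective (fun o : Pt => o.elim P₀ pt) := by
      rintro (_ | i) (_ | j) e
      · rfl
      · exact absurd e.symm (hptP j)
      · exact absurd e (hptP i)
      · exact congrArg some (hptinj e)
    refine ⟨Equiv.ofBijective _ ((Fintype.bijective_iff_injective_and_card _).2 ⟨hinj, ?_⟩), rfl⟩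
    rw [← Nat.card_eq_fintype_card, ← Nat.card_eq_fintype_card, card_sylow7 h, Nat.card_eq_fintype_card]
    rfl
  have hXpt : ∀ i, x • pt i = pt (i + 1) := fun i => by
    rw [hpt, smul_smul, ← pow_succ', hmod, Nat.cast_succ, ZMod.natCast_zmod_val]
  have hYpt : ∀ i, y • pt i = pt (2 * i) := fun i => by
    have hyn : y * x ^ i.val = x ^ (2 * i.val) * y := by
      rw [← mul_inv_eq_iff_eq_mul, ← conj_pow, hyx, ← pow_mul]
    rw [hpt, smul_smul, hyn, mul_smul, hyQ₀, hmod, Nat.cast_mul, ZMod.natCast_zmod_val]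
    rfl
  have hYinv : ∀ i, y⁻¹ • pt i = pt (4 * i) := fun i => by
    rw [inv_smul_eq_iff, hYpt]
    congr 1
    rw [← mul_assoc, m24, one_mul]
  -- an involution inverting y
  obtain ⟨t₀, ht₀, ht₀y⟩ : ∃ t : G, orderOf t = 2 ∧ t * y * t⁻¹ = y⁻¹ := by
    haveI : Fact (Nat.Prime 2) := ⟨Nat.prime_two⟩
    obtain ⟨P, hP⟩ := exists_sylow_zpowers hy (card_P3 h)
    obtain ⟨⟨t, htN⟩, ht⟩ := exists_prime_orderOf_dvd_card' (G := normalizer ((P : Subgroup G) : Set G)) 2
      (by rw [card_N3 h P]; norm_num)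
    rw [orderOf_mk] at ht
    refine ⟨t, ht, ?_⟩
    have hm : t * y * t⁻¹ ∈ zpowers y := hP ▸ (mem_normalizer_iff.1 htN y).1 (hP ▸ mem_zpowers y)
    obtain ⟨k, hk⟩ := ((isOfFinOrder_of_finite y).mem_zpowers_iff_mem_range_orderOf.1 hm) |> Finset.mem_image.1
    obtain ⟨hk3, hk⟩ := hk
    rw [Finset.mem_range, hy] at hk3
    rw [← hk]
    interval_cases k
    · exfalso
      rw [pow_zero, eq_comm, conj_eq_one_iff] at hk
      rw [hk, orderOf_one] at hy
      omega
    · exfalso
      rw [pow_one, eq_comm] at hk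
      have := card_dvd_of_le (show zpowers t ≤ centralizer ({y} : Set G) from
        zpowers_le.2 (mem_centralizer_singleton_iff.2 (mul_inv_eq_iff_eq_mul.1 hk)))
      rw [Nat.card_zpowers, ht, card_C3 h hy] at this
      norm_num at this
    · rw [eq_inv_iff_mul_eq_one, ← pow_succ, hy3]
  have props : ∀ t : G, orderOf t = 2 → t * y * t⁻¹ = y⁻¹ → t • P₀ = pt 0 ∧ t • pt 0 = P₀ ∧
      ∃ c : ZMod 7, (c = 3 ∨ c = 5 ∨ c = 6) ∧ t • pt 1 = pt c ∧ t • pt 2 = pt (4 * c) ∧
        t • pt 4 = pt (2 * c) := by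
    intro t ht hty
    have hnfix : ∀ P : Sylow 7 G, t • P ≠ P := fun P e => by
      have := hfixN e
      rw [ht] at this
      norm_num at this
    have htt : t * t = 1 := by rw [← pow_two, ← ht]; exact pow_orderOf_eq_one t
    have hty' : t * y = y⁻¹ * t := mul_inv_eq_iff_eq_mul.1 hty
    have hfixed : y • (t • P₀) = t • P₀ := by
      have : y * t = t * y⁻¹ := by
        rw [eq_mul_inv_iff_mul_eq, mul_assoc, hty', ← mul_assoc, mul_inv_cancel, one_mul]
      rw [smul_smul, this, mul_smul, inv_smul_eq_iff.2 hyP₀.symm]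
    obtain ⟨o, ho⟩ := e.surjective (t • P₀)
    rw [he] at ho
    obtain ⟨i, rfl⟩ : ∃ i, o = some i := by
      cases o with
      | none => exact absurd ho.symm (hnfix P₀)
      | some i => exact ⟨i, rfl⟩
    simp only [Option.elim] at ho
    have hi : i = 0 := by
      rw [← ho, hYpt] at hfixed
      linear_combination hptinj hfixed
    subst hi
    have h0 : t • pt 0 = P₀ := by rw [ho, smul_smul, htt, one_smul]
    refine ⟨ho.symm, h0, ?_⟩
    obtain ⟨o, hc⟩ := e.surjective (t • pt 1)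
    rw [he] at hc
    obtain ⟨c, rfl⟩ : ∃ c, o = some c := by
      cases o with
      | none => exact absurd (hptinj (smul_left_cancel t (h0.trans hc))) m01
      | some c => exact ⟨c, rfl⟩
    simp only [Option.elim] at hc
    have hdouble : ∀ i j, t • pt i = pt j → t • pt (2 * i) = pt (4 * j) := fun i j hij => by
      rw [← hYpt, smul_smul, hty', mul_smul, hij, hYinv]
    have h2 := hdouble 1 c hc.symm
    rw [mul_one] at h2
    have h4 := hdouble 2 (4 * c) h2
    rw [m22, ← mul_assoc, m44] at h4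
    refine ⟨c, ?_, hc.symm, h2, h4⟩
    have hc0 : c ≠ 0 := fun e => hptP 1 (smul_left_cancel t ((hc.symm.trans (by rw [e])).trans ho))
    have hc1 : c ≠ 1 := fun e => hnfix _ (by rw [hc.symm, e])
    have hc2 : c ≠ 2 := fun e => hnfix (pt 4) (by rw [h4, e]; rfl)
    have hc4 : c ≠ 4 := fun e => hnfix (pt 2) (by rw [h2, e]; rfl)
    exact cCases c hc0 hc1 hc2 hc4
  obtain ⟨t, ht, hty, htc⟩ : ∃ t : G, orderOf t = 2 ∧ t * y * t⁻¹ = y⁻¹ ∧ t • pt 1 = pt 6 := by
    have hgen : ∀ m : ℕ, ∀ t : G, orderOf t = 2 → t * y * t⁻¹ = y⁻¹ →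
        orderOf (y ^ m * t) = 2 ∧ y ^ m * t * y * (y ^ m * t)⁻¹ = y⁻¹ := by
      intro m t ht hty
      have htt : t * t = 1 := by rw [← pow_two, ← ht]; exact pow_orderOf_eq_one t
      have hne : y ^ m * t ≠ 1 := fun e => by
        have : t ∈ zpowers y := by
          rw [show t = (y ^ m)⁻¹ from eq_inv_of_mul_eq_one_right e]; exact inv_mem (pow_mem (mem_zpowers y) m)
        have := orderOf_dvd_of_mem_zpowers this
        rw [ht, hy] at this
        norm_num at this
      refine ⟨orderOf_eq_prime ?_ hne, ?_⟩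
      · have e1 : t * y ^ m * t⁻¹ = (y ^ m)⁻¹ := by rw [← conj_pow, hty, inv_pow]
        calc (y ^ m * t) ^ 2 = y ^ m * (t * y ^ m * t⁻¹) * (t * t) := by
              rw [pow_two]; simp only [mul_assoc, inv_mul_cancel_left]
          _ = 1 := by rw [e1, htt, mul_inv_cancel, one_mul]
      · calc y ^ m * t * y * (y ^ m * t)⁻¹ = y ^ m * (t * y * t⁻¹) * (y ^ m)⁻¹ := by group
          _ = y⁻¹ := by rw [hty, (Commute.pow_self y m).inv_right.eq, mul_inv_cancel_right]
    obtain ⟨-, -, c, hc, h1, -, -⟩ := props t₀ ht₀ ht₀y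
    rcases hc with rfl | rfl | rfl
    · refine ⟨y ^ 1 * t₀, (hgen 1 t₀ ht₀ ht₀y).1, (hgen 1 t₀ ht₀ ht₀y).2, ?_⟩
      rw [mul_smul, h1, pow_one, hYpt]; rfl
    · refine ⟨y ^ 2 * t₀, (hgen 2 t₀ ht₀ ht₀y).1, (hgen 2 t₀ ht₀ ht₀y).2, ?_⟩
      rw [mul_smul, h1, pow_two, mul_smul, hYpt, hYpt]; rfl
    · exact ⟨t₀, ht₀, ht₀y, h1⟩
  obtain ⟨hn, h0, c, -, h1, h2, h4⟩ := props t ht hty
  rw [hptinj (h1.symm.trans htc)] at h2 h4
  have htt : t * t = 1 := by rw [← pow_two, ← ht]; exact pow_orderOf_eq_one t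
  have hback : ∀ i j, t • pt i = pt j → t • pt j = pt i := fun i j hij => by
    rw [← hij, smul_smul, htt, one_smul]
  obtain ⟨φ, hφ⟩ : ∃ φ : G →* Equiv.Perm Pt, ∀ g o, e (φ g o) = g • e o :=
    ⟨(e.symm.permCongrHom.toMonoidHom).comp (MulAction.toPermHom G (Sylow 7 G)), fun g o => by simp⟩
  have hval : ∀ g : G, ∀ F : Equiv.Perm Pt, (∀ o, g • e o = e (F o)) → φ g = F := fun g F hF =>
    Equiv.ext fun o => e.injective (by rw [hφ, hF])
  have hX : φ x = X := hval x X fun o => by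
    rw [he]
    cases o with
    | none => exact hxP
    | some i => exact hXpt i
  have hY : φ y = Y := hval y Y fun o => by
    rw [he]
    cases o with
    | none => exact hyP₀
    | some i => exact hYpt i
  have hT : φ t = T := hval t T fun o => by
    rw [he]
    cases o with
    | none => exact hn
    | some i =>
      obtain rfl | rfl | rfl | rfl | rfl | rfl | rfl := seven i
      · exact h0
      · exact htc
      · exact h2
      · exact hback 2 3 h2
      · exact h4
      · exact hback 4 5 h4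
      · exact hback 1 6 htc
  have hgen : closure {x, y, t} = (⊤ : Subgroup G) := by
    by_contra hne
    have hle := Order168.index_ge h _ hne
    have hd : ∀ g ∈ ({x, y, t} : Set G), orderOf g ∣ Nat.card (closure ({x, y, t} : Set G)) := fun g hg => by
      rw [← orderOf_mk g (subset_closure hg)]; exact _root_.orderOf_dvd_natCard _
    have h7 := hd x (by simp); have h3 := hd y (by simp); have h2' := hd t (by simp)
    rw [hx] at h7; rw [hy] at h3; rw [ht] at h2'
    have hm := Subgroup.card_mul_index (closure ({x, y, t} : Set G))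
    rw [h] at hm
    have h42 : 42 ≤ Nat.card (closure ({x, y, t} : Set G)) := by
      refine Nat.le_of_dvd Nat.card_pos ?_
      have := Nat.Coprime.mul_dvd_of_dvd_of_dvd (by norm_num : Nat.Coprime (2 * 3) 7)
        (Nat.Coprime.mul_dvd_of_dvd_of_dvd (by norm_num) h2' h3) h7
      exact this
    nlinarith
  refine ⟨φ, (MonoidHom.ker_eq_bot_iff φ).1 ?_, ?_⟩
  · refine (IsSimpleGroup.eq_bot_or_eq_top_of_normal φ.ker inferInstance).resolve_right fun hk => ?_
    have : φ x = 1 := by rw [← MonoidHom.mem_ker, hk]; exact mem_top x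
    rw [hX] at this
    exact X_ne this
  · rw [MonoidHom.range_eq_map, ← hgen, MonoidHom.map_closure, Set.image_insert_eq, Set.image_insert_eq,
      Set.image_singleton, hX, hY, hT]

theorem iso {H : Type*} [Group H] [Finite H] [IsSimpleGroup H] (h' : Nat.card H = 168) : Nonempty (G ≃* H) := by
  obtain ⟨φ, hφ, hr⟩ := exists_model h
  obtain ⟨ψ, hψ, hr'⟩ := exists_model h'
  exact ⟨(MonoidHom.ofInjective hφ).trans ((MulEquiv.subgroupCongr (hr.trans hr'.symm)).trans
    (MonoidHom.ofInjective hψ).symm)⟩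

end Cfsg.Agent.Small.Order168Iso
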