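import Cfsg.Agent.Lib.Small.Order459648
import Cfsg.Agent.Lib.Small.SimpleOrderTools
import Cfsg.Agent.Lib.Char.PrincipalBlock
import Cfsg.Agent.Lib.Char.PrimeSylowPrincipal
import Cfsg.Agent.Lib.Char.OneBlock
import Cfsg.Agent.Lib.Char.Convolution
import Cfsg.Agent.Lib.Char.KleinFour

/-!
# Involutions inverting a self-centralising element of prime order
-/

set_option autoImplicit false

namespace Cfsg.Agent.Small.StructureConstantTwo

open Cfsg Cfsg.Agent.Char Cfsg.Agent.Small.Order459648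
open scoped ComplexConjugate

universe u

variable {G : Type u} [Group G] [Fintype G]

open scoped Classical in
/-- The number of ways to write `y` as a product of two conjugates of `z`, conjugators counted. -/
theorem pairs_formula (z y : G) :
    (((Finset.univ : Finset (G × G)).filter fun t =>
        t.1 * z * t.1⁻¹ * (t.2 * z * t.2⁻¹) = y).card : ℂ) =
      (Nat.card G : ℂ) * ∑ χ : IrrCharacter G,
        conj ((χ : G → ℂ) y) * ((χ : G → ℂ) z * (χ : G → ℂ) z / (χ : G → ℂ) 1) := by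
  set R := (Finset.univ : Finset (G × G)).filter fun t => t.1 * z * t.1⁻¹ * (t.2 * z * t.2⁻¹) = y with hR
  set S := (Finset.univ : Finset (G × G)).filter fun t => IsConj (t.1 * z * t.1⁻¹ * (t.2 * z * t.2⁻¹)) y with hS
  set W := (Finset.univ : Finset G).filter fun w => IsConj y w with hW
  set n := Nat.card {x : G // IsConj y x} with hn
  have hWc : W.card = n := by rw [hn, Nat.card_eq_fintype_card, Fintype.card_subtype]
  have hfib : S.card = n * R.card := by
    rw [Finset.card_eq_sum_card_fiberwise (f := fun t : G × G => t.1 * z * t.1⁻¹ * (t.2 * z * t.2⁻¹))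
      (t := W) (fun t ht => Finset.mem_filter.2 ⟨Finset.mem_univ _, (Finset.mem_filter.1 ht).2.symm⟩),
      ← hWc]
    refine Finset.sum_const_nat fun w hw => ?_
    obtain ⟨k, hk⟩ := isConj_iff.1 (Finset.mem_filter.1 hw).2
    refine (Finset.card_equiv (Equiv.prodCongr (Equiv.mulLeft k) (Equiv.mulLeft k)) fun t => ?_).symm
    simp only [hR, hS, Finset.mem_filter, Finset.mem_univ, true_and, Equiv.prodCongr_apply, Prod.map,
      Equiv.coe_mulLeft]
    rw [show k * t.1 * z * (k * t.1)⁻¹ * (k * t.2 * z * (k * t.2)⁻¹) =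
      k * (t.1 * z * t.1⁻¹ * (t.2 * z * t.2⁻¹)) * k⁻¹ by group, ← hk]
    constructor
    · intro h
      rw [h]
      exact ⟨isConj_iff.2 ⟨k⁻¹, by group⟩, rfl⟩
    · rintro ⟨-, h⟩
      exact mul_left_cancel (mul_right_cancel h)
  have hn0 : (n : ℂ) ≠ 0 := Nat.cast_ne_zero.2 (card_conjClass_ne_zero y)
  have hG0 : (Nat.card G : ℂ) ≠ 0 := Nat.cast_ne_zero.2 Nat.card_pos.ne'
  have h1 : (S.card : ℂ) * ((Nat.card G : ℂ) / n) =
      ∑ t : G × G, ∑ χ : IrrCharacter G,
        (χ : G → ℂ) (t.1 * z * t.1⁻¹ * (t.2 * z * t.2⁻¹)) * conj ((χ : G → ℂ) y) := by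
    rw [Finset.sum_congr rfl fun t _ => second_orth (t.1 * z * t.1⁻¹ * (t.2 * z * t.2⁻¹)) y,
      ← Finset.sum_filter, Finset.sum_const, nsmul_eq_mul]
  have h2 : ∀ χ : IrrCharacter G, ∑ t : G × G, (χ : G → ℂ) (t.1 * z * t.1⁻¹ * (t.2 * z * t.2⁻¹)) =
      (Nat.card G : ℂ) * (Nat.card G : ℂ) * ((χ : G → ℂ) z * (χ : G → ℂ) z / (χ : G → ℂ) 1) := by
    intro χ
    have hd : (χ : G → ℂ) 1 ≠ 0 := by
      rw [char_one_eq_deg (irr_isCharacter χ.2)]
      exact Nat.cast_ne_zero.2 (deg_pos χ.2).ne'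
    rw [Fintype.sum_prod_type]
    have hin : ∀ a : G, ∑ b : G, (χ : G → ℂ) (a * z * a⁻¹ * (b * z * b⁻¹)) =
        (Nat.card G : ℂ) * ((χ : G → ℂ) z * (χ : G → ℂ) z / (χ : G → ℂ) 1) := fun a => by
      have h := sum_conj_mul χ.2 (a * z * a⁻¹) z
      rw [isClassFunction_character (irr_isCharacter χ.2) z a] at h
      field_simp
      linear_combination h
    rw [Finset.sum_congr rfl fun a _ => hin a, Finset.sum_const, Finset.card_univ, nsmul_eq_mul,
      ← Nat.card_eq_fintype_card, mul_assoc]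
  rw [Finset.sum_comm] at h1
  simp only [← Finset.sum_mul] at h1
  rw [Finset.sum_congr rfl fun χ _ => by rw [h2 χ], hfib] at h1
  push_cast at h1
  field_simp at h1
  refine mul_left_cancel₀ hG0 ?_
  rw [Finset.mul_sum, Finset.mul_sum, mul_comm (Nat.card G : ℂ) (R.card : ℂ), h1]
  refine Finset.sum_congr rfl fun χ _ => ?_
  ring

variable {p : ℕ} [Fact p.Prime] {M : Ideal AlgInt}

open scoped Classical in
/-- Outside the principal block characters vanish on a self-centralising element of order `p`. -/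
theorem vanish_outside (hM : IsPModular p M) {y : G} (hy : orderOf y = p)
    (hC : Subgroup.centralizer ({y} : Set G) = Subgroup.zpowers y) {χ : IrrCharacter G}
    (hχ : χ ∉ principalBlock M G) : (χ : G → ℂ) y = 0 := by
  set C := Subgroup.centralizer ({y} : Set G) with hCdef
  haveI : Fintype C := Fintype.ofFinite _
  have hcard : Nat.card C = p := by rw [hC, Nat.card_zpowers, hy]
  have hCp : IsPGroup p C := IsPGroup.of_card (n := 1) (by rw [hcard, pow_one])
  have hx : ∃ k : ℕ, orderOf y = p ^ k := ⟨1, by rw [hy, pow_one]⟩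
  have hsame : ∀ ξ : IrrCharacter C, ξ ∈ principalBlock M C := fun ξ => by
    have htop : pCore p C = ⊤ := top_le_iff.1
      (le_sSup ⟨inferInstance, hCp.of_equiv Subgroup.topEquiv.symm⟩)
    exact sameBlock_of_constrained hM (by rw [htop]; exact le_top) ⟨fun _ => 1, isIrrCharacter_one⟩ ξ
  have h1 := sum_block_section_orth hM hx (isPBlock_principalBlock (G := G) M) (1 : C) 1
    (by rw [orderOf_one]; exact (Fact.out : p.Prime).not_dvd_one)
    (by rw [orderOf_one]; exact (Fact.out : p.Prime).not_dvd_one)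
  rw [principal_section_filter hM hx, Finset.sum_singleton,
    Finset.filter_true_of_mem (fun ξ _ => hsame ξ)] at h1
  simp only [OneMemClass.coe_one, mul_one] at h1
  have h2 : ∑ ξ : IrrCharacter C, conj ((ξ : C → ℂ) 1) * (ξ : C → ℂ) 1 = (p : ℂ) := by
    have h := second_orth (1 : C) 1
    rw [if_pos (IsConj.refl 1)] at h
    have hone : Nat.card {x : C // IsConj 1 x} = 1 := by
      rw [Nat.card_eq_one_iff_unique]
      exact ⟨⟨fun a b => Subtype.ext ((isConj_one_right.1 a.2).trans (isConj_one_right.1 b.2).symm)⟩,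
        ⟨⟨1, IsConj.refl 1⟩⟩⟩
    rw [hone, hcard, Nat.cast_one, div_one] at h
    rw [← h]
    exact Finset.sum_congr rfl fun ξ _ => mul_comm _ _
  rw [h2] at h1
  have h3 : ∑ ψ : IrrCharacter G, conj ((ψ : G → ℂ) y) * (ψ : G → ℂ) y = (p : ℂ) := by
    have h := second_orth y y
    rw [if_pos (IsConj.refl y)] at h
    have hmul := card_conjClass_mul_centralizer y
    rw [← hCdef, hcard] at hmul
    rw [show ∑ ψ : IrrCharacter G, conj ((ψ : G → ℂ) y) * (ψ : G → ℂ) y =
      ∑ ψ : IrrCharacter G, (ψ : G → ℂ) y * conj ((ψ : G → ℂ) y) from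
      Finset.sum_congr rfl fun ψ _ => mul_comm _ _, h, ← hmul, Nat.cast_mul,
      mul_div_cancel_left₀ _ (Nat.cast_ne_zero.2 (card_conjClass_ne_zero y))]
  rw [← Finset.sum_filter_add_sum_filter_not Finset.univ (fun ψ : IrrCharacter G => ψ ∈ principalBlock M G)] at h3
  rw [h1, add_eq_left] at h3
  simp only [Complex.conj_mul'] at h3
  have h4 : ∑ ψ : IrrCharacter G with ψ ∉ principalBlock M G, ‖(ψ : G → ℂ) y‖ ^ 2 = 0 := by
    exact_mod_cast h3
  have h5 := (Finset.sum_eq_zero_iff_of_nonneg fun ψ _ => by positivity).1 h4 χ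
    (Finset.mem_filter.2 ⟨Finset.mem_univ _, hχ⟩)
  exact norm_eq_zero.1 (by nlinarith [h5, norm_nonneg ((χ : G → ℂ) y)])

open scoped Classical in
/-- A simple group with a self-centralising Sylow subgroup of order `p` and automiser of order two:
the degrees of the principal block and the centraliser of any involution. -/
theorem principal_two [IsSimpleGroup G] (hna : ¬ IsMulCommutative G) (hp5 : 5 ≤ p) (P : Sylow p G)
    (hP : Nat.card P = p) (hC : Nat.card (Subgroup.centralizer ((P : Subgroup G) : Set G)) = p)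
    (hN : Nat.card (Subgroup.normalizer ((P : Subgroup G) : Set G)) = 2 * p) :
    ∃ (f g : ℕ) (a δ : ℤ), (a = 1 ∨ a = -1) ∧ (δ = 1 ∨ δ = -1) ∧ f ∣ Nat.card G ∧ g ∣ Nat.card G ∧
      1 < f ∧ 1 < g ∧ (p : ℤ) ∣ (f : ℤ) - a ∧ δ * g = 1 + a * f ∧
      1 + f ^ 2 + (p - 1) / 2 * g ^ 2 ≤ Nat.card G ∧
      ∀ z : G, orderOf z = 2 → ∃ u : ℤ, |u| ≤ f ∧ u ≠ f ∧
        (Nat.card G : ℤ) * (f - u) ^ 2 * a =
          (Nat.card (Subgroup.centralizer ({z} : Set G)) : ℤ) ^ 2 * p * f * (δ * g) := by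
  have hp : p.Prime := Fact.out
  obtain ⟨y, hy, hyP⟩ := SimpleOrderTools.exists_generator hp hP
  have hcy : Subgroup.centralizer ({y} : Set G) = Subgroup.centralizer ((P : Subgroup G) : Set G) := by
    rw [← hyP, Subgroup.zpowers_eq_closure, Subgroup.centralizer_closure]
  have hCy : Subgroup.centralizer ({y} : Set G) = Subgroup.zpowers y := by
    refine (Subgroup.eq_of_le_of_card_ge
      (Subgroup.zpowers_le.2 (Subgroup.mem_centralizer_singleton_iff.2 rfl)) ?_).symm
    rw [hcy, hC, Nat.card_zpowers, hy]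
  have hy1 : y ≠ 1 := fun e => by rw [e, orderOf_one] at hy; exact hp.ne_one hy.symm
  have he : (Subgroup.centralizer ((P : Subgroup G) : Set G)).relIndex
      (Subgroup.normalizer ((P : Subgroup G) : Set G)) = 2 := by
    have h := ((Subgroup.centralizer ((P : Subgroup G) : Set G)).subgroupOf
      (Subgroup.normalizer ((P : Subgroup G) : Set G))).card_mul_index
    rw [Nat.card_congr (Subgroup.subgroupOfEquivOfLe (Subgroup.centralizer_le_normalizer _)).toEquiv, hC, hN,
      mul_comm 2 p] at h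
    exact Nat.eq_of_mul_eq_mul_left hp.pos h
  obtain ⟨M, hM⟩ := exists_pModular hp
  obtain ⟨X, Y, a, δ, h⟩ := exists_prime_principal hM hP he
  have hval : ∀ χ : IrrCharacter G, (χ : G → ℂ) 1 = (charDegree (χ : G → ℂ) : ℂ) :=
    fun χ => char_one_eq_deg (irr_isCharacter χ.2)
  have hmem : (oneChar : IrrCharacter G) ∈ principalBlock M G :=
    sameBlock_refl (pmod_prime hM) (fun _ : G => (1 : ℂ))
  have h1X : oneChar ∈ X := by
    rcases (h.mem_iff _).mp hmem with e | e
    · exact e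
    · exfalso
      have h3 := Int.modEq_iff_dvd.mp (h.congrY _ e)
      rw [charDegree_oneChar] at h3
      rcases h.sign with e1 | e1 <;> rw [e1] at h3
      · have := Int.le_of_dvd (by norm_num) h3
        push_cast at this
        omega
      · have := Int.le_of_dvd (by norm_num) (Int.dvd_neg.mpr h3)
        push_cast at this
        omega
  obtain ⟨yP, hyPmem, hyPval⟩ : ∃ q : ↥(P : Subgroup G), q ∈ nonOne P ∧ (q : G) = y :=
    ⟨⟨y, hyP ▸ Subgroup.mem_zpowers y⟩, mem_nonOne.mpr hy1, rfl⟩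
  have haval : ∀ χ ∈ X, (χ : G → ℂ) y = (a χ : ℂ) := fun χ hχ => hyPval ▸ h.a_val χ hχ yP hyPmem
  have hone : a oneChar = 1 := by
    have h2 : (1 : ℂ) = (a oneChar : ℂ) := haval _ h1X
    exact_mod_cast h2.symm
  obtain ⟨χ, hχ⟩ : ∃ χ, X.erase oneChar = {χ} :=
    Finset.card_eq_one.mp (by rw [Finset.card_erase_of_mem h1X, h.cardX])
  have hχX : χ ∈ X := Finset.mem_of_mem_erase (hχ ▸ Finset.mem_singleton_self χ : χ ∈ X.erase oneChar)
  have hχne : χ ≠ oneChar := Finset.ne_of_mem_erase (hχ ▸ Finset.mem_singleton_self χ : χ ∈ X.erase oneChar)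
  obtain ⟨θ, hθ⟩ : Y.Nonempty := by
    rw [← Finset.card_pos, h.cardY]
    exact Nat.div_pos (by omega) two_pos
  have hθne : θ ≠ oneChar := fun e => Finset.disjoint_left.mp h.disj h1X (e ▸ hθ)
  set f := charDegree (χ : G → ℂ) with hf
  set g := charDegree (θ : G → ℂ) with hg
  have hregY : ∀ ψ ∈ Y, ∀ w : G, ¬ p ∣ orderOf w →
      (δ : ℂ) * (ψ : G → ℂ) w = 1 + (a χ : ℂ) * (χ : G → ℂ) w := fun ψ hψ w hw => by
    have := h.rel ψ hψ w hw
    rw [← Finset.add_sum_erase X _ h1X, hχ, Finset.sum_singleton, hone] at this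
    rw [this]
    show (1 : ℤ) * (1 : ℂ) + _ = _
    simp
  have hδ2 : (δ : ℂ) * δ = 1 := by rcases h.sign with e | e <;> simp [e]
  have hp1 : ¬ p ∣ orderOf (1 : G) := by rw [orderOf_one]; exact hp.not_dvd_one
  have hrel : δ * (g : ℤ) = 1 + a χ * f := by
    have := hregY θ hθ 1 hp1
    rw [hval, hval, ← hf, ← hg] at this
    exact_mod_cast this
  have hgY : ∀ ψ ∈ Y, (ψ : G → ℂ) 1 = (g : ℂ) := fun ψ hψ => by
    have e := h.regY ψ hψ θ hθ 1 hp1
    rw [e, hval]
  have hg1 : 1 < g := one_lt_degree hna hθne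
  have hf1 : 1 < f := one_lt_degree hna hχne
  have hsplit : ∀ F : IrrCharacter G → ℂ, (∀ ψ, ψ ∉ principalBlock M G → F ψ = 0) →
      ∑ ψ : IrrCharacter G, F ψ = F oneChar + F χ + ∑ ψ ∈ Y, F ψ := fun F hF => by
    rw [← Finset.sum_subset (Finset.subset_univ (X ∪ Y)) fun ψ _ hψ => hF ψ fun hm =>
      hψ (Finset.mem_union.2 ((h.mem_iff ψ).mp hm)), Finset.sum_union h.disj,
      ← Finset.add_sum_erase X _ h1X, hχ, Finset.sum_singleton]
  have hvan : ∀ ψ : IrrCharacter G, ψ ∉ principalBlock M G → (ψ : G → ℂ) y = 0 := fun ψ hψ =>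
    vanish_outside hM hy hCy hψ
  have hY : ∑ ψ ∈ Y, (ψ : G → ℂ) y = -(δ : ℂ) := by
    have h2 := second_orth y (1 : G)
    rw [if_neg (fun e => hy1 (isConj_one_left.mp e)), hsplit _ (fun ψ hψ => by rw [hvan ψ hψ, zero_mul]),
      Finset.sum_congr rfl (fun ψ hψ => by rw [hgY ψ hψ]), ← Finset.sum_mul, haval _ h1X, haval _ hχX, hone,
      hval χ, ← hf] at h2
    simp only [Complex.conj_natCast] at h2
    have hg0 : (g : ℂ) ≠ 0 := Nat.cast_ne_zero.2 (by omega)
    have hrel' : (δ : ℂ) * g = 1 + (a χ : ℂ) * f := by exact_mod_cast hrel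
    have h3 : conj ((oneChar : IrrCharacter G) : G → ℂ) 1 = 1 := by
      show conj (1 : ℂ) = 1
      simp
    rw [show conj (((oneChar : IrrCharacter G) : G → ℂ) 1) = (1 : ℂ) by
      show conj (1 : ℂ) = 1; simp] at h2
    refine mul_right_cancel₀ hg0 ?_
    push_cast at h2
    linear_combination h2 + hrel'
  refine ⟨f, g, a χ, δ, h.a_sign χ hχX, h.sign, deg_dvd_card χ.2, deg_dvd_card θ.2, hf1, hg1, ?_, hrel, ?_,
    fun z hz => ?_⟩
  · have := Int.modEq_iff_dvd.mp (h.a_congr χ hχX)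
    rw [← hf] at this
    exact (dvd_sub_comm).mp this
  · have h1 : ∑ ψ : IrrCharacter G, charDegree (ψ : G → ℂ) ^ 2 = Nat.card G := by
      have := sum_sq_deg (G := G)
      simp only [hval] at this
      exact_mod_cast this
    rw [← h1]
    refine le_of_eq_of_le ?_ (Finset.sum_le_univ_sum_of_nonneg
      (f := fun ψ : IrrCharacter G => charDegree (ψ : G → ℂ) ^ 2) (s := X ∪ Y) fun ψ => Nat.zero_le _)
    rw [Finset.sum_union h.disj, ← Finset.add_sum_erase X _ h1X, hχ, Finset.sum_singleton, charDegree_oneChar,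
      one_pow, Finset.sum_congr rfl (g := fun _ => g ^ 2) fun ψ hψ => by
        have e := hgY ψ hψ
        rw [hval] at e
        rw [show charDegree (ψ : G → ℂ) = g by exact_mod_cast e],
      Finset.sum_const, h.cardY, smul_eq_mul]
  -- an involution
  have hzz : z * z = 1 := by rw [← pow_two, ← hz, pow_orderOf_eq_one]
  have hz1 : z ≠ 1 := fun e => by rw [e, orderOf_one] at hz; omega
  obtain ⟨u, hu⟩ := char_involution_int (irr_isCharacter χ.2) (t := z) (by rw [pow_two, hzz])
  have hzp : ¬ p ∣ orderOf z := by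
    rw [hz]; intro hd
    have := Nat.le_of_dvd two_pos hd
    omega
  have hu1 : |u| ≤ f := by
    have := char_norm_le (irr_isCharacter χ.2) z
    rw [hu, hval χ, ← hf, Complex.norm_intCast, Complex.natCast_re] at this
    exact_mod_cast this
  have hu2 : u ≠ f := by
    rintro rfl
    refine hz1 (faithful hχne (by rw [← hf]; omega) z ?_)
    rw [hu, hval χ, ← hf]
    push_cast
    rfl
  refine ⟨u, hu1, hu2, ?_⟩
  have hform := pairs_formula z y
  set R := ((Finset.univ : Finset (G × G)).filter fun t =>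
    t.1 * z * t.1⁻¹ * (t.2 * z * t.2⁻¹) = y) with hR
  have hRN : ((R.card : ℤ) : ℤ) * (f * (δ * g)) = (Nat.card G : ℤ) * (f - u) ^ 2 * a χ := by
    rw [hsplit _ (fun ψ hψ => by rw [hvan ψ hψ, map_zero, zero_mul])] at hform
    have hYs : ∑ ψ ∈ Y, conj ((ψ : G → ℂ) y) * ((ψ : G → ℂ) z * (ψ : G → ℂ) z / (ψ : G → ℂ) 1) =
        -(δ : ℂ) * ((1 + (a χ : ℂ) * u) * (1 + (a χ : ℂ) * u) / g) := by
      have hs : ∀ ψ ∈ Y, (ψ : G → ℂ) z * (ψ : G → ℂ) z / (ψ : G → ℂ) 1 =
          (1 + (a χ : ℂ) * u) * (1 + (a χ : ℂ) * u) / g := fun ψ hψ => by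
        have e := hregY ψ hψ z hzp
        rw [hu] at e
        rw [hgY ψ hψ, ← e]
        congr 1
        linear_combination -((ψ : G → ℂ) z * (ψ : G → ℂ) z) * hδ2
      rw [Finset.sum_congr rfl fun ψ hψ => by rw [hs ψ hψ], ← Finset.sum_mul, ← map_sum, hY, map_neg,
        map_intCast]
    rw [hYs, haval _ hχX, haval _ h1X, hone, hu, hval χ, ← hf] at hform
    have hf0 : (f : ℂ) ≠ 0 := Nat.cast_ne_zero.2 (by omega)
    have hg0 : (g : ℂ) ≠ 0 := Nat.cast_ne_zero.2 (by omega)
    have hrel' : (δ : ℂ) * g = 1 + (a χ : ℂ) * f := by exact_mod_cast hrel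
    have ha2 : (a χ : ℂ) * a χ = 1 := by rcases h.a_sign χ hχX with e | e <;> simp [e]
    simp only [map_intCast] at hform
    rw [show ((oneChar : IrrCharacter G) : G → ℂ) z = 1 from rfl,
      show ((oneChar : IrrCharacter G) : G → ℂ) 1 = 1 from rfl] at hform
    push_cast at hform
    field_simp at hform
    have : ((R.card : ℂ)) * ((f : ℂ) * ((δ : ℂ) * g)) = (Nat.card G : ℂ) * ((f : ℂ) - u) ^ 2 * (a χ : ℂ) := by
      linear_combination (δ : ℂ) * hform + (Nat.card G : ℂ) * ((f : ℂ) + (a χ : ℂ) * (u : ℂ) ^ 2) * hrel'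
        - (Nat.card G : ℂ) * (f : ℂ) * ((1 + (a χ : ℂ) * u) ^ 2) * hδ2
        + (Nat.card G : ℂ) * (u : ℂ) ^ 2 * (f : ℂ) * 0 * ha2
    exact_mod_cast this
  -- the products counted
  have hRc : (R.card : ℤ) = (Nat.card (Subgroup.centralizer ({z} : Set G)) : ℤ) ^ 2 * p := by
    have hR0 : R.card ≠ 0 := fun e => by
      rw [e, Nat.cast_zero, zero_mul, eq_comm, mul_eq_zero, mul_eq_zero] at hRN
      rcases hRN with (e1 | e1) | e1
      · exact Nat.card_pos.ne' (by exact_mod_cast e1)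
      · exact hu2 (sub_eq_zero.1 (pow_eq_zero_iff two_ne_zero |>.1 e1)).symm
      · rcases h.a_sign χ hχX with e2 | e2 <;> omega
    obtain ⟨t, ht⟩ := Finset.card_ne_zero.1 hR0
    have hinvol : ∀ b : G, (b * z * b⁻¹) * (b * z * b⁻¹) = 1 := fun b => by
      rw [show b * z * b⁻¹ * (b * z * b⁻¹) = b * (z * z) * b⁻¹ by group, hzz]; group
    -- the conjugators of inverting conjugates
    set T := (Finset.univ : Finset G).filter fun b => b * z * b⁻¹ * y * (b * z * b⁻¹)⁻¹ = y⁻¹ with hT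
    have hinvs : ∀ r : G × G, r ∈ R → r.1 ∈ T := fun r hr => by
      have e := (Finset.mem_filter.1 hr).2
      refine Finset.mem_filter.2 ⟨Finset.mem_univ _, ?_⟩
      set b := r.1 * z * r.1⁻¹ with hb
      set b' := r.2 * z * r.2⁻¹
      have hbi : b⁻¹ = b := inv_eq_of_mul_eq_one_right (hinvol r.1)
      have hbi' : b'⁻¹ = b' := inv_eq_of_mul_eq_one_right (hinvol r.2)
      show b * y * b⁻¹ = y⁻¹
      rw [← e]
      calc b * (b * b') * b⁻¹ = (b * b) * b' * b⁻¹ := by group
        _ = b' * b⁻¹ := by rw [hinvol r.1, one_mul]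
        _ = b'⁻¹ * b⁻¹ := by rw [hbi']
        _ = (b * b')⁻¹ := by group
    set a0 := t.1 * z * t.1⁻¹ with ha0
    have ha0y : a0 * y * a0⁻¹ = y⁻¹ := (Finset.mem_filter.1 (hinvs t ht)).2
    -- the inverting elements form one coset
    have hinv_iff : ∀ b : G, b * y * b⁻¹ = y⁻¹ ↔ a0⁻¹ * b ∈ Subgroup.zpowers y := fun b => by
      rw [← hCy, Subgroup.mem_centralizer_singleton_iff]
      constructor
      · intro e
        have e' : b * y * b⁻¹ = a0 * y * a0⁻¹ := e.trans ha0y.symm
        calc a0⁻¹ * b * y = a0⁻¹ * (b * y * b⁻¹) * b := by group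
          _ = a0⁻¹ * (a0 * y * a0⁻¹) * b := by rw [e']
          _ = y * (a0⁻¹ * b) := by group
      · intro e
        calc b * y * b⁻¹ = a0 * (a0⁻¹ * b * y) * b⁻¹ := by group
          _ = a0 * (y * (a0⁻¹ * b)) * b⁻¹ := by rw [e]
          _ = a0 * y * a0⁻¹ := by group
          _ = y⁻¹ := ha0y
    have hconj : ∀ b : G, b * y * b⁻¹ = y⁻¹ → IsConj z b := fun b hb => by
      obtain ⟨m, hm⟩ := (isOfFinOrder_of_finite y).mem_powers_iff_mem_zpowers.2 ((hinv_iff b).1 hb)
      replace hm : y ^ m = a0⁻¹ * b := hm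
      refine (isConj_iff.2 ⟨t.1, rfl⟩ : IsConj z a0).trans ?_
      obtain ⟨k, hk⟩ : ∃ k : ℕ, (y ^ k) ^ 2 = y ^ m := by
        refine ⟨m * ((p + 1) / 2), ?_⟩
        rw [← pow_mul, pow_eq_pow_iff_modEq, hy]
        have hodd : p % 2 = 1 := (hp.eq_two_or_odd).resolve_left (by omega)
        rw [show m * ((p + 1) / 2) * 2 = m + m * p by
          rw [mul_assoc, show (p + 1) / 2 * 2 = 1 + p by omega, mul_add, mul_one]]
        exact Nat.modEq_iff_dvd.2 ⟨-(m : ℤ), by push_cast; ring⟩
      have ha2 : a0⁻¹ = a0 := inv_eq_of_mul_eq_one_right (hinvol t.1)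
      refine isConj_iff.2 ⟨(y ^ k)⁻¹, ?_⟩
      have e1 : a0 * y ^ k * a0⁻¹ = (y ^ k)⁻¹ := by rw [← conj_pow, ha0y, inv_pow]
      calc (y ^ k)⁻¹ * a0 * (y ^ k)⁻¹⁻¹ = a0 * y ^ k * a0⁻¹ * a0 * y ^ k := by rw [e1, inv_inv]
        _ = a0 * (y ^ k) ^ 2 := by rw [pow_two]; group
        _ = b := by rw [hk, hm]; group
    have hfibre : ∀ b : G, IsConj z b →
        ((Finset.univ : Finset G).filter fun s => s * z * s⁻¹ = b).card =
          Nat.card (Subgroup.centralizer ({z} : Set G)) := fun b hb => by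
      obtain ⟨k, hk⟩ := isConj_iff.1 hb
      rw [← Nat.card_eq_finsetCard]
      refine (Nat.card_congr ?_).symm
      refine (Equiv.mulLeft k).subtypeEquiv fun s => ?_
      simp only [Finset.mem_filter, Finset.mem_univ, true_and, Equiv.coe_mulLeft,
        Subgroup.mem_centralizer_singleton_iff, ← hk]
      constructor
      · intro e
        rw [show k * s * z * (k * s)⁻¹ = k * (s * z * s⁻¹) * k⁻¹ by group, e]
        group
      · intro e
        have e2 : s * z * s⁻¹ = z := mul_left_cancel (mul_right_cancel (show k * (s * z * s⁻¹) * k⁻¹ = k * z * k⁻¹ by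
          rw [← e]; group))
        calc s * z = s * z * s⁻¹ * s := by group
          _ = z * s := by rw [e2]
    have hTc : T.card = p * Nat.card (Subgroup.centralizer ({z} : Set G)) := by
      set I := (Finset.univ : Finset G).filter fun b => b * y * b⁻¹ = y⁻¹ with hI
      have hIc : I.card = p := by
        rw [← Nat.card_eq_finsetCard, ← hy, ← Nat.card_zpowers]
        refine Nat.card_congr ((Equiv.mulLeft a0⁻¹).subtypeEquiv fun b => ?_)
        simp only [hI, Finset.mem_filter, Finset.mem_univ, true_and, Equiv.coe_mulLeft]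
        exact hinv_iff b
      rw [Finset.card_eq_sum_card_fiberwise (f := fun s : G => s * z * s⁻¹) (t := I)
        (fun s hs => Finset.mem_filter.2 ⟨Finset.mem_univ _, (Finset.mem_filter.1 hs).2⟩), ← hIc]
      refine Finset.sum_const_nat fun b hb => ?_
      rw [← hfibre b (hconj b (Finset.mem_filter.1 hb).2)]
      congr 1
      ext s
      simp only [hT, Finset.mem_filter, Finset.mem_univ, true_and]
      exact ⟨fun e => e.2, fun e => ⟨e ▸ (Finset.mem_filter.1 hb).2, e⟩⟩
    have hRT : R.card = T.card * Nat.card (Subgroup.centralizer ({z} : Set G)) := by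
      rw [Finset.card_eq_sum_card_fiberwise (f := fun r : G × G => r.1) (t := T) hinvs]
      refine Finset.sum_const_nat fun b hb => ?_
      have hb2 := (Finset.mem_filter.1 hb).2
      set c := b * z * b⁻¹ with hc
      have hcy : IsConj z (c⁻¹ * y) := hconj _ (by
        calc c⁻¹ * y * y * (c⁻¹ * y)⁻¹ = c⁻¹ * y * c := by group
          _ = c * y * c⁻¹ := by rw [inv_eq_of_mul_eq_one_right (hinvol b)]
          _ = y⁻¹ := hb2)
      rw [← hfibre _ hcy]
      refine Finset.card_nbij (fun r => r.2) (fun r hr => ?_) (fun r hr r' hr' e => ?_) (fun s hs => ?_)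
      · simp only [Finset.coe_filter, Set.mem_setOf_eq, hR, Finset.mem_filter, Finset.mem_univ, true_and] at hr ⊢
        rw [← hr.1, hr.2, ← hc, inv_mul_cancel_left]
      · simp only [Finset.coe_filter, Set.mem_setOf_eq] at hr hr'
        exact Prod.ext (hr.2.trans hr'.2.symm) e
      · simp only [Finset.coe_filter, Set.mem_setOf_eq, Finset.mem_univ, true_and] at hs
        refine ⟨(b, s), ?_, rfl⟩
        simp only [Finset.coe_filter, Set.mem_setOf_eq, hR, Finset.mem_filter, Finset.mem_univ, true_and, and_true]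
        show b * z * b⁻¹ * (s * z * s⁻¹) = y
        rw [hs, ← hc, mul_inv_cancel_left]
    rw [hRT, hTc]
    push_cast
    ring
  rw [← hRN, hRc]
  ring

end Cfsg.Agent.Small.StructureConstantTwo
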