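import Mathlib

/-!
A transitive group of prime degree with several Sylow subgroups of that prime order, one of which has prime
index in its normalizer, is simple.
-/

set_option autoImplicit false

namespace Cfsg.Agent.Small.PrimeDegreeSimple

open Subgroup MulAction

theorem isSimpleGroup {α : Type*} [Fintype α] [DecidableEq α] {p : ℕ} [Fact p.Prime] (hα : Fintype.card α = p)
    (G : Subgroup (Equiv.Perm α)) [IsPretransitive ↥G α] (P : Sylow p ↥G) (hn : 1 < Nat.card (Sylow p ↥G))
    (ht : (((P : Subgroup ↥G).subgroupOf (normalizer ((P : Subgroup ↥G) : Set ↥G))).index).Prime) :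
    IsSimpleGroup ↥G := by
  have hp : p.Prime := Fact.out
  have hX : Nat.card α = p := by rw [Nat.card_eq_fintype_card, hα]
  have : Nonempty α := Fintype.card_pos_iff.mp (hα ▸ hp.pos)
  obtain ⟨a⟩ := ‹Nonempty α›
  have hpre : IsPreprimitive ↥G α := IsPreprimitive.of_prime_card (hX.symm ▸ hp)
  have hP : Nat.card (P : Subgroup ↥G) = p := by
    obtain ⟨k, hk⟩ := IsPGroup.iff_card.mp P.2
    have h1 : p ^ k ∣ p.factorial := by
      have hfac : Nat.card (Equiv.Perm α) = p.factorial := by
        rw [Nat.card_eq_fintype_card, Fintype.card_perm, hα]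
      rw [← hk, ← hfac]
      exact (card_subgroup_dvd_card _).trans (card_subgroup_dvd_card G)
    have h2 : p ∣ Nat.card ↥G := by
      have := (stabilizer ↥G a).index_dvd_card
      rwa [index_stabilizer_of_transitive, hX] at this
    have hk0 : k ≠ 0 := fun h => P.ne_bot_of_dvd_card h2 (card_eq_one.mp (by rw [hk, h, pow_zero]))
    have hk1 : k ≤ 1 := by
      by_contra hk1
      have h3 : p * p ∣ p * (p - 1).factorial := by
        have h4 : p.factorial = p * (p - 1).factorial := (Nat.mul_factorial_pred hp.ne_zero).symm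
        rw [← h4, ← pow_two]
        exact (pow_dvd_pow p (by omega)).trans h1
      have := hp.dvd_factorial.mp ((Nat.mul_dvd_mul_iff_left hp.pos).mp h3)
      have := hp.pos
      omega
    rw [hk, show k = 1 by omega, pow_one]
  have : Nontrivial ↥G := by
    have : Nontrivial (P : Subgroup ↥G) := Finite.one_lt_card_iff_nontrivial.mp (hP.symm ▸ hp.one_lt)
    exact (P : Subgroup ↥G).subtype_injective.nontrivial
  constructor
  intro N hN
  by_cases hbot : N = ⊥
  · exact Or.inl hbot
  refine Or.inr ?_
  -- a non-trivial normal subgroup is transitive, so has order divisible by p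
  have hfix : fixedPoints N α ≠ Set.univ := by
    intro h
    refine hbot ((eq_bot_iff_forall _).mpr fun g hg => ?_)
    refine Subtype.ext (Equiv.ext fun x => ?_)
    have := (Set.eq_univ_iff_forall.mp h x) ⟨g, hg⟩
    exact this
  have htrans : IsPretransitive N α := IsQuasiPreprimitive.isPretransitive_of_normal hfix
  have hpN : p ∣ Nat.card N := by
    have := (stabilizer N a).index_dvd_card
    rwa [index_stabilizer_of_transitive, hX] at this
  have hPN : (P : Subgroup ↥G) ≤ N := by
    obtain ⟨x, hx⟩ := exists_prime_orderOf_dvd_card' p hpN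
    have hx' : orderOf (x : ↥G) = p := by rw [orderOf_coe, hx]
    obtain ⟨Q, hQ⟩ := (IsPGroup.of_card (n := 1) (by rw [Nat.card_zpowers, hx', pow_one]) :
      IsPGroup p (zpowers (x : ↥G))).exists_le_sylow
    have hQc : Nat.card (Q : Subgroup ↥G) = p := by rw [Nat.card_congr (Sylow.equiv Q P).toEquiv, hP]
    have hQe : zpowers (x : ↥G) = (Q : Subgroup ↥G) :=
      eq_of_le_of_card_ge hQ (by rw [hQc, Nat.card_zpowers, hx'])
    obtain ⟨g, hg⟩ := exists_smul_eq ↥G Q P
    have hQN : (Q : Subgroup ↥G) ≤ N := hQe ▸ zpowers_le.mpr x.2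
    intro y hy
    rw [← hg] at hy
    have hy' := (mem_pointwise_smul_iff_inv_smul_mem (S := (Q : Subgroup ↥G)) (a := MulAut.conj g)).mp hy
    have := hN.conj_mem _ (hQN hy') g
    simpa [mul_assoc] using this
  have hQmap : ((P.subtype hPN : Sylow p N) : Subgroup N).map N.subtype = (P : Subgroup ↥G) := by
    rw [Sylow.coe_subtype, subgroupOf_map_subtype, inf_eq_left.mpr hPN]
  have hfrattini := Sylow.normalizer_sup_eq_top (P.subtype hPN)
  rw [hQmap] at hfrattini
  suffices h : normalizer ((P : Subgroup ↥G) : Set ↥G) ≤ N by rwa [sup_eq_right.mpr h] at hfrattini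
  by_contra hnot
  -- otherwise P is self-normalizing in N, and N has a characteristic p-complement
  have hNP : N ⊓ normalizer ((P : Subgroup ↥G) : Set ↥G) = (P : Subgroup ↥G) := by
    have hle : (P : Subgroup ↥G) ≤ N ⊓ normalizer ((P : Subgroup ↥G) : Set ↥G) := le_inf hPN le_normalizer
    have h := relIndex_mul_relIndex (P : Subgroup ↥G) _ _ hle (inf_le_right : N ⊓ _ ≤ normalizer ((P : Subgroup ↥G) : Set ↥G))
    have hmul : (P : Subgroup ↥G).relIndex (N ⊓ normalizer ((P : Subgroup ↥G) : Set ↥G)) *
        (N ⊓ normalizer ((P : Subgroup ↥G) : Set ↥G)).relIndex (normalizer ((P : Subgroup ↥G) : Set ↥G)) =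
        ((P : Subgroup ↥G).subgroupOf (normalizer ((P : Subgroup ↥G) : Set ↥G))).index := h
    rcases ht.eq_one_or_self_of_dvd _ ⟨_, hmul.symm⟩ with h' | h'
    · exact le_antisymm (relIndex_eq_one.mp h') hle
    · rw [h'] at hmul
      have := relIndex_eq_one.mp (mul_eq_left₀ ht.ne_zero |>.mp hmul)
      exact absurd (le_inf_iff.mp this).1 hnot
  let Q : Sylow p N := P.subtype hPN
  have hQc : IsCyclic (Q : Subgroup N) := isCyclic_of_prime_card (p := p) (by
    rw [Sylow.coe_subtype, Nat.card_congr (subgroupOfEquivOfLe hPN).toEquiv, hP])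
  have hQn : normalizer ((Q : Subgroup N) : Set N) ≤ centralizer ((Q : Subgroup N) : Set N) := by
    intro y hy
    have hy' : (y : ↥G) ∈ (P : Subgroup ↥G) := by
      rw [← hNP]
      refine ⟨y.2, mem_normalizer_iff.mpr fun z => ?_⟩
      by_cases hz : z ∈ N
      · exact mem_normalizer_iff.mp hy ⟨z, hz⟩
      · refine iff_of_false (fun h => hz (hPN h)) fun h => hz ?_
        simpa [mul_assoc] using hN.conj_mem _ (hPN h) (y : ↥G)⁻¹
    refine mem_centralizer_iff.mpr fun z hz => Subtype.ext ?_
    have hc : IsCyclic (P : Subgroup ↥G) := isCyclic_of_prime_card (p := p) hP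
    have hcomm : ∀ u v : (P : Subgroup ↥G), u * v = v * u := hc.isMulCommutative.is_comm.comm
    have h := congrArg Subtype.val (hcomm ⟨z.1, hz⟩ ⟨y.1, hy'⟩)
    simpa only [Subgroup.coe_mul] using h
  have hK := MonoidHom.ker_transferSylow_isComplement' Q hQn
  -- the kernel is normal in G
  let K : Subgroup ↥G := (MonoidHom.transferSylow Q hQn).ker.map N.subtype
  have hKp : ∀ k : N, k ∈ (MonoidHom.transferSylow Q hQn).ker ↔ ¬ p ∣ orderOf k := by
    intro k
    constructor
    · intro hk hd
      exact MonoidHom.not_dvd_card_ker_transferSylow Q hQn (hd.trans (orderOf_dvd_natCard _ hk))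
    · intro hk
      rw [MonoidHom.mem_ker]
      have h1 := orderOf_map_dvd (MonoidHom.transferSylow Q hQn) k
      have h2 := orderOf_dvd_natCard (MonoidHom.transferSylow Q hQn k)
      rw [show Nat.card (Q : Subgroup N) = p by
        rw [Sylow.coe_subtype, Nat.card_congr (subgroupOfEquivOfLe hPN).toEquiv, hP]] at h2
      rcases hp.eq_one_or_self_of_dvd _ h2 with h | h
      · exact orderOf_eq_one_iff.mp h
      · exact absurd (h ▸ h1) hk
  have hKn : K.Normal := ⟨fun y hy g => by
    obtain ⟨k, hk, rfl⟩ := hy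
    refine ⟨⟨g * k.1 * g⁻¹, hN.conj_mem _ k.2 g⟩, ?_, rfl⟩
    rw [SetLike.mem_coe, hKp] at hk ⊢
    rwa [← orderOf_coe, show ((⟨g * k.1 * g⁻¹, hN.conj_mem _ k.2 g⟩ : N) : ↥G) = MulAut.conj g k.1 from rfl,
      MulEquiv.orderOf_eq, orderOf_coe]⟩
  have hKbot : K = ⊥ := by
    by_contra hKb
    have hfixK : fixedPoints K α ≠ Set.univ := by
      intro h
      refine hKb ((eq_bot_iff_forall _).mpr fun g hg => Subtype.ext (Equiv.ext fun x => ?_))
      exact (Set.eq_univ_iff_forall.mp h x) ⟨g, hg⟩
    have : IsPretransitive K α := IsQuasiPreprimitive.isPretransitive_of_normal hfixK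
    have h := (stabilizer K a).index_dvd_card
    rw [index_stabilizer_of_transitive, hX, card_map_of_injective N.subtype_injective] at h
    exact MonoidHom.not_dvd_card_ker_transferSylow Q hQn h
  have hker : (MonoidHom.transferSylow Q hQn).ker = ⊥ := by
    rw [← map_eq_bot_iff_of_injective _ N.subtype_injective]
    exact hKbot
  rw [hker, isComplement'_bot_left] at hK
  have hPe : N = (P : Subgroup ↥G) := le_antisymm (fun y hy => by
    have : (⟨y, hy⟩ : N) ∈ (Q : Subgroup N) := hK ▸ mem_top _
    exact this) hPN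
  have : (P : Subgroup ↥G).Normal := hPe ▸ hN
  have := Sylow.unique_of_normal P this
  rw [Nat.card_unique] at hn
  exact lt_irrefl 1 hn

end Cfsg.Agent.Small.PrimeDegreeSimple
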