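import Cfsg.Agent.Lib.Small.DegreeSearch
import Cfsg.Agent.Lib.Char.FrobSylowSections
import Cfsg.Agent.Lib.Char.Ortho
import Cfsg.Agent.Lib.Char.GroupAlg

/-!
# A self-centralising Sylow subgroup of prime order and a class of involutions

The number of ways to write an element of order `p` as a product of two conjugates of an
involution is `0` or `p`, and the characters of the principal block compute it.
-/

set_option autoImplicit false

namespace Cfsg.Agent.Small.InvolutionSearch

open Cfsg Cfsg.Agent.Char Cfsg.Agent.Lead.BlockDeg Cfsg.Agent.Small.Order459648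
open scoped ComplexConjugate

/-- All multisets of size `k` on the list, with the four sums, are tested by `leaf`. -/
def search (c : ℕ) (N : ℤ) (leaf : ℤ → ℤ → ℤ → Bool) :
    List (ℤ × ℤ) → ℕ → ℤ → ℤ → ℕ → ℤ → Bool
  | [], k, SD, SZ, _, B => if k = 0 then leaf SD SZ B else true
  | x :: xs, k, SD, SZ, Q, B => if c < Q then true else if k = 0 then leaf SD SZ B else
      (List.range (k + 1)).all fun j =>
        search c N leaf xs (k - j) (SD + j * x.1) (SZ + j * x.2) (Q + j * x.2.natAbs ^ 2)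
          (B + j * (x.2 * x.2 * (N / x.1)))

theorem search_sound {ι : Type*} {c : ℕ} {N : ℤ} {leaf : ℤ → ℤ → ℤ → Bool} {f : ι → ℤ × ℤ} :
    ∀ (l : List (ℤ × ℤ)) (k : ℕ) (SD SZ : ℤ) (Q : ℕ) (B : ℤ) (s : Finset ι),
      (∀ i ∈ s, f i ∈ l) → s.card = k → search c N leaf l k SD SZ Q B = true →
      Q + ∑ i ∈ s, (f i).2.natAbs ^ 2 ≤ c →
      leaf (SD + ∑ i ∈ s, (f i).1) (SZ + ∑ i ∈ s, (f i).2)
        (B + ∑ i ∈ s, (f i).2 * (f i).2 * (N / (f i).1)) = true := by
  intro l
  induction l with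
  | nil =>
    intro k SD SZ Q B s hs hk h _
    have hs0 : s = ∅ := Finset.eq_empty_of_forall_notMem fun i hi => by simpa using hs i hi
    subst hs0
    simp only [Finset.card_empty] at hk
    subst hk
    simpa [search] using h
  | cons x xs ih =>
    intro k SD SZ Q B s hs hk h hQ
    classical
    set A := s.filter fun i => f i = x with hA
    set R := s.filter fun i => ¬ f i = x with hR
    have hcard : A.card + R.card = k := by
      rw [hA, hR, Finset.card_filter_add_card_filter_not, hk]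
    have hj : A.card ∈ List.range (k + 1) := List.mem_range.mpr (by omega)
    rw [search, if_neg (by omega)] at h
    split_ifs at h with hk0
    · subst hk0
      obtain rfl : s = ∅ := Finset.card_eq_zero.mp hk
      simpa using h
    rw [List.all_eq_true] at h
    have h1 : ∀ i ∈ R, f i ∈ xs := fun i hi => by
      rw [hR, Finset.mem_filter] at hi
      exact (List.mem_cons.mp (hs i hi.1)).resolve_left hi.2
    have hconst : ∀ φ : ℤ × ℤ → ℤ, ∑ i ∈ s, φ (f i) = A.card * φ x + ∑ i ∈ R, φ (f i) := by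
      intro φ
      rw [hR, ← Finset.sum_filter_add_sum_filter_not s (fun i => f i = x), ← hA,
        Finset.sum_congr rfl (s₁ := A) (g := fun _ => φ x)
          fun i hi => by rw [(Finset.mem_filter.mp hi).2], Finset.sum_const, nsmul_eq_mul]
    have e1 := hconst fun y => y.1
    have e2 := hconst fun y => y.2
    have e4 := hconst fun y => y.2 * y.2 * (N / y.1)
    have e3 : ∑ i ∈ s, (f i).2.natAbs ^ 2 =
        A.card * x.2.natAbs ^ 2 + ∑ i ∈ R, (f i).2.natAbs ^ 2 := by
      rw [hR, ← Finset.sum_filter_add_sum_filter_not s (fun i => f i = x), ← hA,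
        Finset.sum_congr rfl (s₁ := A) (g := fun _ => x.2.natAbs ^ 2)
          fun i hi => by rw [(Finset.mem_filter.mp hi).2], Finset.sum_const, smul_eq_mul]
    have h2 := ih (k - A.card) _ _ _ _ R h1 (by omega) (h _ hj) (by rw [e3] at hQ; omega)
    rw [e1, e2, e4, ← add_assoc, ← add_assoc, ← add_assoc]
    exact h2

/-- The admissible signed degrees. -/
def degs (N p e : ℕ) : List ℤ :=
  ((DegreeSearch.divs N).filter fun d => decide (1 < d)).flatMap fun d : ℕ =>
    [(d : ℤ), -(d : ℤ)].filter fun D =>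
      decide ((D - 1) % (p : ℤ) = 0 ∨ (D + (e : ℤ)) % (p : ℤ) = 0)

/-- The admissible pairs of a signed degree and a signed value at the involution. -/
def items (N p e K : ℕ) : List (ℤ × ℤ) :=
  (degs N p e).flatMap fun D =>
    (((List.range (Nat.min D.natAbs (DegreeSearch.root (N / K)) * 2 + 1)).map fun i : ℕ =>
        (i : ℤ) - (Nat.min D.natAbs (DegreeSearch.root (N / K)) : ℤ)).filter fun z =>
      decide (z.natAbs ^ 2 ≤ N / K ∧ z ≠ D ∧ (z - D) % 2 = 0 ∧ ((K : ℤ) * z) % D = 0)).map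
        fun z => (D, z)

/-- No configuration exists for a class of `K` involutions. -/
def checkClass (N p e K : ℕ) : Bool :=
  search (N / K) (N : ℤ)
    (fun SD SZ B => !(decide (SD = 0 ∧ SZ = 0 ∧
      ((K : ℤ) * K * B = 0 ∨ (K : ℤ) * K * B = (p : ℤ) * N * N))))
    (items N p e K) e 1 1 1 (N : ℤ)

/-- No configuration exists for any class of involutions of odd size divisible by `p`. -/
def check (N p e : ℕ) (Ks : List ℕ) : Bool := Ks.all fun K => checkClass N p e K

theorem invol_facts {G : Type*} [Group G] [Finite G] {χ : G → ℂ} (h : IsCharacter G χ) {t : G}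
    (ht : t ^ 2 = 1) :
    ∃ (z : ℤ) (d : ℕ), χ t = z ∧ χ 1 = d ∧ 2 ∣ z - (d : ℤ) ∧ z.natAbs ≤ d := by
  obtain ⟨n, ρ, rfl⟩ := h
  obtain ⟨μ, hμ, htr, -⟩ := exists_eigenvalues ρ t
  have h1 : ρ.character t = ∑ i, μ i := by simpa using htr 1
  have h0 : ρ.character 1 = ∑ _i : Fin (Module.finrank ℂ (Fin n → ℂ)), (1 : ℂ) := by
    simpa using htr 0
  have hi : ∀ i, ∃ z : ℤ, μ i = z ∧ 2 ∣ z - 1 ∧ |z| = 1 := fun i => by
    have h2 : μ i ^ 2 = 1 := by
      obtain ⟨k, hk⟩ := orderOf_dvd_of_pow_eq_one ht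
      rw [hk, pow_mul, hμ i, one_pow]
    rcases sq_eq_one_iff.1 h2 with e | e
    · exact ⟨1, by simp [e], by norm_num, by norm_num⟩
    · exact ⟨-1, by simp [e], by norm_num, by norm_num⟩
  choose z hz hz2 hz3 using hi
  refine ⟨∑ i, z i, Module.finrank ℂ (Fin n → ℂ), by rw [h1]; simp [hz], by rw [h0]; simp, ?_, ?_⟩
  · rw [show ((Module.finrank ℂ (Fin n → ℂ) : ℕ) : ℤ) =
      ∑ _i : Fin (Module.finrank ℂ (Fin n → ℂ)), (1 : ℤ) by simp, ← Finset.sum_sub_distrib]
    exact Finset.dvd_sum fun i _ => hz2 i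
  · have := Finset.abs_sum_le_sum_abs z Finset.univ
    simp only [hz3, Finset.sum_const, Finset.card_univ, Fintype.card_fin, nsmul_one] at this
    have h2 := Int.abs_eq_natAbs (∑ i, z i)
    omega

universe u

variable {G : Type u} [Group G] [Fintype G]

theorem false_of_check [IsSimpleGroup G] (hna : ¬ IsMulCommutative G) {p : ℕ} [Fact p.Prime]
    (hp2 : 2 < p) (P : Sylow p G) (hP : Nat.card P = p) {e : ℕ}
    (he : (Subgroup.centralizer ((P : Subgroup G) : Set G)).relIndex
      (Subgroup.normalizer ((P : Subgroup G) : Set G)) = e) (hep : e ∣ p - 1)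
    (hC : Subgroup.centralizer ((P : Subgroup G) : Set G) = (P : Subgroup G))
    {N : ℕ} (hN : Nat.card G = N) (h2 : 2 ∣ N) (Ks : List ℕ)
    (hKs : ∀ K, K ∣ N → ¬ 2 ∣ K → p ∣ K → K ∈ Ks)
    (hc : check N p e Ks = true) : False := by
  classical
  have hp : p.Prime := Fact.out
  haveI : Fact (Nat.Prime 2) := ⟨Nat.prime_two⟩
  obtain ⟨M, hM⟩ := exists_pModular hp
  obtain ⟨X, Y, a, δ, h⟩ := exists_prime_principal hM hP he
  have hfrob : FrobSylow P e := he ▸ frobSylow_of_prime hP
  have he0 : 0 < e := by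
    rcases Nat.eq_zero_or_pos e with h0 | h0
    · subst h0; simp at hep; omega
    · exact h0
  have hep' : e ≤ p - 1 := Nat.le_of_dvd (by omega) hep
  have hN0 : N ≠ 0 := by rw [← hN]; exact Nat.card_pos.ne'
  have hval : ∀ χ : IrrCharacter G, (χ : G → ℂ) 1 = (charDegree (χ : G → ℂ) : ℂ) :=
    fun χ => char_one_eq_deg (irr_isCharacter χ.2)
  have hdpos : ∀ χ : IrrCharacter G, 0 < charDegree (χ : G → ℂ) := fun χ => deg_pos χ.2
  have hdvd : ∀ χ : IrrCharacter G, charDegree (χ : G → ℂ) ∣ N := fun χ => by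
    rw [← hN]; exact deg_dvd_card χ.2
  -- an element of order `p`
  obtain ⟨y, hy⟩ : ∃ y : ↥(P : Subgroup G), y ∈ nonOne P := by
    have : Nontrivial ↥(P : Subgroup G) := by
      rw [← Finite.one_lt_card_iff_nontrivial, show Nat.card ↥(P : Subgroup G) = p from hP]
      exact hp.one_lt
    obtain ⟨y, hy⟩ := exists_ne (1 : ↥(P : Subgroup G))
    exact ⟨y, mem_nonOne.mpr fun e1 => hy (Subtype.ext e1)⟩
  have hy1 : (y : G) ≠ 1 := mem_nonOne.mp hy
  have hzp : Subgroup.zpowers (y : G) = (P : Subgroup G) := eq_zpowers_of_prime_sylow hP y.2 hy1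
  have hCy : Subgroup.centralizer ({(y : G)} : Set G) = (P : Subgroup G) := by
    rw [← centralizer_zpowers_eq, hzp, hC]
  -- characters outside the principal block vanish at `y`
  have hvan : ∀ χ : IrrCharacter G, χ ∉ X → χ ∉ Y → (χ : G → ℂ) (y : G) = 0 := by
    intro χ hX hY
    have hχ : χ ∉ principalBlock M G := fun h' => by
      rcases (h.mem_iff χ).mp h' with h'' | h''
      · exact hX h''
      · exact hY h''
    have h0 := hfrob.nonprincipal_sum_zero hM hχ hy1
    rw [Finset.sum_eq_single (1 : Subgroup.centralizer ({(y : G)} : Set G))] at h0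
    · simpa using h0
    · intro v hv hv1
      exfalso
      have hvP : (v : G) ∈ (P : Subgroup G) := by
        exact (SetLike.ext_iff.mp hCy _).mp v.2
      have h2 := (P : Subgroup G).orderOf_dvd_natCard hvP
      rw [show Nat.card (P : Subgroup G) = p from hP] at h2
      have h3 : orderOf (v : G) = p :=
        ((Nat.dvd_prime hp).mp h2).resolve_left
          fun h4 => hv1 (Subtype.ext (orderOf_eq_one_iff.mp h4))
      rw [Subgroup.orderOf_coe] at h3
      exact (Finset.mem_filter.mp hv).2 (dvd_of_eq h3.symm)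
    · intro h1
      exact absurd (Finset.mem_filter.mpr ⟨Finset.mem_univ _, by simp [hp.ne_one]⟩) h1
  have hvan' : ∀ χ : IrrCharacter G, χ ∉ X ∪ Y → (χ : G → ℂ) (y : G) = 0 := fun χ hχ => by
    rw [Finset.mem_union, not_or] at hχ
    exact hvan χ hχ.1 hχ.2
  -- an exceptional character
  have hmem : (oneChar : IrrCharacter G) ∈ principalBlock M G :=
    sameBlock_refl (pmod_prime hM) (fun _ : G => (1 : ℂ))
  obtain ⟨θ, hθ, hor⟩ : ∃ θ ∈ Y, oneChar ∈ X ∨ θ = oneChar := by
    rcases (h.mem_iff _).mp hmem with h' | h'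
    · obtain ⟨θ₀, hθ₀⟩ : Y.Nonempty := by
        rw [← Finset.card_pos, h.cardY]
        exact Nat.div_pos hep' he0
      exact ⟨θ₀, hθ₀, Or.inl h'⟩
    · exact ⟨_, h', Or.inr rfl⟩
  have hθX : θ ∉ X := fun h' => Finset.disjoint_left.mp h.disj h' hθ
  have hdegY : ∀ ψ ∈ Y, (ψ : G → ℂ) 1 = (θ : G → ℂ) 1 := fun ψ hψ =>
    h.regY ψ hψ θ hθ 1 (by rw [orderOf_one]; exact hp.not_dvd_one)
  have hrel1 : (δ : ℂ) * (θ : G → ℂ) 1 = ∑ χ ∈ X, (a χ : ℂ) * (χ : G → ℂ) 1 :=
    h.rel θ hθ 1 (by rw [orderOf_one]; exact hp.not_dvd_one)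
  have hS : ∑ ψ ∈ Y, (ψ : G → ℂ) (y : G) = -(δ : ℂ) := by
    have h0 := second_orth (y : G) (1 : G)
    rw [if_neg fun hc' => hy1 (isConj_one_left.mp hc')] at h0
    rw [← Finset.sum_subset (Finset.subset_univ (X ∪ Y)) fun χ _ hχ => by
        rw [hvan' χ hχ, zero_mul],
      Finset.sum_union h.disj] at h0
    have hY' : ∑ ψ ∈ Y, (ψ : G → ℂ) (y : G) * conj ((ψ : G → ℂ) 1) =
        (∑ ψ ∈ Y, (ψ : G → ℂ) (y : G)) * (θ : G → ℂ) 1 := by
      rw [Finset.sum_mul]
      refine Finset.sum_congr rfl fun ψ hψ => ?_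
      rw [conj_char_one (irr_isCharacter ψ.2), hdegY ψ hψ]
    have hX' : ∑ χ ∈ X, (χ : G → ℂ) (y : G) * conj ((χ : G → ℂ) 1) =
        ∑ χ ∈ X, (a χ : ℂ) * (χ : G → ℂ) 1 :=
      Finset.sum_congr rfl fun χ hχ => by
        rw [conj_char_one (irr_isCharacter χ.2), h.a_val χ hχ y hy]
    rw [hY', hX', ← hrel1, ← add_mul, mul_eq_zero,
      or_iff_left (irr_one_ne_zero θ.2)] at h0
    linear_combination h0
  -- a central involution of a Sylow 2-subgroup
  obtain ⟨T⟩ := (inferInstance : Nonempty (Sylow 2 G))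
  haveI : Nontrivial ↥(T : Subgroup G) := by
    rw [← Finite.one_lt_card_iff_nontrivial]
    exact lt_of_lt_of_le one_lt_two (Nat.le_of_dvd Nat.card_pos
      (T.dvd_card_of_dvd_card (hN ▸ h2)))
  haveI := T.isPGroup'.center_nontrivial
  obtain ⟨k, hk⟩ := (T.isPGroup'.to_subgroup (Subgroup.center ↥(T : Subgroup G))).exists_card_eq
  have hk1 : k ≠ 0 := by
    rintro rfl
    have := Finite.one_lt_card_iff_nontrivial.mpr
      (inferInstance : Nontrivial (Subgroup.center ↥(T : Subgroup G)))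
    rw [hk, pow_zero] at this
    exact lt_irrefl _ this
  obtain ⟨v, hv⟩ := exists_prime_orderOf_dvd_card' 2
    (show 2 ∣ Nat.card (Subgroup.center ↥(T : Subgroup G)) from hk ▸ dvd_pow_self 2 hk1)
  set s : G := ((v : ↥(T : Subgroup G)) : G) with hs
  have hso : orderOf s = 2 := by rw [hs, Subgroup.orderOf_coe, Subgroup.orderOf_coe, hv]
  have hss : s ^ 2 = 1 := by rw [← hso, pow_orderOf_eq_one]
  have hsp : ¬ p ∣ orderOf s := fun h' => by
    rw [hso] at h'
    have := Nat.le_of_dvd (by norm_num) h'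
    omega
  set Cs := Subgroup.centralizer ({s} : Set G) with hCs
  set K : ℕ := Nat.card {x : G // IsConj s x} with hK
  have hKc : K * Nat.card Cs = N := by
    rw [hK, card_conjClass_eq_index, ← hCs, Subgroup.index_mul_card, hN]
  have hK2 : ¬ 2 ∣ K := by
    have hTle : (T : Subgroup G) ≤ Cs := fun x hx => by
      rw [hCs, Subgroup.mem_centralizer_singleton_iff]
      exact congrArg Subtype.val (Subgroup.mem_center_iff.mp v.2 ⟨x, hx⟩)
    intro h'
    rw [hK, card_conjClass_eq_index] at h'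
    exact T.not_dvd_index (h'.trans (Subgroup.index_dvd_of_le hTle))
  have hKp : p ∣ K := by
    by_contra hK'
    have hpC : p ∣ Nat.card Cs := by
      have : p ∣ K * Nat.card Cs := by
        rw [hKc, ← hN, ← hP]
        exact Subgroup.card_subgroup_dvd_card _
      exact (hp.dvd_mul.mp this).resolve_left hK'
    obtain ⟨x, hx⟩ := exists_prime_orderOf_dvd_card' p hpC
    have hxo : orderOf (x : G) = p := by rw [Subgroup.orderOf_coe, hx]
    obtain ⟨R, hR⟩ := (IsPGroup.of_card (n := 1)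
      (by rw [Nat.card_zpowers, hxo, pow_one]) :
        IsPGroup p (Subgroup.zpowers (x : G))).exists_le_sylow
    obtain ⟨g, hg⟩ := MulAction.exists_smul_eq G R P
    have hx' : g * (x : G) * g⁻¹ ∈ (P : Subgroup G) := by
      rw [← hg]
      exact ⟨x, hR (Subgroup.mem_zpowers _), rfl⟩
    have hx1 : g * (x : G) * g⁻¹ ≠ 1 := fun h' => by
      rw [conj_eq_one_iff] at h'
      rw [h', orderOf_one] at hxo
      exact hp.ne_one hxo.symm
    have hmemC : g * s * g⁻¹ ∈ Subgroup.centralizer ((P : Subgroup G) : Set G) := by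
      rw [← eq_zpowers_of_prime_sylow hP hx' hx1, centralizer_zpowers_eq,
        Subgroup.mem_centralizer_singleton_iff]
      have hcm := Subgroup.mem_centralizer_singleton_iff.mp x.2
      simp only [mul_assoc, inv_mul_cancel_left]
      rw [← mul_assoc s, ← mul_assoc (x : G), hcm]
    rw [hC] at hmemC
    have h4 := (P : Subgroup G).orderOf_dvd_natCard hmemC
    rw [show Nat.card (P : Subgroup G) = p from hP, ← MulAut.conj_apply, MulEquiv.orderOf_eq, hso,
      Nat.prime_dvd_prime_iff_eq Nat.prime_two hp] at h4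
    omega
  -- the values at `s`
  choose u du hu hdu hpar hle using fun χ : IrrCharacter G =>
    invol_facts (irr_isCharacter χ.2) hss
  obtain rfl : du = fun χ : IrrCharacter G => charDegree (χ : G → ℂ) := funext fun χ => by
    exact_mod_cast (hdu χ).symm.trans (hval χ)
  simp only at hdu hpar hle
  -- the class algebra
  set F : G → ℂ := conv (classInd s) (classInd s) with hF
  have hclI : IsClassFunction G (classInd s : G → ℂ) := (intClassFun_classInd (pmod_prime hM) s).1
  have hclF : IsClassFunction G F := isClassFunction_conv hclI hclI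
  have hlam : ∀ χ : IrrCharacter G, lam (χ : G → ℂ) (classInd s) =
      (K : ℂ) * (u χ : ℂ) / (χ : G → ℂ) 1 := fun χ => by
    rw [lam, ← hu]
    simp only [classInd, ite_mul, one_mul, zero_mul, ← Finset.sum_filter]
    rw [Finset.sum_congr rfl (g := fun _ => (χ : G → ℂ) s) fun x hx => ?_, Finset.sum_const,
      nsmul_eq_mul, hK, Nat.card_eq_fintype_card, Fintype.card_subtype]
    obtain ⟨c, rfl⟩ := isConj_iff.mp (Finset.mem_filter.mp hx).2
    rw [isClassFunction_character (irr_isCharacter χ.2)]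
  have hin : ∀ χ : IrrCharacter G, classInner F (χ : G → ℂ) =
      ((Nat.card G : ℂ)⁻¹ * (K : ℂ) ^ 2) * ((u χ : ℂ) ^ 2 / (χ : G → ℂ) 1) := fun χ => by
    have hreal : ∀ g, conj (F g) = F g := fun g => by
      simp only [hF, conv, map_sum, map_mul, classInd, apply_ite conj, map_one, map_zero]
    have h1 : lam (χ : G → ℂ) F = ((K : ℂ) * (u χ : ℂ) / (χ : G → ℂ) 1) ^ 2 := by
      rw [hF, lam_conv χ.2 hclI hclI, hlam, pow_two]
    rw [lam, div_eq_iff (irr_one_ne_zero χ.2)] at h1
    have h2' : ∑ g : G, F g * conj ((χ : G → ℂ) g) = conj (∑ g : G, F g * (χ : G → ℂ) g) := by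
      rw [map_sum]
      simp only [map_mul, hreal]
    rw [classInner, h2', h1, hval]
    simp only [map_mul, map_pow, map_div₀, map_natCast, map_intCast]
    have hq0 : (charDegree (χ : G → ℂ) : ℂ) ≠ 0 := Nat.cast_ne_zero.mpr (hdpos χ).ne'
    field_simp
  -- the number of factorisations
  obtain ⟨r, hr, hFr⟩ : ∃ r : ℤ, (r = 0 ∨ r = p) ∧ F (y : G) = (r : ℂ) := by
    set T' := Finset.univ.filter fun g : G => IsConj s g ∧ IsConj s (g⁻¹ * (y : G)) with hT'
    have hcount : F (y : G) = (T'.card : ℂ) := by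
      simp only [hF, conv, classInd, hT', Finset.natCast_card_filter]
      refine Finset.sum_congr rfl fun g _ => ?_
      by_cases h1 : IsConj s g <;> by_cases h3 : IsConj s (g⁻¹ * (y : G)) <;>
        simp only [h1, h3, if_true, if_false, mul_one, mul_zero, and_self, false_and, and_false]
    rcases T'.eq_empty_or_nonempty with hT | ⟨g, hg⟩
    · exact ⟨0, Or.inl rfl, by rw [hcount, hT]; simp⟩
    refine ⟨p, Or.inr rfl, ?_⟩
    rw [hcount]
    suffices T'.card = p by rw [this]; simp
    have hinvol : ∀ x : G, IsConj s x → x * x = 1 := fun x hx => by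
      obtain ⟨c, rfl⟩ := isConj_iff.mp hx
      rw [← pow_two, conj_pow, hss, mul_one, mul_inv_cancel]
    have hkey : ∀ x ∈ T', x * (y : G) * x⁻¹ = (y : G)⁻¹ ∧ x⁻¹ = x := by
      intro x hx
      obtain ⟨-, h1, h3⟩ := Finset.mem_filter.mp hx
      have hxi : x⁻¹ = x := inv_eq_of_mul_eq_one_right (hinvol x h1)
      have h5 : (x⁻¹ * (y : G))⁻¹ = x⁻¹ * (y : G) := inv_eq_of_mul_eq_one_right (hinvol _ h3)
      rw [mul_inv_rev, inv_inv] at h5
      refine ⟨?_, hxi⟩
      rw [hxi] at h5 ⊢
      calc x * (y : G) * x = (y : G)⁻¹ * x * x := by rw [h5]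
        _ = (y : G)⁻¹ := by rw [mul_assoc, hinvol x h1, mul_one]
    obtain ⟨hgy, hgi⟩ := hkey g hg
    obtain ⟨-, hgs, hgy'⟩ := Finset.mem_filter.mp hg
    have hinv : ∀ w ∈ (P : Subgroup G), g * w * g⁻¹ = w⁻¹ := by
      intro w hw
      rw [← hzp] at hw
      obtain ⟨i, rfl⟩ := Subgroup.mem_zpowers_iff.mp hw
      rw [← conj_zpow, hgy, inv_zpow]
    have hsq : ∀ w ∈ (P : Subgroup G), ∃ z ∈ (P : Subgroup G), w = z⁻¹ * z⁻¹ := by
      intro w hw
      obtain ⟨j, hj⟩ : Odd p := hp.odd_of_ne_two (by omega)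
      refine ⟨(w ^ (j + 1))⁻¹, inv_mem (pow_mem hw _), ?_⟩
      rw [inv_inv, ← pow_add, show j + 1 + (j + 1) = p + 1 by omega, pow_succ]
      have : w ^ p = 1 := by
        rw [← orderOf_dvd_iff_pow_eq_one, ← hP]
        exact (P : Subgroup G).orderOf_dvd_natCard hw
      rw [this, one_mul]
    have hmemT : ∀ w ∈ (P : Subgroup G), g * w ∈ T' := by
      intro w hw
      obtain ⟨z, hz, rfl⟩ := hsq w hw
      have hgz' : g * z⁻¹ = z * g := by
        have h6 := hinv z⁻¹ (inv_mem hz)
        rw [inv_inv] at h6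
        exact mul_inv_eq_iff_eq_mul.mp h6
      have e1 : g * (z⁻¹ * z⁻¹) = z * g * z⁻¹ := by rw [← mul_assoc, hgz']
      have hzy : z * (y : G) * z⁻¹ = (y : G) := by
        have : z ∈ Subgroup.centralizer ({(y : G)} : Set G) := hCy.symm ▸ hz
        rw [Subgroup.mem_centralizer_singleton_iff.mp this, mul_inv_cancel_right]
      refine Finset.mem_filter.mpr ⟨Finset.mem_univ _, ?_, ?_⟩
      · rw [e1]
        exact hgs.trans (isConj_iff.mpr ⟨z, rfl⟩)
      · rw [e1]
        refine hgy'.trans (isConj_iff.mpr ⟨z, ?_⟩)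
        conv_rhs => rw [← hzy]
        group
    have hTimage : T' = ((Finset.univ : Finset ↥(P : Subgroup G)).image fun w : ↥(P : Subgroup G) => g * (w : G)) := by
      ext x
      constructor
      · intro hx
        obtain ⟨hxy, hxi⟩ := hkey x hx
        have hc' : g⁻¹ * x ∈ (P : Subgroup G) := by
          rw [← hCy, Subgroup.mem_centralizer_singleton_iff]
          have h3 : x * (y : G) = (y : G)⁻¹ * x := mul_inv_eq_iff_eq_mul.mp hxy
          have h4 : g⁻¹ * (y : G)⁻¹ = (y : G) * g⁻¹ := by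
            rw [← hgy]; group
          rw [mul_assoc, h3, ← mul_assoc, h4, mul_assoc]
        exact Finset.mem_image.mpr ⟨⟨_, hc'⟩, Finset.mem_univ _, mul_inv_cancel_left g x⟩
      · intro hx
        obtain ⟨w, -, rfl⟩ := Finset.mem_image.mp hx
        exact hmemT w w.2
    rw [hTimage, Finset.card_image_of_injective _ fun w₁ w₂ h' => Subtype.ext (mul_left_cancel h'),
      Finset.card_univ, ← Nat.card_eq_fintype_card]
    exact hP
  -- the items
  set ε : IrrCharacter G → ℤ := fun χ => if χ ∈ X then a χ else -δ with hε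
  set B : Finset (IrrCharacter G) := insert θ X
  have hεs : ∀ χ, χ ∈ B → ε χ = 1 ∨ ε χ = -1 := by
    intro χ _
    simp only [hε]
    split_ifs with hχ
    · exact h.a_sign χ hχ
    · rcases h.sign with e1 | e1 <;> simp [e1]
  have hBone : oneChar ∈ B := hor.elim (fun h' => Finset.mem_insert_of_mem h')
    fun h' => h' ▸ Finset.mem_insert_self _ _
  have hεone : ε oneChar = 1 := by
    simp only [hε]
    split_ifs with h1X
    · have h3 := h.a_congr _ h1X
      rw [charDegree_oneChar] at h3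
      rcases h.a_sign _ h1X with e1 | e1
      · exact e1
      · exfalso
        rw [e1] at h3
        have h4 := Int.dvd_neg.mpr (Int.modEq_iff_dvd.mp h3)
        have := Int.le_of_dvd (by norm_num) h4
        omega
    · obtain rfl := hor.resolve_left h1X
      have h3 := h.congrY _ hθ
      rw [charDegree_oneChar] at h3
      rcases h.sign with e1 | e1 <;> rw [e1] at h3 ⊢
      · exfalso
        have h4 := Int.modEq_iff_dvd.mp h3
        rcases eq_or_ne e 1 with rfl | he1
        · have hlt : Nat.card P < Nat.card G := by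
            rcases lt_or_eq_of_le (Subgroup.card_le_card_group (P : Subgroup G)) with h6 | h6
            · exact h6
            · exfalso
              have h7 := h2
              rw [← hN, ← h6, show Nat.card (P : Subgroup G) = p from hP,
                Nat.prime_dvd_prime_iff_eq Nat.prime_two hp] at h7
              omega
          exact Small.SmallOrders.false_of_central P (lt_of_lt_of_eq hp.one_lt hP.symm) hlt
            (Subgroup.relIndex_eq_one.mp he)
        · have := Int.le_of_dvd (by omega) h4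
          omega
      · norm_num
  set f : IrrCharacter G → ℤ × ℤ :=
    fun χ => (ε χ * (charDegree (χ : G → ℂ) : ℤ), ε χ * u χ) with hf
  have huone : u oneChar = 1 := by
    have := hu oneChar
    simp only [oneChar] at this
    exact_mod_cast this.symm
  have hf1 : f oneChar = (1, 1) := by
    simp [hf, hεone, charDegree_oneChar, huone]
  have hθε : ε θ = -δ := by simp [hε, hθX]
  have hsplit : ∀ φ : IrrCharacter G → ℂ, ∑ χ ∈ B, (ε χ : ℂ) * φ χ =
      (∑ χ ∈ X, (a χ : ℂ) * φ χ) - (δ : ℂ) * φ θ := by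
    intro φ
    rw [Finset.sum_insert hθX, hθε, Finset.sum_congr rfl fun χ hχ => by
      rw [show ε χ = a χ by simp [hε, hχ]]]
    push_cast
    ring
  have hSD : ∑ χ ∈ B, (f χ).1 = 0 := by
    have := hsplit fun χ => (χ : G → ℂ) 1
    rw [← hrel1, sub_self] at this
    simp only [hval] at this
    exact_mod_cast this
  have hSZ : ∑ χ ∈ B, (f χ).2 = 0 := by
    have := hsplit fun χ => (χ : G → ℂ) s
    rw [← h.rel θ hθ s hsp, sub_self] at this
    simp only [hu] at this
    exact_mod_cast this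
  have hDN : ∀ χ ∈ B, (f χ).1 ∣ (N : ℤ) := fun χ hχ => by
    simp only [hf]
    rcases hεs χ hχ with e1 | e1 <;> simp [e1, Int.natCast_dvd_natCast.mpr (hdvd χ)]
  have hSB : (K : ℤ) * K * ∑ χ ∈ B, (f χ).2 * (f χ).2 * ((N : ℤ) / (f χ).1) = r * N * N := by
    have h5 := classFun_expansion hclF
    have h6 : F (y : G) = ∑ χ : IrrCharacter G, classInner F (χ : G → ℂ) * (χ : G → ℂ) (y : G) := by
      conv_lhs => rw [h5]
      simp [Finset.sum_apply]
    rw [← Finset.sum_subset (Finset.subset_univ (X ∪ Y)) fun χ _ hχ => by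
        rw [hvan' χ hχ, mul_zero],
      Finset.sum_union h.disj, hFr] at h6
    have hXs : ∑ χ ∈ X, classInner F (χ : G → ℂ) * (χ : G → ℂ) (y : G) =
        ((Nat.card G : ℂ)⁻¹ * (K : ℂ) ^ 2) *
          ∑ χ ∈ X, (a χ : ℂ) * ((u χ : ℂ) ^ 2 / (χ : G → ℂ) 1) := by
      rw [Finset.mul_sum]
      refine Finset.sum_congr rfl fun χ hχ => ?_
      rw [hin, h.a_val χ hχ y hy]
      ring
    have hYs : ∑ χ ∈ Y, classInner F (χ : G → ℂ) * (χ : G → ℂ) (y : G) =
        ((Nat.card G : ℂ)⁻¹ * (K : ℂ) ^ 2) *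
          (-(δ : ℂ) * ((u θ : ℂ) ^ 2 / (θ : G → ℂ) 1)) := by
      have hterm : ∀ χ ∈ Y, classInner F (χ : G → ℂ) * (χ : G → ℂ) (y : G) =
          ((Nat.card G : ℂ)⁻¹ * (K : ℂ) ^ 2) *
            ((u θ : ℂ) ^ 2 / (θ : G → ℂ) 1) * (χ : G → ℂ) (y : G) := fun χ hχ => by
        have hu' := h.regY χ hχ θ hθ s hsp
        rw [hu, hu] at hu'
        rw [hin, hdegY χ hχ, hu']
      rw [Finset.sum_congr rfl hterm, ← Finset.mul_sum, hS]
      ring
    rw [hXs, hYs, ← mul_add] at h6
    have h7 : (N : ℂ) * r = (K : ℂ) ^ 2 *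
        ∑ χ ∈ B, (ε χ : ℂ) * ((u χ : ℂ) ^ 2 / (χ : G → ℂ) 1) := by
      rw [hsplit, h6, hN, ← mul_assoc, ← mul_assoc,
        mul_inv_cancel₀ (Nat.cast_ne_zero.mpr hN0)]
      ring
    have h8 : ∀ χ ∈ B, (((f χ).2 * (f χ).2 * ((N : ℤ) / (f χ).1) : ℤ) : ℂ) =
        (N : ℂ) * ((ε χ : ℂ) * ((u χ : ℂ) ^ 2 / (χ : G → ℂ) 1)) := by
      intro χ hχ
      have hd0 : ((charDegree (χ : G → ℂ) : ℂ)) ≠ 0 := Nat.cast_ne_zero.mpr (hdpos χ).ne'
      rw [Int.cast_mul, Int.cast_div (hDN χ hχ) (by
        simp only [hf]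
        rcases hεs χ hχ with e1 | e1 <;> simp [e1, hd0])]
      simp only [hf, hval]
      rcases hεs χ hχ with e1 | e1 <;> rw [e1] <;> push_cast <;> field_simp
    have h9 : (((K : ℤ) * K * ∑ χ ∈ B, (f χ).2 * (f χ).2 * ((N : ℤ) / (f χ).1) : ℤ) : ℂ) =
        ((r * N * N : ℤ) : ℂ) := by
      rw [Int.cast_mul, Int.cast_sum, Finset.sum_congr rfl h8, ← Finset.mul_sum]
      push_cast
      linear_combination (-(N : ℂ)) * h7
    exact_mod_cast h9
  have hQ : ∑ χ ∈ B, (f χ).2.natAbs ^ 2 ≤ N / K := by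
    have hKpos : 0 < K := Nat.pos_of_ne_zero fun h0 => by
      rw [h0, zero_mul] at hKc; exact hN0 hKc.symm
    rw [show N / K = Nat.card Cs by rw [← hKc, Nat.mul_div_cancel_left _ hKpos]]
    have h5 := Finset.sum_le_univ_sum_of_nonneg (s := B)
      (f := fun χ : IrrCharacter G => Complex.normSq ((χ : G → ℂ) s))
      (fun χ => Complex.normSq_nonneg _)
    rw [sum_normSq_all, ← hCs] at h5
    have h6 : ((∑ χ ∈ B, (f χ).2.natAbs ^ 2 : ℕ) : ℝ) = ∑ χ ∈ B, Complex.normSq ((χ : G → ℂ) s) := by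
      rw [Nat.cast_sum]
      refine Finset.sum_congr rfl fun χ hχ => ?_
      have h7 : (f χ).2.natAbs = (u χ).natAbs := by
        simp only [hf]
        rcases hεs χ hχ with e1 | e1 <;> simp [e1]
      rw [h7, hu, Complex.normSq_intCast, Nat.cast_pow, Nat.cast_natAbs, Int.cast_abs, sq_abs,
        pow_two]
    rw [← h6] at h5
    exact_mod_cast h5
  have hitem : ∀ χ ∈ B.erase oneChar, f χ ∈ items N p e K := by
    intro χ hχ
    obtain ⟨hne, hχB⟩ := Finset.mem_erase.mp hχ
    have h1d : 1 < charDegree (χ : G → ℂ) := one_lt_degree hna hne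
    have hne' : u χ ≠ (charDegree (χ : G → ℂ) : ℤ) := fun e1 => by
      have h3 : s = 1 := faithful hne (by omega) s (by rw [hu, e1, hval]; simp)
      rw [h3, orderOf_one] at hso
      omega
    have hmod : ((ε χ * (charDegree (χ : G → ℂ) : ℤ)) - 1) % (p : ℤ) = 0 ∨
        ((ε χ * (charDegree (χ : G → ℂ) : ℤ)) + (e : ℤ)) % (p : ℤ) = 0 := by
      simp only [hε]
      split_ifs with hX'
      · left
        have h2' := (h.a_congr χ hX').mul_left (a χ)
        rw [show a χ * a χ = 1 by rcases h.a_sign χ hX' with e1 | e1 <;> simp [e1]] at h2'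
        exact Int.emod_eq_zero_of_dvd (Int.modEq_iff_dvd.mp h2'.symm)
      · right
        obtain rfl : χ = θ := (Finset.mem_insert.mp hχB).resolve_right hX'
        have h2' := (h.congrY _ hθ).mul_left (-δ)
        rw [show -δ * (δ * (e : ℤ)) = -(e : ℤ) by
          rcases h.sign with e1 | e1 <;> simp [e1]] at h2'
        have h4 := Int.modEq_iff_dvd.mp h2'.symm
        rw [sub_neg_eq_add] at h4
        exact Int.emod_eq_zero_of_dvd h4
    have hint : (charDegree (χ : G → ℂ) : ℤ) ∣ (K : ℤ) * u χ := by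
      have h3 := omega_isIntegral χ.2 s
      rw [omega, hu, hval] at h3
      obtain ⟨z, hz⟩ := isIntegral_rat_cast_imp
        (q := (K : ℚ) * u χ / charDegree (χ : G → ℂ)) (by push_cast; exact h3)
      have hd0 : (charDegree (χ : G → ℂ) : ℚ) ≠ 0 := Nat.cast_ne_zero.mpr (hdpos χ).ne'
      rw [eq_div_iff hd0] at hz
      refine ⟨z, ?_⟩
      have h5 : (K : ℤ) * u χ = z * charDegree (χ : G → ℂ) := by exact_mod_cast hz.symm
      rw [h5, mul_comm]
    have hu0 : (u χ).natAbs ^ 2 ≤ N / K := by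
      have h3 := Finset.single_le_sum (f := fun χ => (f χ).2.natAbs ^ 2) (fun _ _ => Nat.zero_le _)
        hχB
      have h7 : (f χ).2.natAbs = (u χ).natAbs := by
        simp only [hf]
        rcases hεs χ hχB with e1 | e1 <;> simp [e1]
      rw [h7] at h3
      exact h3.trans hQ
    have hu2 : (u χ).natAbs ≤ DegreeSearch.root (N / K) := by
      by_contra h3
      have h4 : DegreeSearch.root (N / K) + 1 ≤ (u χ).natAbs := by omega
      have h5 := Nat.mul_le_mul h4 h4
      rw [← pow_two (u χ).natAbs] at h5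
      exact absurd (DegreeSearch.lt_root_sq (N / K)) (not_lt.mpr (h5.trans hu0))
    simp only [items, List.mem_flatMap, List.mem_map, List.mem_filter, List.mem_range,
      decide_eq_true_eq, degs, hf]
    have hmin : (u χ).natAbs ≤ Nat.min (charDegree (χ : G → ℂ)) (DegreeSearch.root (N / K)) :=
      le_min (hle χ) hu2
    refine ⟨_, ⟨charDegree (χ : G → ℂ), ⟨DegreeSearch.mem_divs hN0 (hdvd χ), h1d⟩, ?_, hmod⟩, ε χ * u χ, ⟨?_, ?_, ?_, ?_, ?_⟩, rfl⟩
    · rcases hεs χ hχB with e1 | e1 <;> simp [e1]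
    · have hnabs : (ε χ * (charDegree (χ : G → ℂ) : ℤ)).natAbs = charDegree (χ : G → ℂ) := by
        rcases hεs χ hχB with e1 | e1 <;> simp [e1]
      rw [hnabs]
      set m := Nat.min (charDegree (χ : G → ℂ)) (DegreeSearch.root (N / K))
      refine ⟨(ε χ * u χ + m).toNat, ?_, ?_⟩ <;>
        rcases hεs χ hχB with e1 | e1 <;> rw [e1] <;> omega
    · rw [show (ε χ * u χ).natAbs = (u χ).natAbs by
        rcases hεs χ hχB with e1 | e1 <;> simp [e1]]
      exact hu0
    · rcases hεs χ hχB with e1 | e1 <;> rw [e1] <;> omega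
    · have := hpar χ
      rcases hεs χ hχB with e1 | e1 <;> rw [e1] <;> omega
    · rw [mul_left_comm]
      exact Int.emod_eq_zero_of_dvd (mul_dvd_mul_left _ hint)
  have hcK := List.all_eq_true.mp hc K
    (hKs K ⟨Nat.card Cs, hKc.symm⟩ hK2 hKp)
  rw [← Finset.add_sum_erase B _ hBone, hf1] at hQ
  simp only [Int.natAbs_one, one_pow] at hQ
  have hL := search_sound (items N p e K) e 1 1 1 (N : ℤ) (B.erase oneChar) hitem
    (by rw [Finset.card_erase_of_mem hBone, Finset.card_insert_of_notMem hθX, h.cardX,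
      Nat.add_sub_cancel]) hcK hQ
  rw [← Finset.add_sum_erase B _ hBone, hf1] at hSD hSZ hSB
  simp only [Int.ediv_one, one_mul] at hSB
  rw [Bool.not_eq_true', decide_eq_false_iff_not] at hL
  refine hL ⟨hSD, hSZ, ?_⟩
  rcases hr with rfl | rfl
  · left; rw [hSB]; ring
  · right; rw [hSB]

end Cfsg.Agent.Small.InvolutionSearch
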