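import Cfsg.Agent.Lib.Small.DegreeSearch
import Cfsg.Agent.Lib.Char.FrobSylowSections

/-!
# No simple group of order 5040
-/

set_option autoImplicit false

namespace Cfsg.Agent.Small.Order5040

open Cfsg Cfsg.Agent.Char Cfsg.Agent.Lead.BlockDeg Cfsg.Agent.Small.Order459648
open scoped Pointwise

universe u

variable {G : Type u} [Group G] [Fintype G]

theorem card_centralizer {p : ℕ} [Fact p.Prime] (P : Sylow p G) {e : ℕ}
    (he : (Subgroup.centralizer ((P : Subgroup G) : Set G)).relIndex
      (Subgroup.normalizer ((P : Subgroup G) : Set G)) = e) :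
    Nat.card (Sylow p G) * (Nat.card (Subgroup.centralizer ((P : Subgroup G) : Set G)) * e) =
      Nat.card G := by
  set C := Subgroup.centralizer ((P : Subgroup G) : Set G)
  rw [← he, ← Small.SmallOrders.card_normalizer P, Subgroup.relIndex,
    ← Subgroup.card_mul_index (C.subgroupOf (Subgroup.normalizer ((P : Subgroup G) : Set G))),
    Nat.card_congr
      (Subgroup.subgroupOfEquivOfLe (Subgroup.centralizer_le_normalizer _)).toEquiv]

/-- With a self-centralising Sylow subgroup of prime order and automiser of order `p - 1`, every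
degree is `≡ 0, ±1` modulo `p`. -/
theorem degree_mod {p : ℕ} [Fact p.Prime] (P : Sylow p G) (hP : Nat.card P = p) (hp2 : 2 < p)
    (he : (Subgroup.centralizer ((P : Subgroup G) : Set G)).relIndex
      (Subgroup.normalizer ((P : Subgroup G) : Set G)) = p - 1)
    (hC : Nat.card (Subgroup.centralizer ((P : Subgroup G) : Set G)) = p) (χ : IrrCharacter G) :
    charDegree (χ : G → ℂ) % p = 0 ∨ charDegree (χ : G → ℂ) % p = 1 ∨
      charDegree (χ : G → ℂ) % p = p - 1 := by
  classical
  have hp : p.Prime := Fact.out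
  obtain ⟨M, hM⟩ := exists_pModular hp
  obtain ⟨X, Y, a, δ, h⟩ := exists_prime_principal hM hP he
  have key : ∀ d : ℕ, ((d : ℤ) ≡ 1 [ZMOD p] → d % p = 1) ∧
      ((d : ℤ) ≡ -1 [ZMOD p] → d % p = p - 1) := by
    intro d
    refine ⟨fun h1 => ?_, fun h1 => ?_⟩
    · rw [Int.ModEq, Int.emod_eq_of_lt (by norm_num : (0 : ℤ) ≤ 1) (by omega)] at h1
      omega
    · have h2 : (d : ℤ) ≡ ((p - 1 : ℕ) : ℤ) [ZMOD p] := by
        refine h1.trans (Int.modEq_iff_dvd.mpr ⟨1, ?_⟩)
        omega
      rw [Int.ModEq, Int.emod_eq_of_lt (a := ((p - 1 : ℕ) : ℤ)) (by omega) (by omega)] at h2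
      omega
  by_cases hX : χ ∈ X
  · rcases h.a_sign χ hX with e1 | e1
    · exact Or.inr (Or.inl ((key _).1 (e1 ▸ h.a_congr χ hX)))
    · exact Or.inr (Or.inr ((key _).2 (e1 ▸ h.a_congr χ hX)))
  by_cases hY : χ ∈ Y
  · have h1 := h.congrY χ hY
    have h2 : δ * ((p - 1 : ℕ) : ℤ) ≡ -δ [ZMOD p] :=
      Int.modEq_iff_dvd.mpr ⟨-δ, by
        rw [Nat.cast_sub hp.one_le]
        ring⟩
    have h3 := h1.trans h2
    rcases h.sign with e1 | e1 <;> rw [e1] at h3
    · exact Or.inr (Or.inr ((key _).2 h3))
    · rw [neg_neg] at h3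
      exact Or.inr (Or.inl ((key _).1 h3))
  -- outside the principal block the character vanishes on `P`
  left
  have hχ : χ ∉ principalBlock M G := fun h' => by
    rcases (h.mem_iff χ).mp h' with h'' | h''
    · exact hX h''
    · exact hY h''
  have hfrob : FrobSylow P (p - 1) := he ▸ frobSylow_of_prime hP
  have hPC : (P : Subgroup G) = Subgroup.centralizer ((P : Subgroup G) : Set G) := by
    refine Subgroup.eq_of_le_of_card_ge ?_ (le_of_eq (hC.trans hP.symm))
    intro g hg
    rw [Subgroup.mem_centralizer_iff]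
    intro b hb
    haveI : IsCyclic ↥(P : Subgroup G) := isCyclic_of_prime_card hP
    exact congrArg Subtype.val (IsCyclic.commutative.is_comm.comm
      (⟨b, hb⟩ : ↥(P : Subgroup G)) ⟨g, hg⟩)
  have hzero : ∀ y : ↥(P : Subgroup G), (y : G) ≠ 1 → (χ : G → ℂ) (y : G) = 0 := by
    intro y hy1
    have h0 := hfrob.nonprincipal_sum_zero hM hχ hy1
    rw [Finset.sum_eq_single (1 : Subgroup.centralizer ({(y : G)} : Set G))] at h0
    · simpa using h0
    · intro v hv hv1
      exfalso
      have hCy : Subgroup.centralizer ({(y : G)} : Set G) = (P : Subgroup G) := by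
        rw [← centralizer_zpowers_eq, eq_zpowers_of_prime_sylow hP y.2 hy1, ← hPC]
      have hvP : (v : G) ∈ (P : Subgroup G) := (SetLike.ext_iff.mp hCy _).mp v.2
      have h2 := (P : Subgroup G).orderOf_dvd_natCard hvP
      rw [show Nat.card (P : Subgroup G) = p from hP] at h2
      have h3 : orderOf (v : G) = p :=
        ((Nat.dvd_prime hp).mp h2).resolve_left
          fun h4 => hv1 (Subtype.ext (orderOf_eq_one_iff.mp h4))
      rw [Subgroup.orderOf_coe] at h3
      exact (Finset.mem_filter.mp hv).2 (dvd_of_eq h3.symm)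
    · intro h1
      exact absurd (Finset.mem_filter.mpr ⟨Finset.mem_univ _, by simp [hp.ne_one]⟩) h1
  obtain ⟨k, hk⟩ := exists_sum_on_sylow (P := P) χ
  rw [Finset.sum_eq_single (1 : ↥(P : Subgroup G)), OneMemClass.coe_one, hP,
    char_one_eq_deg (irr_isCharacter χ.2)] at hk
  · have : charDegree (χ : G → ℂ) = p * k := by exact_mod_cast hk
    rw [this, Nat.mul_mod_right]
  · exact fun y _ hy => hzero y fun e1 => hy (Subtype.ext e1)
  · simp

theorem false_of_card [IsSimpleGroup G] (hG : Nat.card G = 5040) : False := by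
  classical
  haveI : Fact (Nat.Prime 7) := ⟨by norm_num⟩
  haveI : Fact (Nat.Prime 5) := ⟨by norm_num⟩
  haveI : Fact (Nat.Prime 3) := ⟨by norm_num⟩
  have hna : ¬ IsMulCommutative G :=
    not_comm (p := 7) (m := 720) (by norm_num) (by rw [hG]) (by norm_num)
  obtain ⟨P, e, hP, ⟨hn1, hn2, hn3⟩, he, he1, he2, he3⟩ :=
    sylow_data (p := 7) (m := 720) (G := G) (by rw [hG]) (by norm_num) (by norm_num)
  set n := Nat.card (Sylow 7 G) with hn
  have hC := card_centralizer P he
  rw [← hn, hG] at hC
  have key : ∀ n ∈ DegreeSearch.divs 720, n % 7 = 1 → n ≠ 1 → ∀ e ∈ List.range 7, e ≠ 1 →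
      6 % e = 0 → 720 % (n * e) = 0 →
      DegreeSearch.check 5040 7 n e = true ∨ (n = 15 ∧ e = 2) ∨ (n = 120 ∧ e = 2) ∨
        (n = 120 ∧ e = 6) := by decide +kernel
  have he6 : e ≤ 6 := Nat.le_of_dvd (by norm_num) he1
  have hn720 : n ≤ 720 := Nat.le_of_dvd (by norm_num) hn1
  rcases key n (DegreeSearch.mem_divs (by norm_num) hn1) hn2 hn3 e (List.mem_range.mpr (by omega))
    he2 (Nat.mod_eq_zero_of_dvd he1) (Nat.mod_eq_zero_of_dvd he3) with
    hc | ⟨hn15, rfl⟩ | ⟨hn120, rfl⟩ | ⟨hn120, rfl⟩
  · exact DegreeSearch.false_of_check hna (by norm_num) P hP he he1 he2 hG rfl hc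
  · -- fifteen Sylow subgroups: an element of order three in the centraliser fixes all of them
    rw [hn15] at hC
    obtain ⟨v, hv⟩ := exists_prime_orderOf_dvd_card'
      (G := Subgroup.centralizer ((P : Subgroup G) : Set G)) 3 (by omega)
    have hv3 : orderOf (v : G) = 3 := by rw [Subgroup.orderOf_coe, hv]
    obtain ⟨y, hy⟩ := exists_prime_orderOf_dvd_card' (G := ↥(P : Subgroup G)) 7 (by rw [hP])
    have hy7 : orderOf (y : G) = 7 := by rw [Subgroup.orderOf_coe, hy]
    have hvy : (v : G) * (y : G) = (y : G) * (v : G) :=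
      (Subgroup.mem_centralizer_iff.mp v.2 _ y.2).symm
    haveI : Fintype (Sylow 7 G) := Fintype.ofFinite _
    set φ := MulAction.toPermHom G (Sylow 7 G)
    set σ := φ (v : G)
    set F := (Finset.univ : Finset (Sylow 7 G)).filter fun Q => (v : G) • Q = Q
    have hσ : σ ^ 3 ^ 1 = 1 := by rw [pow_one, ← map_pow, ← hv3, pow_orderOf_eq_one, map_one]
    have h3 := Equiv.Perm.card_compl_support_modEq hσ
    have hF : σ.supportᶜ = F := by
      ext Q
      simp [F, σ, φ]
    rw [hF, ← Nat.card_eq_fintype_card, ← hn, hn15] at h3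
    -- `y` acts on `F` and fixes only `P`
    have hmem : ∀ Q : {Q // Q ∈ F}, (y : G) • (Q : Sylow 7 G) ∈ F := fun Q => by
      have hQ := (Finset.mem_filter.mp Q.2).2
      exact Finset.mem_filter.mpr ⟨Finset.mem_univ _, by rw [smul_smul, hvy, ← smul_smul, hQ]⟩
    set f : Function.End {Q // Q ∈ F} := fun Q => ⟨(y : G) • (Q : Sylow 7 G), hmem Q⟩
    have hiter : ∀ (i : ℕ) (Q : {Q // Q ∈ F}),
        ((f ^ i) Q : Sylow 7 G) = (y : G) ^ i • (Q : Sylow 7 G) := by
      intro i
      induction i with
      | zero => intro Q; rw [pow_zero, pow_zero, one_smul]; rfl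
      | succ i ih =>
        intro Q
        rw [pow_succ, pow_succ, mul_smul]
        exact ih (f Q)
    have hf : f ^ 7 ^ 1 = 1 := by
      rw [pow_one]
      funext Q
      have h' : (y : G) ^ 7 = 1 := orderOf_dvd_iff_pow_eq_one.mp (dvd_of_eq hy7)
      exact Subtype.ext (by rw [hiter, h', one_smul]; rfl)
    have h7 := Equiv.Perm.card_fixedPoints_modEq hf
    have hPF : P ∈ F := Finset.mem_filter.mpr ⟨Finset.mem_univ _,
      Sylow.smul_eq_iff_mem_normalizer.mpr (Subgroup.centralizer_le_normalizer _ v.2)⟩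
    have hone : Fintype.card f.fixedPoints = 1 := by
      rw [Fintype.card_eq_one_iff]
      refine ⟨⟨⟨P, hPF⟩, Subtype.ext (Sylow.smul_eq_iff_mem_normalizer.mpr
        (Subgroup.le_normalizer y.2))⟩, fun Q => Subtype.ext (Subtype.ext ?_)⟩
      set R : Sylow 7 G := ((Q : {Q // Q ∈ F}) : Sylow 7 G)
      have h1 : (y : G) • R = R := congrArg Subtype.val Q.2
      have h2 : Subgroup.zpowers (y : G) ≤ (R : Subgroup G) := by
        rw [Subgroup.zpowers_le]
        have hpg : IsPGroup 7 (Subgroup.zpowers (y : G)) :=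
          IsPGroup.of_card (n := 1) (by rw [Nat.card_zpowers, hy7, pow_one])
        have hsup := hpg.to_sup_of_normal_right' R.isPGroup'
          (Subgroup.zpowers_le.mpr (Sylow.smul_eq_iff_mem_normalizer.mp h1))
        exact (R.is_maximal' hsup le_sup_right).le
          (Subgroup.mem_sup_left (Subgroup.mem_zpowers _))
      have hy1 : (y : G) ≠ 1 := fun e1 => by
        rw [e1, orderOf_one] at hy7
        norm_num at hy7
      rw [eq_zpowers_of_prime_sylow hP y.2 hy1] at h2
      exact Sylow.ext (P.is_maximal' R.isPGroup' h2)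
    rw [hone, Fintype.card_coe] at h7
    have hle : F.card ≤ 15 := by
      have := Finset.card_le_univ F
      rw [← Nat.card_eq_fintype_card, ← hn, hn15] at this
      exact this
    have h15 : F.card = Fintype.card (Sylow 7 G) := by
      rw [← Nat.card_eq_fintype_card, ← hn, hn15]
      have a3 : F.card % 3 = 0 := h3
      have a7 : F.card % 7 = 1 := h7
      omega
    have hker : (v : G) ∈ φ.ker := by
      refine MonoidHom.mem_ker.mpr (Equiv.ext fun Q => ?_)
      have : Q ∈ F := by rw [Finset.eq_univ_of_card F h15]; exact Finset.mem_univ _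
      exact (Finset.mem_filter.mp this).2
    rcases IsSimpleGroup.eq_bot_or_eq_top_of_normal φ.ker inferInstance with hk | hk
    · rw [hk, Subgroup.mem_bot] at hker
      rw [hker, orderOf_one] at hv3
      omega
    · have : Subsingleton (Sylow 7 G) := ⟨fun A B => by
        obtain ⟨g, hg⟩ := MulAction.exists_smul_eq G A B
        have h1 : φ g = 1 := MonoidHom.mem_ker.mp (hk ▸ Subgroup.mem_top g)
        rw [← hg]
        exact (Equiv.congr_fun h1 A).symm⟩
      exact hn3 (Nat.card_eq_one_iff_unique.mpr ⟨this, inferInstance⟩)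
  · -- 120 Sylow subgroups, centraliser of order 21
    rw [hn120] at hC
    set C := Subgroup.centralizer ((P : Subgroup G) : Set G)
    obtain ⟨w, hw⟩ := exists_prime_orderOf_dvd_card' (G := C) 3 (by omega)
    have hw3 : orderOf (w : G) = 3 := by rw [Subgroup.orderOf_coe, hw]
    set D := Subgroup.centralizer ({(w : G)} : Set G) with hD
    have hPD : (P : Subgroup G) ≤ D := fun x hx =>
      Subgroup.mem_centralizer_singleton_iff.2 (Subgroup.mem_centralizer_iff.1 w.2 x hx)
    -- a Sylow 3-subgroup is abelian of order 9, so 9 divides the order of the centraliser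
    have h9 : 9 ∣ Nat.card D := by
      obtain ⟨T, hT⟩ := (IsPGroup.of_card (n := 1) (by rw [Nat.card_zpowers, hw3, pow_one]) :
        IsPGroup 3 (Subgroup.zpowers (w : G))).exists_le_sylow
      have hTc : Nat.card T = 3 ^ 2 :=
        Small.SmallOrders.sylow_card_eq (m := 560) (by rw [hG]; norm_num) (by norm_num) T
      have hcomm := IsPGroup.isMulCommutative_of_card_eq_prime_sq (p := 3) (G := ↥(T : Subgroup G)) hTc
      have hle : (T : Subgroup G) ≤ D := fun x hx =>
        Subgroup.mem_centralizer_singleton_iff.2 (congrArg Subtype.val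
          (hcomm.is_comm.comm (⟨x, hx⟩ : ↥(T : Subgroup G)) ⟨w, hT (Subgroup.mem_zpowers _)⟩))
      have := Subgroup.card_dvd_of_le hle
      rwa [show Nat.card (T : Subgroup G) = 9 by rw [hTc]; norm_num] at this
    -- 5 does not divide it
    have h5 : ¬ 5 ∣ Nat.card D := by
      intro h5
      obtain ⟨z, hz⟩ := exists_prime_orderOf_dvd_card' 5 h5
      have hzo : orderOf (z : G) = 5 := by rw [Subgroup.orderOf_coe, hz]
      obtain ⟨Q, e5, hQ, ⟨hm1, hm2, hm3⟩, hQe, hQ1, hQ2, hQ3⟩ :=
        sylow_data (p := 5) (m := 1008) (G := G) (by rw [hG]) (by norm_num) (by norm_num)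
      obtain ⟨R, hR⟩ := (IsPGroup.of_card (n := 1) (by rw [Nat.card_zpowers, hzo, pow_one]) :
        IsPGroup 5 (Subgroup.zpowers (z : G))).exists_le_sylow
      obtain ⟨g, hg⟩ := MulAction.exists_smul_eq G R Q
      have hmem : g * (z : G) * g⁻¹ ∈ (Q : Subgroup G) := by
        rw [← hg]
        exact ⟨z, hR (Subgroup.mem_zpowers _), rfl⟩
      have hne : g * (z : G) * g⁻¹ ≠ 1 := fun h' => by
        rw [conj_eq_one_iff] at h'
        rw [h', orderOf_one] at hzo
        omega
      have hwC : g * (w : G) * g⁻¹ ∈ Subgroup.centralizer ((Q : Subgroup G) : Set G) := by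
        rw [← eq_zpowers_of_prime_sylow hQ hmem hne, centralizer_zpowers_eq,
          Subgroup.mem_centralizer_singleton_iff]
        have hcm := Subgroup.mem_centralizer_singleton_iff.mp z.2
        simp only [mul_assoc, inv_mul_cancel_left]
        rw [← mul_assoc (w : G), ← mul_assoc (z : G), hcm]
      have h3C := (Subgroup.centralizer ((Q : Subgroup G) : Set G)).orderOf_dvd_natCard hwC
      rw [← MulAut.conj_apply, MulEquiv.orderOf_eq, hw3] at h3C
      have hC5 := card_centralizer Q hQe
      rw [hG] at hC5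
      set n5 := Nat.card (Sylow 5 G)
      have key5 : ∀ n ∈ DegreeSearch.divs 1008, n % 5 = 1 → n ≠ 1 → ∀ e ∈ List.range 5, e ≠ 1 →
          4 % e = 0 → 1008 % (n * e) = 0 →
          (n < 7) ∨ DegreeSearch.check 5040 5 n e = true ∨ (n = 126 ∧ e = 4) := by decide +kernel
      rcases key5 n5 (DegreeSearch.mem_divs (by norm_num) hm1) hm2 hm3 e5
        (List.mem_range.mpr (by have := Nat.le_of_dvd (by norm_num : 0 < 5 - 1) hQ1; omega))
        hQ2 (Nat.mod_eq_zero_of_dvd hQ1) (Nat.mod_eq_zero_of_dvd hQ3) with hs | hc | ⟨h126, rfl⟩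
      · have hidx : (Subgroup.normalizer ((Q : Subgroup G) : Set G)).index = n5 :=
          (Sylow.card_eq_index_normalizer Q).symm
        have h6 := Small.SmallOrders.card_dvd_index_factorial
          (Subgroup.normalizer ((Q : Subgroup G) : Set G))
          (fun h => hm3 (by rw [← hidx, h, Subgroup.index_top]))
        rw [hidx, hG] at h6
        have := h6.trans (Nat.factorial_dvd_factorial (show n5 ≤ 6 by omega))
        norm_num [Nat.factorial] at this
      · exact DegreeSearch.false_of_check hna (by norm_num) Q hQ hQe hQ1 hQ2 hG rfl hc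
      · rw [h126] at hC5
        omega
    set Q : Sylow 7 D := P.subtype hPD
    set ND := Subgroup.normalizer ((Q : Subgroup D) : Set D)
    have hQc : Nat.card (Sylow 7 D) * Nat.card ND = Nat.card D :=
      Small.SmallOrders.card_normalizer Q
    have hND : Nat.card ND ∣ 42 := by
      have hN : Nat.card (Subgroup.normalizer ((P : Subgroup G) : Set G)) = 42 := by
        have : Nat.card (Sylow 7 G) * Nat.card (Subgroup.normalizer ((P : Subgroup G) : Set G)) =
            Nat.card G := Small.SmallOrders.card_normalizer P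
        rw [← hn, hn120, hG] at this
        omega
      rw [← hN, ← Subgroup.card_map_of_injective D.subtype_injective (K := ND)]
      refine Subgroup.card_dvd_of_le ?_
      have h := Subgroup.le_normalizer_map (H := (Q : Subgroup D)) D.subtype
      rwa [Sylow.coe_subtype, Subgroup.subgroupOf_map_subtype, inf_eq_left.mpr hPD] at h
    have hD1008 : Nat.card D ∣ 1008 := by
      refine (Nat.Coprime.dvd_of_dvd_mul_left ?_ (?_ : Nat.card D ∣ 5 * 1008))
      · exact ((Nat.Prime.coprime_iff_not_dvd (by norm_num)).mpr h5).symm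
      · have := Subgroup.card_subgroup_dvd_card D
        rwa [hG] at this
    have h21 : 21 ∣ Nat.card ND := by
      refine (Nat.Coprime.mul_dvd_of_dvd_of_dvd (m := 7) (n := 3) (by norm_num) ?_ ?_ :)
      · have h := Subgroup.card_dvd_of_le (Subgroup.le_normalizer (H := (Q : Subgroup D)))
        rwa [show Nat.card (Q : Subgroup D) = 7 by
          rw [Sylow.coe_subtype, Nat.card_congr (Subgroup.subgroupOfEquivOfLe hPD).toEquiv]
          exact hP] at h
      · have hwD : (w : G) ∈ D := Subgroup.mem_centralizer_singleton_iff.2 rfl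
        have hwN : (⟨(w : G), hwD⟩ : D) ∈ ND := by
          refine Subgroup.centralizer_le_normalizer _ ?_
          rw [Subgroup.mem_centralizer_iff]
          intro z hz
          exact Subtype.ext (Subgroup.mem_centralizer_iff.1 w.2 z hz)
        rw [← hw3, show orderOf (w : G) = orderOf (⟨_, hwD⟩ : D) from
          (Subgroup.orderOf_mk _ hwD).symm, ← Subgroup.orderOf_mk _ hwN]
        exact orderOf_dvd_natCard _
    have key2 : ∀ d ∈ DegreeSearch.divs 1008, d % 7 = 1 → ∀ k ∈ DegreeSearch.divs 42, k % 21 = 0 →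
        1008 % (d * k) = 0 → (d * k) % 63 = 0 → False := by decide +kernel
    have h7 : 7 ∣ Nat.card D := by
      have := Subgroup.card_dvd_of_le hPD
      rwa [show Nat.card (P : Subgroup G) = 7 from hP] at this
    refine key2 _ (DegreeSearch.mem_divs (by norm_num) ((Dvd.intro _ hQc).trans hD1008))
      (card_sylow_modEq_one 7 D) _ (DegreeSearch.mem_divs (by norm_num) hND)
      (Nat.mod_eq_zero_of_dvd h21) ?_ ?_
    · rw [hQc]; exact Nat.mod_eq_zero_of_dvd hD1008
    · rw [hQc]
      exact Nat.mod_eq_zero_of_dvd (Nat.Coprime.mul_dvd_of_dvd_of_dvd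
        (show Nat.Coprime 9 7 by norm_num) h9 h7)
  · -- self-centralising, automiser of order six: use the prime five
    rw [hn120] at hC
    obtain ⟨Q, e5, hQ, ⟨hm1, hm2, hm3⟩, hQe, hQ1, hQ2, hQ3⟩ :=
      sylow_data (p := 5) (m := 1008) (G := G) (by rw [hG]) (by norm_num) (by norm_num)
    set n5 := Nat.card (Sylow 5 G)
    have key5 : ∀ n ∈ DegreeSearch.divs 1008, n % 5 = 1 → n ≠ 1 → ∀ e ∈ List.range 5, e ≠ 1 →
        4 % e = 0 → 1008 % (n * e) = 0 →
        (n < 7) ∨ DegreeSearch.checkWith 5040 5 n e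
          (fun d => decide (d % 7 = 0 ∨ d % 7 = 1 ∨ d % 7 = 6)) = true := by decide +kernel
    rcases key5 n5 (DegreeSearch.mem_divs (by norm_num) hm1) hm2 hm3 e5
      (List.mem_range.mpr (by have := Nat.le_of_dvd (by norm_num : 0 < 5 - 1) hQ1; omega))
      hQ2 (Nat.mod_eq_zero_of_dvd hQ1) (Nat.mod_eq_zero_of_dvd hQ3) with hs | hc
    · have hidx : (Subgroup.normalizer ((Q : Subgroup G) : Set G)).index = n5 :=
        (Sylow.card_eq_index_normalizer Q).symm
      have h6 := Small.SmallOrders.card_dvd_index_factorial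
        (Subgroup.normalizer ((Q : Subgroup G) : Set G))
        (fun h => hm3 (by rw [← hidx, h, Subgroup.index_top]))
      rw [hidx, hG] at h6
      have := h6.trans (Nat.factorial_dvd_factorial (show n5 ≤ 6 by omega))
      norm_num [Nat.factorial] at this
    · refine DegreeSearch.false_of_checkWith hna (by norm_num) Q hQ hQe hQ1 hQ2 hG rfl _
        (fun χ _ => ?_) hc
      have := degree_mod (p := 7) P hP (by norm_num) he (by omega) χ
      rw [decide_eq_true_eq]
      exact this

end Cfsg.Agent.Small.Order5040
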