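import Cfsg.Agent.Lib.Small.TopAutomiser
import Cfsg.Agent.Lib.Small.SmallOrders

/-!
# No simple group of order 5040
-/

set_option autoImplicit false
set_option synthInstance.maxSize 100000
set_option synthInstance.maxHeartbeats 400000
set_option maxSynthPendingDepth 10

namespace Cfsg.Agent.Small.OrderFiftyForty

open DegreeSearch Cfsg.Agent.Lead.BlockDeg

theorem pairs : ∀ n ∈ (divs 1008).filter (fun n => decide (n % 5 = 1 ∧ n ≠ 1)),
    (n < 14 ∧ n.factorial % 5040 ≠ 0) ∨ ∀ e < 5, e ≠ 1 → 4 % e = 0 → 1008 % (n * e) = 0 →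
      (n = 126 ∧ e = 4) ∨ check 5040 5 n e = true := by decide +kernel

theorem top_5040 :
    search 5040 (fun S _ => decide (S ≠ -1)) (cands 5040 5 126 4 (2 * 5 - 1)) 4 0 1 = true := by
  decide +kernel

universe u

variable {G : Type u} [Group G] [Finite G] [IsSimpleGroup G]

theorem card_ne_5040 : Nat.card G ≠ 5040 := by
  intro hG
  haveI := Fintype.ofFinite G
  haveI : Fact (Nat.Prime 5) := ⟨by norm_num⟩
  have hG' : Nat.card G = 5 * 1008 := by rw [hG]
  obtain ⟨P, e, hP, ⟨hn1, hn2, hn3⟩, he, he1, he2, he3⟩ :=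
    sylow_data hG' (by norm_num) (by norm_num)
  have hna := not_comm (by norm_num) hG' (by norm_num)
  have hidx : (Subgroup.normalizer ((P : Subgroup G) : Set G)).index = Nat.card (Sylow 5 G) :=
    (Sylow.card_eq_index_normalizer P).symm
  have he5 : e < 5 := by have := Nat.le_of_dvd (by norm_num) he1; omega
  rcases pairs (Nat.card (Sylow 5 G)) (by
    simp only [List.mem_filter, decide_eq_true_eq]
    exact ⟨mem_divs (by norm_num) hn1, hn2, hn3⟩) with ⟨h1, h2⟩ | h
  · refine h2 (Nat.mod_eq_zero_of_dvd ?_)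
    have hne : Subgroup.normalizer ((P : Subgroup G) : Set G) ≠ ⊤ := fun h => hn3 (by
      rw [← hidx, h, Subgroup.index_top])
    have h3 := SmallOrders.card_dvd_index_factorial _ hne
    rwa [hidx, hG] at h3
  rcases h e he5 he2 (Nat.mod_eq_zero_of_dvd he1) (Nat.mod_eq_zero_of_dvd he3) with ⟨hn, rfl⟩ | h
  · refine TopAutomiser.false_of_top hna (by norm_num) P hP he rfl ?_ hG hn top_5040
    intro hp
    have h4 := SmallOrders.card_normalizer P
    rw [hn, hG] at h4
    have hN : Nat.card (Subgroup.normalizer ((P : Subgroup G) : Set G)) = 40 := by omega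
    set C := Subgroup.centralizer ((P : Subgroup G) : Set G)
    have h5 := (C.subgroupOf (Subgroup.normalizer ((P : Subgroup G) : Set G))).card_mul_index
    rw [Nat.card_congr (Subgroup.subgroupOfEquivOfLe (Subgroup.centralizer_le_normalizer _)).toEquiv,
      ← Subgroup.relIndex, he, hN] at h5
    obtain ⟨k, hk⟩ := hp.exists_card_eq
    rw [hk] at h5
    rcases k with _ | _ | k
    · simp at h5
    · simp at h5
    · rw [pow_succ, pow_succ] at h5
      have : 25 ∣ 40 := ⟨5 ^ k * 4, by rw [← h5]; ring⟩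
      norm_num at this
  · exact false_of_check hna (by norm_num) P hP he he1 he2 hG rfl h

end Cfsg.Agent.Small.OrderFiftyForty
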