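import Cfsg.Agent.Lib.Small.OrderSieve

/-!
# No simple group of order 5400

A Sylow 5-subgroup `P` has order 25 and normaliser of order 150. Exactly eight nontrivial elements of
`P` lie in further Sylow subgroups, forming two subgroups of order 5 permuted by the normaliser,
which then fixes a nontrivial element of `P`, against transfer.
-/

set_option autoImplicit false

namespace Cfsg.Agent.Small.OrderFiftyFourHundred

open Subgroup OrderSieve

theorem adm_216 : ∀ n ∈ adm 5 216, n = 36 ∨ killN 5400 5 2 216 n = true := by decide +kernel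

theorem local_216 : ∀ j ∈ DegreeSearch.divs 216, adm 5 j = [] ∨ small 5400 (216 / j) = true ∨
    (adm 5 j = [6] ∧ j ≤ 18) := by decide +kernel

universe u

variable {G : Type u} [Group G] [Finite G] [IsSimpleGroup G]

theorem number_sylow (hnc : ¬ IsMulCommutative G) (hG : Nat.card G = 5400) :
    Nat.card (Sylow 5 G) = 36 := by
  haveI : Fact (Nat.Prime 5) := ⟨by norm_num⟩
  have hG' : Nat.card G = 5 ^ 2 * 216 := by rw [hG]; rfl
  obtain ⟨P⟩ := (inferInstance : Nonempty (Sylow 5 G))
  obtain ⟨h1, h2, h3⟩ := SmallOrders.sylow_number P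
    (SmallOrders.sylow_card_eq hG' (by norm_num) P) two_pos hG' (by norm_num)
  refine (adm_216 _ ?_).resolve_right fun h =>
    false_of_killN hnc hG two_pos (by norm_num) (by rfl) (by norm_num) P h
  simp only [adm, List.mem_filter, decide_eq_true_eq]
  exact ⟨DegreeSearch.mem_divs (by norm_num) h1, h2, h3⟩

omit [IsSimpleGroup G] in
theorem commute_sylow [Fact (Nat.Prime 5)] (P : Sylow 5 G) (hP : Nat.card P = 25) {a b : G}
    (ha : a ∈ (P : Subgroup G)) (hb : b ∈ (P : Subgroup G)) : a * b = b * a :=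
  congrArg Subtype.val
    (IsPGroup.commutative_of_card_eq_prime_sq (p := 5) (G := (P : Subgroup G)) (hP.trans (by norm_num))
      ⟨a, ha⟩ ⟨b, hb⟩)

omit [IsSimpleGroup G] in
theorem zpowers_card [Fact (Nat.Prime 5)] (P Q : Sylow 5 G) (hQP : Q ≠ P) (hP : Nat.card P = 25)
    {z : G} (hzP : z ∈ (P : Subgroup G)) (hzQ : z ∈ (Q : Subgroup G)) (hz : z ≠ 1) :
    Nat.card (zpowers z) = 5 ∧
      Nat.card ((P : Subgroup G) ⊓ (Q : Subgroup G) : Subgroup G) = 5 := by
  have h1 : zpowers z ≤ (P : Subgroup G) ⊓ (Q : Subgroup G) := zpowers_le.2 ⟨hzP, hzQ⟩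
  have h2 : Nat.card ((P : Subgroup G) ⊓ (Q : Subgroup G) : Subgroup G) ∣ 5 ^ 2 := by
    have := card_dvd_of_le (inf_le_left : (P : Subgroup G) ⊓ (Q : Subgroup G) ≤ _)
    rwa [show Nat.card (P : Subgroup G) = 25 from hP] at this
  have hne : Nat.card ((P : Subgroup G) ⊓ (Q : Subgroup G) : Subgroup G) ≠ 25 := fun e => by
    refine hQP (Sylow.ext (P.3 Q.2 ?_))
    have := eq_of_le_of_card_ge (inf_le_left : (P : Subgroup G) ⊓ (Q : Subgroup G) ≤ _)
      (by rw [e]; exact hP.le)
    exact this ▸ inf_le_right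
  have h3 : 1 < Nat.card (zpowers z) := by
    rw [Nat.card_zpowers]
    have := orderOf_pos z
    have : orderOf z ≠ 1 := fun e => hz (orderOf_eq_one_iff.mp e)
    omega
  have h4 := card_le_of_le h1
  obtain ⟨i, hi, hi'⟩ := (Nat.dvd_prime_pow (by norm_num)).mp h2
  rcases (show i = 0 ∨ i = 1 ∨ i = 2 by omega) with rfl | rfl | rfl
  · rw [pow_zero] at hi'
    omega
  · rw [pow_one] at hi'
    refine ⟨?_, hi'⟩
    have h5 := card_dvd_of_le h1
    rw [hi'] at h5
    exact ((Nat.dvd_prime (by norm_num)).mp h5).resolve_left (by omega)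
  · exact absurd (hi'.trans (by norm_num)) hne

/-- The local analysis at an element of a Sylow intersection. -/
theorem local_facts [Fact (Nat.Prime 5)] (hnc : ¬ IsMulCommutative G) (hG : Nat.card G = 5400)
    (P Q : Sylow 5 G) (hQP : Q ≠ P) {z : G} (hzP : z ∈ (P : Subgroup G))
    (hzQ : z ∈ (Q : Subgroup G)) (hz : z ≠ 1) :
    Nat.card {R : Sylow 5 G // z ∈ (R : Subgroup G)} = 6 ∧
      6 * Nat.card (normalizer ((P : Subgroup G) : Set G) ⊓ normalizer (zpowers z : Set G) :
        Subgroup G) ≤ 450 := by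
  classical
  have hG' : Nat.card G = 5 ^ 2 * 216 := by rw [hG]; rfl
  have hcard : ∀ R : Sylow 5 G, Nat.card R = 25 := fun R => by
    rw [SmallOrders.sylow_card_eq hG' (by norm_num) R]; rfl
  set H := normalizer (zpowers z : Set G) with hH
  have hle : ∀ R : Sylow 5 G, z ∈ (R : Subgroup G) → (R : Subgroup G) ≤ H := by
    intro R hR r hr
    rw [hH, mem_normalizer_iff]
    have hc : ∀ g ∈ zpowers z, r * g * r⁻¹ = g := by
      intro g hg
      rw [commute_sylow R (hcard R) hr (zpowers_le.2 hR hg), mul_inv_cancel_right]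
    intro g
    refine ⟨fun hg => by rwa [hc g hg], fun hg => ?_⟩
    have e : g = r⁻¹ * (r * g * r⁻¹) * r := by group
    have h2 := hc _ hg
    have e2 : r⁻¹ * (r * g * r⁻¹) * r = r * g * r⁻¹ := by
      rw [mul_assoc, ← commute_sylow R (hcard R) hr (zpowers_le.2 hR hg), ← mul_assoc,
        inv_mul_cancel, one_mul]
    rwa [e, e2]
  let f : {R : Sylow 5 G // z ∈ (R : Subgroup G)} → Sylow 5 H := fun R => R.1.subtype (hle R.1 R.2)
  have hf : Function.Bijective f := by
    refine ⟨fun R R' h => Subtype.ext (Sylow.subtype_injective h), fun S => ?_⟩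
    obtain ⟨R, hR⟩ := Sylow.exists_comap_subtype_eq S
    have hzH : z ∈ H := hle P hzP hzP
    have hzS : (⟨z, hzH⟩ : H) ∈ (S : Subgroup H) := by
      obtain ⟨h, hh⟩ := MulAction.exists_smul_eq H (P.subtype (hle P hzP)) S
      rw [← hh, Sylow.coe_subgroup_smul, Subgroup.mem_pointwise_smul_iff_inv_smul_mem,
        Sylow.coe_subtype, Subgroup.mem_subgroupOf]
      show (((MulAut.conj h)⁻¹ : MulAut H) ⟨z, hzH⟩ : H).1 ∈ (P : Subgroup G)
      rw [MulAut.inv_apply, MulAut.conj_symm_apply]
      have h2 : (h : G) ∈ normalizer (zpowers z : Set G) := h.2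
      rw [mem_normalizer_iff''] at h2
      exact zpowers_le.2 hzP ((h2 z).mp (mem_zpowers z))
    have hzR : z ∈ (R : Subgroup G) := by
      rw [← hR] at hzS
      exact hzS
    exact ⟨⟨R, hzR⟩, Sylow.ext (by rw [Sylow.coe_subtype]; exact hR)⟩
  have hne : H ≠ ⊤ := fun htop => by
    haveI : (zpowers z).Normal := normalizer_eq_top_iff.mp htop
    rcases IsSimpleGroup.eq_bot_or_eq_top_of_normal (zpowers z) inferInstance with e | e
    · exact hz (zpowers_eq_bot.mp e)
    · have := (zpowers_card P Q hQP (hcard P) hzP hzQ hz).1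
      rw [e, card_top, hG] at this
      norm_num at this
  obtain ⟨j, hj⟩ : 25 ∣ Nat.card H := by
    have := card_dvd_of_le (hle P hzP)
    rwa [show Nat.card (P : Subgroup G) = 25 from hcard P] at this
  have hjm : j * H.index = 216 := by
    have h2 := H.card_mul_index
    rw [hj, hG, mul_assoc] at h2
    omega
  have hj0 : 0 < j := Nat.pos_of_ne_zero (by rintro rfl; simp at hjm)
  have hSn : Nat.card (Sylow 5 H) ∣ j := by
    have h3 := ((P.subtype (hle P hzP) : Sylow 5 H) : Subgroup H).card_mul_index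
    rw [Sylow.coe_subtype, Nat.card_congr (subgroupOfEquivOfLe (hle P hzP)).toEquiv,
      show Nat.card (P : Subgroup G) = 25 from hcard P, hj] at h3
    have h4 := (P.subtype (hle P hzP)).card_dvd_index
    rw [Sylow.coe_subtype] at h4
    rwa [Nat.eq_of_mul_eq_mul_left (by norm_num) h3] at h4
  have hone : Nat.card (Sylow 5 H) ≠ 1 := fun h1 => by
    haveI := (Nat.card_eq_one_iff_unique.mp h1).1
    exact hQP (congrArg Subtype.val (hf.1 (Subsingleton.elim (f ⟨Q, hzQ⟩) (f ⟨P, hzP⟩))))
  have hmem : Nat.card (Sylow 5 H) ∈ adm 5 j := by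
    simp only [adm, List.mem_filter, decide_eq_true_eq]
    refine ⟨DegreeSearch.mem_divs (by omega) hSn, ?_, hone⟩
    rw [card_sylow_modEq_one 5 H]
  rcases local_216 j (DegreeSearch.mem_divs (by norm_num) ⟨_, hjm.symm⟩) with h | h | ⟨h, hj18⟩
  · rw [h] at hmem; simp at hmem
  · refine (false_of_small hnc H hne ?_).elim
    rw [hG, show H.index = 216 / j by rw [← hjm, Nat.mul_div_cancel_left _ hj0]]
    exact h
  rw [h, List.mem_singleton] at hmem
  refine ⟨by rw [← hmem]; exact Nat.card_congr (Equiv.ofBijective f hf), ?_⟩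
  have hPH := hle P hzP
  have hN : normalizer ((((P.subtype hPH : Sylow 5 H) : Subgroup H)) : Set H) =
      (normalizer ((P : Subgroup G) : Set G)).subgroupOf H := by
    rw [Sylow.coe_subtype]
    ext x
    rw [mem_subgroupOf, mem_normalizer_iff, mem_normalizer_iff]
    constructor
    · intro hx g
      constructor
      · intro hg
        exact (hx ⟨g, hPH hg⟩).mp hg
      · intro hg
        have hgH : g ∈ H := by
          have e : g = (x : G)⁻¹ * ((x : G) * g * (x : G)⁻¹) * (x : G) := by group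
          rw [e]
          exact mul_mem (mul_mem (inv_mem x.2) (hPH hg)) x.2
        exact (hx ⟨g, hgH⟩).mpr hg
    · intro hx g
      exact hx g.1
  have h5 := SmallOrders.card_normalizer (P.subtype hPH)
  rw [hN, hmem, hj] at h5
  have h6 : Nat.card ((normalizer ((P : Subgroup G) : Set G)).subgroupOf H) =
      Nat.card (normalizer ((P : Subgroup G) : Set G) ⊓ H : Subgroup G) := by
    rw [← inf_subgroupOf_right]
    exact Nat.card_congr (subgroupOfEquivOfLe inf_le_right).toEquiv
  rw [h6] at h5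
  omega

omit [IsSimpleGroup G] in
/-- The Sylow subgroups meeting a given one trivially form regular orbits. -/
theorem dvd_disjoint [Fact (Nat.Prime 5)] (P : Sylow 5 G) :
    Nat.card P ∣ Nat.card {Q : Sylow 5 G // (P : Subgroup G) ⊓ (Q : Subgroup G) = ⊥} := by
  classical
  have hst : ∀ (x : (P : Subgroup G)) (Q : Sylow 5 G), x • Q = Q → (x : G) ∈ (Q : Subgroup G) :=
    fun x Q hx => ((SetLike.ext_iff.mp (P.isPGroup'.inf_normalizer_sylow Q) _).mp
      (show (x : G) ∈ (P : Subgroup G) ⊓ normalizer ((Q : Subgroup G) : Set G) from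
        ⟨x.2, Sylow.smul_eq_iff_mem_normalizer.mp hx⟩)).2
  let T : SubMulAction (P : Subgroup G) (Sylow 5 G) :=
    { carrier := {Q | (P : Subgroup G) ⊓ (Q : Subgroup G) = ⊥}
      smul_mem' := fun x Q (hQ : (P : Subgroup G) ⊓ (Q : Subgroup G) = ⊥) => by
        show (P : Subgroup G) ⊓ ((x • Q : Sylow 5 G) : Subgroup G) = ⊥
        rw [eq_bot_iff] at hQ ⊢
        rintro g ⟨hgP, hg⟩
        have hg' : MulAut.conj ((x : G)⁻¹) g ∈ (Q : Subgroup G) := by
          rw [show ((x • Q : Sylow 5 G) : Subgroup G) = (((x : G) • Q : Sylow 5 G) : Subgroup G) from rfl,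
            Sylow.coe_subgroup_smul] at hg
          have := Subgroup.mem_pointwise_smul_iff_inv_smul_mem.mp hg
          rwa [← map_inv] at this
        have h2 : MulAut.conj ((x : G)⁻¹) g ∈ (P : Subgroup G) := by
          rw [MulAut.conj_apply]
          exact mul_mem (mul_mem (inv_mem x.2) hgP) (inv_mem (inv_mem x.2))
        have h3 : MulAut.conj ((x : G)⁻¹) g = 1 := hQ ⟨h2, hg'⟩
        exact (MulEquiv.map_eq_one_iff _).mp h3 }
  have key : Nat.card (P : Subgroup G) ∣ Nat.card T := by
    haveI : Fintype (Quotient (MulAction.orbitRel (P : Subgroup G) T)) := Fintype.ofFinite _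
    rw [Nat.card_congr (MulAction.selfEquivSigmaOrbits (P : Subgroup G) T), Nat.card_sigma]
    refine Finset.dvd_sum fun ω _ => ?_
    rw [Nat.card_coe_set_eq, ← MulAction.index_stabilizer,
      show MulAction.stabilizer (P : Subgroup G) ω.out = ⊥ from ?_, index_bot]
    rw [eq_bot_iff]
    intro x hx
    have h1 := hst x ω.out.1 (congrArg Subtype.val (MulAction.mem_stabilizer_iff.mp hx))
    have h2 : (x : G) ∈ (⊥ : Subgroup G) := ω.out.2 ▸ ⟨x.2, h1⟩
    exact Subtype.ext (mem_bot.mp h2)
  exact key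

/-- No simple group has order 5400. -/
theorem card_ne_5400 (hnc : ¬ IsMulCommutative G) : Nat.card G ≠ 5400 := by
  intro hG
  classical
  haveI : Fact (Nat.Prime 5) := ⟨by norm_num⟩
  haveI := Fintype.ofFinite G
  haveI := Fintype.ofFinite (Sylow 5 G)
  have hG' : Nat.card G = 5 ^ 2 * 216 := by rw [hG]; rfl
  have hcard : ∀ R : Sylow 5 G, Nat.card R = 25 := fun R => by
    rw [SmallOrders.sylow_card_eq hG' (by norm_num) R]; rfl
  obtain ⟨P⟩ := (inferInstance : Nonempty (Sylow 5 G))
  have hn := number_sylow hnc hG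
  have hNP : Nat.card (normalizer ((P : Subgroup G) : Set G)) = 150 := by
    have := SmallOrders.card_normalizer P
    rw [hn, hG] at this
    omega
  set N := normalizer ((P : Subgroup G) : Set G) with hN
  -- the bipartite count
  let A : Finset G := Finset.univ.filter fun z => z ≠ 1 ∧ z ∈ (P : Subgroup G) ∧
    ∃ Q : Sylow 5 G, Q ≠ P ∧ z ∈ (Q : Subgroup G)
  let M : Finset (Sylow 5 G) := Finset.univ.filter fun Q =>
    Q ≠ P ∧ ¬ (P : Subgroup G) ⊓ (Q : Subgroup G) = ⊥
  have hA : A.card = 8 := by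
    have e1 : ∀ z ∈ A, (M.bipartiteAbove (fun (z : G) (Q : Sylow 5 G) => z ∈ (Q : Subgroup G)) z).card = 5 := by
      intro z hz
      obtain ⟨hz1, hzP, Q, hQP, hzQ⟩ := (Finset.mem_filter.mp hz).2
      have h6 := (local_facts hnc hG P Q hQP hzP hzQ hz1).1
      rw [Nat.card_eq_fintype_card, Fintype.card_subtype] at h6
      have e : M.bipartiteAbove (fun (z : G) (Q : Sylow 5 G) => z ∈ (Q : Subgroup G)) z =
          (Finset.univ.filter fun R : Sylow 5 G => z ∈ (R : Subgroup G)).erase P := by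
        ext R
        simp only [M, Finset.mem_bipartiteAbove, Finset.mem_filter, Finset.mem_univ, true_and,
          Finset.mem_erase]
        refine ⟨fun h => ⟨h.1.1, h.2⟩, fun h => ⟨⟨h.1, fun e => hz1 ?_⟩, h.2⟩⟩
        have : z ∈ (P : Subgroup G) ⊓ (R : Subgroup G) := ⟨hzP, h.2⟩
        rwa [e, mem_bot] at this
      rw [e, Finset.card_erase_of_mem (by simp [hzP]), h6]
    have e2 : ∀ Q ∈ M, (A.bipartiteBelow (fun (z : G) (Q : Sylow 5 G) => z ∈ (Q : Subgroup G)) Q).card = 4 := by
      intro Q hQ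
      obtain ⟨hQP, hQb⟩ := (Finset.mem_filter.mp hQ).2
      obtain ⟨z, hz, hz1⟩ := (bot_or_exists_ne_one _).resolve_left hQb
      have h5 := (zpowers_card P Q hQP (hcard P) hz.1 hz.2 hz1).2
      rw [Nat.card_eq_fintype_card, Fintype.card_subtype] at h5
      have e : A.bipartiteBelow (fun (z : G) (Q : Sylow 5 G) => z ∈ (Q : Subgroup G)) Q =
          (Finset.univ.filter fun g : G => g ∈ (P : Subgroup G) ⊓ (Q : Subgroup G)).erase 1 := by
        ext g
        simp only [A, Finset.mem_bipartiteBelow, Finset.mem_filter, Finset.mem_univ, true_and,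
          Finset.mem_erase, mem_inf]
        exact ⟨fun h => ⟨h.1.1, h.1.2.1, h.2⟩, fun h => ⟨⟨h.1, h.2.1, Q, hQP, h.2.2⟩, h.2.2⟩⟩
      rw [e, Finset.card_erase_of_mem (by simp), h5]
    have hcount := Finset.sum_card_bipartiteAbove_eq_sum_card_bipartiteBelow
      (s := A) (t := M) fun (z : G) (Q : Sylow 5 G) => z ∈ (Q : Subgroup G)
    rw [Finset.sum_congr rfl e1, Finset.sum_congr rfl e2, Finset.sum_const, Finset.sum_const,
      smul_eq_mul, smul_eq_mul] at hcount
    have hT := dvd_disjoint P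
    rw [hcard P, Nat.card_eq_fintype_card, Fintype.card_subtype] at hT
    have hsplit : M.card + 1 + (Finset.univ.filter fun Q : Sylow 5 G =>
        (P : Subgroup G) ⊓ (Q : Subgroup G) = ⊥).card = 36 := by
      rw [← hn, Nat.card_eq_fintype_card, ← Finset.card_univ,
        ← Finset.card_filter_add_card_filter_not (s := (Finset.univ : Finset (Sylow 5 G)))
          (fun Q => (P : Subgroup G) ⊓ (Q : Subgroup G) = ⊥)]
      have e : Finset.univ.filter (fun Q : Sylow 5 G => ¬ (P : Subgroup G) ⊓ (Q : Subgroup G) = ⊥) =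
          insert P M := by
        ext Q
        simp only [M, Finset.mem_filter, Finset.mem_univ, true_and, Finset.mem_insert]
        refine ⟨fun h => or_iff_not_imp_left.mpr fun h' => ⟨h', h⟩, ?_⟩
        rintro (rfl | h)
        · rw [inf_idem]
          intro e
          have := hcard Q
          rw [show Nat.card Q = Nat.card (Q : Subgroup G) from rfl, e, card_bot] at this
          omega
        · exact h.2
      rw [e, Finset.card_insert_of_notMem (by simp [M])]
      omega
    have hA24 : A.card ≤ 24 := by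
      have h1 : A ⊆ (Finset.univ.filter fun g : G => g ∈ (P : Subgroup G)).erase 1 := fun g hg => by
        obtain ⟨h1, h2, -⟩ := (Finset.mem_filter.mp hg).2
        simp [h1, h2]
      have h2 := Finset.card_le_card h1
      have h3 : (Finset.univ.filter fun g : G => g ∈ (P : Subgroup G)).card = 25 := by
        rw [← Fintype.card_subtype, ← Nat.card_eq_fintype_card]
        exact hcard P
      rwa [Finset.card_erase_of_mem (by simp), h3] at h2
    obtain ⟨b, hb⟩ := hT
    omega
  -- an intersection element and its line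
  obtain ⟨z, hzA⟩ : A.Nonempty := Finset.card_pos.mp (by omega)
  obtain ⟨hz1, hzP, Q, hQP, hzQ⟩ := (Finset.mem_filter.mp hzA).2
  set X := zpowers z with hX
  have hX5 : Nat.card X = 5 := (zpowers_card P Q hQP (hcard P) hzP hzQ hz1).1
  have hK6 := (local_facts hnc hG P Q hQP hzP hzQ hz1).2
  have hconj : ∀ n ∈ N, ∀ g ∈ A, n * g * n⁻¹ ∈ A := by
    intro n hn g hg
    obtain ⟨hg1, hgP, R, hRP, hgR⟩ := (Finset.mem_filter.mp hg).2
    refine Finset.mem_filter.mpr ⟨Finset.mem_univ _, fun e => hg1 ?_, (mem_normalizer_iff.mp hn g).mp hgP,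
      n • R, fun e => hRP ?_, ?_⟩
    · exact conj_eq_one_iff.mp e
    · have hnP : n • P = P := Sylow.smul_eq_iff_mem_normalizer.mpr hn
      exact smul_left_cancel n (e.trans hnP.symm)
    · rw [Sylow.coe_subgroup_smul]
      exact ⟨g, hgR, rfl⟩
  have hpow : ∀ g ∈ X, g ≠ 1 → g ∈ A := fun g hg hg1 =>
    Finset.mem_filter.mpr ⟨Finset.mem_univ _, hg1, zpowers_le.2 hzP hg, Q, hQP, zpowers_le.2 hzQ hg⟩
  -- conjugating `z` into its line normalises the line
  have hmemH : ∀ n : G, n * z * n⁻¹ ∈ X → n ∈ normalizer (X : Set G) := by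
    intro n hn
    refine mem_normalizer_fintype fun g hg => ?_
    obtain ⟨i, rfl⟩ := mem_zpowers_iff.mp (hg : g ∈ zpowers z)
    rw [← conj_zpow]
    exact zpow_mem hn i
  obtain ⟨t, ht, htX⟩ : ∃ t ∈ N, t * z * t⁻¹ ∉ X := by
    by_contra hall
    push Not at hall
    have hle : N ≤ normalizer (X : Set G) := fun n hn => hmemH n (hall n hn)
    rw [inf_eq_left.mpr hle] at hK6
    omega
  set z' := t * z * t⁻¹ with hz'
  set X' := zpowers z' with hX'
  have hX'5 : Nat.card X' = 5 := by
    rw [hX', Nat.card_zpowers, hz', show t * z * t⁻¹ = MulAut.conj t z from rfl, MulEquiv.orderOf_eq,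
      ← Nat.card_zpowers]
    exact hX5
  have hz'A : z' ∈ A := hconj t ht z hzA
  obtain ⟨-, hz'P, Q', hQ'P, hz'Q⟩ := (Finset.mem_filter.mp hz'A).2
  have hAeq : ∀ g ∈ A, g ∈ X ∨ g ∈ X' := by
    let S : Finset G := (Finset.univ.filter fun g => g ∈ X).erase 1
    let S' : Finset G := (Finset.univ.filter fun g => g ∈ X').erase 1
    have hS : ∀ (Y : Subgroup G), Nat.card Y = 5 →
        ((Finset.univ.filter fun g => g ∈ Y).erase 1).card = 4 := by
      intro Y hY
      rw [Nat.card_eq_fintype_card, Fintype.card_subtype] at hY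
      rw [Finset.card_erase_of_mem (by simp), hY]
    have hdis : Disjoint S S' := by
      rw [Finset.disjoint_left]
      intro g hg hg'
      simp only [S, S', Finset.mem_erase, Finset.mem_filter, Finset.mem_univ, true_and] at hg hg'
      haveI : Fact (Nat.Prime 5) := ⟨by norm_num⟩
      have e1 : zpowers g = X := eq_of_le_of_card_ge (zpowers_le.2 hg.2) (by
        rw [hX5, (zpowers_card P Q hQP (hcard P) (zpowers_le.2 hzP hg.2) (zpowers_le.2 hzQ hg.2)
          hg.1).1])
      have e2 : zpowers g ≤ X' := zpowers_le.2 hg'.2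
      rw [e1] at e2
      exact htX ((eq_of_le_of_card_ge e2 (by rw [hX5, hX'5])).symm ▸ mem_zpowers z' : z' ∈ X)
    have hsub : S ∪ S' ⊆ A := by
      intro g hg
      simp only [S, S', Finset.mem_union, Finset.mem_erase, Finset.mem_filter, Finset.mem_univ,
        true_and] at hg
      rcases hg with hg | hg
      · exact hpow g hg.2 hg.1
      · exact Finset.mem_filter.mpr ⟨Finset.mem_univ _, hg.1, zpowers_le.2 hz'P hg.2, Q', hQ'P,
          zpowers_le.2 hz'Q hg.2⟩
    have heq := Finset.eq_of_subset_of_card_le hsub (by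
      rw [Finset.card_union_of_disjoint hdis, hA, hS X hX5, hS X' hX'5])
    intro g hg
    rw [← heq] at hg
    simp only [S, S', Finset.mem_union, Finset.mem_erase, Finset.mem_filter, Finset.mem_univ,
      true_and] at hg
    exact hg.imp And.right And.right
  have hback : ∀ g ∈ X', t⁻¹ * g * t ∈ X := by
    intro g hg
    obtain ⟨i, rfl⟩ := mem_zpowers_iff.mp (hg : g ∈ zpowers z')
    rw [hz', conj_zpow]
    have e : t⁻¹ * (t * z ^ i * t⁻¹) * t = z ^ i := by group
    rw [e]
    exact zpow_mem (mem_zpowers z) i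
  set K := N ⊓ normalizer (X : Set G) with hK
  have hcase : ∀ n ∈ N, n ∈ K ∨ t⁻¹ * n ∈ K := by
    intro n hn
    rcases hAeq _ (hconj n hn z hzA) with h | h
    · exact Or.inl ⟨hn, hmemH n h⟩
    · refine Or.inr (mem_inf.mpr ⟨N.mul_mem (N.inv_mem ht) hn, hmemH _ ?_⟩)
      have e : t⁻¹ * n * z * (t⁻¹ * n)⁻¹ = t⁻¹ * (n * z * n⁻¹) * t := by group
      rw [e]
      exact hback _ h
  have hK75 : Nat.card K = 75 := by
    let φ : Bool × K → G := fun a => (if a.1 then t else 1) * a.2.1
    have hsur : ∀ n : N, ∃ a, φ a = n := by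
      intro n
      rcases hcase n n.2 with h | h
      · exact ⟨(false, ⟨n, h⟩), by simp [φ]⟩
      · exact ⟨(true, ⟨_, h⟩), by simp [φ]⟩
    choose ψ hψ using hsur
    have hinj : Function.Injective ψ := fun a b h => Subtype.ext (by rw [← hψ a, ← hψ b, h])
    have h1 := Nat.card_le_card_of_injective ψ hinj
    rw [Nat.card_prod, hNP, Nat.card_eq_fintype_card, Fintype.card_bool] at h1
    omega
  have hcent : ∀ n ∈ K, n * z * n⁻¹ = z := by
    intro n hn
    haveI : Fact (Nat.Prime 5) := ⟨by norm_num⟩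
    haveI : IsCyclic X := isCyclic_of_prime_card hX5
    let φ : K →* MulAut X := X.normalizerMonoidHom.comp (Subgroup.inclusion inf_le_right)
    have h1 : orderOf (φ ⟨n, hn⟩) ∣ 75 :=
      hK75 ▸ (orderOf_map_dvd _ _).trans (_root_.orderOf_dvd_natCard _)
    have h2 : orderOf (φ ⟨n, hn⟩) ∣ 4 := by
      refine (_root_.orderOf_dvd_natCard _).trans ?_
      rw [IsCyclic.card_mulAut, hX5, Nat.totient_prime (by norm_num)]
    have h3 : φ ⟨n, hn⟩ = 1 := orderOf_eq_one_iff.mp (Nat.eq_one_of_dvd_coprimes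
      (show Nat.Coprime 75 4 by norm_num) h1 h2)
    exact congrArg Subtype.val (DFunLike.congr_fun h3 (⟨z, mem_zpowers z⟩ : X))
  have hz'cent : ∀ n ∈ K, n * z' * n⁻¹ = z' := by
    intro n hn
    have hN' : t⁻¹ * n * t ∈ N := mul_mem (mul_mem (inv_mem ht) hn.1) ht
    have hK' : t⁻¹ * n * t ∈ K := by
      rcases hAeq _ (hconj n hn.1 z' hz'A) with h | h
      · exfalso
        refine htX ?_
        have h2 := (mem_normalizer_iff.mp hn.2 z').mpr h
        exact h2
      · refine ⟨hN', hmemH _ ?_⟩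
        have e : t⁻¹ * n * t * z * (t⁻¹ * n * t)⁻¹ = t⁻¹ * (n * z' * n⁻¹) * t := by
          rw [hz']; group
        rw [e]
        exact hback _ h
    have := hcent _ hK'
    have e : n * z' * n⁻¹ = t * ((t⁻¹ * n * t) * z * (t⁻¹ * n * t)⁻¹) * t⁻¹ := by
      rw [hz']; group
    rw [e, this]
  have htz' : t * z' * t⁻¹ = z := by
    rcases hAeq _ (hconj t ht z' hz'A) with h | h
    · have h2 : t * t * z * (t * t)⁻¹ ∈ X := by
        have e : t * t * z * (t * t)⁻¹ = t * z' * t⁻¹ := by rw [hz']; group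
        rwa [e]
      have h3 := hcent _ ⟨mul_mem ht ht, hmemH _ h2⟩
      rw [hz']
      calc t * (t * z * t⁻¹) * t⁻¹ = t * t * z * (t * t)⁻¹ := by group
        _ = z := h3
    · refine absurd (hback _ h) ?_
      have e : t⁻¹ * (t * z' * t⁻¹) * t = z' := by group
      rw [e]
      exact htX
  have hcomm := commute_sylow P (hcard P) hzP hz'P
  haveI : IsMulCommutative (P : Subgroup G) :=
    ⟨⟨fun a b => Subtype.ext (commute_sylow P (hcard P) a.2 b.2)⟩⟩
  have hw : z * z' = 1 := by
    refine SimpleOrderTools.eq_one_of_fixed P (by rw [hcard P, hG]; norm_num) (mul_mem hzP hz'P) ?_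
    intro n hn
    have hfix : ∀ m ∈ K, m * (z * z') * m⁻¹ = z * z' := fun m hm => by
      have e : m * (z * z') * m⁻¹ = (m * z * m⁻¹) * (m * z' * m⁻¹) := by group
      rw [e, hcent m hm, hz'cent m hm]
    have htfix : t * (z * z') * t⁻¹ = z * z' := by
      have e : t * (z * z') * t⁻¹ = (t * z * t⁻¹) * (t * z' * t⁻¹) := by group
      rw [e, htz', ← hz', hcomm]
    refine mul_inv_eq_iff_eq_mul.mp ?_
    rcases hcase n hn with h | h
    · exact hfix n h
    · have e : n * (z * z') * n⁻¹ =
          t * ((t⁻¹ * n) * (z * z') * (t⁻¹ * n)⁻¹) * t⁻¹ := by group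
      rw [e, hfix _ h, htfix]
  refine htX ?_
  rw [show z' = z⁻¹ from (inv_eq_of_mul_eq_one_right hw).symm]
  exact inv_mem (mem_zpowers z)

end Cfsg.Agent.Small.OrderFiftyFourHundred
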