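import Cfsg.Agent.Lib.Small.OrderSieve

/-!
# The order sieve between 3641 and 6232, in pieces

One long kernel computation needs tens of gigabytes; separate declarations release memory.
-/

set_option autoImplicit false

namespace Cfsg.Agent.Small.SieveRange

/-- `N` is killed or is one of the exceptional orders. -/
def good (N : ℕ) : Bool :=
  decide (N = 4080 ∨ N = 5616 ∨ N = 6048 ∨ N = 6072 ∨ N = 5040 ∨ N = 5400) || OrderSieve.kill N

theorem range_part0 : ∀ k < 100, good (k + 3641) = true := by decide +kernel

theorem range_part1 : ∀ k < 100, good (k + 3741) = true := by decide +kernel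

theorem range_part2 : ∀ k < 100, good (k + 3841) = true := by decide +kernel

theorem range_part3 : ∀ k < 100, good (k + 3941) = true := by decide +kernel

theorem range_part4 : ∀ k < 100, good (k + 4041) = true := by decide +kernel

theorem range_part5 : ∀ k < 100, good (k + 4141) = true := by decide +kernel

theorem range_part6 : ∀ k < 100, good (k + 4241) = true := by decide +kernel

theorem range_part7 : ∀ k < 100, good (k + 4341) = true := by decide +kernel

theorem range_part8 : ∀ k < 100, good (k + 4441) = true := by decide +kernel

theorem range_part9 : ∀ k < 100, good (k + 4541) = true := by decide +kernel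

theorem range_part10 : ∀ k < 100, good (k + 4641) = true := by decide +kernel

theorem range_part11 : ∀ k < 100, good (k + 4741) = true := by decide +kernel

theorem range_part12 : ∀ k < 100, good (k + 4841) = true := by decide +kernel

theorem range_part13 : ∀ k < 100, good (k + 4941) = true := by decide +kernel

theorem range_part14 : ∀ k < 100, good (k + 5041) = true := by decide +kernel

theorem range_part15 : ∀ k < 100, good (k + 5141) = true := by decide +kernel

theorem range_part16 : ∀ k < 100, good (k + 5241) = true := by decide +kernel

theorem range_part17 : ∀ k < 100, good (k + 5341) = true := by decide +kernel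

theorem range_part18 : ∀ k < 100, good (k + 5441) = true := by decide +kernel

theorem range_part19 : ∀ k < 100, good (k + 5541) = true := by decide +kernel

theorem range_part20 : ∀ k < 100, good (k + 5641) = true := by decide +kernel

theorem range_part21 : ∀ k < 100, good (k + 5741) = true := by decide +kernel

theorem range_part22 : ∀ k < 100, good (k + 5841) = true := by decide +kernel

theorem range_part23 : ∀ k < 100, good (k + 5941) = true := by decide +kernel

theorem range_part24 : ∀ k < 100, good (k + 6041) = true := by decide +kernel

theorem range_part25 : ∀ k < 92, good (k + 6141) = true := by decide +kernel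

theorem good_of_range {N : ℕ} (h1 : 3641 ≤ N) (h2 : N ≤ 6232) : good N = true := by
  rcases Nat.lt_or_ge N 3741 with h | h
  · simpa [Nat.sub_add_cancel (show 3641 ≤ N by omega)] using range_part0 (N - 3641) (by omega)
  rcases Nat.lt_or_ge N 3841 with h | h
  · simpa [Nat.sub_add_cancel (show 3741 ≤ N by omega)] using range_part1 (N - 3741) (by omega)
  rcases Nat.lt_or_ge N 3941 with h | h
  · simpa [Nat.sub_add_cancel (show 3841 ≤ N by omega)] using range_part2 (N - 3841) (by omega)
  rcases Nat.lt_or_ge N 4041 with h | h
  · simpa [Nat.sub_add_cancel (show 3941 ≤ N by omega)] using range_part3 (N - 3941) (by omega)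
  rcases Nat.lt_or_ge N 4141 with h | h
  · simpa [Nat.sub_add_cancel (show 4041 ≤ N by omega)] using range_part4 (N - 4041) (by omega)
  rcases Nat.lt_or_ge N 4241 with h | h
  · simpa [Nat.sub_add_cancel (show 4141 ≤ N by omega)] using range_part5 (N - 4141) (by omega)
  rcases Nat.lt_or_ge N 4341 with h | h
  · simpa [Nat.sub_add_cancel (show 4241 ≤ N by omega)] using range_part6 (N - 4241) (by omega)
  rcases Nat.lt_or_ge N 4441 with h | h
  · simpa [Nat.sub_add_cancel (show 4341 ≤ N by omega)] using range_part7 (N - 4341) (by omega)
  rcases Nat.lt_or_ge N 4541 with h | h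
  · simpa [Nat.sub_add_cancel (show 4441 ≤ N by omega)] using range_part8 (N - 4441) (by omega)
  rcases Nat.lt_or_ge N 4641 with h | h
  · simpa [Nat.sub_add_cancel (show 4541 ≤ N by omega)] using range_part9 (N - 4541) (by omega)
  rcases Nat.lt_or_ge N 4741 with h | h
  · simpa [Nat.sub_add_cancel (show 4641 ≤ N by omega)] using range_part10 (N - 4641) (by omega)
  rcases Nat.lt_or_ge N 4841 with h | h
  · simpa [Nat.sub_add_cancel (show 4741 ≤ N by omega)] using range_part11 (N - 4741) (by omega)
  rcases Nat.lt_or_ge N 4941 with h | h
  · simpa [Nat.sub_add_cancel (show 4841 ≤ N by omega)] using range_part12 (N - 4841) (by omega)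
  rcases Nat.lt_or_ge N 5041 with h | h
  · simpa [Nat.sub_add_cancel (show 4941 ≤ N by omega)] using range_part13 (N - 4941) (by omega)
  rcases Nat.lt_or_ge N 5141 with h | h
  · simpa [Nat.sub_add_cancel (show 5041 ≤ N by omega)] using range_part14 (N - 5041) (by omega)
  rcases Nat.lt_or_ge N 5241 with h | h
  · simpa [Nat.sub_add_cancel (show 5141 ≤ N by omega)] using range_part15 (N - 5141) (by omega)
  rcases Nat.lt_or_ge N 5341 with h | h
  · simpa [Nat.sub_add_cancel (show 5241 ≤ N by omega)] using range_part16 (N - 5241) (by omega)
  rcases Nat.lt_or_ge N 5441 with h | h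
  · simpa [Nat.sub_add_cancel (show 5341 ≤ N by omega)] using range_part17 (N - 5341) (by omega)
  rcases Nat.lt_or_ge N 5541 with h | h
  · simpa [Nat.sub_add_cancel (show 5441 ≤ N by omega)] using range_part18 (N - 5441) (by omega)
  rcases Nat.lt_or_ge N 5641 with h | h
  · simpa [Nat.sub_add_cancel (show 5541 ≤ N by omega)] using range_part19 (N - 5541) (by omega)
  rcases Nat.lt_or_ge N 5741 with h | h
  · simpa [Nat.sub_add_cancel (show 5641 ≤ N by omega)] using range_part20 (N - 5641) (by omega)
  rcases Nat.lt_or_ge N 5841 with h | h
  · simpa [Nat.sub_add_cancel (show 5741 ≤ N by omega)] using range_part21 (N - 5741) (by omega)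
  rcases Nat.lt_or_ge N 5941 with h | h
  · simpa [Nat.sub_add_cancel (show 5841 ≤ N by omega)] using range_part22 (N - 5841) (by omega)
  rcases Nat.lt_or_ge N 6041 with h | h
  · simpa [Nat.sub_add_cancel (show 5941 ≤ N by omega)] using range_part23 (N - 5941) (by omega)
  rcases Nat.lt_or_ge N 6141 with h | h
  · simpa [Nat.sub_add_cancel (show 6041 ≤ N by omega)] using range_part24 (N - 6041) (by omega)
  simpa [Nat.sub_add_cancel (show 6141 ≤ N by omega)] using range_part25 (N - 6141) (by omega)

end Cfsg.Agent.Small.SieveRange
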