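import Cfsg.Agent.Lib.Small.OrderFiveHundredFour
import Cfsg.Agent.Lib.Classical.Dickson.PGLMax

/-!
# The simple group of order 504
-/

set_option autoImplicit false

namespace Cfsg.Agent.Small.OrderFiveHundredFour

theorem iso {G : Type*} [Group G] [Finite G] [IsSimpleGroup G] (h : Nat.card G = 504)
    {F : Type*} [Field F] [Fintype F] (hF : Fintype.card F = 8) :
    Nonempty (G ≃* Matrix.ProjectiveSpecialLinearGroup (Fin 2) F) := by
  have hc : Nat.card (Matrix.ProjectiveSpecialLinearGroup (Fin 2) F) = 504 := by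
    have h1 := Classical.Dickson.card_P2 (F := F)
    rw [hF, show Nat.gcd 2 (8 - 1) = 1 from rfl, mul_one] at h1
    rw [h1]
    rfl
  haveI := Matrix.ProjectiveSpecialLinearGroup.rank_two_simple (F := F)
    (by rw [Nat.card_eq_fintype_card]; omega)
  obtain ⟨D⟩ := exists_data h
  obtain ⟨D'⟩ := exists_data hc
  exact ProjLineEven.iso D D' F hF

end Cfsg.Agent.Small.OrderFiveHundredFour
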