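import Cfsg.Agent.Lib.Small.SteinbergModule
import Cfsg.Agent.Lib.Char.Knorr
import Cfsg.Agent.Lib.Perm.PermChar
import Cfsg.Agent.S0165

/-!
The Steinberg character is the only character of defect zero of a Chevalley group in the defining
characteristic.
-/

set_option autoImplicit false
set_option synthInstance.maxHeartbeats 400000
set_option linter.style.haveILetI false

namespace Cfsg.Agent.Small.StUnique

open Cfsg Cfsg.Lie Cfsg.Agent.Lie Cfsg.Agent.Small.StChar Cfsg.Agent.Small.StModule Module
open scoped MatrixGroups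

variable {D : ChevalleyDatum} {F : Type*} [Field F] (hF : Facts D)

/-- The action on column vectors given by a matrix representation. -/
noncomputable def matAct {k : Type*} [Field k] {s : ℕ}
    (R : ↥(D.group F) →* Matrix (Fin s) (Fin s) k) : Act D F k (Fin s → k) where
  ρ g := by
    classical
    exact if h : g ∈ D.group F then (R ⟨g, h⟩).mulVecLin else 0
  one := by
    classical
    rw [dif_pos (one_mem _)]
    show (R 1).mulVecLin = _
    rw [map_one, Matrix.mulVecLin_one]
  mul a ha b hb v := by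
    classical
    simp only [dif_pos (mul_mem ha hb), dif_pos ha, dif_pos hb]
    show (R (⟨a, ha⟩ * ⟨b, hb⟩)).mulVecLin v = _
    rw [map_mul, Matrix.mulVecLin_mul, LinearMap.comp_apply]

theorem matAct_apply {k : Type*} [Field k] {s : ℕ}
    (R : ↥(D.group F) →* Matrix (Fin s) (Fin s) k) (g : ↥(D.group F)) (v : Fin s → k) :
    (matAct R).ρ (g : GL D.Idx F) v = (R g).mulVec v := by
  classical
  show (if h : (g : GL D.Idx F) ∈ D.group F then (R ⟨_, h⟩).mulVecLin else 0) v = _
  rw [dif_pos g.2]
  rfl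

include hF in
theorem torus_comm {a b : GL D.Idx F} (ha : a ∈ (hF.tsys F).H) (hb : b ∈ (hF.tsys F).H) :
    a * b = b * a := ChevRat.torus_comm hF ha hb

variable {k : Type*} [Field k] {W : Type*} [AddCommGroup W] [Module k W]

/-- A common eigenvector of H among the U-fixed vectors. -/
theorem exists_eig [IsAlgClosed k] [FiniteDimensional k W] [Fintype F] (A : Act D F k W) {v : W}
    (hv0 : v ≠ 0) (hv : UFix hF A v) : ∃ z : W, z ≠ 0 ∧ Eig hF A z := by
  classical
  haveI : Finite (GL D.Idx F) := inferInstance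
  let Hs : Finset (GL D.Idx F) := (Set.toFinite ((hF.tsys F).H : Set (GL D.Idx F))).toFinset
  suffices h : ∀ s : Finset (GL D.Idx F), s ⊆ Hs →
      ∃ S : Submodule k W, S ≠ ⊥ ∧ (∀ x ∈ S, UFix hF A x) ∧
        (∀ a ∈ (hF.tsys F).H, ∀ x ∈ S, A.ρ a x ∈ S) ∧ ∀ a ∈ s, ∃ c : k, ∀ x ∈ S, A.ρ a x = c • x by
    obtain ⟨S, hS, hU, -, he⟩ := h Hs subset_rfl
    obtain ⟨z, hz, hz0⟩ := Submodule.exists_mem_ne_zero_of_ne_bot hS
    refine ⟨z, hz0, hU z hz, fun a ha => ?_⟩
    obtain ⟨c, hc⟩ := he a (by simpa [Hs] using ha)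
    exact ⟨c, hc z hz⟩
  intro s
  induction s using Finset.induction_on with
  | empty =>
    intro _
    let S : Submodule k W :=
      { carrier := {x | UFix hF A x}
        zero_mem' := fun u _ => map_zero _
        add_mem' := fun {x y} hx hy u hu => by rw [map_add, hx u hu, hy u hu]
        smul_mem' := fun c x hx u hu => by rw [map_smul, hx u hu] }
    refine ⟨S, fun h => hv0 ((Submodule.mem_bot k).1 (h ▸ (show v ∈ S from hv))), fun x hx => hx,
      fun a ha x hx u hu => ?_, fun a ha => absurd ha (Finset.notMem_empty a)⟩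
    have hu' : a⁻¹ * u * a ∈ (hF.tsys F).U := by
      have := (hF.tsys F).H_conj_US (inv_mem ha) TorusSys.posL_lt hu
      rwa [inv_inv] at this
    rw [← A.mul _ (U_mem hF hu) _ (H_mem hF ha), show u * a = a * (a⁻¹ * u * a) by group,
      A.mul _ (H_mem hF ha) _ (U_mem hF hu'), hx _ hu']
  | insert a s _ ih =>
    intro hsub
    obtain ⟨S, hS, hU, hH, he⟩ := ih ((Finset.subset_insert a s).trans hsub)
    have ha : a ∈ (hF.tsys F).H := by simpa [Hs] using hsub (Finset.mem_insert_self a s)
    haveI : Nontrivial S := Submodule.nontrivial_iff_ne_bot.2 hS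
    obtain ⟨c, hc⟩ := Module.End.exists_eigenvalue ((A.ρ a).restrict (hH a ha))
    obtain ⟨x, hx⟩ := hc.exists_hasEigenvector
    refine ⟨S ⊓ LinearMap.ker (A.ρ a - c • LinearMap.id), ?_, fun y hy => hU y hy.1, ?_, ?_⟩
    · intro hbot
      have h1 : (x : W) ∈ S ⊓ LinearMap.ker (A.ρ a - c • LinearMap.id) := by
        refine ⟨x.2, ?_⟩
        rw [SetLike.mem_coe, LinearMap.mem_ker, LinearMap.sub_apply, LinearMap.smul_apply, LinearMap.id_apply,
          sub_eq_zero]
        exact congrArg Subtype.val hx.apply_eq_smul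
      rw [hbot, Submodule.mem_bot] at h1
      exact hx.2 (Subtype.ext h1)
    · intro b hb y hy
      refine ⟨hH b hb y hy.1, ?_⟩
      have h1 : A.ρ a y = c • y := by
        simpa [sub_eq_zero] using LinearMap.mem_ker.1 hy.2
      rw [SetLike.mem_coe, LinearMap.mem_ker, LinearMap.sub_apply, LinearMap.smul_apply, LinearMap.id_apply,
        sub_eq_zero, ← A.mul _ (H_mem hF ha) _ (H_mem hF hb), torus_comm hF ha hb,
        A.mul _ (H_mem hF hb) _ (H_mem hF ha), h1, map_smul]
    · intro b hb
      rcases Finset.mem_insert.1 hb with rfl | hb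
      · exact ⟨c, fun y hy => by simpa [sub_eq_zero] using LinearMap.mem_ker.1 hy.2⟩
      · obtain ⟨d, hd⟩ := he b hb
        exact ⟨d, fun y hy => hd y hy.1⟩

variable [Fintype F] {p : ℕ} [Fact p.Prime] [CharP F p]

include hF in
/-- A character of defect zero has trivial H-action on its U-fixed line, no vectors fixed by a proper
parabolic subgroup, and one fixed vector of B. -/
theorem invariants_of_defect_zero {n : ℕ} (ρ : Representation ℂ ↥(D.group F) (Fin n → ℂ))
    (hirr : ρ.IsIrreducible) (hdeg : p ^ (Nat.card ↥(D.group F)).factorization p ∣ n) (J : Finset ℕ)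
    (hJ : J ⊆ Finset.range D.rank) :
    finrank ℂ (Representation.invariants (ρ.comp (D.parabolicIn F J).subtype)) =
      if J = ∅ then 1 else 0 := by
  classical
  haveI := Fintype.ofFinite ↥(D.group F)
  haveI : Fintype Fˣ := Fintype.ofFinite _
  have hp : p.Prime := Fact.out
  obtain ⟨M, hM⟩ := Char.exists_pModular hp
  obtain ⟨V, -, hpV⟩ := Char.exists_valuation hM
  obtain ⟨s, R, hR, hsch⟩ := Char.exists_matrix_form V ρ
  haveI := hirr
  have hs : s = n := by
    have h := hR 1
    rw [map_one ρ, map_one R, Matrix.trace_one, LinearMap.trace_one, Fintype.card_fin,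
      Module.finrank_fin_fun] at h
    push_cast at h
    exact_mod_cast h.symm
  subst hs
  have hn0 : 0 < s := by
    have h1 := Char.deg_pos (Char.isIrrCharacter_character ρ hirr)
    rwa [Char.deg_character, Module.finrank_fin_fun] at h1
  -- the integral, complex and residual actions
  let K := IsLocalRing.ResidueField V
  let π : V →+* K := IsLocalRing.residue V
  let C : Act D F ℂ (Fin s → ℂ) := matAct ((V.subtype.mapMatrix).toMonoidHom.comp R)
  let A : Act D F K (Fin s → K) := matAct ((π.mapMatrix).toMonoidHom.comp R)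
  have hCι : ∀ (g : ↥(D.group F)) (w : Fin s → V),
      C.ρ (g : GL D.Idx F) (fun l => ((w l : V) : ℂ)) = fun l => (((R g).mulVec w l : V) : ℂ) := by
    intro g w
    rw [matAct_apply]
    funext l
    exact (RingHom.map_mulVec V.subtype (R g) w l).symm
  have hAπ : ∀ (g : ↥(D.group F)) (w : Fin s → V),
      A.ρ (g : GL D.Idx F) (fun l => π (w l)) = fun l => π ((R g).mulVec w l) := by
    intro g w
    rw [matAct_apply]
    funext l
    exact (RingHom.map_mulVec π (R g) w l).symm
  have hpK : (p : K) = 0 := by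
    rw [← map_natCast π, IsLocalRing.residue_eq_zero_iff]
    exact hpV
  have hqK : ((Fintype.card F : ℕ) : K) = 0 := by
    obtain ⟨m, -, hm⟩ := FiniteField.card F p
    rw [hm, Nat.cast_pow, hpK, zero_pow m.ne_zero]
  -- the reduced module is irreducible
  obtain ⟨e, he⟩ : s ∣ Nat.card ↥(D.group F) := by
    have := Char.deg_dvd_card (Char.isIrrCharacter_character ρ hirr)
    rwa [Char.deg_character, Module.finrank_fin_fun] at this
  have hpe : ¬ p ∣ e := by
    intro hd
    have h1 : p ^ ((Nat.card ↥(D.group F)).factorization p + 1) ∣ Nat.card ↥(D.group F) := by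
      conv_rhs => rw [he]
      rw [pow_succ]
      exact mul_dvd_mul hdeg hd
    exact Nat.pow_succ_factorization_not_dvd Nat.card_pos.ne' hp h1
  have hAirr : ∀ S : Submodule K (Fin s → K), S ≠ ⊥ →
      (∀ g ∈ D.group F, ∀ x ∈ S, A.ρ g x ∈ S) → S = ⊤ := by
    intro S hS hinv
    obtain ⟨v, hvS, hv0⟩ := Submodule.exists_mem_ne_zero_of_ne_bot hS
    obtain ⟨j, hj⟩ : ∃ j, v j ≠ 0 := by
      by_contra h
      push Not at h
      exact hv0 (funext h)
    let Xb : Matrix (Fin s) (Fin s) K := Matrix.vecMulVec v (Pi.single j (v j)⁻¹)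
    choose X hX using fun a b => IsLocalRing.residue_surjective (R := V) (Xb a b)
    let X' : Matrix (Fin s) (Fin s) V := Matrix.of X
    have hX' : π.mapMatrix X' = Xb := Matrix.ext hX
    let Y := ∑ g : ↥(D.group F), R g * X' * R g⁻¹
    obtain ⟨c, hc⟩ := hsch hirr Y fun h => by
      simp only [Y, Finset.sum_mul, Finset.mul_sum]
      refine Fintype.sum_equiv (Equiv.mulLeft h⁻¹) _ _ fun g => ?_
      show R g * X' * R g⁻¹ * R h = R h * (R (h⁻¹ * g) * X' * R (h⁻¹ * g)⁻¹)
      rw [_root_.mul_inv_rev, inv_inv, map_mul, map_mul, ← mul_assoc, ← mul_assoc, ← mul_assoc,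
        ← mul_assoc, ← map_mul R h, mul_inv_cancel, map_one, one_mul]
    have htr : (s : V) * c = (Nat.card ↥(D.group F) : V) * X'.trace := by
      have h1 := congrArg Matrix.trace hc
      rw [Matrix.trace_smul, Matrix.trace_one, Fintype.card_fin, smul_eq_mul, mul_comm] at h1
      rw [← h1, Matrix.trace_sum, Finset.sum_congr rfl (g := fun _ => X'.trace) fun g _ => by
        rw [Matrix.trace_mul_comm, ← mul_assoc, ← map_mul, inv_mul_cancel, map_one, one_mul],
        Finset.sum_const, Finset.card_univ, nsmul_eq_mul, Nat.card_eq_fintype_card]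
    have hce : c = (e : V) * X'.trace := by
      refine mul_left_cancel₀ (a := (s : V)) ?_ ?_
      · exact_mod_cast hn0.ne'
      · rw [htr, he, Nat.cast_mul, mul_assoc]
    have htr1 : π X'.trace = 1 := by
      show π.toAddMonoidHom (Matrix.trace X') = 1
      rw [AddMonoidHom.map_trace, show X'.map π.toAddMonoidHom = Xb from hX', Matrix.trace]
      simp only [Matrix.diag, Xb, Matrix.vecMulVec_apply]
      rw [Finset.sum_eq_single j (fun b _ hb => by rw [Pi.single_eq_of_ne hb, mul_zero])
        (fun h => absurd (Finset.mem_univ j) h), Pi.single_eq_same, mul_inv_cancel₀ hj]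
    have heK : (e : K) ≠ 0 := by
      rw [← map_natCast π, Ne, IsLocalRing.residue_eq_zero_iff, IsLocalRing.mem_maximalIdeal,
        mem_nonunits_iff, not_not]
      exact Char.isUnit_nat_of_not_dvd hp hpV hpe
    refine eq_top_iff.2 fun u _ => ?_
    have h2 : (π.mapMatrix Y).mulVec u = (e : K) • u := by
      rw [hc, show c • (1 : Matrix (Fin s) (Fin s) V) = Matrix.diagonal fun _ => c by
        ext a b; simp [Matrix.diagonal_apply, Matrix.one_apply], RingHom.mapMatrix_apply,
        Matrix.diagonal_map (map_zero π)]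
      funext a
      rw [Matrix.mulVec_diagonal, Pi.smul_apply, smul_eq_mul, hce, map_mul, htr1, map_natCast,
        mul_one]
    have h3 : (π.mapMatrix Y).mulVec u ∈ S := by
      simp only [Y, map_sum, map_mul, Matrix.sum_mulVec]
      refine Submodule.sum_mem _ fun g _ => ?_
      rw [← Matrix.mulVec_mulVec, ← Matrix.mulVec_mulVec, hX']
      have h4 : Xb.mulVec ((π.mapMatrix (R g⁻¹)).mulVec u) ∈ S := by
        rw [Matrix.vecMulVec_mulVec]
        refine Submodule.smul_of_tower_mem S _ hvS
      have h5 := hinv _ g.2 _ h4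
      rw [matAct_apply] at h5
      exact h5
    rw [h2] at h3
    exact (Submodule.smul_mem_iff _ heK).1 h3
  -- fixed vectors of U
  let Ug := ((hF.tsys F).U).subgroupOf (D.group F)
  have hUg : Nat.card Ug = Nat.card ↥((hF.tsys F).U) :=
    Nat.card_congr (Subgroup.subgroupOfEquivOfLe fun x hx => StModule.U_mem hF hx).toEquiv
  let ρC : Representation ℂ ↥(D.group F) (Fin s → ℂ) :=
    { toFun := fun g => C.ρ (g : GL D.Idx F)
      map_one' := C.one
      map_mul' := fun a b => LinearMap.ext fun v => C.mul _ a.2 _ b.2 v }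
  have hρC : ρC.character = ρ.character := by
    funext g
    show LinearMap.trace ℂ _ (C.ρ (g : GL D.Idx F)) = LinearMap.trace ℂ _ (ρ g)
    rw [hR g, show C.ρ (g : GL D.Idx F) = ((V.subtype.mapMatrix) (R g)).mulVecLin from
      LinearMap.ext fun v => matAct_apply _ g v, ← Matrix.toLin'_apply', Matrix.trace_toLin'_eq]
    exact (AddMonoidHom.map_trace V.subtype.toAddMonoidHom (R g)).symm
  have hdim : (Nat.card ↥((hF.tsys F).U) : ℂ) *
      (finrank ℂ (Representation.invariants (ρC.comp Ug.subtype)) : ℂ) = (s : ℂ) := by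
    rw [← hUg, ← Perm.PermChar.sum_char_restrict ρC Ug, hρC, Finset.sum_eq_single (1 : Ug)]
    · rw [Subgroup.coe_one, Representation.char_one, Module.finrank_fin_fun]
    · intro u _ hu
      refine S0165.result ρ p ((Nat.card ↥(D.group F)).factorization p) hp (Nat.ordProj_dvd _ _)
        (Nat.pow_succ_factorization_not_dvd Nat.card_pos.ne' hp)
        (by rw [Module.finrank_fin_fun]; exact hdeg) _ ?_
      obtain ⟨m, hm⟩ := isUnip_of_mem_U hF p (g := (u : ↥(D.group F))) u.2
      rw [hm]
      refine dvd_pow_self p fun h0 => hu ?_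
      rw [h0, pow_zero, orderOf_eq_one_iff] at hm
      exact Subtype.ext hm
    · intro h
      exact absurd (Finset.mem_univ _) h
  have hfixU : ∀ x : Fin s → ℂ,
      x ∈ Representation.invariants (ρC.comp Ug.subtype) ↔ UFix hF C x := by
    intro x
    constructor
    · intro h u hu
      exact h ⟨⟨u, StModule.U_mem hF hu⟩, hu⟩
    · intro h u
      exact h _ u.2
  obtain ⟨x0, hx0⟩ : ∃ x, x ≠ 0 ∧ UFix hF C x := by
    by_contra hcon
    push Not at hcon
    have hbot : Representation.invariants (ρC.comp Ug.subtype) = ⊥ :=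
      (Submodule.eq_bot_iff _).2 fun x hx => by
        by_contra hne
        exact hcon x hne ((hfixU x).1 hx)
    rw [hbot, finrank_bot, Nat.cast_zero, mul_zero] at hdim
    exact hn0.ne' (by exact_mod_cast hdim.symm)
  obtain ⟨w1, hw10, hw1⟩ := exists_eig hF C hx0.1 hx0.2
  -- a primitive multiple
  obtain ⟨j, -, hjmax⟩ := Finset.exists_max_image (Finset.univ : Finset (Fin s))
    (fun l => V.valuation (w1 l)) ⟨⟨0, hn0⟩, Finset.mem_univ _⟩
  have hwj : w1 j ≠ 0 := by
    intro h0
    refine hw10 (funext fun l => ?_)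
    have := hjmax l (Finset.mem_univ l)
    rw [h0, map_zero, le_zero_iff, map_eq_zero] at this
    exact this
  let w : Fin s → V := fun l => ⟨w1 l / w1 j, (V.valuation_le_one_iff _).1 (by
    rw [map_div₀]
    exact (div_le_one₀ ((zero_lt_iff).2 (by simpa using hwj))).2 (hjmax l (Finset.mem_univ l)))⟩
  let wC : Fin s → ℂ := fun l => (w l : ℂ)
  let wK : Fin s → K := fun l => π (w l)
  have hwC : wC = (w1 j)⁻¹ • w1 := by
    funext l
    simp [wC, w, div_eq_inv_mul]
  have hwj1 : w j = 1 := Subtype.ext (by simp [w, hwj])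
  have hwCj : wC j = 1 := by simp [wC, hwj1]
  have hwC0 : wC ≠ 0 := fun h => one_ne_zero (hwCj.symm.trans (congrFun h j))
  have hwK0 : wK ≠ 0 := fun h => one_ne_zero (α := K) (by
    have := congrFun h j
    simpa [wK, hwj1] using this)
  have hCeig : Eig hF C wC := by
    rw [hwC]
    refine ⟨fun u hu => by rw [map_smul, hw1.1 u hu], fun a ha => ?_⟩
    obtain ⟨c, hc⟩ := hw1.2 a ha
    exact ⟨c, by rw [map_smul, hc, smul_comm]⟩
  -- transfer of eigen relations
  have htrans : ∀ (g : ↥(D.group F)) (c : ℂ), C.ρ (g : GL D.Idx F) wC = c • wC →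
      ∃ hc : c ∈ V, A.ρ (g : GL D.Idx F) wK = π ⟨c, hc⟩ • wK := by
    intro g c h
    rw [hCι] at h
    have hcj : (((R g).mulVec w j : V) : ℂ) = c := by
      have := congrFun h j
      rwa [Pi.smul_apply, hwCj, smul_eq_mul, mul_one] at this
    refine ⟨hcj ▸ ((R g).mulVec w j).2, ?_⟩
    rw [hAπ]
    funext l
    show π _ = π _ * π (w l)
    rw [← map_mul]
    congr 1
    exact Subtype.ext (congrFun h l)
  have hAeig : Eig hF A wK := by
    refine ⟨fun u hu => ?_, fun a ha => ?_⟩
    · obtain ⟨hc, h⟩ := htrans ⟨u, StModule.U_mem hF hu⟩ 1 (by rw [one_smul]; exact hCeig.1 u hu)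
      rw [h, show (⟨1, hc⟩ : V) = 1 from rfl, map_one, one_smul]
    · obtain ⟨c, hc⟩ := hCeig.2 a ha
      obtain ⟨hcV, h⟩ := htrans ⟨a, StModule.H_mem hF ha⟩ c hc
      exact ⟨_, h⟩
  -- the bound
  obtain ⟨z, hz0, hz, hzT⟩ := exists_Teig hF A hqK hAeig hwK0
  have hle : s ≤ Nat.card ↥((hF.tsys F).U) := by
    have := (structure_of_irr hF A hqK hAirr hz0 hz hzT).1
    rwa [Module.finrank_fin_fun] at this
  obtain ⟨hone, hsU⟩ : finrank ℂ (Representation.invariants (ρC.comp Ug.subtype)) = 1 ∧
      s = Nat.card ↥((hF.tsys F).U) := by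
    have h : Nat.card ↥((hF.tsys F).U) *
        finrank ℂ (Representation.invariants (ρC.comp Ug.subtype)) = s := by exact_mod_cast hdim
    rcases Nat.eq_zero_or_pos (finrank ℂ (Representation.invariants (ρC.comp Ug.subtype))) with h0 | h0
    · rw [h0, mul_zero] at h
      omega
    · have h1 : finrank ℂ (Representation.invariants (ρC.comp Ug.subtype)) = 1 := by nlinarith
      exact ⟨h1, by rw [h1, mul_one] at h; exact h.symm⟩
  have hline : ∀ x, UFix hF C x → ∃ a : ℂ, x = a • wC := by
    intro x hx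
    obtain ⟨a, ha⟩ := exists_smul_eq_of_finrank_eq_one hone
      (show (⟨wC, (hfixU _).2 hCeig.1⟩ : Representation.invariants (ρC.comp Ug.subtype)) ≠ 0 from
        fun h => hwC0 (congrArg Subtype.val h)) ⟨x, (hfixU _).2 hx⟩
    exact ⟨a, (congrArg Subtype.val ha).symm⟩
  -- the T_i on the line
  have hTtrans : ∀ (i : Fin D.rank) (c : ℂ), T hF C i wC = c • wC →
      ∃ hc : c ∈ V, T hF A i wK = π ⟨c, hc⟩ • wK := by
    intro i c h
    let g : F → ↥(D.group F) := fun t => ⟨hF.xg (D.simple i.val) t * (hF.tsys F).nS i,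
      mul_mem (hF.xg_mem_group _ t) (StModule.nS_mem hF i)⟩
    rw [T_apply] at h
    have h' : ∀ l, (((∑ t : F, (R (g t)).mulVec w l : V)) : ℂ) = c * wC l := by
      intro l
      have := congrFun h l
      rw [Finset.sum_apply, Pi.smul_apply, smul_eq_mul] at this
      rw [← this, AddSubmonoidClass.coe_finsetSum]
      exact Finset.sum_congr rfl fun t _ => (congrFun (hCι (g t) w) l).symm
    have hcj : ((∑ t : F, (R (g t)).mulVec w j : V) : ℂ) = c := by
      rw [h' j, hwCj, mul_one]
    refine ⟨hcj ▸ (∑ t : F, (R (g t)).mulVec w j).2, ?_⟩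
    rw [T_apply]
    funext l
    rw [Finset.sum_apply, Pi.smul_apply, smul_eq_mul]
    show _ = π _ * π (w l)
    rw [← map_mul, Finset.sum_congr rfl (g := fun t => π ((R (g t)).mulVec w l)) fun t _ =>
      congrFun (hAπ (g t) w) l, ← map_sum]
    congr 1
    exact Subtype.ext (h' l)
  have hTC : ∀ i, ∃ c : ℂ, T hF C i wC = c • wC := fun i => hline _ (T_ufix hF C i hCeig.1)
  have hTA : ∀ i, ∃ c : K, T hF A i wK = c • wK := fun i => by
    obtain ⟨c, hc⟩ := hTC i
    obtain ⟨hcV, h⟩ := hTtrans i c hc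
    exact ⟨_, h⟩
  have hst := (structure_of_irr hF A hqK hAirr hwK0 hAeig hTA).2
    (by rw [Module.finrank_fin_fun]; exact hsU.ge)
  -- H acts trivially
  have hHg : ∀ (i : Fin D.rank) (t : Fˣ), C.ρ (hF.hg (D.simple i.val) (t : F)) wC = wC := by
    intro i t
    have hm := hg_mem_H hF i t
    obtain ⟨c, hc⟩ := hCeig.2 _ hm
    obtain ⟨hcV, hA⟩ := htrans ⟨_, StModule.H_mem hF hm⟩ c hc
    rw [(hst i).2 t] at hA
    have h1 : π ⟨c, hcV⟩ = 1 := (smul_left_injective K hwK0 (hA.symm.trans (one_smul K wK).symm))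
    have hpow : ∀ m : ℕ, C.ρ (hF.hg (D.simple i.val) (t : F) ^ m) wC = c ^ m • wC := by
      intro m
      induction m with
      | zero => rw [pow_zero, pow_zero, one_smul, C.one, LinearMap.id_apply]
      | succ m ih =>
        rw [pow_succ', C.mul _ (StModule.H_mem hF hm) _ (pow_mem (StModule.H_mem hF hm) m), ih,
          map_smul, hc, smul_smul, ← pow_succ]
    have h2 := hpow (Fintype.card F - 1)
    rw [← hF.torus_single, ← map_pow, ← Pi.mulSingle_pow,
      show t ^ (Fintype.card F - 1) = 1 from Units.ext (by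
        rw [Units.val_pow_eq_pow_val]; exact FiniteField.pow_card_sub_one_eq_one _ t.ne_zero),
      Pi.mulSingle_one, map_one, C.one, LinearMap.id_apply] at h2
    have hcq : c ^ (Fintype.card F - 1) = 1 :=
      smul_left_injective ℂ hwC0 (h2.symm.trans (one_smul ℂ wC).symm)
    have hc1 : c = 1 := by
      by_contra hne
      have h3 : ∑ m ∈ Finset.range (Fintype.card F - 1), c ^ m = 0 := by
        rw [geom_sum_eq hne, hcq, sub_self, zero_div]
      have h4 : (∑ m ∈ Finset.range (Fintype.card F - 1), (⟨c, hcV⟩ : V) ^ m) = 0 :=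
        Subtype.ext (by push_cast; exact h3)
      have h5 := congrArg π h4
      simp only [map_sum, map_pow, h1, one_pow, map_zero, Finset.sum_const, Finset.card_range,
        nsmul_eq_mul, mul_one] at h5
      rw [Nat.cast_sub Fintype.card_pos, hqK, Nat.cast_one, zero_sub, neg_eq_zero] at h5
      exact one_ne_zero h5
    rw [hc, hc1, one_smul]
  have hHtriv : ∀ a ∈ (hF.tsys F).H, C.ρ a wC = wC := by
    intro a ha
    rw [hF.tsys_H, hF.diagonalSubgroup_eq] at ha
    obtain ⟨d, rfl⟩ := ha
    let St : Submonoid (Fin D.rank → Fˣ) :=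
      { carrier := {c | C.ρ (torus D F c) wC = wC}
        one_mem' := by simp [C.one]
        mul_mem' := fun {a b} ha hb => by
          show C.ρ (torus D F (a * b)) wC = wC
          rw [map_mul, C.mul _ (hF.torus_mem_group a) _ (hF.torus_mem_group b), hb, ha] }
    show d ∈ St
    rw [← Finset.univ_prod_mulSingle d]
    refine Submonoid.prod_mem _ fun i _ => ?_
    show C.ρ (torus D F (Pi.mulSingle i (d i))) wC = wC
    rw [hF.torus_single]
    exact hHg i (d i)
  -- the parabolic subgroups
  rw [show finrank ℂ (Representation.invariants (ρ.comp (D.parabolicIn F J).subtype)) =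
      finrank ℂ (Representation.invariants (ρC.comp (D.parabolicIn F J).subtype)) by
    haveI := Fintype.ofFinite ↥(D.parabolicIn F J)
    have h1 := Perm.PermChar.sum_char_restrict ρ (D.parabolicIn F J)
    have h2 := Perm.PermChar.sum_char_restrict ρC (D.parabolicIn F J)
    rw [hρC] at h2
    rw [h2] at h1
    exact_mod_cast (mul_left_cancel₀ (Perm.PermChar.card_ne _) h1).symm]
  have hUP : ∀ x ∈ Representation.invariants (ρC.comp (D.parabolicIn F J).subtype), UFix hF C x := by
    intro x hx u hu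
    exact hx ⟨⟨u, StModule.U_mem hF hu⟩, (mem_parabolicIn hF J).2
      ⟨1, one_mem _, inCell_one hF ((hF.tsys F).U_le_B hu)⟩⟩
  by_cases hJe : J = ∅
  · subst hJe
    rw [if_pos rfl]
    refine finrank_eq_one (⟨wC, ?_⟩ : Representation.invariants (ρC.comp (D.parabolicIn F ∅).subtype))
      (fun h => hwC0 (congrArg Subtype.val h)) fun x => ?_
    · intro g
      obtain ⟨v, hv, b, hb, b', hb', hge⟩ := (mem_parabolicIn hF ∅).1 g.2
      have hv1 : v = 1 := by
        rw [WeylCosets.WJ, show StChar.nodes D (∅ : Finset ℕ) = ∅ by ext; simp [StChar.nodes],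
          Set.image_empty, Subgroup.closure_empty, Subgroup.mem_bot] at hv
        exact hv
      subst hv1
      have hgB : ((g : ↥(D.group F)) : GL D.Idx F) ∈ (hF.tsys F).B := by
        rw [hge]
        exact mul_mem (mul_mem hb ((hF.tsys F).H_le_B (hF.tsys F).nW_one)) hb'
      obtain ⟨u, hu, a, ha, hua⟩ := (hF.tsys F).mem_B.1 hgB
      show C.ρ ((g : ↥(D.group F)) : GL D.Idx F) wC = wC
      rw [hua, C.mul _ (StModule.U_mem hF hu) _ (StModule.H_mem hF ha), hHtriv a ha, hCeig.1 u hu]
    · obtain ⟨a, ha⟩ := hline _ (hUP _ x.2)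
      exact ⟨a, Subtype.ext ha.symm⟩
  · rw [if_neg hJe]
    obtain ⟨i, hi⟩ := Finset.nonempty_iff_ne_empty.2 hJe
    have hir : i < D.rank := Finset.mem_range.1 (hJ hi)
    rw [Submodule.finrank_eq_zero, Submodule.eq_bot_iff]
    intro x hx
    obtain ⟨a, ha⟩ := hline x (hUP x hx)
    by_contra hx0
    have ha0 : a ≠ 0 := by
      rintro rfl
      rw [zero_smul] at ha
      exact hx0 ha
    have hT : T hF C ⟨i, hir⟩ x = (Fintype.card F : ℂ) • x := by
      rw [T_apply, Finset.sum_congr rfl (g := fun _ => x) fun t _ => ?_, Finset.sum_const,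
        Finset.card_univ, ← Nat.cast_smul_eq_nsmul ℂ]
      have hn : InCell hF (hF.wS ⟨i, hir⟩) ((hF.tsys F).nS ⟨i, hir⟩) := by
        obtain ⟨c, hc, hce⟩ := (hF.tsys F).nw_eq (ω := [⟨i, hir⟩]) (w := hF.wS ⟨i, hir⟩)
          (RefSystem.pr_singleton _ _)
        rw [TorusSys.nw_singleton] at hce
        exact ⟨c, (hF.tsys F).H_le_B hc, 1, one_mem _, by rw [mul_one, hce]⟩
      exact hx ⟨⟨_, mul_mem (hF.xg_mem_group _ t) (StModule.nS_mem hF ⟨i, hir⟩)⟩,
        (D.parabolicIn F J).mul_mem (x := ⟨_, hF.xg_mem_group _ t⟩)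
          (y := ⟨_, StModule.nS_mem hF ⟨i, hir⟩⟩)
          ((mem_parabolicIn hF J).2 ⟨1, one_mem _,
            inCell_one hF ((hF.tsys F).U_le_B (simple_mem_U hF ⟨i, hir⟩ t))⟩)
          ((mem_parabolicIn hF J).2 ⟨_,
            WeylCosets.s_mem hF.refSys (show (⟨i, hir⟩ : Fin D.rank) ∈ StChar.nodes D J from hi), hn⟩)⟩
    rw [ha, map_smul, smul_comm] at hT
    obtain ⟨hcV, hA⟩ := hTtrans _ _ (smul_right_injective _ ha0 hT)
    refine (hst ⟨i, hir⟩).1 _ hA ?_
    rw [show (⟨(Fintype.card F : ℂ), hcV⟩ : V) = ((Fintype.card F : ℕ) : V) from Subtype.ext (by simp),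
      map_natCast, hqK]

include hF in
/-- An irreducible character of defect zero is the Steinberg character. -/
theorem eq_steinberg (χ : ↥(D.group F) → ℂ) (hχ : IsIrrCharacter ↥(D.group F) χ)
    (hdeg : ∃ d : ℕ, χ 1 = (d : ℂ) ∧ p ^ (Nat.card ↥(D.group F)).factorization p ∣ d) :
    χ = D.steinbergCharacter F := by
  classical
  haveI := Fintype.ofFinite ↥(D.group F)
  obtain ⟨d, hd1, hd⟩ := hdeg
  obtain ⟨n, ρ, hρ, rfl⟩ := hχ
  rw [Representation.char_one, Module.finrank_fin_fun] at hd1
  obtain rfl : n = d := by exact_mod_cast hd1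
  have hterm : ∀ J ∈ (Finset.range D.rank).powerset,
      classInner (fixedPointCharacter (D.parabolicIn F J)) ρ.character = if J = ∅ then 1 else 0 := by
    intro J hJ
    haveI : Fintype (↥(D.group F) ⧸ D.parabolicIn F J) := Fintype.ofFinite _
    show classInner (Perm.PermChar.permChar ↥(D.group F) (↥(D.group F) ⧸ D.parabolicIn F J))
      ρ.character = _
    rw [Perm.PermChar.inner_permChar_rep ((1 : ↥(D.group F)) : ↥(D.group F) ⧸ D.parabolicIn F J) ρ,
      MulAction.stabilizer_quotient, invariants_of_defect_zero hF ρ hρ hd J (Finset.mem_powerset.1 hJ)]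
    split_ifs <;> simp
  have hin : classInner (D.steinbergCharacter F) ρ.character = 1 := by
    have hfun : D.steinbergCharacter F = ∑ J ∈ (Finset.range D.rank).powerset,
        ((-1 : ℂ) ^ J.card) • fixedPointCharacter (D.parabolicIn F J) := by
      funext g
      rw [Finset.sum_apply]
      rfl
    rw [hfun, Char.classInner_sum_left, Finset.sum_eq_single ∅]
    · rw [Char.classInner_smul_left, hterm ∅ (Finset.empty_mem_powerset _), if_pos rfl]
      simp
    · intro J hJ hne
      rw [Char.classInner_smul_left, hterm J hJ, if_neg hne, mul_zero]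
    · intro h
      exact absurd (Finset.empty_mem_powerset _) h
  rw [Char.irr_orth (StChar.isIrr hF) ⟨n, ρ, hρ, rfl⟩] at hin
  split_ifs at hin with heq
  · exact heq.symm
  · exact absurd hin zero_ne_one

end Cfsg.Agent.Small.StUnique
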