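import Cfsg.Agent.Lib.Lie.FieldFix
import Cfsg.Agent.Lib.Lie.BruhatAux

/-!
Elements of a Chevalley group commuting with all x_s(1), and the points fixed by a field automorphism.
-/

set_option autoImplicit false

namespace Cfsg.Agent.Small.ChevRat

open Cfsg.Lie Cfsg.Agent.Lie Matrix
open scoped MatrixGroups

variable {D : ChevalleyDatum} {F : Type*} [Field F] (hF : Facts D)

theorem xg_inj {r : ℕ} (hr : r < D.nroots) {s t : F} (h : hF.xg r s = hF.xg r t) : s = t := by
  have h3 : hF.xg r (s - t) = 1 := by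
    rw [sub_eq_add_neg, hF.xg_add, hF.xg_neg, h, mul_inv_cancel]
  have h4 := congrArg Units.val h3
  rw [Facts.coe_xg, Units.val_one, hF.x_eq_one r hr, sub_eq_zero] at h4
  exact h4

theorem invList_le_U (w : hF.weyl) :
    (hF.tsys F).US (TorusSys.invList w) ≤ (hF.tsys F).U :=
  CommSys.US_mono _ fun r hr => Facts.mem_posL.2 ((TorusSys.closed_invList w).mem_pos r hr)

theorem mem_B_of_comm {g : GL D.Idx F} (hg : g ∈ D.group F)
    (h : ∀ s, s < D.nroots → Commute g (hF.xg s 1)) : g ∈ (hF.tsys F).B := by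
  obtain ⟨b, hb, w, u, hu, rfl⟩ := hF.mem_bnu hg
  by_cases hw : w = 1
  · subst hw
    exact mul_mem (mul_mem hb ((hF.tsys F).H_le_B (hF.tsys F).nW_one))
      ((hF.tsys F).U_le_B (invList_le_U hF _ hu))
  exfalso
  obtain ⟨ω, hω, hlen⟩ := hF.refSys.exists_reduced w
  rcases List.eq_nil_or_concat' ω with rfl | ⟨ω', i, rfl⟩
  · exact hw hω.symm
  rw [RefSystem.pr_append, RefSystem.pr_singleton] at hω
  rw [List.length_append, List.length_singleton] at hlen
  have hneg : w • hF.refSys.α i ∉ hF.refSys.P := by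
    intro hP
    have h1 := hF.refSys.len_mul_s_of_mem hP
    have h2 := hF.refSys.len_pr_le ω'
    have h3 : w * hF.refSys.s i = hF.refSys.pr ω' := by
      rw [← hω, mul_assoc, hF.refSys.sq, mul_one]
    rw [h3] at h1
    omega
  have hr : (hF.refSys.α i).val ∈ TorusSys.invList w :=
    TorusSys.mem_invList.2 ⟨(hF.refSys.α i).isLt, (RefSystem.mem_inv _).2 ⟨hF.refSys.α_mem i, hneg⟩⟩
  have hxU : hF.xg (hF.refSys.α i).val (1 : F) ∈ (hF.tsys F).US (TorusSys.invList w) :=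
    CommSys.x_mem_US _ hr 1
  have hxB : hF.xg (hF.refSys.α i).val (1 : F) ∈ (hF.tsys F).B :=
    (hF.tsys F).U_le_B (invList_le_U hF _ hxU)
  have hc := (h _ (hF.refSys.α i).isLt).eq
  have he : b * (hF.tsys F).nW w * (u * hF.xg (hF.refSys.α i).val (1 : F)) =
      (hF.xg (hF.refSys.α i).val (1 : F) * b) * (hF.tsys F).nW w * u := by
    rw [← mul_assoc, hc]
    group
  obtain ⟨-, -, h3⟩ := hF.bruhat_unique hb (mul_mem hxB hb) (mul_mem hu hxU) hu he
  have h4 := congrArg Units.val (mul_eq_left.1 h3)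
  rw [Facts.coe_xg, Units.val_one, hF.x_eq_one _ (hF.refSys.α i).isLt] at h4
  exact one_ne_zero h4

include hF in
/-- An element of the group commuting with all x_s(1) is trivial. -/
theorem eq_one_of_comm {g : GL D.Idx F} (hg : g ∈ D.group F)
    (h : ∀ s, s < D.nroots → Commute g (hF.xg s 1)) : g = 1 := by
  obtain ⟨w, hw⟩ := hF.exists_longest
  set n := (hF.tsys F).nW w with hn
  have hB := mem_B_of_comm hF hg h
  have hg' : n * g * n⁻¹ ∈ D.group F :=
    mul_mem (mul_mem (hF.nW_mem_group w) hg) (inv_mem (hF.nW_mem_group w))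
  have hB' : n * g * n⁻¹ ∈ (hF.tsys F).B := by
    refine mem_B_of_comm hF hg' fun s hs => ?_
    obtain ⟨e, he, heq⟩ := hF.nW_conj (F := F) w (w⁻¹ • ⟨s, hs⟩)
    have h1 := heq 1
    rw [smul_inv_smul, ← hn, mul_one] at h1
    have h2 : Commute (n * g * n⁻¹) (hF.xg s e) := by
      rw [← h1]
      exact (h _ (Fin.isLt _)).map (MulAut.conj n).toMonoidHom
    rcases mul_self_eq_one_iff.1 he with rfl | rfl
    · exact h2
    · rw [hF.xg_neg] at h2
      exact Commute.inv_right_iff.1 h2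
  obtain ⟨v, hv, a, ha, rfl⟩ := (hF.tsys F).mem_B.1 hB
  have hv1 : v = 1 := by
    have hV : n * v * n⁻¹ ∈ D.negUnipotent F := by
      rw [← hF.conj_longest hw]
      exact ⟨v, by rw [← hF.tsys_U]; exact hv, rfl⟩
    have hVB : n * v * n⁻¹ ∈ (hF.tsys F).B := by
      have : n * v * n⁻¹ = (n * (v * a) * n⁻¹) * (n * a * n⁻¹)⁻¹ := by group
      rw [this]
      exact mul_mem hB' (inv_mem ((hF.tsys F).H_le_B ((hF.tsys F).nW_H ha)))
    exact conj_eq_one_iff.1 (hF.B_inter_V hVB hV)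
  subst hv1
  rw [one_mul]
  rw [one_mul] at h
  rw [hF.tsys_H, hF.diagonalSubgroup_eq F] at ha
  obtain ⟨c, rfl⟩ := ha
  ext1
  rw [coe_torus, Units.val_one, diagM, ← Matrix.diagonal_one]
  congr 1
  funext p
  cases p with
  | inl i => rfl
  | inr s =>
    have h1 := (h s.val s.isLt).eq
    rw [← mul_inv_eq_iff_eq_mul, hF.torus_conj c s.isLt 1, mul_one] at h1
    exact xg_inj hF s.isLt h1

variable (σ : F ≃+* F)

/-- The subgroup generated by the root elements with fixed parameters. -/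
noncomputable def ratGen : Subgroup (GL D.Idx F) :=
  Subgroup.closure {g | ∃ r t, σ t = t ∧ hF.xg r t = g}

theorem xg_mem_ratGen (r : ℕ) {t : F} (ht : σ t = t) : hF.xg r t ∈ ratGen hF σ :=
  Subgroup.subset_closure ⟨r, t, ht, rfl⟩

include hF in
theorem fixed_conj_mem {a : GL D.Idx F} (ha : a ∈ (hF.tsys F).H)
    (hs : gmap σ.toRingHom a = a) {l : GL D.Idx F} (hl : l ∈ ratGen hF σ) :
    a * l * a⁻¹ ∈ ratGen hF σ := by
  suffices ratGen hF σ ≤ (ratGen hF σ).comap (MulAut.conj a).toMonoidHom from this hl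
  rw [hF.tsys_H, hF.diagonalSubgroup_eq F] at ha
  obtain ⟨c, rfl⟩ := ha
  refine (Subgroup.closure_le _).2 ?_
  rintro _ ⟨r, t, ht, rfl⟩
  show torus D F c * hF.xg r t * (torus D F c)⁻¹ ∈ ratGen hF σ
  rcases lt_or_ge r D.nroots with hr | hr
  · have h1 := congrArg (gmap σ.toRingHom) (hF.torus_conj c hr t)
    rw [map_mul, map_mul, map_inv, hs, hF.gmap_xg, hF.gmap_xg, RingEquiv.toRingHom_eq_coe,
      RingEquiv.coe_toRingHom, ht] at h1
    rw [hF.torus_conj c hr t] at h1 ⊢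
    exact xg_mem_ratGen hF σ r (xg_inj hF hr h1).symm
  · rw [hF.xg_out hr, mul_one, mul_inv_cancel]
    exact one_mem _

include hF in
/-- Fixed points are products of generated elements and fixed torus elements. -/
theorem fixed_decomp {g : GL D.Idx F} (hg : g ∈ D.group F) (hs : gmap σ.toRingHom g = g) :
    ∃ l ∈ ratGen hF σ, ∃ a ∈ (hF.tsys F).H, gmap σ.toRingHom a = a ∧ g = l * a := by
  let K₀ := RingHom.eqLocusField σ.toRingHom (RingHom.id F)
  let f : K₀ →+* F := K₀.subtype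
  have hfix : ∀ t, σ t = t → ∃ t₀, f t₀ = t := fun t ht => ⟨⟨t, ht⟩, rfl⟩
  have hUS : ∀ L, ((hF.tsys K₀).US L).map (gmap f) ≤ ratGen hF σ := by
    intro L
    rw [Subgroup.map_le_iff_le_comap]
    refine CommSys.US_le _ fun r _ t => ?_
    show gmap f (hF.xg r t) ∈ ratGen hF σ
    rw [hF.gmap_xg]
    exact xg_mem_ratGen hF σ r t.2
  obtain ⟨b, hb, w, u, hu, rfl⟩ := hF.mem_bnu hg
  rw [map_mul, map_mul, hF.gmap_nW] at hs
  obtain ⟨-, hbe, hue⟩ := hF.bruhat_unique (hF.gmap_B_mem _ hb) hb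
    (hF.gmap_US_le _ _ ⟨u, hu, rfl⟩) hu hs
  obtain ⟨v, hv, a, ha, rfl⟩ := (hF.tsys F).mem_B.1 hb
  have hva : v⁻¹ * gmap σ.toRingHom v = 1 := by
    refine hF.U_inter_H (mul_mem (inv_mem hv) (hF.gmap_US_le _ _ ⟨v, hv, rfl⟩)) ?_
    rw [map_mul] at hbe
    have : v⁻¹ * gmap σ.toRingHom v = a * (gmap σ.toRingHom a)⁻¹ := by
      rw [inv_mul_eq_iff_eq_mul, ← mul_assoc, ← hbe, mul_inv_cancel_right]
    rw [this]
    exact mul_mem ha (inv_mem (hF.gmap_H_mem _ ha))
  have hve : gmap σ.toRingHom v = v := (inv_mul_eq_one.1 hva).symm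
  have hae : gmap σ.toRingHom a = a := by
    rw [map_mul, hve] at hbe
    exact mul_left_cancel hbe
  have hn : (hF.tsys F).nW w ∈ ratGen hF σ := by
    show TorusSys.nw _ _ ∈ _
    refine Subgroup.list_prod_mem _ fun g hg => ?_
    obtain ⟨i, -, rfl⟩ := List.mem_map.1 hg
    rw [hF.tsys_nS]
    refine hF.wg_mem fun p hp => xg_mem_ratGen hF σ p.1 ?_
    simp only [ChevalleyDatum.nWord, List.mem_cons, List.not_mem_nil, or_false] at hp
    rcases hp with rfl | rfl | rfl <;> simp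
  refine ⟨v * (a * (hF.tsys F).nW w * a⁻¹) * (a * u * a⁻¹), mul_mem (mul_mem
    (hUS _ (hF.fixed_US hfix hF.closedList_posL hv hve)) (fixed_conj_mem hF σ ha hae hn))
    (fixed_conj_mem hF σ ha hae (hUS _ (hF.fixed_US hfix (TorusSys.closed_invList w) hu hue))),
    a, ha, hae, ?_⟩
  group

include hF in
theorem torus_comm {a b : GL D.Idx F} (ha : a ∈ (hF.tsys F).H) (hb : b ∈ (hF.tsys F).H) :
    a * b = b * a := by
  rw [hF.tsys_H, hF.diagonalSubgroup_eq F] at ha hb
  obtain ⟨c, rfl⟩ := ha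
  obtain ⟨d, rfl⟩ := hb
  rw [← map_mul, mul_comm c d, map_mul]

include hF in
/-- Commutators of fixed points lie in the subgroup generated by the fixed root elements. -/
theorem comm_mem {g k : GL D.Idx F} (hg : g ∈ D.group F) (hgs : gmap σ.toRingHom g = g)
    (hk : k ∈ D.group F) (hks : gmap σ.toRingHom k = k) : g * k * g⁻¹ * k⁻¹ ∈ ratGen hF σ := by
  obtain ⟨l, hl, a, ha, hae, rfl⟩ := fixed_decomp hF σ hg hgs
  obtain ⟨m, hm, b, hb, hbe, rfl⟩ := fixed_decomp hF σ hk hks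
  have hab : a * b * a⁻¹ = b := by rw [torus_comm hF ha hb, mul_inv_cancel_right]
  have e : l * a * (m * b) * (l * a)⁻¹ * (m * b)⁻¹ =
      l * (a * m * a⁻¹) * ((a * b * a⁻¹) * l⁻¹ * b⁻¹) * m⁻¹ := by group
  rw [e, hab]
  exact mul_mem (mul_mem (mul_mem hl (fixed_conj_mem hF σ ha hae hm))
    (fixed_conj_mem hF σ hb hbe (inv_mem hl))) (inv_mem hm)

include hF in
/-- Centralizer and normalizer of a group between the rational root group and the fixed points. -/
theorem centralizer_normalizer (K : Subgroup (GL D.Idx F)) (hKG : K ≤ D.group F)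
    (hLK : ratGen hF σ ≤ K) (hKfix : ∀ g ∈ K, gmap σ.toRingHom g = g) :
    D.group F ⊓ Subgroup.centralizer (K : Set (GL D.Idx F)) = ⊥ ∧
    ∀ g ∈ D.group F, (g ∈ Subgroup.normalizer (K : Set (GL D.Idx F)) ↔ gmap σ.toRingHom g = g) := by
  have h1 : ∀ s, hF.xg s (1 : F) ∈ K := fun s => hLK (xg_mem_ratGen hF σ s (map_one σ))
  refine ⟨(Subgroup.eq_bot_iff_forall _).2 fun g hg => eq_one_of_comm hF hg.1 fun s _ =>
    (Subgroup.mem_centralizer_iff.1 hg.2 _ (h1 s)).symm, fun g hg => ⟨fun hN => ?_, fun hs => ?_⟩⟩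
  · have hσg : gmap σ.toRingHom g ∈ D.group F := hF.gmap_group_le _ ⟨g, hg, rfl⟩
    have key := eq_one_of_comm hF (mul_mem (inv_mem hg) hσg) fun s _ => by
      have h2 := hKfix _ ((Subgroup.mem_normalizer_iff.1 hN _).1 (h1 s))
      rw [map_mul, map_mul, map_inv, hKfix _ (h1 s)] at h2
      set G := gmap σ.toRingHom g
      show g⁻¹ * G * hF.xg s 1 = hF.xg s 1 * (g⁻¹ * G)
      calc g⁻¹ * G * hF.xg s 1 = g⁻¹ * (G * hF.xg s 1 * G⁻¹) * G := by group
        _ = g⁻¹ * (g * hF.xg s 1 * g⁻¹) * G := by rw [h2]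
        _ = hF.xg s 1 * (g⁻¹ * G) := by group
    exact (inv_mul_eq_one.1 key).symm
  · rw [Subgroup.mem_normalizer_iff]
    intro x
    constructor
    · intro hx
      have := mul_mem (hLK (comm_mem hF σ hg hs (hKG hx) (hKfix x hx))) hx
      rwa [inv_mul_cancel_right] at this
    · intro hx
      have hs' : gmap σ.toRingHom g⁻¹ = g⁻¹ := by rw [map_inv, hs]
      have := mul_mem (hLK (comm_mem hF σ (inv_mem hg) hs' (hKG hx) (hKfix _ hx))) hx
      rw [inv_mul_cancel_right, inv_inv] at this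
      have e : g⁻¹ * (g * x * g⁻¹) * g = x := by group
      rwa [e] at this

end Cfsg.Agent.Small.ChevRat
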