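import Cfsg.Agent.Lib.Small.SLnSteinberg
import Cfsg.Agent.Lib.Small.Flags.Character
import Cfsg.Agent.Lib.Char.DefectLocal
import Cfsg.Agent.Lib.Char.Height
import Cfsg.Agent.Lib.Char.Green
import Cfsg.Agent.Lib.Char.Burnside

/-!
The Steinberg character of `SL_n(q)` and `PSL_n(q)`, and the blocks of `SL_n(q)` in the defining
characteristic.
-/

set_option autoImplicit false
set_option linter.unusedSectionVars false

namespace Cfsg.Agent.Small.SLnSt

open Matrix Finset Cfsg Cfsg.Agent.Char Cfsg.Agent.Small.PSLn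

/-! ### The degree -/

theorem qInt_split (q : ℕ) {a b : ℕ} (h : a ≤ b) :
    (Flags.qInt q b : ℂ) - Flags.qInt q a = (q : ℂ) ^ a * Flags.qInt q (b - a) := by
  obtain ⟨c, rfl⟩ := Nat.exists_eq_add_of_le h
  simp only [Flags.qInt, Nat.add_sub_cancel_left, Finset.sum_range_add, Nat.cast_add, Nat.cast_sum,
    Nat.cast_pow, Nat.cast_mul, Finset.mul_sum, pow_add, add_sub_cancel_left]

theorem exp_sum (j : ℕ) : ∑ i ∈ Finset.range j, (1 + i) = (j + 1).choose 2 := by
  induction j with
  | zero => rfl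
  | succ j ih =>
    rw [Finset.sum_range_succ, ih,
      show (j + 1 + 1).choose 2 = (j + 1).choose 1 + (j + 1).choose 2 from Nat.choose_succ_succ _ _,
      Nat.choose_one_right]
    omega

theorem vandermonde_row (q j : ℕ) :
    ∏ i ∈ Finset.range j, ((Flags.qInt q (1 + j) : ℂ) - Flags.qInt q (1 + i)) =
      (q : ℂ) ^ (j + 1).choose 2 * Flags.qFact q j := by
  rw [← exp_sum, ← Finset.prod_pow_eq_pow_sum, Flags.qFact, Nat.cast_prod,
    ← Finset.prod_range_reflect (fun l => (Flags.qInt q (l + 1) : ℂ)) j, ← Finset.prod_mul_distrib]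
  refine Finset.prod_congr rfl fun i hi => ?_
  rw [Finset.mem_range] at hi
  rw [qInt_split q (by omega), show 1 + j - (1 + i) = j - 1 - i + 1 by omega]

theorem vandermonde_all (q n : ℕ) :
    ∏ j ∈ Finset.range n, ∏ i ∈ Finset.range j,
        ((Flags.qInt q (1 + j) : ℂ) - Flags.qInt q (1 + i)) =
      (q : ℂ) ^ (n + 1).choose 3 * ∏ j ∈ Finset.range n, (Flags.qFact q j : ℂ) := by
  induction n with
  | zero => simp [Nat.choose_eq_zero_of_lt]
  | succ n ih =>
    rw [Finset.prod_range_succ, ih, vandermonde_row, Finset.prod_range_succ,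
      Nat.choose_succ_succ' (n + 1) 2, pow_add]
    ring

variable {n : ℕ} {F : Type*} [Field F] [Fintype F]

noncomputable local instance fintypeUT' : Fintype ↥(UTg n F) := Fintype.ofFinite _

theorem steinberg_degree (n : ℕ) (F : Type*) [Field F] [Fintype F] :
    unipotentCharacterGL n F (fun _ => 1) 1 = (Fintype.card F : ℂ) ^ n.choose 2 := by
  have hsum : ∑ _i : Fin n, 1 = n := by simp
  have h := Flags.unipotent_one (F := F) (ν := fun _ : Fin n => 1) hsum
  set q := Fintype.card F
  have h3 : n * (n - 1) * (n - 2) / 6 = n.choose 3 := by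
    rw [Nat.choose_eq_descFactorial_div_factorial, Nat.descFactorial_succ, Nat.descFactorial_succ,
      Nat.descFactorial_succ, Nat.descFactorial_zero, show (3 : ℕ).factorial = 6 from rfl,
      Nat.sub_zero, mul_one]
    congr 1
    ring
  have hR : ∏ i : Fin n, ∏ j ∈ univ.filter (fun j : Fin n => i < j),
      ((Flags.qInt q (1 + j.val) : ℂ) - (Flags.qInt q (1 + i.val) : ℂ)) =
      (q : ℂ) ^ (n + 1).choose 3 * ∏ j ∈ Finset.range n, (Flags.qFact q j : ℂ) := by
    rw [← vandermonde_all, ← Fin.prod_univ_eq_prod_range,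
      Finset.prod_comm' (s' := fun j : Fin n => univ.filter (fun i : Fin n => i < j))
        (t' := univ) (fun a b => by simp)]
    refine Finset.prod_congr rfl fun j _ => ?_
    refine Finset.prod_bij' (fun i _ => i.val) (fun a ha =>
      ⟨a, lt_trans (Finset.mem_range.1 ha) j.2⟩) ?_ ?_ ?_ ?_ ?_
    · intro i hi
      simpa using (Finset.mem_filter.1 hi).2
    · intro a ha
      simp only [Finset.mem_filter, Finset.mem_univ, true_and]
      exact Fin.lt_def.2 (Finset.mem_range.1 ha)
    · intro i _; rfl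
    · intro a _; rfl
    · intro i _; rfl
  rw [h3, hR, Fin.prod_univ_eq_prod_range (fun i => (Flags.qFact q (1 + i) : ℂ))] at h
  have hsh : ∏ i ∈ Finset.range n, (Flags.qFact q (1 + i) : ℂ) =
      (∏ j ∈ Finset.range n, (Flags.qFact q j : ℂ)) * Flags.qFact q n := by
    have h1 := (Finset.prod_range_succ (fun j => (Flags.qFact q j : ℂ)) n).symm
    rw [h1, Finset.prod_range_succ']
    simp [Flags.qFact, add_comm 1]
  rw [hsh, Nat.choose_succ_succ' n 2, pow_add] at h
  have hne : (q : ℂ) ^ n.choose 3 *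
      ((∏ j ∈ Finset.range n, (Flags.qFact q j : ℂ)) * Flags.qFact q n) ≠ 0 := by
    refine mul_ne_zero (pow_ne_zero _ (Nat.cast_ne_zero.2 Fintype.card_ne_zero))
      (mul_ne_zero (Finset.prod_ne_zero_iff.2 fun j _ => ?_) ?_) <;>
    exact Nat.cast_ne_zero.2 (Flags.qFact_pos _ _).ne'
  refine mul_right_cancel₀ hne ?_
  rw [← mul_assoc, h]
  ring

/-! ### Orders -/

theorem not_dvd_center [NeZero n] (p : ℕ) [Fact p.Prime] [CharP F p] :
    ¬ p ∣ Nat.card (Subgroup.center (Matrix.SpecialLinearGroup (Fin n) F)) := by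
  intro h
  obtain ⟨z, hz⟩ := exists_prime_orderOf_dvd_card' p h
  obtain ⟨r, -, hr⟩ := Matrix.SpecialLinearGroup.mem_center_iff.1 z.2
  have h1 : (z : Matrix.SpecialLinearGroup (Fin n) F) ^ p = 1 := by
    rw [← hz, ← Subgroup.orderOf_coe, pow_orderOf_eq_one]
  have h2 : (Matrix.scalar (Fin n)) (r ^ p) = (Matrix.scalar (Fin n)) (1 : F) := by
    rw [map_pow, hr, ← Matrix.SpecialLinearGroup.coe_pow, h1, Matrix.SpecialLinearGroup.coe_one,
      map_one]
  have h3 : r = 1 := frobenius_inj F p (by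
    rw [map_one]; exact Matrix.scalar_inj.1 h2)
  have h4 : z = 1 := Subtype.ext (Subtype.ext (by
    rw [← hr, h3, map_one]; rfl))
  rw [h4, orderOf_one] at hz
  exact (Fact.out : p.Prime).one_lt.ne hz

theorem index_UTg [NeZero n] (p : ℕ) [Fact p.Prime] [CharP F p] :
    ¬ p ∣ (UTg n F).index := by
  obtain ⟨f, -, hq⟩ := FiniteField.card F p
  have hU := not_dvd_index (n := n) (F := F) (p := p) f.2 hq
  have h1 := Subgroup.card_mul_index (U n F)
  have h2 := Subgroup.card_mul_index (UTg n F)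
  have h3 := Subgroup.card_eq_card_quotient_mul_card_subgroup
    (Subgroup.center (Matrix.SpecialLinearGroup (Fin n) F))
  rw [card_U] at h1
  rw [card_UTg, h3] at h2
  change Fintype.card F ^ n.choose 2 * _ =
    Nat.card (Matrix.ProjectiveSpecialLinearGroup (Fin n) F) * _ at h2
  rw [← h1, mul_assoc] at h2
  rw [Nat.eq_of_mul_eq_mul_left (pow_pos Fintype.card_pos _) h2]
  exact fun h => ((Fact.out : p.Prime).dvd_mul.1 h).elim hU (not_dvd_center p)

theorem ppart_card [NeZero n] (p : ℕ) [Fact p.Prime] [CharP F p] :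
    p ^ (Nat.card (Matrix.SpecialLinearGroup (Fin n) F)).factorization p =
      Fintype.card F ^ n.choose 2 := by
  have hp : p.Prime := Fact.out
  obtain ⟨f, -, hq⟩ := FiniteField.card F p
  rw [← Subgroup.card_mul_index (UTg n F), card_UTg, hq, ← pow_mul,
    Nat.factorization_mul (pow_ne_zero _ hp.ne_zero) Subgroup.index_ne_zero_of_finite,
    Finsupp.add_apply, hp.factorization_pow, Finsupp.single_eq_same,
    Nat.factorization_eq_zero_of_not_dvd (index_UTg p), add_zero]

theorem ppart_card_psl [NeZero n] (p : ℕ) [Fact p.Prime] [CharP F p] :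
    p ^ (Nat.card (Matrix.ProjectiveSpecialLinearGroup (Fin n) F)).factorization p =
      Fintype.card F ^ n.choose 2 := by
  have hp : p.Prime := Fact.out
  obtain ⟨f, -, hq⟩ := FiniteField.card F p
  haveI : Finite (Matrix.ProjectiveSpecialLinearGroup (Fin n) F) :=
    Finite.of_surjective _ (QuotientGroup.mk'_surjective (Subgroup.center _))
  rw [← Subgroup.card_mul_index (U n F), card_U, hq, ← pow_mul,
    Nat.factorization_mul (pow_ne_zero _ hp.ne_zero) Subgroup.index_ne_zero_of_finite,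
    Finsupp.add_apply, hp.factorization_pow, Finsupp.single_eq_same,
    Nat.factorization_eq_zero_of_not_dvd (not_dvd_index (n := n) (F := F) (p := p) f.2 hq),
    add_zero]

theorem orderOf_UTg [NeZero n] (p : ℕ) [Fact p.Prime] [CharP F p]
    {u : Matrix.SpecialLinearGroup (Fin n) F} (hu : u ∈ UTg n F) (h1 : u ≠ 1) : p ∣ orderOf u := by
  obtain ⟨f, -, hq⟩ := FiniteField.card F p
  have hU : IsPGroup p ↥(UTg n F) := IsPGroup.of_card (n := f * n.choose 2) (by
    rw [card_UTg, hq, ← pow_mul])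
  obtain ⟨k, hk⟩ := IsPGroup.iff_orderOf.1 hU ⟨u, hu⟩
  rw [Subgroup.orderOf_mk] at hk
  rw [hk]
  refine dvd_pow_self p fun hk0 => h1 ?_
  rw [hk0, pow_zero, orderOf_eq_one_iff] at hk
  exact hk

/-! ### Characters of full defect exponent -/

/-- Characters of defect zero vanish at singular elements. -/
theorem vanish_singular {G : Type*} [Group G] [Finite G] {p : ℕ} [Fact p.Prime] (χ : IrrCharacter G)
    (hd : dexp p (χ : G → ℂ) = (Nat.card G).factorization p) {x : G} (hx : p ∣ orderOf x) :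
    (χ : G → ℂ) x = 0 := by
  classical
  haveI := Fintype.ofFinite G
  obtain ⟨M, hM⟩ := exists_pModular (Fact.out : p.Prime)
  have hB := (singleton_iff_dexp hM χ).2 hd
  have h := blockCoeff_eq_zero_of_singular hM (isPBlock_blockOf M χ) hx
  rw [hB, blockCoeff, finsum_mem_singleton] at h
  simpa [Nat.card_pos.ne', irr_one_ne_zero χ.2] using h

theorem irr_of_isIrreducible {G V : Type*} [Group G] [AddCommGroup V] [Module ℂ V]
    {ρ : Representation ℂ G V} (hρ : ρ.IsIrreducible) :
    ∀ S : Submodule ℂ V, (∀ g, ∀ x ∈ S, ρ g x ∈ S) → S = ⊥ ∨ S = ⊤ := by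
  intro S hS
  haveI := hρ
  rcases IsSimpleOrder.eq_bot_or_eq_top (⟨S, fun g v hv => hS g v hv⟩ : Subrepresentation ρ)
    with h | h
  · left; exact congrArg Subrepresentation.toSubmodule h
  · right; exact congrArg Subrepresentation.toSubmodule h

theorem isIrreducible_of_irr {G V : Type*} [Group G] [AddCommGroup V] [Module ℂ V] [Nontrivial V]
    {ρ : Representation ℂ G V}
    (h : ∀ S : Submodule ℂ V, (∀ g, ∀ x ∈ S, ρ g x ∈ S) → S = ⊥ ∨ S = ⊤) : ρ.IsIrreducible := by
  haveI : Nontrivial (Subrepresentation ρ) := ⟨⊥, ⊤, fun e => bot_ne_top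
    (α := Submodule ℂ V) (congrArg Subrepresentation.toSubmodule e)⟩
  exact ⟨fun S => (h S.toSubmodule fun g x hx => S.apply_mem_toSubmodule g hx).imp
    (fun e => Subrepresentation.toSubmodule_injective e)
    (fun e => Subrepresentation.toSubmodule_injective e)⟩

/-- The representation of a character of full defect exponent has regular restriction. -/
theorem exists_module [NeZero n] (p : ℕ) [Fact p.Prime] [CharP F p]
    (χ : IrrCharacter (Matrix.SpecialLinearGroup (Fin n) F))
    (hd : dexp p (χ : Matrix.SpecialLinearGroup (Fin n) F → ℂ) =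
      (Nat.card (Matrix.SpecialLinearGroup (Fin n) F)).factorization p) :
    ∃ (k : ℕ) (ρ : Representation ℂ (Matrix.SpecialLinearGroup (Fin n) F) (Fin k → ℂ)),
      Nontrivial (Fin k → ℂ) ∧ Vanish ρ ∧ Irr ρ ∧ ρ.character = χ.1 := by
  obtain ⟨k, ρ, hρ, he⟩ := χ.2
  refine ⟨k, ρ, ?_, fun u hu h1 => ?_, irr_of_isIrreducible hρ, he⟩
  · have h0 : 0 < k := by
      have h1 := deg_pos (isIrrCharacter_character ρ hρ)
      rwa [deg_character, Module.finrank_fin_fun] at h1
    haveI : Nonempty (Fin k) := ⟨⟨0, h0⟩⟩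
    infer_instance
  · rw [he]
    exact vanish_singular χ hd (orderOf_UTg p hu h1)

theorem eq_of_full [NeZero n] (p : ℕ) [Fact p.Prime] [CharP F p]
    (χ χ' : IrrCharacter (Matrix.SpecialLinearGroup (Fin n) F))
    (hd : dexp p (χ : Matrix.SpecialLinearGroup (Fin n) F → ℂ) =
      (Nat.card (Matrix.SpecialLinearGroup (Fin n) F)).factorization p)
    (hd' : dexp p (χ' : Matrix.SpecialLinearGroup (Fin n) F → ℂ) =
      (Nat.card (Matrix.SpecialLinearGroup (Fin n) F)).factorization p) : χ = χ' := by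
  obtain ⟨k, ρ, hN, hv, hi, he⟩ := exists_module p χ hd
  obtain ⟨k', ρ', hN', hv', hi', he'⟩ := exists_module p χ' hd'
  refine Subtype.ext ?_
  rw [← he, ← he']
  exact character_eq hv hi hv' hi'

theorem exists_steinberg [NeZero n] (p : ℕ) [Fact p.Prime] [CharP F p] :
    ∃ χ : IrrCharacter (Matrix.SpecialLinearGroup (Fin n) F),
      (χ : Matrix.SpecialLinearGroup (Fin n) F → ℂ) 1 = (Fintype.card F : ℂ) ^ n.choose 2 := by
  classical
  have hp : p.Prime := Fact.out
  obtain ⟨f, -, hq⟩ := FiniteField.card F p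
  have hirr : IsIrrCharacter (GL (Fin n) F) (unipotentCharacterGL n F fun _ => 1) :=
    Flags.isIrr_unipotent (fun _ _ _ => le_rfl) (by simp)
  obtain ⟨k, σ, hσ, he⟩ := hirr
  have hk : (k : ℂ) = (Fintype.card F : ℂ) ^ n.choose 2 := by
    rw [← steinberg_degree, ← he, Representation.char_one, Module.finrank_fin_fun]
  have hkn : k = Fintype.card F ^ n.choose 2 := by exact_mod_cast hk
  have hk0 : 0 < k := by rw [hkn]; exact pow_pos Fintype.card_pos _
  haveI : Nonempty (Fin k) := ⟨⟨0, hk0⟩⟩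
  -- it has full defect exponent in the general linear group
  have hd : dexp p (unipotentCharacterGL n F fun _ => 1) =
      (Nat.card (GL (Fin n) F)).factorization p := by
    have hdeg : deg (unipotentCharacterGL n F fun _ => 1) = p ^ (f * n.choose 2 : ℕ) := by
      rw [← he, deg_character, Module.finrank_fin_fun, hkn, hq, ← pow_mul]
    have hG := Flags.card_GL_type (F := F) (Fin n)
    rw [Fintype.card_fin] at hG
    have hnd : ¬ p ∣ (Fintype.card F - 1) ^ n * Flags.qFact (Fintype.card F) n := by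
      have hpq : p ∣ Fintype.card F := hq ▸ dvd_pow_self p f.2.ne'
      intro h
      rcases hp.dvd_mul.mp h with h1 | h1
      · have h3 := Nat.dvd_sub hpq (hp.dvd_of_dvd_pow h1)
        rw [Nat.sub_sub_self (show 1 ≤ Fintype.card F from Fintype.card_pos)] at h3
        exact hp.one_lt.ne' (Nat.dvd_one.mp h3)
      · obtain ⟨j, -, hj⟩ := (Prime.dvd_finsetProd_iff (Nat.prime_iff.mp hp) _).mp h1
        rw [Flags.qInt, Finset.sum_range_succ'] at hj
        simp only [pow_zero] at hj
        have h3 : p ∣ ∑ k ∈ Finset.range j, Fintype.card F ^ (k + 1) :=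
          Finset.dvd_sum fun k _ => dvd_pow hpq (Nat.succ_ne_zero k)
        exact hp.one_lt.ne' (Nat.dvd_one.mp ((Nat.dvd_add_right h3).mp hj))
    have hne : (Fintype.card F - 1) ^ n * Flags.qFact (Fintype.card F) n ≠ 0 :=
      fun h => hnd (h ▸ dvd_zero p)
    rw [dexp, hdeg, hG, mul_assoc, Nat.factorization_mul (pow_ne_zero _ Fintype.card_ne_zero) hne,
      Finsupp.add_apply, Nat.factorization_eq_zero_of_not_dvd hnd, add_zero, hq, ← pow_mul]
  let toGL : Matrix.SpecialLinearGroup (Fin n) F →* GL (Fin n) F := Matrix.SpecialLinearGroup.toGL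
  let ρ : Representation ℂ (Matrix.SpecialLinearGroup (Fin n) F) (Fin k → ℂ) := σ.comp toGL
  have hv : Vanish ρ := by
    intro u hu h1
    have h2 : p ∣ orderOf (toGL u) := by
      rw [orderOf_injective _ Matrix.SpecialLinearGroup.toGL_injective]
      exact orderOf_UTg p hu h1
    show σ.character (toGL u) = 0
    rw [he]
    exact vanish_singular ⟨_, Flags.isIrr_unipotent (fun _ _ _ => le_rfl) (by simp)⟩ hd h2
  have hdim : Module.finrank ℂ (Fin k → ℂ) = Nat.card ↥(UTg n F) := by
    rw [Module.finrank_fin_fun, hkn, card_UTg]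
  -- every element is a diagonal one times one of determinant one
  let dg : Fˣ → GL (Fin n) F := fun a => Matrix.GeneralLinearGroup.mkOfDetNeZero
    (Matrix.diagonal (Function.update 1 0 (a : F))) (by
      rw [Matrix.det_diagonal, Finset.prod_update_of_mem (Finset.mem_univ _)]; simp)
  have hsplit : ∀ g : GL (Fin n) F, ∃ (a : Fˣ) (h : Matrix.SpecialLinearGroup (Fin n) F),
      g = toGL h * dg a := by
    intro g
    have hdet : (dg g.det).val.det = g.val.det := by
      show (Matrix.diagonal (Function.update (1 : Fin n → F) 0 (g.det : F))).det = _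
      rw [Matrix.det_diagonal, Finset.prod_update_of_mem (Finset.mem_univ _)]
      simp
    refine ⟨g.det, ⟨(g * (dg g.det)⁻¹).val, ?_⟩, Units.ext ?_⟩
    · rw [Units.val_mul, Matrix.det_mul, ← hdet, ← Matrix.det_mul, Units.mul_inv, Matrix.det_one]
    · show g.val = (g * (dg g.det)⁻¹).val * (dg g.det).val
      rw [← Units.val_mul, inv_mul_cancel_right]
  have hnorm : ∀ (a : Fˣ) (u : Matrix.SpecialLinearGroup (Fin n) F), u ∈ UTg n F →
      ∃ u' ∈ UTg n F, dg a * toGL u = toGL u' * dg a := by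
    intro a u hu
    set e : Fin n → F := Function.update 1 0 (a : F) with hE
    have he0 : ∀ i, e i ≠ 0 := fun i => by
      rw [hE]
      rcases eq_or_ne i 0 with rfl | hi
      · rw [Function.update_self]; exact a.ne_zero
      · rw [Function.update_of_ne hi]; exact one_ne_zero
    set M : Matrix (Fin n) (Fin n) F := Matrix.of fun i j => e i * u.1 i j / e j with hM
    have hMU : IsUT M := ⟨fun i => by
        rw [hM, Matrix.of_apply, (mem_UTg.1 hu).1, mul_one, div_self (he0 i)],
      fun i j h => by rw [hM, Matrix.of_apply, (mem_UTg.1 hu).2 i j h, mul_zero, zero_div]⟩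
    refine ⟨⟨M, ?_⟩, mem_UTg.2 hMU, Units.ext ?_⟩
    · rw [Matrix.det_of_isUpperTriangular (fun i j h => hMU.2 i j h)]
      exact Finset.prod_eq_one fun i _ => hMU.1 i
    · show Matrix.diagonal e * u.1 = M * Matrix.diagonal e
      ext i j
      rw [Matrix.diagonal_mul, Matrix.mul_diagonal, hM, Matrix.of_apply,
        div_mul_cancel₀ _ (he0 j)]
  have hσmul : ∀ a b v, σ (a * b) v = σ a (σ b v) := fun a b v => by rw [map_mul]; rfl
  have hirrρ : Irr ρ := by
    intro S hS
    rcases eq_or_ne S ⊥ with h | hS0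
    · exact Or.inl h
    obtain ⟨v, hv0, hvfix⟩ : ∃ v : Fin k → ℂ, v ≠ 0 ∧ ∀ u ∈ UTg n F, ρ u v = v := by
      obtain ⟨v, hv0, hv⟩ := exists_bline hv
      exact ⟨v, hv0, hv.1⟩
    right
    -- the line of `v` is preserved by the diagonal elements
    have hline : ∀ a : Fˣ, ∃ c : ℂ, c • v = σ (dg a) v := by
      intro a
      refine fixed_smul hv hdim hv0 hvfix fun u hu => ?_
      obtain ⟨u', hu', he'⟩ := hnorm a⁻¹ u hu
      have hinv : dg a⁻¹ = (dg a)⁻¹ := by
        refine eq_inv_of_mul_eq_one_left (Units.ext ?_)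
        show Matrix.diagonal _ * Matrix.diagonal _ = (1 : Matrix (Fin n) (Fin n) F)
        rw [Matrix.diagonal_mul_diagonal, ← Matrix.diagonal_one]
        congr 1
        funext i
        rcases eq_or_ne i 0 with rfl | hi
        · simp
        · simp [hi]
      have h2 : toGL u * dg a = dg a * toGL u' := by
        rw [hinv] at he'
        calc toGL u * dg a = dg a * ((dg a)⁻¹ * toGL u) * dg a := by group
          _ = dg a * toGL u' := by rw [he']; group
      show σ (toGL u) (σ (dg a) v) = σ (dg a) v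
      rw [← hσmul, h2, hσmul]
      exact congrArg _ (hvfix u' hu')
    let E := proj ρ (1 : ↥(UTg n F) →* ℂ)
    -- the kernel of all translates of the projection
    let K : Submodule ℂ (Fin k → ℂ) := ⨅ h : Matrix.SpecialLinearGroup (Fin n) F,
      LinearMap.ker (E.comp (ρ h))
    have hK : ∀ x, x ∈ K ↔ ∀ h, E (ρ h x) = 0 := fun x => by simp [K, Submodule.mem_iInf]
    have hEfix : ∀ x, ∀ u ∈ UTg n F, ρ u (E x) = E x := fun x u hu => by
      simpa using act_proj ρ (1 : ↥(UTg n F) →* ℂ) ⟨u, hu⟩ x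
    have hEv : E v = (Nat.card ↥(UTg n F) : ℂ) • v := by
      simp only [E, proj, LinearMap.sum_apply, LinearMap.smul_apply, MonoidHom.one_apply, one_smul,
        hvfix _ (Subtype.coe_prop _), Finset.sum_const, ← Nat.cast_smul_eq_nsmul ℂ,
        Finset.card_univ, Nat.card_eq_fintype_card]
    have hKbot : K = ⊥ := by
      refine (irr_of_isIrreducible hσ K fun g x hx => ?_).resolve_right fun h => ?_
      · obtain ⟨a, h0, rfl⟩ := hsplit g
        rw [hK] at hx ⊢
        intro h
        obtain ⟨b, h1, he'⟩ := hsplit (dg a)⁻¹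
        -- move the diagonal element to the left
        have hh : toGL h * (toGL h0 * dg a) = dg a * ((dg a)⁻¹ * toGL (h * h0) * dg a) := by
          rw [map_mul]; group
        obtain ⟨h2, hh2⟩ : ∃ h2, toGL h2 = (dg a)⁻¹ * toGL (h * h0) * dg a := by
          have hdet : ((dg a)⁻¹ * toGL (h * h0) * dg a).det = 1 := by
            rw [map_mul, map_mul, map_inv, mul_comm _ (Matrix.GeneralLinearGroup.det (toGL (h * h0))),
              mul_assoc, inv_mul_cancel, mul_one]
            exact Units.ext (h * h0).2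
          exact ⟨⟨((dg a)⁻¹ * toGL (h * h0) * dg a).val, congrArg Units.val hdet⟩, Units.ext rfl⟩
        show E (σ (toGL h) (σ (toGL h0 * dg a) x)) = 0
        rw [← hσmul, hh, ← hh2, hσmul]
        have hz : E (ρ h2 x) = 0 := hx h2
        -- the projection commutes with the diagonal element
        have hcomm : ∀ y, E (σ (dg a) y) = σ (dg a) (E y) := by
          intro y
          simp only [E, proj, LinearMap.sum_apply, LinearMap.smul_apply, MonoidHom.one_apply,
            one_smul, map_sum]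
          have hc : ∀ u : ↥(UTg n F), ∃ u' : ↥(UTg n F), dg a * toGL u.1 = toGL u'.1 * dg a :=
            fun u => by
              obtain ⟨u', hu', he'⟩ := hnorm a u u.2
              exact ⟨⟨u', hu'⟩, he'⟩
          choose c hc using hc
          refine (Fintype.sum_equiv (Equiv.ofBijective c ?_) _ _ fun u => ?_).symm
          · refine Finite.injective_iff_bijective.1 fun u u' e => ?_
            have := hc u
            rw [e, ← hc u'] at this
            exact Subtype.ext (Matrix.SpecialLinearGroup.toGL_injective (mul_left_cancel this))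
          · show σ (dg a) (σ (toGL u.1) y) = σ (toGL (c u).1) (σ (dg a) y)
            rw [← hσmul, ← hσmul, hc]
        show E (σ (dg a) (σ (toGL h2) x)) = 0
        rw [hcomm, show E (σ (toGL h2) x) = 0 from hz, map_zero]
      · have hv' : v ∈ K := by rw [h]; trivial
        have h1 := (hK v).1 hv' 1
        rw [map_one, Module.End.one_apply, hEv] at h1
        rcases smul_eq_zero.1 h1 with h2 | h2
        · exact card_ne h2
        · exact hv0 h2
    obtain ⟨x, hxS, hx0⟩ := Submodule.exists_mem_ne_zero_of_ne_bot hS0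
    obtain ⟨h, hEne⟩ : ∃ h, E (ρ h x) ≠ 0 := by
      by_contra hall
      push Not at hall
      exact hx0 (by rw [← Submodule.mem_bot ℂ, ← hKbot]; exact (hK x).2 hall)
    have hES : E (ρ h x) ∈ S := by
      simp only [E, proj, LinearMap.sum_apply, LinearMap.smul_apply, MonoidHom.one_apply, one_smul]
      exact Submodule.sum_mem _ fun u _ => hS _ _ (hS _ _ hxS)
    obtain ⟨c, hc⟩ := fixed_smul hv hdim hv0 hvfix (hEfix (ρ h x))
    have hc0 : c ≠ 0 := fun h0 => hEne (by rw [← hc, h0, zero_smul])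
    have hvS : v ∈ S := by
      have := S.smul_mem c⁻¹ hES
      rwa [← hc, smul_smul, inv_mul_cancel₀ hc0, one_smul] at this
    have hGL : orbitSpan ρ v = ⊤ := by
      refine (irr_of_isIrreducible hσ _ fun g y hy => ?_).resolve_left fun h0 => hv0 ?_
      · refine Submodule.span_induction (p := fun y _ => σ g y ∈ orbitSpan ρ v) ?_ ?_ ?_ ?_ hy
        · rintro _ ⟨h', rfl⟩
          obtain ⟨a, h1, he'⟩ := hsplit (g * toGL h')
          obtain ⟨d, hd'⟩ := hline a
          show σ g (σ (toGL h') v) ∈ _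
          rw [← hσmul, he', hσmul, ← hd', map_smul]
          exact Submodule.smul_mem _ _ (mem_orbitSpan (ρ := ρ) v h1)
        · rw [map_zero]; exact Submodule.zero_mem _
        · intro a b _ _ ha hb; rw [map_add]; exact Submodule.add_mem _ ha hb
        · intro a b _ hb; rw [map_smul]; exact Submodule.smul_mem _ _ hb
      · rw [← Submodule.mem_bot ℂ, ← h0]; exact orbitSpan_self v
    refine top_le_iff.1 (hGL ▸ Submodule.span_le.2 ?_)
    rintro _ ⟨g, rfl⟩
    exact hS g v hvS
  refine ⟨⟨ρ.character, isIrrCharacter_character ρ (isIrreducible_of_irr hirrρ)⟩, ?_⟩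
  show ρ.character 1 = _
  rw [Representation.char_one, Module.finrank_fin_fun, hk]

theorem steinberg_dexp [NeZero n] (p : ℕ) [Fact p.Prime] [CharP F p]
    {χ : IrrCharacter (Matrix.SpecialLinearGroup (Fin n) F)}
    (h : (χ : Matrix.SpecialLinearGroup (Fin n) F → ℂ) 1 = (Fintype.card F : ℂ) ^ n.choose 2) :
    dexp p (χ : Matrix.SpecialLinearGroup (Fin n) F → ℂ) =
      (Nat.card (Matrix.SpecialLinearGroup (Fin n) F)).factorization p := by
  have h1 := char_one_eq_deg (irr_isCharacter χ.2)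
  rw [h, ← Nat.cast_pow, Nat.cast_inj, ← ppart_card p] at h1
  rw [dexp, ← h1, (Fact.out : p.Prime).factorization_pow, Finsupp.single_eq_same]

theorem exists_psl_steinberg [NeZero n] (p : ℕ) [Fact p.Prime] [CharP F p] :
    ∃ χ : Matrix.ProjectiveSpecialLinearGroup (Fin n) F → ℂ,
      IsIrrCharacter (Matrix.ProjectiveSpecialLinearGroup (Fin n) F) χ ∧
        ∀ P : Sylow p (Matrix.ProjectiveSpecialLinearGroup (Fin n) F), χ 1 = Nat.card P ∧
          ∀ x : Matrix.ProjectiveSpecialLinearGroup (Fin n) F, x ∈ P → x ≠ 1 → χ x = 0 := by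
  classical
  have hp : p.Prime := Fact.out
  haveI : Finite (Matrix.ProjectiveSpecialLinearGroup (Fin n) F) :=
    Finite.of_surjective _ (QuotientGroup.mk'_surjective (Subgroup.center _))
  obtain ⟨st, hst⟩ := exists_steinberg (n := n) (F := F) p
  obtain ⟨k, ρ, hN, hv, hi, he⟩ := exists_module p st (steinberg_dexp p hst)
  obtain ⟨v, hv0, hvB⟩ := exists_up_fixed hv hi
  -- the centre acts trivially
  have hZ : Subgroup.center (Matrix.SpecialLinearGroup (Fin n) F) ≤
      MonoidHom.ker (ρ : Matrix.SpecialLinearGroup (Fin n) F →* _) := by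
    intro z hz
    obtain ⟨r, -, hr⟩ := Matrix.SpecialLinearGroup.mem_center_iff.1 hz
    have hzU : IsUp z := fun i j h => by
      rw [← hr, Matrix.scalar_apply, Matrix.diagonal_apply_ne _ h.ne']
    rw [MonoidHom.mem_ker]
    refine LinearMap.ext fun x => ?_
    show ρ z x = x
    have hx : x ∈ orbitSpan ρ v := by rw [orbitSpan_top hi hv0]; trivial
    refine Submodule.span_induction (p := fun x _ => ρ z x = x) ?_ (map_zero _)
      (fun a b _ _ ha hb => by rw [map_add, ha, hb]) (fun c a _ ha => by rw [map_smul, ha]) hx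
    rintro _ ⟨g, rfl⟩
    show ρ z (ρ g v) = ρ g v
    rw [← rho_mul, ← Subgroup.mem_center_iff.1 hz g, rho_mul, hvB z hzU]
  let τ : Representation ℂ (Matrix.ProjectiveSpecialLinearGroup (Fin n) F) (Fin k → ℂ) :=
    QuotientGroup.lift _ (ρ : Matrix.SpecialLinearGroup (Fin n) F →* _) hZ
  have hτirr : τ.IsIrreducible := isIrreducible_of_irr fun S hS => hi S fun g x hx =>
    hS (QuotientGroup.mk' _ g) x hx
  let χ : IrrCharacter (Matrix.ProjectiveSpecialLinearGroup (Fin n) F) :=
    ⟨τ.character, isIrrCharacter_character τ hτirr⟩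
  have h1 : τ.character 1 = (Fintype.card F : ℂ) ^ n.choose 2 := by
    rw [← hst, ← he, Representation.char_one, Representation.char_one]
  have hd : dexp p (χ : Matrix.ProjectiveSpecialLinearGroup (Fin n) F → ℂ) =
      (Nat.card (Matrix.ProjectiveSpecialLinearGroup (Fin n) F)).factorization p := by
    have h2 := char_one_eq_deg (irr_isCharacter χ.2)
    rw [show (χ : Matrix.ProjectiveSpecialLinearGroup (Fin n) F → ℂ) 1 = τ.character 1 from rfl, h1,
      ← Nat.cast_pow, Nat.cast_inj, ← ppart_card_psl p] at h2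
    rw [dexp, ← h2, hp.factorization_pow, Finsupp.single_eq_same]
  refine ⟨τ.character, χ.2, fun P => ⟨?_, fun x hx hx1 => ?_⟩⟩
  · rw [h1, ← Nat.cast_pow, ← ppart_card_psl p, Sylow.card_eq_multiplicity]
  · refine vanish_singular χ hd ?_
    obtain ⟨a, ha⟩ := IsPGroup.iff_orderOf.1 P.isPGroup' ⟨x, hx⟩
    rw [Subgroup.orderOf_mk] at ha
    rw [ha]
    refine dvd_pow_self p fun h0 => hx1 ?_
    rw [h0, pow_zero, orderOf_eq_one_iff] at ha
    exact ha

/-! ### Blocks -/

open Cfsg.Agent.Small.Generation in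
/-- A block has defect zero or full defect. -/
theorem defect_dichotomy [NeZero n] (p : ℕ) [Fact p.Prime] [CharP F p] {M : Ideal AlgInt}
    (hM : IsPModular p M) {B : Set (IrrCharacter (Matrix.SpecialLinearGroup (Fin n) F))}
    (hB : IsPBlock M B) :
    blockDefect p B = 0 ∨
      blockDefect p B = (Nat.card (Matrix.SpecialLinearGroup (Fin n) F)).factorization p := by
  classical
  haveI := Fintype.ofFinite (Matrix.SpecialLinearGroup (Fin n) F)
  have hp : p.Prime := Fact.out
  obtain ⟨Q, hQ⟩ := exists_isDefectGroup hM hB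
  obtain ⟨y, hy, hyQ⟩ := (isDefectGroup_iff B Q).1 hQ
  have hcard := card_defectGroup hM hB hQ
  rcases eq_or_ne Q ⊥ with hbot | hne
  · left
    rw [hbot, Subgroup.card_bot] at hcard
    exact Nat.pow_right_injective hp.two_le (hcard.symm.trans (pow_zero p).symm)
  right
  -- the fixed space of the defect group
  let W : Submodule F (Fin n → F) :=
    { carrier := {x | ∀ g ∈ Q, g.1 *ᵥ x = x}
      zero_mem' := fun g _ => Matrix.mulVec_zero _
      add_mem' := fun {x z} hx hz g hg => by rw [Matrix.mulVec_add, hx g hg, hz g hg]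
      smul_mem' := fun c x hx g hg => by rw [Matrix.mulVec_smul, hx g hg] }
  obtain ⟨w0, hw0, hw00⟩ : ∃ w ∈ W, w ≠ 0 := by
    letI : MulAction ↥Q (Fin n → F) :=
      { smul := fun g x => g.1.1 *ᵥ x
        one_smul := fun x => Matrix.one_mulVec x
        mul_smul := fun a b x => (Matrix.mulVec_mulVec x a.1.1 b.1.1).symm }
    have hdvd : p ∣ Nat.card (Fin n → F) := by
      obtain ⟨f, -, hq⟩ := FiniteField.card F p
      rw [Nat.card_fun, Nat.card_eq_fintype_card, hq, Nat.card_fin, ← pow_mul]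
      exact dvd_pow_self p (Nat.mul_ne_zero f.2.ne' (NeZero.ne n))
    obtain ⟨w, hw, hne0⟩ := hyQ.isPGroup.exists_fixed_point_of_prime_dvd_card_of_fixed_point
      (Fin n → F) hdvd (a := 0) (fun g => Matrix.mulVec_zero _)
    exact ⟨w, fun g hg => hw ⟨g, hg⟩, fun h => hne0 h.symm⟩
  -- elements trivial on the fixed space and on the quotient
  let A : Subgroup (Matrix.SpecialLinearGroup (Fin n) F) :=
    { carrier := {g | (∀ x ∈ W, g.1 *ᵥ x = x) ∧ ∀ x, g.1 *ᵥ x - x ∈ W}
      one_mem' := ⟨fun x _ => Matrix.one_mulVec x, fun x => by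
        rw [Matrix.SpecialLinearGroup.coe_one, Matrix.one_mulVec, sub_self]; exact W.zero_mem⟩
      mul_mem' := fun {a b} ha hb => ⟨fun x hx => by
        rw [Matrix.SpecialLinearGroup.coe_mul, ← Matrix.mulVec_mulVec, hb.1 x hx, ha.1 x hx],
        fun x => by
          rw [Matrix.SpecialLinearGroup.coe_mul, ← Matrix.mulVec_mulVec,
            ← sub_add_sub_cancel _ (b.1 *ᵥ x) x]
          exact W.add_mem (ha.2 _) (hb.2 x)⟩
      inv_mem' := fun {a} ha => by
        have hk : ∀ x, a⁻¹.1 *ᵥ (a.1 *ᵥ x) = x := fun x => by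
          rw [Matrix.mulVec_mulVec, ← Matrix.SpecialLinearGroup.coe_mul, inv_mul_cancel,
            Matrix.SpecialLinearGroup.coe_one, Matrix.one_mulVec]
        refine ⟨fun x hx => ?_, fun x => ?_⟩
        · conv_lhs => rw [← ha.1 x hx]
          exact hk x
        · obtain ⟨z, rfl⟩ : ∃ z, a.1 *ᵥ z = x := ⟨a⁻¹.1 *ᵥ x, by
            rw [Matrix.mulVec_mulVec, ← Matrix.SpecialLinearGroup.coe_mul, mul_inv_cancel,
              Matrix.SpecialLinearGroup.coe_one, Matrix.one_mulVec]⟩
          rw [hk, ← neg_sub]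
          exact W.neg_mem (ha.2 z) }
  have hApgrp : IsPGroup p ↥A := by
    intro g
    refine ⟨1, Subtype.ext (Subtype.ext ?_)⟩
    rw [pow_one, SubgroupClass.coe_pow, Matrix.SpecialLinearGroup.coe_pow]
    show g.1.1 ^ p = 1
    set N := g.1.1 - 1 with hN
    have hN2 : N ^ 2 = 0 := by
      refine Matrix.ext_of_mulVec_single fun i => ?_
      rw [pow_two, ← Matrix.mulVec_mulVec, Matrix.zero_mulVec, hN, Matrix.sub_mulVec,
        Matrix.one_mulVec, Matrix.sub_mulVec, Matrix.one_mulVec, sub_eq_zero]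
      exact g.2.1 _ (g.2.2 _)
    haveI : Nonempty (Fin n) := ⟨0⟩
    rw [show g.1.1 = N + 1 by rw [hN, sub_add_cancel], add_pow_char_of_commute p (Commute.one_right N), one_pow,
      ← Nat.sub_add_cancel hp.two_le, pow_add, hN2, mul_zero, zero_add]
  have hstab : ∀ m ∈ Subgroup.normalizer (Q : Set (Matrix.SpecialLinearGroup (Fin n) F)), ∀ x ∈ W,
      m.1 *ᵥ x ∈ W := by
    intro m hm x hx g hg
    have h1 : m⁻¹ * g * m ∈ Q := (Subgroup.mem_normalizer_iff''.1 hm g).1 hg
    rw [Matrix.mulVec_mulVec, ← Matrix.SpecialLinearGroup.coe_mul,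
      show g * m = m * (m⁻¹ * g * m) by group, Matrix.SpecialLinearGroup.coe_mul,
      ← Matrix.mulVec_mulVec, hx _ h1]
  have hconjA : ∀ m ∈ Subgroup.normalizer (Q : Set (Matrix.SpecialLinearGroup (Fin n) F)), ∀ a ∈ A,
      m * a * m⁻¹ ∈ A := by
    intro m hm a ha
    have hk : ∀ x, m.1 *ᵥ (m⁻¹.1 *ᵥ x) = x := fun x => by
      rw [Matrix.mulVec_mulVec, ← Matrix.SpecialLinearGroup.coe_mul, mul_inv_cancel,
        Matrix.SpecialLinearGroup.coe_one, Matrix.one_mulVec]
    refine ⟨fun x hx => ?_, fun x => ?_⟩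
    · rw [Matrix.SpecialLinearGroup.coe_mul, Matrix.SpecialLinearGroup.coe_mul,
        ← Matrix.mulVec_mulVec, ← Matrix.mulVec_mulVec, ha.1 _ (hstab _ (inv_mem hm) x hx), hk]
    · rw [Matrix.SpecialLinearGroup.coe_mul, Matrix.SpecialLinearGroup.coe_mul,
        ← Matrix.mulVec_mulVec, ← Matrix.mulVec_mulVec]
      have h1 := hstab m hm _ (ha.2 (m⁻¹.1 *ᵥ x))
      rwa [Matrix.mulVec_sub, hk] at h1
  have hNA : Subgroup.normalizer (Q : Set (Matrix.SpecialLinearGroup (Fin n) F)) ≤
      Subgroup.normalizer (A : Set (Matrix.SpecialLinearGroup (Fin n) F)) := by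
    intro m hm
    rw [Subgroup.mem_normalizer_iff]
    refine fun a => ⟨fun ha => hconjA m hm a ha, fun ha => ?_⟩
    have h1 := hconjA _ (inv_mem hm) _ ha
    rwa [show m⁻¹ * (m * a * m⁻¹) * m⁻¹⁻¹ = a by group] at h1
  set R := A ⊔ Q with hR
  have hRp : IsPGroup p ↥R :=
    hApgrp.to_sup_of_normal_left' hyQ.isPGroup (Subgroup.le_normalizer.trans hNA)
  have hQR : Q ≤ R := le_sup_right
  have hPn : Subgroup.normalizer (Q : Set (Matrix.SpecialLinearGroup (Fin n) F)) ≤
      Subgroup.normalizer (R : Set (Matrix.SpecialLinearGroup (Fin n) F)) := by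
    have hone : ∀ m ∈ Subgroup.normalizer (Q : Set (Matrix.SpecialLinearGroup (Fin n) F)),
        ∀ x ∈ R, m * x * m⁻¹ ∈ R := by
      intro m hm x hx
      rw [hR, Subgroup.sup_eq_closure] at hx
      refine Subgroup.closure_induction (p := fun x _ => m * x * m⁻¹ ∈ R) ?_ ?_ ?_ ?_ hx
      · rintro z (hz | hz)
        · exact Subgroup.mem_sup_left (hconjA m hm z hz)
        · exact Subgroup.mem_sup_right ((Subgroup.mem_normalizer_iff.1 hm z).1 hz)
      · rw [mul_one, mul_inv_cancel]; exact one_mem _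
      · intro a b _ _ ha hb
        rw [show m * (a * b) * m⁻¹ = (m * a * m⁻¹) * (m * b * m⁻¹) by group]
        exact mul_mem ha hb
      · intro a _ ha
        rw [show m * a⁻¹ * m⁻¹ = (m * a * m⁻¹)⁻¹ by group]
        exact inv_mem ha
    intro m hm
    rw [Subgroup.mem_normalizer_iff]
    refine fun x => ⟨hone m hm x, fun hx => ?_⟩
    have h1 := hone _ (inv_mem hm) _ hx
    rwa [show m⁻¹ * (m * x * m⁻¹) * m⁻¹⁻¹ = x by group] at h1
  have hRQ : R = Q := by
    haveI : (R.subgroupOf (Subgroup.normalizer (Q : Set (Matrix.SpecialLinearGroup (Fin n) F)))).Normal :=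
      Subgroup.normal_subgroupOf_of_le_normalizer hPn
    have h1 := pCore_normalizer_eq hM hB hQ (R.subgroupOf _)
      (hRp.comap_of_injective _ (Subgroup.subtype_injective _)) (fun z hz => hQR hz)
    rw [Subgroup.subgroupOf_map_subtype] at h1
    by_contra hne'
    have hlt : Q.subgroupOf R < ⊤ :=
      lt_top_iff_ne_top.2 fun h => hne' (le_antisymm (Subgroup.subgroupOf_eq_top.1 h) hQR)
    haveI := hRp.isNilpotent
    obtain ⟨z, hz, hzQ⟩ := SetLike.exists_of_lt (normalizerCondition_of_isNilpotent _ hlt)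
    refine hzQ ?_
    rw [Subgroup.mem_subgroupOf, ← h1]
    refine ⟨z.2, (Subgroup.mem_normalizer_iff (H := Q)).2 ?_⟩
    intro x
    constructor
    · intro hx
      exact (Subgroup.mem_normalizer_iff.1 hz ⟨x, hQR hx⟩).1 hx
    · intro hx
      have hxR : x ∈ R := by
        have := mul_mem (mul_mem (inv_mem z.2) (hQR hx)) z.2
        rwa [show (z : Matrix.SpecialLinearGroup (Fin n) F)⁻¹ *
          ((z : Matrix.SpecialLinearGroup (Fin n) F) * x * (z : Matrix.SpecialLinearGroup (Fin n) F)⁻¹)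
          * z = x by group] at this
      exact (Subgroup.mem_normalizer_iff.1 hz ⟨x, hxR⟩).2 hx
  have hAQ : A ≤ Q := hRQ ▸ le_sup_left
  have hyc := hyQ.self_mem_centralizer
  -- a functional vanishing on the fixed space
  have hsep : ∀ x, x ∉ W → ∃ φ : Fin n → F, (∀ w ∈ W, φ ⬝ᵥ w = 0) ∧ φ ⬝ᵥ x ≠ 0 := by
    intro x hx
    obtain ⟨l, hl, hlW⟩ := W.exists_dual_map_eq_bot_of_notMem hx inferInstance
    have hdot : ∀ z, (fun i => l (Pi.single i 1)) ⬝ᵥ z = l z := by
      intro z
      conv_rhs => rw [pi_eq_sum_univ' z]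
      simp only [dotProduct, map_sum, map_smul, smul_eq_mul]
      exact Finset.sum_congr rfl fun i _ => mul_comm _ _
    refine ⟨fun i => l (Pi.single i 1), ?_, ?_⟩
    · intro w hw
      rw [hdot]
      exact (Submodule.eq_bot_iff _).1 hlW _ ⟨w, hw, rfl⟩
    · rw [hdot]; exact hl
  obtain ⟨x0, hx0⟩ : ∃ x0, x0 ∉ W := by
    by_contra h
    push Not at h
    refine hne ((Subgroup.eq_bot_iff_forall Q).2 fun g hg => Subtype.ext ?_)
    refine Matrix.ext_of_mulVec_single fun i => ?_
    rw [h (Pi.single i 1) g hg, Matrix.SpecialLinearGroup.coe_one, Matrix.one_mulVec]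
  have hyA : ∀ φ : Fin n → F, (∀ w ∈ W, φ ⬝ᵥ w = 0) → ∀ w ∈ W, ∀ z,
      (φ ⬝ᵥ z) • (y.1 *ᵥ w) = (φ ⬝ᵥ (y.1 *ᵥ z)) • w := by
    intro φ hφ w hw z
    have hmem : tE w φ (hφ w hw) ∈ A := ⟨fun x hx => by
        show tv w φ *ᵥ x = x
        rw [tv_mulVec, hφ x hx, zero_smul, add_zero],
      fun x => by
        show tv w φ *ᵥ x - x ∈ W
        rw [tv_mulVec, add_sub_cancel_left]
        exact W.smul_mem _ hw⟩
    have h2 := congrArg (fun g => g.1 *ᵥ z) (Subgroup.mem_centralizer_iff.1 hyc _ (hAQ hmem))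
    simp only [Matrix.SpecialLinearGroup.coe_mul, ← Matrix.mulVec_mulVec] at h2
    change tv w φ *ᵥ (y.1 *ᵥ z) = y.1 *ᵥ (tv w φ *ᵥ z) at h2
    rw [tv_mulVec, tv_mulVec, Matrix.mulVec_add, Matrix.mulVec_smul] at h2
    exact (add_left_cancel h2).symm
  obtain ⟨φ0, hφ0, hφx⟩ := hsep x0 hx0
  set c : F := φ0 ⬝ᵥ (y.1 *ᵥ x0) / φ0 ⬝ᵥ x0
  have hcW : ∀ w ∈ W, y.1 *ᵥ w = c • w := by
    intro w hw
    have h := hyA φ0 hφ0 w hw x0
    rw [show c = (φ0 ⬝ᵥ x0)⁻¹ * (φ0 ⬝ᵥ (y.1 *ᵥ x0)) by simp only [c]; rw [div_eq_inv_mul],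
      ← smul_smul, ← h, smul_smul, inv_mul_cancel₀ hφx, one_smul]
  have hcQ : ∀ z, y.1 *ᵥ z - c • z ∈ W := by
    intro z
    by_contra h
    obtain ⟨φ, hφ, hφz⟩ := hsep _ h
    have h1 := hyA φ hφ w0 hw0 z
    rw [hcW w0 hw0, smul_smul] at h1
    have h2 := smul_left_injective F hw00 h1
    rw [dotProduct_sub, dotProduct_smul, ← h2, smul_eq_mul, mul_comm c, sub_self] at hφz
    exact hφz rfl
  set N := y.1 - c • (1 : Matrix (Fin n) (Fin n) F) with hN
  have hN2 : N ^ 2 = 0 := by
    refine Matrix.ext_of_mulVec_single fun i => ?_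
    rw [pow_two, ← Matrix.mulVec_mulVec, Matrix.zero_mulVec, hN, Matrix.sub_mulVec,
      Matrix.smul_mulVec, Matrix.one_mulVec, Matrix.sub_mulVec, Matrix.smul_mulVec,
      Matrix.one_mulVec, sub_eq_zero]
    exact hcW _ (hcQ _)
  haveI : Nonempty (Fin n) := ⟨0⟩
  have hyp : (y ^ p).1 = (c ^ p) • (1 : Matrix (Fin n) (Fin n) F) := by
    rw [Matrix.SpecialLinearGroup.coe_pow,
      show y.1 = N + c • (1 : Matrix (Fin n) (Fin n) F) by rw [hN, sub_add_cancel],
      add_pow_char_of_commute p ((Commute.one_right N).smul_right c), smul_pow, one_pow,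
      ← Nat.sub_add_cancel hp.two_le, pow_add, hN2, mul_zero, zero_add]
  have hcp : y ^ p ∈ Subgroup.center (Matrix.SpecialLinearGroup (Fin n) F) :=
    Subgroup.mem_center_iff.2 fun g => Subtype.ext (by
      rw [Matrix.SpecialLinearGroup.coe_mul, Matrix.SpecialLinearGroup.coe_mul, hyp,
        Matrix.mul_smul, Matrix.smul_mul, Matrix.mul_one, Matrix.one_mul])
  have hyZ : y ∈ Subgroup.center (Matrix.SpecialLinearGroup (Fin n) F) := by
    have hcop : p.Coprime (orderOf y) :=
      (hp.coprime_iff_not_dvd).2 (defectClass_regular hM hB hy)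
    obtain ⟨k, hk⟩ : ∃ k : ℕ, y = (y ^ p) ^ k := by
      obtain ⟨k, hk⟩ := exists_pow_eq_self_of_coprime hcop
      exact ⟨k, hk.symm⟩
    rw [hk]
    exact pow_mem hcp k
  rw [← factorization_centralizer_defectClass hM hB hy]
  congr 2
  exact Nat.card_congr (Equiv.subtypeUnivEquiv fun z =>
    Subgroup.mem_centralizer_singleton_iff.2 (Subgroup.mem_center_iff.1 hyZ z))

theorem card_defect_zero [NeZero n] (p : ℕ) [Fact p.Prime] [CharP F p] {M : Ideal AlgInt}
    (hM : IsPModular p M) :
    Nat.card {B : Set (IrrCharacter (Matrix.SpecialLinearGroup (Fin n) F)) //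
      IsPBlock M B ∧ blockDefect p B = 0} = 1 := by
  classical
  haveI := Fintype.ofFinite (Matrix.SpecialLinearGroup (Fin n) F)
  obtain ⟨st, hst⟩ := exists_steinberg (n := n) (F := F) p
  have hd := steinberg_dexp p hst
  have hP := pmod_prime hM
  have hB0 : IsPBlock M (blockOf M (st : Matrix.SpecialLinearGroup (Fin n) F → ℂ)) :=
    isPBlock_blockOf M st
  have hdef : blockDefect p (blockOf M (st : Matrix.SpecialLinearGroup (Fin n) F → ℂ)) = 0 := by
    obtain ⟨χ, hχ, hχd⟩ := exists_dexp_eq_dmin (p := p) (block_nonempty hP hB0)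
    rw [(singleton_iff_dexp hM st).2 hd] at hχ
    have h3 := dmin_add_defect (p := p) (block_nonempty hP hB0)
    rw [← hχd, Set.mem_singleton_iff.1 hχ, hd] at h3
    omega
  rw [Nat.card_eq_one_iff_unique]
  refine ⟨⟨fun a b => Subtype.ext ?_⟩, ⟨⟨_, hB0, hdef⟩⟩⟩
  suffices h : ∀ B, IsPBlock M B → blockDefect p B = 0 →
      B = blockOf M (st : Matrix.SpecialLinearGroup (Fin n) F → ℂ) from
    (h _ a.2.1 a.2.2).trans (h _ b.2.1 b.2.2).symm
  intro B hB hB0'
  obtain ⟨χ, hχ, hχd⟩ := exists_dexp_eq_dmin (p := p) (block_nonempty hP hB)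
  have h3 := dmin_add_defect (p := p) (block_nonempty hP hB)
  have he := eq_of_full p χ st (by omega) hd
  subst he
  exact block_eq_blockOf hP hB hχ

end Cfsg.Agent.Small.SLnSt
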