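import Mathlib

/-!
Elementary facts on elements of `GL n F`: unipotent elements and their orders, Singer cycles, block
embeddings, and a bound for the exponent of `GL n F`.
-/

set_option autoImplicit false
set_option linter.style.haveILetI false

namespace Cfsg.Agent.Small

open Matrix Polynomial

/-- `GL` of a smaller index type embeds as a diagonal block. -/
noncomputable def glBlockHom {d n : ℕ} (F : Type*) [Field F] (h : d ≤ n) :
    GL (Fin d) F →* GL (Fin n) F :=
  Units.map
    { toFun := fun A => Matrix.reindex (finSumFinEquiv.trans (finCongr (Nat.add_sub_cancel' h)))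
        (finSumFinEquiv.trans (finCongr (Nat.add_sub_cancel' h)))
        (Matrix.fromBlocks A 0 0 (1 : Matrix (Fin (n - d)) (Fin (n - d)) F))
      map_one' := by
        rw [Matrix.fromBlocks_one, Matrix.reindex_apply]
        exact Matrix.submatrix_one_equiv _
      map_mul' := fun A B => by
        simp only [Matrix.reindex_apply, Matrix.submatrix_mul_equiv, Matrix.fromBlocks_multiply]
        simp }

theorem glBlockHom_injective {d n : ℕ} (F : Type*) [Field F] (h : d ≤ n) :
    Function.Injective (glBlockHom F h) := by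
  intro A B hAB
  apply Units.ext
  have := congrArg (fun g : GL (Fin n) F => (g : Matrix (Fin n) (Fin n) F)) hAB
  simp only [glBlockHom, Units.coe_map] at this
  exact (Matrix.fromBlocks_inj.mp ((Matrix.reindex _ _).injective this)).1

/-- The nilpotent shift matrix. -/
def shiftMat (n : ℕ) (F : Type*) [Field F] : Matrix (Fin n) (Fin n) F :=
  Matrix.of fun i j => if (j : ℕ) = (i : ℕ) + 1 then 1 else 0

theorem shiftMat_pow_apply (n : ℕ) (F : Type*) [Field F] (k : ℕ) (i j : Fin n) :
    (shiftMat n F ^ k) i j = if (j : ℕ) = (i : ℕ) + k then 1 else 0 := by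
  induction k generalizing i j with
  | zero => simp [Matrix.one_apply, Fin.ext_iff, eq_comm]
  | succ k ih =>
    rw [pow_succ, Matrix.mul_apply]
    by_cases hik : (i : ℕ) + k < n
    · rw [Finset.sum_eq_single ⟨i + k, hik⟩]
      · rw [ih]
        simp [shiftMat, add_assoc]
      · intro b _ hb
        rw [ih, if_neg, zero_mul]
        exact fun h => hb (Fin.ext h)
      · simp
    · rw [if_neg (by omega)]
      apply Finset.sum_eq_zero
      intro b _
      rw [ih, if_neg (by omega), zero_mul]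

theorem shiftMat_pow_self (n : ℕ) (F : Type*) [Field F] : shiftMat n F ^ n = 0 := by
  ext i j
  rw [shiftMat_pow_apply, if_neg (by omega)]
  rfl

theorem shiftMat_pow_pred_ne (n : ℕ) (F : Type*) [Field F] (hn : 1 ≤ n) :
    shiftMat n F ^ (n - 1) ≠ 0 := by
  intro h
  have := congrFun (congrFun h ⟨0, by omega⟩) ⟨n - 1, by omega⟩
  simp [shiftMat_pow_apply] at this

theorem pow_eq_zero_of_isNilpotent {n : ℕ} {F : Type*} [Field F]
    {N : Matrix (Fin n) (Fin n) F} (h : IsNilpotent N) : N ^ n = 0 := by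
  have h1 : N.charpoly = X ^ Fintype.card (Fin n) :=
    Matrix.isNilpotent_charpoly_sub_pow_of_isNilpotent h |>.eq_zero |> sub_eq_zero.mp
  have h2 := Matrix.aeval_self_charpoly N
  rw [h1] at h2
  simpa using h2

theorem orderOf_unipotent_dvd {n : ℕ} {F : Type*} [Field F] (p : ℕ) [Fact p.Prime] [CharP F p]
    (u : GL (Fin n) F) (hu : IsNilpotent ((u : Matrix (Fin n) (Fin n) F) - 1)) :
    orderOf u ∣ p ^ Nat.clog p n := by
  rcases Nat.eq_zero_or_pos n with rfl | hn
  · rw [orderOf_eq_one_iff.mpr (Units.ext (Subsingleton.elim _ _))]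
    exact one_dvd _
  haveI : Nonempty (Fin n) := ⟨⟨0, hn⟩⟩
  rw [orderOf_dvd_iff_pow_eq_one]
  apply Units.ext
  rw [Units.val_pow_eq_pow_val, Units.val_one, ← sub_eq_zero]
  have h : ((u : Matrix (Fin n) (Fin n) F) - 1) ^ p ^ Nat.clog p n
      = (u : Matrix (Fin n) (Fin n) F) ^ p ^ Nat.clog p n - 1 := by
    rw [sub_pow_char_pow_of_commute p _ (Commute.one_right _)]
    simp
  rw [← h]
  exact pow_eq_zero_of_le (Nat.le_pow_clog (Fact.out : p.Prime).one_lt n)
    (pow_eq_zero_of_isNilpotent hu)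

theorem orderOf_unipotent_eq {n : ℕ} {F : Type*} [Field F] (p : ℕ) [Fact p.Prime] [CharP F p]
    (u : GL (Fin n) F) (hu : IsNilpotent ((u : Matrix (Fin n) (Fin n) F) - 1))
    (hne : ((u : Matrix (Fin n) (Fin n) F) - 1) ^ (n - 1) ≠ 0) :
    orderOf u = p ^ Nat.clog p n := by
  obtain ⟨i, hi, he⟩ := (Nat.dvd_prime_pow (Fact.out : p.Prime)).mp (orderOf_unipotent_dvd p u hu)
  rw [he]
  congr 1
  by_contra hne'
  have hlt : p ^ i < n :=
    (Nat.lt_clog_iff_pow_lt (Fact.out : p.Prime).one_lt).mp (lt_of_le_of_ne hi hne')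
  haveI : Nonempty (Fin n) := ⟨⟨0, by omega⟩⟩
  apply hne
  apply pow_eq_zero_of_le (m := p ^ i) (by omega)
  rw [sub_pow_char_pow_of_commute p _ (Commute.one_right _), one_pow, sub_eq_zero,
    ← Units.val_pow_eq_pow_val, ← he, pow_orderOf_eq_one, Units.val_one]

/-- A regular unipotent element of `GL n F`. -/
noncomputable def jordanGL (n : ℕ) (F : Type*) [Field F] : GL (Fin n) F :=
  (IsNilpotent.isUnit_one_add (r := shiftMat n F) ⟨n, shiftMat_pow_self n F⟩).unit

theorem jordanGL_sub_one (n : ℕ) (F : Type*) [Field F] :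
    (jordanGL n F : Matrix (Fin n) (Fin n) F) - 1 = shiftMat n F := by
  simp [jordanGL]

theorem orderOf_jordanGL (n : ℕ) (F : Type*) [Field F] (p : ℕ) [Fact p.Prime] [CharP F p]
    (hn : 1 ≤ n) : orderOf (jordanGL n F) = p ^ Nat.clog p n := by
  refine orderOf_unipotent_eq p _ ?_ ?_
  · rw [jordanGL_sub_one]; exact ⟨n, shiftMat_pow_self n F⟩
  · rw [jordanGL_sub_one]; exact shiftMat_pow_pred_ne n F hn

theorem exists_singer {F : Type*} [Field F] [Finite F] (d : ℕ) (hd : 1 ≤ d) :
    ∃ s : GL (Fin d) F, orderOf s = Nat.card F ^ d - 1 := by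
  obtain ⟨p, hp⟩ := CharP.exists F
  haveI := hp
  haveI : Fact p.Prime := ⟨(CharP.char_is_prime F p)⟩
  haveI : NeZero d := ⟨by omega⟩
  let K := FiniteField.Extension F p d
  have hK : Module.finrank F K = d := FiniteField.finrank_extension F p d
  haveI : Module.Finite F K := Module.finite_of_finrank_eq_succ (n := d - 1) (by omega)
  haveI : Finite K := Module.finite_of_finite F
  let b : Module.Basis (Fin d) F K := Module.finBasisOfFinrankEq F K hK
  obtain ⟨g, hg⟩ := IsCyclic.exists_ofOrder_eq_natCard (α := Kˣ)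
  refine ⟨Units.map (Algebra.leftMulMatrix b : K →ₐ[F] _).toMonoidHom g, ?_⟩
  rw [orderOf_injective _ (Units.map_injective (Algebra.leftMulMatrix_injective b)), hg,
    Nat.card_units, Module.natCard_eq_pow_finrank (K := F) (V := K), hK]

theorem dvd_pow_of_irreducible_factors {F : Type*} [Field F] (r : F[X]) :
    ∀ (N : ℕ) (p : F[X]), p ≠ 0 → p.natDegree ≤ N →
      (∀ f, Irreducible f → f ∣ p → f ∣ r) → p ∣ r ^ N := by
  intro N
  induction N with
  | zero =>
    intro p hp hN _
    rw [pow_zero]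
    exact isUnit_iff_dvd_one.mp (Polynomial.isUnit_iff_degree_eq_zero.mpr
      (by rw [Polynomial.degree_eq_natDegree hp, Nat.le_zero.mp hN]; rfl))
  | succ N ih =>
    intro p hp hN hf
    by_cases hu : IsUnit p
    · exact hu.dvd
    obtain ⟨f, hfi, hfp⟩ := WfDvdMonoid.exists_irreducible_factor hu hp
    obtain ⟨p', rfl⟩ := hfp
    have hp' : p' ≠ 0 := right_ne_zero_of_mul hp
    have hdeg : p'.natDegree ≤ N := by
      rw [Polynomial.natDegree_mul hfi.ne_zero hp'] at hN
      have := hfi.natDegree_pos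
      omega
    rw [pow_succ']
    exact mul_dvd_mul (hf f hfi ⟨p', rfl⟩)
      (ih p' hp' hdeg fun e he hep => hf e he (dvd_mul_of_dvd_right hep f))

theorem irreducible_dvd_X_pow_sub_one {F : Type*} [Field F] [Finite F] (f : F[X])
    (hf : Irreducible f) (hX : ¬ f ∣ X) (L : ℕ) (hL : Nat.card F ^ f.natDegree - 1 ∣ L) :
    f ∣ X ^ L - 1 := by
  rw [← AdjoinRoot.mk_eq_zero, map_sub, map_pow, map_one, AdjoinRoot.mk_X, sub_eq_zero]
  haveI := Fact.mk hf
  haveI : Module.Finite F (AdjoinRoot f) :=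
    Module.Finite.of_basis (AdjoinRoot.powerBasis hf.ne_zero).basis
  haveI : Finite (AdjoinRoot f) := Module.finite_of_finite F
  have hr : AdjoinRoot.root f ≠ 0 := by
    rw [← AdjoinRoot.mk_X, Ne, AdjoinRoot.mk_eq_zero]
    exact hX
  have hcard : Nat.card (AdjoinRoot f) = Nat.card F ^ f.natDegree := by
    rw [Module.natCard_eq_pow_finrank (K := F) (V := AdjoinRoot f),
      (AdjoinRoot.powerBasis hf.ne_zero).finrank, AdjoinRoot.powerBasis_dim]
  obtain ⟨c, rfl⟩ := hL
  have h1 : (Units.mk0 _ hr) ^ Nat.card (AdjoinRoot f)ˣ = 1 := pow_card_eq_one'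
  rw [Nat.card_units, hcard] at h1
  have h2 := congrArg Units.val h1
  rw [Units.val_pow_eq_pow_val, Units.val_one] at h2
  change AdjoinRoot.root f ^ (Nat.card F ^ f.natDegree - 1) = 1 at h2
  rw [pow_mul, h2, one_pow]

theorem gl_pow_exponent {F : Type*} [Field F] [Finite F] (p : ℕ) [Fact p.Prime] [CharP F p]
    (n : ℕ) (L : ℕ) (hL : ∀ d, 1 ≤ d → d ≤ n → Nat.card F ^ d - 1 ∣ L) (g : GL (Fin n) F) :
    g ^ (L * p ^ Nat.clog p n) = 1 := by
  apply Units.ext
  rw [Units.val_pow_eq_pow_val, Units.val_one, pow_mul, ← sub_eq_zero]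
  rcases Nat.eq_zero_or_pos n with rfl | hn
  · exact Subsingleton.elim _ _
  haveI : Nonempty (Fin n) := ⟨⟨0, hn⟩⟩
  have key : ((g : Matrix (Fin n) (Fin n) F) ^ L - 1) ^ n = 0 := by
    set A : Matrix (Fin n) (Fin n) F := (g : Matrix (Fin n) (Fin n) F) with hA
    have hd : A.charpoly.natDegree = n := by simp [Matrix.charpoly_natDegree_eq_dim]
    have hdvd : A.charpoly ∣ (X ^ L - 1) ^ n := by
      refine dvd_pow_of_irreducible_factors _ n _ A.charpoly_monic.ne_zero hd.le ?_
      intro f hf hfd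
      refine irreducible_dvd_X_pow_sub_one f hf ?_ L (hL _ hf.natDegree_pos ?_)
      · intro hfX
        have hXf : X ∣ f := ((hf.associated_of_dvd Polynomial.irreducible_X hfX).symm).dvd
        have h0 := Polynomial.X_dvd_iff.mp (hXf.trans hfd)
        have hdet := Matrix.det_eq_sign_charpoly_coeff A
        rw [h0, mul_zero] at hdet
        exact ((A.isUnit_iff_isUnit_det).mp g.isUnit).ne_zero hdet
      · exact (Polynomial.natDegree_le_of_dvd hfd A.charpoly_monic.ne_zero).trans hd.le
    obtain ⟨c, hc⟩ := hdvd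
    have := congrArg (Polynomial.aeval A) hc
    rw [map_mul, Matrix.aeval_self_charpoly, zero_mul] at this
    simpa using this
  have := pow_eq_zero_of_le (Nat.le_pow_clog (Fact.out : p.Prime).one_lt n) key
  rwa [sub_pow_char_pow_of_commute p _ (Commute.one_right _), one_pow] at this

end Cfsg.Agent.Small
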