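import Cfsg.Prelude.Def_Classical
import Cfsg.Prelude.Def_LieClassical
import Cfsg.Agent.Lib.Small.FieldMatrix

/-!
Homomorphisms into the classical groups: Levi embeddings of `GL n`, permutation matrices, and
`SL 2 q` inside `GU 2 q`; a finite field has many elements fixed by the half Frobenius.
-/

set_option autoImplicit false
set_option linter.unusedSimpArgs false
set_option linter.style.haveILetI false

namespace Cfsg.Agent.Small

open Matrix

variable {F : Type*} [Field F]

/-- `A ↦ diag(A, A⁻ᵀ)`. -/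
noncomputable def leviHom (n : ℕ) (F : Type*) [Field F] :
    GL (Fin n) F →* GL (Fin n ⊕ Fin n) F :=
  MonoidHom.toHomUnits
    { toFun := fun A => fromBlocks (A : Matrix (Fin n) (Fin n) F) 0 0
        ((A⁻¹ : GL (Fin n) F) : Matrix (Fin n) (Fin n) F)ᵀ
      map_one' := by simp
      map_mul' := fun A B => by
        simp [fromBlocks_multiply, _root_.mul_inv_rev, transpose_mul] }

theorem coe_leviHom (n : ℕ) (A : GL (Fin n) F) :
    (leviHom n F A : Matrix (Fin n ⊕ Fin n) (Fin n ⊕ Fin n) F) =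
      fromBlocks (A : Matrix (Fin n) (Fin n) F) 0 0
        ((A⁻¹ : GL (Fin n) F) : Matrix (Fin n) (Fin n) F)ᵀ := rfl

theorem leviHom_injective (n : ℕ) : Function.Injective (leviHom n F) := by
  intro A B h
  have := congrArg Units.val h
  rw [coe_leviHom, coe_leviHom] at this
  exact Units.ext (fromBlocks_inj.mp this).1

theorem gl_transpose_inv (n : ℕ) (A : GL (Fin n) F) :
    (A : Matrix (Fin n) (Fin n) F)ᵀ * ((A⁻¹ : GL (Fin n) F) : Matrix (Fin n) (Fin n) F)ᵀ = 1 := by
  rw [← transpose_mul, Units.inv_mul, transpose_one]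

theorem leviHom_mem_symplectic (n : ℕ) (A : GL (Fin n) F) :
    (leviHom n F A : Matrix (Fin n ⊕ Fin n) (Fin n ⊕ Fin n) F) ∈ Matrix.symplecticGroup (Fin n) F := by
  rw [SymplecticGroup.mem_iff, coe_leviHom, Matrix.J]
  simp [fromBlocks_multiply, fromBlocks_transpose, ← transpose_mul]

theorem quadPlus_levi (n : ℕ) (A : GL (Fin n) F) (v : Fin n ⊕ Fin n → F) :
    quadFormPlus n F ((leviHom n F A : Matrix _ _ F) *ᵥ v) = quadFormPlus n F v := by
  have h : ∀ w : Fin n ⊕ Fin n → F, quadFormPlus n F w = (w ∘ Sum.inl) ⬝ᵥ (w ∘ Sum.inr) :=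
    fun w => rfl
  rw [h, h, coe_leviHom, fromBlocks_mulVec]
  simp only [Sum.elim_comp_inl, Sum.elim_comp_inr, zero_mulVec, add_zero, zero_add]
  rw [Matrix.dotProduct_mulVec, ← Matrix.mulVec_transpose, transpose_transpose,
    Matrix.mulVec_mulVec, Units.inv_mul, one_mulVec]

/-- The Levi subgroup inside the isometry group of the plus form. -/
noncomputable def plusHom (n : ℕ) (F : Type*) [Field F] :
    GL (Fin n) F →* isometryGroup F (quadFormPlus n F) :=
  (leviHom n F).codRestrict _ fun A v _ => quadPlus_levi n A v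

theorem plusHom_injective (n : ℕ) : Function.Injective (plusHom n F) := fun _ _ h =>
  leviHom_injective n (congrArg Subtype.val h)

/-- The Levi subgroup inside the symplectic group. -/
noncomputable def spHom (n : ℕ) (F : Type*) [Field F] :
    GL (Fin n) F →* Matrix.symplecticGroup (Fin n) F :=
  MonoidHom.codRestrict ((Units.coeHom _).comp (leviHom n F)) _ fun A => leviHom_mem_symplectic n A

theorem spHom_injective (n : ℕ) : Function.Injective (spHom n F) := fun _ _ h =>
  leviHom_injective n (Units.ext (congrArg Subtype.val h))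

/-- Extension of a matrix by the identity on `Unit`. -/
noncomputable def oddExt (n : ℕ) (F : Type*) [Field F] :
    GL (Fin n ⊕ Fin n) F →* GL (Unit ⊕ (Fin n ⊕ Fin n)) F :=
  MonoidHom.toHomUnits
    { toFun := fun A => fromBlocks (1 : Matrix Unit Unit F) 0 0
        (A : Matrix (Fin n ⊕ Fin n) (Fin n ⊕ Fin n) F)
      map_one' := by simp
      map_mul' := fun A B => by simp [fromBlocks_multiply] }

theorem coe_oddExt (n : ℕ) (A : GL (Fin n ⊕ Fin n) F) :
    (oddExt n F A : Matrix (Unit ⊕ (Fin n ⊕ Fin n)) (Unit ⊕ (Fin n ⊕ Fin n)) F) =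
      fromBlocks (1 : Matrix Unit Unit F) 0 0 (A : Matrix (Fin n ⊕ Fin n) (Fin n ⊕ Fin n) F) := rfl

/-- The Levi subgroup inside the isometry group of the odd form. -/
noncomputable def oddHom (n : ℕ) (F : Type*) [Field F] :
    GL (Fin n) F →* isometryGroup F (quadFormOdd n F) :=
  ((oddExt n F).comp (leviHom n F)).codRestrict _ fun A v _ => by
    change quadFormOdd n F ((oddExt n F (leviHom n F A) : Matrix _ _ F) *ᵥ v) = _
    have h : ∀ w : Unit ⊕ (Fin n ⊕ Fin n) → F,
        quadFormOdd n F w = w (.inl ()) ^ 2 + quadFormPlus n F (w ∘ Sum.inr) := fun w => rfl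
    rw [h, coe_oddExt, fromBlocks_mulVec]
    simp [h, quadPlus_levi]

theorem oddHom_injective (n : ℕ) : Function.Injective (oddHom n F) := by
  intro A B h
  apply leviHom_injective n
  have h1 := congrArg Units.val
    (congrArg Subtype.val h)
  exact Units.ext (fromBlocks_inj.mp h1).2.2.2

/-- Extension of a matrix by the identity on `Fin 2`. -/
noncomputable def minusExt (n : ℕ) (F : Type*) [Field F] :
    GL (Fin n ⊕ Fin n) F →* GL ((Fin n ⊕ Fin n) ⊕ Fin 2) F :=
  MonoidHom.toHomUnits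
    { toFun := fun A => fromBlocks (A : Matrix (Fin n ⊕ Fin n) (Fin n ⊕ Fin n) F) 0 0
        (1 : Matrix (Fin 2) (Fin 2) F)
      map_one' := by simp
      map_mul' := fun A B => by simp [fromBlocks_multiply] }

theorem coe_minusExt (n : ℕ) (A : GL (Fin n ⊕ Fin n) F) :
    (minusExt n F A : Matrix ((Fin n ⊕ Fin n) ⊕ Fin 2) ((Fin n ⊕ Fin n) ⊕ Fin 2) F) =
      fromBlocks (A : Matrix (Fin n ⊕ Fin n) (Fin n ⊕ Fin n) F) 0 0
        (1 : Matrix (Fin 2) (Fin 2) F) := rfl

/-- The Levi subgroup inside the isometry group of the minus form. -/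
noncomputable def minusHom (n : ℕ) (F : Type*) [Field F] (a b : F) :
    GL (Fin n) F →* isometryGroup F (quadFormMinus n F a b) :=
  ((minusExt n F).comp (leviHom n F)).codRestrict _ fun A v _ => by
    change quadFormMinus n F a b ((minusExt n F (leviHom n F A) : Matrix _ _ F) *ᵥ v) = _
    have h : ∀ w : (Fin n ⊕ Fin n) ⊕ Fin 2 → F, quadFormMinus n F a b w =
        quadFormPlus n F (w ∘ Sum.inl) +
          (w (.inr 0) ^ 2 + a * w (.inr 0) * w (.inr 1) + b * w (.inr 1) ^ 2) := fun w => rfl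
    rw [h, coe_minusExt, fromBlocks_mulVec]
    simp [h, quadPlus_levi]

theorem minusHom_injective (n : ℕ) (a b : F) : Function.Injective (minusHom n F a b) := by
  intro A B h
  apply leviHom_injective n
  have h1 := congrArg Units.val
    (congrArg Subtype.val h)
  exact Units.ext (fromBlocks_inj.mp h1).1

/-- A matrix preserves the Hermitian form iff it is unitary for the Frobenius `σ`. -/
theorem mem_GU_of_unitary {n q : ℕ} (σ : F →+* F) (hσ : ∀ x, σ x = x ^ q) (g : GL (Fin n) F)
    (h : (g : Matrix (Fin n) (Fin n) F)ᵀ * (g : Matrix (Fin n) (Fin n) F).map σ = 1) :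
    g ∈ GU n F q := by
  intro u v
  have hh : ∀ x y : Fin n → F, hermForm n F q x y = x ⬝ᵥ (σ ∘ y) := fun x y => by
    simp [hermForm, dotProduct, hσ]
  change hermForm n F q ((g : Matrix (Fin n) (Fin n) F) *ᵥ u)
    ((g : Matrix (Fin n) (Fin n) F) *ᵥ v) = _
  rw [hh, hh]
  have : σ ∘ ((g : Matrix (Fin n) (Fin n) F) *ᵥ v) =
      (g : Matrix (Fin n) (Fin n) F).map σ *ᵥ (σ ∘ v) :=
    funext fun i => RingHom.map_mulVec σ _ v i
  rw [this, dotProduct_comm, Matrix.dotProduct_mulVec, ← Matrix.mulVec_transpose, dotProduct_comm,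
    Matrix.mulVec_mulVec]
  rw [h, one_mulVec]

/-- The permutation matrices. -/
noncomputable def permGL (n : ℕ) (F : Type*) [Field F] : Equiv.Perm (Fin n) →* GL (Fin n) F :=
  (Matrix.permMatrixHom (n := Fin n) (R := F)).toHomUnits

theorem coe_permGL (n : ℕ) (s : Equiv.Perm (Fin n)) :
    (permGL n F s : Matrix (Fin n) (Fin n) F) = s⁻¹.permMatrix F := rfl

theorem permGL_injective (n : ℕ) : Function.Injective (permGL n F) := by
  intro s t h
  have h1 := congrArg Units.val h
  simp only [coe_permGL] at h1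
  refine inv_injective (Equiv.ext fun i => ?_)
  have h2 := congrFun (congrFun h1 i) (s⁻¹ i)
  simp [PEquiv.toMatrix_apply, Equiv.toPEquiv_apply] at h2
  exact h2.symm

theorem permGL_mem_GU {n q : ℕ} (σ : F →+* F) (hσ : ∀ x, σ x = x ^ q) (s : Equiv.Perm (Fin n)) :
    permGL n F s ∈ GU n F q := by
  refine mem_GU_of_unitary σ hσ _ ?_
  have h : ((permGL n F s : Matrix (Fin n) (Fin n) F)).map σ =
      (permGL n F s : Matrix (Fin n) (Fin n) F) := by
    rw [coe_permGL]
    ext i j
    simp [PEquiv.toMatrix_apply, apply_ite σ]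
  rw [h, coe_permGL, transpose_permMatrix, inv_inv, ← permMatrix_mul, inv_mul_cancel,
    permMatrix_one]

theorem glBlockHom_mem_GU {r n q : ℕ} (σ : F →+* F) (hσ : ∀ x, σ x = x ^ q) (h : r ≤ n)
    (g : GL (Fin r) F) (hg : (g : Matrix (Fin r) (Fin r) F)ᵀ * (g : Matrix (Fin r) (Fin r) F).map σ = 1) :
    glBlockHom F h g ∈ GU n F q := by
  refine mem_GU_of_unitary σ hσ _ ?_
  have key : ∀ {ι κ : Type} [Fintype ι] [Fintype κ] (e : ι ≃ κ) (M : Matrix ι ι F),
      (Matrix.reindex e e M)ᵀ * (Matrix.reindex e e M).map σ =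
        Matrix.reindex e e (Mᵀ * M.map σ) := fun e M => by
    simp [Matrix.reindex_apply, ← Matrix.submatrix_map, Matrix.submatrix_mul_equiv]
  simp only [glBlockHom, Units.coe_map, MonoidHom.coe_mk, OneHom.coe_mk]
  rw [key, fromBlocks_transpose, fromBlocks_map, fromBlocks_multiply]
  simp [hg, Matrix.reindex_apply, fromBlocks_one]
  exact Matrix.submatrix_one _ (finSumFinEquiv.symm.injective.comp (Equiv.injective _))

theorem exists_frobenius_half [Finite F] {q : ℕ} (hq : Nat.card F = q ^ 2) :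
    ∃ σ : F →+* F, ∀ x, σ x = x ^ q := by
  obtain ⟨p, hp⟩ := CharP.exists F
  haveI := hp
  haveI : Fact p.Prime := ⟨CharP.char_is_prime F p⟩
  haveI := Fintype.ofFinite F
  obtain ⟨e, -, he⟩ := FiniteField.card F p
  rw [Nat.card_eq_fintype_card, he] at hq
  obtain ⟨f, -, hf⟩ := (Nat.dvd_prime_pow (Fact.out : p.Prime)).mp
    (hq ▸ dvd_pow_self q two_ne_zero : q ∣ p ^ (e : ℕ))
  exact ⟨iterateFrobenius F p f, fun x => by rw [iterateFrobenius_def, hf]⟩

/-- `SL 2` of the fixed field inside `GU 2`: the data of the base change. -/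
theorem exists_SL2_in_GU2 [Finite F] {q : ℕ} (hq : Nat.card F = q ^ 2) (σ : F →+* F)
    (hσ : ∀ x, σ x = x ^ q) :
    ∃ (F₀ : Subfield F) (φ : Matrix.SpecialLinearGroup (Fin 2) F₀ →* GL (Fin 2) F),
      q - 1 ≤ Nat.card F₀ ∧ Function.Injective φ ∧
      ∀ g, (φ g : Matrix (Fin 2) (Fin 2) F)ᵀ * (φ g : Matrix (Fin 2) (Fin 2) F).map σ = 1 := by
  classical
  have hq2 : 2 ≤ q := by
    by_contra h
    have := Finite.one_lt_card (α := F)
    rw [hq] at this
    interval_cases q <;> simp at this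
  obtain ⟨g, hg⟩ := IsCyclic.exists_ofOrder_eq_natCard (α := Fˣ)
  obtain ⟨k, rfl⟩ : ∃ k, q = k + 2 := ⟨q - 2, by omega⟩
  have hord : orderOf g = (k + 1) * (k + 3) := by
    rw [hg, Nat.card_units, hq]
    have : (k + 2) ^ 2 = (k + 1) * (k + 3) + 1 := by ring
    omega
  have hgN : g ^ ((k + 1) * (k + 3)) = 1 := hord ▸ pow_orderOf_eq_one g
  have hgne : ∀ j, 0 < j → j < (k + 1) * (k + 3) → g ^ j ≠ 1 := fun j h1 h2 =>
    pow_ne_one_of_lt_orderOf h1.ne' (hord.symm ▸ h2)
  -- an element of norm minus one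
  obtain ⟨i, hi⟩ : ∃ i : ℕ, g ^ i = (-1 : Fˣ) := by
    obtain ⟨i, hi⟩ := (mem_powers_iff_mem_zpowers (x := g) (y := (-1 : Fˣ))).mpr
      (by
        have : Subgroup.zpowers g = ⊤ := Subgroup.eq_top_of_card_eq _ (by
          rw [Nat.card_zpowers, hg])
        rw [this]; trivial)
    exact ⟨i, hi⟩
  have hm1 : (-1 : F) ^ (k + 1) = 1 := by
    have h := hσ (-1)
    rw [map_neg, map_one, pow_succ] at h
    linear_combination h
  obtain ⟨j, rfl⟩ : ∃ j, i = j * (k + 3) := by
    have : g ^ (i * (k + 1)) = 1 := by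
      rw [pow_mul, hi]; exact Units.ext (by simpa using hm1)
    have hdvd := orderOf_dvd_of_pow_eq_one this
    rw [hord, mul_comm (k + 1) (k + 3)] at hdvd
    obtain ⟨j, hj⟩ := Nat.dvd_of_mul_dvd_mul_right (Nat.succ_pos k) hdvd
    exact ⟨j, by rw [hj, mul_comm]⟩
  set a : F := ((g ^ j : Fˣ) : F) with ha_def
  set ζ : F := ((g ^ (k + 1) : Fˣ) : F) with hζ_def
  have ha : a * σ a = -1 := by
    rw [hσ, ← pow_succ', ha_def, ← Units.val_pow_eq_pow_val, ← pow_mul,
      show j * (k + 2 + 1) = j * (k + 3) by ring, hi]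
    rfl
  have hζ : ζ * σ ζ = 1 := by
    rw [hσ, ← pow_succ', hζ_def, ← Units.val_pow_eq_pow_val, ← pow_mul,
      show (k + 1) * (k + 2 + 1) = (k + 1) * (k + 3) by ring, hgN]
    rfl
  have hζ1 : ζ ≠ 1 := by
    intro h
    exact hgne (k + 1) (Nat.succ_pos k) (by nlinarith) (Units.ext h)
  set δ : F := (g : F) - σ g with hδ_def
  have hδ : δ ≠ 0 := by
    intro h
    rw [hδ_def, sub_eq_zero, hσ, ← Units.val_pow_eq_pow_val] at h
    have h2 : g * g ^ (k + 1) = g * 1 := by
      rw [← pow_succ', mul_one]; exact (Units.ext h).symm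
    exact hgne (k + 1) (Nat.succ_pos k) (by nlinarith) (mul_left_cancel h2)
  have hσσ : ∀ x : F, σ (σ x) = x := by
    intro x
    haveI := Fintype.ofFinite F
    rw [hσ, hσ, ← pow_mul, ← sq, ← hq, Nat.card_eq_fintype_card, FiniteField.pow_card]
  have hδσ : σ δ = -δ := by rw [hδ_def, map_sub, hσσ]; ring
  set b : F := a * ζ with hb_def
  set u : F := 1 + a * σ b with hu_def
  have hu : u ≠ 0 := by
    intro h
    apply hζ1
    have h1 : σ ζ = 1 := by
      rw [hu_def, hb_def, map_mul] at h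
      linear_combination -h + σ ζ * ha
    rw [h1, mul_one] at hζ
    exact hζ
  have hσu : σ u ≠ 0 := fun h => hu ((map_eq_zero σ).mp h)
  set c : F := δ / σ u with hc_def
  have hc : c ≠ 0 := div_ne_zero hδ hσu
  set P : Matrix (Fin 2) (Fin 2) F := !![1, c; a, c * b] with hP_def
  have ha0 : a ≠ 0 := Units.ne_zero _
  have hPdet : IsUnit P.det := by
    rw [isUnit_iff_ne_zero, hP_def, det_fin_two_of, hb_def]
    intro h
    have : c * a * (ζ - 1) = 0 := by linear_combination h
    simp [hc, ha0, sub_eq_zero, hζ1] at this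
  let P' : GL (Fin 2) F := Matrix.GeneralLinearGroup.mk'' P hPdet
  let F₀ : Subfield F := RingHom.eqLocusField σ (RingHom.id F)
  let φ : Matrix.SpecialLinearGroup (Fin 2) F₀ →* GL (Fin 2) F :=
    (MulAut.conj P').toMonoidHom.comp
      (Matrix.SpecialLinearGroup.toGL.comp (Matrix.SpecialLinearGroup.map F₀.subtype))
  refine ⟨F₀, φ, ?_, ?_, ?_⟩
  · have hmem : ∀ i : Fin (k + 1), ((g ^ ((k + 3) * (i : ℕ)) : Fˣ) : F) ∈ F₀ := by
      intro i
      change σ _ = _
      rw [hσ, ← Units.val_pow_eq_pow_val, RingHom.id_apply]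
      congr 1
      rw [← pow_mul, show (k + 3) * (i : ℕ) * (k + 2) = (k + 3) * i + (k + 1) * (k + 3) * i by ring,
        pow_add, pow_mul g ((k + 1) * (k + 3)) (i : ℕ), hgN, one_pow, mul_one]
    have hinj : Function.Injective (fun i : Fin (k + 1) => (⟨_, hmem i⟩ : F₀)) := by
      intro i i' h
      have h1 : g ^ ((k + 3) * (i : ℕ)) = g ^ ((k + 3) * (i' : ℕ)) :=
        Units.ext (congrArg Subtype.val h)
      have := pow_injOn_Iio_orderOf (x := g)
        (show (k + 3) * (i : ℕ) ∈ Set.Iio (orderOf g) by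
          rw [Set.mem_Iio, hord]; have := i.isLt; nlinarith)
        (show (k + 3) * (i' : ℕ) ∈ Set.Iio (orderOf g) by
          rw [Set.mem_Iio, hord]; have := i'.isLt; nlinarith) h1
      exact Fin.ext (Nat.eq_of_mul_eq_mul_left (by omega) this)
    have := Nat.card_le_card_of_injective _ hinj
    simpa using this
  · intro x y h
    have h1 := Matrix.SpecialLinearGroup.toGL_injective ((MulAut.conj P').injective h)
    apply Matrix.SpecialLinearGroup.ext
    intro i j
    have h2 := congrArg (fun z : Matrix.SpecialLinearGroup (Fin 2) F => (z : Matrix _ _ F) i j) h1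
    exact F₀.subtype.injective h2
  · intro x
    set G : Matrix (Fin 2) (Fin 2) F := (x : Matrix (Fin 2) (Fin 2) F₀).map F₀.subtype with hG
    have hval : (φ x : Matrix (Fin 2) (Fin 2) F) =
        P * G * ((P'⁻¹ : GL (Fin 2) F) : Matrix (Fin 2) (Fin 2) F) := rfl
    have hGσ : G.map σ = G := by
      ext i j
      exact ((x : Matrix (Fin 2) (Fin 2) F₀) i j).2
    have hdetG : G.det = 1 := by
      have h : F₀.subtype.mapMatrix (x : Matrix (Fin 2) (Fin 2) F₀) = G := rfl
      rw [← h, ← RingHom.map_det, Matrix.SpecialLinearGroup.det_coe, map_one]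
    set N : Matrix (Fin 2) (Fin 2) F := !![0, -δ; δ, 0] with hN
    have hPN : Pᵀ * P.map σ = N := by
      have hcu : c * σ u = δ := div_mul_cancel₀ δ hσu
      have hcu' : σ c * u = -δ := by rw [← hδσ, ← hcu, map_mul, hσσ]
      ext i j
      fin_cases i <;> fin_cases j <;>
        simp [hP_def, hN, Matrix.mul_apply, Fin.sum_univ_two]
      · linear_combination ha
      · rw [hu_def] at hcu'; linear_combination hcu'
      · have : σ u = 1 + σ a * b := by rw [hu_def, map_add, map_one, map_mul, hσσ]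
        rw [this] at hcu
        linear_combination hcu
      · rw [hb_def, map_mul]
        linear_combination (c * σ c * (ζ * σ ζ)) * ha - c * σ c * hζ
    have hGN : Gᵀ * N * G = N := by
      rw [det_fin_two] at hdetG
      ext i j
      fin_cases i <;> fin_cases j <;> simp [hN, Matrix.mul_apply, Fin.sum_univ_two]
      · ring
      · linear_combination -δ * hdetG
      · linear_combination δ * hdetG
      · ring
    set Pi' : Matrix (Fin 2) (Fin 2) F := ((P'⁻¹ : GL (Fin 2) F) : Matrix (Fin 2) (Fin 2) F)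
    have hP1 : P * Pi' = 1 := P'.mul_inv
    rw [hval, Matrix.map_mul, Matrix.map_mul, hGσ, transpose_mul, transpose_mul]
    calc Pi'ᵀ * (Gᵀ * Pᵀ) * (P.map σ * G * Pi'.map σ)
        = Pi'ᵀ * (Gᵀ * (Pᵀ * P.map σ) * G) * Pi'.map σ := by simp only [mul_assoc]
      _ = Pi'ᵀ * (Pᵀ * P.map σ) * Pi'.map σ := by rw [hPN, hGN]
      _ = (P * Pi')ᵀ * (P * Pi').map σ := by
          rw [Matrix.map_mul, transpose_mul]; simp only [mul_assoc]
      _ = 1 := by rw [hP1]; simp

end Cfsg.Agent.Small
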