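import Cfsg.Agent.Lib.Small.ClassicalHom

/-!
Elements of symplectic groups: block sums, the tori of orders `q^d ± 1`, regular unipotent
elements, and the centre.
-/

set_option autoImplicit false
set_option linter.unusedSimpArgs false
set_option linter.style.haveILetI false

namespace Cfsg.Agent.Small

open Matrix

variable {F : Type*} [Field F]

section Block

/-- The index equivalence of a symplectic block sum. -/
def spIndex {a b n : ℕ} (h : a + b = n) :
    (Fin a ⊕ Fin a) ⊕ (Fin b ⊕ Fin b) ≃ Fin n ⊕ Fin n :=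
  (Equiv.sumSumSumComm _ _ _ _).trans
    (Equiv.sumCongr (finSumFinEquiv.trans (finCongr h)) (finSumFinEquiv.trans (finCongr h)))

/-- The block sum, on matrices. -/
def spBlockMat {a b n : ℕ} (F : Type*) [Field F] (h : a + b = n) :
    Matrix (Fin a ⊕ Fin a) (Fin a ⊕ Fin a) F × Matrix (Fin b ⊕ Fin b) (Fin b ⊕ Fin b) F →*
      Matrix (Fin n ⊕ Fin n) (Fin n ⊕ Fin n) F where
  toFun P := Matrix.reindex (spIndex h) (spIndex h) (fromBlocks P.1 0 0 P.2)
  map_one' := by
    simp only [Prod.fst_one, Prod.snd_one, fromBlocks_one, Matrix.reindex_apply,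
      Matrix.submatrix_one_equiv]
  map_mul' P Q := by
    simp only [Matrix.reindex_apply, Matrix.submatrix_mul_equiv, fromBlocks_multiply,
      Prod.fst_mul, Prod.snd_mul]
    simp

theorem spBlockMat_J {a b n : ℕ} (h : a + b = n) :
    spBlockMat F h (J (Fin a) F, J (Fin b) F) = J (Fin n) F := by
  change Matrix.reindex _ _ _ = _
  rw [← Equiv.eq_symm_apply]
  ext x y
  rcases x with (x | x) | (x | x) <;> rcases y with (y | y) | (y | y) <;>
    simp [J, spIndex, fromBlocks, Matrix.one_apply, Fin.ext_iff] <;> omega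

theorem spBlockMat_injective {a b n : ℕ} (h : a + b = n) :
    Function.Injective (spBlockMat F h) := by
  intro P Q hPQ
  obtain ⟨h1, -, -, h2⟩ := fromBlocks_inj.mp ((Matrix.reindex _ _).injective hPQ)
  exact Prod.ext h1 h2

theorem spBlockMat_smul_one {a b n : ℕ} (h : a + b = n) (c : F) :
    spBlockMat F h (c • 1, c • 1) = c • 1 := by
  change Matrix.reindex _ _ _ = _
  rw [show fromBlocks (c • (1 : Matrix (Fin a ⊕ Fin a) (Fin a ⊕ Fin a) F)) 0 0
      (c • (1 : Matrix (Fin b ⊕ Fin b) (Fin b ⊕ Fin b) F)) = c • fromBlocks 1 0 0 1 by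
    rw [fromBlocks_smul]; simp, fromBlocks_one]
  simp [Matrix.reindex_apply, Matrix.submatrix_smul]

/-- The block sum of two symplectic groups. -/
def spBlockHom {a b n : ℕ} (F : Type*) [Field F] (h : a + b = n) :
    symplecticGroup (Fin a) F × symplecticGroup (Fin b) F →* symplecticGroup (Fin n) F :=
  ((spBlockMat F h).comp
    ((symplecticGroup (Fin a) F).subtype.prodMap (symplecticGroup (Fin b) F).subtype)).codRestrict _
    fun P => by
      rw [SymplecticGroup.mem_iff']
      change (spBlockMat F h ((P.1 : Matrix _ _ F), (P.2 : Matrix _ _ F)))ᵀ * J (Fin n) F *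
        spBlockMat F h ((P.1 : Matrix _ _ F), (P.2 : Matrix _ _ F)) = _
      have hT : (spBlockMat F h ((P.1 : Matrix _ _ F), (P.2 : Matrix _ _ F)))ᵀ =
          spBlockMat F h ((P.1 : Matrix _ _ F)ᵀ, (P.2 : Matrix _ _ F)ᵀ) := by
        change (Matrix.reindex _ _ _)ᵀ = Matrix.reindex _ _ _
        rw [Matrix.transpose_reindex, fromBlocks_transpose]
        simp
      rw [hT, ← spBlockMat_J h, ← map_mul, ← map_mul]
      congr 1
      exact Prod.ext (SymplecticGroup.mem_iff'.mp P.1.2) (SymplecticGroup.mem_iff'.mp P.2.2)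

theorem coe_spBlockHom {a b n : ℕ} (h : a + b = n)
    (P : symplecticGroup (Fin a) F × symplecticGroup (Fin b) F) :
    (spBlockHom F h P : Matrix (Fin n ⊕ Fin n) (Fin n ⊕ Fin n) F) =
      spBlockMat F h ((P.1 : Matrix _ _ F), (P.2 : Matrix _ _ F)) := rfl

end Block

section Torus

variable {d : ℕ} {K : Type*} [Field K] [Algebra F K] (b : Module.Basis (Fin d) F K)

theorem leftMul_trace_symm (a : K) :
    (Algebra.leftMulMatrix b a)ᵀ * Algebra.traceMatrix F b =
      Algebra.traceMatrix F b * Algebra.leftMulMatrix b a := by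
  ext j k
  have h1 : ((Algebra.leftMulMatrix b a)ᵀ * Algebra.traceMatrix F b) j k =
      Algebra.trace F K (a * b j * b k) := by
    conv_rhs => rw [← b.sum_repr (a * b j), Finset.sum_mul, map_sum]
    simp [Matrix.mul_apply, Algebra.leftMulMatrix_eq_repr_mul, Algebra.traceMatrix_apply,
      Algebra.traceForm_apply, smul_mul_assoc]
  have h2 : (Algebra.traceMatrix F b * Algebra.leftMulMatrix b a) j k =
      Algebra.trace F K (b j * (a * b k)) := by
    conv_rhs => rw [← b.sum_repr (a * b k), Finset.mul_sum, map_sum]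
    simp [Matrix.mul_apply, Algebra.leftMulMatrix_eq_repr_mul, Algebra.traceMatrix_apply,
      Algebra.traceForm_apply, mul_smul_comm, mul_comm]
  rw [h1, h2]
  congr 1
  ring

/-- Restriction of scalars on two by two matrices. -/
noncomputable def blowHom :
    Matrix (Fin 2) (Fin 2) K →* Matrix (Fin d ⊕ Fin d) (Fin d ⊕ Fin d) F where
  toFun m := fromBlocks (Algebra.leftMulMatrix b (m 0 0)) (Algebra.leftMulMatrix b (m 0 1))
    (Algebra.leftMulMatrix b (m 1 0)) (Algebra.leftMulMatrix b (m 1 1))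
  map_one' := by simp
  map_mul' x y := by simp [fromBlocks_multiply, Matrix.mul_apply, Fin.sum_univ_two]

theorem blowHom_injective : Function.Injective (blowHom b) := by
  intro x y h
  obtain ⟨h1, h2, h3, h4⟩ := fromBlocks_inj.mp h
  have hi := Algebra.leftMulMatrix_injective b
  ext i j
  fin_cases i <;> fin_cases j
  exacts [hi h1, hi h2, hi h3, hi h4]

theorem isUnit_det_traceMatrix [Algebra.IsSeparable F K] :
    IsUnit (Algebra.traceMatrix F b).det := by
  rw [Algebra.traceMatrix_of_basis, isUnit_iff_ne_zero]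
  exact det_traceForm_ne_zero b

/-- `SL 2 K` inside the symplectic group over `F`. -/
noncomputable def sl2SpHom [Algebra.IsSeparable F K] :
    SpecialLinearGroup (Fin 2) K →* symplecticGroup (Fin d) F :=
  MonoidHom.codRestrict
    ({ toFun := fun m => fromBlocks 1 0 0 (Algebra.traceMatrix F b) *
         blowHom b (m : Matrix (Fin 2) (Fin 2) K) * fromBlocks 1 0 0 (Algebra.traceMatrix F b)⁻¹
       map_one' := by
         simp [fromBlocks_multiply, Matrix.mul_nonsing_inv _ (isUnit_det_traceMatrix b)]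
       map_mul' := fun x y => by
         change _ * blowHom b ((x : Matrix (Fin 2) (Fin 2) K) * y) * _ = _
         rw [map_mul]
         have hD : fromBlocks 1 0 0 (Algebra.traceMatrix F b)⁻¹ *
             fromBlocks 1 0 0 (Algebra.traceMatrix F b) =
             (1 : Matrix (Fin d ⊕ Fin d) (Fin d ⊕ Fin d) F) := by
           simp [fromBlocks_multiply, Matrix.nonsing_inv_mul _ (isUnit_det_traceMatrix b)]
         simp only [mul_assoc]
         rw [← mul_assoc (fromBlocks 1 0 0 (Algebra.traceMatrix F b)⁻¹), hD, one_mul] } :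
      SpecialLinearGroup (Fin 2) K →* Matrix (Fin d ⊕ Fin d) (Fin d ⊕ Fin d) F)
    _ fun m => by
      rw [SymplecticGroup.mem_iff']
      simp only [MonoidHom.coe_mk, OneHom.coe_mk]
      set G := Algebra.traceMatrix F b with hG
      set L := blowHom b (m : Matrix (Fin 2) (Fin 2) K) with hL
      have hGu : IsUnit G.det := isUnit_det_traceMatrix b
      have hGt : Gᵀ = G := by
        ext i j
        simp [hG, Algebra.traceMatrix_apply, Algebra.traceForm_apply, mul_comm]
      have hW : (fromBlocks 1 0 0 G)ᵀ * J (Fin d) F * fromBlocks 1 0 0 G =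
          fromBlocks 0 (-G) G 0 := by
        simp [J, fromBlocks_transpose, fromBlocks_multiply, hGt]
      have hLW : Lᵀ * fromBlocks 0 (-G) G 0 * L = fromBlocks 0 (-G) G 0 := by
        have hd := m.2
        rw [Matrix.det_fin_two] at hd
        rw [hL]
        simp only [blowHom, MonoidHom.coe_mk, OneHom.coe_mk, fromBlocks_transpose,
          fromBlocks_multiply, mul_zero, zero_mul, add_zero, zero_add, mul_neg, neg_mul,
          hG, leftMul_trace_symm, mul_assoc, ← map_mul]
        simp only [← mul_add, ← map_add, ← mul_neg, ← map_neg]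
        set e00 := (m : Matrix (Fin 2) (Fin 2) K) 0 0
        set e01 := (m : Matrix (Fin 2) (Fin 2) K) 0 1
        set e10 := (m : Matrix (Fin 2) (Fin 2) K) 1 0
        set e11 := (m : Matrix (Fin 2) (Fin 2) K) 1 1
        congr 1
        · rw [show e10 * e00 + e00 * -e10 = 0 by ring, map_zero, mul_zero]
        · rw [show e10 * e01 + e00 * -e11 = -1 by linear_combination -hd, map_neg, map_one,
            mul_neg, mul_one]
        · rw [show e11 * e00 + e01 * -e10 = 1 by linear_combination hd, map_one, mul_one]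
        · rw [show e11 * e01 + e01 * -e11 = 0 by ring, map_zero, mul_zero]
      calc _ = (fromBlocks 1 0 0 G⁻¹)ᵀ * (Lᵀ * ((fromBlocks 1 0 0 G)ᵀ * J (Fin d) F *
              fromBlocks 1 0 0 G) * L) * fromBlocks 1 0 0 G⁻¹ := by
            simp only [transpose_mul, mul_assoc]
        _ = J (Fin d) F := by
            rw [hW, hLW]
            simp [J, fromBlocks_transpose, fromBlocks_multiply, Matrix.transpose_nonsing_inv, hGt,
              Matrix.mul_nonsing_inv _ hGu, Matrix.nonsing_inv_mul _ hGu]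

theorem sl2SpHom_injective [Algebra.IsSeparable F K] : Function.Injective (sl2SpHom b) := by
  intro x y h
  have h1 := congrArg Subtype.val h
  have hD : IsUnit (fromBlocks 1 0 0 (Algebra.traceMatrix F b) :
      Matrix (Fin d ⊕ Fin d) (Fin d ⊕ Fin d) F) := by
    rw [Matrix.isUnit_iff_isUnit_det, det_fromBlocks_zero₂₁, det_one, one_mul]
    exact isUnit_det_traceMatrix b
  have hD' : IsUnit (fromBlocks 1 0 0 (Algebra.traceMatrix F b)⁻¹ :
      Matrix (Fin d ⊕ Fin d) (Fin d ⊕ Fin d) F) := by
    rw [Matrix.isUnit_iff_isUnit_det, det_fromBlocks_zero₂₁, det_one, one_mul]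
    exact (Matrix.isUnit_nonsing_inv_det_iff).mpr (isUnit_det_traceMatrix b)
  exact Subtype.ext (blowHom_injective b (hD.mul_left_cancel (hD'.mul_right_cancel h1)))

end Torus

theorem exists_sp_torus_plus [Finite F] (d : ℕ) (hd : 1 ≤ d) :
    ∃ T : symplecticGroup (Fin d) F, orderOf T = Nat.card F ^ d + 1 := by
  obtain ⟨p, hp⟩ := CharP.exists F
  haveI := hp
  haveI : Fact p.Prime := ⟨(CharP.char_is_prime F p)⟩
  haveI : NeZero d := ⟨by omega⟩
  let K := FiniteField.Extension F p d
  have hK : Module.finrank F K = d := FiniteField.finrank_extension F p d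
  haveI : Module.Finite F K := Module.finite_of_finrank_eq_succ (n := d - 1) (by omega)
  haveI : Finite K := Module.finite_of_finite F
  haveI := Fintype.ofFinite K
  let b : Module.Basis (Fin d) F K := Module.finBasisOfFinrankEq F K hK
  have hcard : Nat.card K = Nat.card F ^ d := by
    rw [Module.natCard_eq_pow_finrank (K := F) (V := K), hK]
  set Q := Nat.card K with hQ
  have hQ2 : 2 ≤ Q := Finite.one_lt_card
  obtain ⟨s, hs⟩ := exists_singer (F := K) 2 (by norm_num)
  rw [← hQ] at hs
  have hdet : Matrix.det (Units.val (s ^ (Q - 1))) = 1 := by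
    rw [Units.val_pow_eq_pow_val, Matrix.det_pow, hQ, Nat.card_eq_fintype_card,
      FiniteField.pow_card_sub_one_eq_one]
    exact ((Matrix.isUnit_iff_isUnit_det _).mp s.isUnit).ne_zero
  set x : SpecialLinearGroup (Fin 2) K := ⟨Units.val (s ^ (Q - 1)), hdet⟩ with hx
  refine ⟨sl2SpHom b x, ?_⟩
  rw [orderOf_injective _ (sl2SpHom_injective b),
    ← orderOf_injective _ Matrix.SpecialLinearGroup.toGL_injective,
    show Matrix.SpecialLinearGroup.toGL x = s ^ (Q - 1) from Units.ext rfl, orderOf_pow' _ (by omega), hs, ← hcard]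
  have h1 : Q ^ 2 - 1 = (Q + 1) * (Q - 1) := by
    obtain ⟨k, hk⟩ : ∃ k, Q = k + 1 := ⟨Q - 1, by omega⟩
    rw [hk, Nat.add_sub_cancel]
    have : (k + 1) ^ 2 = (k + 1 + 1) * k + 1 := by ring
    omega
  rw [h1, Nat.gcd_mul_left_left, Nat.mul_div_cancel _ (by omega)]

theorem exists_sp_torus_minus [Finite F] (d : ℕ) (hd : 1 ≤ d) :
    ∃ T : symplecticGroup (Fin d) F, orderOf T = Nat.card F ^ d - 1 := by
  obtain ⟨s, hs⟩ := exists_singer (F := F) d hd
  exact ⟨spHom d F s, by rw [orderOf_injective _ (spHom_injective d), hs]⟩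

section Unipotent

theorem fromBlocks_upper_pow {ι κ : Type*} [Fintype ι] [Fintype κ] [DecidableEq ι] [DecidableEq κ]
    (N : Matrix ι ι F) (X : Matrix ι κ F) (M : Matrix κ κ F) (k : ℕ) :
    (fromBlocks N X 0 M) ^ k =
      fromBlocks (N ^ k) (∑ i ∈ Finset.range k, N ^ i * X * M ^ (k - 1 - i)) 0 (M ^ k) := by
  induction k with
  | zero => simp [fromBlocks_one]
  | succ k ih =>
    rw [pow_succ', ih, fromBlocks_multiply]
    congr 1
    · simp [pow_succ']
    · rw [Finset.sum_range_succ', Matrix.mul_sum, Nat.sub_zero, pow_zero, Matrix.one_mul,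
        Nat.add_sub_cancel]
      congr 1
      apply Finset.sum_congr rfl
      intro i _
      rw [show k - (i + 1) = k - 1 - i by omega, pow_succ']
      simp only [Matrix.mul_assoc]
    · simp
    · simp [pow_succ']

theorem shiftMat_pow_pred (e : ℕ) (he : 1 ≤ e) :
    shiftMat e F ^ (e - 1) = Matrix.single ⟨0, he⟩ ⟨e - 1, by omega⟩ 1 := by
  ext i j
  rw [shiftMat_pow_apply]
  simp only [Matrix.single_apply, Fin.ext_iff]
  have := i.isLt
  have := j.isLt
  split_ifs <;> first | rfl | omega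

/-- A regular unipotent element of the symplectic group. -/
theorem exists_sp_unipotent (p : ℕ) [Fact p.Prime] [CharP F p] (e : ℕ) (he : 1 ≤ e) :
    ∃ u : symplecticGroup (Fin e) F, orderOf u = p ^ Nat.clog p (2 * e) := by
  classical
  set l : Fin e := ⟨e - 1, by omega⟩ with hl
  set S : Matrix (Fin e) (Fin e) F := Matrix.single l l 1 with hS
  have hSt : Sᵀ = S := by rw [hS, Matrix.transpose_single]
  have hU : fromBlocks 1 S 0 1 ∈ symplecticGroup (Fin e) F := by
    rw [SymplecticGroup.fromBlocks_mem_iff]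
    simp [hSt]
  set u : symplecticGroup (Fin e) F := spHom e F (jordanGL e F) * ⟨_, hU⟩ with hu
  refine ⟨u, ?_⟩
  set A : Matrix (Fin e) (Fin e) F := (jordanGL e F : Matrix (Fin e) (Fin e) F) with hA
  set A' : Matrix (Fin e) (Fin e) F :=
    (((jordanGL e F)⁻¹ : GL (Fin e) F) : Matrix (Fin e) (Fin e) F) with hA'
  set N := shiftMat e F with hN
  have hAN : A = 1 + N := by rw [hA, hN, ← jordanGL_sub_one]; abel
  have hA'A : A' * A = 1 := (jordanGL e F).inv_mul
  have hNA' : Commute N A' := by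
    have h : Commute N A := by rw [hAN]; exact (Commute.one_right _).add_right (Commute.refl _)
    exact h.units_inv_right (u := jordanGL e F)
  have hD : (u : Matrix (Fin e ⊕ Fin e) (Fin e ⊕ Fin e) F) - 1 =
      fromBlocks N (A * S) 0 (-((A' * N)ᵀ)) := by
    have h1 : A' - 1 = -(A' * N) := by
      have : A' * N = 1 - A' := by
        conv_rhs => rw [← hA'A, hAN]
        rw [mul_add, mul_one, add_sub_cancel_left]
      rw [this]; abel
    change fromBlocks A 0 0 A'ᵀ * fromBlocks 1 S 0 1 - 1 = _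
    rw [fromBlocks_multiply, ← fromBlocks_one, sub_eq_add_neg, fromBlocks_neg, fromBlocks_add]
    simp only [mul_one, mul_zero, zero_mul, add_zero, zero_add, neg_zero]
    rw [← transpose_neg, ← h1, transpose_sub, transpose_one, ← sub_eq_add_neg, ← sub_eq_add_neg,
      hAN, add_sub_cancel_left]
  have hNe : N ^ e = 0 := shiftMat_pow_self e F
  have hMpow : ∀ k, (-((A' * N)ᵀ)) ^ k = (-1 : F) ^ k • ((A' ^ k * N ^ k)ᵀ) := by
    intro k
    rw [← neg_one_smul F ((A' * N)ᵀ), smul_pow, ← transpose_pow, hNA'.symm.mul_pow]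
  have hzero : ((u : Matrix (Fin e ⊕ Fin e) (Fin e ⊕ Fin e) F) - 1) ^ (2 * e) = 0 := by
    rw [hD, fromBlocks_upper_pow, hMpow, pow_eq_zero_of_le (by omega) hNe, mul_zero,
      transpose_zero, smul_zero, Finset.sum_eq_zero, fromBlocks_zero]
    intro i hi
    rcases Nat.lt_or_ge i e with hlt | hge
    · rw [hMpow, pow_eq_zero_of_le (show e ≤ 2 * e - 1 - i by omega) hNe, mul_zero,
        transpose_zero, smul_zero, mul_zero]
    · rw [pow_eq_zero_of_le hge hNe, zero_mul, zero_mul]
  have hne : ((u : Matrix (Fin e ⊕ Fin e) (Fin e ⊕ Fin e) F) - 1) ^ (2 * e - 1) ≠ 0 := by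
    rw [hD, fromBlocks_upper_pow]
    intro h
    have h2 : fromBlocks (N ^ (2 * e - 1))
        (∑ i ∈ Finset.range (2 * e - 1), N ^ i * (A * S) * (-((A' * N)ᵀ)) ^ (2 * e - 1 - 1 - i))
        0 ((-((A' * N)ᵀ)) ^ (2 * e - 1)) = fromBlocks 0 0 0 0 := by rw [h, fromBlocks_zero]
    have h3 := (fromBlocks_inj.mp h2).2.1
    rw [Finset.sum_eq_single (e - 1)] at h3
    · have hAk : ∀ k, A' ^ k * N ^ (e - 1) = N ^ (e - 1) := by
        intro k
        induction k with
        | zero => rw [pow_zero, one_mul]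
        | succ k ih =>
          have h4 : A * N ^ (e - 1) = N ^ (e - 1) := by
            rw [hAN, add_mul, one_mul, ← pow_succ', Nat.sub_add_cancel he, hNe, add_zero]
          have h5 : A' * N ^ (e - 1) = N ^ (e - 1) := by
            conv_lhs => rw [← h4, ← mul_assoc, hA'A, one_mul]
          rw [pow_succ, mul_assoc, h5, ih]
      have h6 : N ^ (e - 1) * A = N ^ (e - 1) := by
        rw [hAN, mul_add, mul_one, ← pow_succ, Nat.sub_add_cancel he, hNe, add_zero]
      rw [show 2 * e - 1 - 1 - (e - 1) = e - 1 by omega, hMpow, hAk, ← mul_assoc, h6, hN,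
        shiftMat_pow_pred e he, hS, ← hl, Matrix.single_mul_single_same, Matrix.transpose_single,
        Matrix.mul_smul, Matrix.single_mul_single_same, one_mul, one_mul] at h3
      have := congrFun (congrFun h3 ⟨0, he⟩) ⟨0, he⟩
      simp [Matrix.single_apply] at this
    · intro i hi hie
      rw [Finset.mem_range] at hi
      rcases Nat.lt_or_ge i (e - 1) with hlt | hge
      · rw [hMpow, pow_eq_zero_of_le (show e ≤ 2 * e - 1 - 1 - i by omega) hNe, mul_zero,
          transpose_zero, smul_zero, mul_zero]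
      · rw [pow_eq_zero_of_le (show e ≤ i by omega) hNe, zero_mul, zero_mul]
    · intro h'
      exact absurd (Finset.mem_range.mpr (by omega)) h'
  haveI : Nonempty (Fin e ⊕ Fin e) := ⟨Sum.inl l⟩
  have hp1 := (Fact.out : p.Prime).one_lt
  have key : ∀ i, u ^ p ^ i = 1 ↔
      ((u : Matrix (Fin e ⊕ Fin e) (Fin e ⊕ Fin e) F) - 1) ^ p ^ i = 0 := by
    intro i
    rw [sub_pow_char_pow_of_commute p _ (Commute.one_right _), one_pow, sub_eq_zero, Subtype.ext_iff]
    simp
  have h1 : u ^ p ^ Nat.clog p (2 * e) = 1 :=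
    (key _).mpr (pow_eq_zero_of_le (Nat.le_pow_clog hp1 _) hzero)
  obtain ⟨i, hi, hi'⟩ := (Nat.dvd_prime_pow (Fact.out : p.Prime)).mp (orderOf_dvd_of_pow_eq_one h1)
  rw [hi']
  congr 1
  by_contra hne'
  have hlt : p ^ i < 2 * e := (Nat.lt_clog_iff_pow_lt hp1).mp (lt_of_le_of_ne hi hne')
  refine hne (pow_eq_zero_of_le (show p ^ i ≤ 2 * e - 1 by omega) ((key i).mp ?_))
  rw [← hi']
  exact pow_orderOf_eq_one u

end Unipotent

theorem sp_center_smul (n : ℕ) (g : symplecticGroup (Fin n) F)
    (hg : g ∈ Subgroup.center (symplecticGroup (Fin n) F)) :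
    ∃ c : F, c * c = 1 ∧
      (g : Matrix (Fin n ⊕ Fin n) (Fin n ⊕ Fin n) F) = c • 1 := by
  classical
  rcases Nat.eq_zero_or_pos n with rfl | hn
  · exact ⟨1, one_mul 1, Subsingleton.elim _ _⟩
  set M := (g : Matrix (Fin n ⊕ Fin n) (Fin n ⊕ Fin n) F) with hMdef
  have hcomm : ∀ h : symplecticGroup (Fin n) F,
      (h : Matrix (Fin n ⊕ Fin n) (Fin n ⊕ Fin n) F) * M = M * (h : Matrix _ _ F) :=
    fun h => congrArg Subtype.val (Subgroup.mem_center_iff.mp hg h)
  obtain ⟨P, Q, R, S, hM⟩ : ∃ P Q R S, M = fromBlocks P Q R S :=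
    ⟨_, _, _, _, (fromBlocks_toBlocks M).symm⟩
  have h1 : fromBlocks 1 1 0 1 ∈ symplecticGroup (Fin n) F := by
    rw [SymplecticGroup.fromBlocks_mem_iff]; simp
  have h2 : fromBlocks 1 0 1 1 ∈ symplecticGroup (Fin n) F := by
    rw [SymplecticGroup.fromBlocks_mem_iff]; simp
  have e1 : fromBlocks 1 1 0 1 * M = M * fromBlocks 1 1 0 1 := hcomm ⟨_, h1⟩
  have e2 : fromBlocks 1 0 1 1 * M = M * fromBlocks 1 0 1 1 := hcomm ⟨_, h2⟩
  rw [hM, fromBlocks_multiply, fromBlocks_multiply] at e1 e2
  simp only [one_mul, mul_one, zero_mul, mul_zero, add_zero, zero_add] at e1 e2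
  obtain ⟨e11, e12, -, -⟩ := fromBlocks_inj.mp e1
  obtain ⟨e21, -, -, -⟩ := fromBlocks_inj.mp e2
  have hR : R = 0 := add_eq_left.mp e11
  have hQ : Q = 0 := left_eq_add.mp e21
  have hS : S = P := by rw [add_comm P Q] at e12; exact add_left_cancel e12
  subst hR hQ hS
  have hP : S ∈ Set.range (Matrix.scalar (Fin n) : F → Matrix (Fin n) (Fin n) F) := by
    refine Matrix.mem_range_scalar_of_commute_transvectionStruct fun t => ?_
    have hdet : IsUnit t.toMatrix.det := by rw [t.det]; exact isUnit_one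
    have e3 : (spHom n F (Matrix.GeneralLinearGroup.mk'' t.toMatrix hdet) :
        Matrix (Fin n ⊕ Fin n) (Fin n ⊕ Fin n) F) * M =
        M * (spHom n F (Matrix.GeneralLinearGroup.mk'' t.toMatrix hdet) : Matrix _ _ F) := hcomm _
    have hc : (spHom n F (Matrix.GeneralLinearGroup.mk'' t.toMatrix hdet) :
        Matrix (Fin n ⊕ Fin n) (Fin n ⊕ Fin n) F) = fromBlocks t.toMatrix 0 0
          (((Matrix.GeneralLinearGroup.mk'' t.toMatrix hdet)⁻¹ : GL (Fin n) F) :
            Matrix (Fin n) (Fin n) F)ᵀ := rfl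
    rw [hc, hM, fromBlocks_multiply, fromBlocks_multiply] at e3
    have e4 := (fromBlocks_inj.mp e3).1
    simp only [mul_zero, zero_mul, add_zero] at e4
    exact e4
  obtain ⟨c, rfl⟩ := hP
  have hMc : M = c • 1 := by
    rw [hM, Matrix.scalar_apply, ← Matrix.smul_one_eq_diagonal]
    simp [← fromBlocks_one, fromBlocks_smul]
  refine ⟨c, ?_, hMc⟩
  have hJ := SymplecticGroup.mem_iff'.mp g.2
  rw [← hMdef, hMc] at hJ
  simp only [transpose_smul, transpose_one, Matrix.smul_mul, Matrix.mul_smul, one_mul, mul_one,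
    smul_smul] at hJ
  have := congrFun (congrFun hJ (Sum.inr ⟨0, hn⟩)) (Sum.inl ⟨0, hn⟩)
  simpa [J] using this

end Cfsg.Agent.Small
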