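import Cfsg.Agent.Lib.Small.SteinbergUnique
import Cfsg.Agent.Lib.Solv.SZ
import Cfsg.Agent.Lib.Char.OddCentralizerDefectZero

/-!
Values of the Steinberg character at semisimple elements.
-/

set_option autoImplicit false
set_option synthInstance.maxHeartbeats 400000
set_option linter.style.haveILetI false

namespace Cfsg.Agent.Small.StValues

open Cfsg Cfsg.Lie Cfsg.Agent.Lie Cfsg.Agent.Small.WeylCosets Cfsg.Agent.Small.StChar Module
open scoped MatrixGroups

/-- In a coset of a normal p-subgroup the p-regular elements are conjugate. -/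
theorem regular_conj {G : Type*} [Group G] [Finite G] {p : ℕ} [Fact p.Prime] (R : Subgroup G)
    (hR : IsPGroup p R) {t : G} (ht : t ∈ Subgroup.normalizer (R : Set G)) (htp : ¬ p ∣ orderOf t)
    {u : G} (hu : u ∈ R) (hup : ¬ p ∣ orderOf (t * u)) : ∃ r ∈ R, t * u = r * t * r⁻¹ := by
  classical
  have hp : p.Prime := Fact.out
  set Q : Subgroup G := R ⊔ Subgroup.zpowers t with hQ
  have hQn : Q ≤ Subgroup.normalizer (R : Set G) :=
    sup_le Subgroup.le_normalizer ((Subgroup.zpowers_le).2 ht)
  haveI : (R.subgroupOf Q).Normal := Subgroup.normal_subgroupOf_of_le_normalizer hQn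
  set f := QuotientGroup.mk' (R.subgroupOf Q) with hf
  have htQ : t ∈ Q := Subgroup.mem_sup_right (Subgroup.mem_zpowers t)
  have huQ : u ∈ Q := Subgroup.mem_sup_left hu
  set a : ↥Q := ⟨t, htQ⟩ with ha
  set b : ↥Q := ⟨t * u, mul_mem htQ huQ⟩ with hb
  have hfab : f b = f a := by
    rw [hf, QuotientGroup.mk'_eq_mk']
    exact ⟨⟨u⁻¹, inv_mem huQ⟩, inv_mem hu, Subtype.ext (mul_inv_cancel_right t u)⟩
  have hker : ∀ x : ↥Q, f x = 1 ↔ (x : G) ∈ R := fun x => by
    rw [hf, QuotientGroup.mk'_apply, QuotientGroup.eq_one_iff]; rfl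
  -- p-regular elements keep their order in the quotient
  have hord : ∀ x : ↥Q, ¬ p ∣ orderOf x → orderOf (f x) = orderOf x := by
    intro x hx
    refine Nat.dvd_antisymm (orderOf_map_dvd f x) (orderOf_dvd_of_pow_eq_one ?_)
    have h1 : f (x ^ orderOf (f x)) = 1 := by rw [map_pow, pow_orderOf_eq_one]
    obtain ⟨k, hk⟩ := hR ⟨_, (hker _).1 h1⟩
    have h2 : (x ^ orderOf (f x)) ^ p ^ k = 1 := Subtype.ext (by simpa using congrArg Subtype.val hk)
    have h3 : orderOf (x ^ orderOf (f x)) ∣ p ^ k := orderOf_dvd_of_pow_eq_one h2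
    have h4 : orderOf (x ^ orderOf (f x)) ∣ orderOf x := orderOf_pow_dvd _
    rw [← orderOf_eq_one_iff]
    refine Nat.eq_one_of_dvd_coprimes ?_ h3 h4
    exact ((Nat.Prime.coprime_iff_not_dvd hp).2 hx).pow_left k
  have hap : ¬ p ∣ orderOf a := by rwa [← Subgroup.orderOf_coe]
  have hbp : ¬ p ∣ orderOf b := by rwa [← Subgroup.orderOf_coe]
  have hgen : ∀ x : ↥Q ⧸ R.subgroupOf Q, x ∈ Subgroup.zpowers (f a) := by
    intro x
    obtain ⟨y, rfl⟩ := QuotientGroup.mk'_surjective (R.subgroupOf Q) x
    have hy : (y : G) ∈ ((R ⊔ Subgroup.zpowers t : Subgroup G) : Set G) := y.2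
    rw [Subgroup.coe_mul_of_right_le_normalizer_left R (Subgroup.zpowers t)
      ((Subgroup.zpowers_le).2 ht)] at hy
    obtain ⟨r, hr, z, hz, hrz⟩ := Set.mem_mul.1 hy
    obtain ⟨n, rfl⟩ := Subgroup.mem_zpowers_iff.1 hz
    refine Subgroup.mem_zpowers_iff.2 ⟨n, ?_⟩
    rw [← map_zpow, hf, eq_comm, QuotientGroup.mk'_apply, QuotientGroup.mk'_apply, QuotientGroup.eq,
      Subgroup.mem_subgroupOf]
    show (y : G)⁻¹ * (t ^ n : G) ∈ R
    rw [← hrz, _root_.mul_inv_rev]
    have : t ^ n ∈ Subgroup.normalizer (R : Set G) := zpow_mem ht n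
    exact (Subgroup.mem_normalizer_iff''.1 this _).1 (inv_mem hr)
  have hidx : (R.subgroupOf Q).index = orderOf a := by
    rw [Subgroup.index_eq_card, ← hord a hap, ← Nat.card_zpowers]
    exact (Nat.card_congr (Subgroup.topEquiv.toEquiv.symm)).trans
      (by rw [show Subgroup.zpowers (f a) = ⊤ from eq_top_iff.2 fun x _ => hgen x])
  have hco : (Nat.card (R.subgroupOf Q)).Coprime (R.subgroupOf Q).index := by
    rw [hidx]
    obtain ⟨k, hk⟩ := IsPGroup.iff_card.1 (hR.comap_subtype (K := Q))
    rw [show Nat.card (R.subgroupOf Q) = p ^ k from hk]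
    exact ((Nat.Prime.coprime_iff_not_dvd hp).2 hap).pow_left k
  haveI : Group.IsNilpotent ↥(R.subgroupOf Q) := (hR.comap_subtype (K := Q)).isNilpotent
  obtain ⟨g, hg, hge⟩ := Solv.sz_conj (R.subgroupOf Q) (Subgroup.zpowers a) (Subgroup.zpowers b) hco
    (by rw [Nat.card_zpowers, hidx])
    (by rw [Nat.card_zpowers, hidx, ← hord b hbp, hfab, hord a hap]) (Or.inl inferInstance)
  have hga : g * a * g⁻¹ ∈ Subgroup.zpowers b := by
    rw [← hge]
    exact Subgroup.smul_mem_pointwise_smul a (MulAut.conj g) _ (Subgroup.mem_zpowers a)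
  obtain ⟨n, hn⟩ := Subgroup.mem_zpowers_iff.1 hga
  have hgb : b = g * a * g⁻¹ := by
    have h1 : f b ^ n = f b ^ (1 : ℤ) := by
      rw [← map_zpow, hn, map_mul, map_mul, map_inv, (hker g).2 hg, one_mul, inv_one, mul_one, zpow_one,
        hfab]
    rw [zpow_eq_zpow_iff_modEq, hord b hbp, ← zpow_eq_zpow_iff_modEq, zpow_one] at h1
    rw [← hn, h1]
  exact ⟨g, hg, congrArg Subtype.val hgb⟩

variable {D : ChevalleyDatum} {F : Type*} [Field F] (hF : Facts D)

include hF in
theorem parabolicIn_full : D.parabolicIn F (Finset.range D.rank) = ⊤ := by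
  refine eq_top_iff.2 fun g _ => (mem_parabolicIn hF _).2 ⟨cell hF g, ?_, cell_spec hF g⟩
  rw [WJ, show nodes D (Finset.range D.rank) = Set.univ from
    Set.eq_univ_of_forall fun i => Finset.mem_range.2 i.isLt, Set.image_univ, hF.refSys.gen]
  exact Subgroup.mem_top _

/-- Orbits on pairs of cosets inside a parabolic subgroup. -/
theorem card_orbits_sub {J K I : Finset ℕ} (hK : K ⊆ J) (hI : I ⊆ J) :
    Nat.card (Quotient (MulAction.orbitRel ↥(D.parabolicIn F J)
      ((↥(D.parabolicIn F J) ⧸ (D.parabolicIn F K).subgroupOf (D.parabolicIn F J)) ×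
        (↥(D.parabolicIn F J) ⧸ (D.parabolicIn F I).subgroupOf (D.parabolicIn F J))))) =
    Nat.card {d : hF.weyl // d ∈ WJ hF.refSys (nodes D J) ∧ IsMin hF.refSys (nodes D I) d ∧
      IsMin hF.refSys (nodes D K) d⁻¹} := by
  classical
  have hnW : ∀ (L : Finset ℕ), ∀ v ∈ WJ hF.refSys (nodes D L),
      (⟨(hF.tsys F).nW v, StChar.nW_mem_group hF v⟩ : ↥(D.group F)) ∈ D.parabolicIn F L :=
    fun L v hv => (mem_parabolicIn hF L).2 ⟨v, hv, inCell_nW hF v⟩
  let e : {d : hF.weyl // d ∈ WJ hF.refSys (nodes D J) ∧ IsMin hF.refSys (nodes D I) d ∧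
      IsMin hF.refSys (nodes D K) d⁻¹} → Quotient (MulAction.orbitRel ↥(D.parabolicIn F J)
      ((↥(D.parabolicIn F J) ⧸ (D.parabolicIn F K).subgroupOf (D.parabolicIn F J)) ×
        (↥(D.parabolicIn F J) ⧸ (D.parabolicIn F I).subgroupOf (D.parabolicIn F J)))) := fun d =>
    Quotient.mk _ ((((1 : ↥(D.parabolicIn F J))) : _ ⧸ _),
      ((⟨_, hnW J d.1 d.2.1⟩ : ↥(D.parabolicIn F J)) : _ ⧸ _))
  refine (Nat.card_congr (Equiv.ofBijective e ⟨?_, ?_⟩)).symm
  · intro d d' h
    obtain ⟨g, hg⟩ := Quotient.exact h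
    obtain ⟨hg1, hg2⟩ := Prod.ext_iff.1 hg
    change ((g * 1 : ↥(D.parabolicIn F J)) :
      ↥(D.parabolicIn F J) ⧸ (D.parabolicIn F K).subgroupOf (D.parabolicIn F J)) = _ at hg1
    change ((g * ⟨_, hnW J d'.1 d'.2.1⟩ : ↥(D.parabolicIn F J)) :
      ↥(D.parabolicIn F J) ⧸ (D.parabolicIn F I).subgroupOf (D.parabolicIn F J)) = _ at hg2
    rw [QuotientGroup.eq, Subgroup.mem_subgroupOf, mul_one, mul_one, Subgroup.coe_inv,
      Subgroup.inv_mem_iff] at hg1
    rw [QuotientGroup.eq, Subgroup.mem_subgroupOf] at hg2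
    refine Subtype.ext ?_
    obtain ⟨v, hv, u, hu, he⟩ := cell_translate hF I K
      (g := (⟨(hF.tsys F).nW d'.1, StChar.nW_mem_group hF d'.1⟩ : ↥(D.group F))) hg1 hg2
    have e1 : cell hF (⟨(hF.tsys F).nW d'.1, StChar.nW_mem_group hF d'.1⟩ : ↥(D.group F)) = d'.1 :=
      cell_eq hF (inCell_nW hF d'.1)
    have e2 : cell hF (⟨(hF.tsys F).nW d.1, StChar.nW_mem_group hF d.1⟩ : ↥(D.group F)) = d.1 :=
      cell_eq hF (inCell_nW hF d.1)
    rw [e1] at he
    simp only [Subgroup.coe_mul, Subgroup.coe_inv] at he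
    rw [mul_inv_cancel_left, e2] at he
    have r1 := rep_eq hF d.2.2.1 d.2.2.2 (one_mem (WJ hF.refSys (nodes D K)))
      (one_mem (WJ hF.refSys (nodes D I)))
    have r2 := rep_eq hF d'.2.2.1 d'.2.2.2 hv hu
    rw [one_mul, mul_one] at r1
    rw [← he] at r2
    rw [← r1, r2]
  · intro q
    induction q using Quotient.inductionOn with
    | h q =>
      obtain ⟨q1, q2⟩ := q
      induction q1 using QuotientGroup.induction_on with
      | H x =>
        induction q2 using QuotientGroup.induction_on with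
        | H y =>
          set g : ↥(D.parabolicIn F J) := x⁻¹ * y with hg
          obtain ⟨v0, hv0, hc0⟩ := (mem_parabolicIn hF J).1 g.2
          obtain ⟨h1, h2, v, hv, u, hu, hd⟩ := rep_spec hF (nodes D I) (nodes D K) v0
          set d := rep hF (nodes D I) (nodes D K) v0
          have hdJ : d ∈ WJ hF.refSys (nodes D J) := by
            rw [show d = v⁻¹ * v0 * u⁻¹ by rw [hd]; group]
            exact mul_mem (mul_mem (inv_mem (WJ_mono hF hK hv)) hv0) (inv_mem (WJ_mono hF hI hu))
          refine ⟨⟨d, hdJ, h1, h2⟩, Quotient.sound ?_⟩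
          obtain ⟨c, hc, c', hc', hce⟩ := hc0
          obtain ⟨z, hz, hze⟩ := hF.nW_mul (F := F) v d
          obtain ⟨z', hz', hze'⟩ := hF.nW_mul (F := F) (v * d) u
          have hn : (hF.tsys F).nW v0 =
              z'⁻¹ * z⁻¹ * (hF.tsys F).nW v * (hF.tsys F).nW d * (hF.tsys F).nW u := by
            rw [hd, mul_assoc (z'⁻¹ * z⁻¹) ((hF.tsys F).nW _), hze,
              show ∀ n m : GL D.Idx F, z'⁻¹ * z⁻¹ * (z * n) * m = z'⁻¹ * (n * m) from
                fun n m => by group, hze', inv_mul_cancel_left]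
          let a : ↥(D.group F) := ⟨c * z'⁻¹ * z⁻¹ * (hF.tsys F).nW v,
            mul_mem (mul_mem (mul_mem (B_mem_group hF hc) (inv_mem (B_mem_group hF
              ((hF.tsys F).H_le_B hz')))) (inv_mem (B_mem_group hF ((hF.tsys F).H_le_B hz))))
              (StChar.nW_mem_group hF v)⟩
          let b : ↥(D.group F) := ⟨(hF.tsys F).nW u * c', mul_mem (StChar.nW_mem_group hF u) (B_mem_group hF hc')⟩
          have haK : a ∈ D.parabolicIn F K := (mem_parabolicIn hF K).2 ⟨v, hv, c * z'⁻¹ * z⁻¹,
            mul_mem (mul_mem hc (inv_mem ((hF.tsys F).H_le_B hz'))) (inv_mem ((hF.tsys F).H_le_B hz)),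
            1, one_mem _, (mul_one _).symm⟩
          have hbI : b ∈ D.parabolicIn F I := (mem_parabolicIn hF I).2
            ⟨u, hu, 1, one_mem _, c', hc', by rw [one_mul]⟩
          have hgab : (g : ↥(D.group F)) = a * ⟨_, StChar.nW_mem_group hF d⟩ * b := by
            refine Subtype.ext ?_
            rw [hce, hn]
            simp only [Subgroup.coe_mul, a, b]
            group
          let aP : ↥(D.parabolicIn F J) := ⟨a, parabolicIn_mono hK haK⟩
          let bP : ↥(D.parabolicIn F J) := ⟨b, parabolicIn_mono hI hbI⟩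
          have hgab' : g = aP * ⟨_, hnW J d hdJ⟩ * bP := Subtype.ext hgab
          refine ⟨(x * aP)⁻¹, Prod.ext ?_ ?_⟩
          · show (((x * aP)⁻¹ * x : ↥(D.parabolicIn F J)) :
              ↥(D.parabolicIn F J) ⧸ (D.parabolicIn F K).subgroupOf (D.parabolicIn F J)) = _
            rw [QuotientGroup.eq, Subgroup.mem_subgroupOf]
            rw [show ((x * aP)⁻¹ * x)⁻¹ * 1 = aP by group]
            exact haK
          · show (((x * aP)⁻¹ * y : ↥(D.parabolicIn F J)) :
              ↥(D.parabolicIn F J) ⧸ (D.parabolicIn F I).subgroupOf (D.parabolicIn F J)) = _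
            rw [QuotientGroup.eq, Subgroup.mem_subgroupOf]
            rw [show y = x * g by rw [hg]; group, hgab']
            rw [show ((x * aP)⁻¹ * (x * (aP * ⟨_, hnW J d hdJ⟩ * bP)))⁻¹ * ⟨_, hnW J d hdJ⟩ = bP⁻¹ by group]
            exact inv_mem hbI

/-- The alternating sum of the permutation characters inside a parabolic subgroup. -/
noncomputable def stP (J : Finset ℕ) : ↥(D.parabolicIn F J) → ℂ :=
  ∑ I ∈ J.powerset, (((-1 : ℤ) ^ I.card : ℤ) : ℂ) •
    fixedPointCharacter ((D.parabolicIn F I).subgroupOf (D.parabolicIn F J))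

include hF in
theorem norm_stP [Fintype F] {J : Finset ℕ} (hJ : J ⊆ Finset.range D.rank)
    [Fintype ↥(D.parabolicIn F J)] :
    classInner (stP (D := D) (F := F) J) (stP (D := D) (F := F) J) = 1 := by
  classical
  have := Fintype.ofFinite hF.weyl
  obtain ⟨L, hL⟩ := exists_longestJ hF J
  have hcount : ∀ K I, K ⊆ J → I ⊆ J →
      classInner (fixedPointCharacter ((D.parabolicIn F K).subgroupOf (D.parabolicIn F J)))
        (fixedPointCharacter ((D.parabolicIn F I).subgroupOf (D.parabolicIn F J))) =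
      ((∑ d : hF.weyl, if (∀ i : Fin D.rank, i.val ∈ I → d • hF.refSys.α i ∈ hF.refSys.P) then
        (if (∀ j : Fin D.rank, j.val ∈ K → d⁻¹ • hF.refSys.α j ∈ hF.refSys.P) then
          (if d ∈ WJ hF.refSys (nodes D J) then (1 : ℤ) else 0) else 0) else 0 : ℤ) : ℂ) := by
    intro K I hK hI
    rw [classInner]
    simp only [Flags.conj_fixedPointCharacter]
    rw [Flags.sum_fixedPointCharacter_mul, card_orbits_sub hF hK hI, Nat.card_eq_fintype_card,
      Fintype.card_subtype, Finset.card_filter]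
    push_cast
    refine Finset.sum_congr rfl fun d _ => ?_
    rw [isMin_iff hF.refSys, isMin_iff hF.refSys]
    by_cases h1 : ∀ i : Fin D.rank, i.val ∈ I → d • hF.refSys.α i ∈ hF.refSys.P
    · by_cases h2 : ∀ j : Fin D.rank, j.val ∈ K → d⁻¹ • hF.refSys.α j ∈ hF.refSys.P
      · by_cases h3 : d ∈ WJ hF.refSys (nodes D J)
        · rw [if_pos h1, if_pos h2, if_pos h3, if_pos ⟨h3, h1, h2⟩]
        · rw [if_pos h1, if_pos h2, if_neg h3, if_neg fun h => h3 h.1]
      · rw [if_pos h1, if_neg h2, if_neg fun h => h2 h.2.2]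
    · rw [if_neg h1, if_neg fun h => h1 h.2.1]
  rw [stP, Char.classInner_sum_left]
  simp only [Char.classInner_smul_left, Char.classInner_sum_right, Char.classInner_smul_right]
  rw [Finset.sum_congr rfl fun K hK => by
    rw [Finset.sum_congr rfl fun I hI => by
      rw [hcount K I (Finset.mem_powerset.1 hK) (Finset.mem_powerset.1 hI)]]]
  simp only [map_intCast, ← Int.cast_mul, ← Int.cast_sum]
  rw [show (1 : ℂ) = ((1 : ℤ) : ℂ) by simp]
  congr 1
  have hI : ∀ K : Finset ℕ,
      (∑ I ∈ J.powerset, (-1 : ℤ) ^ I.card * ∑ d : hF.weyl,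
        if (∀ i : Fin D.rank, i.val ∈ I → d • hF.refSys.α i ∈ hF.refSys.P) then
          (if (∀ j : Fin D.rank, j.val ∈ K → d⁻¹ • hF.refSys.α j ∈ hF.refSys.P) then
            (if d ∈ WJ hF.refSys (nodes D J) then (1 : ℤ) else 0) else 0) else 0) =
      if (∀ j : Fin D.rank, j.val ∈ K → L • hF.refSys.α j ∈ hF.refSys.P) then 1 else 0 := by
    intro K
    simp only [Finset.mul_sum]
    rw [Finset.sum_comm, Finset.sum_eq_single L]
    · rw [hL.inv]
      by_cases hK : ∀ j : Fin D.rank, j.val ∈ K → L • hF.refSys.α j ∈ hF.refSys.P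
      · simp only [if_pos hK, if_pos hL.mem]
        exact (alt_sum_sub J hJ (fun i : Fin D.rank => L • hF.refSys.α i ∈ hF.refSys.P)).trans
          (if_pos fun i hi => hL.desc i hi)
      · simp [if_neg hK]
    · intro d _ hd
      by_cases hdJ : d ∈ WJ hF.refSys (nodes D J)
      · by_cases hK : ∀ j : Fin D.rank, j.val ∈ K → d⁻¹ • hF.refSys.α j ∈ hF.refSys.P
        · simp only [if_pos hK, if_pos hdJ]
          exact (alt_sum_sub J hJ (fun i : Fin D.rank => d • hF.refSys.α i ∈ hF.refSys.P)).trans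
            (if_neg fun h => hd (hL.uniq d hdJ fun i hi => h i hi))
        · simp [if_neg hK]
      · simp [if_neg hdJ]
    · exact fun h => absurd (Finset.mem_univ _) h
  have h := (alt_sum_sub J hJ (fun i : Fin D.rank => L • hF.refSys.α i ∈ hF.refSys.P)).trans
    (if_pos fun i hi => hL.desc i hi)
  refine Eq.trans (Finset.sum_congr rfl fun K _ => ?_) h
  rw [← hI K, Finset.mul_sum]
  exact Finset.sum_congr rfl fun I _ => by ring

include hF in
/-- The degree of stP. -/
theorem stP_one [Fintype F] {J : Finset ℕ} (hJ : J ⊆ Finset.range D.rank) {L : hF.weyl}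
    (hL : Longest hF J L) {l : List (List ℤ)} (hl : okCoeff D l = true) :
    stP (D := D) (F := F) J 1 = ((Fintype.card F ^ hF.refSys.len L : ℕ) : ℂ) := by
  classical
  have h := stJ_U hF hJ hL hl (u := (1 : ↥(D.group F))) (F := F) (by
    rw [Subgroup.coe_one]; exact one_mem _)
  rw [if_pos (by rw [Subgroup.coe_one]; exact one_mem _)] at h
  have h' := congrArg (fun z : ℤ => (z : ℂ)) h
  simp only [stJ, Int.cast_sum, Int.cast_mul, Int.cast_pow, Int.cast_natCast] at h'
  rw [Nat.cast_pow, ← h', stP, Finset.sum_apply]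
  refine Finset.sum_congr rfl fun I hI => ?_
  have hle := parabolicIn_mono (D := D) (F := F) (Finset.mem_powerset.1 hI)
  rw [Pi.smul_apply, smul_eq_mul, fixedPointCharacter, Int.cast_pow]
  congr 2
  rw [Nat.card_congr (Equiv.subtypeEquivRight (q := fun y : ↥(D.group F) ⧸ D.parabolicIn F I =>
      y.out ∈ D.parabolicIn F J) fun y => ⟨fun hy => hy.2, fun hy => ⟨one_smul _ y, hy⟩⟩),
    Nat.card_congr (show {q : ↥(D.parabolicIn F J) ⧸ (D.parabolicIn F I).subgroupOf (D.parabolicIn F J) //
      q ∈ MulAction.fixedBy _ (1 : ↥(D.parabolicIn F J))} ≃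
        ↥(D.parabolicIn F J) ⧸ (D.parabolicIn F I).subgroupOf (D.parabolicIn F J) from
      Equiv.subtypeUnivEquiv fun q => one_smul _ q)]
  refine Nat.card_congr (Equiv.ofBijective (fun q => (⟨((q.out : ↥(D.parabolicIn F J)) :
    ↥(D.group F)), ?_⟩ : {y : ↥(D.group F) ⧸ D.parabolicIn F I // y.out ∈ D.parabolicIn F J}))
    ⟨?_, ?_⟩)
  · obtain ⟨z, hz⟩ := QuotientGroup.mk_out_eq_mul (D.parabolicIn F I)
      ((q.out : ↥(D.parabolicIn F J)) : ↥(D.group F))
    rw [hz]
    exact mul_mem q.out.2 (hle z.2)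
  · intro q q' he
    have he' := congrArg Subtype.val he
    rw [QuotientGroup.eq] at he'
    rw [← QuotientGroup.out_eq' q, ← QuotientGroup.out_eq' q', QuotientGroup.eq, Subgroup.mem_subgroupOf]
    exact he'
  · rintro ⟨y, hy⟩
    refine ⟨((⟨y.out, hy⟩ : ↥(D.parabolicIn F J)) : _ ⧸ _), Subtype.ext ?_⟩
    show ((_ : ↥(D.group F)) : ↥(D.group F) ⧸ D.parabolicIn F I) = y
    conv_rhs => rw [← QuotientGroup.out_eq' y]
    obtain ⟨z, hz⟩ := QuotientGroup.mk_out_eq_mul ((D.parabolicIn F I).subgroupOf (D.parabolicIn F J))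
      (⟨y.out, hy⟩ : ↥(D.parabolicIn F J))
    rw [hz, QuotientGroup.eq, Subgroup.coe_mul, _root_.mul_inv_rev, inv_mul_cancel_right]
    exact inv_mem z.2

theorem fix_one {G : Type*} [Group G] (H : Subgroup G) :
    Nat.card (MulAction.fixedBy (G ⧸ H) (1 : G)) = H.index :=
  Nat.card_congr (Equiv.subtypeUnivEquiv fun q => one_smul G q)

/-- An irreducible-norm virtual character pairing to 1 with a character of the same degree equals it. -/
theorem eq_of_norm_one {G : Type*} [Group G] [Fintype G] {a θ : G → ℂ}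
    (ha : IsGeneralizedCharacter G a) (hn : classInner a a = 1) (hθ : IsCharacter G θ)
    (h : classInner a θ = 1) (h1 : a 1 = θ 1) : θ = a := by
  classical
  obtain ⟨e, ψ, he, rfl⟩ := Char.exists_sign_of_norm_one ha hn
  obtain ⟨m, hm⟩ := Char.exists_decomposition hθ
  have hc := Char.decomposition_coeff m hm ψ
  rw [Char.classInner_smul_left] at h
  have hc' : classInner (ψ : G → ℂ) θ = (m ψ : ℂ) := by
    rw [← Char.classInner_symm, hc, Complex.conj_natCast]
  rw [hc'] at h
  have hmψ : e = 1 ∧ m ψ = 1 := by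
    have h' : e * (m ψ : ℤ) = 1 := by exact_mod_cast h
    rcases he with rfl | rfl <;> omega
  obtain ⟨rfl, hm1⟩ := hmψ
  rw [Int.cast_one, one_smul] at h1 ⊢
  rw [hm] at h1 ⊢
  simp only [Finset.sum_apply, Pi.smul_apply] at h1
  rw [← Finset.add_sum_erase _ _ (Finset.mem_univ ψ), hm1, one_smul] at h1
  have hsum : ∑ φ ∈ Finset.univ.erase ψ, m φ * Char.deg (φ : G → ℂ) = 0 := by
    have h2 : (∑ φ ∈ Finset.univ.erase ψ, m φ • (φ : G → ℂ) 1) = 0 := by linear_combination -h1
    rw [Finset.sum_congr rfl (g := fun φ => ((m φ * Char.deg (φ : G → ℂ) : ℕ) : ℂ)) fun φ _ => by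
      rw [Char.char_one_eq_deg (Char.irr_isCharacter φ.2), nsmul_eq_mul, Nat.cast_mul],
      ← Nat.cast_sum, Nat.cast_eq_zero] at h2
    exact h2
  rw [Finset.sum_eq_single ψ, hm1, one_smul]
  · intro φ _ hφ
    have h3 := Finset.sum_eq_zero_iff.1 hsum φ (Finset.mem_erase.2 ⟨hφ, Finset.mem_univ _⟩)
    rcases mul_eq_zero.1 h3 with h4 | h4
    · rw [h4, zero_smul]
    · exact absurd h4 (Char.deg_pos φ.2).ne'
  · exact fun h => absurd (Finset.mem_univ _) h

variable [Fintype F] {p : ℕ} [Fact p.Prime] [CharP F p]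

include hF in
theorem card_U_eq : Nat.card ↥(hF.tsys F).U = p ^ (Nat.card ↥(D.group F)).factorization p := by
  classical
  have hp : p.Prime := Fact.out
  obtain ⟨m, -, hm⟩ := FiniteField.card F p
  have hlen : (hF.lenSum (List.range D.rank) (Fintype.card F) : ZMod p) = 1 := by
    have hall : ∀ w : hF.weyl, hF.InJ (List.range D.rank) w := fun w => by
      obtain ⟨ω, hω⟩ := hF.refSys.exists_word w
      exact ⟨ω, fun i _ => List.mem_range.2 i.isLt, hω⟩
    rw [Facts.lenSum, Finset.filter_true_of_mem fun w _ => hall w, Nat.cast_sum,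
      Finset.sum_eq_single (1 : hF.weyl)]
    · rw [RefSystem.len_one, pow_zero, Nat.cast_one]
    · intro w _ hw
      rw [hm, Nat.cast_pow, Nat.cast_pow, ZMod.natCast_self, zero_pow m.ne_zero,
        zero_pow fun h => hw (hF.refSys.eq_one_of_len_eq_zero h)]
    · exact fun h => absurd (Finset.mem_univ _) h
  have hcard := hF.card_group_sum (F := F)
  rw [Nat.card_eq_fintype_card (α := F), hm, ← pow_mul, ← hF.tsys_H, ← hm] at hcard
  rw [show (hF.tsys F).U = (hF.tsys F).US (Facts.posL D) from rfl, hF.card_US hF.closedList_posL,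
    hF.length_posL, Nat.card_eq_fintype_card, hm, ← pow_mul]
  congr 1
  have h0 : ¬ p ∣ hF.lenSum (List.range D.rank) (Fintype.card F) := fun hd => by
    rw [← ZMod.natCast_eq_zero_iff, hlen] at hd
    exact one_ne_zero hd
  have h1 : ¬ p ∣ Nat.card ↥(hF.tsys F).H := fun hd =>
    hp.one_lt.ne' (Nat.eq_one_of_dvd_coprimes (coprime_H hF p) dvd_rfl hd)
  rw [hcard, Nat.factorization_mul (by
      exact mul_ne_zero (pow_ne_zero _ hp.ne_zero) Nat.card_pos.ne')
      (fun h => h0 (by rw [h]; exact dvd_zero p)), Nat.factorization_mul (pow_ne_zero _ hp.ne_zero) Nat.card_pos.ne']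
  rw [Finsupp.add_apply, Finsupp.add_apply, hp.factorization_pow, Finsupp.single_eq_same,
    Nat.factorization_eq_zero_of_not_dvd h0, Nat.factorization_eq_zero_of_not_dvd h1, add_zero,
    add_zero]

include hF in
/-- The value at a semisimple element. -/
theorem value {l : List (List ℤ)} (hl : okCoeff D l = true) {s : ↥(D.group F)}
    (hs : ¬ p ∣ orderOf s) :
    ∃ e : ℂ, (e = 1 ∨ e = -1) ∧ D.steinbergCharacter F s =
      e * ((p ^ (Nat.card ↥(Subgroup.centralizer ({s} : Set ↥(D.group F)))).factorization p : ℕ) : ℂ) := by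
  classical
  haveI := Fintype.ofFinite ↥(D.group F)
  have hp : p.Prime := Fact.out
  obtain ⟨n, ρ, hρ, hρc⟩ := StChar.isIrr hF (F := F)
  haveI := hρ
  have hn : n = Nat.card ↥(hF.tsys F).U := by
    have h1 := stP_one hF (F := F) (Finset.Subset.refl (Finset.range D.rank))
      (exists_longestJ hF _).choose_spec hl
    have h2 : stP (D := D) (F := F) (Finset.range D.rank) 1 = D.steinbergCharacter F 1 := by
      rw [stP, ChevalleyDatum.steinbergCharacter, Finset.sum_apply]
      refine Finset.sum_congr rfl fun I hI => ?_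
      rw [Pi.smul_apply, smul_eq_mul, Int.cast_pow, Int.cast_neg, Int.cast_one, fixedPointCharacter,
        fixedPointCharacter]
      congr 2
      rw [fix_one, fix_one]
      show ((D.parabolicIn F I).subgroupOf (D.parabolicIn F (Finset.range D.rank))).index =
        (D.parabolicIn F I).index
      rw [← Subgroup.relIndex, parabolicIn_full hF, Subgroup.relIndex_top_right]
    rw [h2, ← congrFun hρc 1, Representation.char_one, Module.finrank_fin_fun, Nat.cast_inj] at h1
    rw [h1, show (hF.tsys F).U = (hF.tsys F).US (Facts.posL D) from rfl,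
      hF.card_US hF.closedList_posL, hF.length_posL, Nat.card_eq_fintype_card]
    congr 1
    have h3 := len_radL hF (exists_longestJ hF (Finset.range D.rank)).choose_spec
    have hempty : Facts.radL D (↑(Finset.range D.rank) : Set ℕ) = [] := by
      refine List.eq_nil_iff_forall_not_mem.2 fun r hr => ?_
      obtain ⟨-, h2, h3⟩ := (Facts.mem_radL _).1 hr
      exact h3 ⟨h2, fun i hi hn => absurd (Finset.mem_coe.2 (Finset.mem_range.2 hi)) hn⟩
    rw [hempty] at h3
    simpa using h3
  have hdeg : p ^ (Nat.card ↥(D.group F)).factorization p ∣ n := by rw [hn, card_U_eq hF]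
  -- a minimal parabolic subgroup meeting the class of s
  obtain ⟨J, hJmem, hJmin⟩ := Finset.exists_min_image
    ((Finset.range D.rank).powerset.filter fun J => ∃ x : ↥(D.group F), x * s * x⁻¹ ∈ D.parabolicIn F J)
    Finset.card ⟨Finset.range D.rank, Finset.mem_filter.2 ⟨Finset.mem_powerset_self _, 1,
      by rw [parabolicIn_full hF]; exact Subgroup.mem_top _⟩⟩
  obtain ⟨hJ, x, hx⟩ := Finset.mem_filter.1 hJmem
  rw [Finset.mem_powerset] at hJ
  set t := x * s * x⁻¹ with htdef
  have htp : ¬ p ∣ orderOf t := by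
    rwa [show orderOf t = orderOf s from (MulAut.conj x).orderOf_eq s]
  have hχst : D.steinbergCharacter F t = D.steinbergCharacter F s := by
    rw [← hρc, htdef, Representation.char_conj]
  have hCst : Nat.card ↥(Subgroup.centralizer ({t} : Set ↥(D.group F))) =
      Nat.card ↥(Subgroup.centralizer ({s} : Set ↥(D.group F))) := by
    refine (Nat.card_congr ((MulAut.conj x).toEquiv.subtypeEquiv fun z => ?_)).symm
    simp only [Subgroup.mem_centralizer_singleton_iff, MulEquiv.toEquiv_eq_coe, EquivLike.coe_coe,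
      MulAut.conj_apply, htdef]
    constructor
    · intro h
      calc x * z * x⁻¹ * (x * s * x⁻¹) = x * (z * s) * x⁻¹ := by group
        _ = x * (s * z) * x⁻¹ := by rw [h]
        _ = _ := by group
    · intro h
      calc z * s = x⁻¹ * (x * z * x⁻¹ * (x * s * x⁻¹)) * x := by group
        _ = x⁻¹ * (x * s * x⁻¹ * (x * z * x⁻¹)) * x := by rw [h]
        _ = _ := by group
  set P := D.parabolicIn F J with hP
  set R : Subgroup ↥(D.group F) :=
    ((hF.tsys F).US (Facts.radL D (↑J : Set ℕ))).subgroupOf (D.group F) with hR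
  have hradU : ∀ u ∈ (hF.tsys F).US (Facts.radL D (↑J : Set ℕ)), u ∈ (hF.tsys F).U := fun u hu =>
    CommSys.US_mono _ (fun r hr => Facts.mem_posL.2
      ⟨((Facts.mem_radL _).1 hr).1, ((Facts.mem_radL _).1 hr).2.1⟩) hu
  have hRP : ∀ I : Finset ℕ, R ≤ D.parabolicIn F I := fun I u hu => (mem_parabolicIn hF I).2
    ⟨1, one_mem _, inCell_one hF ((hF.tsys F).U_le_B (hradU _ hu))⟩
  have hnorm : ∀ g ∈ P, g ∈ Subgroup.normalizer (R : Set ↥(D.group F)) := fun g hg => by
    rw [Subgroup.mem_normalizer_iff]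
    intro y
    exact (rad_conj hF hl (y := y) hg).symm
  obtain ⟨m, -, hm⟩ := FiniteField.card F p
  have hRcard : Nat.card ↥R = Fintype.card F ^ (Facts.radL D (↑J : Set ℕ)).length := by
    rw [Nat.card_congr (Subgroup.subgroupOfEquivOfLe fun u hu => StModule.U_mem hF (hradU u hu)).toEquiv,
      hF.card_US (closed_radL hl _ hF), Nat.card_eq_fintype_card]
  have hRp : IsPGroup p ↥R := by
    refine IsPGroup.of_card (n := m * (Facts.radL D (↑J : Set ℕ)).length) ?_
    rw [hRcard, hm, pow_mul]
  -- the action on the fixed space of R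
  set W := Representation.invariants (ρ.comp R.subtype) with hW
  have hWst : ∀ g : ↥P, ∀ w ∈ W, ρ g w ∈ W := by
    intro g w hw u
    have h1 : (g : ↥(D.group F))⁻¹ * (u : ↥(D.group F)) * g ∈ R :=
      (Subgroup.mem_normalizer_iff''.1 (hnorm _ g.2) _).1 u.2
    show ρ (u : ↥(D.group F)) (ρ g w) = ρ g w
    rw [← Module.End.mul_apply, ← map_mul, show (u : ↥(D.group F)) * g =
      g * ((g : ↥(D.group F))⁻¹ * u * g) by group, map_mul, Module.End.mul_apply]
    exact congrArg (ρ g) (hw ⟨_, h1⟩)
  let θr : Representation ℂ ↥P W :=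
    { toFun := fun g => (ρ g).restrict (hWst g)
      map_one' := LinearMap.ext fun w => Subtype.ext (by simp)
      map_mul' := fun a b => LinearMap.ext fun w => Subtype.ext (by simp) }
  have hθval : ∀ g : ↥P, (Nat.card ↥R : ℂ) * θr.character g =
      ∑ u : ↥R, ρ.character ((g : ↥(D.group F)) * u) := by
    intro g
    let A : Module.End ℂ (Fin n → ℂ) := (Nat.card ↥R : ℂ)⁻¹ • ∑ u : ↥R, ρ u
    have hA : ∀ w, A w ∈ W := fun w v => by
      show ρ (v : ↥(D.group F)) (A w) = A w
      simp only [A, LinearMap.smul_apply, LinearMap.sum_apply, map_smul, map_sum]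
      congr 1
      refine Fintype.sum_equiv (Equiv.mulLeft v) _ _ fun u => ?_
      rw [← Module.End.mul_apply, ← map_mul]
      rfl
    have hAW : ∀ w ∈ W, A w = w := by
      intro w hw
      simp only [A, LinearMap.smul_apply, LinearMap.sum_apply]
      rw [Finset.sum_congr rfl (g := fun _ => w) fun (u : ↥R) _ =>
        (show ρ (u : ↥(D.group F)) w = w from hw u), Finset.sum_const, Finset.card_univ,
        ← Nat.cast_smul_eq_nsmul ℂ, smul_smul, Nat.card_eq_fintype_card,
        inv_mul_cancel₀ (Nat.cast_ne_zero.2 Fintype.card_ne_zero), one_smul]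
    have hmem : ∀ w, (ρ g ∘ₗ A) w ∈ W := fun w => hWst g _ (hA w)
    have htr : LinearMap.trace ℂ _ (ρ g ∘ₗ A) = θr.character g := by
      rw [← LinearMap.trace_restrict_eq_of_forall_mem W _ hmem]
      show LinearMap.trace ℂ W _ = LinearMap.trace ℂ W _
      congr 1
      ext w
      show (ρ g (A (w : Fin n → ℂ))) _ = (ρ g (w : Fin n → ℂ)) _
      rw [hAW _ w.2]
    rw [← htr]
    simp only [A, ← Module.End.mul_eq_comp]
    rw [mul_smul_comm, map_smul, smul_eq_mul, ← mul_assoc, mul_inv_cancel₀ (Perm.PermChar.card_ne R),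
      one_mul, Finset.mul_sum, map_sum]
    refine Finset.sum_congr rfl fun u _ => ?_
    rw [← map_mul]
    rfl
  -- θ is the alternating sum
  haveI := Fintype.ofFinite ↥P
  obtain ⟨L, hL⟩ := exists_longestJ hF J
  have hone : θr.character (1 : ↥P) = ((Fintype.card F ^ hF.refSys.len L : ℕ) : ℂ) := by
    refine mul_left_cancel₀ (Perm.PermChar.card_ne R) ?_
    rw [hθval, Finset.sum_eq_single (1 : ↥R)]
    · rw [Subgroup.coe_one, Subgroup.coe_one, mul_one, Representation.char_one, Module.finrank_fin_fun,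
        ← Nat.cast_mul, hRcard, ← pow_add, hn,
        show (hF.tsys F).U = (hF.tsys F).US (Facts.posL D) from rfl, hF.card_US hF.closedList_posL,
        hF.length_posL, Nat.card_eq_fintype_card, add_comm, len_radL hF hL]
    · intro u _ hu
      rw [Subgroup.coe_one, one_mul]
      refine S0165.result ρ p ((Nat.card ↥(D.group F)).factorization p) hp (Nat.ordProj_dvd _ _)
        (Nat.pow_succ_factorization_not_dvd Nat.card_pos.ne' hp)
        (by rw [Module.finrank_fin_fun]; exact hdeg) _ ?_
      obtain ⟨k, hk⟩ := IsPGroup.iff_orderOf.1 hRp u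
      rw [Subgroup.orderOf_coe, hk]
      refine dvd_pow_self p fun h0 => hu ?_
      rw [h0, pow_zero, orderOf_eq_one_iff] at hk
      exact hk
    · exact fun h => absurd (Finset.mem_univ _) h
  have hinner : classInner (stP (D := D) (F := F) J) θr.character = 1 := by
    have hterm : ∀ I ∈ J.powerset,
        classInner (fixedPointCharacter ((D.parabolicIn F I).subgroupOf P)) θr.character =
          if I = ∅ then 1 else 0 := by
      intro I hI
      haveI : Fintype (↥P ⧸ (D.parabolicIn F I).subgroupOf P) := Fintype.ofFinite _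
      show classInner (Perm.PermChar.permChar ↥P (↥P ⧸ (D.parabolicIn F I).subgroupOf P))
        θr.character = _
      rw [Perm.PermChar.inner_permChar_rep ((1 : ↥P) : ↥P ⧸ (D.parabolicIn F I).subgroupOf P) θr,
        MulAction.stabilizer_quotient]
      have hle : D.parabolicIn F I ≤ P := parabolicIn_mono (Finset.mem_powerset.1 hI)
      have e : Representation.invariants (θr.comp ((D.parabolicIn F I).subgroupOf P).subtype) ≃ₗ[ℂ]
          Representation.invariants (ρ.comp (D.parabolicIn F I).subtype) :=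
        { toFun := fun w => ⟨((w : W) : Fin n → ℂ), fun g =>
            congrArg Subtype.val (w.2 ⟨⟨g.1, hle g.2⟩, g.2⟩)⟩
          map_add' := fun _ _ => rfl
          map_smul' := fun _ _ => rfl
          invFun := fun w => ⟨⟨(w : Fin n → ℂ), fun u => w.2 ⟨u.1, hRP I u.2⟩⟩, fun g =>
            Subtype.ext (w.2 ⟨g.1.1, g.2⟩)⟩
          left_inv := fun _ => rfl
          right_inv := fun _ => rfl }
      rw [e.finrank_eq, StUnique.invariants_of_defect_zero hF ρ hρ hdeg I
        ((Finset.mem_powerset.1 hI).trans hJ)]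
      split_ifs <;> simp
    rw [stP, Char.classInner_sum_left, Finset.sum_eq_single ∅]
    · rw [Char.classInner_smul_left, hterm ∅ (Finset.empty_mem_powerset _), if_pos rfl]
      simp
    · intro I hI hne
      rw [Char.classInner_smul_left, hterm I hI, if_neg hne, mul_zero]
    · exact fun h => absurd (Finset.empty_mem_powerset _) h
  have hgen : IsGeneralizedCharacter ↥P (stP (D := D) (F := F) J) := by
    refine Char.isGenChar_sum _ _ fun I _ => ?_
    rw [Int.cast_pow, Int.cast_neg, Int.cast_one]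
    exact Char.isGenChar_neg_one_pow
      ⟨_, 0, Flags.isCharacter_fixedPointCharacter _, Char.isCharacter_zero, (sub_zero _).symm⟩ _
  have hθ := eq_of_norm_one hgen (norm_stP hF hJ) (Char.isCharacter_character θr) hinner
    ((stP_one hF hJ hL hl).trans hone.symm)
  -- the value of the alternating sum at t
  have hstt : stP (D := D) (F := F) J ⟨t, hx⟩ = (-1 : ℂ) ^ J.card := by
    rw [stP, Finset.sum_apply, Finset.sum_eq_single J]
    · rw [Pi.smul_apply, smul_eq_mul, fixedPointCharacter, Int.cast_pow, Int.cast_neg, Int.cast_one,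
        show (D.parabolicIn F J).subgroupOf (D.parabolicIn F J) = ⊤ from Subgroup.subgroupOf_self _]
      have : Nat.card (MulAction.fixedBy (↥P ⧸ (⊤ : Subgroup ↥P)) (⟨t, hx⟩ : ↥P)) = 1 := by
        haveI : Subsingleton (↥P ⧸ (⊤ : Subgroup ↥P)) := QuotientGroup.subsingleton_quotient_top
        rw [Nat.card_eq_one_iff_unique]
        exact ⟨inferInstance, ⟨⟨((1 : ↥P) : ↥P ⧸ (⊤ : Subgroup ↥P)), Subsingleton.elim _ _⟩⟩⟩
      rw [this, Nat.cast_one, mul_one]
    · intro I hI hne
      rw [Pi.smul_apply, smul_eq_mul, fixedPointCharacter, show Nat.card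
        (MulAction.fixedBy (↥P ⧸ (D.parabolicIn F I).subgroupOf P) (⟨t, hx⟩ : ↥P)) = 0 from ?_,
        Nat.cast_zero, mul_zero]
      rw [Nat.card_eq_zero]
      refine Or.inl ⟨fun q => hne ?_⟩
      obtain ⟨q, hq⟩ := q
      induction q using QuotientGroup.induction_on with
      | H y =>
        have h1 : ((⟨t, hx⟩ * y : ↥P) : ↥P ⧸ (D.parabolicIn F I).subgroupOf P) = y := hq
        rw [eq_comm, QuotientGroup.eq, Subgroup.mem_subgroupOf] at h1
        refine Finset.eq_of_subset_of_card_le (Finset.mem_powerset.1 hI) (hJmin I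
          (Finset.mem_filter.2 ⟨Finset.mem_powerset.2 ((Finset.mem_powerset.1 hI).trans hJ),
            (y : ↥(D.group F))⁻¹ * x, ?_⟩))
        simpa [htdef, mul_assoc] using h1
    · exact fun h => absurd (Finset.mem_powerset_self J) h
  -- the sum over the coset tR
  set C := Subgroup.centralizer ({t} : Set ↥(D.group F)) with hC
  have hval : ρ.character t = (Nat.card ↥(C.subgroupOf R) : ℂ) * (-1 : ℂ) ^ J.card := by
    have h1 := hθval ⟨t, hx⟩
    rw [hθ, hstt] at h1
    let φ : ↥R ⧸ C.subgroupOf R → ↥(D.group F) :=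
      Quotient.lift (fun r : ↥R => (r : ↥(D.group F)) * t * (r : ↥(D.group F))⁻¹) (by
        intro a b hab
        have hab' := QuotientGroup.leftRel_apply.1 hab
        rw [Subgroup.mem_subgroupOf, hC, Subgroup.mem_centralizer_singleton_iff] at hab'
        simp only [Subgroup.coe_mul, Subgroup.coe_inv] at hab'
        show (a : ↥(D.group F)) * t * (a : ↥(D.group F))⁻¹ = b * t * (b : ↥(D.group F))⁻¹
        calc (a : ↥(D.group F)) * t * (a : ↥(D.group F))⁻¹
            = a * (t * ((a : ↥(D.group F))⁻¹ * b)) * (b : ↥(D.group F))⁻¹ := by group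
          _ = _ := by rw [← hab']; group)
    have hφinj : Function.Injective φ := by
      intro a b
      induction a using QuotientGroup.induction_on with
      | H a =>
        induction b using QuotientGroup.induction_on with
        | H b =>
          intro h
          rw [QuotientGroup.eq, Subgroup.mem_subgroupOf, hC, Subgroup.mem_centralizer_singleton_iff]
          simp only [Subgroup.coe_mul, Subgroup.coe_inv]
          change (a : ↥(D.group F)) * t * (a : ↥(D.group F))⁻¹ = b * t * (b : ↥(D.group F))⁻¹ at h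
          calc (a : ↥(D.group F))⁻¹ * b * t
              = (a : ↥(D.group F))⁻¹ * (b * t * (b : ↥(D.group F))⁻¹) * b := by group
            _ = _ := by rw [← h]; group
    haveI := Fintype.ofFinite (↥R ⧸ C.subgroupOf R)
    have hsum : ∑ u : ↥R, ρ.character (t * u) =
        (Fintype.card (↥R ⧸ C.subgroupOf R) : ℂ) * ρ.character t := by
      let S := Finset.univ.filter fun u : ↥R => ¬ p ∣ orderOf (t * (u : ↥(D.group F)))
      rw [← Finset.sum_subset (Finset.subset_univ S) fun u _ hu => ?_]
      · have hS : ∀ u ∈ S, ρ.character (t * u) = ρ.character t := by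
          intro u hu
          obtain ⟨r, hr, he⟩ := regular_conj R hRp (hnorm t hx) htp u.2 (Finset.mem_filter.1 hu).2
          rw [he, Representation.char_conj]
        rw [Finset.sum_congr rfl hS, Finset.sum_const, nsmul_eq_mul]
        congr 2
        rw [← Finset.card_univ]
        symm
        have hψ : ∀ q : ↥R ⧸ C.subgroupOf R, t⁻¹ * φ q ∈ R := by
          intro q
          induction q using QuotientGroup.induction_on with
          | H r =>
            show t⁻¹ * ((r : ↥(D.group F)) * t * (r : ↥(D.group F))⁻¹) ∈ R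
            rw [show t⁻¹ * ((r : ↥(D.group F)) * t * (r : ↥(D.group F))⁻¹) =
              t⁻¹ * r * t * (r : ↥(D.group F))⁻¹ by group]
            exact mul_mem ((Subgroup.mem_normalizer_iff''.1 (hnorm t hx) _).1 r.2) (inv_mem r.2)
        refine Finset.card_bij (fun q _ => (⟨t⁻¹ * φ q, hψ q⟩ : ↥R)) ?_ ?_ ?_
        · intro q _
          refine Finset.mem_filter.2 ⟨Finset.mem_univ _, ?_⟩
          rw [mul_inv_cancel_left]
          induction q using QuotientGroup.induction_on with
          | H r =>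
            show ¬ p ∣ orderOf ((r : ↥(D.group F)) * t * (r : ↥(D.group F))⁻¹)
            rwa [show orderOf ((r : ↥(D.group F)) * t * (r : ↥(D.group F))⁻¹) = orderOf t from
              (MulAut.conj (r : ↥(D.group F))).orderOf_eq t]
        · intro a _ b _ h
          exact hφinj (mul_left_cancel (congrArg Subtype.val h))
        · intro u hu
          obtain ⟨r, hr, he⟩ := regular_conj R hRp (hnorm t hx) htp u.2 (Finset.mem_filter.1 hu).2
          exact ⟨((⟨r, hr⟩ : ↥R) : _ ⧸ _), Finset.mem_univ _, Subtype.ext (by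
            show t⁻¹ * (r * t * r⁻¹) = u
            rw [← he, inv_mul_cancel_left])⟩
      · refine S0165.result ρ p ((Nat.card ↥(D.group F)).factorization p) hp (Nat.ordProj_dvd _ _)
          (Nat.pow_succ_factorization_not_dvd Nat.card_pos.ne' hp)
          (by rw [Module.finrank_fin_fun]; exact hdeg) _ ?_
        by_contra h
        exact hu (Finset.mem_filter.2 ⟨Finset.mem_univ _, h⟩)
    rw [hsum, Subgroup.card_eq_card_quotient_mul_card_subgroup (C.subgroupOf R), Nat.cast_mul,
      Nat.card_eq_fintype_card (α := ↥R ⧸ C.subgroupOf R)] at h1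
    refine mul_left_cancel₀ (a := (Fintype.card (↥R ⧸ C.subgroupOf R) : ℂ))
      (Nat.cast_ne_zero.2 Fintype.card_ne_zero) ?_
    rw [← h1]
    ring
  obtain ⟨a, ha⟩ := IsPGroup.iff_card.1 (hRp.to_subgroup (C.subgroupOf R))
  -- comparison with the centraliser
  have hle : a ≤ (Nat.card ↥C).factorization p := by
    have e : Nat.card ↥(C.subgroupOf R) = Nat.card ↥(C ⊓ R : Subgroup ↥(D.group F)) := by
      rw [← Subgroup.inf_subgroupOf_right]
      exact Nat.card_congr (Subgroup.subgroupOfEquivOfLe inf_le_right).toEquiv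
    rw [← hp.pow_dvd_iff_le_factorization Nat.card_pos.ne', ← ha, e]
    exact Subgroup.card_dvd_of_le inf_le_left
  have hge : (Nat.card ↥C).factorization p ≤ a := by
    have hω := Char.omega_isIntegral (Char.isIrrCharacter_character ρ hρ) t
    rw [Char.omega, hval, ha, Representation.char_one, Module.finrank_fin_fun] at hω
    have hcl : Nat.card {z : ↥(D.group F) // IsConj t z} * Nat.card ↥C = Nat.card ↥(D.group F) :=
      Char.card_conjClass_mul_centralizer t
    set k := Nat.card {z : ↥(D.group F) // IsConj t z} with hk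
    have hn0 : n ≠ 0 := by rw [hn]; exact Nat.card_pos.ne'
    have hk0 : k ≠ 0 := Char.card_conjClass_ne_zero t
    have hint : IsIntegral ℤ (((k * p ^ a : ℕ) : ℂ) / (n : ℂ)) := by
      have h2 := (isIntegral_one.neg.pow J.card).mul hω
      have e : (-1 : ℂ) ^ J.card * ((k : ℂ) * (((p ^ a : ℕ) : ℂ) * (-1 : ℂ) ^ J.card) / (n : ℂ)) =
          ((k * p ^ a : ℕ) : ℂ) / (n : ℂ) := by
        rw [Nat.cast_mul]
        rcases neg_one_pow_eq_or ℂ J.card with h3 | h3 <;> rw [h3] <;> ring
      rwa [e] at h2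
    have hdvd : n ∣ k * p ^ a := Char.OddCent.dvd_of_eq_mul hn0 hint
      (by rw [mul_div_cancel₀ _ (Nat.cast_ne_zero.2 hn0)])
    have hk' := (Nat.factorization_le_iff_dvd hn0
      (mul_ne_zero hk0 (pow_ne_zero _ hp.ne_zero))).2 hdvd p
    rw [Nat.factorization_mul hk0 (pow_ne_zero _ hp.ne_zero), Finsupp.add_apply, hp.factorization_pow,
      Finsupp.single_eq_same] at hk'
    have hfn : n.factorization p = (Nat.card ↥(D.group F)).factorization p := by
      rw [hn, card_U_eq hF, hp.factorization_pow, Finsupp.single_eq_same]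
    have hG := congrArg (fun z : ℕ => z.factorization p) hcl
    simp only [Nat.factorization_mul hk0 Nat.card_pos.ne', Finsupp.add_apply] at hG
    omega
  refine ⟨(-1 : ℂ) ^ J.card, neg_one_pow_eq_or ℂ J.card, ?_⟩
  rw [← hχst, ← hCst, ← congrFun hρc t, hval, ha, le_antisymm hge hle, mul_comm]

end Cfsg.Agent.Small.StValues
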