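import Cfsg.Agent.Lib.Small.QuadStandard
import Cfsg.Agent.Lib.Classical.OrthForms

/-!
# Nondegenerate quadratic spaces over finite fields as models of the three standard forms
-/

set_option autoImplicit false
set_option linter.unusedSectionVars false

namespace Cfsg.Agent.Small.QuadModels

open QuadraticMap Module Cfsg.Agent.Small Cfsg.Agent.Classical

universe u

variable {F : Type u} [Field F] {V : Type u} [AddCommGroup V] [Module F V] (Q : QuadraticForm F V)

theorem nondegenerate {W : Type*} [AddCommGroup W] [Module F W] {T : QuadraticForm F W} (h : OCount.PND T) :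
    (polarBilin T).Nondegenerate :=
  ⟨fun x hx => h x fun y => hx y, fun y hy => h y fun x => by rw [polar_comm]; exact hy x⟩

theorem pnd_res {W : Submodule F V} (hW : QuadBasis.Nondeg Q W) : OCount.PND (Q.comp W.subtype) :=
  fun v hv => Subtype.ext (hW v.1 v.2 fun y hy => hv ⟨y, hy⟩)

/-- There is an anisotropic binary form. -/
theorem exists_aniso [Fintype F] :
    ∃ a c : F, ∀ z₁ z₂ : F, z₁ ^ 2 + a * z₁ * z₂ + c * z₂ ^ 2 = 0 → z₁ = 0 ∧ z₂ = 0 := by
  classical
  obtain ⟨w, hw⟩ : ∃ w : F, ∀ x : F, x * x + x ≠ w := by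
    by_contra! h
    have := (Finite.injective_iff_surjective (f := fun x : F => x * x + x)).2 h
    exact one_ne_zero (neg_eq_zero.1 (this (show (fun x : F => x * x + x) (-1) = (fun x : F => x * x + x) 0 by simp)))
  refine ⟨1, -w, fun z₁ z₂ h => ?_⟩
  by_cases h2 : z₂ = 0
  · subst h2
    exact ⟨pow_eq_zero_iff two_ne_zero |>.1 (by linear_combination h), rfl⟩
  · refine absurd ?_ (hw (z₁ / z₂))
    field_simp
    linear_combination h

/-- In even dimension the space is hyperbolic or carries the standard elliptic form. -/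
theorem even_model [Fintype F] [FiniteDimensional F V] {m : ℕ} (hm : 1 ≤ m) (hV : finrank F V = 2 * m)
    (hQ : (polarBilin Q).Nondegenerate) (a c : F)
    (hac : ∀ z₁ z₂ : F, z₁ ^ 2 + a * z₁ * z₂ + c * z₂ ^ 2 = 0 → z₁ = 0 ∧ z₂ = 0) :
    (∃ L : (Fin m ⊕ Fin m → F) ≃ₗ[F] V, ∀ v, Q (L v) = Cfsg.quadFormPlus m F v) ∨
      (∃ L : ((Fin (m - 1) ⊕ Fin (m - 1)) ⊕ Fin 2 → F) ≃ₗ[F] V,
        ∀ v, Q (L v) = Cfsg.quadFormMinus (m - 1) F a c v) := by
  obtain ⟨k, rfl⟩ : ∃ k, m = k + 1 := ⟨m - 1, by omega⟩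
  obtain ⟨e, f, W₀, hF, -, hN, hd, ho⟩ := QuadBasis.exists_frame Q 2 (Or.inr rfl) k ⊤ (QuadBasis.nondeg_top Q hQ)
    (by rw [finrank_top, hV]; ring)
  by_cases hs : ∃ x ∈ W₀, x ≠ 0 ∧ Q x = 0
  · obtain ⟨x, hx, hx0, hQx⟩ := hs
    obtain ⟨y, hy, hQy, hxy, -⟩ := QuadBasis.exists_pair Q hN hx hx0 hQx
    have hF' := QuadBasis.frame_cons Q hF Submodule.mem_top Submodule.mem_top hQx hQy hxy
      fun i => ⟨(ho x hx i).1, (ho x hx i).2, (ho y hy i).1, (ho y hy i).2⟩
    obtain ⟨b, hb⟩ : ∃ b : Basis (Fin (k + 1) ⊕ Fin (k + 1)) F V, ⇑b = Sum.elim (Fin.cons x e) (Fin.cons y f) :=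
      ⟨basisOfLinearIndependentOfCardEqFinrank (QuadBasis.hyperbolic_li Q hF') (by simp [hV]; ring),
        coe_basisOfLinearIndependentOfCardEqFinrank _ _⟩
    refine Or.inl ⟨b.equivFun.symm, fun v => ?_⟩
    have h := QuadBasis.frame_value Q hF' (κ := Fin 0) Fin.elim0 (fun c => c.elim0) (fun i => v (.inl i))
      (fun i => v (.inr i)) Fin.elim0
    rw [Basis.equivFun_symm_apply, Fintype.sum_sum_type, hb]
    simp only [Sum.elim_inl, Sum.elim_inr]
    simpa [Finset.sum_add_distrib, Cfsg.quadFormPlus] using h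
  · push Not at hs
    haveI : Finite V := Module.finite_of_finite F
    have hpl := OCount.card_plane (Q.comp W₀.subtype) (pnd_res Q hN) hd
      (fun x hx => Subtype.ext (by by_contra h0; exact hs x.1 x.2 h0 hx)) a c
      (fun t h => one_ne_zero (hac t 1 (by linear_combination h)).2)
    obtain ⟨⟨⟨x, y⟩, hx, hy, hxy⟩⟩ := (Nat.card_pos_iff.1 (lt_of_lt_of_eq (by omega) hpl.symm)).1
    change Q x.1 = 1 at hx
    change Q y.1 = c at hy
    change polar Q x.1 y.1 = a at hxy
    have ho' : ∀ (d : Fin 2) i, polar Q (e i) (![x.1, y.1] d) = 0 ∧ polar Q (f i) (![x.1, y.1] d) = 0 := by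
      intro d i
      fin_cases d
      · simpa using ho x.1 x.2 i
      · simpa using ho y.1 y.2 i
    have hxyQ : ∀ s t : F, Q (s • x.1 + t • y.1) = s ^ 2 + a * s * t + c * t ^ 2 := fun s t => by
      rw [QuadBasis.q_add, QuadBasis.q_smul, QuadBasis.q_smul, QuadBasis.p_smul_left, QuadBasis.p_smul_right, hx, hy,
        hxy]
      ring
    have hli : LinearIndependent F ![x.1, y.1] := by
      rw [LinearIndependent.pair_iff]
      intro s t hst
      refine hac s t ?_
      rw [← hxyQ, hst, QuadraticMap.map_zero]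
    obtain ⟨b, hb⟩ : ∃ b : Basis ((Fin (k + 1 - 1) ⊕ Fin (k + 1 - 1)) ⊕ Fin 2) F V,
        ⇑b = Sum.elim (Sum.elim e f) ![x.1, y.1] :=
      ⟨basisOfLinearIndependentOfCardEqFinrank (ι := (Fin (k + 1 - 1) ⊕ Fin (k + 1 - 1)) ⊕ Fin 2)
        (b := Sum.elim (Sum.elim e f) ![x.1, y.1]) (QuadBasis.frame_li Q hF _ hli ho') (by simp [hV]; ring),
        coe_basisOfLinearIndependentOfCardEqFinrank _ _⟩
    refine Or.inr ⟨b.equivFun.symm, fun v => ?_⟩
    have h := QuadBasis.frame_value Q hF ![x.1, y.1] ho' (fun i => v (.inl (.inl i))) (fun i => v (.inl (.inr i)))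
      (fun d => v (.inr d))
    rw [Fin.sum_univ_two] at h
    simp only [Matrix.cons_val_zero, Matrix.cons_val_one] at h
    rw [hxyQ] at h
    rw [Basis.equivFun_symm_apply, Fintype.sum_sum_type, Fintype.sum_sum_type, Fin.sum_univ_two, hb]
    simp only [Sum.elim_inl, Sum.elim_inr, Matrix.cons_val_zero, Matrix.cons_val_one]
    rw [← Finset.sum_add_distrib]
    exact h

/-- In odd dimension the space is a multiple of the standard parabolic form. -/
theorem odd_model [Fintype F] [FiniteDimensional F V] {m : ℕ} (hV : finrank F V = 2 * m + 1)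
    (hQ : (polarBilin Q).Nondegenerate) :
    ∃ (d : F) (L : (Unit ⊕ (Fin m ⊕ Fin m) → F) ≃ₗ[F] V), d ≠ 0 ∧ ∀ v, Q (L v) = d * Cfsg.quadFormOdd m F v := by
  obtain ⟨b, h0, hbo, hq, hef, heo⟩ := QuadBasis.odd_basis Q hV hQ
  obtain ⟨d, hd⟩ : ∃ d, d = Q (b (.inl ())) := ⟨_, rfl⟩
  obtain ⟨s, hs⟩ : ∃ s : Unit ⊕ (Fin m ⊕ Fin m) → F, s = Sum.elim (fun _ => 1) (Sum.elim (fun _ => d) fun _ => 1) :=
    ⟨_, rfl⟩
  have hsu : ∀ k, IsUnit (s k) := fun k => by
    rw [hs, isUnit_iff_ne_zero]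
    rcases k with _ | _ | _ <;> simp [hd, h0]
  refine ⟨d, (b.isUnitSMul hsu).equivFun.symm, hd ▸ h0, fun v => ?_⟩
  have hF : QuadBasis.Frame Q (⊤ : Submodule F V) m (fun i => b (.inr (.inl i))) fun i => b (.inr (.inr i)) :=
    ⟨fun _ => trivial, fun _ => trivial, fun i => (hq i).1, fun i => (hq i).2, hef, fun i j => (heo i j).1,
      fun i j => (heo i j).2⟩
  have h := QuadBasis.frame_value Q hF (fun _ : Unit => b (.inl ()))
    (fun _ i => ⟨(polar_comm _ _ _).trans (hbo i).1, (polar_comm _ _ _).trans (hbo i).2⟩)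
    (fun i => v (.inr (.inl i)) * d) (fun i => v (.inr (.inr i))) (fun _ => v (.inl ()))
  simp only [Finset.univ_unique, Finset.sum_singleton, QuadBasis.q_smul, ← hd, Finset.sum_add_distrib] at h
  rw [Basis.equivFun_symm_apply, Fintype.sum_sum_type, Fintype.sum_sum_type]
  simp only [Basis.isUnitSMul_apply, hs, Sum.elim_inl, Sum.elim_inr, smul_smul, mul_one, one_smul,
    Finset.univ_unique, Finset.sum_singleton]
  rw [add_comm, h, Cfsg.quadFormOdd, mul_add, Finset.mul_sum, add_comm (d * _)]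
  exact congrArg₂ (· + ·) (Finset.sum_congr rfl fun i _ => by ring) (by ring)

/-! ### Vectors of norm one -/

variable [Fintype F]

theorem card_one_plane (a c : F)
    (hac : ∀ z₁ z₂ : F, z₁ ^ 2 + a * z₁ * z₂ + c * z₂ ^ 2 = 0 → z₁ = 0 ∧ z₂ = 0) :
    Nat.card {z : Fin 2 → F // OCount.planeForm a c z = 1} = Fintype.card F + 1 := by
  have hk : ∀ k : F, k * k + a * k + c ≠ 0 := fun k h => one_ne_zero (hac k 1 (by linear_combination h)).2
  have hne : a * a ≠ 4 * c := by
    intro he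
    by_cases h2 : (2 : F) = 0
    · have ha0 : a = 0 := mul_self_eq_zero.mp (by linear_combination he + 2 * c * h2)
      obtain ⟨s, hs⟩ := SL2C.isSquare_of_two h2 c
      exact hk s (by rw [ha0]; linear_combination hs + c * h2)
    · refine hk (-a / 2) ?_
      field_simp
      linear_combination -he
  have h := SL2C.sol_add_roots hne
  have h0 : SL2C.roots a c = 0 := by
    rw [SL2C.roots, Nat.card_eq_zero]; exact Or.inl ⟨fun k => hk k.1 k.2⟩
  rw [h0, add_zero, SL2C.sol] at h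
  rw [← h]
  refine Nat.card_congr ((finTwoArrowEquiv F).subtypeEquiv fun z => ?_)
  rw [OCount.planeForm_apply, SL2C.Qf]
  refine Eq.congr ?_ rfl
  show _ = z 0 * z 0 + a * z 0 * z 1 + c * (z 1 * z 1)
  ring

theorem card_one_plus (m : ℕ) : Nat.card {v : Fin m ⊕ Fin m → F // Cfsg.quadFormPlus m F v = 1} =
    (Fintype.card F ^ m - 1) * Fintype.card F ^ (m - 1) := by
  have h := OCount.card_stdQ (R := Empty) m (0 : QuadraticForm F (Empty → F)) 1
  have h0 : Nat.card {z : Empty → F // (0 : QuadraticForm F (Empty → F)) z = 1} = 0 :=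
    Nat.card_eq_zero.2 (Or.inl ⟨fun z => zero_ne_one (α := F) z.2⟩)
  rw [h0, OCount.valNum, mul_zero, add_zero, Fintype.card_empty, add_zero] at h
  rw [← h]
  refine Nat.card_congr ((Equiv.arrowCongr (Equiv.sumEmpty (Fin m ⊕ Fin m) Empty).symm (Equiv.refl F)).subtypeEquiv
    fun v => ?_)
  rw [OCount.stdQ_apply]
  simp [Cfsg.quadFormPlus]

theorem card_one_minus (j : ℕ) (a c : F)
    (hac : ∀ z₁ z₂ : F, z₁ ^ 2 + a * z₁ * z₂ + c * z₂ ^ 2 = 0 → z₁ = 0 ∧ z₂ = 0) :
    Nat.card {v : (Fin j ⊕ Fin j) ⊕ Fin 2 → F // Cfsg.quadFormMinus j F a c v = 1} =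
      (Fintype.card F ^ (j + 1) + 1) * Fintype.card F ^ j := by
  have h := OCount.card_stdQ (R := Fin 2) j (OCount.planeForm a c) 1
  rw [card_one_plane a c hac, OCount.valNum, Fintype.card_fin] at h
  rw [← OOmega.coe_minus j a c]
  refine (Nat.card_congr ((Equiv.refl _).subtypeEquiv fun v => ?_)).trans (h.trans ?_)
  · rw [OOmega.formOf_apply]; rfl
  · obtain ⟨q, hq⟩ : ∃ q, Fintype.card F = q + 1 := ⟨Fintype.card F - 1, by have := Fintype.card_pos (α := F); omega⟩
    rw [hq]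
    rcases j with _ | i
    · simp
    · have h1 : 1 ≤ (q + 1) ^ (i + 1) := Nat.one_le_pow _ _ (by omega)
      simp only [Nat.add_sub_cancel]
      zify [h1]
      ring

end Cfsg.Agent.Small.QuadModels
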