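import Cfsg.Agent.Lib.Small.Order459648Local
import Cfsg.Agent.Lib.Char.SmallDegreeCentralizer
import Cfsg.Agent.Lib.Char.TwoDegreesPrime
import Cfsg.Agent.Lib.Char.DihedralPrincipal
import Cfsg.Agent.Lib.Char.PrincipalInflate

/-!
# No simple group of order 459648
-/

set_option autoImplicit false

namespace Cfsg.Agent.Small.Order459648

open Cfsg Cfsg.Agent.Char Cfsg.Agent.Lead.BlockDeg
open scoped commutatorElement

universe u

variable {G : Type u} [Group G] [Fintype G]

/-- The trivial character. -/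
def oneChar : IrrCharacter G := ⟨fun _ => 1, isIrrCharacter_one⟩

theorem charDegree_oneChar : charDegree ((oneChar : IrrCharacter G) : G → ℂ) = 1 := by
  simp [charDegree, oneChar]

theorem memLI_sub_degree {p : ℕ} [Fact p.Prime] {M : Ideal AlgInt} (hM : IsPModular p M)
    (P : Sylow p G) {χ : IrrCharacter G} (hχ : χ ∈ principalBlock M G) {x : G}
    (hx : x ∈ Subgroup.centralizer ((P : Subgroup G) : Set G)) :
    MemLocalIdeal M ((χ : G → ℂ) x - (χ : G → ℂ) 1) := by
  have hP := pmod_prime hM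
  have hle : (P : Subgroup G) ≤ Subgroup.centralizer ({x} : Set G) := fun y hy =>
    Subgroup.mem_centralizer_singleton_iff.2 (Subgroup.mem_centralizer_iff.1 hx y hy)
  have hk : ¬ p ∣ (Subgroup.centralizer ({x} : Set G)).index :=
    fun h => P.not_dvd_index (h.trans (Subgroup.index_dvd_of_le hle))
  set k := (Subgroup.centralizer ({x} : Set G)).index
  obtain ⟨n, hn⟩ : ∃ n : ℕ, (χ : G → ℂ) 1 = n := ⟨_, char_one_eq_deg (irr_isCharacter χ.2)⟩
  rw [hn]
  have hn0 : (n : ℂ) ≠ 0 := fun h => irr_one_ne_zero χ.2 (hn.trans h)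
  have h : MemLocalIdeal M ((k : ℂ) * 1 / 1 - (k : ℂ) * (χ : G → ℂ) x / (χ : G → ℂ) 1) := hχ x
  have h2 := memLI_mul_right hP (memLI_mul_right hP h (memLR_natCast hP n))
    (memLR_inv_natCast hM hk)
  have hk0 : (k : ℂ) ≠ 0 := Nat.cast_ne_zero.2 fun h0 => hk (h0 ▸ dvd_zero p)
  have e : ((k : ℂ) * 1 / 1 - (k : ℂ) * (χ : G → ℂ) x / (χ : G → ℂ) 1) * n * (k : ℂ)⁻¹ =
      (n : ℂ) - (χ : G → ℂ) x := by
    rw [hn]
    field_simp
  rw [e] at h2
  exact memLI_symm hP h2

/-- The principal block: signed degrees. -/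
theorem principal_data [IsSimpleGroup G] (hna : ¬ IsMulCommutative G) {p : ℕ} [Fact p.Prime]
    {M : Ideal AlgInt} (hM : IsPModular p M) (P : Sylow p G) (hP : Nat.card P = p) {e : ℕ}
    (he : (Subgroup.centralizer ((P : Subgroup G) : Set G)).relIndex
      (Subgroup.normalizer ((P : Subgroup G) : Set G)) = e) (hep : e ∣ p - 1) (hp2 : 2 < p) :
    ∃ (X : Finset (IrrCharacter G)) (a : IrrCharacter G → ℤ) (δ : ℤ) (θ : IrrCharacter G),
      X.card = e ∧ (δ = 1 ∨ δ = -1) ∧ θ ∉ X ∧ (oneChar ∈ X ∨ θ = oneChar) ∧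
      (oneChar ∈ X → a oneChar = 1) ∧
      (∀ χ ∈ X, χ ∈ principalBlock M G ∧ (a χ = 1 ∨ a χ = -1) ∧
        (charDegree (χ : G → ℂ) : ℤ) ≡ a χ [ZMOD p] ∧
        charDegree (χ : G → ℂ) ∣ Nat.card (Sylow p G) * e) ∧
      (charDegree (θ : G → ℂ) : ℤ) ≡ δ * (e : ℤ) [ZMOD p] ∧
      δ * (charDegree (θ : G → ℂ) : ℤ) = ∑ χ ∈ X, a χ * (charDegree (χ : G → ℂ) : ℤ) := by
  classical
  have hp : p.Prime := Fact.out
  obtain ⟨X, Y, a, δ, h⟩ := exists_prime_principal hM hP he
  have he0 : 0 < e := by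
    rcases Nat.eq_zero_or_pos e with h0 | h0
    · subst h0; simp at hep; omega
    · exact h0
  have hY : Y.Nonempty := by
    rw [← Finset.card_pos, h.cardY]
    exact Nat.div_pos (Nat.le_of_dvd (by omega) hep) he0
  obtain ⟨θ₀, hθ₀⟩ := hY
  have hmem : (oneChar : IrrCharacter G) ∈ principalBlock M G :=
    sameBlock_refl (pmod_prime hM) (fun _ : G => (1 : ℂ))
  obtain ⟨θ, hθ, hor⟩ : ∃ θ ∈ Y, oneChar ∈ X ∨ θ = oneChar := by
    rcases (h.mem_iff _).mp hmem with h' | h'
    · exact ⟨θ₀, hθ₀, Or.inl h'⟩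
    · exact ⟨_, h', Or.inr rfl⟩
  obtain ⟨y, hy⟩ : ∃ y : ↥(P : Subgroup G), y ∈ nonOne P := by
    have : Nontrivial ↥(P : Subgroup G) := by
      rw [← Finite.one_lt_card_iff_nontrivial, show Nat.card ↥(P : Subgroup G) = p from hP]
      exact hp.one_lt
    obtain ⟨y, hy⟩ := exists_ne (1 : ↥(P : Subgroup G))
    exact ⟨y, mem_nonOne.mpr fun e1 => hy (Subtype.ext e1)⟩
  have hy1 : (y : G) ≠ 1 := mem_nonOne.mp hy
  have hclass : Nat.card {x : G // IsConj (y : G) x} = Nat.card (Sylow p G) * e := by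
    rw [card_conjClass_eq_index, ← centralizer_zpowers_eq, eq_zpowers_of_prime_sylow hP y.2 hy1,
      Sylow.card_eq_index_normalizer P, ← he, Nat.mul_comm]
    exact (Subgroup.relIndex_mul_index (Subgroup.centralizer_le_normalizer _)).symm
  have hval : ∀ χ : IrrCharacter G, (χ : G → ℂ) 1 = (charDegree (χ : G → ℂ) : ℂ) :=
    fun χ => char_one_eq_deg (irr_isCharacter χ.2)
  refine ⟨X, a, δ, θ, h.cardX, h.sign, fun h' => Finset.disjoint_left.mp h.disj h' hθ, hor,
    fun h1X => ?_, fun χ hχ => ⟨(h.mem_iff χ).mpr (Or.inl hχ), h.a_sign χ hχ, h.a_congr χ hχ, ?_⟩,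
    h.congrY θ hθ, ?_⟩
  · have h2 := h.a_congr _ h1X
    rw [charDegree_oneChar] at h2
    rcases h.a_sign _ h1X with e1 | e1
    · exact e1
    · exfalso
      rw [e1] at h2
      have h3 := Int.dvd_neg.mpr (Int.modEq_iff_dvd.mp h2)
      have := Int.le_of_dvd (by norm_num) h3
      omega
  · rw [← hclass]
    have h2 := omega_isIntegral χ.2 (y : G)
    rw [omega, h.a_val χ hχ y hy, hval] at h2
    obtain ⟨z, hz⟩ := isIntegral_rat_cast_imp
      (q := (Nat.card {x : G // IsConj (y : G) x} : ℚ) * a χ / charDegree (χ : G → ℂ))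
      (by push_cast; exact h2)
    have hd0 : (charDegree (χ : G → ℂ) : ℚ) ≠ 0 := Nat.cast_ne_zero.mpr (deg_pos χ.2).ne'
    have h3 : (Nat.card {x : G // IsConj (y : G) x} : ℤ) * a χ =
        z * charDegree (χ : G → ℂ) := by
      rw [eq_div_iff hd0] at hz
      exact_mod_cast hz.symm
    have h4 := congrArg Int.natAbs h3
    rw [Int.natAbs_mul, Int.natAbs_mul, Int.natAbs_natCast, Int.natAbs_natCast] at h4
    refine ⟨z.natAbs, ?_⟩
    rw [Nat.mul_comm, ← h4]
    rcases h.a_sign χ hχ with e1 | e1 <;> simp [e1]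
  · have h2 := h.rel θ hθ 1 (by rw [orderOf_one]; exact hp.not_dvd_one)
    simp only [hval] at h2
    exact_mod_cast h2

theorem one_lt_degree [IsSimpleGroup G] (hna : ¬ IsMulCommutative G) {χ : IrrCharacter G}
    (h : χ ≠ oneChar) : 1 < charDegree (χ : G → ℂ) := by
  rcases eq_or_lt_of_le (Nat.succ_le_of_lt (show 0 < charDegree (χ : G → ℂ) from deg_pos χ.2))
    with h3 | h3
  · exact absurd (Subtype.ext (eq_one_of_deg_one hna χ h3.symm)) h
  · exact h3

theorem perfect [IsSimpleGroup G] (hna : ¬ IsMulCommutative G) : commutator G = ⊤ := by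
  refine (IsSimpleGroup.eq_bot_or_eq_top_of_normal _ inferInstance).resolve_left fun h => hna ?_
  refine ⟨⟨fun a b => ?_⟩⟩
  have hm : ⁅a, b⁆ ∈ commutator G :=
    Subgroup.commutator_mem_commutator (Subgroup.mem_top a) (Subgroup.mem_top b)
  rw [h, Subgroup.mem_bot] at hm
  exact commutatorElement_eq_one_iff_mul_comm.mp hm

theorem faithful [IsSimpleGroup G] {χ : IrrCharacter G} (h : χ ≠ oneChar)
    (hd : charDegree (χ : G → ℂ) ≠ 1) (g : G) (hg : (χ : G → ℂ) g = (χ : G → ℂ) 1) : g = 1 := by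
  have _ := h
  haveI := TwoDeg.kerC_normal χ
  rcases IsSimpleGroup.eq_bot_or_eq_top_of_normal (TwoDeg.kerC χ) inferInstance with e | e
  · have := TwoDeg.mem_kerC_of_eq χ hg
    rwa [e, Subgroup.mem_bot] at this
  · exfalso
    have hconst : ∀ x : G, (χ : G → ℂ) x = (χ : G → ℂ) 1 := fun x => by
      have := (e ▸ Subgroup.mem_top x : x ∈ TwoDeg.kerC χ) 1
      rwa [mul_one] at this
    have h1 := TwoDeg.sum_norm_sq χ
    simp only [hconst, Finset.sum_const, Finset.card_univ, nsmul_eq_mul,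
      ← Nat.card_eq_fintype_card, char_one_eq_deg (irr_isCharacter χ.2), Complex.norm_natCast] at h1
    have h2 : ((deg (χ : G → ℂ) : ℝ)) ^ 2 = 1 :=
      mul_left_cancel₀ (Nat.cast_ne_zero.mpr Nat.card_pos.ne') (h1.trans (mul_one _).symm)
    have h3 : (deg (χ : G → ℂ)) ^ 2 = 1 := by exact_mod_cast h2
    exact hd ((pow_eq_one_iff.mp h3).resolve_right (by norm_num))

open scoped Classical in
theorem not_simple [IsSimpleGroup G] (hG : Nat.card G = 459648) : False := by
  haveI : Fact (Nat.Prime 19) := ⟨by norm_num⟩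
  obtain ⟨P, e, hP, ⟨hn1, hn2, hn3⟩, he, he1, he2, he3⟩ :=
    sylow_data (p := 19) (m := 24192) (G := G) (by rw [hG]) (by norm_num) (by norm_num)
  have hna : ¬ IsMulCommutative G :=
    not_comm (p := 19) (m := 24192) (by norm_num) (by rw [hG]) (by norm_num)
  have key : ∀ d ∈ Nat.divisors 24192, d % 19 = 1 → d ≠ 1 → d = 96 ∨ d = 1008 := by
    decide +kernel
  have he18 : e ∣ 18 := by simpa using he1
  obtain ⟨M, hM⟩ := exists_pModular (p := 19) (by norm_num)
  obtain ⟨X, a, δ, θ, hcard, hδ, hθX, hor, ha1, hX, hθc, hrel⟩ :=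
    principal_data hna hM P hP he he1 (by norm_num)
  have hdvdG : ∀ χ : IrrCharacter G, charDegree (χ : G → ℂ) ∣ 459648 := fun χ => by
    have h2 : deg (χ : G → ℂ) ∣ Nat.card G := deg_dvd_card χ.2
    rw [hG] at h2
    exact h2
  rcases key _ (Nat.mem_divisors.mpr ⟨hn1, by norm_num⟩) hn2 hn3 with hn | hn <;>
    rw [hn] at he3 hX
  · -- 96 Sylow subgroups
    have hdvd6 : ∀ χ ∈ X, χ ≠ oneChar → (6 : ℤ) ∣ a χ * (charDegree (χ : G → ℂ) : ℤ) := by
      intro χ hχ h1
      obtain ⟨-, hs, hcg, hd⟩ := hX χ hχ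
      have key2 : ∀ d ∈ Nat.divisors 1728, 1 < d → (d % 19 = 1 ∨ d % 19 = 18) → 6 ∣ d := by
        decide +kernel
      have hmod : charDegree (χ : G → ℂ) % 19 = 1 ∨ charDegree (χ : G → ℂ) % 19 = 18 := by
        have h3 := Int.modEq_iff_dvd.mp hcg
        rcases hs with e1 | e1 <;> rw [e1] at h3 <;> omega
      exact dvd_mul_of_dvd_right (Int.natCast_dvd_natCast.mpr (key2 _ (Nat.mem_divisors.mpr
        ⟨hd.trans (Nat.mul_dvd_mul_left 96 he18), by norm_num⟩) (one_lt_degree hna h1) hmod)) _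
    rcases hor with h1X | rfl
    · rw [← Finset.add_sum_erase X _ h1X, ha1 h1X, charDegree_oneChar] at hrel
      obtain ⟨k, hk⟩ : (6 : ℤ) ∣ ∑ χ ∈ X.erase oneChar, a χ * (charDegree (χ : G → ℂ) : ℤ) :=
        Finset.dvd_sum fun χ hχ => hdvd6 χ (Finset.mem_of_mem_erase hχ) (Finset.ne_of_mem_erase hχ)
      rw [hk] at hrel
      set d := charDegree (θ : G → ℂ)
      have hd1 : d ≠ 1 := fun h1 => hθX (by
        rw [show θ = oneChar from Subtype.ext (eq_one_of_deg_one hna θ h1)]; exact h1X)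
      have hcop : Nat.Coprime d 3456 := by
        rw [show (3456 : ℕ) = 2 ^ 7 * 3 ^ 3 by norm_num]
        refine Nat.Coprime.mul_right (Nat.Coprime.pow_right _ ?_) (Nat.Coprime.pow_right _ ?_) <;>
          exact ((Nat.Prime.coprime_iff_not_dvd (by norm_num)).mpr fun h => by
            rcases hδ with e1 | e1 <;> rw [e1] at hrel <;> omega).symm
      have h133 : d ∈ Nat.divisors 133 := Nat.mem_divisors.mpr
        ⟨hcop.dvd_of_dvd_mul_right ((hdvdG θ).trans (dvd_of_eq (by norm_num : (459648 : ℕ) = 133 * 3456))),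
          by norm_num⟩
      have he' : e = 2 ∨ e = 3 ∨ e = 6 ∨ e = 9 ∨ e = 18 := by
        have key3 : ∀ x ∈ Nat.divisors 18, x ≠ 1 → x = 2 ∨ x = 3 ∨ x = 6 ∨ x = 9 ∨ x = 18 := by
          decide +kernel
        exact key3 e (Nat.mem_divisors.mpr ⟨he18, by norm_num⟩) he2
      have h7 : d = 1 ∨ d = 7 ∨ d = 19 ∨ d = 133 := by
        have key4 : ∀ x ∈ Nat.divisors 133, x = 1 ∨ x = 7 ∨ x = 19 ∨ x = 133 := by decide +kernel
        exact key4 d h133
      have h3 := Int.modEq_iff_dvd.mp hθc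
      rcases hδ with rfl | rfl <;> omega
    · rw [charDegree_oneChar] at hrel
      obtain ⟨k, hk⟩ : (6 : ℤ) ∣ ∑ χ ∈ X, a χ * (charDegree (χ : G → ℂ) : ℤ) :=
        Finset.dvd_sum fun χ hχ => hdvd6 χ hχ (fun h => hθX (h ▸ hχ))
      rcases hδ with rfl | rfl <;> omega
  · -- 1008 Sylow subgroups
    have he6 : e ∣ 6 := by
      have h24 : e ∣ 24 := Nat.dvd_of_mul_dvd_mul_left (by norm_num : 0 < 1008) he3
      exact Nat.dvd_gcd h24 he18
    have hev : e = 2 ∨ e = 3 ∨ e = 6 := by
      have key3 : ∀ x ∈ Nat.divisors 6, x ≠ 1 → x = 2 ∨ x = 3 ∨ x = 6 := by decide +kernel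
      exact key3 e (Nat.mem_divisors.mpr ⟨he6, by norm_num⟩) he2
    have h1X : oneChar ∈ X := by
      refine hor.resolve_right fun h => ?_
      rw [h, charDegree_oneChar] at hθc
      have h3 := Int.modEq_iff_dvd.mp hθc
      rcases hδ with rfl | rfl <;> omega
    set C := Subgroup.centralizer ((P : Subgroup G) : Set G)
    set N := Subgroup.normalizer ((P : Subgroup G) : Set G)
    have hN : Nat.card N = 456 := by
      have : Nat.card (Sylow 19 G) * Nat.card N = Nat.card G :=
        Small.SmallOrders.card_normalizer P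
      rw [hn, hG] at this
      omega
    have hC : Nat.card C * e = 456 := by
      rw [← hN, ← he, Subgroup.relIndex,
        ← Subgroup.card_mul_index (C.subgroupOf N),
        Nat.card_congr (Subgroup.subgroupOfEquivOfLe (Subgroup.centralizer_le_normalizer _)).toEquiv]
    have hC2 : 2 ∣ Nat.card C := by rcases hev with rfl | rfl | rfl <;> omega
    haveI : Fact (Nat.Prime 2) := ⟨Nat.prime_two⟩
    obtain ⟨v, hv⟩ := exists_prime_orderOf_dvd_card' 2 hC2
    have hv2 : orderOf (v : G) = 2 := by rw [Subgroup.orderOf_coe, hv]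
    set X' := X.erase oneChar
    have hdeg : ∀ χ ∈ X', a χ * (charDegree (χ : G → ℂ) : ℤ) ∈ ({-56, 96, -189, 1008} : Finset ℤ) := by
      intro χ hχ
      obtain ⟨hpr, hs, hcg, hd⟩ := hX χ (Finset.mem_of_mem_erase hχ)
      have h1 := one_lt_degree hna (Finset.ne_of_mem_erase hχ)
      have key2 : ∀ d ∈ Nat.divisors 6048, 1 < d →
          (d % 19 = 1 → d = 96 ∨ d = 1008) ∧ (d % 19 = 18 → d = 18 ∨ d = 56 ∨ d = 189) := by
        decide +kernel
      obtain ⟨hp1, hm1⟩ := key2 _ (Nat.mem_divisors.mpr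
        ⟨hd.trans (Nat.mul_dvd_mul_left 1008 he6), by norm_num⟩) h1
      have h18 : charDegree (χ : G → ℂ) ≠ 18 := fun h => by
        have hne : charDegree (χ : G → ℂ) ≠ 1 := by omega
        obtain ⟨k, hk⟩ := centralizer_sylow_isPGroup_of_small_degree hM (perfect hna) P χ hpr
          (faithful (Finset.ne_of_mem_erase hχ) hne) (by omega) v
        have h2 : 2 ∣ 19 ^ k := hv ▸ orderOf_dvd_of_pow_eq_one hk
        have := Nat.prime_two.dvd_of_dvd_pow h2
        omega
      simp only [Finset.mem_insert, Finset.mem_singleton]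
      have h3 := Int.modEq_iff_dvd.mp hcg
      rcases hs with e1 | e1 <;> rw [e1] at h3 ⊢
      · rcases hp1 (by omega) with h | h <;> simp [h]
      · rcases hm1 (by omega) with h | h | h
        · exact absurd h h18
        all_goals simp [h]
    -- counts
    set f : IrrCharacter G → ℤ := fun χ => a χ * (charDegree (χ : G → ℂ) : ℤ)
    set c : ℤ → ℕ := fun s => (X'.filter fun χ => f χ = s).card
    have hsum : ∑ χ ∈ X', f χ =
        -56 * c (-56) + 96 * c 96 + -189 * c (-189) + 1008 * c 1008 := by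
      rw [← Finset.sum_fiberwise_of_maps_to' (g := f) hdeg (fun s : ℤ => s)]
      simp only [Finset.sum_const, nsmul_eq_mul, Finset.sum_insert, Finset.mem_insert,
        Finset.mem_singleton, Finset.sum_singleton, not_false_eq_true, reduceCtorEq, or_self,
        Int.reduceEq, Int.reduceNeg]
      ring
    have hcnt : c (-56) + c 96 + c (-189) + c 1008 = e - 1 := by
      have := Finset.card_eq_sum_card_fiberwise (f := f) hdeg
      rw [Finset.card_erase_of_mem h1X, hcard] at this
      rw [this]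
      simp [c, add_assoc]
    have hrel' : δ * (charDegree (θ : G → ℂ) : ℤ) =
        1 + (-56 * c (-56) + 96 * c 96 + -189 * c (-189) + 1008 * c 1008) := by
      rw [hrel, ← Finset.add_sum_erase X _ h1X, ha1 h1X, charDegree_oneChar, ← hsum]
      simp [f, X']
    have hbig : 4 ≤ c (-56) + c 96 := by
      have key5 : ∀ w ∈ List.range 6, ∀ x ∈ List.range 6, ∀ y ∈ List.range 6, ∀ z ∈ List.range 6,
          (w + x + y + z = 1 ∨ w + x + y + z = 2 ∨ w + x + y + z = 5) →
          459648 % (1 + (-56 * (w : ℤ) + 96 * x + -189 * y + 1008 * z)).natAbs = 0 →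
          4 ≤ w + x := by decide +kernel
      refine key5 _ ?_ _ ?_ (c (-189)) ?_ (c 1008) ?_ ?_ ?_
      iterate 4 exact List.mem_range.mpr (by omega)
      · omega
      · rw [← hrel', Int.natAbs_mul, show δ.natAbs = 1 by rcases hδ with rfl | rfl <;> rfl, one_mul,
          Int.natAbs_natCast, ← Nat.dvd_iff_mod_eq_zero]
        exact hdvdG θ
    -- the centraliser of the involution
    set D := Subgroup.centralizer ({(v : G)} : Set G)
    have hDbig : 1296 ≤ Nat.card D := by
      have hge : ∀ χ ∈ (X'.filter fun χ => f χ = -56) ∪ (X'.filter fun χ => f χ = 96),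
          (324 : ℝ) ≤ Complex.normSq ((χ : G → ℂ) v) := by
        intro χ hχ
        rw [Finset.mem_union, Finset.mem_filter, Finset.mem_filter] at hχ
        have hχ' : χ ∈ X' := hχ.elim And.left And.left
        obtain ⟨hpr, hs, -, -⟩ := hX χ (Finset.mem_of_mem_erase hχ')
        obtain ⟨z, d', hz, hd', hpar⟩ := invol_parity (irr_isCharacter χ.2)
          (t := (v : G)) (by rw [← hv2, pow_orderOf_eq_one])
        rw [char_one_eq_deg (irr_isCharacter χ.2)] at hd'
        obtain rfl : d' = (charDegree (χ : G → ℂ) : ℤ) := by exact_mod_cast hd'.symm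
        have h19 : (19 : ℤ) ∣ z - (charDegree (χ : G → ℂ) : ℤ) := by
          have h := memLI_sub_degree hM P hpr v.2
          rw [hz, char_one_eq_deg (irr_isCharacter χ.2)] at h
          refine (memLI_intCast_iff hM _).mp ?_
          push_cast
          exact h
        have hd : (charDegree (χ : G → ℂ) : ℤ) = 56 ∨ (charDegree (χ : G → ℂ) : ℤ) = 96 := by
          simp only [f] at hχ
          rcases hs with e1 | e1 <;> rw [e1] at hχ <;> omega
        have hsq : (324 : ℤ) ≤ z * z := by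
          have : z ≤ -18 ∨ 18 ≤ z := by omega
          rcases this with h | h <;> nlinarith
        rw [hz, Complex.normSq_intCast]
        exact_mod_cast hsq
      have hdisj : Disjoint (X'.filter fun χ => f χ = -56) (X'.filter fun χ => f χ = 96) :=
        Finset.disjoint_filter.mpr fun χ _ h1 h2 => by omega
      have h := Finset.sum_le_univ_sum_of_nonneg (s := (X'.filter fun χ => f χ = -56) ∪
        (X'.filter fun χ => f χ = 96)) (f := fun χ : IrrCharacter G => Complex.normSq ((χ : G → ℂ) v))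
        (fun χ => Complex.normSq_nonneg _)
      rw [sum_normSq_all] at h
      have h2 := Finset.card_nsmul_le_sum _ _ _ hge
      rw [Finset.card_union_of_disjoint hdisj, nsmul_eq_mul] at h2
      have h3 : ((1296 : ℕ) : ℝ) ≤ (Nat.card D : ℝ) := by
        refine le_trans ?_ (h2.trans h)
        have : (4 : ℝ) ≤ ((c (-56) + c 96 : ℕ) : ℝ) := by exact_mod_cast hbig
        simp only [c] at this
        push_cast at this ⊢
        nlinarith
      exact_mod_cast h3
    have hPD : (P : Subgroup G) ≤ D := fun x hx =>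
      Subgroup.mem_centralizer_singleton_iff.2 (Subgroup.mem_centralizer_iff.1 v.2 x hx)
    have hvD : (v : G) ∈ D := Subgroup.mem_centralizer_singleton_iff.2 rfl
    have hDtop : D ≠ ⊤ := fun h => by
      have hc : (v : G) ∈ Subgroup.center G := Subgroup.mem_center_iff.mpr fun g =>
        Subgroup.mem_centralizer_singleton_iff.1 (show g ∈ D by rw [h]; exact Subgroup.mem_top g)
      rw [Small.SmallOrders.center_eq_bot hna, Subgroup.mem_bot] at hc
      rw [hc, orderOf_one] at hv2
      omega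
    set Q : Sylow 19 D := P.subtype hPD
    set ND := Subgroup.normalizer ((Q : Subgroup D) : Set D)
    have hQc : Nat.card (Sylow 19 D) * Nat.card ND = Nat.card D :=
      Small.SmallOrders.card_normalizer Q
    have hND : Nat.card ND ∣ 456 := by
      rw [← hN, ← Subgroup.card_map_of_injective D.subtype_injective (K := ND)]
      refine Subgroup.card_dvd_of_le ?_
      have h := Subgroup.le_normalizer_map (H := (Q : Subgroup D)) D.subtype
      rwa [Sylow.coe_subtype, Subgroup.subgroupOf_map_subtype, inf_eq_left.mpr hPD] at h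
    have h38 : 38 ∣ Nat.card ND := by
      refine (Nat.Coprime.mul_dvd_of_dvd_of_dvd (m := 19) (n := 2) (by norm_num) ?_ ?_ :)
      · have h := Subgroup.card_dvd_of_le (Subgroup.le_normalizer (H := (Q : Subgroup D)))
        rwa [show Nat.card (Q : Subgroup D) = 19 by
          rw [Sylow.coe_subtype, Nat.card_congr (Subgroup.subgroupOfEquivOfLe hPD).toEquiv]
          exact hP] at h
      · have hvN : (⟨(v : G), hvD⟩ : D) ∈ ND := by
          refine Subgroup.centralizer_le_normalizer _ ?_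
          rw [Subgroup.mem_centralizer_iff]
          intro z hz
          exact Subtype.ext (Subgroup.mem_centralizer_iff.1 v.2 z hz)
        rw [← hv2, show orderOf (v : G) = orderOf (⟨_, hvD⟩ : D) from
          (Subgroup.orderOf_mk _ hvD).symm, ← Subgroup.orderOf_mk _ hvN]
        exact orderOf_dvd_natCard _
    have hnD : Nat.card (Sylow 19 D) ∣ 24192 ∧ Nat.card (Sylow 19 D) % 19 = 1 := by
      have hmod : Nat.card (Sylow 19 D) % 19 = 1 := card_sylow_modEq_one 19 D
      refine ⟨?_, hmod⟩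
      have h1 : Nat.card (Sylow 19 D) ∣ 459648 :=
        (Dvd.intro _ hQc).trans (hG ▸ Subgroup.card_subgroup_dvd_card D)
      refine (Nat.Coprime.dvd_of_dvd_mul_left ?_ (by simpa using h1 :
        Nat.card (Sylow 19 D) ∣ 19 * 24192))
      exact ((Nat.Prime.coprime_iff_not_dvd (by norm_num)).mpr fun h => by omega).symm
    have key6 : ∀ d ∈ Nat.divisors 24192, d % 19 = 1 → d = 1 ∨ d = 96 ∨ d = 1008 := by
      decide +kernel
    have hDG := Subgroup.card_mul_index D
    rw [hG] at hDG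
    have hNDpos := Nat.le_of_dvd (by norm_num) hND
    have hNDlow := Nat.le_of_dvd Nat.card_pos h38
    rcases key6 _ (Nat.mem_divisors.mpr ⟨hnD.1, by norm_num⟩) hnD.2 with h | h | h <;>
      rw [h] at hQc
    · omega
    · refine false_of_card_dvd (D := D) ?_ ?_ (by omega)
      · have h1 : Nat.card D ∣ 96 * 456 := hQc ▸ Nat.mul_dvd_mul_left 96 hND
        exact (Nat.dvd_gcd h1 (hG ▸ Subgroup.card_subgroup_dvd_card D))
      · exact (Dvd.intro _ rfl : 19 ∣ 19 * 2).trans (h38.trans (Dvd.intro_left _ hQc))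
    · have hidx : D.index ≤ 12 := by
        by_contra hlt
        have h2 : Nat.card D * 13 ≤ Nat.card D * D.index := Nat.mul_le_mul_left _ (by omega)
        omega
      have h1 := Small.SmallOrders.card_dvd_index_factorial D hDtop
      rw [hG] at h1
      have h2 : 19 ∣ D.index.factorial := Nat.dvd_trans (by norm_num) h1
      have := (Nat.Prime.dvd_factorial (by norm_num)).mp h2
      omega

end Cfsg.Agent.Small.Order459648
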