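import Cfsg.Agent.Lib.Classical.Dickson.PGLMax
import Cfsg.Agent.Lib.Classical.PSL2Ico
import Cfsg.Agent.Lib.Small.SmallOrders
import Cfsg.Agent.Lib.Small.SL2.Conj

/-!
# The subgroups `A₅` of `PSL₂(11)`
-/

set_option autoImplicit false
set_option linter.unusedSectionVars false
set_option maxHeartbeats 800000
set_option maxRecDepth 20000

namespace Cfsg.Agent.Small.PSL2Eleven

open Cfsg.Agent.Small Cfsg.Agent.Small.SL2C
open scoped Pointwise

universe u

variable {F : Type u} [Field F] [Fintype F]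

local notation "P2" => Matrix.ProjectiveSpecialLinearGroup (Fin 2) F
local notation "G2" => Matrix.ProjGenLinGroup (Fin 2) F
local notation "mk2" => (Matrix.ProjGenLinGroup.mk : GL (Fin 2) F →* Matrix.ProjGenLinGroup (Fin 2) F)
local notation "τ" => (Matrix.ProjectiveSpecialLinearGroup.toPGL :
  Matrix.ProjectiveSpecialLinearGroup (Fin 2) F →* Matrix.ProjGenLinGroup (Fin 2) F)

theorem two_ne (hF : Fintype.card F = 11) : (2 : F) ≠ 0 := not_two_dvd_iff.1 (by rw [hF]; decide)

theorem card_eq (hF : Fintype.card F = 11) : Nat.card P2 = 660 := by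
  have h := Classical.Dickson.card_P2 (F := F)
  rw [Classical.Dickson.two_dvd_pred (two_ne hF), hF] at h
  omega

theorem simple (hF : Fintype.card F = 11) : IsSimpleGroup P2 :=
  Matrix.ProjectiveSpecialLinearGroup.rank_two_simple (by rw [Nat.card_eq_fintype_card]; omega)

theorem a5_card : Nat.card (alternatingGroup (Fin 5)) = 60 := by
  rw [nat_card_alternatingGroup, Nat.card_fin]
  rfl

theorem card_of_iso {H : Subgroup P2} (e : H ≃* alternatingGroup (Fin 5)) : Nat.card H = 60 :=
  (Nat.card_congr e.toEquiv).trans a5_card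

theorem simple_of_iso {H : Subgroup P2} (e : H ≃* alternatingGroup (Fin 5)) : IsSimpleGroup H := by
  haveI : IsSimpleGroup (alternatingGroup (Fin 5)) := alternatingGroup.isSimpleGroup (by simp)
  exact MulEquiv.isSimpleGroup e

theorem sylow_card (hF : Fintype.card F = 11) (P : Sylow 2 P2) : Nat.card (P : Subgroup P2) = 4 := by
  haveI := Classical.SL2Four.sylow_psl_klein (two_ne hF) (Or.inl (by rw [hF])) P
  exact IsKleinFour.card_four

theorem card_normalizer_sylow (hF : Fintype.card F = 11) (P : Sylow 2 P2) :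
    Nat.card (Subgroup.normalizer ((P : Subgroup P2) : Set P2)) = 12 := by
  classical
  haveI hV := Classical.SL2Four.sylow_psl_klein (two_ne hF) (Or.inl (by rw [hF])) P
  haveI : Nontrivial (P : Subgroup P2) := Finite.one_lt_card_iff_nontrivial.1 (by rw [sylow_card hF P]; norm_num)
  haveI := Fintype.ofFinite (P : Subgroup P2)
  obtain ⟨x, hx⟩ := exists_ne (1 : (P : Subgroup P2))
  obtain ⟨y, hy1, hy2⟩ : ∃ y : (P : Subgroup P2), y ≠ 1 ∧ y ≠ x := by
    by_contra! hall
    have hc : Fintype.card (P : Subgroup P2) ≤ ({1, x} : Finset (P : Subgroup P2)).card := by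
      rw [← Finset.card_univ]
      refine Finset.card_le_card fun z _ => ?_
      rcases eq_or_ne z 1 with h | h
      · simp [h]
      · simp [hall z h]
    have h2 : ({1, x} : Finset (P : Subgroup P2)).card ≤ 2 := Finset.card_le_two
    rw [← Nat.card_eq_fintype_card, sylow_card hF P] at hc
    omega
  have ho : ∀ z : (P : Subgroup P2), z ≠ 1 → orderOf (z : P2) = 2 := fun z hz => by
    rw [Subgroup.orderOf_coe]
    refine orderOf_eq_prime ?_ hz
    rw [pow_two]; exact IsKleinFour.mul_self z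
  have hpair : Classical.SL2Four.IsPair ((x : P2), (y : P2)) :=
    ⟨ho x hx, ho y hy1, by
      show (x : P2) * y = y * x
      rw [← Subgroup.coe_mul, ← Subgroup.coe_mul, mul_comm_of_exponent_two IsKleinFour.exponent_two],
      fun h => hy2 (Subtype.ext h).symm⟩
  have hP : (P : Subgroup P2) = Classical.SL2Four.pairGroup hpair :=
    Classical.SL2Four.eq_pairGroup (V := (P : Subgroup P2)) hpair x.2 y.2
  rw [hP]
  rcases Classical.Dickson.card_normalizer_klein (two_ne hF) hpair with ⟨h, -⟩ | ⟨-, h⟩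
  · exact h
  · rw [hF] at h; omega

/-- Sylow 2-subgroups of a subgroup `A₅`. -/
theorem sylow_inside (hF : Fintype.card F = 11) {H : Subgroup P2} (e : H ≃* alternatingGroup (Fin 5))
    (P : Sylow 2 P2) (hle : (P : Subgroup P2) ≤ H) :
    Nat.card (Sylow 2 H) = 5 ∧ Subgroup.normalizer ((P : Subgroup P2) : Set P2) ≤ H := by
  haveI : Fact (Nat.Prime 2) := ⟨Nat.prime_two⟩
  haveI := simple_of_iso e
  obtain ⟨Q, hQ⟩ : ∃ Q, Q = P.subtype hle := ⟨_, rfl⟩
  have hQc : Nat.card Q = 4 := by
    rw [hQ]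
    show Nat.card ((P : Subgroup P2).subgroupOf H) = 4
    rw [Nat.card_congr (Subgroup.subgroupOfEquivOfLe hle).toEquiv, sylow_card hF P]
  have hG : Nat.card H = 2 ^ 2 * 15 := by rw [card_of_iso e]; norm_num
  obtain ⟨hd, -, h1⟩ := SmallOrders.sylow_number Q (k := 2) (by rw [hQc]; norm_num) two_pos hG (by norm_num)
  have hmul := SmallOrders.card_normalizer Q
  rw [card_of_iso e] at hmul
  have hQ4 : Nat.card (Q : Subgroup H) = 4 := hQc
  have h5 : Nat.card (Sylow 2 H) = 5 := by
    obtain ⟨n, hn⟩ : ∃ n, Nat.card (Sylow 2 H) = n := ⟨_, rfl⟩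
    rw [hn] at hd h1 hmul ⊢
    have hn15 : n ∣ 15 := hd
    have hle15 := Nat.le_of_dvd (by norm_num) hn15
    have h3 : n ≠ 3 := by
      intro h
      rw [h] at hmul
      have hne : Subgroup.normalizer ((Q : Subgroup H) : Set H) ≠ ⊤ := fun ht => by
        rw [ht, Subgroup.card_top, card_of_iso e] at hmul; omega
      have := SmallOrders.card_dvd_index_factorial _ hne
      have hi : (Subgroup.normalizer ((Q : Subgroup H) : Set H)).index = 3 := by
        rw [← h, ← hn, Sylow.card_eq_index_normalizer Q]; rfl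
      rw [hi, card_of_iso e] at this
      norm_num [Nat.factorial] at this
    have h15 : n ≠ 15 := by
      intro h
      rw [h] at hmul
      refine SmallOrders.false_of_central Q ?_ ?_ ?_
      · rw [hQc]; norm_num
      · rw [hQc, card_of_iso e]; norm_num
      · haveI : IsMulCommutative (Q : Subgroup H) :=
          IsPGroup.isMulCommutative_of_card_eq_prime_sq (p := 2) (by rw [hQ4]; norm_num)
        rw [← Subgroup.eq_of_le_of_card_ge (Subgroup.le_normalizer (H := (Q : Subgroup H))) (by omega)]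
        exact Subgroup.le_centralizer_iff_isMulCommutative.mpr inferInstance
    interval_cases n <;> omega
  refine ⟨h5, ?_⟩
  rw [h5] at hmul
  have hle' : (Subgroup.normalizer ((Q : Subgroup H) : Set H)).map H.subtype ≤
      Subgroup.normalizer ((P : Subgroup P2) : Set P2) := by
    rintro _ ⟨z, hz, rfl⟩
    rw [Subgroup.mem_normalizer_iff] at *
    intro v
    constructor
    · intro hv
      have h := (Subgroup.mem_normalizer_iff.1 hz ⟨v, hle hv⟩).1 (by rw [hQ]; exact hv)
      rw [hQ] at h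
      exact h
    · intro hv
      have hvH : v ∈ H := by
        have := H.mul_mem (H.mul_mem (H.inv_mem z.2) (hle hv)) z.2
        simpa [mul_assoc] using this
      have h := (Subgroup.mem_normalizer_iff.1 hz ⟨v, hvH⟩).2 (by rw [hQ]; exact hv)
      rw [hQ] at h
      exact h
  have heq := Subgroup.eq_of_le_of_card_ge hle' (by
    rw [card_normalizer_sylow hF P, Nat.card_congr
      ((Subgroup.normalizer ((Q : Subgroup H) : Set H)).equivMapOfInjective _ H.subtype_injective).toEquiv.symm]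
    omega)
  rw [← heq]
  exact Subgroup.map_subtype_le _

theorem mem_of_sylow_le_conj (hF : Fintype.card F = 11) {H : Subgroup P2} (e : H ≃* alternatingGroup (Fin 5))
    (P : Sylow 2 P2) (hle : (P : Subgroup P2) ≤ H) (g : P2)
    (hg : ∀ v ∈ (P : Subgroup P2), g⁻¹ * v * g ∈ H) : g ∈ H := by
  haveI : Fact (Nat.Prime 2) := ⟨Nat.prime_two⟩
  have hle2 : ((g⁻¹ • P : Sylow 2 P2) : Subgroup P2) ≤ H := by
    intro v hv
    obtain ⟨w, hw, rfl⟩ := hv
    simpa [MulAut.smul_def, MulAut.conj_apply] using hg w hw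
  obtain ⟨h, hh⟩ := MulAction.exists_smul_eq H (P.subtype hle) ((g⁻¹ • P).subtype hle2)
  have h1 : (h : P2) • P = g⁻¹ • P := by
    have e1 := Sylow.smul_subtype hle h
    rw [hh] at e1
    exact Sylow.subtype_injective (e1.symm)
  have h2 : g * h ∈ Subgroup.normalizer ((P : Subgroup P2) : Set P2) := by
    refine Sylow.smul_eq_iff_mem_normalizer.1 ?_
    rw [mul_smul, h1, smul_inv_smul]
  have := (sylow_inside hF e P hle).2 h2
  simpa using H.mul_mem this (H.inv_mem h.2)

theorem exists_sub (hF : Fintype.card F = 11) :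
    ∃ H : Subgroup P2, H.index = 11 ∧ Nonempty (H ≃* alternatingGroup (Fin 5)) := by
  obtain ⟨f, hf⟩ := Classical.SL2Ico.exists_injective_alt_five (F := F) (by rw [hF]; norm_num)
  refine ⟨f.range, ?_, ⟨(MonoidHom.ofInjective hf).symm⟩⟩
  have h := f.range.card_mul_index
  rw [card_of_iso (MonoidHom.ofInjective hf).symm, card_eq hF] at h
  omega

theorem index_eq (hF : Fintype.card F = 11) {H : Subgroup P2} (e : H ≃* alternatingGroup (Fin 5)) :
    H.index = 11 := by
  have h := H.card_mul_index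
  rw [card_of_iso e, card_eq hF] at h
  omega

theorem normalizer_eq (hF : Fintype.card F = 11) {H : Subgroup P2} (e : H ≃* alternatingGroup (Fin 5)) :
    Subgroup.normalizer (H : Set P2) = H := by
  haveI := simple hF
  have hi := index_eq hF e
  refine le_antisymm ?_ Subgroup.le_normalizer
  have hd := Subgroup.index_dvd_of_le (Subgroup.le_normalizer (H := H))
  rw [hi] at hd
  rcases (Nat.dvd_prime (by norm_num)).1 hd with h | h
  · exfalso
    have hn : H.Normal := Subgroup.normalizer_eq_top_iff.1 (Subgroup.index_eq_one.1 h)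
    rcases hn.eq_bot_or_eq_top with h' | h'
    · rw [h', Subgroup.index_bot, card_eq hF] at hi; omega
    · rw [h', Subgroup.index_top] at hi; omega
  · refine (Subgroup.eq_of_le_of_card_ge Subgroup.le_normalizer ?_).ge
    have h1 := (Subgroup.normalizer (H : Set P2)).card_mul_index
    have h2 := H.card_mul_index
    rw [h, ← hi] at h1
    exact (Nat.eq_of_mul_eq_mul_right (Nat.pos_of_ne_zero Subgroup.index_ne_zero_of_finite) (h1.trans h2.symm)).le

theorem two_pretransitive (hF : Fintype.card F = 11) {H : Subgroup P2} (e : H ≃* alternatingGroup (Fin 5)) :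
    MulAction.IsMultiplyPretransitive P2 (P2 ⧸ H) 2 := by
  classical
  haveI : Fact (Nat.Prime 2) := ⟨Nat.prime_two⟩
  haveI := simple_of_iso e
  let x0 : P2 ⧸ H := QuotientGroup.mk 1
  have horb : ∀ x : P2 ⧸ H, x ≠ x0 → x0 ∉ MulAction.orbit H x ∧
      (Nat.card (MulAction.orbit H x) = 6 ∨ 10 ≤ Nat.card (MulAction.orbit H x)) := by
    intro x hx
    obtain ⟨g, rfl⟩ := QuotientGroup.mk_surjective x
    have hgH : g ∉ H := fun h => hx (QuotientGroup.eq.2 (by simpa using H.inv_mem h))
    refine ⟨?_, ?_⟩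
    · rintro ⟨h, hh⟩
      have h' : QuotientGroup.mk ((h : P2) * g) = (QuotientGroup.mk 1 : P2 ⧸ H) := hh
      rw [QuotientGroup.eq, mul_one] at h'
      refine hgH ?_
      have := H.mul_mem (H.inv_mem h.2) (H.inv_mem h')
      simpa using this
    obtain ⟨S, hS⟩ : ∃ S, S = MulAction.stabilizer H (QuotientGroup.mk g : P2 ⧸ H) := ⟨_, rfl⟩
    have hcard : Nat.card (MulAction.orbit H (QuotientGroup.mk g : P2 ⧸ H)) = S.index := by
      rw [hS]; exact Nat.card_congr (MulAction.orbitEquivQuotientStabilizer _ _)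
    have hmem : ∀ s : H, s ∈ S → g⁻¹ * (s : P2) * g ∈ H := by
      intro s hs
      rw [hS, MulAction.mem_stabilizer_iff] at hs
      have h' : QuotientGroup.mk ((s : P2) * g) = (QuotientGroup.mk g : P2 ⧸ H) := hs
      rw [eq_comm, QuotientGroup.eq] at h'
      simpa [mul_assoc] using h'
    rw [hcard]
    by_contra hcon
    rw [not_or, not_le] at hcon
    have hmul := S.card_mul_index
    rw [card_of_iso e] at hmul
    have hne : S ≠ ⊤ := by
      intro htop
      have hHg : g ∈ Subgroup.normalizer (H : Set P2) := by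
        have hle : ∀ v ∈ H, g⁻¹ * v * g ∈ H := fun v hv => hmem ⟨v, hv⟩ (htop ▸ Subgroup.mem_top _)
        refine inv_mem_iff.1 (Subgroup.mem_normalizer_iff.2 fun v => ⟨fun hv => by simpa using hle v hv, fun hv => ?_⟩)
        obtain ⟨w, hw⟩ := Finite.surjective_of_injective (f := fun w : H => (⟨g⁻¹ * w * g, hle w w.2⟩ : H))
          (fun a b hab => Subtype.ext (mul_left_cancel (mul_right_cancel (congrArg Subtype.val hab))))
          ⟨g⁻¹ * v * g, by simpa using hv⟩
        have := mul_left_cancel (mul_right_cancel (congrArg Subtype.val hw))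
        rw [← this]
        exact w.2
      rw [normalizer_eq hF e] at hHg
      exact hgH hHg
    have hfac := SmallOrders.card_dvd_index_factorial S hne
    rw [card_of_iso e] at hfac
    have hi5 : S.index = 5 := by
      have hd : S.index ∣ 60 := ⟨Nat.card S, by rw [← hmul, mul_comm]⟩
      obtain ⟨i, hi⟩ : ∃ i, S.index = i := ⟨_, rfl⟩
      rw [hi] at hfac hcon hd ⊢
      obtain ⟨h6, h10⟩ := hcon
      interval_cases i
      all_goals first | omega | (norm_num [Nat.factorial] at hfac; done) | (norm_num at hd; done)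
    rw [hi5] at hmul
    obtain ⟨Q, hQ⟩ := Sylow.exists_subgroup_card_pow_prime (G := S) 2 (n := 2) (by
      rw [show Nat.card S = 12 by omega]; norm_num)
    obtain ⟨Q', hQ'⟩ : ∃ Q', Q' = (Q.map S.subtype).map H.subtype := ⟨_, rfl⟩
    have hQc : Nat.card Q' = 4 := by
      rw [hQ', ← Nat.card_congr (Subgroup.equivMapOfInjective _ _ H.subtype_injective).toEquiv,
        ← Nat.card_congr (Subgroup.equivMapOfInjective _ _ S.subtype_injective).toEquiv, hQ]
      norm_num
    have hfac' : (Nat.card P2).factorization 2 = 2 := by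
      rw [card_eq hF, show 660 = 2 ^ 2 * 165 by norm_num, Nat.factorization_mul (by norm_num) (by norm_num),
        Finsupp.add_apply, Nat.Prime.factorization_pow Nat.prime_two, Finsupp.single_eq_same,
        Nat.factorization_eq_zero_of_not_dvd (by norm_num)]
    let P : Sylow 2 P2 := Sylow.ofCard Q' (by rw [hfac', hQc]; norm_num)
    refine hgH (mem_of_sylow_le_conj hF e P ?_ g ?_)
    · show Q' ≤ H
      rw [hQ']; exact Subgroup.map_subtype_le _
    · intro v hv
      have hv' : v ∈ Q' := hv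
      rw [hQ'] at hv'
      obtain ⟨w, ⟨z, -, rfl⟩, rfl⟩ := hv'
      exact hmem _ z.2
  have htrans : ∀ x y : P2 ⧸ H, x ≠ x0 → y ≠ x0 → ∃ h : P2, h ∈ H ∧ h • x = y := by
    intro x y hx hy
    have hcard : Nat.card {z : P2 ⧸ H // z ≠ x0} = 10 := by
      haveI := Fintype.ofFinite (P2 ⧸ H)
      rw [Nat.card_eq_fintype_card, Fintype.card_subtype_compl, Fintype.card_subtype_eq, ← Nat.card_eq_fintype_card,
        ← Subgroup.index, index_eq hF e]
    have hsub : ∀ x, x ≠ x0 → MulAction.orbit H x ⊆ {z | z ≠ x0} := fun x hx z hz h =>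
      (horb x hx).1 (h ▸ hz)
    have hc : Set.ncard {z : P2 ⧸ H | z ≠ x0} = 10 := by rw [← Nat.card_coe_set_eq]; exact hcard
    by_cases hxy : y ∈ MulAction.orbit H x
    · obtain ⟨h, hh⟩ := hxy
      exact ⟨h, h.2, hh⟩
    exfalso
    have hdis : Disjoint (MulAction.orbit H x) (MulAction.orbit H y) := by
      rw [Set.disjoint_left]
      intro z hz hz'
      exact hxy (by rw [← MulAction.orbit_eq_iff.2 hz, MulAction.orbit_eq_iff.2 hz']; exact MulAction.mem_orbit_self y)
    have h1 := Set.ncard_le_ncard (Set.union_subset (hsub x hx) (hsub y hy)) (Set.toFinite _)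
    rw [Set.ncard_union_eq hdis (Set.toFinite _) (Set.toFinite _), hc, ← Nat.card_coe_set_eq,
      ← Nat.card_coe_set_eq] at h1
    rcases (horb x hx).2 with h | h <;> rcases (horb y hy).2 with h' | h' <;> omega
  rw [MulAction.is_two_pretransitive_iff]
  intro a b c d hab hcd
  obtain ⟨ga, rfl⟩ := QuotientGroup.mk_surjective a
  obtain ⟨gc, rfl⟩ := QuotientGroup.mk_surjective c
  have ea : ga⁻¹ • (QuotientGroup.mk ga : P2 ⧸ H) = x0 := by
    show QuotientGroup.mk (ga⁻¹ * ga) = _
    rw [inv_mul_cancel]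
  have ec : gc⁻¹ • (QuotientGroup.mk gc : P2 ⧸ H) = x0 := by
    show QuotientGroup.mk (gc⁻¹ * gc) = _
    rw [inv_mul_cancel]
  obtain ⟨h, hh, hb⟩ := htrans (ga⁻¹ • b) (gc⁻¹ • d)
    (fun h => hab (smul_left_cancel ga⁻¹ (ea.trans h.symm)))
    (fun h => hcd (smul_left_cancel gc⁻¹ (ec.trans h.symm)))
  refine ⟨gc * h * ga⁻¹, ?_, ?_⟩
  · rw [mul_smul, mul_smul, ea]
    show QuotientGroup.mk (gc * (h * 1)) = (QuotientGroup.mk gc : P2 ⧸ H)
    rw [eq_comm, QuotientGroup.eq, ← mul_assoc, inv_mul_cancel, one_mul, mul_one]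
    exact hh
  · rw [mul_smul, mul_smul, hb, smul_inv_smul]

theorem a5_real : ∀ x : alternatingGroup (Fin 5), x ^ 3 = 1 → ∃ t : alternatingGroup (Fin 5), t * x * t⁻¹ = x⁻¹ := by
  decide +kernel

theorem card_inverting (hF : Fintype.card F = 11) {x : P2} (hx : orderOf x = 3) :
    Nat.card {t : P2 // t * x * t⁻¹ = x⁻¹} ≤ 6 := by
  rcases isEmpty_or_nonempty {t : P2 // t * x * t⁻¹ = x⁻¹} with h | ⟨⟨t0, ht0⟩⟩
  · simp
  have hC : Nat.card (Subgroup.centralizer ({x} : Set P2)) ≤ 6 := by
    obtain ⟨w, rfl⟩ := PSL2.pr_surjective x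
    have h2 := two_ne hF
    have h3 : PSL2.pr w ^ 3 = 1 := by rw [← hx, pow_orderOf_eq_one]
    rcases Classical.Dickson.trace_of_pow h3 with ⟨hsc, -⟩ | ⟨hns, -, h, -, -⟩
    · rw [(pr_eq_one_iff).2 hsc, orderOf_one] at hx
      omega
    have ht : w.1.trace ^ 2 = 1 := h rfl
    have hc := card_centralizer_pr w hns
    have ht0' : w.1.trace ≠ 0 := fun h0 => by rw [h0] at ht; norm_num at ht
    rw [center_card_odd h2, if_neg (fun hh => ht0' hh.2), mul_one] at hc
    have h3' : (3 : F) ≠ 0 := by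
      intro h0
      have h30 : ((3 : ℕ) : F) = 0 := by exact_mod_cast h0
      obtain ⟨p, hp⟩ := CharP.exists F
      haveI := hp
      haveI : Fact p.Prime := ⟨CharP.char_is_prime F p⟩
      obtain ⟨e, he⟩ := FiniteField.card F p
      rw [CharP.cast_eq_zero_iff F p] at h30
      have hp3 := (Nat.prime_dvd_prime_iff_eq Fact.out Nat.prime_three).1 h30
      have : p ∣ Fintype.card F := by rw [he.2]; exact dvd_pow_self p e.ne_zero
      rw [hp3, hF] at this
      norm_num at this
    have hne : w.1.trace * w.1.trace ≠ 4 * 1 := fun h4 => h3' (by linear_combination ht - h4)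
    have := sol_add_roots hne
    rw [hF] at this
    omega
  refine le_trans ?_ hC
  refine Nat.card_le_card_of_injective (fun t => ⟨t0⁻¹ * t.1, ?_⟩) fun a b hab => ?_
  · rw [Subgroup.mem_centralizer_singleton_iff]
    have h1 : t.1 * x = x⁻¹ * t.1 := mul_inv_eq_iff_eq_mul.1 t.2
    have h2' : t0⁻¹ * x⁻¹ = x * t0⁻¹ := by rw [← ht0]; group
    rw [mul_assoc, h1, ← mul_assoc, h2', mul_assoc]
  · exact Subtype.ext (mul_left_cancel (congrArg Subtype.val hab))

theorem at_most_two (hF : Fintype.card F = 11) (P : Sylow 2 P2) (K : Fin 3 → Subgroup P2)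
    (hK : ∀ i, Nonempty (K i ≃* alternatingGroup (Fin 5))) (hP : ∀ i, (P : Subgroup P2) ≤ K i) :
    ¬ Function.Injective K := by
  classical
  intro hinj
  haveI : Fact (Nat.Prime 3) := ⟨Nat.prime_three⟩
  obtain ⟨A, hA⟩ : ∃ A, A = Subgroup.normalizer ((P : Subgroup P2) : Set P2) := ⟨_, rfl⟩
  have hAc : Nat.card A = 12 := hA ▸ card_normalizer_sylow hF P
  have hAK : ∀ i, A ≤ K i := fun i => hA ▸ (sylow_inside hF (hK i).some P (hP i)).2
  obtain ⟨x, hx⟩ := exists_prime_orderOf_dvd_card' (G := A) 3 (by rw [hAc]; norm_num)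
  rw [← Subgroup.orderOf_coe] at hx
  have ht : ∀ i, ∃ t, t ∈ K i ∧ t * (x : P2) * t⁻¹ = (x : P2)⁻¹ := by
    intro i
    obtain ⟨e⟩ := hK i
    obtain ⟨t, ht⟩ := a5_real (e ⟨x, hAK i x.2⟩) (by
      rw [← map_pow, map_eq_one_iff _ e.injective]
      exact Subtype.ext (by rw [SubmonoidClass.coe_pow, ← hx]; exact pow_orderOf_eq_one _))
    refine ⟨(e.symm t : P2), (e.symm t).2, ?_⟩
    have := congrArg e.symm ht
    rw [map_mul, map_mul, map_inv, map_inv, e.symm_apply_apply] at this
    exact congrArg Subtype.val this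
  choose t htK htx using ht
  -- such elements avoid `A`
  have hnotA : ∀ s, s * (x : P2) * s⁻¹ = (x : P2)⁻¹ → s ∉ A := by
    intro s hs hsA
    haveI : ((P : Subgroup P2).subgroupOf A).Normal := by rw [hA]; exact Subgroup.normal_in_normalizer
    have hPA : (P : Subgroup P2) ≤ A := hA ▸ Subgroup.le_normalizer
    have hq : Nat.card (A ⧸ (P : Subgroup P2).subgroupOf A) = 3 := by
      have h1 := Subgroup.card_eq_card_quotient_mul_card_subgroup ((P : Subgroup P2).subgroupOf A)
      rw [Nat.card_congr (Subgroup.subgroupOfEquivOfLe hPA).toEquiv, sylow_card hF P, hAc] at h1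
      omega
    haveI : IsCyclic (A ⧸ (P : Subgroup P2).subgroupOf A) := isCyclic_of_prime_card hq
    letI := IsCyclic.commGroup (α := A ⧸ (P : Subgroup P2).subgroupOf A)
    obtain ⟨s', hs'⟩ : ∃ s' : A, (s' : P2) = s := ⟨⟨s, hsA⟩, rfl⟩
    have he : s' * x * s'⁻¹ = x⁻¹ := Subtype.ext (by simp [hs', hs])
    have h2 : ((x : A) : A ⧸ (P : Subgroup P2).subgroupOf A) = (x : A ⧸ (P : Subgroup P2).subgroupOf A)⁻¹ := by
      rw [← QuotientGroup.mk_inv, ← he, QuotientGroup.mk_mul, QuotientGroup.mk_mul,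
        mul_comm (s' : A ⧸ (P : Subgroup P2).subgroupOf A), mul_assoc, ← QuotientGroup.mk_mul, mul_inv_cancel, QuotientGroup.mk_one, mul_one]
    rw [eq_inv_iff_mul_eq_one, ← QuotientGroup.mk_mul, QuotientGroup.eq_one_iff, Subgroup.mem_subgroupOf,
      Subgroup.coe_mul] at h2
    have h4 := Subgroup.orderOf_dvd_natCard _ h2
    rw [sylow_card hF P, ← pow_two, Nat.Coprime.orderOf_pow (by rw [hx]; norm_num), hx] at h4
    norm_num at h4
  have hdis : ∀ i j, ∀ s, s ∈ K i → s ∈ K j → s ∉ A → i = j := by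
    intro i j s hi hj hsA
    refine hinj ?_
    have hAD : A ≤ K i ⊓ K j := le_inf (hAK i) (hAK j)
    obtain ⟨c, hc⟩ := Subgroup.card_dvd_of_le hAD
    have hd : Nat.card ↥(K i ⊓ K j) ∣ 60 :=
      card_of_iso (hK i).some ▸ Subgroup.card_dvd_of_le inf_le_left
    rw [hc, hAc] at hd
    have hc1 : c ≠ 1 := fun h => by
      refine hsA ?_
      rw [Subgroup.eq_of_le_of_card_ge hAD (by rw [hc, h, mul_one])]
      exact ⟨hi, hj⟩
    have hc5 : c = 5 := by
      rcases (Nat.dvd_prime (by norm_num : Nat.Prime 5)).1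
        ((Nat.mul_dvd_mul_iff_left (show 0 < 12 by norm_num)).1 (by simpa using hd)) with h | h
      · exact absurd h hc1
      · exact h
    rw [hc5, hAc] at hc
    have e1 := Subgroup.eq_of_le_of_card_ge (inf_le_left : K i ⊓ K j ≤ K i)
      (by rw [card_of_iso (hK i).some, hc])
    have e2 := Subgroup.eq_of_le_of_card_ge (inf_le_right : K i ⊓ K j ≤ K j)
      (by rw [card_of_iso (hK j).some, hc])
    exact e1.symm.trans e2
  have hinv : ∀ (i : Fin 3) (j : Fin 3),
      t i * (x : P2) ^ (j : ℕ) * (x : P2) * (t i * (x : P2) ^ (j : ℕ))⁻¹ = (x : P2)⁻¹ := fun i j => by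
    rw [mul_inv_rev, mul_assoc (t i), (Commute.pow_self (x : P2) j).eq, ← mul_assoc, ← mul_assoc,
      mul_inv_cancel_right]
    exact htx i
  have h9 : Nat.card (Fin 3 × Fin 3) ≤ Nat.card {s : P2 // s * (x : P2) * s⁻¹ = (x : P2)⁻¹} := by
    refine Nat.card_le_card_of_injective (fun ij => ⟨t ij.1 * (x : P2) ^ (ij.2 : ℕ), hinv ij.1 ij.2⟩) ?_
    rintro ⟨i, j⟩ ⟨i', j'⟩ heq
    have heq' : t i * (x : P2) ^ (j : ℕ) = t i' * (x : P2) ^ (j' : ℕ) := congrArg Subtype.val heq
    have hij : i = i' := hdis i i' _ ((K i).mul_mem (htK i) ((K i).pow_mem (hAK i x.2) _))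
      (heq' ▸ (K i').mul_mem (htK i') ((K i').pow_mem (hAK i' x.2) _)) (hnotA _ (hinv i j))
    subst hij
    have := pow_injOn_Iio_orderOf (x := (x : P2)) (by rw [hx]; exact j.2) (by rw [hx]; exact j'.2)
      (mul_left_cancel heq')
    exact Prod.ext rfl (Fin.ext this)
  have := card_inverting hF hx
  rw [Nat.card_prod, Nat.card_fin] at h9
  omega

theorem card_le (hF : Fintype.card F = 11) :
    Nat.card {H : Subgroup P2 // Nonempty (H ≃* alternatingGroup (Fin 5))} ≤ 22 := by
  classical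
  haveI : Fact (Nat.Prime 2) := ⟨Nat.prime_two⟩
  haveI := Fintype.ofFinite (Sylow 2 P2)
  haveI := Fintype.ofFinite {H : Subgroup P2 // Nonempty (H ≃* alternatingGroup (Fin 5))}
  let E := {kp : {H : Subgroup P2 // Nonempty (H ≃* alternatingGroup (Fin 5))} × Sylow 2 P2 //
    (kp.2 : Subgroup P2) ≤ kp.1.1}
  have hfive : ∀ K : {H : Subgroup P2 // Nonempty (H ≃* alternatingGroup (Fin 5))},
      5 ≤ Nat.card {P : Sylow 2 P2 // (P : Subgroup P2) ≤ K.1} := by
    intro K
    obtain ⟨e⟩ := K.2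
    have hfac : (Nat.card P2).factorization 2 = 2 := by
      rw [card_eq hF, show 660 = 2 ^ 2 * 165 by norm_num, Nat.factorization_mul (by norm_num) (by norm_num),
        Finsupp.add_apply, Nat.Prime.factorization_pow Nat.prime_two, Finsupp.single_eq_same,
        Nat.factorization_eq_zero_of_not_dvd (by norm_num)]
    have hcQ : ∀ Q : Sylow 2 K.1, Nat.card ((Q : Subgroup K.1).map K.1.subtype) = 2 ^ (Nat.card P2).factorization 2 := by
      intro Q
      rw [← Nat.card_congr (Subgroup.equivMapOfInjective _ _ K.1.subtype_injective).toEquiv, hfac,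
        SmallOrders.sylow_card_eq (G := K.1) (p := 2) (k := 2) (m := 15) (by rw [card_of_iso e]; norm_num)
          (by norm_num) Q]
    obtain ⟨P⟩ : Nonempty (Sylow 2 K.1) := inferInstance
    have h5 : Nat.card (Sylow 2 K.1) = 5 :=
      (sylow_inside hF e (Sylow.ofCard _ (hcQ P)) (Subgroup.map_subtype_le _)).1
    refine le_trans h5.ge ?_
    refine Nat.card_le_card_of_injective (fun Q => ⟨Sylow.ofCard _ (hcQ Q), Subgroup.map_subtype_le _⟩) ?_
    intro a b hab
    exact Sylow.ext (Subgroup.map_injective K.1.subtype_injective (congrArg (fun P => (P.1 : Subgroup P2)) hab))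
  have hE1 : 5 * Nat.card {H : Subgroup P2 // Nonempty (H ≃* alternatingGroup (Fin 5))} ≤ Nat.card E := by
    have e1 : E ≃ Σ K : {H : Subgroup P2 // Nonempty (H ≃* alternatingGroup (Fin 5))},
        {P : Sylow 2 P2 // (P : Subgroup P2) ≤ K.1} :=
      Equiv.subtypeProdEquivSigmaSubtype fun (K : {H : Subgroup P2 // Nonempty (H ≃* alternatingGroup (Fin 5))})
        (P : Sylow 2 P2) => (P : Subgroup P2) ≤ K.1
    rw [Nat.card_congr e1, Nat.card_sigma]
    calc 5 * Nat.card {H : Subgroup P2 // Nonempty (H ≃* alternatingGroup (Fin 5))}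
        = ∑ _K : {H : Subgroup P2 // Nonempty (H ≃* alternatingGroup (Fin 5))}, 5 := by
          rw [Finset.sum_const, Finset.card_univ, Nat.card_eq_fintype_card, smul_eq_mul, mul_comm]
      _ ≤ _ := Finset.sum_le_sum fun K _ => hfive K
  have hsyl : Nat.card (Sylow 2 P2) = 55 := by
    obtain ⟨P⟩ : Nonempty (Sylow 2 P2) := inferInstance
    have := SmallOrders.card_normalizer P
    rw [card_normalizer_sylow hF P, card_eq hF] at this
    omega
  have hE2 : Nat.card E ≤ 2 * Nat.card (Sylow 2 P2) := by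
    haveI := Fintype.ofFinite E
    rw [Nat.card_eq_fintype_card, ← Finset.card_univ]
    refine le_trans (Finset.card_le_mul_card_image (f := fun kp : E => kp.1.2) Finset.univ 2 fun P _ => ?_) ?_
    · by_contra hlt
      rw [not_le, Finset.two_lt_card_iff] at hlt
      obtain ⟨a, b, c, ha, hb, hc, hab, hac, hbc⟩ := hlt
      simp only [Finset.mem_filter, Finset.mem_univ, true_and] at ha hb hc
      have key : ∀ u v : E, u.1.2 = P → v.1.2 = P → u.1.1.1 = v.1.1.1 → u = v := fun u v hu hv h =>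
        Subtype.ext (Prod.ext (Subtype.ext h) (hu.trans hv.symm))
      refine at_most_two hF P ![a.1.1.1, b.1.1.1, c.1.1.1] ?_ ?_ ?_
      · intro i; fin_cases i
        exacts [a.1.1.2, b.1.1.2, c.1.1.2]
      · intro i; fin_cases i
        exacts [ha ▸ a.2, hb ▸ b.2, hc ▸ c.2]
      · intro i j hij
        fin_cases i <;> fin_cases j <;> simp at hij <;>
          first
          | rfl
          | exact absurd (key a b ha hb hij) hab
          | exact absurd (key a b ha hb hij.symm) hab
          | exact absurd (key a c ha hc hij) hac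
          | exact absurd (key a c ha hc hij.symm) hac
          | exact absurd (key b c hb hc hij) hbc
          | exact absurd (key b c hb hc hij.symm) hbc
    · rw [Nat.card_eq_fintype_card]
      exact Nat.mul_le_mul_left _ (Finset.card_le_univ _)
  omega

theorem card_conjugates (hF : Fintype.card F = 11) {H : Subgroup P2} (e : H ≃* alternatingGroup (Fin 5)) :
    Nat.card {L : Subgroup P2 // ∃ g : P2, MulAut.conj g • H = L} = 11 := by
  rw [← index_eq hF e]
  symm
  refine Nat.card_congr (Equiv.ofBijective (fun x : P2 ⧸ H => (⟨MulAut.conj x.out • H, x.out, rfl⟩ :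
    {L : Subgroup P2 // ∃ g : P2, MulAut.conj g • H = L})) ⟨?_, ?_⟩)
  · intro x y hxy
    have h : MulAut.conj x.out • H = MulAut.conj y.out • H := congrArg Subtype.val hxy
    have hn : x.out⁻¹ * y.out ∈ H := by
      refine (normalizer_eq hF e).le ?_
      have h' : MulAut.conj (x.out⁻¹ * y.out) • H = H := by
        rw [map_mul, mul_smul, ← h, ← mul_smul, ← map_mul, inv_mul_cancel, map_one, one_smul]
      rw [Subgroup.mem_normalizer_iff]
      generalize x.out⁻¹ * y.out = z at h' ⊢
      intro v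
      conv_rhs => rw [← h']
      rw [← MulAut.conj_apply, ← MulAut.smul_def, Subgroup.smul_mem_pointwise_smul_iff]
    rw [← QuotientGroup.out_eq' x, ← QuotientGroup.out_eq' y, QuotientGroup.eq]
    exact hn
  · rintro ⟨L, g, rfl⟩
    refine ⟨QuotientGroup.mk g, Subtype.ext ?_⟩
    obtain ⟨h, hh⟩ := QuotientGroup.mk_out_eq_mul H g
    show MulAut.conj (QuotientGroup.mk g : P2 ⧸ H).out • H = MulAut.conj g • H
    rw [hh, map_mul, mul_smul]
    congr 1
    ext v
    rw [Subgroup.mem_pointwise_smul_iff_inv_smul_mem, ← map_inv, MulAut.smul_def, MulAut.conj_apply, inv_inv]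
    constructor
    · intro hv
      have := H.mul_mem (H.mul_mem h.2 hv) (H.inv_mem h.2)
      simpa [mul_assoc] using this
    · intro hv
      exact H.mul_mem (H.mul_mem (H.inv_mem h.2) hv) h.2

theorem exists_two (hF : Fintype.card F = 11) :
    ∃ H K : Subgroup P2, Nonempty (H ≃* alternatingGroup (Fin 5)) ∧ Nonempty (K ≃* alternatingGroup (Fin 5)) ∧
      ∀ g : P2, MulAut.conj g • H ≠ K := by
  classical
  obtain ⟨H, -, ⟨e⟩⟩ := exists_sub hF
  haveI := simple hF
  haveI := Classical.Dickson.finite_pgl F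
  obtain ⟨ν, hν⟩ : ∃ ν : F, ¬ IsSquare ν := FiniteField.exists_nonsquare (fun h => two_ne hF (by
    haveI : CharP F 2 := ringChar.of_eq h
    exact CharTwo.two_eq_zero))
  have hν0 : ν ≠ 0 := fun h => hν (h ▸ IsSquare.zero)
  let δ : GL (Fin 2) F := ⟨Matrix.diagonal ![ν, 1], Matrix.diagonal ![ν⁻¹, 1],
    by rw [Matrix.diagonal_mul_diagonal, ← Matrix.diagonal_one]; congr 1; funext i; fin_cases i <;> simp [hν0],
    by rw [Matrix.diagonal_mul_diagonal, ← Matrix.diagonal_one]; congr 1; funext i; fin_cases i <;> simp [hν0]⟩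
  refine ⟨H, H.map (PSL2.conjP δ).toMonoidHom, ⟨e⟩,
    ⟨(H.equivMapOfInjective _ (PSL2.conjP δ).injective).symm.trans e⟩, fun g hg => ?_⟩
  obtain ⟨A, rfl⟩ := PSL2.pr_surjective g
  let N : Subgroup G2 := Subgroup.normalizer ((H.map τ : Subgroup G2) : Set G2)
  have hN : mk2 ((Matrix.SpecialLinearGroup.toGL A)⁻¹ * δ) ∈ N := by
    have hfix : H.map (PSL2.conjP ((Matrix.SpecialLinearGroup.toGL A)⁻¹ * δ)).toMonoidHom = H := by
      rw [map_mul]
      show H.map ((PSL2.conjP (Matrix.SpecialLinearGroup.toGL A)⁻¹).toMonoidHom.comp (PSL2.conjP δ).toMonoidHom) = H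
      rw [← Subgroup.map_map, ← hg]
      ext v
      constructor
      · rintro ⟨_, ⟨w, hw, rfl⟩, rfl⟩
        show PSL2.conjP (Matrix.SpecialLinearGroup.toGL A)⁻¹ (MulAut.conj (PSL2.pr A) w) ∈ H
        rw [map_inv, ← PSL2.conjP_toGL, MulAut.inv_apply_self]
        exact hw
      · intro hv
        refine ⟨_, ⟨v, hv, rfl⟩, ?_⟩
        show PSL2.conjP (Matrix.SpecialLinearGroup.toGL A)⁻¹ (MulAut.conj (PSL2.pr A) v) = v
        rw [map_inv, ← PSL2.conjP_toGL, MulAut.inv_apply_self]
    obtain ⟨h, hh⟩ : ∃ h, h = (Matrix.SpecialLinearGroup.toGL A)⁻¹ * δ := ⟨_, rfl⟩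
    rw [← hh] at hfix ⊢
    rw [Subgroup.mem_normalizer_iff]
    intro y
    constructor
    · rintro ⟨w, hw, rfl⟩
      rw [← Classical.Dickson.toPGL_conjP]
      refine Subgroup.mem_map_of_mem _ ?_
      rw [← hfix]
      exact ⟨w, hw, rfl⟩
    · rintro ⟨w, hw, hwy⟩
      rw [← hfix] at hw
      obtain ⟨w', hw', rfl⟩ := hw
      have : τ (PSL2.conjP h w') = mk2 h * y * (mk2 h)⁻¹ := hwy
      rw [Classical.Dickson.toPGL_conjP] at this
      rw [← mul_left_cancel (mul_right_cancel this)]
      exact Subgroup.mem_map_of_mem _ hw'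
  have hNle : N ≤ (τ).range := by
    have hne : N ≠ ⊤ := by
      intro htop
      have hnorm : H.Normal := ⟨fun v hv z => by
        have h1 : τ z ∈ N := htop ▸ Subgroup.mem_top _
        have h2 := (Subgroup.mem_normalizer_iff.1 h1 (τ v)).1 (Subgroup.mem_map_of_mem _ hv)
        rw [← map_inv, ← map_mul, ← map_mul] at h2
        obtain ⟨w, hw, he⟩ := h2
        rwa [← Matrix.ProjectiveSpecialLinearGroup.toPGL_injective he]⟩
      have hi := index_eq hF e
      rcases hnorm.eq_bot_or_eq_top with h | h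
      · rw [h, Subgroup.index_bot, card_eq hF] at hi; omega
      · rw [h, Subgroup.index_top] at hi; omega
    obtain ⟨M, hM, hNM⟩ := (eq_top_or_exists_le_coatom N).resolve_left hne
    by_cases hL : (τ).range ≤ M
    · refine hNM.trans (le_of_eq ?_)
      have hd := Subgroup.index_dvd_of_le hL
      rw [Classical.Dickson.range_index (two_ne hF)] at hd
      have hMi : M.index = 2 := ((Nat.dvd_prime Nat.prime_two).1 hd).resolve_left fun h => hM.1 (Subgroup.index_eq_one.1 h)
      refine (Subgroup.eq_of_le_of_card_ge hL (le_of_eq ?_)).symm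
      have h1 := (τ).range.card_mul_index
      have h2 := M.card_mul_index
      rw [Classical.Dickson.range_index (two_ne hF)] at h1
      rw [hMi] at h2
      omega
    exfalso
    have hHM : H ≤ M.comap τ := fun v hv =>
      hNM (Subgroup.le_normalizer (Subgroup.mem_map_of_mem _ hv))
    have h60 : 60 ∣ Nat.card (M.comap τ) := card_of_iso e ▸ Subgroup.card_dvd_of_le hHM
    rcases Classical.Dickson.pgl_cases (two_ne hF) (by omega) hM hL with
      ⟨-, h⟩ | ⟨s, hs, -, ⟨f⟩⟩ | ⟨-, -, -, ⟨f⟩⟩ | ⟨K, r, hr, hro, hK, -, -⟩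
    · rw [hF] at h; omega
    · rw [Nat.card_congr f.toEquiv, DihedralGroup.nat_card] at h60
      rw [hF] at hs
      rcases hs with ⟨rfl, -⟩ | rfl <;> norm_num at h60
    · rw [Nat.card_congr f.toEquiv, nat_card_alternatingGroup, Nat.card_fin] at h60
      norm_num [Nat.factorial] at h60
    · rw [hF] at hK
      have h11 : (Nat.card K ^ r).Prime := by rw [hK]; norm_num
      have hr1 : r = 1 := by
        by_contra hr1
        exact Nat.Prime.not_prime_pow (by have := hr.two_le; omega) h11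
      exact Nat.not_prime_one (hr1 ▸ hr)
  obtain ⟨z, hz⟩ := hNle hN
  obtain ⟨B, rfl⟩ := PSL2.pr_surjective z
  rw [Classical.Dickson.toPGL_pr] at hz
  obtain ⟨c, hc⟩ := Matrix.ProjGenLinGroup.mk_eq_mk_iff.mp hz
  refine hν ?_
  have hdet := congrArg (fun M : GL (Fin 2) F => ((Matrix.GeneralLinearGroup.det M : Fˣ) : F)) hc
  simp [δ, Matrix.GeneralLinearGroup.val_det_apply, Matrix.det_mul, Matrix.det_diagonal, Fin.prod_univ_two] at hdet
  exact ⟨(c : F), by rw [← hdet]; ring⟩

theorem classes (hF : Fintype.card F = 11) :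
    Nat.card {H : Subgroup P2 // Nonempty (H ≃* alternatingGroup (Fin 5))} = 22 ∧
      ∃ H K : Subgroup P2, Nonempty (H ≃* alternatingGroup (Fin 5)) ∧ Nonempty (K ≃* alternatingGroup (Fin 5)) ∧
        (∀ g : P2, MulAut.conj g • H ≠ K) ∧
        ∀ L : Subgroup P2, Nonempty (L ≃* alternatingGroup (Fin 5)) →
          ∃ g : P2, MulAut.conj g • L = H ∨ MulAut.conj g • L = K := by
  classical
  obtain ⟨H, K, ⟨eH⟩, ⟨eK⟩, hne⟩ := exists_two hF
  obtain ⟨C, hC⟩ : ∃ C : Subgroup P2 → Set (Subgroup P2), ∀ X, C X = {L | ∃ g : P2, MulAut.conj g • X = L} :=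
    ⟨_, fun _ => rfl⟩
  have hcH : (C H).ncard = 11 := by rw [hC, ← Nat.card_coe_set_eq]; exact card_conjugates hF eH
  have hcK : (C K).ncard = 11 := by rw [hC, ← Nat.card_coe_set_eq]; exact card_conjugates hF eK
  have hdis : Disjoint (C H) (C K) := by
    rw [Set.disjoint_left, hC, hC]
    rintro L ⟨g, rfl⟩ ⟨g', hg'⟩
    refine hne (g'⁻¹ * g) ?_
    rw [map_mul, mul_smul, ← hg', ← mul_smul, ← map_mul, inv_mul_cancel, map_one, one_smul]
  have hsub : C H ∪ C K ⊆ {L : Subgroup P2 | Nonempty (L ≃* alternatingGroup (Fin 5))} := by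
    rw [hC, hC]
    rintro L (⟨g, rfl⟩ | ⟨g, rfl⟩)
    · exact ⟨(Subgroup.equivSMul (MulAut.conj g) H).symm.trans eH⟩
    · exact ⟨(Subgroup.equivSMul (MulAut.conj g) K).symm.trans eK⟩
  have hle := card_le hF
  rw [show Nat.card {L : Subgroup P2 // Nonempty (L ≃* alternatingGroup (Fin 5))} =
    ({L : Subgroup P2 | Nonempty (L ≃* alternatingGroup (Fin 5))}).ncard from Nat.card_coe_set_eq _] at hle ⊢
  have h22 : (C H ∪ C K).ncard = 22 := by
    rw [Set.ncard_union_eq hdis (Set.toFinite _) (Set.toFinite _), hcH, hcK]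
  have heq := Set.eq_of_subset_of_ncard_le hsub (by omega) (Set.toFinite _)
  refine ⟨by rw [← heq, h22], H, K, ⟨eH⟩, ⟨eK⟩, hne, fun L hL => ?_⟩
  have hL' : L ∈ C H ∪ C K := by rw [heq]; exact hL
  rw [hC, hC] at hL'
  rcases hL' with ⟨g, rfl⟩ | ⟨g, rfl⟩
  · exact ⟨g⁻¹, Or.inl (by rw [← mul_smul, ← map_mul, inv_mul_cancel, map_one, one_smul])⟩
  · exact ⟨g⁻¹, Or.inr (by rw [← mul_smul, ← map_mul, inv_mul_cancel, map_one, one_smul])⟩

end Cfsg.Agent.Small.PSL2Eleven
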