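import Mathlib

/-!
# Simple groups of order `p (p² - 1) / 2` through the action on `p + 1` Sylow subgroups

The action is shown to be that of a fixed permutation group on `Option (ZMod p)`.
-/

set_option autoImplicit false
set_option linter.unusedSectionVars false

namespace Cfsg.Agent.Small.ProjLine

variable {p : ℕ} [hp : Fact p.Prime]

/-- Translation of the projective line. -/
def tr (a : ZMod p) : Option (ZMod p) → Option (ZMod p)
  | none => none
  | some x => some (x + a)

/-- The candidate for an element interchanging `0` and `∞`. -/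
def cand (e : ℕ) (cp cm : ZMod p) (sq : List (ZMod p)) : Option (ZMod p) → Option (ZMod p)
  | none => some 0
  | some x => if x = 0 then none else some ((if x ∈ sq then cp else cm) * x ^ e)

/-- The word which must be affine. -/
def word (w : Option (ZMod p) → Option (ZMod p)) (a : ZMod p) (x : Option (ZMod p)) :
    Option (ZMod p) :=
  match w (some a) with
  | none => none
  | some b => w (tr (-b) (w (tr a (w x))))

/-- The squares of nonzero residues. -/
def squares (p : ℕ) [NeZero p] : List (ZMod p) :=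
  (List.range (p - 1)).map fun i => (((i + 1) * (i + 1) : ℕ) : ZMod p)

/-- An affine map with square slope. -/
def IsAff (f : Option (ZMod p) → Option (ZMod p)) : Prop :=
  f none = none ∧ ∃ s ∈ squares p, ∃ t, ∀ x : ZMod p, f (some x) = some (s * x + t)

/-- Boolean test for `IsAff`. -/
def affB (f : Option (ZMod p) → Option (ZMod p)) : Bool :=
  match f none with
  | some _ => false
  | none =>
    match f (some 0) with
    | none => false
    | some t => (squares p).any fun s =>
        (List.range p).all fun x => f (some (x : ZMod p)) == some (s * (x : ZMod p) + t)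

theorem affB_of_isAff {f : Option (ZMod p) → Option (ZMod p)} (h : IsAff f) : affB f = true := by
  obtain ⟨h0, s, hs, t, ht⟩ := h
  have h1 : f (some 0) = some t := by rw [ht, mul_zero, zero_add]
  simp only [affB, h0, h1, List.any_eq_true, List.all_eq_true, beq_iff_eq]
  exact ⟨s, hs, fun x _ => ht _⟩

/-- The finite check. -/
def check (p : ℕ) [Fact p.Prime] : Bool :=
  [1, p - 2].all fun e => (List.range (p - 1)).all fun i => (List.range (p - 1)).all fun j =>
    let cp : ZMod p := ((i + 1 : ℕ) : ZMod p)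
    let cm : ZMod p := ((j + 1 : ℕ) : ZMod p)
    ((e == p - 2) && (cp == cm) && ((squares p).contains (-cp))) ||
      (List.range (p - 1)).any fun a =>
        !(affB (word (cand e cp cm (squares p)) ((a + 1 : ℕ) : ZMod p)))

/-- The numerical facts used in the proof. -/
structure Data (p : ℕ) [Fact p.Prime] where
  m : ℕ
  g : ZMod p
  ν : ZMod p
  hm : p - 1 = 2 * m
  hdiv : ∀ d : ℕ, d ∣ (p + 1) * m → d % p = 1 → d = 1 ∨ d = p + 1
  sq_iff : ∀ s : ZMod p, (s ≠ 0 ∧ s ^ m = 1) ↔ s ∈ squares p
  sq_card : (squares p).toFinset.card = m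
  g_mem : g ∈ squares p
  g_gen : ∀ s ∈ squares p, ∃ i ∈ Finset.range m, g ^ i = s
  ν_not : ν ≠ 0 ∧ ν ∉ squares p
  coset : ∀ x : ZMod p, x ≠ 0 → x ∉ squares p → ∃ i ∈ Finset.range m, ν * g ^ i = x
  inv_pow : ∀ x : ZMod p, x ≠ 0 → x * x ^ (p - 2) = 1
  auto : ∀ i ∈ Finset.range m, (g ^ i) ^ i = g → g ^ i = g ∨ g ^ i = g ^ (p - 2)
  ok : check p = true

variable (p) in
/-- `x ↦ -1/x`. -/
def negInv : Option (ZMod p) → Option (ZMod p)
  | none => some 0
  | some x => if x = 0 then none else some (-x⁻¹)

theorem negInv_invol (x : Option (ZMod p)) : negInv p (negInv p x) = x := by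
  rcases x with _ | x
  · simp [negInv]
  · by_cases h : x = 0
    · simp [negInv, h]
    · simp [negInv, h, inv_neg]

variable (p) in
/-- The permutation `x ↦ -1/x`. -/
def wPerm : Equiv.Perm (Option (ZMod p)) :=
  ⟨negInv p, negInv p, negInv_invol, negInv_invol⟩

/-- Translations as permutations. -/
def tPerm (a : ZMod p) : Equiv.Perm (Option (ZMod p)) := Equiv.optionCongr (Equiv.addRight a)

theorem tPerm_some (a x : ZMod p) : tPerm a (some x) = some (x + a) := by simp [tPerm]

theorem tPerm_none (a : ZMod p) : tPerm a none = none := by simp [tPerm]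

theorem tPerm_eq (a : ZMod p) (x : Option (ZMod p)) : tPerm a x = tr a x := by
  rcases x with _ | x <;> simp [tPerm, tr]

/-- Multiplications as permutations. -/
noncomputable def mPerm (s : ZMod p) (hs : s ≠ 0) : Equiv.Perm (Option (ZMod p)) :=
  Equiv.optionCongr (Equiv.mulLeft₀ s hs)

theorem mPerm_some {s : ZMod p} (hs : s ≠ 0) (x : ZMod p) : mPerm s hs (some x) = some (s * x) := by
  simp [mPerm]

theorem mPerm_none {s : ZMod p} (hs : s ≠ 0) : mPerm s hs none = none := by simp [mPerm]

/-- The affine permutation group with square slopes, enlarged by `x ↦ -1/x`. -/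
noncomputable def G₀ (p : ℕ) [Fact p.Prime] : Subgroup (Equiv.Perm (Option (ZMod p))) :=
  Subgroup.closure ({σ | σ none = none ∧
    ∃ s ∈ squares p, ∃ t, ∀ x : ZMod p, σ (some x) = some (s * x + t)} ∪ {wPerm p})

open scoped Pointwise in
/-- A simple group of order `p (p² - 1) / 2` is isomorphic to `G₀ p`. -/
theorem main (D : Data p) {G : Type*} [Group G] [Finite G] [IsSimpleGroup G]
    (hcard : Nat.card G = p * ((p + 1) * D.m)) : Nonempty (G ≃* G₀ p) := by
  classical
  have hp' := hp.out
  have hm0 : 0 < D.m := by have := hp'.two_le; have := D.hm; omega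
  -- the Sylow subgroups
  obtain ⟨P₀⟩ : Nonempty (Sylow p G) := inferInstance
  have hP₀ : Nat.card (P₀ : Subgroup G) = p := by
    rw [P₀.card_eq_multiplicity]
    have h1 : (Nat.card G).factorization p = 1 := by
      rw [hcard, Nat.factorization_mul hp'.ne_zero (by positivity), Finsupp.add_apply,
        hp'.factorization_self, Nat.factorization_eq_zero_of_not_dvd, add_zero]
      intro hd
      rcases hp'.dvd_mul.1 hd with h | h
      · exact hp'.not_dvd_one ((Nat.dvd_add_right (dvd_refl p)).1 h)
      · have := Nat.le_of_dvd hm0 h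
        have := D.hm
        omega
    rw [h1, pow_one]
  have hn : Nat.card (Sylow p G) = p + 1 := by
    have h1 : Nat.card (Sylow p G) ∣ (p + 1) * D.m := by
      have h2 := P₀.card_dvd_index
      have h3 := (P₀ : Subgroup G).card_mul_index
      rw [hP₀, hcard] at h3
      rwa [Nat.eq_of_mul_eq_mul_left hp'.pos h3] at h2
    have h4 : Nat.card (Sylow p G) % p = 1 := by
      have := card_sylow_modEq_one p G
      rwa [Nat.ModEq, Nat.mod_eq_of_lt hp'.one_lt] at this
    refine (D.hdiv _ h1 h4).resolve_left fun h => ?_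
    haveI : Subsingleton (Sylow p G) := (Nat.card_eq_one_iff_unique.1 h).1
    haveI := Sylow.normal_of_subsingleton P₀
    rcases this.eq_bot_or_eq_top with e | e
    · rw [e, Subgroup.card_bot] at hP₀
      exact hp'.one_lt.ne hP₀
    · rw [e, Subgroup.card_top, hcard] at hP₀
      have h5 : (p + 1) * D.m = 1 := Nat.eq_of_mul_eq_mul_left hp'.pos (by rw [hP₀, mul_one])
      have := Nat.eq_one_of_mul_eq_one_right h5
      have := hp'.two_le
      omega
  haveI : IsCyclic (P₀ : Subgroup G) := isCyclic_of_prime_card hP₀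
  obtain ⟨x', hx'⟩ := IsCyclic.exists_generator (α := (P₀ : Subgroup G))
  set x : G := (x' : G) with hx
  have hox : orderOf x = p := by
    rw [hx, Subgroup.orderOf_coe, orderOf_eq_card_of_forall_mem_zpowers hx', hP₀]
  have hxmem : ∀ y ∈ (P₀ : Subgroup G), ∃ i : ℕ, y = x ^ i := by
    intro y hy
    obtain ⟨i, hi⟩ := (mem_powers_iff_mem_zpowers.2 (hx' ⟨y, hy⟩) : _)
    exact ⟨i, (congrArg Subtype.val hi).symm⟩
  obtain ⟨P₁, hP₁⟩ : ∃ P₁ : Sylow p G, P₁ ≠ P₀ := by
    by_contra h
    push Not at h
    haveI : Subsingleton (Sylow p G) := ⟨fun a b => (h a).trans (h b).symm⟩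
    have := Nat.card_unique (α := Sylow p G)
    have := hp'.two_le
    omega
  have hxfix : x • P₀ = P₀ := Sylow.smul_eq_iff_mem_normalizer.2 (Subgroup.le_normalizer x'.2)
  have hx0 : ∀ i : ℕ, x ^ i • P₀ = P₀ := fun i => by
    induction i with
    | zero => rw [pow_zero, one_smul]
    | succ i ih => rw [pow_succ, mul_smul, hxfix, ih]
  -- only `P₀` is fixed by `x`
  have honly : ∀ i : ℕ, ¬ p ∣ i → x ^ i • P₁ ≠ P₁ := by
    intro i hi h
    apply hP₁
    have hmem : x ^ i ∈ Subgroup.normalizer (P₁ : Set G) := Sylow.smul_eq_iff_mem_normalizer.1 h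
    have hp1 : x ^ i ∈ (P₁ : Subgroup G) := by
      have hpg : IsPGroup p (Subgroup.zpowers (x ^ i)) :=
        P₀.2.to_le (Subgroup.zpowers_le.2 (pow_mem x'.2 i))
      have := hpg.inf_normalizer_sylow P₁
      exact (this.le ⟨Subgroup.mem_zpowers _, hmem⟩).2
    apply Sylow.ext
    have hne : x ^ i ≠ 1 := fun h => hi (hox ▸ orderOf_dvd_of_pow_eq_one h)
    have hle : (P₀ : Subgroup G) ≤ P₁ := by
      intro y hy
      obtain ⟨j, rfl⟩ := hxmem y hy
      obtain ⟨k, hk⟩ : x ∈ Subgroup.zpowers (x ^ i) := by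
        rw [Subgroup.mem_zpowers_iff]
        obtain ⟨k, hk⟩ := exists_pow_eq_self_of_coprime (x := x) (n := i) (by
          rw [hox]; exact ((Nat.Prime.coprime_iff_not_dvd hp').2 hi).symm)
        exact ⟨k, by rw [zpow_natCast]; exact hk⟩
      exact pow_mem (hk ▸ zpow_mem hp1 k) j
    exact (P₀.3 P₁.2 hle)
  -- coordinates
  let θ : Option (ZMod p) → Sylow p G := fun o => o.elim P₀ fun i => x ^ i.val • P₁
  have hpow : ∀ (i : ℕ), x ^ i • P₁ = θ (some (i : ZMod p)) := by
    intro i
    show x ^ i • P₁ = x ^ (i : ZMod p).val • P₁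
    have h := pow_mod_orderOf x i
    rw [hox] at h
    rw [ZMod.val_natCast, h]
  have hinj : Function.Injective θ := by
    rintro (_ | i) (_ | j) h
    · rfl
    · exfalso
      apply hP₁
      change P₀ = x ^ j.val • P₁ at h
      exact smul_left_cancel (x ^ j.val) (h.symm.trans (hx0 j.val).symm)
    · exfalso
      apply hP₁
      change x ^ i.val • P₁ = P₀ at h
      exact smul_left_cancel (x ^ i.val) (h.trans (hx0 i.val).symm)
    · change x ^ i.val • P₁ = x ^ j.val • P₁ at h
      by_contra hij
      have key : ∀ a b : ZMod p, a.val ≤ b.val → x ^ a.val • P₁ = x ^ b.val • P₁ → a = b := by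
        intro a b hab h
        by_contra hne
        rw [show b.val = a.val + (b.val - a.val) by omega, pow_add, mul_smul] at h
        refine honly (b.val - a.val) ?_ (smul_left_cancel _ h).symm
        intro hd
        have hlt : b.val - a.val < p := lt_of_le_of_lt (Nat.sub_le _ _) (ZMod.val_lt b)
        have := Nat.eq_zero_of_dvd_of_lt hd hlt
        exact hne (ZMod.val_injective p (by omega))
      rcases le_total i.val j.val with h' | h'
      · exact hij (by rw [key i j h' h])
      · exact hij (by rw [key j i h' h.symm])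
  have hbij : Function.Bijective θ := by
    refine (Nat.bijective_iff_injective_and_card θ).2 ⟨hinj, ?_⟩
    rw [hn, Nat.card_eq_fintype_card, Fintype.card_option, ZMod.card]
  let e : Option (ZMod p) ≃ Sylow p G := Equiv.ofBijective θ hbij
  let φ : G →* Equiv.Perm (Option (ZMod p)) :=
    (e.symm.permCongrHom.toMonoidHom).comp (MulAction.toPermHom G (Sylow p G))
  have hφθ : ∀ g o, θ (φ g o) = g • θ o := by
    intro g o
    show e (φ g o) = g • e o
    simp [φ, Equiv.permCongrHom, Equiv.permCongr_apply]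
  have hφeq : ∀ g o o', g • θ o = θ o' → φ g o = o' := fun g o o' h => hinj ((hφθ g o).trans h)
  have hφinj : Function.Injective φ := by
    rw [← MonoidHom.ker_eq_bot_iff]
    refine φ.normal_ker.eq_bot_or_eq_top.resolve_right fun htop => hP₁ ?_
    obtain ⟨g, hg⟩ := MulAction.exists_smul_eq G P₀ P₁
    have h1 : φ g = 1 := MonoidHom.mem_ker.1 (htop ▸ Subgroup.mem_top g)
    have h2 := hφθ g none
    rw [h1] at h2
    exact hg.symm.trans h2.symm
  have hφx : ∀ i : ℕ, φ (x ^ i) = tPerm (i : ZMod p) := by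
    intro i
    refine Equiv.ext fun o => hφeq _ _ _ ?_
    rcases o with _ | j
    · rw [tPerm_none]; exact hx0 i
    · rw [tPerm_some]
      change x ^ i • (x ^ j.val • P₁) = _
      rw [← mul_smul, ← pow_add, hpow]
      push_cast
      rw [ZMod.natCast_zmod_val, add_comm]
  have hT : ∀ a : ZMod p, tPerm a = φ (x ^ a.val) := fun a => by rw [hφx, ZMod.natCast_zmod_val]
  -- the stabilizer of `∞`
  set N := MulAction.stabilizer G P₀ with hN
  have hNmem : ∀ g, g ∈ N ↔ φ g none = none := by
    intro g
    rw [hN, MulAction.mem_stabilizer_iff]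
    exact ⟨fun h => hφeq g none none h, fun h => by
      have := hφθ g none
      rw [h] at this
      exact this.symm⟩
  have hNcard : Nat.card N = p * D.m := by
    haveI : MulAction.IsPretransitive G (Sylow p G) := inferInstance
    have h1 := MulAction.index_stabilizer_of_transitive G P₀
    rw [hn] at h1
    have h2 := N.card_mul_index
    rw [hN, h1, hcard] at h2
    rw [hN]
    exact Nat.eq_of_mul_eq_mul_right (Nat.succ_pos p) (by rw [Nat.succ_eq_add_one, h2]; ring)
  have hslope : ∀ g ∈ N, ∃ s : ZMod p, g * x * g⁻¹ = x ^ s.val ∧ s ≠ 0 := by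
    intro g hg
    have h1 := Sylow.smul_eq_iff_mem_normalizer.1 (MulAction.mem_stabilizer_iff.1 hg)
    obtain ⟨i, hi⟩ := hxmem _ ((Subgroup.mem_normalizer_iff.1 h1 x).1 x'.2)
    refine ⟨(i : ZMod p), by rw [hi, ZMod.val_natCast]; exact ((congrArg (fun k => x ^ (i % k)) hox).symm.trans (pow_mod_orderOf x i)).symm, fun h => ?_⟩
    rw [ZMod.natCast_eq_zero_iff, ← hox] at h
    rw [orderOf_dvd_iff_pow_eq_one.1 h, conj_eq_one_iff, ← orderOf_eq_one_iff, hox] at hi
    exact hp'.one_lt.ne' hi
  choose slope hslope hslope0 using hslope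
  have haff : ∀ g (hg : g ∈ N) (t : ZMod p), φ g (some 0) = some t →
      ∀ j : ZMod p, φ g (some j) = some (slope g hg * j + t) := by
    intro g hg t ht j
    refine hφeq _ _ _ ?_
    have h0 : g • P₁ = x ^ t.val • P₁ := by
      have := hφθ g (some 0)
      rw [ht] at this
      change x ^ t.val • P₁ = g • (x ^ (0 : ZMod p).val • P₁) at this
      rw [ZMod.val_zero, pow_zero, one_smul] at this
      exact this.symm
    have hcj : g * x ^ j.val = x ^ ((slope g hg).val * j.val) * g := by
      rw [pow_mul, ← hslope g hg, conj_pow]; group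
    change g • (x ^ j.val • P₁) = _
    rw [← mul_smul, hcj, mul_smul, h0, ← mul_smul, ← pow_add, hpow]
    push_cast
    rw [ZMod.natCast_zmod_val, ZMod.natCast_zmod_val, ZMod.natCast_zmod_val]
  have hN0 : ∀ g, g ∈ N → ∃ t, φ g (some 0) = some t := by
    intro g hg
    refine Option.ne_none_iff_exists'.1 fun h => ?_
    have := (φ g).injective (h.trans ((hNmem g).1 hg).symm)
    exact Option.some_ne_none _ this
  -- the slopes
  let χ : N →* (ZMod p)ˣ :=
    { toFun := fun g => Units.mk0 (slope g g.2) (hslope0 g g.2)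
      map_one' := by
        apply Units.ext
        show slope 1 _ = 1
        obtain ⟨t, ht⟩ := hN0 1 (one_mem N)
        have h := haff 1 (one_mem N) t ht 1
        rw [map_one, Equiv.Perm.one_apply, Option.some.injEq] at h
        rw [map_one, Equiv.Perm.one_apply, Option.some.injEq] at ht
        rw [← ht, mul_one, add_zero] at h
        exact h.symm
      map_mul' := fun g h => by
        apply Units.ext
        show slope (g * h : G) _ = slope g g.2 * slope h h.2
        obtain ⟨t, ht⟩ := hN0 g g.2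
        obtain ⟨u, hu⟩ := hN0 h h.2
        have hk : φ (g * h : G) (some 0) = some (slope g g.2 * u + t) := by
          rw [map_mul, Equiv.Perm.mul_apply, hu, haff g g.2 t ht]
        have h1 := haff (g * h : G) (mul_mem g.2 h.2) _ hk 1
        rw [map_mul, Equiv.Perm.mul_apply, haff h h.2 u hu, haff g g.2 t ht, Option.some.injEq] at h1
        linear_combination -h1 }
  have hker : χ.ker ≤ (Subgroup.zpowers x).subgroupOf N := by
    intro g hg
    obtain ⟨t, ht⟩ := hN0 g g.2
    have hs1 : slope g g.2 = 1 := congrArg Units.val (MonoidHom.mem_ker.1 hg)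
    have : φ g = φ (x ^ t.val) := by
      rw [← hT]
      refine Equiv.ext fun o => ?_
      rcases o with _ | j
      · rw [tPerm_none]; exact (hNmem g).1 g.2
      · rw [haff g g.2 t ht, hs1, tPerm_some, one_mul]
    rw [Subgroup.mem_subgroupOf, hφinj this]
    exact pow_mem (Subgroup.mem_zpowers x) _
  have hrange : ∀ s : ZMod p, s ∈ squares p → ∃ g : N, (χ g : ZMod p) = s := by
    have h1 : D.m ≤ Nat.card χ.range := by
      have h2 := χ.ker.card_mul_index
      rw [Subgroup.index_ker, hNcard] at h2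
      have h3 : Nat.card χ.ker ≤ p := by
        refine (Subgroup.card_le_of_le hker).trans ?_
        rw [Nat.card_congr (Subgroup.subgroupOfEquivOfLe (Subgroup.zpowers_le.2 (by
          rw [hN, MulAction.mem_stabilizer_iff]; exact hxfix))).toEquiv, Nat.card_zpowers, hox]
      by_contra h
      push Not at h
      have : Nat.card χ.ker * Nat.card χ.range < p * D.m :=
        Nat.mul_lt_mul_of_le_of_lt h3 h hp'.pos
      omega
    have hm1 : ∀ g : N, (χ g : ZMod p) ^ D.m = 1 := by
      intro g
      have h2 : χ.ker.index ∣ D.m := by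
        have h3 := χ.ker.card_mul_index
        rw [hNcard] at h3
        have h4 : (Subgroup.zpowers x).subgroupOf N ≤ χ.ker := by
          rintro y hy
          obtain ⟨i, hi⟩ := Subgroup.mem_zpowers_iff.1 (Subgroup.mem_subgroupOf.1 hy)
          rw [MonoidHom.mem_ker]
          apply Units.ext
          show slope y y.2 = 1
          have hcomm : (y : G) * x * (y : G)⁻¹ = x := by
            rw [← hi]; group
          have h5 := (hslope y y.2).symm.trans (hcomm.trans (pow_one x).symm)
          rw [pow_eq_pow_iff_modEq, hox, ← ZMod.natCast_eq_natCast_iff] at h5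
          rwa [ZMod.natCast_zmod_val, Nat.cast_one] at h5
        have h6 : Nat.card χ.ker = p := by
          rw [le_antisymm hker h4, Nat.card_congr (Subgroup.subgroupOfEquivOfLe (Subgroup.zpowers_le.2 (by
            rw [hN, MulAction.mem_stabilizer_iff]; exact hxfix))).toEquiv, Nat.card_zpowers, hox]
        rw [h6] at h3
        rw [Nat.eq_of_mul_eq_mul_left hp'.pos h3]
      rw [Subgroup.index_ker] at h2
      have h7 : χ g ^ Nat.card χ.range = 1 :=
        congrArg Subtype.val (pow_card_eq_one' (x := (⟨χ g, g, rfl⟩ : χ.range)))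
      obtain ⟨c, hc⟩ := h2
      have h8 : χ g ^ D.m = 1 := by rw [hc, pow_mul, h7, one_pow]
      simpa using congrArg Units.val h8
    have himg : (Finset.univ.filter fun s : ZMod p => ∃ g : N, (χ g : ZMod p) = s) = (squares p).toFinset := by
      refine Finset.eq_of_subset_of_card_le (fun s hs => ?_) ?_
      · obtain ⟨g, rfl⟩ := (Finset.mem_filter.1 hs).2
        exact List.mem_toFinset.2 ((D.sq_iff _).1 ⟨Units.ne_zero _, hm1 g⟩)
      · rw [D.sq_card]
        refine h1.trans ?_
        rw [← Nat.card_eq_finsetCard]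
        refine Nat.card_le_card_of_injective
          (fun u : χ.range => ⟨((u : (ZMod p)ˣ) : ZMod p), by
            obtain ⟨g, hg⟩ := u.2
            exact Finset.mem_filter.2 ⟨Finset.mem_univ _, g, by rw [hg]⟩⟩) ?_
        intro u v huv
        exact Subtype.ext (Units.ext (congrArg Subtype.val huv))
    intro s hs
    have h9 : s ∈ (Finset.univ.filter fun s : ZMod p => ∃ g : N, (χ g : ZMod p) = s) := by
      rw [himg]; exact List.mem_toFinset.2 hs
    exact (Finset.mem_filter.1 h9).2
  have hNaff : ∀ g ∈ N, φ g none = none ∧ ∃ s ∈ squares p, ∃ t, ∀ y : ZMod p, φ g (some y) = some (s * y + t) := by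
    intro g hg
    obtain ⟨t, ht⟩ := hN0 g hg
    refine ⟨(hNmem g).1 hg, slope g hg, ?_, t, haff g hg t ht⟩
    refine (D.sq_iff _).1 ⟨hslope0 g hg, ?_⟩
    have h7 : χ ⟨g, hg⟩ ^ Nat.card χ.range = 1 :=
      congrArg Subtype.val (pow_card_eq_one' (x := (⟨χ ⟨g, hg⟩, ⟨g, hg⟩, rfl⟩ : χ.range)))
    have h8 : Nat.card χ.range = D.m := by
      have h3 := χ.ker.card_mul_index
      rw [Subgroup.index_ker, hNcard] at h3
      have h6 : Nat.card χ.ker ≤ p := by
        refine (Subgroup.card_le_of_le hker).trans ?_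
        rw [Nat.card_congr (Subgroup.subgroupOfEquivOfLe (Subgroup.zpowers_le.2 (by
          rw [hN, MulAction.mem_stabilizer_iff]; exact hxfix))).toEquiv, Nat.card_zpowers, hox]
      have h5 : Nat.card χ.range ≤ D.m := by
        rw [← D.sq_card, ← Nat.card_eq_finsetCard]
        refine Nat.card_le_card_of_injective
          (fun u : χ.range => ⟨((u : (ZMod p)ˣ) : ZMod p), ?_⟩) ?_
        · by_contra hne
          obtain ⟨g', hg'⟩ := u.2
          have : Nat.card χ.ker * Nat.card χ.range = p * D.m := h3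
          -- every slope occurring lies among the squares
          obtain ⟨q, hq⟩ : ∃ q : N, (χ q : ZMod p) = (u : (ZMod p)ˣ) := ⟨g', by rw [hg']⟩
          have h10 : Nat.card χ.ker = p := by
            refine le_antisymm h6 ?_
            have hx1 : (⟨x, by rw [hN, MulAction.mem_stabilizer_iff]; exact hxfix⟩ : N) ∈ χ.ker := by
              rw [MonoidHom.mem_ker]
              apply Units.ext
              show slope x _ = 1
              have h5 := (hslope x (by rw [hN, MulAction.mem_stabilizer_iff]; exact hxfix)).symm.trans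
                ((mul_inv_cancel_right x x).trans (pow_one x).symm)
              rw [pow_eq_pow_iff_modEq, hox, ← ZMod.natCast_eq_natCast_iff] at h5
              rwa [ZMod.natCast_zmod_val, Nat.cast_one] at h5
            have := Nat.le_of_dvd Nat.card_pos (orderOf_dvd_natCard (⟨_, hx1⟩ : χ.ker))
            rwa [Subgroup.orderOf_mk, Subgroup.orderOf_mk, hox] at this
          rw [h10] at this
          have hm' : Nat.card χ.range = D.m := Nat.eq_of_mul_eq_mul_left hp'.pos this
          apply hne
          refine List.mem_toFinset.2 ((D.sq_iff _).1 ⟨Units.ne_zero _, ?_⟩)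
          have h11 := congrArg Subtype.val (pow_card_eq_one' (x := u))
          rw [hm'] at h11
          simpa using congrArg Units.val h11
        · intro u v huv
          exact Subtype.ext (Units.ext (congrArg Subtype.val huv))
      by_contra hne
      have : Nat.card χ.ker * Nat.card χ.range < p * D.m :=
        Nat.mul_lt_mul_of_le_of_lt h6 (lt_of_le_of_ne h5 hne) hp'.pos
      omega
    rw [h8] at h7
    simpa [χ] using congrArg Units.val h7
  have hNall : ∀ σ : Equiv.Perm (Option (ZMod p)), σ none = none →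
      (∃ s ∈ squares p, ∃ t, ∀ y : ZMod p, σ (some y) = some (s * y + t)) → ∃ g ∈ N, φ g = σ := by
    rintro σ hσ ⟨s, hs, t, ht⟩
    obtain ⟨g, hg⟩ := hrange s hs
    obtain ⟨u, hu⟩ := hN0 g g.2
    refine ⟨x ^ (t - u).val * g, mul_mem (pow_mem (by
      rw [hN, MulAction.mem_stabilizer_iff]; exact hxfix) _) g.2, ?_⟩
    refine Equiv.ext fun o => ?_
    rw [map_mul, Equiv.Perm.mul_apply, ← hT]
    rcases o with _ | y
    · rw [(hNmem g).1 g.2, tPerm_none, hσ]
    · rw [haff g g.2 u hu, tPerm_some, ht]
      congr 1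
      rw [show slope g g.2 = s from hg]
      ring
  -- an element interchanging `0` and `∞`
  obtain ⟨w, hw0, hw1⟩ : ∃ w, φ w none = some 0 ∧ φ w (some 0) = none := by
    obtain ⟨g, hg⟩ := MulAction.exists_smul_eq G P₀ P₁
    have hg0 : φ g none = some 0 := hφeq _ _ _ (by
      change g • P₀ = x ^ (0 : ZMod p).val • P₁
      rw [ZMod.val_zero, pow_zero, one_smul, hg])
    obtain ⟨j, hj⟩ : ∃ j, φ g⁻¹ none = some j := by
      refine Option.ne_none_iff_exists'.1 fun h => ?_
      rw [map_inv, Equiv.Perm.inv_eq_iff_eq, hg0] at h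
      exact Option.some_ne_none _ h.symm
    refine ⟨g * x ^ j.val, ?_, ?_⟩
    · rw [map_mul, Equiv.Perm.mul_apply, ← hT, tPerm_none, hg0]
    · rw [map_mul, Equiv.Perm.mul_apply, ← hT, tPerm_some, zero_add, ← hj, map_inv]
      simp
  have hwsome : ∀ y : ZMod p, y ≠ 0 → ∃ z, z ≠ 0 ∧ φ w (some y) = some z := by
    intro y hy
    obtain ⟨z, hz⟩ : ∃ z, φ w (some y) = some z := Option.ne_none_iff_exists'.1 fun h =>
      hy (Option.some.inj ((φ w).injective (h.trans hw1.symm)))
    exact ⟨z, fun h => Option.some_ne_none _ ((φ w).injective ((h ▸ hz).trans hw0.symm)), hz⟩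
  have hfix0 : ∀ g, φ g none = none → φ g (some 0) = some 0 →
      ∃ s ∈ squares p, ∀ y : ZMod p, φ g (some y) = some (s * y) := by
    intro g h1 h2
    obtain ⟨-, s, hs, t, ht⟩ := hNaff g ((hNmem g).2 h1)
    have ht0 : t = 0 := by
      have := ht 0
      rw [h2, mul_zero, zero_add, Option.some.injEq] at this
      exact this.symm
    exact ⟨s, hs, fun y => by rw [ht, ht0, add_zero]⟩
  have hg0' : D.g ≠ 0 := ((D.sq_iff _).2 D.g_mem).1
  obtain ⟨h₀, hh₀N, hh₀⟩ := hNall (mPerm D.g hg0') (mPerm_none hg0') ⟨D.g, D.g_mem, 0, fun y => by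
    rw [mPerm_some hg0', add_zero]⟩
  obtain ⟨σ, hσsq, hσ⟩ := hfix0 (w * h₀ * w⁻¹)
    (by
      rw [map_mul, map_mul, map_inv, Equiv.Perm.mul_apply, Equiv.Perm.mul_apply,
        Equiv.Perm.inv_eq_iff_eq.2 hw1.symm, hh₀, mPerm_some, mul_zero, hw1])
    (by
      rw [map_mul, map_mul, map_inv, Equiv.Perm.mul_apply, Equiv.Perm.mul_apply,
        Equiv.Perm.inv_eq_iff_eq.2 hw0.symm, hh₀, mPerm_none, hw0])
  have hwmul : ∀ y z, φ w (some y) = some z → φ w (some (D.g * y)) = some (σ * z) := by
    intro y z hyz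
    rw [← hσ z, map_mul, map_mul, map_inv, Equiv.Perm.mul_apply, Equiv.Perm.mul_apply,
      Equiv.Perm.inv_eq_iff_eq.2 hyz.symm, hh₀, mPerm_some]
  have hwpow : ∀ (k : ℕ) y z, φ w (some y) = some z → φ w (some (D.g ^ k * y)) = some (σ ^ k * z) := by
    intro k
    induction k with
    | zero => intro y z h; simpa using h
    | succ k ih =>
      intro y z h
      rw [pow_succ', pow_succ', mul_assoc, mul_assoc]
      exact hwmul _ _ (ih y z h)
  obtain ⟨k, hkm, hk⟩ := D.g_gen σ hσsq
  obtain ⟨r, -, hr⟩ := hfix0 (w * w) (by rw [map_mul, Equiv.Perm.mul_apply, hw0, hw1])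
    (by rw [map_mul, Equiv.Perm.mul_apply, hw1, hw0])
  have hkk : σ ^ k = D.g := by
    obtain ⟨c, hc0, hc⟩ := hwsome 1 one_ne_zero
    obtain ⟨d, hd0, hd⟩ := hwsome c hc0
    have h1 := hr 1
    rw [map_mul, Equiv.Perm.mul_apply, hc, hd, Option.some.injEq, mul_one] at h1
    have h2 := hr D.g
    have h3 := hwmul 1 c hc
    rw [mul_one] at h3
    rw [map_mul, Equiv.Perm.mul_apply, h3, ← hk, hwpow k c d hd, Option.some.injEq, h1] at h2
    refine mul_right_cancel₀ (h1 ▸ hd0 : r ≠ 0) ?_
    linear_combination h2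
  have hcases : ∃ ex ∈ [1, p - 2], σ = D.g ^ ex := by
    rcases D.auto k hkm (by rw [hk]; exact hkk) with h | h
    · exact ⟨1, by simp, by rw [pow_one, ← hk, h]⟩
    · exact ⟨p - 2, by simp, by rw [← hk, h]⟩
  obtain ⟨ex, hex, hσex⟩ := hcases
  obtain ⟨cp, hcp0, hcp⟩ := hwsome 1 one_ne_zero
  obtain ⟨cn, hcn0, hcn⟩ := hwsome D.ν D.ν_not.1
  set cm := cn / D.ν ^ ex with hcm
  have hex0 : ex ≠ 0 := by
    have := hp'.two_le
    have := D.hm
    simp only [List.mem_cons, List.not_mem_nil, or_false] at hex
    omega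
  have hfun : ∀ o, φ w o = cand ex cp cm (squares p) o := by
    rintro (_ | y)
    · exact hw0
    by_cases hy : y = 0
    · subst hy; simpa [cand] using hw1
    by_cases hys : y ∈ squares p
    · obtain ⟨i, -, hi⟩ := D.g_gen y hys
      simp only [cand, hy, hys, if_false, if_true]
      rw [← hi, ← mul_one (D.g ^ i), hwpow i 1 cp hcp, mul_one, hσex, ← pow_mul, ← pow_mul, mul_comm ex i]
      congr 1
      ring
    · obtain ⟨i, -, hi⟩ := D.coset y hy hys
      simp only [cand, hy, hys, if_false]
      rw [← hi, mul_comm D.ν, hwpow i D.ν cn hcn, hσex, mul_pow, hcm, ← pow_mul, ← pow_mul, mul_comm ex i]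
      congr 1
      field_simp [D.ν_not.1]
  have hcm0 : cm ≠ 0 := div_ne_zero hcn0 (pow_ne_zero _ D.ν_not.1)
  -- the word is affine
  have hword : ∀ a : ZMod p, a ≠ 0 → IsAff (word (cand ex cp cm (squares p)) a) := by
    intro a ha
    obtain ⟨b, -, hb⟩ := hwsome a ha
    set g := w * x ^ (-b).val * w * x ^ a.val * w with hg
    have hgfun : ∀ o, φ g o = word (cand ex cp cm (squares p)) a o := by
      intro o
      rw [hg, map_mul, map_mul, map_mul, map_mul, Equiv.Perm.mul_apply, Equiv.Perm.mul_apply,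
        Equiv.Perm.mul_apply, Equiv.Perm.mul_apply, ← hT, ← hT]
      simp only [word, ← hfun, hb, tPerm_eq]
    have hgN : g ∈ N := by
      rw [hNmem, hgfun, word, ← hfun, hb]
      simp only [← hfun, hw0, tr, zero_add, hb, add_neg_cancel, hw1]
    obtain ⟨h1, s, hs, t, ht⟩ := hNaff g hgN
    exact ⟨(hgfun none) ▸ h1, s, hs, t, fun y => (hgfun _) ▸ ht y⟩
  have hgood : ex = p - 2 ∧ cp = cm ∧ -cp ∈ squares p := by
    have h := D.ok
    simp only [check, List.all_eq_true, List.mem_range] at h
    have hrep : ∀ c : ZMod p, c ≠ 0 → c.val - 1 < p - 1 ∧ ((c.val - 1 + 1 : ℕ) : ZMod p) = c := by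
      intro c hc
      have h1 : c.val ≠ 0 := fun h => hc ((ZMod.val_eq_zero c).1 h)
      have h2 := ZMod.val_lt c
      refine ⟨by omega, ?_⟩
      rw [show c.val - 1 + 1 = c.val by omega, ZMod.natCast_zmod_val]
    obtain ⟨hi, hi'⟩ := hrep cp hcp0
    obtain ⟨hj, hj'⟩ := hrep cm hcm0
    have h' := h ex hex _ hi _ hj
    rw [hi', hj'] at h'
    simp only [Bool.or_eq_true, Bool.and_eq_true, beq_iff_eq, List.contains_iff_mem, List.any_eq_true,
      Bool.not_eq_true'] at h'
    rcases h' with ⟨⟨h1, h2⟩, h3⟩ | ⟨a, ha, hbad⟩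
    · exact ⟨h1, h2, h3⟩
    · exfalso
      rw [List.mem_range] at ha
      have ha0 : ((a + 1 : ℕ) : ZMod p) ≠ 0 := by
        rw [Ne, ZMod.natCast_eq_zero_iff]
        intro hd
        have := Nat.le_of_dvd (Nat.succ_pos a) hd
        omega
      rw [affB_of_isAff (hword _ ha0)] at hbad
      exact Bool.noConfusion hbad
  obtain ⟨hex2, hcc, hneg⟩ := hgood
  -- the images agree
  have hrangeφ : φ.range = G₀ p := by
    have hsn : -cp ≠ 0 := neg_ne_zero.2 hcp0
    have hinv : (-cp)⁻¹ ∈ squares p := (D.sq_iff _).1 ⟨inv_ne_zero hsn, by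
      rw [inv_pow, ((D.sq_iff _).2 hneg).2, inv_one]⟩
    obtain ⟨h₁, hh₁N, hh₁⟩ := hNall (mPerm (-cp)⁻¹ (inv_ne_zero hsn)) (mPerm_none _)
      ⟨(-cp)⁻¹, hinv, 0, fun y => by rw [mPerm_some, add_zero]⟩
    have hw' : φ w = wPerm p * φ h₁ := by
      rw [hh₁]
      refine Equiv.ext fun o => ?_
      rw [hfun, Equiv.Perm.mul_apply, hex2, ← hcc]
      rcases o with _ | y
      · rw [mPerm_none]; rfl
      · rw [mPerm_some]
        show cand (p - 2) cp cp (squares p) (some y) = negInv p (some ((-cp)⁻¹ * y))
        by_cases hy : y = 0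
        · simp [cand, negInv, hy]
        · simp only [cand, negInv, hy, mul_eq_zero, inv_eq_zero, hsn, or_self, if_false, ite_self]
          congr 1
          rw [mul_inv, inv_inv, neg_mul, neg_neg]
          congr 1
          exact (eq_inv_of_mul_eq_one_right (D.inv_pow y hy))
    have hwmem : wPerm p ∈ φ.range := by
      refine ⟨w * h₁⁻¹, ?_⟩
      rw [map_mul, map_inv, hw', mul_inv_cancel_right]
    have hNG : ∀ g ∈ N, φ g ∈ G₀ p := fun g hg => Subgroup.subset_closure (Or.inl (hNaff g hg))
    refine le_antisymm ?_ ((Subgroup.closure_le _).2 ?_)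
    · rintro _ ⟨g, rfl⟩
      have hwG : φ w ∈ G₀ p := by
        rw [hw']; exact mul_mem (Subgroup.subset_closure (Or.inr rfl)) (hNG _ hh₁N)
      have hxG : ∀ i : ℕ, φ (x ^ i) ∈ G₀ p := fun i =>
        hNG _ (pow_mem (by rw [hN, MulAction.mem_stabilizer_iff]; exact hxfix) i)
      rcases ho : φ g none with _ | y
      · exact hNG g ((hNmem g).2 ho)
      · have hn' : (x ^ y.val * w)⁻¹ * g ∈ N := by
          rw [hNmem, map_mul, map_inv, Equiv.Perm.mul_apply, ho, Equiv.Perm.inv_eq_iff_eq, map_mul,
            Equiv.Perm.mul_apply, hw0, ← hT, tPerm_some, zero_add]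
        have := mul_mem (mul_mem (hxG y.val) hwG) (hNG _ hn')
        rwa [← map_mul, ← map_mul, mul_inv_cancel_left] at this
    · rintro σ (⟨h1, h2⟩ | rfl)
      · obtain ⟨g, -, hg⟩ := hNall σ h1 h2
        exact ⟨g, hg⟩
      · exact hwmem
  exact ⟨(MonoidHom.ofInjective hφinj).trans (MulEquiv.subgroupCongr hrangeφ)⟩

local instance fact_eleven : Fact (Nat.Prime 11) := ⟨by norm_num⟩

set_option maxRecDepth 100000 in
/-- The data for `p = 11`. -/
noncomputable def data11 : Data 11 where
  m := 5
  g := 4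
  ν := 2
  hm := rfl
  hdiv := by
    intro d hd h1
    have key : ∀ d ∈ Nat.divisors 60, d % 11 = 1 → d = 1 ∨ d = 11 + 1 := by decide
    exact key d (Nat.mem_divisors.2 ⟨hd, by norm_num⟩) h1
  sq_iff := by decide
  sq_card := by decide
  g_mem := by decide
  g_gen := by decide
  ν_not := by decide
  coset := by decide
  inv_pow := by decide
  auto := by decide
  ok := by decide +kernel

local instance fact_thirteen : Fact (Nat.Prime 13) := ⟨by norm_num⟩

set_option maxRecDepth 100000 in
/-- The data for `p = 13`. -/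
noncomputable def data13 : Data 13 where
  m := 6
  g := 4
  ν := 2
  hm := rfl
  hdiv := by
    intro d hd h1
    have key : ∀ d ∈ Nat.divisors 84, d % 13 = 1 → d = 1 ∨ d = 13 + 1 := by decide
    exact key d (Nat.mem_divisors.2 ⟨hd, by norm_num⟩) h1
  sq_iff := by decide
  sq_card := by decide
  g_mem := by decide
  g_gen := by decide
  ν_not := by decide
  coset := by decide
  inv_pow := by decide
  auto := by decide
  ok := by decide +kernel

end Cfsg.Agent.Small.ProjLine
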