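import Cfsg.Agent.Lib.Small.Order168

/-!
# Classes and Sylow 2-subgroups of a simple group of order 168
-/

set_option autoImplicit false
set_option linter.unusedSectionVars false

namespace Cfsg.Agent.Small.Order168

open Subgroup
open scoped Pointwise

variable {G : Type*} [Group G] [Finite G] [IsSimpleGroup G] (h : Nat.card G = 168)
include h

theorem count3 : Nat.card {g : G // orderOf g = 3} = 56 := by
  haveI : Fact (Nat.Prime 3) := ⟨Nat.prime_three⟩
  rw [count_order_p (card_P3 h), card_sylow3 h]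

theorem count7 : Nat.card {g : G // orderOf g = 7} = 48 := by
  haveI : Fact (Nat.Prime 7) := ⟨by norm_num⟩
  rw [count_order_p (card_P7 h), card_sylow7 h]

omit h in
theorem sylow_conj_mem {p : ℕ} [Fact p.Prime] (g : G) (T : Sylow p G) (x : G) :
    x ∈ ((g • T : Sylow p G) : Subgroup G) ↔ g⁻¹ * x * g ∈ (T : Subgroup G) := by
  rw [Sylow.coe_subgroup_smul]
  show x ∈ MulAut.conj g • (T : Subgroup G) ↔ _
  rw [Subgroup.mem_pointwise_smul_iff_inv_smul_mem, MulAut.smul_def, MulAut.inv_apply, MulAut.conj_symm_apply]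

/-- An element of order four lies in exactly one Sylow 2-subgroup. -/
theorem sylow_unique [Fact (Nat.Prime 2)] {T U : Sylow 2 G} {x : G} (hx : orderOf x = 4)
    (hT : x ∈ (T : Subgroup G)) (hU : x ∈ (U : Subgroup G)) : T = U := by
  have key : ∀ S : Sylow 2 G, x ∈ (S : Subgroup G) → centralizer ({x * x} : Set G) = S := fun S hS => by
    obtain ⟨z, -, -, hC, -, hsq⟩ := exists_center h S
    rcases hsq x hS with e | e
    · exfalso
      have := orderOf_dvd_of_pow_eq_one (show x ^ 2 = 1 by rw [pow_two, e])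
      rw [hx] at this
      norm_num at this
    · rw [e, hC]
  exact Sylow.ext ((key T hT).symm.trans (key U hU))

/-- There are 21 involutions, each central in exactly one Sylow 2-subgroup, and 42 elements of order four. -/
theorem count24 :
    Nat.card {g : G // orderOf g = 2} = 21 ∧ Nat.card {g : G // orderOf g = 4} = 42 ∧
      (∀ s : G, orderOf s = 2 → ∃ T : Sylow 2 G, centralizer ({s} : Set G) = T) ∧
      ∀ [Fact (Nat.Prime 2)] (T : Sylow 2 G), ∃ r ∈ (T : Subgroup G), orderOf r = 4 ∧
        ∀ x ∈ (T : Subgroup G), orderOf x = 4 → x = r ∨ x = r⁻¹ := by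
  classical
  haveI : Fact (Nat.Prime 2) := ⟨Nat.prime_two⟩
  have := Fintype.ofFinite G
  have := Fintype.ofFinite (Sylow 2 G)
  choose z hzT hzo hzC hzu hzsq using fun T : Sylow 2 G => exists_center h T
  -- the central involutions
  let f : Sylow 2 G → {g : G // orderOf g = 2} := fun T => ⟨z T, hzo T⟩
  have hf : Function.Injective f := fun T U e => Sylow.ext (by
    rw [← hzC T, ← hzC U, show z T = z U from congrArg Subtype.val e])
  have h21 : 21 ≤ Nat.card {g : G // orderOf g = 2} := card_sylow2 h ▸ Nat.card_le_card_of_injective f hf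
  -- elements of order four
  obtain ⟨T₀⟩ : Nonempty (Sylow 2 G) := inferInstance
  obtain ⟨m, hm⟩ : ∃ m, m = Nat.card {x : G // orderOf x = 4 ∧ x ∈ (T₀ : Subgroup G)} := ⟨_, rfl⟩
  have hfib : ∀ T : Sylow 2 G, Nat.card {x : G // orderOf x = 4 ∧ x ∈ (T : Subgroup G)} = m := by
    intro T
    obtain ⟨g, rfl⟩ := MulAction.exists_smul_eq G T₀ T
    rw [hm]
    refine (Nat.card_congr ((MulAut.conj g).toEquiv.subtypeEquiv fun x => ?_)).symm
    show _ ↔ orderOf (MulAut.conj g x) = 4 ∧ MulAut.conj g x ∈ _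
    rw [MulEquiv.orderOf_eq, sylow_conj_mem, MulAut.conj_apply,
      show g⁻¹ * (g * x * g⁻¹) * g = x by group]
  have hlies : ∀ x : G, orderOf x = 4 → ∃ T : Sylow 2 G, x ∈ (T : Subgroup G) := fun x hx => by
    obtain ⟨T, hT⟩ := (IsPGroup.of_card (n := 2) (by rw [Nat.card_zpowers, hx]; norm_num) :
      IsPGroup 2 (zpowers x)).exists_le_sylow
    exact ⟨T, hT (mem_zpowers x)⟩
  choose TT hTT using hlies
  let e4 : {x : G // orderOf x = 4} ≃ Σ T : Sylow 2 G, {x : G // orderOf x = 4 ∧ x ∈ (T : Subgroup G)} :=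
    { toFun := fun x => ⟨TT x.1 x.2, x.1, x.2, hTT _ _⟩
      invFun := fun y => ⟨y.2.1, y.2.2.1⟩
      left_inv := fun x => rfl
      right_inv := by
        rintro ⟨T, x, hx, hxT⟩
        have e := sylow_unique h hx (hTT x hx) hxT
        subst e
        rfl }
  have hc4 : Nat.card {g : G // orderOf g = 4} = 21 * m := by
    rw [Nat.card_congr e4, Nat.card_sigma, Finset.sum_congr rfl fun T _ => hfib T, Finset.sum_const, Finset.card_univ,
      smul_eq_mul, ← Nat.card_eq_fintype_card, card_sylow2 h]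
  -- the total
  have htot : 1 + Nat.card {g : G // orderOf g = 2} + 56 + Nat.card {g : G // orderOf g = 4} + 48 = 168 := by
    rw [← count3 h, ← count7 h, ← h, Nat.card_eq_fintype_card, Nat.card_eq_fintype_card, Nat.card_eq_fintype_card,
      Nat.card_eq_fintype_card, Nat.card_eq_fintype_card, Fintype.card_subtype, Fintype.card_subtype,
      Fintype.card_subtype, Fintype.card_subtype]
    have hcount := Finset.card_eq_sum_card_fiberwise (f := fun g : G => orderOf g) (s := Finset.univ)
      (t := ({1, 2, 3, 4, 7} : Finset ℕ)) (fun g _ => by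
        have := orders h g
        simp only [Finset.coe_insert, Finset.coe_singleton, Set.mem_insert_iff, Set.mem_singleton_iff]
        exact this)
    rw [Finset.sum_insert (by decide), Finset.sum_insert (by decide), Finset.sum_insert (by decide),
      Finset.sum_insert (by decide), Finset.sum_singleton, Finset.card_univ] at hcount
    have h1 : (Finset.univ.filter fun g : G => orderOf g = 1).card = 1 := by
      rw [Finset.card_eq_one]
      exact ⟨1, Finset.ext fun g => by simp⟩
    omega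
  have hm2 : m ≤ 2 := by omega
  -- an element of order four in each Sylow subgroup
  have hr : ∀ T : Sylow 2 G, ∃ r ∈ (T : Subgroup G), orderOf r = 4 := fun T => by
    by_contra hne
    push Not at hne
    refine not_comm h T fun a b => ?_
    have hsq : ∀ x : (T : Subgroup G), x * x = 1 := fun x => Subtype.ext (by
      rcases hzsq T x x.2 with e | e
      · exact e
      · exfalso
        refine hne x x.2 ?_
        rw [orderOf_eq_iff (by norm_num)]
        refine ⟨?_, fun k hk hk0 hkk => ?_⟩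
        · rw [show (4 : ℕ) = 2 * 2 from rfl, pow_mul, pow_two (x : G), e, ← hzo T, pow_orderOf_eq_one]
        · have hz1 : z T ≠ 1 := fun e1 => by have := hzo T; rw [e1, orderOf_one] at this; omega
          have hxx : orderOf (x : G) ∣ k := orderOf_dvd_of_pow_eq_one hkk
          have h4 : orderOf (x : G) ∣ 4 := orderOf_dvd_of_pow_eq_one (by
            rw [show (4 : ℕ) = 2 * 2 from rfl, pow_mul, pow_two (x : G), e, ← hzo T, pow_orderOf_eq_one])
          have hle := Nat.le_of_dvd hk0 hxx
          obtain ⟨j, -, hj⟩ := (Nat.dvd_prime_pow Nat.prime_two (m := 2)).1 h4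
          have hj2 : j < 2 := by
            by_contra hc
            have := Nat.pow_le_pow_right (show 0 < 2 by norm_num) (show 2 ≤ j by omega)
            omega
          have h2 : orderOf (x : G) ∣ 2 := by rw [hj]; exact pow_dvd_pow 2 (show j ≤ 1 by omega)
          exact hz1 (by rw [← e, ← pow_two, orderOf_dvd_iff_pow_eq_one.1 h2]))
    have inv : ∀ x : (T : Subgroup G), x⁻¹ = x := fun x => inv_eq_of_mul_eq_one_left (hsq x)
    calc a * b = (a * b)⁻¹ := (inv _).symm
      _ = b * a := by rw [_root_.mul_inv_rev, inv a, inv b]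
  choose r hrT hro using hr
  have hrne : ∀ T, r T ≠ (r T)⁻¹ := fun T e => by
    have := orderOf_dvd_of_pow_eq_one (show r T ^ 2 = 1 by rw [pow_two]; exact mul_eq_one_iff_eq_inv.2 e)
    rw [hro] at this
    norm_num at this
  have hm' : m = 2 := by
    refine le_antisymm hm2 ?_
    rw [hm, Nat.card_eq_fintype_card, Fintype.card_subtype]
    calc 2 = ({r T₀, (r T₀)⁻¹} : Finset G).card := (Finset.card_pair (hrne T₀)).symm
      _ ≤ _ := Finset.card_le_card fun x hx => by
        simp only [Finset.mem_insert, Finset.mem_singleton] at hx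
        rcases hx with rfl | rfl
        · exact Finset.mem_filter.2 ⟨Finset.mem_univ _, hro _, hrT _⟩
        · exact Finset.mem_filter.2 ⟨Finset.mem_univ _, by rw [orderOf_inv, hro], inv_mem (hrT _)⟩
  refine ⟨by omega, by omega, fun s hs => ?_, fun {_} T => ⟨r T, hrT T, hro T, fun x hx hxo => ?_⟩⟩
  · obtain ⟨T, hT⟩ := ((Nat.bijective_iff_injective_and_card f).2 ⟨hf, by rw [card_sylow2 h]; omega⟩).2 ⟨s, hs⟩
    exact ⟨T, by rw [← hzC T, show z T = s from congrArg Subtype.val hT]⟩
  · by_contra hne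
    push Not at hne
    have h3 : 3 ≤ m := by
      rw [← hfib T, Nat.card_eq_fintype_card, Fintype.card_subtype]
      calc 3 = ({x, r T, (r T)⁻¹} : Finset G).card := by
            rw [Finset.card_insert_of_notMem (by simp [hne.1, hne.2]), Finset.card_pair (hrne T)]
        _ ≤ _ := Finset.card_le_card fun y hy => by
          simp only [Finset.mem_insert, Finset.mem_singleton] at hy
          rcases hy with rfl | rfl | rfl
          · exact Finset.mem_filter.2 ⟨Finset.mem_univ _, hxo, hx⟩
          · exact Finset.mem_filter.2 ⟨Finset.mem_univ _, hro _, hrT _⟩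
          · exact Finset.mem_filter.2 ⟨Finset.mem_univ _, by rw [orderOf_inv, hro], inv_mem (hrT _)⟩
    omega

/-- Coordinates in a Sylow 2-subgroup. -/
theorem frame [Fact (Nat.Prime 2)] (T : Sylow 2 G) :
    ∃ r s : G, r ∈ (T : Subgroup G) ∧ s ∈ (T : Subgroup G) ∧ orderOf r = 4 ∧ s ∉ zpowers r ∧
      (∀ x ∈ (T : Subgroup G), x ∈ zpowers r ∨ orderOf x = 2) ∧ s * r * s⁻¹ = r⁻¹ ∧
      centralizer ({r * r} : Set G) = T ∧ orderOf (r * r) = 2 := by
  obtain ⟨-, -, -, hall⟩ := count24 h
  obtain ⟨r, hr, hro, hu⟩ := hall T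
  obtain ⟨z, -, hz2, hC, -, hsq⟩ := exists_center h T
  have hout : ∀ x ∈ (T : Subgroup G), x ∈ zpowers r ∨ orderOf x = 2 := fun x hx => by
    by_cases hxr : x ∈ zpowers r
    · exact Or.inl hxr
    refine Or.inr ?_
    rcases orders h x with e | e | e | e | e
    · exact absurd (orderOf_eq_one_iff.1 e ▸ one_mem _) hxr
    · exact e
    · have := Subgroup.orderOf_mk x hx ▸ _root_.orderOf_dvd_natCard (⟨x, hx⟩ : (T : Subgroup G))
      rw [card_P2 h, e] at this; norm_num at this
    · rcases hu x hx e with rfl | rfl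
      · exact absurd (mem_zpowers x) hxr
      · exact absurd (inv_mem (mem_zpowers r)) hxr
    · have := Subgroup.orderOf_mk x hx ▸ _root_.orderOf_dvd_natCard (⟨x, hx⟩ : (T : Subgroup G))
      rw [card_P2 h, e] at this; norm_num at this
  obtain ⟨s, hs, hsr⟩ := SetLike.exists_of_lt (lt_of_le_of_ne (zpowers_le.2 hr : zpowers r ≤ (T : Subgroup G)) fun e => by
    have := congrArg (fun H : Subgroup G => Nat.card H) e
    rw [Nat.card_zpowers, hro, card_P2 h] at this
    omega)
  have hso : orderOf s = 2 := (hout s hs).resolve_left hsr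
  have hrr : r * r = z := by
    rcases hsq r hr with e | e
    · have := orderOf_dvd_of_pow_eq_one (show r ^ 2 = 1 by rw [pow_two, e])
      rw [hro] at this
      norm_num at this
    · exact e
  refine ⟨r, s, hr, hs, hro, hsr, hout, ?_, by rw [hrr, hC], by rw [hrr, hz2]⟩
  rcases hu (s * r * s⁻¹) (mul_mem (mul_mem hs hr) (inv_mem hs))
    (by rw [← MulAut.conj_apply, MulEquiv.orderOf_eq, hro]) with e | e
  · exfalso
    -- then `T` would be abelian
    have hsr2 : orderOf (s * r) = 2 := (hout _ (mul_mem hs hr)).resolve_left fun hm => hsr (by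
      simpa using mul_mem hm (inv_mem (mem_zpowers r)))
    have hc : Commute s r := mul_inv_eq_iff_eq_mul.1 e
    have := orderOf_dvd_iff_pow_eq_one.1 hsr2.dvd
    rw [hc.mul_pow, orderOf_dvd_iff_pow_eq_one.1 hso.dvd, one_mul] at this
    have := orderOf_dvd_of_pow_eq_one this
    rw [hro] at this
    norm_num at this
  · exact e

theorem dihedral [Fact (Nat.Prime 2)] (T : Sylow 2 G) :
    Nonempty (↥(T : Subgroup G) ≃* DihedralGroup 4) := by
  obtain ⟨r, s, hr, hs, hro, hsr, hout, hconj, -, -⟩ := frame h T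
  have hso : orderOf s = 2 := (hout s hs).resolve_left hsr
  have hsr2 : orderOf (s * r) = 2 := (hout _ (mul_mem hs hr)).resolve_left fun hm => hsr (by
    simpa using mul_mem hm (inv_mem (mem_zpowers r)))
  have hne : s ≠ s * r := fun e => by
    have : r = 1 := mul_left_cancel (a := s) (by rw [mul_one]; exact e.symm)
    rw [this, orderOf_one] at hro; omega
  obtain ⟨e⟩ := Fusion.closure_pair_equiv_dihedral hso hsr2 hne
  have hmul : s * (s * r) = r := by rw [← mul_assoc, Fusion.invol_mul_self hso, one_mul]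
  rw [hmul, hro] at e
  have heq : closure ({s, s * r} : Set G) = T := by
    refine eq_of_le_of_card_ge ((closure_le _).2 ?_) ?_
    · rintro x (rfl | rfl)
      · exact hs
      · exact mul_mem hs hr
    · rw [card_P2 h, Nat.card_congr e.toEquiv, DihedralGroup.nat_card]
  exact ⟨(MulEquiv.subgroupCongr heq).symm.trans e⟩

/-- A central element of a Sylow 2-subgroup has that subgroup as centraliser. -/
theorem centralizer_eq [Fact (Nat.Prime 2)] (T : Sylow 2 G) {z : G} (hz : z ∈ (T : Subgroup G)) (hz1 : z ≠ 1)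
    (hc : ∀ t ∈ (T : Subgroup G), t * z = z * t) : centralizer ({z} : Set G) = T := by
  obtain ⟨z₀, -, -, hC, hu, -⟩ := exists_center h T
  rw [(hu z hz hc).resolve_left hz1, hC]

theorem conj_two (s t : G) (hs : orderOf s = 2) (ht : orderOf t = 2) : IsConj s t := by
  haveI : Fact (Nat.Prime 2) := ⟨Nat.prime_two⟩
  obtain ⟨-, -, hall, -⟩ := count24 h
  obtain ⟨S, hS⟩ := hall s hs
  obtain ⟨T, hT⟩ := hall t ht
  obtain ⟨g, hg⟩ := MulAction.exists_smul_eq G S T
  obtain ⟨z, -, -, -, hu, -⟩ := exists_center h T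
  have hmemC : ∀ (a : G) (U : Sylow 2 G), centralizer ({a} : Set G) = U → a ∈ (U : Subgroup G) ∧
      ∀ u ∈ (U : Subgroup G), u * a = a * u := fun a U e =>
    ⟨e ▸ mem_centralizer_singleton_iff.2 rfl, fun u hu => mem_centralizer_singleton_iff.1 (e.symm ▸ hu)⟩
  obtain ⟨hsS, hsc⟩ := hmemC s S hS
  obtain ⟨htT, htc⟩ := hmemC t T hT
  have h1 : g * s * g⁻¹ ∈ (T : Subgroup G) := by
    rw [← hg, sylow_conj_mem, show g⁻¹ * (g * s * g⁻¹) * g = s by group]
    exact hsS
  have h2 : ∀ u ∈ (T : Subgroup G), u * (g * s * g⁻¹) = g * s * g⁻¹ * u := fun u hu => by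
    rw [← hg, sylow_conj_mem] at hu
    have := hsc _ hu
    calc u * (g * s * g⁻¹) = g * (g⁻¹ * u * g * s) * g⁻¹ := by group
      _ = g * s * g⁻¹ * u := by rw [this]; group
  have h3 : g * s * g⁻¹ ≠ 1 := fun e => by
    rw [mul_inv_eq_one, mul_eq_left] at e
    rw [e, orderOf_one] at hs; omega
  have h4 : t ≠ 1 := fun e => by rw [e, orderOf_one] at ht; omega
  exact isConj_iff.2 ⟨g, ((hu _ h1 h2).resolve_left h3).trans ((hu t htT htc).resolve_left h4).symm⟩

theorem conj_four (x y : G) (hx : orderOf x = 4) (hy : orderOf y = 4) : IsConj x y := by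
  haveI : Fact (Nat.Prime 2) := ⟨Nat.prime_two⟩
  have hp : ∀ a : G, orderOf a = 4 → ∃ T : Sylow 2 G, a ∈ (T : Subgroup G) := fun a ha => by
    obtain ⟨T, hT⟩ := (IsPGroup.of_card (n := 2) (by rw [Nat.card_zpowers, ha]; norm_num) :
      IsPGroup 2 (zpowers a)).exists_le_sylow
    exact ⟨T, hT (mem_zpowers a)⟩
  obtain ⟨S, hS⟩ := hp x hx
  obtain ⟨T, hT⟩ := hp y hy
  obtain ⟨g, hg⟩ := MulAction.exists_smul_eq G S T
  obtain ⟨r, s, hr, hs, hro, -, -, hconj, -, -⟩ := frame h T
  obtain ⟨-, -, -, hall⟩ := count24 h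
  obtain ⟨r', hr', -, hu⟩ := hall T
  have key : ∀ a ∈ (T : Subgroup G), orderOf a = 4 → IsConj r a := fun a ha hao => by
    have hne : r ≠ r⁻¹ := fun e => by
      have := orderOf_dvd_of_pow_eq_one (show r ^ 2 = 1 by rw [pow_two]; exact mul_eq_one_iff_eq_inv.2 e)
      rw [hro] at this; norm_num at this
    have hcases : a = r ∨ a = r⁻¹ := by
      rcases hu a ha hao with ha' | ha' <;> rcases hu r hr hro with hr' | hr' <;> simp [ha', hr']
    rcases hcases with rfl | rfl
    · exact IsConj.refl _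
    · exact isConj_iff.2 ⟨s, hconj⟩
  have h1 : g * x * g⁻¹ ∈ (T : Subgroup G) := by
    rw [← hg, sylow_conj_mem, show g⁻¹ * (g * x * g⁻¹) * g = x by group]
    exact hS
  exact (isConj_iff.2 ⟨g, rfl⟩ : IsConj x (g * x * g⁻¹)).trans
    (((key _ h1 (by rw [← MulAut.conj_apply, MulEquiv.orderOf_eq, hx])).symm).trans (key y hT hy))

omit h in
/-- Conjugates correspond to cosets of the centraliser. -/
theorem card_conj (x : G) : Nat.card {g : G // IsConj x g} * Nat.card (centralizer ({x} : Set G)) = Nat.card G := by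
  rw [mul_comm, ← Subgroup.card_mul_index (centralizer ({x} : Set G))]
  congr 1
  refine (Nat.card_eq_of_bijective (Quotient.lift (fun a : G => (⟨a * x * a⁻¹, isConj_iff.2 ⟨a, rfl⟩⟩ : {g : G // IsConj x g}))
    fun a b hab => Subtype.ext ?_) ⟨?_, ?_⟩).symm
  · have := mem_centralizer_singleton_iff.1 (QuotientGroup.leftRel_apply.1 hab)
    calc a * x * a⁻¹ = a * (x * (a⁻¹ * b)) * b⁻¹ := by group
      _ = b * x * b⁻¹ := by rw [← this]; group
  · intro a b
    induction a using Quotient.ind with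
    | _ a =>
      induction b using Quotient.ind with
      | _ b =>
        intro e
        have e1 : a * x * a⁻¹ = b * x * b⁻¹ := congrArg Subtype.val e
        refine QuotientGroup.eq.2 (mem_centralizer_singleton_iff.2 ?_)
        calc a⁻¹ * b * x = a⁻¹ * (b * x * b⁻¹) * b := by group
          _ = x * (a⁻¹ * b) := by rw [← e1]; group
  · rintro ⟨y, hy⟩
    obtain ⟨a, rfl⟩ := isConj_iff.1 hy
    exact ⟨Quotient.mk'' a, rfl⟩

theorem seven {x : G} (hx : orderOf x = 7) : Nat.card {g : G // IsConj x g} = 24 ∧ ¬ IsConj x x⁻¹ := by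
  haveI : Fact (Nat.Prime 7) := ⟨by norm_num⟩
  refine ⟨?_, fun hc => ?_⟩
  · have := card_conj x
    rw [card_C7 h hx, h] at this
    omega
  obtain ⟨g, hg⟩ := isConj_iff.1 hc
  -- the square of the conjugating element centralises
  have h2 : g ^ 2 * x * (g ^ 2)⁻¹ = x := by
    calc g ^ 2 * x * (g ^ 2)⁻¹ = g * (g * x * g⁻¹) * g⁻¹ := by simp only [pow_two, _root_.mul_inv_rev, mul_assoc]
      _ = x := by rw [hg, show g * x⁻¹ * g⁻¹ = (g * x * g⁻¹)⁻¹ by group, hg, inv_inv]
  have hd : orderOf (g ^ 2) ∣ 7 := by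
    rw [← card_C7 h hx, ← orderOf_mk (g ^ 2) (mem_centralizer_singleton_iff.2 (mul_inv_eq_iff_eq_mul.1 h2))]
    exact _root_.orderOf_dvd_natCard _
  have hxne : x ≠ x⁻¹ := fun e => by
    have := orderOf_dvd_of_pow_eq_one (show x ^ 2 = 1 by rw [pow_two]; exact mul_eq_one_iff_eq_inv.2 e)
    rw [hx] at this; norm_num at this
  have h14 : g ^ 14 = 1 := by rw [show 14 = 2 * 7 from rfl, pow_mul]; exact orderOf_dvd_iff_pow_eq_one.1 hd
  have hd14 := orderOf_dvd_of_pow_eq_one h14
  rcases orders h g with e | e | e | e | e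
  · rw [orderOf_eq_one_iff.1 e, one_mul, inv_one, mul_one] at hg
    exact hxne hg
  · -- an involution inverting `x` normalises its Sylow subgroup, whose normaliser has odd order
    obtain ⟨P, hP⟩ := exists_sylow_zpowers hx (card_P7 h)
    have hgN : g ∈ normalizer ((P : Subgroup G) : Set G) := by
      rw [hP, mem_normalizer_iff]
      intro y
      have hg1 : ∀ k : ℤ, g * x ^ k * g⁻¹ = x ^ (-k) := fun k => by rw [← conj_zpow, hg, inv_zpow, zpow_neg]
      constructor
      · intro hy
        obtain ⟨k, rfl⟩ := mem_zpowers_iff.1 hy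
        exact hg1 k ▸ zpow_mem (mem_zpowers x) _
      · intro hy
        obtain ⟨k, hk⟩ := mem_zpowers_iff.1 hy
        have : y = x ^ (-k) := by
          rw [← mul_left_inj g⁻¹, ← mul_right_inj g, ← mul_assoc, ← mul_assoc, hg1, neg_neg, hk]
        exact this ▸ zpow_mem (mem_zpowers x) _
    have := orderOf_mk g hgN ▸ _root_.orderOf_dvd_natCard (⟨g, hgN⟩ : normalizer ((P : Subgroup G) : Set G))
    rw [card_N7 h, e] at this
    norm_num at this
  · rw [e] at hd14; norm_num at hd14
  · rw [e] at hd14; norm_num at hd14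
  · -- an element of order seven is a power of its square
    have : g ∈ centralizer ({x} : Set G) := by
      have e1 : g = (g ^ 2) ^ 4 := by
        rw [← pow_mul, show 2 * 4 = 7 + 1 from rfl, pow_succ, ← e, pow_orderOf_eq_one, one_mul]
      rw [e1]
      exact pow_mem (mem_centralizer_singleton_iff.2 (mul_inv_eq_iff_eq_mul.1 h2)) 4
    rw [mem_centralizer_singleton_iff.1 this, mul_inv_cancel_right] at hg
    exact hxne hg

theorem conj_three (s t : G) (hs : orderOf s = 3) (ht : orderOf t = 3) : IsConj s t := by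
  haveI : Fact (Nat.Prime 3) := ⟨Nat.prime_three⟩
  obtain ⟨S, hS⟩ := exists_sylow_zpowers hs (card_P3 h)
  obtain ⟨T, hT⟩ := exists_sylow_zpowers ht (card_P3 h)
  obtain ⟨g, hg⟩ := MulAction.exists_smul_eq G S T
  have hmem : g * s * g⁻¹ ∈ zpowers t := by
    rw [← hT, ← hg, sylow_conj_mem, show g⁻¹ * (g * s * g⁻¹) * g = s by group, hS]
    exact mem_zpowers s
  have hz : ∀ y ∈ zpowers t, orderOf y = 3 → y = t ∨ y = t⁻¹ := fun y hy hyo => by
    obtain ⟨k, rfl⟩ := mem_zpowers_iff.1 hy
    rw [← zpow_mod_orderOf t k, ht] at hyo ⊢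
    have h1 := Int.emod_nonneg k (show ((3 : ℕ) : ℤ) ≠ 0 by norm_num)
    have h2 := Int.emod_lt_of_pos k (show (0 : ℤ) < ((3 : ℕ) : ℤ) by norm_num)
    obtain ⟨j, hj⟩ : ∃ j, k % ((3 : ℕ) : ℤ) = j := ⟨_, rfl⟩
    rw [hj] at h1 h2 hyo ⊢
    interval_cases j
    · rw [zpow_zero, orderOf_one] at hyo; omega
    · exact Or.inl (zpow_one t)
    · refine Or.inr (eq_inv_of_mul_eq_one_left ?_)
      rw [← zpow_add_one, show (2 : ℤ) + 1 = ((3 : ℕ) : ℤ) by norm_num, zpow_natCast, ← ht, pow_orderOf_eq_one]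
  -- `t` is conjugate to its inverse
  obtain ⟨n, hn, hnC⟩ : ∃ n ∈ normalizer ((T : Subgroup G) : Set G), n ∉ centralizer ({t} : Set G) := by
    by_contra hne
    push Not at hne
    have := card_dvd_of_le (show normalizer ((T : Subgroup G) : Set G) ≤ centralizer ({t} : Set G) from hne)
    rw [card_N3 h, card_C3 h ht] at this
    norm_num at this
  have hinv : IsConj t t⁻¹ := by
    have hnm : n * t * n⁻¹ ∈ zpowers t := by
      rw [← hT]; exact (mem_normalizer_iff.1 hn t).1 (hT ▸ mem_zpowers t)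
    rcases hz _ hnm (by rw [← MulAut.conj_apply, MulEquiv.orderOf_eq, ht]) with e | e
    · exact absurd (mem_centralizer_singleton_iff.2 (mul_inv_eq_iff_eq_mul.1 e)) hnC
    · exact isConj_iff.2 ⟨n, e⟩
  have h1 : IsConj s (g * s * g⁻¹) := isConj_iff.2 ⟨g, rfl⟩
  rcases hz _ hmem (by rw [← MulAut.conj_apply, MulEquiv.orderOf_eq, hs]) with e | e <;> rw [e] at h1
  · exact h1
  · exact h1.trans hinv.symm

end Cfsg.Agent.Small.Order168
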