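import Cfsg.Agent.Lib.Small.ProjLineEven
import Cfsg.Agent.Lib.Small.SimpleOrderTools
import Cfsg.Agent.Lib.Classical.Dickson.PGLMax

/-!
# Simple groups of order 4080
-/

set_option autoImplicit false

namespace Cfsg.Agent.Small.OrderFortyEighty

open Subgroup SimpleOrderTools

variable {G : Type*} [Group G] [Finite G]

/-- A prime order subgroup: the centraliser has index in the normaliser dividing the prime less one. -/
theorem exists_mul_eq {p : ℕ} (hp : p.Prime) {P : Subgroup G} (hP : Nat.card P = p) :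
    ∃ e : ℕ, e ∣ p - 1 ∧ Nat.card (normalizer (P : Set G)) = Nat.card (centralizer (P : Set G)) * e := by
  haveI := Fact.mk hp
  haveI : IsCyclic P := isCyclic_of_prime_card hP
  let φ := P.normalizerMonoidHom
  have h1 := φ.ker.card_mul_index
  rw [index_ker] at h1
  refine ⟨Nat.card φ.range, ?_, ?_⟩
  · have := card_subgroup_dvd_card φ.range
    rwa [IsCyclic.card_mulAut, hP, Nat.totient_prime hp] at this
  · rw [← h1]
    congr 1
    rw [show φ.ker = _ from normalizerMonoidHom_ker P]
    exact Nat.card_congr (subgroupOfEquivOfLe (centralizer_le_normalizer _)).toEquiv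

theorem inverts {p : ℕ} (hp : p.Prime) {y r : G} (hy : orderOf y = p)
    (hrN : r * y * r⁻¹ ∈ zpowers y) (hr : r * y ≠ y * r) (hr2 : (r * r) * y = y * (r * r)) :
    r * y * r⁻¹ = y⁻¹ := by
  obtain ⟨k, hk⟩ := (isOfFinOrder_of_finite y).mem_powers_iff_mem_zpowers.2 hrN
  replace hk : y ^ k = r * y * r⁻¹ := hk
  have hkk : y ^ (k * k) = y ^ 1 := by
    rw [pow_mul, hk, conj_pow, hk, pow_one,
      show r * (r * y * r⁻¹) * r⁻¹ = (r * r) * y * (r * r)⁻¹ by group, hr2]
    group
  have hm := pow_eq_pow_iff_modEq.1 hkk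
  rw [hy, Nat.ModEq] at hm
  have hcast : ((k : ZMod p)) * k = 1 := by
    have := (ZMod.natCast_eq_natCast_iff' (k * k) 1 p).2 hm
    simpa using this
  haveI := Fact.mk hp
  rcases mul_self_eq_one_iff.1 hcast with e | e
  · refine absurd ?_ hr
    have : y ^ k = y ^ 1 := pow_eq_pow_iff_modEq.2 (by
      rw [hy, ← ZMod.natCast_eq_natCast_iff]; simpa using e)
    rw [pow_one, hk] at this
    calc r * y = r * y * r⁻¹ * r := by group
      _ = y * r := by rw [this]
  · have h1 : y ^ (k + 1) = 1 := orderOf_dvd_iff_pow_eq_one.1 (by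
      rw [hy, ← ZMod.natCast_eq_zero_iff]; push_cast; rw [e, neg_add_cancel])
    rw [pow_succ, hk] at h1
    exact eq_inv_of_mul_eq_one_left h1

/-- Products of an element of a Sylow subgroup of order `p` with a centralising `p'`-element are
different for different choices. -/
theorem count_parts {p m : ℕ} [Fact p.Prime] (hcard : ∀ P : Sylow p G, Nat.card P = p)
    (hQ : ∀ P : Sylow p G, ∃ Q : Subgroup G, Nat.card Q = m ∧ Q ≤ centralizer ((P : Subgroup G) : Set G))
    (hm : ¬ p ∣ m) :
    Nat.card (Sylow p G) * ((p - 1) * m) ≤ Nat.card {g : G // p ∣ orderOf g} := by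
  classical
  choose Q hQm hQc using hQ
  haveI := Fintype.ofFinite (Sylow p G)
  have hc : ∀ P : Sylow p G, Nat.card ({x : (P : Subgroup G) // x ≠ 1} × Q P) = (p - 1) * m := fun P => by
    haveI := Fintype.ofFinite (P : Subgroup G)
    rw [Nat.card_prod, hQm, Nat.card_eq_fintype_card, Fintype.card_subtype_compl, Fintype.card_subtype_eq,
      ← Nat.card_eq_fintype_card, show Nat.card (P : Subgroup G) = p from hcard P]
  have hord : ∀ (P : Sylow p G) (x : (P : Subgroup G)), x ≠ 1 → orderOf (x : G) = p := fun P x hx => by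
    have h := orderOf_dvd_natCard x
    rw [show Nat.card (P : Subgroup G) = p from hcard P, ← orderOf_coe] at h
    exact ((Nat.dvd_prime Fact.out).1 h).resolve_left fun e => hx (Subtype.ext (orderOf_eq_one_iff.1 e))
  have hqm : ∀ (P : Sylow p G) (q : Q P), ((q : G)) ^ m = 1 := fun P q => by
    rw [← hQm P]; exact congrArg Subtype.val (pow_card_eq_one' (x := q))
  have hcomm : ∀ (P : Sylow p G) (x : (P : Subgroup G)) (q : Q P), Commute (x : G) (q : G) := fun P x q =>
    (mem_centralizer_iff.1 (hQc P q.2) x x.2)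
  have hcop : Nat.Coprime p m := (Fact.out : p.Prime).coprime_iff_not_dvd.2 hm
  let ψ : (Σ P : Sylow p G, {x : (P : Subgroup G) // x ≠ 1} × Q P) → {g : G // p ∣ orderOf g} :=
    fun a => ⟨(a.2.1.1 : G) * (a.2.2 : G), by
      have ho := hord a.1 a.2.1.1 a.2.1.2
      rw [(hcomm a.1 a.2.1.1 a.2.2).orderOf_mul_eq_mul_orderOf_of_coprime (by
        rw [ho]
        exact hcop.coprime_dvd_right (orderOf_dvd_of_pow_eq_one (hqm _ _))), ho]
      exact dvd_mul_right p _⟩
  have hψ : Function.Injective ψ := by
    rintro ⟨P, ⟨x, hx⟩, q⟩ ⟨P', ⟨x', hx'⟩, q'⟩ e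
    have e : (x : G) * (q : G) = (x' : G) * (q' : G) := congrArg Subtype.val e
    have hm1 := congrArg (· ^ m) e
    simp only [(hcomm P x q).mul_pow, (hcomm P' x' q').mul_pow, hqm, mul_one] at hm1
    have hxx : (x : G) = x' := by
      obtain ⟨s, hs⟩ := Nat.exists_mul_mod_eq_one_of_coprime hcop.symm (Fact.out : p.Prime).one_lt
      have h2 : ∀ (R : Sylow p G) (z : (R : Subgroup G)), z ≠ 1 → ((z : G) ^ m) ^ s = z := fun R z hz => by
        rw [← pow_mul, ← pow_mod_orderOf, hord R z hz, hs.2, pow_one]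
      rw [← h2 P x hx, ← h2 P' x' hx', hm1]
    have hgen : ∀ (R : Sylow p G) (z : (R : Subgroup G)), z ≠ 1 → zpowers (z : G) = (R : Subgroup G) :=
      fun R z hz => eq_of_le_of_card_ge (zpowers_le.2 z.2)
        (by rw [show Nat.card (R : Subgroup G) = p from hcard R, Nat.card_zpowers, hord R z hz])
    obtain rfl : P = P' := Sylow.ext (by rw [← hgen P x hx, hxx, hgen P' x' hx'])
    obtain rfl : x = x' := Subtype.ext hxx
    obtain rfl : q = q' := Subtype.ext (mul_left_cancel e)
    rfl
  have h := Nat.card_le_card_of_injective ψ hψ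
  rw [Nat.card_sigma, Finset.sum_congr rfl fun P _ => hc P] at h
  simpa [Finset.card_univ, ← Nat.card_eq_fintype_card] using h

/-- When every nontrivial 2-element is conjugate to an involution centralised only by its Sylow subgroup. -/
theorem two_part {q m : ℕ} (hcard : ∀ T : Sylow 2 G, Nat.card T = q) (hG : Nat.card G = q * m) {z : G}
    (hz : orderOf z = 2) (hCz : Nat.card (centralizer ({z} : Set G)) = q)
    (hcl : ∀ g : G, g ≠ 1 → (∃ k : ℕ, orderOf g = 2 ^ k) → IsConj z g) :
    (∀ T : Sylow 2 G, ∀ s ∈ (T : Subgroup G), s * s = 1) ∧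
      (∀ T : Sylow 2 G, ∀ s ∈ (T : Subgroup G), s ≠ 1 → centralizer ({s} : Set G) = (T : Subgroup G)) ∧
      Nat.card (Sylow 2 G) * (q - 1) ≤ m := by
  haveI : Fact (Nat.Prime 2) := ⟨Nat.prime_two⟩
  have hK : Nat.card {g : G // IsConj z g} = m := by
    have h := card_conjugates z
    rw [hCz, hG, mul_comm] at h
    exact Nat.eq_of_mul_eq_mul_left (hCz ▸ Nat.card_pos) h
  have hclass : ∀ T : Sylow 2 G, ∀ s ∈ (T : Subgroup G), s ≠ 1 → IsConj z s := fun T s hs hs1 => by
    obtain ⟨j, hj⟩ := IsPGroup.iff_orderOf.1 T.2 ⟨s, hs⟩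
    rw [orderOf_mk] at hj
    exact hcl s hs1 ⟨j, hj⟩
  have hsq : ∀ T : Sylow 2 G, ∀ s ∈ (T : Subgroup G), s * s = 1 := fun T s hs => by
    by_cases hs1 : s = 1
    · rw [hs1, one_mul]
    obtain ⟨c, hc⟩ := isConj_iff.1 (hclass T s hs hs1)
    rw [← hc, show c * z * c⁻¹ * (c * z * c⁻¹) = c * (z * z) * c⁻¹ by group, ← pow_two, ← hz,
      pow_orderOf_eq_one]
    group
  have hcent : ∀ T : Sylow 2 G, ∀ s ∈ (T : Subgroup G), s ≠ 1 →
      centralizer ({s} : Set G) = (T : Subgroup G) := by
    intro T s hs hs1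
    refine (eq_of_le_of_card_ge (fun a ha => mem_centralizer_singleton_iff.2 ?_) ?_).symm
    · have h1 := hsq T _ (mul_mem ha hs)
      rw [mul_eq_one_iff_eq_inv, mul_inv_rev, inv_eq_of_mul_eq_one_right (hsq T a ha),
        inv_eq_of_mul_eq_one_right (hsq T s hs)] at h1
      exact h1
    · have h1 := card_conjugates s
      have h2 : Nat.card {g : G // IsConj s g} = m := hK ▸ Nat.card_congr (Equiv.subtypeEquivRight fun g =>
        ⟨fun e => (hclass T s hs hs1).trans e, fun e => (hclass T s hs hs1).symm.trans e⟩)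
      rw [h2, hG, mul_comm q] at h1
      rw [show Nat.card (T : Subgroup G) = q from hcard T]
      exact (Nat.eq_of_mul_eq_mul_left (hK ▸ Nat.card_pos_iff.2 ⟨⟨⟨z, IsConj.refl z⟩⟩, inferInstance⟩) h1).le
  refine ⟨hsq, hcent, ?_⟩
  refine (count_ti (p := 2) hcard fun P Q x hx hxP hxQ =>
    Sylow.ext ((hcent P x hxP hx).symm.trans (hcent Q x hxQ hx))).trans ?_
  rw [← hK]
  exact Nat.card_le_card_of_injective (fun g => ⟨g.1, hcl g.1 g.2.1 g.2.2⟩)
    fun a b e => Subtype.ext (congrArg Subtype.val e :)

theorem dvd_card_centralizer {p : ℕ} {x y : G} (hx : orderOf x = p) (hxy : x * y = y * x) :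
    p ∣ Nat.card (centralizer ({y} : Set G)) := by
  have h := orderOf_dvd_natCard (⟨x, mem_centralizer_singleton_iff.2 hxy⟩ : centralizer ({y} : Set G))
  rwa [orderOf_mk, hx] at h

variable [IsSimpleGroup G]

theorem not_comm (h : Nat.card G = 4080) : ¬ IsMulCommutative G :=
  SmallOrders.not_comm_of_card (by rw [h]; norm_num)

theorem index_big (h : Nat.card G = 4080) {H : Subgroup G} (hH : H ≠ ⊤) : 17 ≤ H.index := by
  by_contra hlt
  have hd := SmallOrders.card_dvd_index_factorial H hH
  rw [h] at hd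
  have h17 : (17 : ℕ) ∣ H.index.factorial := (by norm_num : 17 ∣ 4080).trans hd
  exact hlt ((Nat.Prime.dvd_factorial (by norm_num : Nat.Prime 17)).1 h17)

theorem sylow_bound (h : Nat.card G = 4080) {p : ℕ} [Fact p.Prime] (P : Sylow p G) {m : ℕ}
    (hP : Nat.card P = p) (hm : 4080 = p * m) (hm1 : 1 < m) :
    Nat.card (Sylow p G) ∣ m ∧ Nat.card (Sylow p G) % p = 1 ∧ 17 ≤ Nat.card (Sylow p G) ∧
      Nat.card (Sylow p G) * Nat.card (normalizer ((P : Subgroup G) : Set G)) = 4080 := by
  obtain ⟨hd, hmod, h1⟩ := SmallOrders.sylow_number P (k := 1) (by rw [pow_one]; exact hP) one_pos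
    (by rw [pow_one, h]; exact hm) hm1
  refine ⟨hd, hmod, ?_, h ▸ SmallOrders.card_normalizer P⟩
  rw [P.card_eq_index_normalizer] at h1 ⊢
  refine index_big h fun e => ?_
  rw [e, index_top] at h1
  exact h1 rfl

theorem sylow_card (h : Nat.card G = 4080) {p : ℕ} (m : ℕ) [Fact p.Prime] (hm : 4080 = p * m) (hpm : ¬ p ∣ m)
    (P : Sylow p G) : Nat.card P = p := by
  have := SmallOrders.sylow_card_eq (k := 1) (by rw [pow_one, h]; exact hm) hpm P
  rwa [pow_one] at this

/-- A Sylow subgroup of prime order is not central in its normaliser. -/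
theorem not_central (h : Nat.card G = 4080) {p : ℕ} [Fact p.Prime] (P : Sylow p G) (hP : Nat.card P = p)
    (hle : p ≤ 17) :
    Nat.card (centralizer ((P : Subgroup G) : Set G)) < Nat.card (normalizer ((P : Subgroup G) : Set G)) := by
  refine lt_of_le_of_ne (card_le_of_le (centralizer_le_normalizer _)) fun e => ?_
  refine SmallOrders.false_of_central P (by rw [hP]; exact (Fact.out : p.Prime).one_lt) (by rw [hP, h]; omega) ?_
  exact (eq_of_le_of_card_ge (centralizer_le_normalizer _) e.ge).ge

omit [IsSimpleGroup G] [Finite G] in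
theorem centralizer_zpowers (y : G) :
    centralizer ((zpowers y : Subgroup G) : Set G) = centralizer ({y} : Set G) := by
  rw [zpowers_eq_closure, centralizer_closure]

theorem exists_sylow_zpowers {p : ℕ} [Fact p.Prime] (hP : ∀ P : Sylow p G, Nat.card P = p) {y : G}
    (hy : orderOf y = p) : ∃ P : Sylow p G, (P : Subgroup G) = zpowers y := by
  obtain ⟨P, hle⟩ := (IsPGroup.of_card (n := 1) (G := zpowers y) (by rw [Nat.card_zpowers, hy, pow_one])).exists_le_sylow
  exact ⟨P, (eq_of_le_of_card_ge hle (by rw [Nat.card_zpowers, hy]; exact (hP P).le)).symm⟩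

theorem structure_seventeen (h : Nat.card G = 4080) :
    1920 ≤ Nat.card {g : G // 17 ∣ orderOf g} ∧
      ∀ y : G, orderOf y = 17 → Nat.card (centralizer ({y} : Set G)) = 17 := by
  haveI : Fact (Nat.Prime 17) := ⟨by norm_num⟩
  have hP := sylow_card h (p := 17) 240 (by norm_num) (by norm_num)
  have key : ∀ P : Sylow 17 G, Nat.card (Sylow 17 G) = 120 ∧
      Nat.card (centralizer ((P : Subgroup G) : Set G)) = 17 := fun P => by
    obtain ⟨hd, hm, h17, hN⟩ := sylow_bound h P (hP P) (m := 240) (by norm_num) (by norm_num)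
    obtain ⟨e, he, hNe⟩ := exists_mul_eq (Fact.out : Nat.Prime 17) (P := (P : Subgroup G)) (hP P)
    have hlt := not_central h P (hP P) le_rfl
    have hn : Nat.card (Sylow 17 G) = 120 := by
      obtain ⟨k, hk⟩ : ∃ k, Nat.card (Sylow 17 G) = 17 * k + 1 :=
        ⟨Nat.card (Sylow 17 G) / 17, by omega⟩
      have := Nat.le_of_dvd (by norm_num) hd
      rw [hk] at hd h17 ⊢
      have : k ≤ 14 := by omega
      interval_cases k <;> omega
    refine ⟨hn, ?_⟩
    rw [hn] at hN
    obtain ⟨c, hc⟩ : ∃ c, Nat.card (centralizer ((P : Subgroup G) : Set G)) = 17 * c := by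
      haveI : IsCyclic (P : Subgroup G) := isCyclic_of_prime_card (p := 17) (hP P)
      have hab : (P : Subgroup G) ≤ centralizer ((P : Subgroup G) : Set G) := by
        letI := IsCyclic.commGroup (α := (P : Subgroup G))
        exact fun a ha => mem_centralizer_iff.2 fun b hb =>
          congrArg Subtype.val (mul_comm (⟨b, hb⟩ : (P : Subgroup G)) ⟨a, ha⟩)
      obtain ⟨c, hc⟩ := card_dvd_of_le hab
      exact ⟨c, by rw [hc, show Nat.card (P : Subgroup G) = 17 from hP P]⟩
    rw [hc] at hNe hlt ⊢
    have : c ≤ 1 := by omega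
    have hpos : 0 < 17 * c := hc ▸ Nat.card_pos
    omega
  refine ⟨?_, fun y hy => ?_⟩
  · obtain ⟨P⟩ : Nonempty (Sylow 17 G) := inferInstance
    have := count_parts (p := 17) (m := 1) hP (fun R => ⟨⊥, card_bot, bot_le⟩) (by norm_num)
    rw [(key P).1] at this
    exact this
  · obtain ⟨P, hPy⟩ := exists_sylow_zpowers hP hy
    have := (key P).2
    rwa [hPy, centralizer_zpowers] at this

/-- The centralisers of elements of orders 3 and 5 are odd of order 15. -/
theorem structure_fifteen (h : Nat.card G = 4080) :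
    (∀ v : G, orderOf v = 5 → Nat.card (centralizer ({v} : Set G)) = 15 ∧
      Nat.card (normalizer ((zpowers v : Subgroup G) : Set G)) = 30) ∧
    (∀ u : G, orderOf u = 3 → Nat.card (centralizer ({u} : Set G)) = 15 ∧
      Nat.card (normalizer ((zpowers u : Subgroup G) : Set G)) = 30) ∧
    1632 ≤ Nat.card {g : G // 5 ∣ orderOf g} ∧
    272 ≤ Nat.card {g : G // g ≠ 1 ∧ ∃ k : ℕ, orderOf g = 3 ^ k} := by
  classical
  haveI := Fintype.ofFinite G
  haveI : Fact (Nat.Prime 17) := ⟨by norm_num⟩
  haveI : Fact (Nat.Prime 5) := ⟨by norm_num⟩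
  haveI : Fact (Nat.Prime 3) := ⟨by norm_num⟩
  haveI : Fact (Nat.Prime 2) := ⟨Nat.prime_two⟩
  obtain ⟨h1920, hC17⟩ := structure_seventeen h
  have h5 := sylow_card h (p := 5) 816 (by norm_num) (by norm_num)
  have h3 := sylow_card h (p := 3) 1360 (by norm_num) (by norm_num)
  -- orders of centralisers have no factor seventeen
  have hno17 : ∀ (p : ℕ) (x : G), p.Prime → p ≠ 17 → orderOf x = p →
      ¬ 17 ∣ Nat.card (centralizer ({x} : Set G)) := by
    intro p x hp hne hx hdvd
    obtain ⟨y, hy⟩ := exists_prime_orderOf_dvd_card' 17 hdvd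
    have hxy : x ∈ centralizer ({(y : G)} : Set G) :=
      mem_centralizer_singleton_iff.2 (mem_centralizer_singleton_iff.1 y.2).symm
    have h2 := orderOf_dvd_natCard (⟨x, hxy⟩ : centralizer ({(y : G)} : Set G))
    rw [orderOf_mk, hx, hC17 y (by rw [orderOf_coe, hy])] at h2
    exact hne ((Nat.prime_dvd_prime_iff_eq hp (by norm_num)).1 h2)
  -- Sylow five
  have five : ∀ P : Sylow 5 G,
      (Nat.card (Sylow 5 G) = 51 ∧ 4 ∣ Nat.card (centralizer ((P : Subgroup G) : Set G)) ∧
        Nat.card (centralizer ((P : Subgroup G) : Set G)) ∣ 80) ∨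
      (Nat.card (Sylow 5 G) = 136 ∧ Nat.card (centralizer ((P : Subgroup G) : Set G)) = 15 ∧
        Nat.card (normalizer ((P : Subgroup G) : Set G)) = 30) := by
    intro P
    obtain ⟨hd, hm, h17, hN⟩ := sylow_bound h P (h5 P) (m := 816) (by norm_num) (by norm_num)
    obtain ⟨e, he, hNe⟩ := exists_mul_eq (Fact.out : Nat.Prime 5) (P := (P : Subgroup G)) (h5 P)
    have hlt := not_central h P (h5 P) (by norm_num)
    have hn : Nat.card (Sylow 5 G) = 51 ∨ Nat.card (Sylow 5 G) = 136 ∨ Nat.card (Sylow 5 G) = 816 := by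
      have hmem := Nat.mem_divisors.2 ⟨hd, by norm_num⟩
      revert hmem hm h17
      generalize Nat.card (Sylow 5 G) = n
      intro hm h17 hmem
      have key : ∀ d ∈ Nat.divisors 816, d % 5 = 1 → 17 ≤ d → d = 51 ∨ d = 136 ∨ d = 816 := by decide +kernel
      exact key n hmem hm h17
    have he4 : e ≤ 4 := Nat.le_of_dvd (by norm_num) he
    have hCd : 5 ∣ Nat.card (centralizer ((P : Subgroup G) : Set G)) := by
      haveI : IsCyclic (P : Subgroup G) := isCyclic_of_prime_card (p := 5) (h5 P)
      letI := IsCyclic.commGroup (α := (P : Subgroup G))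
      have hab : (P : Subgroup G) ≤ centralizer ((P : Subgroup G) : Set G) := fun a ha =>
        mem_centralizer_iff.2 fun b hb => congrArg Subtype.val (mul_comm (⟨b, hb⟩ : (P : Subgroup G)) ⟨a, ha⟩)
      exact (dvd_of_eq (h5 P).symm).trans (card_dvd_of_le hab)
    revert hNe hlt hN hCd
    generalize Nat.card (normalizer ((P : Subgroup G) : Set G)) = N
    generalize Nat.card (centralizer ((P : Subgroup G) : Set G)) = C
    intro hN hNe hlt hCd
    have he' : e = 1 ∨ e = 2 ∨ e = 4 :=
      (by decide +kernel : ∀ d ∈ Nat.divisors 4, d = 1 ∨ d = 2 ∨ d = 4) e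
        (Nat.mem_divisors.2 ⟨he, by norm_num⟩)
    rcases hn with hn | hn | hn <;> rw [hn] at hN <;> rcases he' with rfl | rfl | rfl <;>
      first
        | omega
        | (rcases (by omega : C = 20 ∨ C = 40) with rfl | rfl <;> exact Or.inl ⟨hn, by norm_num, by norm_num⟩)
  have three : ∀ P : Sylow 3 G, ∃ c : ℕ, Nat.card (centralizer ((P : Subgroup G) : Set G)) = c ∧
      Nat.card (Sylow 3 G) * c = 2040 ∧ Nat.card (normalizer ((P : Subgroup G) : Set G)) = 2 * c ∧
      (Nat.card (Sylow 3 G) = 34 ∧ c = 60 ∨ Nat.card (Sylow 3 G) = 85 ∧ c = 24 ∨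
        Nat.card (Sylow 3 G) = 136 ∧ c = 15 ∨ Nat.card (Sylow 3 G) = 340 ∧ c = 6) := by
    intro P
    refine ⟨_, rfl, ?_⟩
    obtain ⟨hd, hm, h17, hN⟩ := sylow_bound h P (h3 P) (m := 1360) (by norm_num) (by norm_num)
    obtain ⟨e, he, hNe⟩ := exists_mul_eq (Fact.out : Nat.Prime 3) (P := (P : Subgroup G)) (h3 P)
    have hlt := not_central h P (h3 P) (by norm_num)
    have hn : Nat.card (Sylow 3 G) = 34 ∨ Nat.card (Sylow 3 G) = 40 ∨ Nat.card (Sylow 3 G) = 85 ∨
        Nat.card (Sylow 3 G) = 136 ∨ Nat.card (Sylow 3 G) = 340 ∨ Nat.card (Sylow 3 G) = 1360 := by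
      have hmem := Nat.mem_divisors.2 ⟨hd, by norm_num⟩
      revert hmem hm h17
      generalize Nat.card (Sylow 3 G) = n
      intro hm h17 hmem
      have key : ∀ d ∈ Nat.divisors 1360, d % 3 = 1 → 17 ≤ d →
          d = 34 ∨ d = 40 ∨ d = 85 ∨ d = 136 ∨ d = 340 ∨ d = 1360 := by decide +kernel
      exact key n hmem hm h17
    obtain ⟨u, hu, huP⟩ := exists_generator (Fact.out : Nat.Prime 3) (P := (P : Subgroup G)) (h3 P)
    have h17C := hno17 3 u (Fact.out : Nat.Prime 3) (by norm_num) hu
    rw [← centralizer_zpowers, huP] at h17C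
    have hCd : 3 ∣ Nat.card (centralizer ((P : Subgroup G) : Set G)) := by
      rw [← huP, centralizer_zpowers]
      exact dvd_card_centralizer hu rfl
    have he2 : e ≤ 2 := Nat.le_of_dvd (by norm_num) he
    have hpos : 0 < e := Nat.pos_of_dvd_of_pos he (by norm_num)
    revert hNe hlt hN hCd h17C
    generalize Nat.card (normalizer ((P : Subgroup G) : Set G)) = N
    generalize Nat.card (centralizer ((P : Subgroup G) : Set G)) = C
    intro hN hNe hlt h17C hCd
    obtain rfl : e = 2 := by rcases (by omega : e = 1 ∨ e = 2) with rfl | rfl <;> omega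
    rcases hn with hn | hn | hn | hn | hn | hn <;> rw [hn] at hN ⊢ <;> omega
  -- no fifty-one
  have hn5 : ∀ P : Sylow 5 G, Nat.card (Sylow 5 G) = 136 ∧
      Nat.card (centralizer ((P : Subgroup G) : Set G)) = 15 ∧
      Nat.card (normalizer ((P : Subgroup G) : Set G)) = 30 := by
    intro P
    refine (five P).resolve_left fun ⟨h51, _, _⟩ => ?_
    have hC5 : ∀ R : Sylow 5 G, 4 ∣ Nat.card (centralizer ((R : Subgroup G) : Set G)) ∧
        ¬ 3 ∣ Nat.card (centralizer ((R : Subgroup G) : Set G)) := fun R => by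
      rcases five R with ⟨-, h4, h80⟩ | ⟨hn, -, -⟩
      · refine ⟨h4, fun h3' => ?_⟩
        have := h3'.trans h80
        norm_num at this
      · omega
    have hA5 : 816 ≤ Nat.card {g : G // 5 ∣ orderOf g} := by
      have := count_parts (p := 5) (m := 4) h5 (fun R => by
        obtain ⟨Q, hQ⟩ := Sylow.exists_subgroup_card_pow_prime
          (G := centralizer ((R : Subgroup G) : Set G)) 2 (n := 2) (hC5 R).1
        exact ⟨Q.map (Subgroup.subtype _),
          by rw [card_map_of_injective (subtype_injective _), hQ]; norm_num, map_subtype_le _⟩) (by norm_num)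
      rw [h51] at this
      exact this
    obtain ⟨P3⟩ : Nonempty (Sylow 3 G) := inferInstance
    have hc3 : (Nat.card (Sylow 3 G) = 85 ∧ ∀ R : Sylow 3 G,
        Nat.card (centralizer ((R : Subgroup G) : Set G)) = 24) ∨
        (Nat.card (Sylow 3 G) = 340 ∧ ∀ R : Sylow 3 G,
          Nat.card (centralizer ((R : Subgroup G) : Set G)) = 6) := by
      have hno5 : ∀ R : Sylow 3 G, ¬ 5 ∣ Nat.card (centralizer ((R : Subgroup G) : Set G)) := fun R hdvd => by
        obtain ⟨⟨v, hvC⟩, hv⟩ := exists_prime_orderOf_dvd_card' 5 hdvd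
        rw [orderOf_mk] at hv
        obtain ⟨Q, hQ⟩ := exists_sylow_zpowers h5 hv
        refine (hC5 Q).2 ?_
        obtain ⟨u, hu, huP⟩ := exists_generator (Fact.out : Nat.Prime 3) (P := (R : Subgroup G)) (h3 R)
        rw [← huP, centralizer_zpowers] at hvC
        rw [hQ, centralizer_zpowers]
        exact dvd_card_centralizer hu (mem_centralizer_singleton_iff.1 hvC).symm
      obtain ⟨c, hc, -, -, h'⟩ := three P3
      have := hno5 P3
      rw [hc] at this
      rcases h' with ⟨hn, rfl⟩ | ⟨hn, rfl⟩ | ⟨hn, rfl⟩ | ⟨hn, rfl⟩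
      · norm_num at this
      · refine Or.inl ⟨hn, fun R => ?_⟩
        obtain ⟨c', hc', h1, -, -⟩ := three R
        rw [hn] at h1
        omega
      · norm_num at this
      · refine Or.inr ⟨hn, fun R => ?_⟩
        obtain ⟨c', hc', h1, -, -⟩ := three R
        rw [hn] at h1
        omega
    have hA3 : 1360 ≤ Nat.card {g : G // 3 ∣ orderOf g} := by
      rcases hc3 with ⟨hn, hc⟩ | ⟨hn, hc⟩
      · have := count_parts (p := 3) (m := 8) h3 (fun R => by
          obtain ⟨Q, hQ⟩ := Sylow.exists_subgroup_card_pow_prime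
            (G := centralizer ((R : Subgroup G) : Set G)) 2 (n := 3) (by rw [hc R]; norm_num)
          exact ⟨Q.map (Subgroup.subtype _),
            by rw [card_map_of_injective (subtype_injective _), hQ]; norm_num, map_subtype_le _⟩) (by norm_num)
        rw [hn] at this
        exact this
      · have := count_parts (p := 3) (m := 2) h3 (fun R => by
          obtain ⟨Q, hQ⟩ := Sylow.exists_subgroup_card_pow_prime
            (G := centralizer ((R : Subgroup G) : Set G)) 2 (n := 1) (by rw [hc R]; norm_num)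
          exact ⟨Q.map (Subgroup.subtype _),
            by rw [card_map_of_injective (subtype_injective _), hQ]; norm_num, map_subtype_le _⟩) (by norm_num)
        rw [hn] at this
        exact this
    let A := Finset.univ.filter fun g : G => 17 ∣ orderOf g
    let B := Finset.univ.filter fun g : G => 5 ∣ orderOf g
    let T := Finset.univ.filter fun g : G => 3 ∣ orderOf g
    have hA : 1920 ≤ A.card := by rw [← Fintype.card_subtype, ← Nat.card_eq_fintype_card]; exact h1920
    have hB : 816 ≤ B.card := by rw [← Fintype.card_subtype, ← Nat.card_eq_fintype_card]; exact hA5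
    have hT : 1360 ≤ T.card := by rw [← Fintype.card_subtype, ← Nat.card_eq_fintype_card]; exact hA3
    -- elements of two such orders commuting
    have split : ∀ (g : G) (p r : ℕ), p.Prime → r.Prime → p ≠ r → p ∣ orderOf g → r ∣ orderOf g →
        ∃ v, orderOf v = p ∧ r ∣ Nat.card (centralizer ({v} : Set G)) := fun g p r hp hr hne hpg hrg => by
      exact ⟨g ^ (orderOf g / p), orderOf_pow_orderOf_div (orderOf_pos g).ne' hpg, hrg.trans
        (dvd_card_centralizer rfl ((Commute.refl g).pow_right _).eq)⟩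
    have hd17 : ∀ (g : G) (p : ℕ), p.Prime → p ≠ 17 → p ∣ orderOf g → ¬ 17 ∣ orderOf g := by
      intro g p hp hne hpg h17
      obtain ⟨v, hv, hdvd⟩ := split g p 17 hp (Fact.out) hne hpg h17
      exact hno17 p v hp hne hv hdvd
    have hAB : Disjoint A B := Finset.disjoint_left.2 fun g hg hg' =>
      hd17 g 5 Fact.out (by norm_num) (Finset.mem_filter.1 hg').2 (Finset.mem_filter.1 hg).2
    have hABT : Disjoint (A ∪ B) T := Finset.disjoint_left.2 fun g hg hg' => by
      rcases Finset.mem_union.1 hg with hg | hg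
      · exact hd17 g 3 Fact.out (by norm_num) (Finset.mem_filter.1 hg').2 (Finset.mem_filter.1 hg).2
      · obtain ⟨v, hv, hdvd⟩ := split g 5 3 Fact.out Fact.out (by norm_num) (Finset.mem_filter.1 hg).2
          (Finset.mem_filter.1 hg').2
        obtain ⟨Q, hQ⟩ := exists_sylow_zpowers h5 hv
        refine (hC5 Q).2 ?_
        rwa [hQ, centralizer_zpowers]
    have := Finset.card_le_univ (A ∪ B ∪ T)
    rw [Finset.card_union_of_disjoint hABT, Finset.card_union_of_disjoint hAB, ← Nat.card_eq_fintype_card, h]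
      at this
    omega
  have hfive : ∀ v : G, orderOf v = 5 → Nat.card (centralizer ({v} : Set G)) = 15 ∧
      Nat.card (normalizer ((zpowers v : Subgroup G) : Set G)) = 30 := fun v hv => by
    obtain ⟨Q, hQ⟩ := exists_sylow_zpowers h5 hv
    obtain ⟨-, h1, h2⟩ := hn5 Q
    rw [hQ] at h1 h2
    rw [centralizer_zpowers] at h1
    exact ⟨h1, h2⟩
  -- Sylow three
  obtain ⟨P5⟩ : Nonempty (Sylow 5 G) := inferInstance
  have h136 := (hn5 P5).1
  obtain ⟨v, hv, hvP⟩ := exists_generator (Fact.out : Nat.Prime 5) (P := (P5 : Subgroup G)) (h5 P5)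
  obtain ⟨⟨u, huC⟩, hu⟩ := exists_prime_orderOf_dvd_card' (G := centralizer ({v} : Set G)) 3
    (by rw [(hfive v hv).1]; norm_num)
  rw [orderOf_mk] at hu
  have h5C : 5 ∣ Nat.card (centralizer ({u} : Set G)) := by
    exact dvd_card_centralizer hv (mem_centralizer_singleton_iff.1 huC).symm
  obtain ⟨P3, hP3⟩ := exists_sylow_zpowers h3 hu
  have hn3 : Nat.card (Sylow 3 G) = 136 := by
    obtain ⟨c, hc, -, -, h'⟩ := three P3
    rw [hP3, centralizer_zpowers] at hc
    rw [hc] at h5C
    rcases h' with ⟨-, rfl⟩ | ⟨-, rfl⟩ | ⟨hn, -⟩ | ⟨-, rfl⟩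
    · exfalso
      set C : Subgroup G := centralizer ({u} : Set G) with hCdef
      have hvC : v ∈ C := mem_centralizer_singleton_iff.2 (mem_centralizer_singleton_iff.1 huC).symm
      let R : Sylow 5 C := Sylow.ofCard (zpowers ⟨v, hvC⟩) (by
        rw [Nat.card_zpowers, orderOf_mk, hv, hc]
        rw [show (60 : ℕ) = 5 * 12 by norm_num, Nat.factorization_mul (by norm_num) (by norm_num),
          Finsupp.add_apply, (Fact.out : Nat.Prime 5).factorization_self,
          Nat.factorization_eq_zero_of_not_dvd (by norm_num)]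
        norm_num)
      have hmod := card_sylow_modEq_one 5 C
      rw [R.card_eq_index_normalizer] at hmod
      set NR : Subgroup C := normalizer ((R : Subgroup C) : Set C) with hNR
      have h60 := NR.card_mul_index
      rw [hc] at h60
      have hle : Nat.card NR ∣ 30 := by
        rw [← (hfive v hv).2, ← card_map_of_injective (subtype_injective C) (K := NR)]
        refine card_dvd_of_le ?_
        refine (le_normalizer_map _).trans (le_of_eq ?_)
        show normalizer ((((zpowers (⟨v, hvC⟩ : C))).map C.subtype : Subgroup G) : Set G) = _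
        rw [MonoidHom.map_zpowers]
        rfl
      have h15 : 15 ∣ Nat.card NR := by
        have hsub : (centralizer ({v} : Set G)).subgroupOf C ≤ NR := by
          intro x hx
          refine (centralizer_le_normalizer _) ?_
          show x ∈ centralizer ((zpowers (⟨v, hvC⟩ : C) : Subgroup C) : Set C)
          rw [centralizer_zpowers]
          exact mem_centralizer_singleton_iff.2 (Subtype.ext (mem_centralizer_singleton_iff.1 hx))
        refine (dvd_of_eq ?_).trans (card_dvd_of_le hsub)
        have hvC' : centralizer ({v} : Set G) ≤ C := by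
          intro x hx
          have hcyc : Nat.card (centralizer ({v} : Set G)) = 15 := (hfive v hv).1
          haveI : IsCyclic (centralizer ({v} : Set G)) :=
            isCyclic_of_orderOf_eq_card (⟨v * u, mul_mem (mem_centralizer_singleton_iff.2 rfl) huC⟩) (by
              rw [orderOf_mk, (show Commute v u from (mem_centralizer_singleton_iff.1 huC).symm)
                |>.orderOf_mul_eq_mul_orderOf_of_coprime (by rw [hu, hv]; decide), hu, hv, hcyc])
          letI := IsCyclic.commGroup (α := centralizer ({v} : Set G))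
          exact mem_centralizer_singleton_iff.2
            (congrArg Subtype.val (mul_comm (⟨x, hx⟩ : centralizer ({v} : Set G)) ⟨u, huC⟩))
        rw [Nat.card_congr (subgroupOfEquivOfLe hvC').toEquiv, (hfive v hv).1]
      rw [Nat.ModEq] at hmod
      revert h60 hle h15 hmod
      generalize Nat.card NR = a
      generalize NR.index = b
      intro hmod h60 hle h15
      obtain ⟨k, rfl⟩ := h15
      have : k ≤ 2 := by have := Nat.le_of_dvd (by norm_num) hle; omega
      interval_cases k <;> omega
    · norm_num at h5C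
    · exact hn
    · norm_num at h5C
  have hthree : ∀ u : G, orderOf u = 3 → Nat.card (centralizer ({u} : Set G)) = 15 ∧
      Nat.card (normalizer ((zpowers u : Subgroup G) : Set G)) = 30 := fun u hu => by
    obtain ⟨Q, hQ⟩ := exists_sylow_zpowers h3 hu
    obtain ⟨c, hc, h1, h2, -⟩ := three Q
    rw [hQ] at hc h2
    rw [centralizer_zpowers] at hc
    rw [hn3] at h1
    omega
  refine ⟨hfive, hthree, ?_, ?_⟩
  · have := count_parts (p := 5) (m := 3) h5 (fun R => by
      obtain ⟨Q, hQ⟩ := Sylow.exists_subgroup_card_pow_prime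
        (G := centralizer ((R : Subgroup G) : Set G)) 3 (n := 1) (by rw [(hn5 R).2.1]; norm_num)
      exact ⟨Q.map (Subgroup.subtype _),
        by rw [card_map_of_injective (subtype_injective _), hQ]; norm_num, map_subtype_le _⟩) (by norm_num)
    rw [h136] at this
    exact this
  · have := count_ti (p := 3) (m := 3) h3 fun P Q x hx hxP hxQ => by
      have key : ∀ R : Sylow 3 G, x ∈ (R : Subgroup G) → (R : Subgroup G) = zpowers x := fun R hR => by
        refine (eq_of_le_of_card_ge (zpowers_le.2 hR) ?_).symm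
        rw [Nat.card_zpowers, show Nat.card (R : Subgroup G) = 3 from h3 R]
        have := orderOf_dvd_natCard (⟨x, hR⟩ : (R : Subgroup G))
        rw [orderOf_mk, show Nat.card (R : Subgroup G) = 3 from h3 R] at this
        rcases (Nat.dvd_prime (by norm_num : Nat.Prime 3)).1 this with e | e
        · exact absurd (orderOf_eq_one_iff.1 e) hx
        · rw [e]
      exact Sylow.ext ((key P hxP).trans (key Q hxQ).symm)
    rw [hn3] at this
    exact this

/-- The local data of a simple group of order 4080. -/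
theorem exists_data (h : Nat.card G = 4080) : Nonempty (ProjLineEven.Data G 16) := by
  classical
  haveI : Fact (Nat.Prime 17) := ⟨by norm_num⟩
  haveI : Fact (Nat.Prime 5) := ⟨by norm_num⟩
  haveI : Fact (Nat.Prime 3) := ⟨by norm_num⟩
  haveI : Fact (Nat.Prime 2) := ⟨Nat.prime_two⟩
  haveI := Fintype.ofFinite G
  obtain ⟨h1920, hC17⟩ := structure_seventeen h
  obtain ⟨hfive, hthree, h1632, h272⟩ := structure_fifteen h
  have hS : ∀ S : Sylow 2 G, Nat.card S = 2 ^ 4 :=
    SmallOrders.sylow_card_eq (m := 255) (by rw [h]; norm_num) (by norm_num)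
  -- an involution with centraliser a Sylow subgroup
  obtain ⟨S, z, hzS, hz, hzC⟩ : ∃ (S : Sylow 2 G) (z : G), z ∈ (S : Subgroup G) ∧ orderOf z = 2 ∧
      (S : Subgroup G) ≤ centralizer ({z} : Set G) := by
    obtain ⟨S⟩ : Nonempty (Sylow 2 G) := inferInstance
    haveI : Nontrivial (S : Subgroup G) :=
      Finite.one_lt_card_iff_nontrivial.1 (by rw [show Nat.card (S : Subgroup G) = 16 from hS S]; norm_num)
    haveI := S.2.center_nontrivial
    obtain ⟨k, hk⟩ := IsPGroup.iff_card.1 (S.2.to_subgroup (center (S : Subgroup G)))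
    obtain ⟨z, hz⟩ := exists_prime_orderOf_dvd_card' (G := center (S : Subgroup G)) 2 (by
      rw [hk]
      refine dvd_pow_self 2 fun e => ?_
      have := Finite.one_lt_card (α := center (S : Subgroup G))
      rw [hk, e] at this
      omega)
    refine ⟨S, ((z : (S : Subgroup G)) : G), (z : (S : Subgroup G)).2, by rw [orderOf_coe, orderOf_coe, hz],
      fun a ha => mem_centralizer_singleton_iff.2 ?_⟩
    exact congrArg Subtype.val (mem_center_iff.1 z.2 ⟨a, ha⟩)
  have hCz : Nat.card (centralizer ({z} : Set G)) = 16 := by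
    obtain ⟨k, hk⟩ := card_dvd_of_le hzC
    rw [show Nat.card (S : Subgroup G) = 16 from hS S] at hk
    have hd : Nat.card (centralizer ({z} : Set G)) ∣ 4080 := h ▸ card_subgroup_dvd_card _
    have hno : ∀ p, p = 3 ∨ p = 5 ∨ p = 17 → ¬ p ∣ Nat.card (centralizer ({z} : Set G)) := by
      intro p hp hdvd
      haveI : Fact p.Prime := ⟨by rcases hp with rfl | rfl | rfl <;> norm_num⟩
      obtain ⟨u, hu⟩ := exists_prime_orderOf_dvd_card' p hdvd
      have h2 := dvd_card_centralizer hz (mem_centralizer_singleton_iff.1 u.2).symm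
      rw [← orderOf_coe] at hu
      rcases hp with rfl | rfl | rfl
      · rw [(hthree u hu).1] at h2; norm_num at h2
      · rw [(hfive u hu).1] at h2; norm_num at h2
      · rw [hC17 u hu] at h2; norm_num at h2
    have h3 := hno 3 (Or.inl rfl)
    have h5 := hno 5 (Or.inr (Or.inl rfl))
    have h17 := hno 17 (Or.inr (Or.inr rfl))
    rw [hk] at hd h3 h5 h17 ⊢
    have hk255 : k ∈ Nat.divisors 255 :=
      Nat.mem_divisors.2 ⟨Nat.dvd_of_mul_dvd_mul_left (by norm_num : 0 < 16) hd, by norm_num⟩
    have key : ∀ d ∈ Nat.divisors 255, d = 1 ∨ 3 ∣ d ∨ 5 ∣ d ∨ 17 ∣ d := by decide +kernel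
    rcases key k hk255 with e | e | e | e
    · rw [e]
    · exact absurd (e.mul_left 16) h3
    · exact absurd (e.mul_left 16) h5
    · exact absurd (e.mul_left 16) h17
  have h255 : Nat.card {g : G // IsConj z g} = 255 := by
    have := card_conjugates z
    rw [hCz, h] at this
    omega
  -- every element is of one of four kinds
  have hkinds : ∀ g : G, g ≠ 1 → 17 ∣ orderOf g ∨ 5 ∣ orderOf g ∨ (∃ k : ℕ, orderOf g = 3 ^ k) ∨ IsConj z g := by
    let A := Finset.univ.filter fun g : G => 17 ∣ orderOf g
    let B := Finset.univ.filter fun g : G => 5 ∣ orderOf g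
    let T := Finset.univ.filter fun g : G => g ≠ 1 ∧ ∃ k : ℕ, orderOf g = 3 ^ k
    let Z := Finset.univ.filter fun g : G => IsConj z g
    have hA : 1920 ≤ A.card := by rw [← Fintype.card_subtype, ← Nat.card_eq_fintype_card]; exact h1920
    have hB : 1632 ≤ B.card := by rw [← Fintype.card_subtype, ← Nat.card_eq_fintype_card]; exact h1632
    have hT : 272 ≤ T.card := by rw [← Fintype.card_subtype, ← Nat.card_eq_fintype_card]; exact h272
    have hZ : Z.card = 255 := by rw [← Fintype.card_subtype, ← Nat.card_eq_fintype_card]; exact h255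
    have hZo : ∀ g ∈ Z, orderOf g = 2 := fun g hg => by
      obtain ⟨c, hc⟩ := isConj_iff.1 (Finset.mem_filter.1 hg).2
      rw [← hc, ← hz]
      exact orderOf_injective (MulAut.conj c).toMonoidHom (MulAut.conj c).injective z
    have hAB : Disjoint A B := Finset.disjoint_left.2 fun g hg hg' => by
      have hv : orderOf (g ^ (orderOf g / 5)) = 5 :=
        orderOf_pow_orderOf_div (orderOf_pos g).ne' (Finset.mem_filter.1 hg').2
      have := (Finset.mem_filter.1 hg).2.trans
        (dvd_card_centralizer (x := g) (y := g ^ (orderOf g / 5)) rfl ((Commute.refl g).pow_right _).eq)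
      rw [(hfive _ hv).1] at this
      norm_num at this
    have h3p : ∀ g ∈ T, ∀ p : ℕ, p.Prime → p ≠ 3 → ¬ p ∣ orderOf g := fun g hg p hp hne hd => by
      obtain ⟨-, -, k, hk⟩ := Finset.mem_filter.1 hg
      rw [hk] at hd
      exact hne ((Nat.prime_dvd_prime_iff_eq hp (by norm_num)).1 (hp.dvd_of_dvd_pow hd))
    have hABT : Disjoint (A ∪ B) T := Finset.disjoint_left.2 fun g hg hg' => by
      rcases Finset.mem_union.1 hg with hg | hg
      · exact h3p g hg' 17 (by norm_num) (by norm_num) (Finset.mem_filter.1 hg).2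
      · exact h3p g hg' 5 (by norm_num) (by norm_num) (Finset.mem_filter.1 hg).2
    have hABTZ : Disjoint (A ∪ B ∪ T) Z := Finset.disjoint_left.2 fun g hg hg' => by
      have h2 := hZo g hg'
      rcases Finset.mem_union.1 hg with hg | hg
      · rcases Finset.mem_union.1 hg with hg | hg <;>
          (have := (Finset.mem_filter.1 hg).2; rw [h2] at this; norm_num at this)
      · exact h3p g hg 2 (by norm_num) (by norm_num) (dvd_of_eq h2.symm)
    have hsub : A ∪ B ∪ T ∪ Z ⊆ Finset.univ.erase 1 := fun g hg => by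
      rw [Finset.mem_erase]
      refine ⟨fun e => ?_, Finset.mem_univ _⟩
      subst e
      simp only [Finset.mem_union] at hg
      rcases hg with ((hg | hg) | hg) | hg
      · have := (Finset.mem_filter.1 hg).2; rw [orderOf_one] at this; norm_num at this
      · have := (Finset.mem_filter.1 hg).2; rw [orderOf_one] at this; norm_num at this
      · exact (Finset.mem_filter.1 hg).2.1 rfl
      · have := hZo 1 hg; rw [orderOf_one] at this; norm_num at this
    have hall : A ∪ B ∪ T ∪ Z = Finset.univ.erase 1 := Finset.eq_of_subset_of_card_le hsub (by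
      rw [Finset.card_erase_of_mem (Finset.mem_univ _), Finset.card_univ, ← Nat.card_eq_fintype_card, h,
        Finset.card_union_of_disjoint hABTZ, Finset.card_union_of_disjoint hABT,
        Finset.card_union_of_disjoint hAB]
      omega)
    intro g hg
    have hg' : g ∈ A ∪ B ∪ T ∪ Z := hall ▸ Finset.mem_erase.2 ⟨hg, Finset.mem_univ _⟩
    simp only [Finset.mem_union] at hg'
    rcases hg' with ((hg' | hg') | hg') | hg'
    · exact Or.inl (Finset.mem_filter.1 hg').2
    · exact Or.inr (Or.inl (Finset.mem_filter.1 hg').2)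
    · exact Or.inr (Or.inr (Or.inl (Finset.mem_filter.1 hg').2.2))
    · exact Or.inr (Or.inr (Or.inr (Finset.mem_filter.1 hg').2))
  obtain ⟨hsq, hcent, hle⟩ := two_part (q := 16) (m := 255) (fun T => hS T) (by rw [h]) hz hCz fun g hg1 ⟨k, hk⟩ => by
    have hp : ∀ p : ℕ, p.Prime → p ≠ 2 → ¬ p ∣ orderOf g := fun p hp hne hd =>
      hne ((Nat.prime_dvd_prime_iff_eq hp Nat.prime_two).1 (hp.dvd_of_dvd_pow (hk ▸ hd)))
    rcases hkinds g hg1 with e | e | ⟨j, hj⟩ | e
    · exact absurd e (hp 17 (by norm_num) (by norm_num))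
    · exact absurd e (hp 5 (by norm_num) (by norm_num))
    · rcases Nat.eq_zero_or_pos j with rfl | hj0
      · exact absurd (orderOf_eq_one_iff.1 (by rw [hj, pow_zero])) hg1
      · exact absurd (hj ▸ dvd_pow_self 3 hj0.ne') (hp 3 (by norm_num) (by norm_num))
    · exact e
  have hn2 : Nat.card (Sylow 2 G) = 17 := by
    obtain ⟨-, -, h1⟩ := SmallOrders.sylow_number S (hS S) (by norm_num) (m := 255) (by rw [h]; norm_num) (by norm_num)
    have h17 : 17 ≤ Nat.card (Sylow 2 G) := by
      rw [S.card_eq_index_normalizer] at h1 ⊢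
      refine index_big h fun e => ?_
      rw [e, index_top] at h1
      exact h1 rfl
    omega
  set N : Subgroup G := normalizer ((S : Subgroup G) : Set G) with hNdef
  have hN : Nat.card N = 240 := by
    have h9 : Nat.card (Sylow 2 G) * Nat.card N = Nat.card G := SmallOrders.card_normalizer S
    rw [hn2, h] at h9
    omega
  obtain ⟨⟨v, hvN⟩, hv⟩ := exists_prime_orderOf_dvd_card' (G := N) 5 ⟨48, by omega⟩
  rw [orderOf_mk] at hv
  obtain ⟨hCv, hNv⟩ := hfive v hv
  -- an element of order three in the normaliser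
  obtain ⟨u, huN, huV, hu⟩ : ∃ u : G, u ∈ N ∧ u ∈ normalizer ((zpowers v : Subgroup G) : Set G) ∧ orderOf u = 3 := by
    let R : Sylow 5 N := Sylow.ofCard (zpowers ⟨v, hvN⟩) (by
      rw [Nat.card_zpowers, orderOf_mk, hv, hN]
      rw [show (240 : ℕ) = 5 * 48 by norm_num, Nat.factorization_mul (by norm_num) (by norm_num),
        Finsupp.add_apply, (Fact.out : Nat.Prime 5).factorization_self,
        Nat.factorization_eq_zero_of_not_dvd (by norm_num)]
      norm_num)
    have hmod := card_sylow_modEq_one 5 N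
    rw [R.card_eq_index_normalizer] at hmod
    set NR : Subgroup N := normalizer ((R : Subgroup N) : Set N) with hNR
    have h240 := NR.card_mul_index
    rw [hN] at h240
    have hmap : NR.map N.subtype ≤ normalizer ((zpowers v : Subgroup G) : Set G) := by
      refine (le_normalizer_map _).trans (le_of_eq ?_)
      show normalizer ((((zpowers (⟨v, hvN⟩ : N))).map N.subtype : Subgroup G) : Set G) = _
      rw [MonoidHom.map_zpowers]
      rfl
    have hle : Nat.card NR ∣ 30 := by
      rw [← hNv, ← card_map_of_injective (subtype_injective N) (K := NR)]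
      exact card_dvd_of_le hmap
    have h3 : 3 ∣ Nat.card NR := by
      rw [Nat.ModEq] at hmod
      have hmem := Nat.mem_divisors.2 ⟨hle, by norm_num⟩
      revert hmem h240 hmod
      generalize Nat.card NR = a
      generalize NR.index = b
      intro hmod h240 hmem
      have key : ∀ d ∈ Nat.divisors 30, 3 ∣ d ∨ d = 1 ∨ d = 2 ∨ d = 5 ∨ d = 10 := by decide +kernel
      rcases key a hmem with e | rfl | rfl | rfl | rfl
      · exact e
      all_goals omega
    obtain ⟨u, hu⟩ := exists_prime_orderOf_dvd_card' 3 h3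
    exact ⟨((u : N) : G), (u : N).2, hmap (mem_map_of_mem N.subtype u.2), by rw [orderOf_coe, orderOf_coe, hu]⟩
  have huv : Commute u v := by
    obtain ⟨k, hk⟩ := (isOfFinOrder_of_finite v).mem_powers_iff_mem_zpowers.2
      ((mem_normalizer_iff.1 huV v).1 (mem_zpowers v))
    replace hk : v ^ k = u * v * u⁻¹ := hk
    have h3 : u * u * u = 1 := by
      have := pow_orderOf_eq_one u
      rwa [hu, pow_succ, pow_two] at this
    have hkk : v ^ (k * k * k) = v ^ 1 := by
      rw [pow_mul, pow_mul, hk, conj_pow, hk, conj_pow, conj_pow, hk, pow_one,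
        show u * (u * (u * v * u⁻¹) * u⁻¹) * u⁻¹ = (u * u * u) * v * (u * u * u)⁻¹ by group, h3]
      group
    have hm := pow_eq_pow_iff_modEq.1 hkk
    rw [hv, Nat.ModEq, Nat.mul_mod, Nat.mul_mod k k] at hm
    have hk' : v ^ k = v ^ (k % 5) := by rw [← hv, pow_mod_orderOf]
    have h1 : k % 5 = 1 := by
      have := Nat.mod_lt k (show 5 > 0 by norm_num)
      revert hm
      generalize k % 5 = a at *
      interval_cases a <;> simp
    rw [h1, pow_one, hk] at hk'
    show u * v = v * u
    calc u * v = u * v * u⁻¹ * u := by group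
      _ = v * u := by rw [hk']
  have hordy : orderOf (v * u) = 15 := by
    rw [huv.symm.orderOf_mul_eq_mul_orderOf_of_coprime (by rw [hu, hv]; decide), hu, hv]
  -- the inverting element
  obtain ⟨⟨r, hrV⟩, hr⟩ := exists_prime_orderOf_dvd_card'
    (G := normalizer ((zpowers v : Subgroup G) : Set G)) 2 ⟨15, by omega⟩
  rw [orderOf_mk] at hr
  have hr2 : r * r = 1 := by rw [← pow_two, ← hr, pow_orderOf_eq_one]
  have hrv : r * v * r⁻¹ = v⁻¹ := inverts (Fact.out : Nat.Prime 5) hv
    ((mem_normalizer_iff.1 hrV v).1 (mem_zpowers v))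
    (fun e => by
      have := dvd_card_centralizer hr e
      rw [hCv] at this
      norm_num at this)
    (by rw [hr2, one_mul, mul_one])
  have hru : r * u * r⁻¹ = u⁻¹ := by
    refine inverts (Fact.out : Nat.Prime 3) hu ?_ (fun e => ?_) (by rw [hr2, one_mul, mul_one])
    · set C : Subgroup G := centralizer ({v} : Set G) with hC
      have hy : zpowers (v * u) = C := eq_of_le_of_card_ge
        (zpowers_le.2 (mem_centralizer_singleton_iff.2 (show v * u * v = v * (v * u) by rw [mul_assoc, huv.eq])))
        (by rw [hCv, Nat.card_zpowers, hordy])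
      have hmem : r * u * r⁻¹ ∈ C := mem_centralizer_singleton_iff.2 (by
        have h1 : r * u * r⁻¹ * v⁻¹ = v⁻¹ * (r * u * r⁻¹) := by
          rw [← hrv]
          calc r * u * r⁻¹ * (r * v * r⁻¹) = r * (u * v) * r⁻¹ := by group
            _ = r * (v * u) * r⁻¹ := by rw [huv.eq]
            _ = r * v * r⁻¹ * (r * u * r⁻¹) := by group
        simpa using ((show Commute (r * u * r⁻¹) v⁻¹ from h1).inv_right).eq)
      rw [← hy] at hmem
      obtain ⟨j, hj⟩ := (isOfFinOrder_of_finite (v * u)).mem_powers_iff_mem_zpowers.2 hmem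
      replace hj : (v * u) ^ j = r * u * r⁻¹ := hj
      have h3 : ((v * u) ^ j) ^ 3 = 1 := by
        rw [hj, conj_pow, show u ^ 3 = 1 by rw [← hu, pow_orderOf_eq_one]]
        group
      rw [← pow_mul] at h3
      have h15 := hordy ▸ orderOf_dvd_of_pow_eq_one h3
      have h5 : 5 ∣ j := Nat.dvd_of_mul_dvd_mul_right (by norm_num : 0 < 3) (by exact h15)
      rw [← hj, huv.symm.mul_pow, orderOf_dvd_iff_pow_eq_one.1 (hv ▸ h5), one_mul]
      exact npow_mem_zpowers u j
    · have := dvd_card_centralizer hr e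
      rw [(hthree u hu).1] at this
      norm_num at this
  exact ⟨{
    S := S, y := v * u, w := r
    four_le := by norm_num
    cardG := by rw [h]
    cardS := hS S
    sq := hsq S
    cent := fun s hs hs1 g hg => hcent S s hs hs1 ▸ mem_centralizer_singleton_iff.2 hg
    cardN := hN
    ordy := hordy
    memy := mul_mem hvN huN
    inv := by
      rw [show r * (v * u) * r⁻¹ = (r * v * r⁻¹) * (r * u * r⁻¹) by group, hrv, hru, ← mul_inv_rev, huv.eq] }⟩

/-- A simple group of order 4080 is the projective special linear group. -/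
theorem iso {G : Type*} [Group G] [Finite G] [IsSimpleGroup G] (h : Nat.card G = 4080)
    {F : Type*} [Field F] [Fintype F] (hF : Fintype.card F = 16) :
    Nonempty (G ≃* Matrix.ProjectiveSpecialLinearGroup (Fin 2) F) := by
  have hc : Nat.card (Matrix.ProjectiveSpecialLinearGroup (Fin 2) F) = 4080 := by
    have h1 := Classical.Dickson.card_P2 (F := F)
    rw [hF, show Nat.gcd 2 (16 - 1) = 1 from rfl, mul_one] at h1
    rw [h1]
    rfl
  haveI := Matrix.ProjectiveSpecialLinearGroup.rank_two_simple (F := F)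
    (by rw [Nat.card_eq_fintype_card]; omega)
  obtain ⟨D⟩ := exists_data h
  obtain ⟨D'⟩ := exists_data hc
  exact ProjLineEven.iso D D' F hF

end Cfsg.Agent.Small.OrderFortyEighty
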