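import Cfsg.Agent.Lib.Small.PSLOrderIso

/-!
# The finite checks for 11, 13, 17, 19 and 23
-/

set_option autoImplicit false
set_option maxRecDepth 100000
set_option synthInstance.maxSize 4000
set_option maxSynthPendingDepth 10

namespace Cfsg.Agent.Small.PSLOrderIso

theorem check11 : Check 11 5 3 2 where
  size := rfl
  unit := by decide +kernel
  cover := by decide +kernel
  roots := by decide +kernel
  vne := by decide +kernel
  flip := by decide +kernel

theorem gne11 : (3 : ZMod 11) ≠ 0 := by decide +kernel

theorem iso11 {G : Type*} [Group G] [Finite G] [IsSimpleGroup G] (h : Nat.card G = 11 * 5 * (11 + 1))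
    {F : Type*} [Field F] [Fintype F] (hF : Fintype.card F = 11) :
    Nonempty (G ≃* Matrix.ProjectiveSpecialLinearGroup (Fin 2) F) := by
  haveI : Fact (Nat.Prime 11) := ⟨by norm_num⟩
  exact iso_psl check11 gne11 (by norm_num) h hF (by decide +kernel)

theorem check13 : Check 13 6 4 2 where
  size := rfl
  unit := by decide +kernel
  cover := by decide +kernel
  roots := by decide +kernel
  vne := by decide +kernel
  flip := by decide +kernel

theorem gne13 : (4 : ZMod 13) ≠ 0 := by decide +kernel

theorem iso13 {G : Type*} [Group G] [Finite G] [IsSimpleGroup G] (h : Nat.card G = 13 * 6 * (13 + 1))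
    {F : Type*} [Field F] [Fintype F] (hF : Fintype.card F = 13) :
    Nonempty (G ≃* Matrix.ProjectiveSpecialLinearGroup (Fin 2) F) := by
  haveI : Fact (Nat.Prime 13) := ⟨by norm_num⟩
  exact iso_psl check13 gne13 (by norm_num) h hF (by decide +kernel)

theorem check17 : Check 17 8 2 3 where
  size := rfl
  unit := by decide +kernel
  cover := by decide +kernel
  roots := by decide +kernel
  vne := by decide +kernel
  flip := by decide +kernel

theorem gne17 : (2 : ZMod 17) ≠ 0 := by decide +kernel

theorem iso17 {G : Type*} [Group G] [Finite G] [IsSimpleGroup G] (h : Nat.card G = 17 * 8 * (17 + 1))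
    {F : Type*} [Field F] [Fintype F] (hF : Fintype.card F = 17) :
    Nonempty (G ≃* Matrix.ProjectiveSpecialLinearGroup (Fin 2) F) := by
  haveI : Fact (Nat.Prime 17) := ⟨by norm_num⟩
  exact iso_psl check17 gne17 (by norm_num) h hF (by decide +kernel)

theorem check19 : Check 19 9 4 2 where
  size := rfl
  unit := by decide +kernel
  cover := by decide +kernel
  roots := by decide +kernel
  vne := by decide +kernel
  flip := by decide +kernel

theorem gne19 : (4 : ZMod 19) ≠ 0 := by decide +kernel

theorem iso19 {G : Type*} [Group G] [Finite G] [IsSimpleGroup G] (h : Nat.card G = 19 * 9 * (19 + 1))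
    {F : Type*} [Field F] [Fintype F] (hF : Fintype.card F = 19) :
    Nonempty (G ≃* Matrix.ProjectiveSpecialLinearGroup (Fin 2) F) := by
  haveI : Fact (Nat.Prime 19) := ⟨by norm_num⟩
  exact iso_psl check19 gne19 (by norm_num) h hF (by decide +kernel)

theorem check23 : Check 23 11 2 5 where
  size := rfl
  unit := by decide +kernel
  cover := by decide +kernel
  roots := by decide +kernel
  vne := by decide +kernel
  flip := by decide +kernel

theorem gne23 : (2 : ZMod 23) ≠ 0 := by decide +kernel

theorem iso23 {G : Type*} [Group G] [Finite G] [IsSimpleGroup G] (h : Nat.card G = 23 * 11 * (23 + 1))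
    {F : Type*} [Field F] [Fintype F] (hF : Fintype.card F = 23) :
    Nonempty (G ≃* Matrix.ProjectiveSpecialLinearGroup (Fin 2) F) := by
  haveI : Fact (Nat.Prime 23) := ⟨by norm_num⟩
  exact iso_psl check23 gne23 (by norm_num) h hF (by decide +kernel)

end Cfsg.Agent.Small.PSLOrderIso
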