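import Cfsg.Agent.S0243
import Cfsg.Agent.S0245
import Cfsg.Agent.S0246
import Cfsg.Agent.S0280
import Cfsg.Agent.S0292
import Cfsg.Agent.S0293
import Cfsg.Agent.S0294
import Cfsg.Agent.S1059
import Cfsg.Agent.S1062
import Cfsg.Agent.S1063
import Cfsg.Agent.S1064
import Cfsg.Agent.S1065
import Cfsg.Agent.S1066
import Cfsg.Agent.S1067
import Cfsg.Agent.S1068
import Cfsg.Agent.S1069
import Cfsg.Agent.S1163
import Cfsg.Prelude.Def_LieTypeChar
import Mathlib.Data.Nat.Factorization.Basic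
import Mathlib.Algebra.BigOperators.Intervals
import Mathlib.FieldTheory.Finite.Basic

/-!
The order of a group of Lie type against the order of its Sylow subgroup in the defining characteristic.
-/

set_option autoImplicit false

namespace Cfsg.Agent.Small.LieOrderBound

/-- M is prime to p and below q^D. -/
def Below (p q M D : ℕ) : Prop := ¬ p ∣ M ∧ M < q ^ D

variable {p q : ℕ}

theorem not_dvd_pow_sub (hp : p.Prime) (hpq : p ∣ q) (hq : 0 < q) {d : ℕ} (hd : 1 ≤ d) :
    ¬ p ∣ q ^ d - 1 := fun h => hp.ne_one (Nat.dvd_one.1 (by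
  have h1 := Nat.dvd_sub (dvd_pow hpq (by omega : d ≠ 0)) h
  have := Nat.one_le_pow d q hq
  rwa [show q ^ d - (q ^ d - 1) = 1 by omega] at h1))

theorem not_dvd_pow_add (hp : p.Prime) (hpq : p ∣ q) {d : ℕ} (hd : 1 ≤ d) : ¬ p ∣ q ^ d + 1 := fun h =>
  hp.ne_one (Nat.dvd_one.1 ((Nat.dvd_add_right (dvd_pow hpq (by omega : d ≠ 0))).1 h))

theorem below_sub (hp : p.Prime) (hpq : p ∣ q) (hq : 0 < q) {d : ℕ} (hd : 1 ≤ d) :
    Below p q (q ^ d - 1) d :=
  ⟨not_dvd_pow_sub hp hpq hq hd, by have := Nat.one_le_pow d q hq; omega⟩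

theorem below_pair_sub (hp : p.Prime) (hpq : p ∣ q) (hq : 1 < q) {a b : ℕ} (hb : 1 ≤ b) (hab : b < a) :
    Below p q ((q ^ a + 1) * (q ^ b - 1)) (a + b) := by
  refine ⟨fun h => (hp.dvd_mul.1 h).elim (not_dvd_pow_add hp hpq (by omega))
    (not_dvd_pow_sub hp hpq (by omega) hb), ?_⟩
  have h1 : q ^ b < q ^ a := Nat.pow_lt_pow_right hq hab
  obtain ⟨y, hy⟩ : ∃ y, q ^ b = y + 1 := ⟨q ^ b - 1, by have := Nat.one_le_pow b q (by omega); omega⟩
  rw [pow_add, hy, Nat.add_sub_cancel]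
  nlinarith

theorem Below.mul (hp : p.Prime) {a b x y : ℕ} (h : Below p q a x) (h' : Below p q b y) :
    Below p q (a * b) (x + y) := by
  refine ⟨fun hd => (hp.dvd_mul.1 hd).elim h.1 h'.1, ?_⟩
  rw [pow_add]
  have := h.2; have := h'.2
  nlinarith

theorem bound {f G N D c M : ℕ} (hp : p.Prime) (hq : q = p ^ f) (h : c * G = q ^ N * M)
    (hc : ¬ p ∣ c) (hM : Below p q M D) :
    G.factorization p = f * N ∧ (D ≤ 2 * N → G < p ^ (3 * G.factorization p)) ∧
      (3 * D ≤ 5 * N → G ^ 3 < p ^ (8 * G.factorization p)) := by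
  have hc0 : c ≠ 0 := fun h0 => hc (h0 ▸ dvd_zero p)
  have hq0 : 0 < q := hq ▸ pow_pos hp.pos f
  have hM0 : M ≠ 0 := fun h0 => hM.1 (h0 ▸ dvd_zero p)
  have hG0 : G ≠ 0 := by
    rintro rfl
    rw [mul_zero] at h
    exact (Nat.mul_ne_zero (pow_ne_zero N hq0.ne') hM0) h.symm
  have hv : G.factorization p = f * N := by
    have h1 := congrArg (fun n => n.factorization p) h
    simp only [Nat.factorization_mul hc0 hG0, Nat.factorization_mul (pow_ne_zero N hq0.ne') hM0,
      Finsupp.coe_add, Pi.add_apply, Nat.factorization_eq_zero_of_not_dvd hc,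
      Nat.factorization_eq_zero_of_not_dvd hM.1, zero_add, add_zero] at h1
    rwa [hq, ← pow_mul, hp.factorization_pow, Finsupp.single_eq_same] at h1
  have hlt : G < q ^ (N + D) := by
    rw [pow_add]
    calc G ≤ c * G := Nat.le_mul_of_pos_left G (Nat.pos_of_ne_zero hc0)
      _ = q ^ N * M := h
      _ < q ^ N * q ^ D := Nat.mul_lt_mul_of_pos_left hM.2 (pow_pos hq0 N)
  refine ⟨hv, fun h2 => ?_, fun h5 => ?_⟩
  · rw [hv, show 3 * (f * N) = f * (3 * N) by ring, pow_mul, ← hq]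
    exact lt_of_lt_of_le hlt (Nat.pow_le_pow_right hq0 (by omega))
  · rw [hv, show 8 * (f * N) = f * (8 * N) by ring, pow_mul, ← hq]
    refine lt_of_lt_of_le (Nat.pow_lt_pow_left hlt (by norm_num)) ?_
    rw [← pow_mul]
    exact Nat.pow_le_pow_right hq0 (by omega)

theorem below_even (hp : p.Prime) (hpq : p ∣ q) (hq : 1 < q) : ∀ k, 1 ≤ k →
    Below p q (∏ i ∈ Finset.range k, (q ^ (2 * (i + 1)) - 1)) (k * (k + 1)) := by
  intro k hk
  induction k, hk using Nat.le_induction with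
  | base => simpa using below_sub hp hpq (by omega) (d := 2) (by norm_num)
  | succ k hk ih =>
    rw [Finset.prod_range_succ, show (k + 1) * (k + 1 + 1) = k * (k + 1) + 2 * (k + 1) by ring]
    exact ih.mul hp (below_sub hp hpq (by omega) (by omega))

theorem below_minus (hp : p.Prime) (hpq : p ∣ q) (hq : 1 < q) {m : ℕ} (hm : 3 ≤ m) : ∀ k, 1 ≤ k →
    Below p q ((q ^ m + 1) * ∏ i ∈ Finset.range k, (q ^ (2 * (i + 1)) - 1)) (m + k * (k + 1)) := by
  intro k hk
  induction k, hk using Nat.le_induction with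
  | base => simpa using below_pair_sub hp hpq hq (a := m) (b := 2) (by norm_num) (by omega)
  | succ k hk ih =>
    rw [Finset.prod_range_succ, ← mul_assoc,
      show m + (k + 1) * (k + 1 + 1) = m + k * (k + 1) + 2 * (k + 1) by ring]
    exact ih.mul hp (below_sub hp hpq (by omega) (by omega))

theorem below_linear (hp : p.Prime) (hpq : p ∣ q) (hq : 1 < q) : ∀ k, 1 ≤ k →
    Below p q (∏ i ∈ Finset.range k, (q ^ (i + 2) - 1)) (∑ i ∈ Finset.range k, (i + 2)) := by
  intro k hk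
  induction k, hk using Nat.le_induction with
  | base => simpa using below_sub hp hpq (by omega) (d := 2) (by norm_num)
  | succ k hk ih =>
    rw [Finset.prod_range_succ, Finset.sum_range_succ]
    exact ih.mul hp (below_sub hp hpq (by omega) (by omega))

theorem below_unitary (hp : p.Prime) (hpq : p ∣ q) (hq : 1 < q) : ∀ j,
    (1 ≤ j → Below p q (∏ i ∈ Finset.range (2 * j), (if Even (i + 1) then q ^ (i + 2) + 1 else q ^ (i + 2) - 1))
      (∑ i ∈ Finset.range (2 * j), (i + 2))) ∧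
    Below p q (∏ i ∈ Finset.range (2 * j + 1), (if Even (i + 1) then q ^ (i + 2) + 1 else q ^ (i + 2) - 1))
      (∑ i ∈ Finset.range (2 * j + 1), (i + 2)) := by
  intro j
  induction j with
  | zero =>
    refine ⟨fun h => by omega, ?_⟩
    simpa using below_sub hp hpq (by omega) (d := 2) (by norm_num)
  | succ j ih =>
    have hpair : Below p q ((q ^ (2 * j + 3) + 1) * (q ^ (2 * j + 2) - 1)) (2 * j + 3 + (2 * j + 2)) :=
      below_pair_sub hp hpq hq (by omega) (by omega)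
    have hev : ¬ Even (2 * j + 1) := by simp [Nat.even_add_one]
    have hev' : Even (2 * j + 2) := ⟨j + 1, by ring⟩
    have h2 : Below p q (∏ i ∈ Finset.range (2 * (j + 1)),
        (if Even (i + 1) then q ^ (i + 2) + 1 else q ^ (i + 2) - 1))
        (∑ i ∈ Finset.range (2 * (j + 1)), (i + 2)) := by
      rw [show 2 * (j + 1) = 2 * j + 1 + 1 by ring, Finset.prod_range_succ, Finset.prod_range_succ,
        Finset.sum_range_succ, Finset.sum_range_succ, if_neg hev, if_pos (show Even (2 * j + 1 + 1) from hev')]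
      rcases Nat.eq_zero_or_pos j with rfl | hj
      · simpa [mul_comm] using hpair
      · have := (ih.1 hj).mul hp hpair
        convert this using 1 <;> ring
    refine ⟨fun _ => h2, ?_⟩
    rw [Finset.prod_range_succ, Finset.sum_range_succ, if_neg (by simp [Nat.even_add_one])]
    exact h2.mul hp (below_sub hp hpq (by omega) (by omega))

theorem two_mul_sum (k : ℕ) : 2 * ∑ i ∈ Finset.range k, (i + 2) = k * (k + 3) := by
  induction k with
  | zero => simp
  | succ k ih => rw [Finset.sum_range_succ]; linarith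

theorem coprime_gcd_left {a b : ℕ} (h : ¬ p ∣ b) : ¬ p ∣ Nat.gcd a b := fun h' =>
  h (h'.trans (Nat.gcd_dvd_right a b))

section Groups

variable {G : Type*} [Group G] [Finite G]

/-- The conclusion. -/
def Goal (p : ℕ) (G : Type*) [Group G] : Prop :=
  Nat.card G < p ^ (3 * (Nat.card G).factorization p) ∧
    ((¬ ∃ (F : Type) (_ : Field F) (_ : Fintype F), Fintype.card F = p ^ (Nat.card G).factorization p ∧
        Nonempty (G ≃* Matrix.ProjectiveSpecialLinearGroup (Fin 2) F)) →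
      Nat.card G ^ 3 < p ^ (8 * (Nat.card G).factorization p))

theorem goal_of_bound {f N D c M : ℕ} {H : Type*} [Group H] (e : G ≃* H) (hp : p.Prime)
    (hq : q = p ^ f) (h : c * Nat.card H = q ^ N * M) (hc : ¬ p ∣ c) (hM : Below p q M D)
    (h2 : D ≤ 2 * N) (h5 : 3 * D ≤ 5 * N) : Goal p G := by
  rw [Goal, Nat.card_congr e.toEquiv]
  obtain ⟨-, a, b⟩ := bound hp hq h hc hM
  exact ⟨a h2, fun _ => b h5⟩

theorem card_data {F : Type*} [Field F] [Fintype F] [CharP F p] :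
    ∃ f : ℕ, 1 ≤ f ∧ p.Prime ∧ Fintype.card F = p ^ f ∧ 1 < Fintype.card F ∧ p ∣ Fintype.card F := by
  obtain ⟨n, hp, hn⟩ := FiniteField.card F p
  exact ⟨n, n.pos, hp, hn, Fintype.one_lt_card, hn ▸ dvd_pow_self p n.ne_zero⟩

theorem goal_psl {F : Type} [Field F] [Fintype F] [CharP F p] {n : ℕ} (hn : 2 ≤ n)
    (e : G ≃* Matrix.ProjectiveSpecialLinearGroup (Fin n) F) : Goal p G := by
  obtain ⟨f, -, hp, hq, h1, hpq⟩ := card_data (p := p) (F := F)
  set q := Fintype.card F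
  obtain ⟨k, rfl⟩ : ∃ k, n = k + 1 := ⟨n - 1, by omega⟩
  set N := ∑ i ∈ Finset.range (k + 1), i with hN
  have hprod : ∏ i : Fin (k + 1), (q ^ (k + 1) - q ^ (i : ℕ)) =
      q ^ N * ((q - 1) * ∏ i ∈ Finset.range k, (q ^ (i + 2) - 1)) := by
    rw [Fin.prod_univ_eq_prod_range (fun i => q ^ (k + 1) - q ^ i),
      show (q - 1) * ∏ i ∈ Finset.range k, (q ^ (i + 2) - 1) =
        ∏ i ∈ Finset.range (k + 1), (q ^ (i + 1) - 1) by
          rw [Finset.prod_range_succ']; simp [mul_comm],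
      ← Finset.prod_range_reflect (fun i => q ^ (i + 1) - 1), hN, ← Finset.prod_pow_eq_pow_sum,
      ← Finset.prod_mul_distrib]
    refine Finset.prod_congr rfl fun i hi => ?_
    have := Finset.mem_range.1 hi
    rw [Nat.mul_sub, mul_one, ← pow_add, show i + (k + 1 - 1 - i + 1) = k + 1 by omega]
  have hcard := Cfsg.Agent.S0243.result (F := F) (q := q) rfl (k + 1) hn
  rw [hprod, mul_left_comm (Nat.gcd (k + 1) (q - 1)), mul_left_comm (q ^ N)] at hcard
  have h := Nat.eq_of_mul_eq_mul_left (by omega) hcard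
  have hc : ¬ p ∣ Nat.gcd (k + 1) (q - 1) :=
    coprime_gcd_left (by simpa using not_dvd_pow_sub hp hpq (by omega) (d := 1) le_rfl)
  obtain ⟨hv, a, b⟩ := bound hp hq h hc (below_linear hp hpq h1 k (by omega))
  have hNN : 2 * N = (k + 1) * k := by
    rw [hN, mul_comm, Finset.sum_range_id_mul_two]; simp
  have hDD := two_mul_sum k
  rw [Goal, Nat.card_congr e.toEquiv]
  rcases Nat.lt_or_ge k 2 with hk | hk
  · obtain rfl : k = 1 := by omega
    refine ⟨a (by omega), fun hex => absurd ⟨F, inferInstance, inferInstance, ?_, ⟨e⟩⟩ hex⟩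
    rw [hv, show N = 1 by omega, mul_one]
    exact hq
  · refine ⟨a (by nlinarith), fun _ => b (by nlinarith)⟩

theorem goal_psp {F : Type} [Field F] [Fintype F] [CharP F p] {m : ℕ} (hm : 2 ≤ m)
    (e : G ≃* Cfsg.PSp m F) : Goal p G := by
  obtain ⟨f, -, hp, hq, h1, hpq⟩ := card_data (p := p) (F := F)
  have hcard := Cfsg.Agent.S0245.result (F := F) rfl m
  rw [Subgroup.card_eq_card_quotient_mul_card_subgroup (Subgroup.center ↥(Matrix.symplecticGroup (Fin m) F)),
    Cfsg.Agent.S0246.result (F := F) rfl m (by omega), mul_comm] at hcard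
  exact goal_of_bound e hp hq hcard
    (coprime_gcd_left (by simpa using not_dvd_pow_sub hp hpq (by omega) (d := 1) le_rfl))
    (below_even hp hpq h1 m (by omega)) (by nlinarith) (by nlinarith)

theorem goal_psu {F : Type} [Field F] [Fintype F] [CharP F p] {n k : ℕ} (hk : Fintype.card F = k ^ 2)
    (hn : 3 ≤ n) (e : G ≃* Cfsg.PSU n F k) : Goal p G := by
  obtain ⟨f, -, hp, hq, h1, hpq⟩ := card_data (p := p) (F := F)
  have hpk : p ∣ k := hp.dvd_of_dvd_pow (hk ▸ hpq)
  obtain ⟨f', hf', hk'⟩ := (Nat.dvd_prime_pow hp).1 (show k ∣ p ^ f from hq ▸ hk ▸ dvd_pow_self k two_ne_zero)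
  have hk1 : 1 < k := by
    rw [hk] at h1
    exact (Nat.one_lt_pow_iff two_ne_zero).1 h1
  obtain ⟨j, rfl⟩ : ∃ j, n = j + 1 := ⟨n - 1, by omega⟩
  have hcard := Cfsg.Agent.S0280.result (F := F) hk (j + 1) (by omega)
  rw [Finset.prod_range_succ', mul_left_comm (Nat.gcd (j + 1) (k + 1)),
    show (if Even 0 then k ^ (0 + 1) + 1 else k ^ (0 + 1) - 1) = k + 1 by simp,
    mul_comm _ (k + 1), mul_left_comm (k ^ _)] at hcard
  have h := Nat.eq_of_mul_eq_mul_left (by omega) hcard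
  have hM : Below p k (∏ i ∈ Finset.range j, (if Even (i + 1) then k ^ (i + 1 + 1) + 1 else k ^ (i + 1 + 1) - 1))
      (∑ i ∈ Finset.range j, (i + 2)) := by
    obtain ⟨r, rfl | rfl⟩ := j.even_or_odd'
    · exact (below_unitary hp hpk hk1 r).1 (by omega)
    · exact (below_unitary hp hpk hk1 r).2
  have hDD := two_mul_sum j
  have hj : 2 ∣ (j + 1) * j := by
    rcases Nat.even_or_odd j with he | he
    · exact (even_iff_two_dvd.1 he).mul_left _
    · exact (even_iff_two_dvd.1 (Odd.add_one he)).mul_right _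
  have hN : 2 * ((j + 1) * (j + 1 - 1) / 2) = (j + 1) * j := by
    rw [Nat.add_sub_cancel, Nat.mul_div_cancel' hj]
  exact goal_of_bound e hp hk' h
    (coprime_gcd_left (by simpa using not_dvd_pow_add hp hpk (d := 1) le_rfl)) hM (by nlinarith) (by nlinarith)

theorem goal_omega_odd {F : Type} [Field F] [Fintype F] [CharP F p] {m : ℕ} (hm : 3 ≤ m)
    (hodd : Odd (Fintype.card F)) (e : G ≃* Cfsg.POmega F (Cfsg.quadFormOdd m F)) : Goal p G := by
  obtain ⟨f, -, hp, hq, h1, hpq⟩ := card_data (p := p) (F := F)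
  refine goal_of_bound e hp hq (Cfsg.Agent.S0292.result rfl hodd m hm) ?_
    (below_even hp hpq h1 m (by omega)) (by nlinarith) (by nlinarith)
  intro h2
  obtain rfl := (Nat.prime_dvd_prime_iff_eq hp Nat.prime_two).1 h2
  exact (Nat.not_even_iff_odd.2 hodd) (even_iff_two_dvd.2 hpq)

theorem goal_omega_plus {F : Type} [Field F] [Fintype F] [CharP F p] {m : ℕ} (hm : 4 ≤ m)
    (e : G ≃* Cfsg.POmega F (Cfsg.quadFormPlus m F)) : Goal p G := by
  obtain ⟨f, -, hp, hq, h1, hpq⟩ := card_data (p := p) (F := F)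
  have h := Cfsg.Agent.S0293.result (F := F) rfl m hm
  rw [mul_assoc] at h
  obtain ⟨j, rfl⟩ : ∃ j, m = j + 1 := ⟨m - 1, by omega⟩
  rw [Nat.add_sub_cancel] at h
  exact goal_of_bound e hp hq h (coprime_gcd_left (not_dvd_pow_sub hp hpq (by omega) (by omega)))
    ((below_sub hp hpq (by omega) (d := j + 1) (by omega)).mul hp (below_even hp hpq h1 j (by omega)))
    (by nlinarith) (by nlinarith)

theorem goal_omega_minus {F : Type} [Field F] [Fintype F] [CharP F p] {m : ℕ} (hm : 4 ≤ m) {a b : F}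
    (hab : ∀ z₁ z₂ : F, z₁ ^ 2 + a * z₁ * z₂ + b * z₂ ^ 2 = 0 → z₁ = 0 ∧ z₂ = 0)
    (e : G ≃* Cfsg.POmega F (Cfsg.quadFormMinus (m - 1) F a b)) : Goal p G := by
  obtain ⟨f, -, hp, hq, h1, hpq⟩ := card_data (p := p) (F := F)
  have h := Cfsg.Agent.S0294.result (F := F) rfl m hm a b hab
  rw [mul_assoc] at h
  obtain ⟨j, rfl⟩ : ∃ j, m = j + 1 := ⟨m - 1, by omega⟩
  simp only [Nat.add_sub_cancel] at h e
  exact goal_of_bound e hp hq h (coprime_gcd_left (not_dvd_pow_add hp hpq (by omega)))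
    (below_minus hp hpq h1 (by omega) j (by omega)) (by nlinarith) (by nlinarith)

theorem goal_exceptional (hG : Cfsg.IsExceptionalChevChar p G) : Goal p G := by
  obtain ⟨F, _, _, _, h⟩ := hG
  obtain ⟨f, -, hp, hq, h1, hpq⟩ := card_data (p := p) (F := F)
  have hb : ∀ d, 1 ≤ d → Below p (Fintype.card F) (Fintype.card F ^ d - 1) d := fun d hd =>
    below_sub hp hpq (by omega) hd
  have hc : ∀ a, ¬ p ∣ Nat.gcd a (Fintype.card F - 1) := fun a =>
    coprime_gcd_left (by simpa using not_dvd_pow_sub hp hpq (by omega) (d := 1) le_rfl)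
  rcases h with ⟨-, ⟨e⟩⟩ | ⟨⟨e⟩⟩ | ⟨⟨e⟩⟩ | ⟨⟨e⟩⟩ | ⟨⟨e⟩⟩
  · exact goal_of_bound e hp hq (c := 1) ((one_mul _).trans ((Cfsg.Agent.S1059.result rfl).trans (mul_assoc _ _ _)))
      hp.not_dvd_one ((hb 2 (by norm_num)).mul hp (hb 6 (by norm_num))) (by norm_num) (by norm_num)
  · exact goal_of_bound e hp hq (c := 1) (N := 24) (M := _ * _ * _ * _)
      ((one_mul _).trans ((Cfsg.Agent.S1062.result rfl).trans (by simp only [mul_assoc])))
      hp.not_dvd_one ((((hb 2 (by norm_num)).mul hp (hb 6 (by norm_num))).mul hp (hb 8 (by norm_num))).mul hp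
        (hb 12 (by norm_num))) (by norm_num) (by norm_num)
  · exact goal_of_bound e hp hq (N := 36) (M := _ * _ * _ * _ * _ * _)
      ((Cfsg.Agent.S1063.result rfl).trans (by simp only [mul_assoc])) (hc 3)
      ((((((hb 2 (by norm_num)).mul hp (hb 5 (by norm_num))).mul hp (hb 6 (by norm_num))).mul hp
        (hb 8 (by norm_num))).mul hp (hb 9 (by norm_num))).mul hp (hb 12 (by norm_num))) (by norm_num)
      (by norm_num)
  · exact goal_of_bound e hp hq (N := 63) (M := _ * _ * _ * _ * _ * _ * _)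
      ((Cfsg.Agent.S1064.result rfl).trans (by simp only [mul_assoc])) (hc 2)
      (((((((hb 2 (by norm_num)).mul hp (hb 6 (by norm_num))).mul hp (hb 8 (by norm_num))).mul hp
        (hb 10 (by norm_num))).mul hp (hb 12 (by norm_num))).mul hp (hb 14 (by norm_num))).mul hp
        (hb 18 (by norm_num))) (by norm_num) (by norm_num)
  · exact goal_of_bound e hp hq (c := 1) (N := 120) (M := _ * _ * _ * _ * _ * _ * _ * _)
      ((one_mul _).trans ((Cfsg.Agent.S1065.result rfl).trans (by simp only [mul_assoc])))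
      hp.not_dvd_one ((((((((hb 2 (by norm_num)).mul hp (hb 8 (by norm_num))).mul hp (hb 12 (by norm_num))).mul hp
        (hb 14 (by norm_num))).mul hp (hb 18 (by norm_num))).mul hp (hb 20 (by norm_num))).mul hp
        (hb 24 (by norm_num))).mul hp (hb 30 (by norm_num))) (by norm_num) (by norm_num)

theorem goal_twisted (hG : Cfsg.IsTwistedE6D4Char p G) : Goal p G := by
  obtain ⟨K, _, _, _, k, hk, h⟩ := hG
  obtain ⟨f, -, hp, hq, -, hpq⟩ := card_data (p := p) (F := K)
  have hk1 := hk.one_lt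
  have key : ∀ e : ℕ, e ≠ 0 → Fintype.card K = k ^ e → (∃ f', k = p ^ f') ∧ p ∣ k := fun e he h' =>
    ⟨((Nat.dvd_prime_pow hp).1 (show k ∣ p ^ f from hq ▸ h' ▸ dvd_pow_self k he)).imp fun _ h => h.2,
      hp.dvd_of_dvd_pow (h' ▸ hpq)⟩
  rcases h with ⟨hK, ⟨e⟩⟩ | ⟨hK, ⟨e⟩⟩
  · obtain ⟨⟨f', hf'⟩, hpk⟩ := key 2 two_ne_zero hK
    exact goal_of_bound e hp hf' (M := ((k ^ 5 + 1) * (k ^ 2 - 1)) * ((k ^ 9 + 1) * (k ^ 6 - 1)) *
        (k ^ 8 - 1) * (k ^ 12 - 1)) (N := 36) ((Cfsg.Agent.S1066.result hk hK).trans (by ring))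
      (coprime_gcd_left (by simpa using not_dvd_pow_add hp hpk (d := 1) le_rfl))
      ((((below_pair_sub hp hpk hk1 (by norm_num) (by norm_num)).mul hp
        (below_pair_sub hp hpk hk1 (by norm_num) (by norm_num))).mul hp
        (below_sub hp hpk (by omega) (d := 8) (by norm_num))).mul hp
        (below_sub hp hpk (by omega) (d := 12) (by norm_num))) (by norm_num) (by norm_num)
  · obtain ⟨⟨f', hf'⟩, hpk⟩ := key 3 three_ne_zero hK
    have hb8 : Below p k ((k ^ 2 - 1) * (k ^ 8 + k ^ 4 + 1)) 11 := by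
      refine ⟨fun hd => (hp.dvd_mul.1 hd).elim (not_dvd_pow_sub hp hpk (by omega) (by norm_num)) fun h3 =>
        hp.ne_one (Nat.dvd_one.1 ((Nat.dvd_add_right
          ((dvd_pow hpk (by norm_num : 8 ≠ 0)).add (dvd_pow hpk (by norm_num : 4 ≠ 0)))).1 h3)), ?_⟩
      calc (k ^ 2 - 1) * (k ^ 8 + k ^ 4 + 1) < k ^ 2 * (k ^ 8 + k ^ 4 + 1) :=
            Nat.mul_lt_mul_of_pos_right (by have := Nat.one_le_pow 2 k (by omega); omega) (by positivity)
        _ ≤ k ^ 2 * k ^ 9 := by
            have e1 : k ^ 4 + 1 ≤ k ^ 8 := Nat.pow_lt_pow_right hk1 (by norm_num)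
            have e2 : k ^ 8 + k ^ 8 ≤ k ^ 9 := by
              rw [pow_succ k 8, ← mul_two]
              exact Nat.mul_le_mul_left _ hk1
            exact Nat.mul_le_mul_left _ (by omega)
        _ = k ^ 11 := by ring
    exact goal_of_bound e hp hf' (c := 1) (N := 12) (M := (k ^ 2 - 1) * (k ^ 8 + k ^ 4 + 1) * (k ^ 6 - 1))
      ((one_mul _).trans ((Cfsg.Agent.S1067.result hk hK).trans (by ring))) hp.not_dvd_one
      (hb8.mul hp (below_sub hp hpk (by omega) (d := 6) (by norm_num))) (by norm_num) (by norm_num)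

theorem goal_suzuki (hG : Cfsg.Lie.IsoSuzuki G) : Goal 2 G := by
  obtain ⟨F, _, _, m, hm, hF, ⟨e⟩⟩ := hG
  have h := (Cfsg.Agent.S1163.result hm hF).1
  set k := 2 ^ (2 * m + 1) with hk
  have hk1 : 1 < k := hk ▸ Nat.one_lt_two_pow (by omega)
  have hpk : 2 ∣ k := hk ▸ dvd_pow_self 2 (by omega)
  exact goal_of_bound e Nat.prime_two hk (c := 1) (N := 2) (M := (k ^ 2 + 1) * (k ^ 1 - 1))
    ((one_mul _).trans (h.trans (by ring))) (by norm_num)
    (below_pair_sub Nat.prime_two hpk hk1 le_rfl (by norm_num)) (by norm_num) (by norm_num)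

theorem goal_ree_two (hG : Cfsg.Lie.Iso2F4 G) : Goal 2 G := by
  obtain ⟨K, _, _, m, hm, hK, ⟨e⟩⟩ := hG
  have h := Cfsg.Agent.S1068.result hK
  set k := 2 ^ (2 * m + 1) with hk
  have hk1 : 1 < k := hk ▸ Nat.one_lt_two_pow (by omega)
  have hpk : 2 ∣ k := hk ▸ dvd_pow_self 2 (by omega)
  exact goal_of_bound e Nat.prime_two hk (c := 1) (N := 12)
    (M := (k ^ 3 + 1) * (k ^ 1 - 1) * ((k ^ 6 + 1) * (k ^ 4 - 1)))
    ((one_mul _).trans (h.trans (by ring))) (by norm_num)
    ((below_pair_sub Nat.prime_two hpk hk1 le_rfl (by norm_num)).mul Nat.prime_two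
      (below_pair_sub Nat.prime_two hpk hk1 (by norm_num) (by norm_num))) (by norm_num) (by norm_num)

theorem goal_ree_three (hG : Cfsg.Lie.IsoRee G) : Goal 3 G := by
  obtain ⟨K, _, _, m, hm, hK, ⟨e⟩⟩ := hG
  have h := Cfsg.Agent.S1069.result hK
  set k := 3 ^ (2 * m + 1) with hk
  have hk1 : 1 < k := hk ▸ Nat.one_lt_pow (by omega) (by norm_num)
  have hpk : 3 ∣ k := hk ▸ dvd_pow_self 3 (by omega)
  exact goal_of_bound e Nat.prime_three hk (c := 1) (N := 3) (M := (k ^ 3 + 1) * (k ^ 1 - 1))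
    ((one_mul _).trans (h.trans (by ring))) (by norm_num)
    (below_pair_sub Nat.prime_three hpk hk1 le_rfl (by norm_num)) (by norm_num) (by norm_num)

/-- The order bound. -/
theorem goal (hG : Cfsg.IsLieTypeChar p G) : Goal p G := by
  rcases hG with h | h | h | h | h | h | h | h | ⟨rfl, h⟩ | ⟨rfl, h⟩ | ⟨rfl, h⟩
  · obtain ⟨F, _, _, _, n, hn, -, ⟨e⟩⟩ := h; exact goal_psl hn e
  · obtain ⟨F, _, _, _, m, hm, -, ⟨e⟩⟩ := h; exact goal_psp hm e
  · obtain ⟨F, _, _, _, n, k, hk, hn, -, ⟨e⟩⟩ := h; exact goal_psu hk hn e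
  · obtain ⟨F, _, _, _, m, hm, ho, ⟨e⟩⟩ := h; exact goal_omega_odd hm ho e
  · obtain ⟨F, _, _, _, m, hm, ⟨e⟩⟩ := h; exact goal_omega_plus hm e
  · obtain ⟨F, _, _, _, m, a, b, hm, hab, ⟨e⟩⟩ := h; exact goal_omega_minus hm hab e
  · exact goal_exceptional h
  · exact goal_twisted h
  · exact goal_suzuki h
  · exact goal_ree_two h
  · exact goal_ree_three h

end Groups

end Cfsg.Agent.Small.LieOrderBound
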