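import Cfsg.Agent.Lib.Small.FieldMatrix

/-!
The Fine–Herstein count of nilpotent matrices, via the Fitting decomposition.
-/

set_option autoImplicit false

namespace Cfsg.Agent.Small.NilpotentCount

open Matrix Module

variable {F : Type*} [Field F] [Fintype F]

/-- The matrices whose eventual rank is `m`. -/
def Strat (F : Type*) [Field F] (n m : ℕ) : Type _ :=
  {M : Matrix (Fin n) (Fin n) F // (M ^ n).rank = m}

/-- The nilpotent matrices. -/
def Nil (F : Type*) [Field F] (n : ℕ) : Type _ :=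
  {M : Matrix (Fin n) (Fin n) F // IsNilpotent M}

instance (n m : ℕ) : Finite (Strat F n m) := inferInstanceAs (Finite {M : Matrix (Fin n) (Fin n) F // _})
instance (n : ℕ) : Finite (Nil F n) := inferInstanceAs (Finite {M : Matrix (Fin n) (Fin n) F // _})

section Block

variable {k m : ℕ}

omit [Fintype F] in
theorem blocks_eq_zero (N1 : Matrix (Fin k) (Fin k) F) (A1 : Matrix (Fin m) (Fin m) F)
    (b : Matrix (Fin k) (Fin m) F) (c : Matrix (Fin m) (Fin k) F)
    (N2 : Matrix (Fin k) (Fin k) F) (A2 : Matrix (Fin m) (Fin m) F)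
    (hN1 : IsNilpotent N1) (hN2 : IsNilpotent N2) (hA1 : IsUnit A1) (hA2 : IsUnit A2)
    (hb : b * A1 = N2 * b) (hc : c * N1 = A2 * c) : b = 0 ∧ c = 0 := by
  obtain ⟨u, rfl⟩ := hA1
  obtain ⟨v, rfl⟩ := hA2
  obtain ⟨i, hi⟩ := hN1
  obtain ⟨j, hj⟩ := hN2
  have e1 : ∀ t : ℕ, b * (u : Matrix (Fin m) (Fin m) F) ^ t = N2 ^ t * b := by
    intro t
    induction t with
    | zero => simp
    | succ t ih => rw [pow_succ, ← Matrix.mul_assoc, ih, Matrix.mul_assoc, hb, ← Matrix.mul_assoc, pow_succ]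
  have e2 : ∀ t : ℕ, (v : Matrix (Fin m) (Fin m) F) ^ t * c = c * N1 ^ t := by
    intro t
    induction t with
    | zero => simp
    | succ t ih => rw [pow_succ, Matrix.mul_assoc, ← hc, ← Matrix.mul_assoc, ih, Matrix.mul_assoc, pow_succ]
  constructor
  · have := congrArg (· * ((u ^ j)⁻¹ : GL (Fin m) F).val) (e1 j)
    simp only [hj, Matrix.zero_mul, Matrix.mul_assoc] at this
    rwa [← Units.val_pow_eq_pow_val, ← Units.val_mul, mul_inv_cancel, Units.val_one, Matrix.mul_one] at this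
  · have := congrArg (((v ^ i)⁻¹ : GL (Fin m) F).val * ·) (e2 i)
    simp only [hi, Matrix.mul_zero, ← Matrix.mul_assoc] at this
    rwa [← Units.val_pow_eq_pow_val, ← Units.val_mul, inv_mul_cancel, Units.val_one, Matrix.one_mul] at this

/-- The block diagonal embedding. -/
def blk : GL (Fin k) F × GL (Fin m) F →* GL (Fin k ⊕ Fin m) F :=
  MonoidHom.comp
    (Units.map
      { toFun := fun p : Matrix (Fin k) (Fin k) F × Matrix (Fin m) (Fin m) F => Matrix.fromBlocks p.1 0 0 p.2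
        map_one' := Matrix.fromBlocks_one
        map_mul' := fun p q => by simp [Matrix.fromBlocks_multiply] })
    (MulEquiv.prodUnits.symm.toMonoidHom)

omit [Fintype F] in
theorem coe_blk (a : GL (Fin k) F) (d : GL (Fin m) F) :
    ((blk (a, d) : GL (Fin k ⊕ Fin m) F) : Matrix (Fin k ⊕ Fin m) (Fin k ⊕ Fin m) F) =
      Matrix.fromBlocks a 0 0 d := rfl

/-- The parametrisation of a stratum. -/
def par (x : GL (Fin k ⊕ Fin m) F × Nil F k × GL (Fin m) F) : Matrix (Fin k ⊕ Fin m) (Fin k ⊕ Fin m) F :=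
  (x.1 : Matrix (Fin k ⊕ Fin m) (Fin k ⊕ Fin m) F) * Matrix.fromBlocks x.2.1.1 0 0 (x.2.2 : Matrix (Fin m) (Fin m) F) *
    (x.1⁻¹ : GL (Fin k ⊕ Fin m) F).val

omit [Fintype F] in
theorem rank_par (x : GL (Fin k ⊕ Fin m) F × Nil F k × GL (Fin m) F) {t : ℕ} (ht : k ≤ t) :
    (par x ^ t).rank = m := by
  obtain ⟨P, ⟨N, hN⟩, A⟩ := x
  simp only [par]
  rw [Units.conj_pow, Matrix.rank_mul_eq_left_of_isUnit_det _ _ ((Matrix.isUnit_iff_isUnit_det _).1 P⁻¹.isUnit),
    Matrix.rank_mul_eq_right_of_isUnit_det _ _ ((Matrix.isUnit_iff_isUnit_det _).1 P.isUnit),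
    Matrix.fromBlocks_diagonal_pow,
    pow_eq_zero_of_le ht (Cfsg.Agent.Small.pow_eq_zero_of_isNilpotent hN)]
  rw [← Units.val_pow_eq_pow_val]
  set B : Matrix (Fin m) (Fin m) F := ((A ^ t : GL (Fin m) F) : Matrix (Fin m) (Fin m) F) with hB
  have : Matrix.fromBlocks (0 : Matrix (Fin k) (Fin k) F) 0 0 B =
      (blk (k := k) (1, A ^ t) : GL (Fin k ⊕ Fin m) F).val *
        Matrix.diagonal (Sum.elim (fun _ : Fin k => (0 : F)) fun _ : Fin m => 1) := by
    rw [coe_blk, ← Matrix.fromBlocks_diagonal, Matrix.fromBlocks_multiply]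
    simp [hB]
  rw [this, Matrix.rank_mul_eq_right_of_isUnit_det _ _ ((Matrix.isUnit_iff_isUnit_det _).1 (blk (k := k) (1, A ^ t)).isUnit)]
  classical
  rw [Matrix.rank_diagonal, Fintype.card_eq_nat_card,
    Nat.card_congr (show {i : Fin k ⊕ Fin m // Sum.elim (fun _ : Fin k => (0 : F)) (fun _ : Fin m => 1) i ≠ 0} ≃ Fin m from
      { toFun := fun i => match i with
          | ⟨.inl _, h⟩ => absurd rfl h
          | ⟨.inr j, _⟩ => j
        invFun := fun j => ⟨.inr j, one_ne_zero⟩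
        left_inv := fun i => match i with
          | ⟨.inl _, h⟩ => absurd rfl h
          | ⟨.inr j, _⟩ => rfl
        right_inv := fun j => rfl })]
  simp

omit [Fintype F] in
theorem exists_par (M : Matrix (Fin k ⊕ Fin m) (Fin k ⊕ Fin m) F) (hM : (M ^ (k + m)).rank = m) :
    ∃ x, par x = M := by
  set f : Module.End F (Fin k ⊕ Fin m → F) := Matrix.toLin' M with hf
  have hdim : finrank F (Fin k ⊕ Fin m → F) = k + m := by simp
  set R := LinearMap.range (f ^ (k + m)) with hR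
  set K := LinearMap.ker (f ^ (k + m)) with hK
  have hRm : finrank F R = m := by
    rw [hR, hf, ← Matrix.toLin'_pow]
    exact hM
  have hdisj : Disjoint K R := by
    rw [Submodule.disjoint_def]
    rintro y hy ⟨x, rfl⟩
    rw [hK, LinearMap.mem_ker, ← Module.End.mul_apply, ← pow_add] at hy
    have h2 : LinearMap.ker (f ^ (k + m + (k + m))) = LinearMap.ker (f ^ (k + m)) := by
      rw [Module.End.ker_pow_eq_ker_pow_finrank_of_le (f := f) (m := k + m + (k + m)) (by omega), hdim]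
    have hx : x ∈ LinearMap.ker (f ^ (k + m)) := h2 ▸ hy
    exact hx
  have hsum := (f ^ (k + m)).finrank_range_add_finrank_ker
  rw [← hR, ← hK, hdim] at hsum
  have hKk : finrank F K = k := by omega
  have hcompl : IsCompl K R := by
    refine ⟨hdisj, codisjoint_iff.2 (Submodule.eq_top_of_finrank_eq ?_)⟩
    have := Submodule.finrank_sup_add_finrank_inf_eq K R
    rw [hdisj.eq_bot, finrank_bot] at this
    omega
  have hfK : ∀ v ∈ K, f v ∈ K := by
    intro v hv
    rw [hK, LinearMap.mem_ker] at hv ⊢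
    rw [← Module.End.mul_apply, ← pow_succ, pow_succ', Module.End.mul_apply, hv, map_zero]
  have hfR : ∀ v ∈ R, f v ∈ R := by
    rintro _ ⟨w, rfl⟩
    exact ⟨f w, by rw [← Module.End.mul_apply, ← pow_succ, pow_succ', Module.End.mul_apply]⟩
  let bK : Basis (Fin k) F K := Module.finBasisOfFinrankEq F K hKk
  let bR : Basis (Fin m) F R := Module.finBasisOfFinrankEq F R hRm
  let b : Basis (Fin k ⊕ Fin m) F (Fin k ⊕ Fin m → F) := (bK.prod bR).map (Submodule.prodEquivOfIsCompl K R hcompl)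
  let NK := f.restrict hfK
  let AR := f.restrict hfR
  have hN : IsNilpotent (LinearMap.toMatrix bK bK NK) := by
    refine ⟨k + m, ?_⟩
    show LinearMap.toMatrixAlgEquiv bK NK ^ (k + m) = 0
    rw [← map_pow]
    have : NK ^ (k + m) = 0 := by
      apply LinearMap.ext
      intro v
      apply Subtype.ext
      show ((f.restrict hfK ^ (k + m)) v : Fin k ⊕ Fin m → F) = 0
      rw [Module.End.pow_restrict _ hfK]
      exact v.2
    rw [this, map_zero]
  have hAinj : Function.Injective AR := by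
    rw [injective_iff_map_eq_zero]
    intro v hv
    have h0 : f v.1 = 0 := congrArg Subtype.val hv
    apply Subtype.ext
    refine Submodule.disjoint_def.1 hdisj _ ?_ v.2
    rw [hK, LinearMap.mem_ker]
    rcases Nat.eq_zero_or_pos (k + m) with h | h
    · have : Subsingleton (Fin k ⊕ Fin m → F) := Module.finrank_zero_iff.1 (hdim.trans h)
      exact Subsingleton.elim _ _
    · obtain ⟨t, ht⟩ : ∃ t, k + m = t + 1 := ⟨k + m - 1, by omega⟩
      rw [ht, pow_succ, Module.End.mul_apply, h0, map_zero]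
  have hAu : IsUnit AR := (Module.End.isUnit_iff _).2 ⟨hAinj, LinearMap.injective_iff_surjective.1 hAinj⟩
  obtain ⟨A, hA⟩ := hAu.map (LinearMap.toMatrixAlgEquiv bR)
  let P : GL (Fin k ⊕ Fin m) F := ⟨(Pi.basisFun F _).toMatrix b, b.toMatrix (Pi.basisFun F _),
    Basis.toMatrix_mul_toMatrix_flip _ _, Basis.toMatrix_mul_toMatrix_flip _ _⟩
  refine ⟨(P, ⟨_, hN⟩, A), ?_⟩
  have hblk : LinearMap.toMatrix b b f =
      Matrix.fromBlocks (LinearMap.toMatrix bK bK NK) 0 0 (A : Matrix (Fin m) (Fin m) F) := by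
    rw [hA]
    show LinearMap.toMatrix b b f = Matrix.fromBlocks _ 0 0 (LinearMap.toMatrix bR bR AR)
    rw [← LinearMap.toMatrix_prodMap]
    ext i j
    have hfe : ∀ z, f (Submodule.prodEquivOfIsCompl K R hcompl z) =
        Submodule.prodEquivOfIsCompl K R hcompl (NK.prodMap AR z) := by
      rintro ⟨u, w⟩
      simp only [Submodule.coe_prodEquivOfIsCompl', map_add, LinearMap.prodMap_apply]
      rfl
    simp only [LinearMap.toMatrix_apply, b, Basis.map_apply, hfe, Basis.map_repr, LinearEquiv.trans_apply,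
      LinearEquiv.symm_apply_apply]
  simp only [par]
  rw [← hblk]
  show (Pi.basisFun F _).toMatrix b * LinearMap.toMatrix b b f * b.toMatrix (Pi.basisFun F _) = M
  rw [basis_toMatrix_mul_linearMap_toMatrix_mul_basis_toMatrix, ← LinearMap.toMatrix'_toLin' (R := F) M]
  rfl

/-- The fibres of the parametrisation. -/
theorem fibre_card (x0 : GL (Fin k ⊕ Fin m) F × Nil F k × GL (Fin m) F) :
    Nat.card {x // par (F := F) x = par x0} = Nat.card (GL (Fin k) F) * Nat.card (GL (Fin m) F) := by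
  rw [← Nat.card_prod]
  obtain ⟨P0, ⟨N0, hN0⟩, A0⟩ := x0
  refine (Nat.card_eq_of_bijective (fun ad : GL (Fin k) F × GL (Fin m) F =>
    (⟨(P0 * (blk ad)⁻¹, ⟨(ad.1 : Matrix (Fin k) (Fin k) F) * N0 * ((ad.1⁻¹ : GL (Fin k) F) : Matrix _ _ F), ?_⟩,
      ad.2 * A0 * ad.2⁻¹), ?_⟩ : {x // par (F := F) x = par (P0, ⟨N0, hN0⟩, A0)})) ⟨?_, ?_⟩).symm
  · obtain ⟨i, hi⟩ := hN0
    exact ⟨i, by rw [Units.conj_pow, hi]; simp⟩
  · obtain ⟨a, d⟩ := ad
    simp only [par]
    have : Matrix.fromBlocks ((a : Matrix (Fin k) (Fin k) F) * N0 * ((a⁻¹ : GL (Fin k) F) : Matrix _ _ F)) 0 0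
        ((d * A0 * d⁻¹ : GL (Fin m) F) : Matrix (Fin m) (Fin m) F) =
      (blk (a, d) : GL (Fin k ⊕ Fin m) F).val * Matrix.fromBlocks N0 0 0 (A0 : Matrix (Fin m) (Fin m) F) *
        ((blk (a, d))⁻¹ : GL (Fin k ⊕ Fin m) F).val := by
      rw [← map_inv, Prod.inv_mk, coe_blk, coe_blk, Matrix.fromBlocks_multiply, Matrix.fromBlocks_multiply]
      simp
    rw [this, _root_.mul_inv_rev, inv_inv]
    simp only [Units.val_mul, Matrix.mul_assoc]
    simp only [← Matrix.mul_assoc]
    simp [Matrix.mul_assoc]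
  · intro x y h
    have h1 : P0 * (blk x)⁻¹ = P0 * (blk y)⁻¹ := congrArg (fun z => z.1.1) h
    have h2 := congrArg Units.val (inv_injective (mul_left_cancel h1))
    obtain ⟨a, d⟩ := x; obtain ⟨a', d'⟩ := y
    rw [coe_blk, coe_blk, Matrix.fromBlocks_inj] at h2
    exact Prod.ext (Units.ext h2.1) (Units.ext h2.2.2.2)
  · rintro ⟨⟨P, ⟨N, hN⟩, A⟩, hx⟩
    simp only [par] at hx
    set Q : GL (Fin k ⊕ Fin m) F := P⁻¹ * P0 with hQ
    have hQe : (Q : Matrix _ _ F) * Matrix.fromBlocks N0 0 0 (A0 : Matrix (Fin m) (Fin m) F) =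
        Matrix.fromBlocks N 0 0 (A : Matrix (Fin m) (Fin m) F) * (Q : Matrix _ _ F) := by
      have h := congrArg (fun z => ((P⁻¹ : GL (Fin k ⊕ Fin m) F) : Matrix _ _ F) * z * (P0 : Matrix _ _ F)) hx
      simp only [← Matrix.mul_assoc, ← Units.val_mul, inv_mul_cancel, Units.val_one, Matrix.one_mul] at h
      simp only [Matrix.mul_assoc, ← Units.val_mul, inv_mul_cancel, Units.val_one, Matrix.mul_one] at h
      exact h.symm
    obtain ⟨qa, qb, qc, qd, hq⟩ : ∃ (a : Matrix (Fin k) (Fin k) F) (b : Matrix (Fin k) (Fin m) F)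
        (c : Matrix (Fin m) (Fin k) F) (d : Matrix (Fin m) (Fin m) F), (Q : Matrix _ _ F) = Matrix.fromBlocks a b c d :=
      ⟨_, _, _, _, (Matrix.fromBlocks_toBlocks _).symm⟩
    rw [hq, Matrix.fromBlocks_multiply, Matrix.fromBlocks_multiply, Matrix.fromBlocks_inj] at hQe
    simp only [Matrix.mul_zero, Matrix.zero_mul, add_zero, zero_add] at hQe
    obtain ⟨ha, hb, hc, hd⟩ := hQe
    obtain ⟨rfl, rfl⟩ := blocks_eq_zero N0 (A0 : Matrix (Fin m) (Fin m) F) qb qc N (A : Matrix (Fin m) (Fin m) F)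
      hN0 hN A0.isUnit A.isUnit hb hc
    have hdet : IsUnit (qa.det * qd.det) := by
      rw [← Matrix.det_fromBlocks_zero₁₂ qa 0 qd, ← hq]
      exact (Matrix.isUnit_iff_isUnit_det _).1 Q.isUnit
    rw [IsUnit.mul_iff] at hdet
    obtain ⟨a, rfl⟩ := (Matrix.isUnit_iff_isUnit_det _).2 hdet.1
    obtain ⟨d, rfl⟩ := (Matrix.isUnit_iff_isUnit_det _).2 hdet.2
    have hblk : blk (a, d) = Q := Units.ext (by rw [coe_blk, hq])
    refine ⟨(a, d), Subtype.ext (Prod.ext ?_ (Prod.ext (Subtype.ext ?_) (Units.ext ?_)))⟩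
    · show P0 * (blk (a, d))⁻¹ = P
      rw [hblk, hQ]
      group
    · show (a : Matrix (Fin k) (Fin k) F) * N0 * ((a⁻¹ : GL (Fin k) F) : Matrix _ _ F) = N
      rw [ha, Matrix.mul_assoc, ← Units.val_mul, mul_inv_cancel, Units.val_one, Matrix.mul_one]
    · show ((d * A0 * d⁻¹ : GL (Fin m) F) : Matrix (Fin m) (Fin m) F) = A
      rw [Units.val_mul, Units.val_mul, hd, Matrix.mul_assoc, ← Units.val_mul, mul_inv_cancel, Units.val_one,
        Matrix.mul_one]

theorem card_stratum {n : ℕ} (h : k + m = n) :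
    Nat.card (Strat F n m) * Nat.card (GL (Fin k) F) =
      Nat.card (GL (Fin n) F) * Nat.card (Nil F k) := by
  subst h
  let e : Fin k ⊕ Fin m ≃ Fin (k + m) := finSumFinEquiv
  let φ : Matrix (Fin k ⊕ Fin m) (Fin k ⊕ Fin m) F ≃ₐ[F] Matrix (Fin (k + m)) (Fin (k + m)) F := Matrix.reindexAlgEquiv F F e
  let T := {M : Matrix (Fin k ⊕ Fin m) (Fin k ⊕ Fin m) F // (M ^ (k + m)).rank = m}
  have hT : Nat.card T = Nat.card (Strat F (k + m) m) := Nat.card_congr (φ.toEquiv.subtypeEquiv fun M => by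
    show _ ↔ (φ M ^ (k + m)).rank = m
    rw [← map_pow]
    exact iff_of_eq (congrArg (· = m) (Matrix.rank_reindex e e _).symm))
  have hGL : Nat.card (GL (Fin k ⊕ Fin m) F) = Nat.card (GL (Fin (k + m)) F) :=
    Nat.card_congr (Units.mapEquiv φ.toMulEquiv).toEquiv
  let par' : GL (Fin k ⊕ Fin m) F × Nil F k × GL (Fin m) F → T := fun x => ⟨par x, rank_par x (by omega)⟩
  haveI : Fintype T := Fintype.ofFinite T
  have hfib : ∀ y : T, Nat.card {x // par' x = y} = Nat.card (GL (Fin k) F) * Nat.card (GL (Fin m) F) := by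
    intro y
    obtain ⟨x0, hx0⟩ := exists_par y.1 y.2
    rw [← fibre_card x0]
    exact Nat.card_congr (Equiv.subtypeEquivRight fun x => by rw [hx0]; exact Subtype.ext_iff)
  have htot := Nat.card_congr (Equiv.sigmaFiberEquiv par')
  rw [Nat.card_sigma, Finset.sum_congr rfl fun y _ => hfib y, Finset.sum_const, Finset.card_univ, smul_eq_mul,
    Fintype.card_eq_nat_card, hT, Nat.card_prod, Nat.card_prod, hGL, ← mul_assoc, ← mul_assoc] at htot
  exact Nat.eq_of_mul_eq_mul_right Nat.card_pos htot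

end Block

theorem card_GL_succ (n : ℕ) :
    Nat.card (GL (Fin (n + 1)) F) =
      Fintype.card F ^ n * (Fintype.card F ^ (n + 1) - 1) * Nat.card (GL (Fin n) F) := by
  rw [Matrix.card_GL_field, Matrix.card_GL_field, Fin.prod_univ_succ]
  simp only [Fin.val_zero, pow_zero, Fin.val_succ]
  rw [mul_comm (Fintype.card F ^ n), mul_assoc]
  congr 1
  have : ∀ i : Fin n, Fintype.card F ^ (n + 1) - Fintype.card F ^ ((i : ℕ) + 1) =
      Fintype.card F * (Fintype.card F ^ n - Fintype.card F ^ (i : ℕ)) := by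
    intro i
    rw [Nat.mul_sub, pow_succ', pow_succ']
  rw [Finset.prod_congr rfl fun i _ => this i, Finset.prod_mul_distrib, Finset.prod_const, Finset.card_univ,
    Fintype.card_fin]

theorem card_strat_sum (n : ℕ) :
    ∑ m ∈ Finset.range (n + 1), Nat.card (Strat F n m) = Fintype.card F ^ (n * n) := by
  let f : Matrix (Fin n) (Fin n) F → Fin (n + 1) := fun M => ⟨(M ^ n).rank, by
    have := Matrix.rank_le_width (M ^ n)
    omega⟩
  have h := Nat.card_congr (Equiv.sigmaFiberEquiv f)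
  rw [Nat.card_sigma] at h
  rw [Finset.sum_range]
  have hcard : Nat.card (Matrix (Fin n) (Fin n) F) = Fintype.card F ^ (n * n) := by
    rw [show Matrix (Fin n) (Fin n) F = (Fin n → Fin n → F) from rfl, Nat.card_fun, Nat.card_fun,
      Nat.card_eq_fintype_card, Nat.card_eq_fintype_card, Fintype.card_fin, ← pow_mul]
  rw [← hcard, ← h]
  refine Finset.sum_congr rfl fun i _ => Nat.card_congr (Equiv.subtypeEquivRight fun M => ?_)
  simp [f, Fin.ext_iff]

omit [Fintype F] in
theorem rank_eq_zero_iff' {n : ℕ} (M : Matrix (Fin n) (Fin n) F) : M.rank = 0 ↔ M = 0 := by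
  constructor
  · intro h
    rw [Matrix.rank, Submodule.finrank_eq_zero, LinearMap.range_eq_bot] at h
    exact Matrix.toLin'.injective ((Matrix.toLin'_apply' M).trans (h.trans (map_zero _).symm))
  · rintro rfl; exact Matrix.rank_zero

theorem card_strat_zero (n : ℕ) : Nat.card (Strat F n 0) = Nat.card (Nil F n) :=
  Nat.card_congr (Equiv.subtypeEquivRight fun M => by
    rw [rank_eq_zero_iff']
    exact ⟨fun h => ⟨n, h⟩, Cfsg.Agent.Small.pow_eq_zero_of_isNilpotent⟩)

theorem card_nil (n : ℕ) : Nat.card (Nil F n) = Fintype.card F ^ (n * (n - 1)) := by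
  rcases Nat.eq_zero_or_pos n with rfl | hn
  · rw [Nat.zero_mul, pow_zero, Nat.card_eq_one_iff_unique]
    exact ⟨⟨fun a b => Subtype.ext (Subsingleton.elim _ _)⟩, ⟨⟨0, IsNilpotent.zero⟩⟩⟩
  obtain ⟨j, rfl⟩ : ∃ j, n = j + 1 := ⟨n - 1, by omega⟩
  set q := Fintype.card F
  have hstep : ∀ m ∈ Finset.range (j + 1),
      Nat.card (Strat F (j + 1) (m + 1)) = q ^ j * (q ^ (j + 1) - 1) * Nat.card (Strat F j m) := by
    intro m hm
    rw [Finset.mem_range] at hm
    have h1 := card_stratum (F := F) (k := j - m) (m := m + 1) (n := j + 1) (by omega)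
    have h2 := card_stratum (F := F) (k := j - m) (m := m) (n := j) (by omega)
    refine Nat.eq_of_mul_eq_mul_right (m := Nat.card (GL (Fin (j - m)) F)) Nat.card_pos ?_
    rw [h1, mul_assoc, h2, card_GL_succ]
    ring
  have hs := card_strat_sum (F := F) (j + 1)
  rw [Finset.sum_range_succ', Finset.sum_congr rfl hstep, ← Finset.mul_sum, card_strat_sum, card_strat_zero] at hs
  have hq : 1 ≤ q ^ (j + 1) := Nat.one_le_pow _ _ Fintype.card_pos
  have e1 : q ^ j * (q ^ (j + 1) - 1) * q ^ (j * j) + q ^ ((j + 1) * j) = q ^ ((j + 1) * (j + 1)) := by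
    obtain ⟨c, hc⟩ : ∃ c, q ^ (j + 1) = c + 1 := ⟨q ^ (j + 1) - 1, by omega⟩
    rw [hc, Nat.add_sub_cancel, show (j + 1) * (j + 1) = (j + 1) + (j + 1) * j by ring, pow_add q (j + 1), hc,
      show (j + 1) * j = j + j * j by ring, pow_add]
    ring
  rw [Nat.add_sub_cancel]
  exact Nat.add_left_cancel (hs.trans e1.symm)

theorem card_unipotent (p : ℕ) [Fact p.Prime] [CharP F p] (n : ℕ) :
    Nat.card {g : GL (Fin n) F // ∃ k : ℕ, orderOf g = p ^ k} = Fintype.card F ^ (n * (n - 1)) := by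
  rw [← card_nil]
  refine Nat.card_eq_of_bijective (fun g => (⟨(g.1 : Matrix (Fin n) (Fin n) F) - 1, ?_⟩ : Nil F n)) ⟨?_, ?_⟩
  · obtain ⟨k, hk⟩ := g.2
    refine ⟨p ^ k, ?_⟩
    rcases Nat.eq_zero_or_pos n with rfl | hn
    · exact Subsingleton.elim _ _
    haveI : Nonempty (Fin n) := ⟨⟨0, hn⟩⟩
    rw [sub_pow_char_pow_of_commute p _ (Commute.one_right _), one_pow, ← Units.val_pow_eq_pow_val, ← hk,
      pow_orderOf_eq_one, Units.val_one, sub_self]
  · intro a b h
    exact Subtype.ext (Units.ext (sub_left_inj.1 (congrArg Subtype.val h)))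
  · rintro ⟨N, hN⟩
    obtain ⟨u, hu⟩ := hN.isUnit_one_add
    have hu' : (u : Matrix (Fin n) (Fin n) F) - 1 = N := by rw [hu, add_sub_cancel_left]
    have hd := Cfsg.Agent.Small.orderOf_unipotent_dvd p u (hu'.symm ▸ hN)
    obtain ⟨k, -, hk⟩ := (Nat.dvd_prime_pow (Fact.out : p.Prime)).1 hd
    exact ⟨⟨u, k, hk⟩, Subtype.ext hu'⟩

end Cfsg.Agent.Small.NilpotentCount
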