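import Cfsg.Agent.Lib.Small.PrimeOrderClasses

/-!
# Classes of elements of prime order determined by self-dual characteristic polynomials
-/

set_option autoImplicit false
set_option linter.unusedSectionVars false

namespace Cfsg.Agent.Small.PrimeOrderFactor

open Polynomial UniqueFactorizationMonoid

variable {K : Type*} [Field K]

/-! ### The dual of a polynomial -/

/-- Normalised reversal twisted by `σ`. -/
noncomputable def dual (σ : K →+* K) (P : K[X]) : K[X] := C (σ (P.coeff 0))⁻¹ * (P.map σ).reverse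

theorem dual_mul (σ : K →+* K) (P Q : K[X]) : dual σ (P * Q) = dual σ P * dual σ Q := by
  rw [dual, dual, dual, Polynomial.map_mul, reverse_mul_of_domain, mul_coeff_zero, map_mul, mul_inv, C_mul]
  ring

theorem dual_one (σ : K →+* K) : dual σ (1 : K[X]) = 1 := by
  rw [dual, Polynomial.map_one, coeff_one_zero, map_one, inv_one, map_one, one_mul, ← C_1, reverse_C]

/-- The dual as a monoid homomorphism. -/
noncomputable def dualHom (σ : K →+* K) : K[X] →* K[X] where
  toFun := dual σ
  map_one' := dual_one σ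
  map_mul' := dual_mul σ

theorem natDegree_map_reverse (σ : K →+* K) {P : K[X]} (h0 : P.coeff 0 ≠ 0) :
    (P.map σ).reverse.natDegree = P.natDegree := by
  rw [reverse_natDegree, natDegree_map, natTrailingDegree_eq_zero.2 (Or.inr ?_), Nat.sub_zero]
  rw [coeff_map]
  exact fun e => h0 (σ.injective (e.trans (map_zero σ).symm))

theorem natDegree_dual (σ : K →+* K) {P : K[X]} (h0 : P.coeff 0 ≠ 0) : (dual σ P).natDegree = P.natDegree := by
  rw [dual, natDegree_C_mul (inv_ne_zero fun e => h0 (σ.injective (e.trans (map_zero σ).symm))),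
    natDegree_map_reverse σ h0]

theorem coeff_dual (σ : K →+* K) (P : K[X]) {i : ℕ} (hi : i ≤ P.natDegree) :
    (dual σ P).coeff i = (σ (P.coeff 0))⁻¹ * σ (P.coeff (P.natDegree - i)) := by
  rw [dual, coeff_C_mul, coeff_reverse, natDegree_map, revAt_le hi, coeff_map]

theorem monic_dual (σ : K →+* K) {P : K[X]} (h0 : P.coeff 0 ≠ 0) : (dual σ P).Monic := by
  rw [Monic, leadingCoeff, natDegree_dual σ h0, coeff_dual σ P le_rfl, Nat.sub_self,
    inv_mul_cancel₀ fun e => h0 (σ.injective (e.trans (map_zero σ).symm))]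

theorem coeff_zero_dual (σ : K →+* K) {P : K[X]} (hP : P.Monic) :
    (dual σ P).coeff 0 = (σ (P.coeff 0))⁻¹ := by
  rw [coeff_dual σ P (Nat.zero_le _), Nat.sub_zero, hP.coeff_natDegree, map_one, mul_one]

theorem dual_dual (σ : K →+* K) (hσ : ∀ x, σ (σ x) = x) {P : K[X]} (hP : P.Monic) (h0 : P.coeff 0 ≠ 0) :
    dual σ (dual σ P) = P := by
  refine Polynomial.ext fun i => ?_
  rcases le_or_gt i P.natDegree with hi | hi
  · rw [coeff_dual σ _ (by rw [natDegree_dual σ h0]; exact hi), natDegree_dual σ h0,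
      coeff_zero_dual σ hP, coeff_dual σ P (Nat.sub_le _ _), Nat.sub_sub_self hi, map_inv₀, hσ, map_mul, map_inv₀,
      hσ, hσ, inv_inv, mul_inv_cancel_left₀ h0]
  · have h1 : (dual σ P).coeff 0 ≠ 0 := by
      rw [coeff_zero_dual σ hP]
      exact inv_ne_zero fun e => h0 (σ.injective (e.trans (map_zero σ).symm))
    rw [coeff_eq_zero_of_natDegree_lt (by rw [natDegree_dual σ h1, natDegree_dual σ h0]; exact hi),
      coeff_eq_zero_of_natDegree_lt hi]

theorem dual_X_pow_sub_one (σ : K →+* K) (r : ℕ) (hr : r ≠ 0) : dual σ ((X : K[X]) ^ r - 1) = X ^ r - 1 := by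
  have hd : ((X : K[X]) ^ r - 1).natDegree = r := by rw [← C_1, natDegree_X_pow_sub_C]
  have h0 : ((X : K[X]) ^ r - 1).coeff 0 = -1 := by
    rw [coeff_sub, coeff_X_pow, if_neg (Ne.symm hr), coeff_one_zero, zero_sub]
  refine Polynomial.ext fun i => ?_
  rcases le_or_gt i r with hi | hi
  · rw [coeff_dual σ _ (hd.symm ▸ hi), hd, h0, map_neg, map_one, coeff_sub, coeff_X_pow, coeff_one, coeff_sub,
      coeff_X_pow, coeff_one]
    rcases Nat.eq_zero_or_pos i with rfl | hi0
    · simp [hr, Ne.symm hr]
    rcases hi.lt_or_eq with hlt | rfl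
    · rw [if_neg (by omega), if_neg (by omega), if_neg (by omega), if_neg (by omega), sub_zero, map_zero, mul_zero]
    · simp [hr, Ne.symm hr]
  · rw [coeff_eq_zero_of_natDegree_lt (by rw [natDegree_dual σ (by rw [h0]; norm_num), hd]; exact hi),
      coeff_eq_zero_of_natDegree_lt (hd.symm ▸ hi)]

/-! ### Invariant multisets -/

theorem card_bounded (S : Type*) [Fintype S] [DecidableEq S] (N : ℕ) :
    Nat.card {M : Multiset S // M.card ≤ N} = (N + Fintype.card S).choose (Fintype.card S) := by
  rw [← Nat.card_congr (PrimeOrderClasses.symEquiv S N), Nat.card_eq_fintype_card, Sym.card_sym_eq_choose,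
    Fintype.card_option, Nat.add_right_comm (Fintype.card S) 1, Nat.add_sub_cancel, Nat.add_comm (Fintype.card S),
    Nat.choose_symm_add]

/-- Multisets invariant under a fixed-point-free involution. -/
theorem card_invariant {S : Type*} [Fintype S] [DecidableEq S] (ι : S → S) (hι : ∀ s, ι (ι s) = s)
    (hfree : ∀ s, ι s ≠ s) (N : ℕ) :
    Nat.card {M : Multiset S // M.card ≤ N ∧ M.map ι = M} =
      (N / 2 + Fintype.card S / 2).choose (Fintype.card S / 2) := by
  classical
  obtain ⟨P, hP⟩ : ∃ P : S → Prop, ∀ s, P (ι s) ↔ ¬ P s := by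
    refine ⟨fun s => Fintype.equivFin S s < Fintype.equivFin S (ι s), fun s => ?_⟩
    simp only [hι, not_lt]
    exact ⟨le_of_lt, fun h => lt_of_le_of_ne h fun e => hfree s ((Fintype.equivFin S).injective e)⟩
  have hcard : Fintype.card S = 2 * Fintype.card {s // P s} := by
    have e : {s // ¬ P s} ≃ {s // P s} :=
      { toFun := fun s => ⟨ι s.1, (hP s.1).2 s.2⟩
        invFun := fun s => ⟨ι s.1, fun h => (hP s.1).1 h s.2⟩
        left_inv := fun s => Subtype.ext (hι _)
        right_inv := fun s => Subtype.ext (hι _) }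
    have h := Fintype.card_congr (Equiv.sumCompl P)
    rw [Fintype.card_sum, Fintype.card_congr e] at h
    omega
  rw [hcard, Nat.mul_div_cancel_left _ two_pos, ← card_bounded {s // P s} (N / 2)]
  symm
  refine Nat.card_eq_of_bijective (fun M => ⟨M.1.map Subtype.val + (M.1.map Subtype.val).map ι, ?_, ?_⟩) ⟨?_, ?_⟩
  · simp only [Multiset.card_add, Multiset.card_map]
    have := M.2
    omega
  · simp only [Multiset.map_add, Multiset.map_map, Function.comp_def, hι]
    rw [add_comm]
  · intro M M' h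
    have e : ∀ A : Multiset {s // P s}, (A.map Subtype.val + (A.map Subtype.val).map ι).filter P = A.map Subtype.val := by
      intro A
      rw [Multiset.filter_add, Multiset.filter_eq_self.2, Multiset.filter_eq_nil.2, add_zero]
      · intro x hx
        obtain ⟨y, hy, rfl⟩ := Multiset.mem_map.1 hx
        obtain ⟨z, -, rfl⟩ := Multiset.mem_map.1 hy
        exact fun h => (hP z.1).1 h z.2
      · intro x hx
        obtain ⟨y, -, rfl⟩ := Multiset.mem_map.1 hx
        exact y.2
    have h' := congrArg (Multiset.filter P) (congrArg Subtype.val h)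
    simp only [e] at h'
    exact Subtype.ext (Multiset.map_injective Subtype.val_injective h')
  · rintro ⟨M, hM, hinv⟩
    obtain ⟨A, hA⟩ : ∃ A : Multiset {s // P s}, A.map Subtype.val = M.filter P :=
      ⟨(M.filter P).attach.map fun s => ⟨s.1, (Multiset.mem_filter.1 s.2).2⟩, by
        rw [Multiset.map_map]; exact Multiset.attach_map_val _⟩
    have hsplit : (M.filter P).map ι = M.filter fun s => ¬ P s := by
      conv_rhs => rw [← hinv, Multiset.filter_map]
      congr 1
      exact Multiset.filter_congr fun s _ => by simp only [Function.comp, hP, not_not]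
    have hsum : M.filter P + (M.filter P).map ι = M := by rw [hsplit, Multiset.filter_add_not]
    refine ⟨⟨A, ?_⟩, Subtype.ext (show A.map Subtype.val + (A.map Subtype.val).map ι = M by rw [hA, hsum])⟩
    have h2 := congrArg Multiset.card hsum
    simp only [← hA, Multiset.card_add, Multiset.card_map] at h2
    omega

/-- Multisets invariant under a fixed-point-free involution have an even size. -/
theorem even_card_invariant {S : Type*} [Fintype S] [DecidableEq S] (ι : S → S) (hι : ∀ s, ι (ι s) = s)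
    (hfree : ∀ s, ι s ≠ s) {M : Multiset S} (hM : M.map ι = M) : Even M.card := by
  classical
  obtain ⟨P, hP⟩ : ∃ P : S → Prop, ∀ s, P (ι s) ↔ ¬ P s := by
    refine ⟨fun s => Fintype.equivFin S s < Fintype.equivFin S (ι s), fun s => ?_⟩
    simp only [hι, not_lt]
    exact ⟨le_of_lt, fun h => lt_of_le_of_ne h fun e => hfree s ((Fintype.equivFin S).injective e)⟩
  have hsplit : (M.filter P).map ι = M.filter fun s => ¬ P s := by
    conv_rhs => rw [← hM, Multiset.filter_map]
    congr 1
    exact Multiset.filter_congr fun s _ => by simp only [Function.comp, hP, not_not]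
  refine ⟨(M.filter P).card, ?_⟩
  conv_lhs => rw [← Multiset.filter_add_not P M, Multiset.card_add, ← hsplit, Multiset.card_map]

/-! ### The factors of the cyclotomic polynomial -/

variable [Fintype K] {p : ℕ} [Fact p.Prime] [CharP K p] {r : ℕ}

open Classical in
variable (K r) in
/-- The monic irreducible factors of the `r`th cyclotomic polynomial. -/
noncomputable def factors : Finset K[X] :=
  (normalizedFactors (cyclotomic r K)).toFinset

open Classical in
theorem mem_factors_iff {g : K[X]} : g ∈ factors K r ↔ g ∈ normalizedFactors (cyclotomic r K) := by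
  rw [factors]
  simp

theorem exists_data (hr : r.Prime) (hrp : r ≠ p) :
    (∀ g ∈ factors K r, g.Monic ∧ Irreducible g ∧ g.natDegree = orderOf ((Fintype.card K : ℕ) : ZMod r) ∧
      g ∣ X ^ r - 1 ∧ g ≠ X - 1 ∧ g.coeff 0 ≠ 0) ∧
    (∀ g : K[X], Irreducible g → g.Monic → g ∣ X ^ r - 1 → g = X - 1 ∨ g ∈ factors K r) ∧
    (factors K r).card * orderOf ((Fintype.card K : ℕ) : ZMod r) = r - 1 := by
  classical
  haveI : Fact r.Prime := ⟨hr⟩
  haveI : NeZero r := ⟨hr.ne_zero⟩
  obtain ⟨⟨f, hf⟩, -, hK⟩ := FiniteField.card K p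
  simp only [PNat.mk_coe] at hK
  have hcop : p.Coprime r := (Nat.coprime_primes (Fact.out : p.Prime) hr).2 (Ne.symm hrp)
  obtain ⟨i, hi⟩ : ∃ i, i = orderOf ((Fintype.card K : ℕ) : ZMod r) := ⟨_, rfl⟩
  rw [← hi]
  have hord : orderOf (ZMod.unitOfCoprime _ (hcop.pow_left f)) = i := by
    rw [hi, ← orderOf_units, ZMod.coe_unitOfCoprime, hK]
  have hipos : 0 < i := by rw [← hord]; exact orderOf_pos _
  have hrK : (r : K) ≠ 0 := fun h => hrp (((Nat.prime_dvd_prime_iff_eq (Fact.out : p.Prime) hr).1
    ((CharP.cast_eq_zero_iff K p r).1 h)).symm)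
  have hS : ∀ g ∈ factors K r, g.Monic ∧ Irreducible g ∧ g.natDegree = i ∧ g ∣ X ^ r - 1 ∧ g ≠ X - 1 ∧
      g.coeff 0 ≠ 0 := by
    intro g hg
    rw [mem_factors_iff] at hg
    have hirr := irreducible_of_normalized_factor g hg
    have hdvd : g ∣ X ^ r - 1 :=
      (dvd_of_mem_normalizedFactors hg).trans ⟨X - 1, (cyclotomic_prime_mul_X_sub_one K r).symm⟩
    refine ⟨?_, hirr, (natDegree_of_mem_normalizedFactors_cyclotomic hK hcop hg).trans hord, hdvd, ?_, ?_⟩
    · rw [← normalize_normalized_factor g hg]; exact monic_normalize hirr.ne_zero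
    · rintro rfl
      have := dvd_of_mem_normalizedFactors hg
      rw [← C_1, dvd_iff_isRoot, IsRoot, eval_one_cyclotomic_prime] at this
      exact hrK this
    · intro h0
      obtain ⟨s, hs⟩ := hdvd
      have := congrArg (fun P => P.coeff 0) hs
      simp [h0, hr.ne_zero.symm] at this
  refine ⟨hS, ?_, ?_⟩
  · intro g hg hm hd
    rw [← cyclotomic_prime_mul_X_sub_one K r] at hd
    rcases hg.prime.dvd_or_dvd hd with h | h
    · refine Or.inr (mem_factors_iff.2 ?_)
      obtain ⟨g', hg', hass⟩ := exists_mem_normalizedFactors_of_dvd (cyclotomic_ne_zero r K) hg h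
      have hm' : g'.Monic := by
        rw [← normalize_normalized_factor g' hg']
        exact monic_normalize (irreducible_of_normalized_factor g' hg').ne_zero
      rwa [eq_of_monic_of_associated hm hm' hass]
    · refine Or.inl (eq_of_monic_of_associated hm (by simpa using monic_X_sub_C (1 : K)) ?_)
      exact hg.associated_of_dvd (by simpa using irreducible_X_sub_C (1 : K)) h
  · have hc : (factors K r).card = (r - 1) / i := by
      rw [factors, normalizedFactors_cyclotomic_card hK hcop, hord, Nat.totient_prime hr]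
    rw [hc, Nat.div_mul_cancel]
    rw [hi]
    have h0 : ((Fintype.card K : ℕ) : ZMod r) ≠ 0 := by
      rw [Ne, ZMod.natCast_eq_zero_iff, hK]
      exact fun h => hrp ((Nat.prime_dvd_prime_iff_eq hr (Fact.out : p.Prime)).1 (hr.dvd_of_dvd_pow h))
    exact ZMod.orderOf_dvd_card_sub_one h0

theorem dual_mem (hr : r.Prime) (hrp : r ≠ p) (σ : K →+* K) (hσ : ∀ x, σ (σ x) = x) {g : K[X]}
    (hg : g ∈ factors K r) : dual σ g ∈ factors K r := by
  obtain ⟨hS, hfac, -⟩ := exists_data (K := K) (p := p) hr hrp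
  obtain ⟨hm, hirr, hdeg, hdvd, hne, h0⟩ := hS g hg
  have hd1 : dual σ g ∣ X ^ r - 1 := by
    obtain ⟨s, hs⟩ := hdvd
    exact ⟨dual σ s, by rw [← dual_mul, ← hs, dual_X_pow_sub_one σ r hr.ne_zero]⟩
  have hirr' : Irreducible (dual σ g) := by
    refine (monic_dual σ h0).irreducible_iff_natDegree.2 ⟨?_, fun a b ha hb hab => ?_⟩
    · intro e
      have := congrArg natDegree e
      rw [natDegree_dual σ h0, natDegree_one] at this
      exact (Irreducible.natDegree_pos hirr).ne' this
    · have h1 : (dual σ g).coeff 0 ≠ 0 := by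
        rw [coeff_zero_dual σ hm]; exact inv_ne_zero fun e => h0 (σ.injective (e.trans (map_zero σ).symm))
      rw [← hab, mul_coeff_zero] at h1
      have e := congrArg (dual σ) hab
      rw [dual_mul, dual_dual σ hσ hm h0] at e
      have hz := (hm.irreducible_iff_natDegree.1 hirr).2 _ _ (monic_dual σ (left_ne_zero_of_mul h1))
        (monic_dual σ (right_ne_zero_of_mul h1)) e
      rwa [natDegree_dual σ (left_ne_zero_of_mul h1), natDegree_dual σ (right_ne_zero_of_mul h1)] at hz
  refine (hfac _ hirr' (monic_dual σ h0) hd1).resolve_left fun e => hne ?_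
  rw [← dual_dual σ hσ hm h0, e]
  simpa using dual_X_pow_sub_one σ 1 one_ne_zero

/-- The dual as a permutation of the factors. -/
noncomputable def dualS (hr : r.Prime) (hrp : r ≠ p) (σ : K →+* K) (hσ : ∀ x, σ (σ x) = x) :
    factors K r → factors K r := fun g => ⟨dual σ g.1, dual_mem (p := p) hr hrp σ hσ g.2⟩

theorem dualS_dualS (hr : r.Prime) (hrp : r ≠ p) (σ : K →+* K) (hσ : ∀ x, σ (σ x) = x) (g : factors K r) :
    dualS (p := p) hr hrp σ hσ (dualS (p := p) hr hrp σ hσ g) = g := by
  obtain ⟨hm, -, -, -, -, h0⟩ := (exists_data (K := K) (p := p) hr hrp).1 g.1 g.2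
  exact Subtype.ext (dual_dual σ hσ hm h0)

/-- When a factor is its own dual. -/
theorem dual_eq_iff (hr : r.Prime) (hrp : r ≠ p) (σ : K →+* K) (k : ℕ) (hσ : ∀ x, σ x = x ^ (p ^ k))
    {g : K[X]} (hg : g ∈ factors K r) :
    dual σ g = g ↔ ∃ j : ℕ, (((p ^ k) * Fintype.card K ^ j : ℕ) : ZMod r) = -1 := by
  classical
  haveI : Fact r.Prime := ⟨hr⟩
  obtain ⟨hS, -, -⟩ := exists_data (K := K) (p := p) hr hrp
  obtain ⟨hm, hirr, hdeg, hdvd, hne, h0⟩ := hS g hg
  haveI : Fact (Irreducible g) := ⟨hirr⟩
  haveI : CharP (AdjoinRoot g) p := charP_of_injective_algebraMap (algebraMap K (AdjoinRoot g)).injective p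
  haveI : ExpChar (AdjoinRoot g) p := ExpChar.prime Fact.out
  obtain ⟨α, hα⟩ : ∃ α, α = AdjoinRoot.root g := ⟨_, rfl⟩
  have hαg : aeval α g = 0 := by rw [hα, AdjoinRoot.aeval_eq, AdjoinRoot.mk_self]
  have hαr : α ^ r = 1 := by
    obtain ⟨s, hs⟩ := hdvd
    have := congrArg (aeval α) hs
    rw [map_mul, hαg, zero_mul, map_sub, map_pow, aeval_X, map_one, sub_eq_zero] at this
    exact this
  have hα1 : α ≠ 1 := fun e => hne (by
    rw [e, aeval_def, eval₂_at_one, map_eq_zero_iff _ (algebraMap K (AdjoinRoot g)).injective] at hαg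
    have hX : (X - C 1 : K[X]) ∣ g := dvd_iff_isRoot.2 hαg
    rw [← C_1]
    exact (eq_of_monic_of_associated (monic_X_sub_C 1) hm
      ((irreducible_X_sub_C 1).associated_of_dvd hirr hX)).symm)
  have hord : orderOf α = r := orderOf_eq_prime hαr hα1
  have hαu : IsUnit α := .of_mul_eq_one (α ^ (r - 1)) (by rw [← pow_succ', Nat.sub_add_cancel hr.pos, hαr])
  letI : Invertible α := hαu.invertible
  obtain ⟨i, hi⟩ : ∃ i, i = orderOf ((Fintype.card K : ℕ) : ZMod r) := ⟨_, rfl⟩
  obtain ⟨Q, hQ⟩ : ∃ Q, Q = Fintype.card K := ⟨_, rfl⟩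
  rw [← hQ] at hi ⊢
  rw [← hQ, ← hi] at hdeg
  -- the conjugate roots
  have hroot : ∀ j, aeval (α ^ (Q ^ j)) g = 0 := fun j => by
    induction j with
    | zero => rwa [pow_zero, pow_one]
    | succ j ih =>
      have h := Polynomial.aeval_algHom_apply (FiniteField.frobeniusAlgHom K (AdjoinRoot g)) (α ^ (Q ^ j)) g
      rw [ih, map_zero, FiniteField.coe_frobeniusAlgHom, ← hQ] at h
      rw [pow_succ, pow_mul]
      exact h
  have hsroot : ∀ j, (g.map σ).eval₂ (algebraMap K (AdjoinRoot g)) (α ^ (p ^ k * Q ^ j)) = 0 := fun j => by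
    have h := congrArg (iterateFrobenius (AdjoinRoot g) p k) (hroot j)
    rw [map_zero, aeval_def, hom_eval₂, iterateFrobenius_def, ← pow_mul, mul_comm (Q ^ j)] at h
    have hhom : ((iterateFrobenius (AdjoinRoot g) p k).comp (algebraMap K (AdjoinRoot g))) =
        (algebraMap K (AdjoinRoot g)).comp σ := RingHom.ext fun x => by
      simp only [RingHom.comp_apply, iterateFrobenius_def, hσ, map_pow]
    rw [eval₂_map, ← hhom]
    exact h
  have hdualroot : aeval α (dual σ g) = 0 ↔ (g.map σ).eval₂ (algebraMap K (AdjoinRoot g)) (⅟α) = 0 := by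
    rw [dual, map_mul, aeval_C, mul_eq_zero, or_iff_right, aeval_def, ← eval₂_reverse_eq_zero_iff _ (⅟α),
      invOf_invOf]
    exact fun e => inv_ne_zero (fun e' => h0 (σ.injective (e'.trans (map_zero σ).symm)))
      ((map_eq_zero_iff _ (algebraMap K (AdjoinRoot g)).injective).1 e)
  have hmin : ∀ P : K[X], aeval α P = 0 → g ∣ P := fun P hP => by
    rwa [hα, AdjoinRoot.aeval_eq, AdjoinRoot.mk_eq_zero] at hP
  constructor
  · intro e
    have h1 := hdualroot.1 ((congrArg (aeval α) e).trans hαg)
    -- all roots of the twisted polynomial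
    obtain ⟨P, hP⟩ : ∃ P, P = (g.map σ).map (algebraMap K (AdjoinRoot g)) := ⟨_, rfl⟩
    have hPd : P.natDegree = i := by rw [hP, natDegree_map, natDegree_map, hdeg]
    have hP0 : P ≠ 0 := by
      rw [hP, Ne, Polynomial.map_eq_zero, Polynomial.map_eq_zero]
      exact hm.ne_zero
    let T : Finset (AdjoinRoot g) := (Finset.range i).image fun j => α ^ (p ^ k * Q ^ j)
    have hTcard : T.card = i := by
      rw [Finset.card_image_of_injOn, Finset.card_range]
      intro a ha b hb hab
      rw [Finset.coe_range, Set.mem_Iio] at ha hb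
      simp only at hab
      rw [IsOfFinOrder.pow_eq_pow_iff_modEq (isOfFinOrder_iff_pow_eq_one.2 ⟨r, hr.pos, hαr⟩), hord,
        ← ZMod.natCast_eq_natCast_iff] at hab
      push_cast at hab
      have hp0 : ((p : ZMod r)) ^ k ≠ 0 := pow_ne_zero _ (by
        rw [Ne, ZMod.natCast_eq_zero_iff]
        exact fun h => hrp ((Nat.prime_dvd_prime_iff_eq hr (Fact.out : p.Prime)).1 h))
      exact pow_injOn_Iio_orderOf (x := ((Q : ℕ) : ZMod r)) (hi ▸ ha : a ∈ Set.Iio _) (hi ▸ hb : b ∈ Set.Iio _)
        (mul_left_cancel₀ hp0 hab)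
    have hsub : insert (⅟α) T ⊆ P.roots.toFinset := by
      intro x hx
      rw [Multiset.mem_toFinset, mem_roots hP0, IsRoot, hP, eval_map]
      rcases Finset.mem_insert.1 hx with rfl | hx
      · exact h1
      · obtain ⟨j, -, rfl⟩ := Finset.mem_image.1 hx
        exact hsroot j
    have hle := (Finset.card_le_card hsub).trans (Multiset.toFinset_card_le _) |>.trans (card_roots' P)
    rw [hPd] at hle
    have hmem : ⅟α ∈ T := by
      by_contra hn
      rw [Finset.card_insert_of_notMem hn, hTcard] at hle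
      omega
    obtain ⟨j, -, hj⟩ := Finset.mem_image.1 hmem
    refine ⟨j, eq_neg_of_add_eq_zero_left ?_⟩
    rw [← Nat.cast_one, ← Nat.cast_add, ZMod.natCast_eq_zero_iff, ← hord, orderOf_dvd_iff_pow_eq_one,
      pow_succ, hj, invOf_mul_self]
  · rintro ⟨j, hj⟩
    have h1 : α ^ (p ^ k * Q ^ j) = ⅟α := by
      have h2 : α ^ (p ^ k * Q ^ j + 1) = 1 := by
        rw [← orderOf_dvd_iff_pow_eq_one, hord, ← ZMod.natCast_eq_zero_iff, Nat.cast_add, Nat.cast_one, hj,
          neg_add_cancel]
      rw [pow_succ] at h2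
      calc α ^ (p ^ k * Q ^ j) = α ^ (p ^ k * Q ^ j) * (α * ⅟α) := by rw [mul_invOf_self, mul_one]
        _ = ⅟α := by rw [← mul_assoc, h2, one_mul]
    have h3 : g ∣ dual σ g := hmin _ (hdualroot.2 (h1 ▸ hsroot j))
    exact eq_of_monic_of_dvd_of_natDegree_le hm (monic_dual σ h0) h3 (natDegree_dual σ h0).le

/-! ### The classes -/

/-- The polynomial of a multiset of factors, padded by `X - 1`. -/
noncomputable def fac (n i : ℕ) (M : Multiset (factors K r)) : K[X] :=
  (X - 1) ^ (n - i * M.card) * (M.map Subtype.val).prod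

theorem dual_fac (hr : r.Prime) (hrp : r ≠ p) (σ : K →+* K) (hσ : ∀ x, σ (σ x) = x) (n i : ℕ)
    (M : Multiset (factors K r)) : dual σ (fac n i M) = fac n i (M.map (dualS (p := p) hr hrp σ hσ)) := by
  have h1 : dual σ (X - 1 : K[X]) = X - 1 := by simpa using dual_X_pow_sub_one σ 1 one_ne_zero
  show dualHom σ _ = _
  rw [fac, map_mul, map_pow, show dualHom σ (X - 1 : K[X]) = X - 1 from h1, map_multiset_prod, Multiset.map_map]
  rw [fac, Multiset.card_map, Multiset.map_map]
  rfl

open Classical in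
theorem fac_spec (hr : r.Prime) (hrp : r ≠ p) {n i : ℕ} (hi : i = orderOf ((Fintype.card K : ℕ) : ZMod r))
    {M : Multiset (factors K r)} (hM : i * M.card ≤ n) :
    (fac n i M).Monic ∧ (fac n i M).natDegree = n ∧
      normalizedFactors (fac n i M) = Multiset.replicate (n - i * M.card) (X - 1) + M.map Subtype.val ∧
      fac n i M ∣ (X ^ r - 1) ^ n := by
  classical
  obtain ⟨hS, -, -⟩ := exists_data (K := K) (p := p) hr hrp
  obtain ⟨L, hL⟩ : ∃ L, L = Multiset.replicate (n - i * M.card) (X - 1 : K[X]) + M.map Subtype.val := ⟨_, rfl⟩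
  have hprod : L.prod = fac n i M := by rw [hL, Multiset.prod_add, Multiset.prod_replicate, fac]
  have hmem : ∀ g ∈ L, g.Monic ∧ Irreducible g ∧ g ∣ X ^ r - 1 := by
    intro g hg
    rw [hL] at hg
    rcases Multiset.mem_add.1 hg with h | h
    · rw [Multiset.eq_of_mem_replicate h]
      refine ⟨monic_X_sub_C (1 : K), ?_, sub_one_dvd_pow_sub_one X r⟩
      have := irreducible_X_sub_C (1 : K)
      rwa [map_one] at this
    · obtain ⟨g', -, rfl⟩ := Multiset.mem_map.1 h
      obtain ⟨a, b, -, c, -⟩ := hS g'.1 g'.2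
      exact ⟨a, b, c⟩
  have hdeg : (L.map natDegree).sum = n := by
    have e : (M.map Subtype.val).map natDegree = Multiset.replicate M.card i := by
      rw [Multiset.map_map]
      refine Multiset.eq_replicate.2 ⟨Multiset.card_map _ _, fun d hd => ?_⟩
      obtain ⟨g, -, rfl⟩ := Multiset.mem_map.1 hd
      rw [hi]
      exact (hS _ g.2).2.2.1
    have h1 : (X - 1 : K[X]).natDegree = 1 := by rw [← C_1, natDegree_X_sub_C]
    simp only [hL, Multiset.map_add, Multiset.sum_add, e, Multiset.map_replicate, Multiset.sum_replicate, h1,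
      smul_eq_mul, mul_one]
    rw [mul_comm M.card i]
    omega
  refine ⟨?_, ?_, ?_, ?_⟩
  · rw [← hprod]
    have := monic_multiset_prod_of_monic L id fun g hg => (hmem g hg).1
    rwa [Multiset.map_id] at this
  · rw [← hprod, natDegree_multiset_prod_of_monic _ fun g hg => (hmem g hg).1, hdeg]
  · rw [← hL, ← hprod, normalizedFactors_prod_eq _ fun g hg => (hmem g hg).2.1,
      Multiset.map_congr rfl fun g hg => (hmem g hg).1.normalize_eq_self, Multiset.map_id']
  · have hcard : L.card ≤ n := by
      rw [← hdeg]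
      calc L.card = (L.map fun _ => 1).sum := by simp
        _ ≤ _ := Multiset.sum_map_le_sum_map _ _ fun g hg => (hmem g hg).2.1.natDegree_pos
    rw [← hprod]
    refine (Multiset.prod_dvd_prod_of_dvd id (fun _ => (X : K[X]) ^ r - 1) fun g hg => (hmem g hg).2.2).trans ?_ |>
      (fun h => by simpa only [Multiset.map_id] using h)
    rw [Multiset.map_const', Multiset.prod_replicate]
    exact pow_dvd_pow _ hcard

theorem fac_injective (hr : r.Prime) (hrp : r ≠ p) {n i : ℕ} (hi : i = orderOf ((Fintype.card K : ℕ) : ZMod r))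
    {M M' : Multiset (factors K r)} (hM : i * M.card ≤ n) (hM' : i * M'.card ≤ n) (h : fac n i M = fac n i M') :
    M = M' := by
  classical
  obtain ⟨hS, -, -⟩ := exists_data (K := K) (p := p) hr hrp
  have e : ∀ M : Multiset (factors K r), i * M.card ≤ n →
      (normalizedFactors (fac n i M)).filter (fun g => g ≠ X - 1) = M.map Subtype.val := by
    intro M hM
    rw [(fac_spec (p := p) hr hrp hi hM).2.2.1, Multiset.filter_add,
      Multiset.filter_eq_nil.2 fun g hg => not_not.2 (Multiset.eq_of_mem_replicate hg), zero_add,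
      Multiset.filter_eq_self.2 fun g hg => ?_]
    obtain ⟨g', -, rfl⟩ := Multiset.mem_map.1 hg
    exact (hS g'.1 g'.2).2.2.2.2.1
  have h' := e M hM
  rw [h, e M' hM'] at h'
  exact (Multiset.map_injective Subtype.val_injective h').symm

theorem exists_fac (hr : r.Prime) (hrp : r ≠ p) {n i : ℕ} (hi : i = orderOf ((Fintype.card K : ℕ) : ZMod r))
    {P : K[X]} (hP : P.Monic) (hdeg : P.natDegree = n) (hdvd : ∀ g, Irreducible g → g ∣ P → g ∣ X ^ r - 1) :
    ∃ M : Multiset (factors K r), i * M.card ≤ n ∧ fac n i M = P := by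
  classical
  obtain ⟨hS, hfac, -⟩ := exists_data (K := K) (p := p) hr hrp
  have hmem : ∀ g ∈ normalizedFactors P, g.Monic ∧ (g = X - 1 ∨ g ∈ factors K r) := by
    intro g hg
    have hirr := irreducible_of_normalized_factor g hg
    have hgm : g.Monic := by
      rw [← normalize_normalized_factor g hg]; exact monic_normalize hirr.ne_zero
    exact ⟨hgm, hfac g hirr hgm (hdvd g hirr (dvd_of_mem_normalizedFactors hg))⟩
  obtain ⟨M0, hM0⟩ : ∃ M0 : Multiset (factors K r),
      M0.map Subtype.val = (normalizedFactors P).filter (fun g => g ≠ X - 1) := by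
    refine ⟨(((normalizedFactors P).filter (fun g => g ≠ X - 1)).attach.map fun g => ⟨g.1, ?_⟩), ?_⟩
    · obtain ⟨h1, h2⟩ := Multiset.mem_filter.1 g.2
      exact (hmem _ h1).2.resolve_left h2
    · rw [Multiset.map_map]
      exact Multiset.attach_map_val _
  have hsplit : normalizedFactors P =
      Multiset.replicate ((normalizedFactors P).count (X - 1)) (X - 1) + M0.map Subtype.val := by
    rw [hM0, ← Multiset.filter_eq', Multiset.filter_add_not]
  have hprod : (normalizedFactors P).prod = P := by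
    refine eq_of_monic_of_associated ?_ hP (prod_normalizedFactors hP.ne_zero)
    have := monic_multiset_prod_of_monic (normalizedFactors P) id fun g hg => (hmem g hg).1
    rwa [Multiset.map_id] at this
  have hdeg' : (normalizedFactors P).count (X - 1) + i * M0.card = n := by
    have := congrArg natDegree hprod
    rw [natDegree_multiset_prod_of_monic _ fun g hg => (hmem g hg).1, hdeg, hsplit, Multiset.map_add,
      Multiset.sum_add, Multiset.map_replicate, Multiset.sum_replicate,
      show (X - 1 : K[X]).natDegree = 1 by rw [← C_1, natDegree_X_sub_C], smul_eq_mul, mul_one] at this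
    have e : (M0.map Subtype.val).map natDegree = Multiset.replicate M0.card i := by
      rw [Multiset.map_map]
      refine Multiset.eq_replicate.2 ⟨Multiset.card_map _ _, fun d hd => ?_⟩
      obtain ⟨g, -, rfl⟩ := Multiset.mem_map.1 hd
      rw [hi]
      exact (hS _ g.2).2.2.1
    rw [e, Multiset.sum_replicate, smul_eq_mul, mul_comm M0.card i] at this
    exact this
  refine ⟨M0, by omega, ?_⟩
  conv_rhs => rw [← hprod, hsplit]
  rw [show (normalizedFactors P).count (X - 1) = n - i * M0.card by omega, Multiset.prod_add,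
    Multiset.prod_replicate, fac]

/-- A matrix of order prime to `p` whose characteristic polynomial divides a power of `X ^ r - 1`
satisfies this polynomial. -/
theorem pow_eq_one_of_charpoly {ι : Type*} [Fintype ι] [DecidableEq ι] (hr : r.Prime) (A : Matrix ι ι K) {n N : ℕ}
    (hdvd : A.charpoly ∣ (X ^ r - 1) ^ n) (hN : A ^ N = 1) (hcop : N.Coprime p) : A ^ r = 1 := by
  rcases isEmpty_or_nonempty ι with he | he
  · exact Subsingleton.elim _ _
  obtain ⟨s, hs⟩ := hdvd
  have h0 : (A ^ r - 1) ^ n = 0 := by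
    have h := congrArg (aeval A) hs
    rw [map_mul, Matrix.aeval_self_charpoly, zero_mul, map_pow, map_sub, map_pow, aeval_X, map_one] at h
    exact h
  have hk : (A ^ r - 1) ^ (p ^ n) = 0 := by
    obtain ⟨d, hd'⟩ := Nat.exists_eq_add_of_le (Nat.lt_pow_self (n := n) (Fact.out : p.Prime).one_lt).le
    rw [hd', pow_add, h0, zero_mul]
  rw [sub_pow_char_pow_of_commute p n (Commute.one_right _), one_pow, sub_eq_zero, ← pow_mul] at hk
  have h1 : A ^ N.gcd (r * p ^ n) = 1 := pow_gcd_eq_one.2 ⟨hN, hk⟩
  obtain ⟨d, hd⟩ : N.gcd (r * p ^ n) ∣ r := by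
    rw [Nat.Coprime.gcd_mul_right_cancel_right r (Nat.Coprime.pow_left n hcop.symm)]
    exact Nat.gcd_dvd_right N r
  rw [hd, pow_mul, h1, one_pow]

/-- The characteristic polynomial of the inverse is the dual. -/
theorem charpoly_inv_dual {ι : Type*} [Fintype ι] [DecidableEq ι] (A : Matrix ι ι K) (hA : IsUnit A.det) :
    A⁻¹.charpoly = dual (RingHom.id K) A.charpoly := by
  rw [Matrix.charpoly_inv A ((Matrix.isUnit_iff_isUnit_det A).2 hA), ← Matrix.reverse_charpoly,
    dual, Polynomial.map_id, RingHom.id_apply, Matrix.det_eq_sign_charpoly_coeff,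
    Ring.inverse_eq_inv', mul_inv, ← inv_pow, inv_neg_one, map_mul, map_pow, map_neg, map_one]
  have h : ((-1 : K[X]) ^ Fintype.card ι) * (-1) ^ Fintype.card ι = 1 := by
    rw [← mul_pow, neg_one_mul, neg_neg, one_pow]
  linear_combination (C (A.charpoly.coeff 0)⁻¹ * A.charpoly.reverse) * h

/-- A self-dual polynomial not vanishing at one is palindromic. -/
theorem palindrome {P : K[X]} (hP : P.Monic) (h1 : P.eval 1 ≠ 0) (hdual : dual (RingHom.id K) P = P) {j : ℕ}
    (hj : j ≤ P.natDegree) : P.coeff j = P.coeff (P.natDegree - j) := by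
  have hc : P.coeff 0 = 1 := by
    letI : Invertible (1 : K) := invertibleOne
    have e1 : eval₂ (RingHom.id K) (⅟(1 : K)) P.reverse * 1 ^ P.natDegree = eval₂ (RingHom.id K) 1 P :=
      eval₂_reverse_mul_pow _ _ _
    rw [one_pow, mul_one, invOf_one] at e1
    have e2 := congrArg (eval (1 : K)) hdual
    rw [dual, Polynomial.map_id, eval_mul, eval_C, RingHom.id_apply] at e2
    change eval (1 : K) P.reverse = eval (1 : K) P at e1
    rw [e1, mul_eq_right₀ h1, inv_eq_one] at e2
    exact e2
  have h := congrArg (fun Q => Q.coeff j) hdual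
  simp only [coeff_dual _ _ hj, RingHom.id_apply, hc, inv_one, one_mul] at h
  exact h.symm

/-- Classes of elements of order `r` in a group whose semisimple classes are described by characteristic
polynomials; the hypotheses only concern elements annihilated by `r`. -/
theorem card_classes' {ι : Type*} [Fintype ι] [DecidableEq ι] {G : Type*} [Group G] [Finite G]
    (ρ : G →* Matrix ι ι K) (hρ : Function.Injective ρ) (Good : K[X] → Prop)
    (hconj : ∀ g h : G, IsConj g h → (ρ g).charpoly = (ρ h).charpoly)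
    (hr : r.Prime) (hrp : r ≠ p)
    (hinj : ∀ g h : G, g ^ r = 1 → h ^ r = 1 → (ρ g).charpoly = (ρ h).charpoly → IsConj g h)
    (hgood : ∀ g : G, g ^ r = 1 → Good (ρ g).charpoly)
    (hex : ∀ P : K[X], P.Monic → P.natDegree = Fintype.card ι → P ∣ (X ^ r - 1) ^ Fintype.card ι → Good P →
      ∃ g : G, (ρ g).charpoly = P ∧ (orderOf g).Coprime p)
    {i : ℕ} (hi : i = orderOf ((Fintype.card K : ℕ) : ZMod r)) :
    Nat.card {C : ConjClasses G // ∃ g, ConjClasses.mk g = C ∧ orderOf g = r} =
      Nat.card {M : Multiset (factors K r) //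
        M.card ≤ Fintype.card ι / i ∧ Good (fac (Fintype.card ι) i M)} - 1 := by
  classical
  obtain ⟨hS, -, hSc⟩ := exists_data (K := K) (p := p) hr hrp
  obtain ⟨n, hn⟩ : ∃ n, n = Fintype.card ι := ⟨_, rfl⟩
  rw [← hn] at hex ⊢
  have hipos : 0 < i := by
    rw [hi]
    rcases Nat.eq_zero_or_pos (orderOf ((Fintype.card K : ℕ) : ZMod r)) with h | h
    · rw [h, mul_zero] at hSc
      have := hr.two_le
      omega
    · exact h
  have hle : ∀ M : Multiset (factors K r), M.card ≤ n / i → i * M.card ≤ n := fun M h =>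
    (Nat.mul_le_mul_left i h).trans (Nat.mul_div_le n i)
  have hcop : r.Coprime p := (Nat.coprime_primes hr (Fact.out : p.Prime)).2 hrp
  have hex' : ∀ M : {M : Multiset (factors K r) // M.card ≤ n / i ∧ Good (fac n i M)},
      ∃ g : G, (ρ g).charpoly = fac n i M.1 ∧ g ^ r = 1 := by
    intro M
    obtain ⟨hm, hd, -, hdiv⟩ := fac_spec (p := p) hr hrp hi (hle _ M.2.1)
    obtain ⟨g, hg, hgo⟩ := hex _ hm hd hdiv M.2.2
    refine ⟨g, hg, hρ ?_⟩
    rw [map_pow, map_one]
    exact pow_eq_one_of_charpoly hr _ (n := n) (by rw [hg]; exact hdiv)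
      (by rw [← map_pow, pow_orderOf_eq_one, map_one]) hgo
  choose g hg hgr using hex'
  have hbij : Nat.card {M : Multiset (factors K r) // M.card ≤ n / i ∧ Good (fac n i M)} =
      Nat.card {C : ConjClasses G // ∃ x, ConjClasses.mk x = C ∧ x ^ r = 1} := by
    refine Nat.card_eq_of_bijective (fun M => ⟨ConjClasses.mk (g M), g M, rfl, hgr M⟩) ⟨?_, ?_⟩
    · intro M M' h
      have h' := hconj _ _ (ConjClasses.mk_eq_mk_iff_isConj.1 (congrArg Subtype.val h))
      rw [hg, hg] at h'
      exact Subtype.ext (fac_injective (p := p) hr hrp hi (hle _ M.2.1) (hle _ M'.2.1) h')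
    · rintro ⟨C, x, rfl, hx⟩
      have hann : aeval (ρ x) (X ^ r - 1 : K[X]) = 0 := by
        rw [map_sub, map_pow, aeval_X, map_one, ← map_pow ρ, hx, map_one, sub_self]
      obtain ⟨M, hM, hMP⟩ := exists_fac (p := p) (n := n) hr hrp hi (Matrix.charpoly_monic (ρ x))
        (by rw [Matrix.charpoly_natDegree_eq_dim, hn]) fun f hf hfd =>
          (Semisimple.dvd_minpoly_of_dvd_charpoly _ hf hfd).trans (minpoly.dvd K _ hann)
      refine ⟨⟨M, (Nat.le_div_iff_mul_le hipos).2 (by rw [mul_comm]; exact hM), by rw [hMP]; exact hgood x hx⟩,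
        Subtype.ext (ConjClasses.mk_eq_mk_iff_isConj.2
          (hinj _ _ (hgr _) hx ((hg _).trans hMP)))⟩
  rw [hbij]
  have hins : {C : ConjClasses G | ∃ x, ConjClasses.mk x = C ∧ x ^ r = 1} =
      insert (ConjClasses.mk 1) {C | ∃ x, ConjClasses.mk x = C ∧ orderOf x = r} := by
    ext C
    constructor
    · rintro ⟨x, rfl, hx⟩
      rcases eq_or_ne x 1 with rfl | hne
      · exact Set.mem_insert _ _
      · exact Set.mem_insert_of_mem _ ⟨x, rfl, @orderOf_eq_prime _ _ x r ⟨hr⟩ hx hne⟩
    · rintro (rfl | ⟨x, rfl, hx⟩)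
      · exact ⟨1, rfl, one_pow r⟩
      · exact ⟨x, rfl, hx ▸ pow_orderOf_eq_one x⟩
  have hnot : ConjClasses.mk 1 ∉ {C : ConjClasses G | ∃ x, ConjClasses.mk x = C ∧ orderOf x = r} := by
    rintro ⟨x, hx, ho⟩
    obtain rfl : x = 1 := isConj_one_left.1 (ConjClasses.mk_eq_mk_iff_isConj.1 hx)
    rw [orderOf_one] at ho
    exact hr.one_lt.ne ho
  haveI : Finite (ConjClasses G) := Finite.of_surjective _ ConjClasses.mk_surjective
  have hncard := Set.ncard_insert_of_notMem hnot (Set.toFinite _)
  rw [← hins, ← Nat.card_coe_set_eq, ← Nat.card_coe_set_eq] at hncard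
  exact Nat.eq_sub_of_add_eq hncard.symm

/-- Classes of elements of order `r` in a group whose semisimple classes are described by characteristic
polynomials. -/
theorem card_classes {ι : Type*} [Fintype ι] [DecidableEq ι] {G : Type*} [Group G] [Finite G]
    (ρ : G →* Matrix ι ι K) (hρ : Function.Injective ρ) (Good : K[X] → Prop)
    (hconj : ∀ g h : G, IsConj g h → (ρ g).charpoly = (ρ h).charpoly)
    (hinj : ∀ g h : G, (orderOf g).Coprime p → (orderOf h).Coprime p → (ρ g).charpoly = (ρ h).charpoly → IsConj g h)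
    (hgood : ∀ g : G, Good (ρ g).charpoly)
    (hex : ∀ P : K[X], P.Monic → P.natDegree = Fintype.card ι → Good P →
      ∃ g : G, (ρ g).charpoly = P ∧ (orderOf g).Coprime p)
    (hr : r.Prime) (hrp : r ≠ p) {i : ℕ} (hi : i = orderOf ((Fintype.card K : ℕ) : ZMod r)) :
    Nat.card {C : ConjClasses G // ∃ g, ConjClasses.mk g = C ∧ orderOf g = r} =
      Nat.card {M : Multiset (factors K r) //
        M.card ≤ Fintype.card ι / i ∧ Good (fac (Fintype.card ι) i M)} - 1 := by
  have hcop : r.Coprime p := (Nat.coprime_primes hr (Fact.out : p.Prime)).2 hrp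
  exact card_classes' (p := p) ρ hρ Good hconj hr hrp (fun g h hg hh => hinj g h
    (Nat.Coprime.coprime_dvd_left (orderOf_dvd_of_pow_eq_one hg) hcop)
    (Nat.Coprime.coprime_dvd_left (orderOf_dvd_of_pow_eq_one hh) hcop))
    (fun g _ => hgood g) (fun P hP hd _ hg => hex P hP hd hg) hi

/-- Counting the invariant multisets according to whether the duality fixes the factors. -/
theorem card_dual_invariant (hr : r.Prime) (hrp : r ≠ p) (σ : K →+* K) (k : ℕ) (hσ : ∀ x, σ x = x ^ (p ^ k))
    (hσσ : ∀ x, σ (σ x) = x) (N : ℕ) :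
    ((∃ j : ℕ, (((p ^ k) * Fintype.card K ^ j : ℕ) : ZMod r) = -1) →
      Nat.card {M : Multiset (factors K r) // M.card ≤ N ∧ M.map (dualS (p := p) hr hrp σ hσσ) = M} =
        (N + (factors K r).card).choose (factors K r).card) ∧
    (¬ (∃ j : ℕ, (((p ^ k) * Fintype.card K ^ j : ℕ) : ZMod r) = -1) →
      Nat.card {M : Multiset (factors K r) // M.card ≤ N ∧ M.map (dualS (p := p) hr hrp σ hσσ) = M} =
        (N / 2 + (factors K r).card / 2).choose ((factors K r).card / 2)) := by
  classical
  refine ⟨fun h => ?_, fun h => ?_⟩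
  · have e : dualS (p := p) hr hrp σ hσσ = id :=
      funext fun g => Subtype.ext ((dual_eq_iff hr hrp σ k hσ g.2).2 h)
    rw [← Fintype.card_coe, ← card_bounded]
    exact Nat.card_congr (Equiv.subtypeEquivRight fun M => by simp [e])
  · rw [← Fintype.card_coe]
    exact card_invariant _ (dualS_dualS hr hrp σ hσσ) (fun g e => h
      ((dual_eq_iff hr hrp σ k hσ g.2).1 (congrArg Subtype.val e))) N

end Cfsg.Agent.Small.PrimeOrderFactor
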