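import Cfsg.Agent.Lib.Small.Semisimple
import Mathlib.GroupTheory.OrderOfElement
import Mathlib.Algebra.Group.Conj

/-!
Counting semisimple classes by characteristic polynomials.
-/

set_option autoImplicit false

namespace Cfsg.Agent.Small.Semisimple

open Polynomial

variable {F : Type*} [Field F] [Fintype F]

/-- The monic polynomial of degree `n` with the given lower coefficients. -/
noncomputable def polyOf {n : ℕ} (a : Fin n → F) : F[X] :=
  X ^ n + ((degreeLTEquiv F n).symm a).1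

omit [Fintype F] in
theorem polyOf_spec {n : ℕ} (a : Fin n → F) :
    (polyOf a).Monic ∧ (polyOf a).natDegree = n ∧ ∀ i : Fin n, (polyOf a).coeff i = a i := by
  have h := mem_degreeLT.1 ((degreeLTEquiv F n).symm a).2
  refine ⟨monic_X_pow_add h, ?_, fun i => ?_⟩
  · apply natDegree_eq_of_degree_eq_some
    rw [polyOf, degree_add_eq_left_of_degree_lt (by rwa [degree_X_pow]), degree_X_pow]
  · rw [polyOf, coeff_add, coeff_X_pow, if_neg i.isLt.ne, zero_add]
    exact congrFun ((degreeLTEquiv F n).apply_symm_apply a) i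

omit [Fintype F] in
theorem polyOf_injective {n : ℕ} : Function.Injective (polyOf (F := F) (n := n)) := by
  intro a b h
  funext i
  rw [← (polyOf_spec a).2.2 i, h, (polyOf_spec b).2.2 i]

omit [Fintype F] in
theorem exists_matrix {n : ℕ} (P : F[X]) (hm : P.Monic) (hd : P.natDegree = n) :
    ∃ A : Matrix (Fin n) (Fin n) F, A.charpoly = P := by
  subst hd
  refine ⟨Algebra.leftMulMatrix (AdjoinRoot.powerBasis' hm).basis (AdjoinRoot.powerBasis' hm).gen, ?_⟩
  refine (charpoly_leftMulMatrix (AdjoinRoot.powerBasis' hm)).trans ?_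
  show minpoly F (AdjoinRoot.root P) = P
  rw [AdjoinRoot.minpoly_root hm.ne_zero, hm.leadingCoeff, inv_one, map_one, mul_one]

theorem charpoly_pow_card_pow {n : ℕ} (A : Matrix (Fin n) (Fin n) F) :
    ∀ k, (A ^ (Fintype.card F ^ k)).charpoly = A.charpoly
  | 0 => by simp
  | k + 1 => by
    rw [pow_succ, pow_mul, FiniteField.Matrix.charpoly_pow_card, charpoly_pow_card_pow A k]

/-- A power of `a` by a power of the field size has order prime to `p`. -/
theorem exists_pow_coprime {G : Type*} [Group G] [Finite G] (p : ℕ) [hp : Fact p.Prime] [CharP F p] (a : G) :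
    ∃ k, (orderOf (a ^ (Fintype.card F ^ k))).Coprime p := by
  obtain ⟨f, -, hf⟩ := FiniteField.card F p
  obtain ⟨s, m, hm, hN⟩ := Nat.exists_eq_pow_mul_and_not_dvd (orderOf_pos a).ne' p hp.out.one_lt.ne'
  refine ⟨s, ((hp.out.coprime_iff_not_dvd).2 fun h => hm (h.trans ?_)).symm⟩
  apply orderOf_dvd_of_pow_eq_one
  rw [← pow_mul]
  apply orderOf_dvd_iff_pow_eq_one.1
  rw [hN, hf, ← pow_mul]
  exact mul_dvd_mul_right (pow_dvd_pow p (Nat.le_mul_of_pos_left s f.pos)) m

theorem exists_GL_element (p : ℕ) [Fact p.Prime] [CharP F p] {n : ℕ} (a : Fin (n + 1) → F)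
    (ha : a 0 ≠ 0) : ∃ g : GL (Fin (n + 1)) F,
      (g : Matrix (Fin (n + 1)) (Fin (n + 1)) F).charpoly = polyOf a ∧ (orderOf g).Coprime p := by
  obtain ⟨hm, hd, hc⟩ := polyOf_spec a
  obtain ⟨A, hA⟩ := exists_matrix _ hm hd
  have hdet : A.det ≠ 0 := by
    rw [Matrix.det_eq_sign_charpoly_coeff, hA]
    have := hc 0
    rw [Fin.val_zero] at this
    rw [this]
    exact mul_ne_zero (pow_ne_zero _ (neg_ne_zero.2 one_ne_zero)) ha
  obtain ⟨k, hk⟩ := exists_pow_coprime (F := F) p (Matrix.GeneralLinearGroup.mkOfDetNeZero A hdet)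
  refine ⟨_, ?_, hk⟩
  rw [Units.val_pow_eq_pow_val, Matrix.GeneralLinearGroup.val_mkOfDetNeZero, charpoly_pow_card_pow, hA]

theorem exists_SL_element (p : ℕ) [Fact p.Prime] [CharP F p] {n : ℕ} (a : Fin (n + 1) → F)
    (ha : a 0 = (-1) ^ (n + 1)) : ∃ g : Matrix.SpecialLinearGroup (Fin (n + 1)) F,
      (g : Matrix (Fin (n + 1)) (Fin (n + 1)) F).charpoly = polyOf a ∧ (orderOf g).Coprime p := by
  obtain ⟨hm, hd, hc⟩ := polyOf_spec a
  obtain ⟨A, hA⟩ := exists_matrix _ hm hd
  have hdet : A.det = 1 := by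
    rw [Matrix.det_eq_sign_charpoly_coeff, hA]
    have := hc 0
    rw [Fin.val_zero] at this
    rw [this, ha, Fintype.card_fin, ← pow_add, Even.neg_one_pow ⟨n + 1, rfl⟩]
  obtain ⟨C, hC⟩ : ∃ C : Matrix.SpecialLinearGroup (Fin (n + 1)) F, ↑C = A := ⟨⟨A, hdet⟩, rfl⟩
  obtain ⟨k, hk⟩ := exists_pow_coprime (F := F) p C
  refine ⟨_, ?_, hk⟩
  rw [Matrix.SpecialLinearGroup.coe_pow, hC, charpoly_pow_card_pow, hA]

omit [Fintype F] in
theorem coeffs_of_charpoly {n : ℕ} (A : Matrix (Fin n) (Fin n) F) :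
    polyOf (fun i : Fin n => A.charpoly.coeff i) = A.charpoly := by
  obtain ⟨hm, hd, hc⟩ := polyOf_spec (fun i : Fin n => A.charpoly.coeff i)
  have hd' : A.charpoly.natDegree = n := by rw [Matrix.charpoly_natDegree_eq_dim, Fintype.card_fin]
  refine Polynomial.ext fun i => ?_
  rcases lt_trichotomy i n with hi | hi | hi
  · exact hc ⟨i, hi⟩
  · have e1 := hm.coeff_natDegree
    rw [hd] at e1
    have e2 := A.charpoly_monic.coeff_natDegree
    rw [hd'] at e2
    subst hi
    exact e1.trans e2.symm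
  · rw [coeff_eq_zero_of_natDegree_lt (hd.symm ▸ hi), coeff_eq_zero_of_natDegree_lt (hd'.symm ▸ hi)]

omit [Fintype F] in
theorem charpoly_eq_of_isConj_GL {n : ℕ} {g h : GL (Fin n) F} (hc : IsConj g h) :
    (g : Matrix (Fin n) (Fin n) F).charpoly = (h : Matrix (Fin n) (Fin n) F).charpoly := by
  obtain ⟨c, rfl⟩ := isConj_iff.1 hc
  rw [Units.val_mul, Units.val_mul]
  rw [Matrix.coe_units_inv]
  exact (Matrix.charpoly_units_conj c _).symm

theorem card_first_eq {n : ℕ} (c : F) :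
    Nat.card {a : Fin (n + 1) → F // a 0 = c} = Fintype.card F ^ n := by
  let e : {a : Fin (n + 1) → F // a 0 = c} ≃ (Fin n → F) :=
    { toFun := fun a => Fin.tail a.1
      invFun := fun b => ⟨Fin.cons c b, rfl⟩
      left_inv := fun ⟨a, ha⟩ => Subtype.ext (by subst ha; exact Fin.cons_self_tail a)
      right_inv := fun b => Fin.tail_cons (α := fun _ => F) c b }
  rw [Nat.card_congr e, Nat.card_fun, Nat.card_eq_fintype_card, Nat.card_eq_fintype_card, Fintype.card_fin]

theorem card_first_ne {n : ℕ} :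
    Nat.card {a : Fin (n + 1) → F // a 0 ≠ 0} = (Fintype.card F - 1) * Fintype.card F ^ n := by
  let e : {a : Fin (n + 1) → F // a 0 ≠ 0} ≃ Fˣ × (Fin n → F) :=
    { toFun := fun a => (Units.mk0 _ a.2, Fin.tail a.1)
      invFun := fun b => ⟨Fin.cons (b.1 : F) b.2, b.1.ne_zero⟩
      left_inv := fun ⟨a, ha⟩ => Subtype.ext (Fin.cons_self_tail a)
      right_inv := fun b => Prod.ext (Units.ext rfl) (Fin.tail_cons (α := fun _ => F) (b.1 : F) b.2) }
  rw [Nat.card_congr e, Nat.card_prod, Nat.card_fun, Nat.card_units, Nat.card_eq_fintype_card,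
    Nat.card_eq_fintype_card, Fintype.card_fin]

theorem card_classes_GL (p : ℕ) [Fact p.Prime] [CharP F p] (n : ℕ) :
    Nat.card {c : ConjClasses (GL (Fin (n + 1)) F) //
      ∃ g : GL (Fin (n + 1)) F, ConjClasses.mk g = c ∧ (orderOf g).Coprime p} =
      (Fintype.card F - 1) * Fintype.card F ^ n := by
  rw [← card_first_ne (F := F) (n := n)]
  refine (Nat.card_eq_of_bijective (fun a : {a : Fin (n + 1) → F // a 0 ≠ 0} =>
    (⟨ConjClasses.mk (exists_GL_element p a.1 a.2).choose, _, rfl,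
      (exists_GL_element p a.1 a.2).choose_spec.2⟩ : {c : ConjClasses (GL (Fin (n + 1)) F) //
      ∃ g : GL (Fin (n + 1)) F, ConjClasses.mk g = c ∧ (orderOf g).Coprime p})) ⟨?_, ?_⟩).symm
  · intro a b h
    have h' := charpoly_eq_of_isConj_GL (ConjClasses.mk_eq_mk_iff_isConj.1 (congrArg Subtype.val h))
    rw [(exists_GL_element p a.1 a.2).choose_spec.1, (exists_GL_element p b.1 b.2).choose_spec.1] at h'
    exact Subtype.ext (polyOf_injective h')
  · rintro ⟨c, g, rfl, hg⟩
    have hne : (g : Matrix (Fin (n + 1)) (Fin (n + 1)) F).charpoly.coeff 0 ≠ 0 := by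
      intro h0
      have := Matrix.det_eq_sign_charpoly_coeff (g : Matrix (Fin (n + 1)) (Fin (n + 1)) F)
      rw [h0, mul_zero] at this
      exact ((Matrix.isUnit_iff_isUnit_det _).1 g.isUnit).ne_zero this
    obtain ⟨a0, ha0⟩ : ∃ a0 : {a : Fin (n + 1) → F // a 0 ≠ 0},
        a0.1 = fun i : Fin (n + 1) => (g : Matrix (Fin (n + 1)) (Fin (n + 1)) F).charpoly.coeff i := ⟨⟨fun i : Fin (n + 1) => (g : Matrix (Fin (n + 1)) (Fin (n + 1)) F).charpoly.coeff i, by simpa using hne⟩, rfl⟩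
    refine ⟨a0, Subtype.ext (ConjClasses.mk_eq_mk_iff_isConj.2 ?_)⟩
    refine isConj_of_charpoly p _ g (exists_GL_element p a0.1 a0.2).choose_spec.2 hg ((exists_GL_element p a0.1 a0.2).choose_spec.1.trans ?_)
    rw [ha0]
    exact coeffs_of_charpoly _

theorem card_classes_SL (p : ℕ) [Fact p.Prime] [CharP F p] (n : ℕ)
    (hconj : ∀ g h : Matrix.SpecialLinearGroup (Fin (n + 1)) F, (orderOf g).Coprime p →
      (orderOf h).Coprime p → (g : Matrix (Fin (n + 1)) (Fin (n + 1)) F).charpoly =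
        (h : Matrix (Fin (n + 1)) (Fin (n + 1)) F).charpoly → IsConj g h) :
    Nat.card {c : ConjClasses (Matrix.SpecialLinearGroup (Fin (n + 1)) F) //
      ∃ g : Matrix.SpecialLinearGroup (Fin (n + 1)) F, ConjClasses.mk g = c ∧ (orderOf g).Coprime p} =
      Fintype.card F ^ n := by
  rw [← card_first_eq (F := F) (n := n) ((-1) ^ (n + 1))]
  refine (Nat.card_eq_of_bijective (fun a : {a : Fin (n + 1) → F // a 0 = (-1) ^ (n + 1)} =>
    (⟨ConjClasses.mk (exists_SL_element p a.1 a.2).choose, _, rfl,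
      (exists_SL_element p a.1 a.2).choose_spec.2⟩ : {c : ConjClasses (Matrix.SpecialLinearGroup (Fin (n + 1)) F) //
      ∃ g : Matrix.SpecialLinearGroup (Fin (n + 1)) F, ConjClasses.mk g = c ∧ (orderOf g).Coprime p})) ⟨?_, ?_⟩).symm
  · intro a b h
    have h' := charpoly_eq_of_isConj_GL (Matrix.SpecialLinearGroup.toGL.map_isConj
      (ConjClasses.mk_eq_mk_iff_isConj.1 (congrArg Subtype.val h)))
    refine Subtype.ext (polyOf_injective ?_)
    rw [← (exists_SL_element p a.1 a.2).choose_spec.1, ← (exists_SL_element p b.1 b.2).choose_spec.1]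
    exact h'
  · rintro ⟨c, g, rfl, hg⟩
    have h0 : (g : Matrix (Fin (n + 1)) (Fin (n + 1)) F).charpoly.coeff 0 = (-1) ^ (n + 1) := by
      have h := Matrix.det_eq_sign_charpoly_coeff (g : Matrix (Fin (n + 1)) (Fin (n + 1)) F)
      rw [g.2, Fintype.card_fin] at h
      calc (g : Matrix (Fin (n + 1)) (Fin (n + 1)) F).charpoly.coeff 0
          = ((-1) ^ (n + 1) * (-1) ^ (n + 1)) * (g : Matrix (Fin (n + 1)) (Fin (n + 1)) F).charpoly.coeff 0 := by
            rw [← pow_add, Even.neg_one_pow ⟨n + 1, rfl⟩, one_mul]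
        _ = (-1) ^ (n + 1) := by rw [mul_assoc, ← h, mul_one]
    obtain ⟨a0, ha0⟩ : ∃ a0 : {a : Fin (n + 1) → F // a 0 = (-1) ^ (n + 1)},
        a0.1 = fun i : Fin (n + 1) => (g : Matrix (Fin (n + 1)) (Fin (n + 1)) F).charpoly.coeff i := ⟨⟨fun i : Fin (n + 1) => (g : Matrix (Fin (n + 1)) (Fin (n + 1)) F).charpoly.coeff i, by simpa using h0⟩, rfl⟩
    refine ⟨a0, Subtype.ext (ConjClasses.mk_eq_mk_iff_isConj.2 ?_)⟩
    refine hconj _ g (exists_SL_element p a0.1 a0.2).choose_spec.2 hg ((exists_SL_element p a0.1 a0.2).choose_spec.1.trans ?_)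
    rw [ha0]
    exact coeffs_of_charpoly _

end Cfsg.Agent.Small.Semisimple
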