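import Cfsg.Agent.Lib.Small.SymplecticSemisimple
import Cfsg.Agent.Lib.Small.SemisimpleCount
import Cfsg.Agent.Lib.Classical.SpGeneration

/-!
# Semisimple classes of the symplectic group
-/

set_option autoImplicit false
set_option linter.unusedSectionVars false

namespace Cfsg.Agent.Small.SymplecticClasses

open Matrix Polynomial Cfsg.Agent.Small

open Cfsg.Agent.Classical

open scoped MatrixGroups

variable {F : Type*} [Field F] {m : ℕ}

/-- Semisimple symplectic elements with the same characteristic polynomial are conjugate. -/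
theorem conj_of_charpoly [Fintype F] (p : ℕ) [Fact p.Prime] [CharP F p] (g h : Matrix.symplecticGroup (Fin m) F)
    (hg : (orderOf g).Coprime p) (hh : (orderOf h).Coprime p) (hc : g.1.charpoly = h.1.charpoly) : IsConj g h := by
  let e : Fin m ⊕ Fin m ≃ Fin (m + m) := finSumFinEquiv
  let ψ : Matrix.symplecticGroup (Fin m) F →* GL (Fin (m + m)) F :=
    ((Matrix.reindexAlgEquiv F F e).toMonoidHom.comp (Matrix.symplecticGroup (Fin m) F).subtype).toHomUnits
  have hψv : ∀ x, (ψ x : Matrix (Fin (m + m)) (Fin (m + m)) F) = Matrix.reindexAlgEquiv F F e x.1 := fun x => rfl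
  have hψ : Function.Injective ψ := fun x y hxy =>
    Subtype.ext ((Matrix.reindexAlgEquiv F F e).injective (by rw [← hψv, ← hψv, hxy]))
  obtain ⟨c, hcc⟩ := isConj_iff.1 (Semisimple.isConj_of_charpoly p (ψ g) (ψ h)
    (by rw [orderOf_injective ψ hψ]; exact hg) (by rw [orderOf_injective ψ hψ]; exact hh)
    (by rw [hψv, hψv, Matrix.coe_reindexAlgEquiv, Matrix.charpoly_reindex, Matrix.charpoly_reindex, hc]))
  rw [mul_inv_eq_iff_eq_mul] at hcc
  have hcc' := congrArg (fun X : GL (Fin (m + m)) F => (Matrix.reindexAlgEquiv F F e).symm X.1) hcc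
  simp only [Units.val_mul, hψv, map_mul, AlgEquiv.symm_apply_apply] at hcc'
  refine SymplecticSemisimple.conj_of_similar p g h hg _ ?_ hcc'
  exact (Matrix.isUnit_iff_isUnit_det _).1 (c.isUnit.map (Matrix.reindexAlgEquiv F F e).symm)

/-- Symplectic matrices have determinant one. -/
theorem det_eq_one (A : Matrix.symplecticGroup (Fin m) F) : A.1.det = 1 := by
  have h : A ∈ Subgroup.closure {A : Matrix.symplecticGroup (Fin m) F | ∃ (w : Fin m ⊕ Fin m → F) (c : F),
      (A : Matrix (Fin m ⊕ Fin m) (Fin m ⊕ Fin m) F) = Cfsg.sympTransvection m w c} := by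
    rw [SpGen.closure_transvections]; trivial
  induction h using Subgroup.closure_induction with
  | mem x hx =>
    obtain ⟨w, c, hx⟩ := hx
    rw [hx, Cfsg.sympTransvection, ← Matrix.smul_vecMulVec, Matrix.vecMulVec_eq Unit,
      Matrix.det_one_add_replicateCol_mul_replicateRow, dotProduct_smul, dotProduct_comm,
      ← SpCount.stdForm_apply, (SpCount.stdForm_isAltND m).self, smul_zero, add_zero]
  | one => exact Matrix.det_one
  | mul x y _ _ hx hy => rw [Submonoid.coe_mul, Matrix.det_mul, hx, hy, one_mul]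
  | inv x _ hx =>
    have h1 := congrArg (fun y : Matrix.symplecticGroup (Fin m) F => y.1.det) (inv_mul_cancel x)
    simp only [Submonoid.coe_mul, Matrix.det_mul, hx, mul_one, OneMemClass.coe_one, Matrix.det_one] at h1
    exact h1

theorem inv_coeff {ι : Type*} [Fintype ι] [DecidableEq ι] (A : Matrix ι ι F) (hd : A.det = 1) {i : ℕ}
    (hi : i ≤ Fintype.card ι) :
    A⁻¹.charpoly.coeff i = (-1) ^ Fintype.card ι * A.charpoly.coeff (Fintype.card ι - i) := by
  rw [Matrix.charpoly_inv A ((Matrix.isUnit_iff_isUnit_det A).2 (by rw [hd]; exact isUnit_one)),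
    ← Matrix.reverse_charpoly, hd, Ring.inverse_one, map_one, mul_one,
    show ((-1 : Polynomial F)) ^ Fintype.card ι = Polynomial.C ((-1) ^ Fintype.card ι) by
      rw [map_pow, map_neg, map_one],
    Polynomial.coeff_C_mul, Polynomial.coeff_reverse, Matrix.charpoly_natDegree_eq_dim, Polynomial.revAt_le hi]

/-- Characteristic polynomials of symplectic matrices are palindromic. -/
theorem charpoly_palindrome (A : Matrix.symplecticGroup (Fin m) F) {i : ℕ} (hi : i ≤ 2 * m) :
    A.1.charpoly.coeff i = A.1.charpoly.coeff (2 * m - i) := by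
  have hcard : Fintype.card (Fin m ⊕ Fin m) = 2 * m := by rw [Fintype.card_sum, Fintype.card_fin, two_mul]
  have hinv : A.1⁻¹ = SymplecticSemisimple.adj A.1 :=
    Matrix.inv_eq_left_inv (SymplecticSemisimple.adj_mul_self_eq_one.2 A.2)
  have hcp : A.1⁻¹.charpoly = A.1.charpoly := by
    rw [hinv, SymplecticSemisimple.adj, ← Matrix.neg_mul, ← Matrix.neg_mul, Matrix.charpoly_mul_comm,
      ← Matrix.mul_assoc, Matrix.mul_neg, Matrix.J_squared, neg_neg, Matrix.one_mul, Matrix.charpoly_transpose]
  conv_lhs => rw [← hcp]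
  rw [inv_coeff A.1 (det_eq_one A) (hi.trans_eq hcard.symm), hcard, Even.neg_one_pow ⟨m, by omega⟩, one_mul]

theorem coeff_zero (A : Matrix.symplecticGroup (Fin m) F) : A.1.charpoly.coeff 0 = 1 := by
  have h1 := A.1.charpoly_monic.coeff_natDegree
  rw [Matrix.charpoly_natDegree_eq_dim, Fintype.card_sum, Fintype.card_fin, ← two_mul] at h1
  rw [charpoly_palindrome A (Nat.zero_le _), Nat.sub_zero, h1]

theorem charpoly_conj {g h : Matrix.symplecticGroup (Fin m) F} (hc : IsConj g h) : g.1.charpoly = h.1.charpoly := by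
  obtain ⟨c, rfl⟩ := isConj_iff.1 hc
  rw [Submonoid.coe_mul, Submonoid.coe_mul, Matrix.charpoly_mul_comm, ← Matrix.mul_assoc,
    ← Submonoid.coe_mul, inv_mul_cancel, OneMemClass.coe_one, Matrix.one_mul]

section companion

variable {P : F[X]}

/-- The functional and pairing which turn the root into a symplectic transformation. -/
theorem exists_symplectic_root (hm : 0 < m) (hP : P.Monic) (hdeg : P.natDegree = 2 * m)
    (hpal : ∀ i ≤ 2 * m, P.coeff i = P.coeff (2 * m - i)) :
    ∃ C : Matrix.symplecticGroup (Fin m) F, C.1.charpoly = P := by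
  classical
  haveI := (AdjoinRoot.powerBasis' hP).finite
  obtain ⟨x, hx⟩ : ∃ x, x = AdjoinRoot.root P := ⟨_, rfl⟩
  obtain ⟨xi, hxi⟩ : ∃ xi, xi = -AdjoinRoot.mk P P.divX := ⟨_, rfl⟩
  have hc0 : P.coeff 0 = 1 := by
    rw [hpal 0 (Nat.zero_le _), Nat.sub_zero, ← hdeg, hP.coeff_natDegree]
  have hxxi : x * xi = 1 := by
    have h := congrArg (AdjoinRoot.mk P) (Polynomial.X_mul_divX_add P)
    rw [map_add, map_mul, AdjoinRoot.mk_X, hc0, map_one, map_one, AdjoinRoot.mk_self] at h
    rw [hxi, hx]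
    linear_combination -h
  letI : Invertible x := ⟨xi, by rw [mul_comm, hxxi], hxxi⟩
  have hrev : P.reverse = P := by
    ext i
    rw [Polynomial.coeff_reverse, hdeg]
    rcases le_or_gt i (2 * m) with h | h
    · rw [Polynomial.revAt_le h, ← hpal i h]
    · rw [Polynomial.revAt_eq_self_of_lt h]
  have hroot : P.eval₂ (Algebra.ofId F (AdjoinRoot P)).toRingHom xi = 0 := by
    have h := (Polynomial.eval₂_reverse_eq_zero_iff (algebraMap F (AdjoinRoot P)) x P).2 (by
      rw [hx]; exact AdjoinRoot.eval₂_root P)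
    rw [hrev] at h
    exact h
  let σ : AdjoinRoot P →ₐ[F] AdjoinRoot P := AdjoinRoot.liftAlgHom P (Algebra.ofId F (AdjoinRoot P)) xi hroot
  have hσx : σ x = xi := by rw [hx]; exact AdjoinRoot.liftAlgHom_root _ _ _ _
  have hσxi : σ xi = x := by
    have h := congrArg σ hxxi
    rw [map_mul, hσx, map_one] at h
    linear_combination x * h - σ xi * hxxi
  have hσσ : ∀ z, σ (σ z) = z := fun z => by
    have h : σ.comp σ = AlgHom.id F (AdjoinRoot P) := AdjoinRoot.algHom_ext (by
      rw [AlgHom.comp_apply, ← hx, hσx, hσxi, AlgHom.id_apply])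
    exact congrArg (fun f : AdjoinRoot P →ₐ[F] AdjoinRoot P => f z) h
  let T : AdjoinRoot P →ₗ[F] F := (Polynomial.lcoeff F (2 * m - 1)).comp
    ((AdjoinRoot.modByMonicHom hP).comp (LinearMap.mulRight F (x ^ (m - 1))))
  have hT : ∀ (f : F[X]) (z : AdjoinRoot P), z * x ^ (m - 1) = AdjoinRoot.mk P f → f.natDegree < 2 * m →
      T z = f.coeff (2 * m - 1) := fun f z hz hf => by
    show (AdjoinRoot.modByMonicHom hP (z * x ^ (m - 1))).coeff (2 * m - 1) = _
    rw [hz, AdjoinRoot.modByMonicHom_mk, (Polynomial.modByMonic_eq_self_iff hP).2 ?_]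
    exact Polynomial.degree_lt_degree (hdeg ▸ hf)
  have hXpow : ∀ i, x ^ i = AdjoinRoot.mk P (X ^ i) := fun i => by rw [map_pow, AdjoinRoot.mk_X, hx]
  have hTx : ∀ i ≤ m, T (x ^ i) = if i = m then 1 else 0 := fun i hi => by
    rw [hT (X ^ (i + (m - 1))) _ (by rw [← pow_add, hXpow]) (by rw [natDegree_X_pow]; omega), coeff_X_pow]
    by_cases h : i = m
    · rw [if_pos h, if_pos (by omega)]
    · rw [if_neg h, if_neg (by omega)]
  have hTxi : ∀ i, 1 ≤ i → i ≤ m → T (xi ^ i) = if i = m then -1 else 0 := fun i hi1 hi => by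
    by_cases h : i = m
    · rw [if_pos h, hT (-P.divX) _ ?_ ?_, coeff_neg, coeff_divX, show 2 * m - 1 + 1 = 2 * m by omega, ← hdeg,
        hP.coeff_natDegree]
      · subst h
        obtain ⟨j, rfl⟩ : ∃ j, i = j + 1 := ⟨i - 1, by omega⟩
        rw [Nat.add_sub_cancel, map_neg, ← hxi, pow_succ', mul_assoc, ← mul_pow, mul_comm xi x, hxxi, one_pow, mul_one]
      · rw [natDegree_neg, natDegree_divX_eq_natDegree_tsub_one, hdeg]; omega
    · rw [if_neg h, hT (X ^ (m - 1 - i)) _ ?_ (by rw [natDegree_X_pow]; omega), coeff_X_pow, if_neg (by omega)]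
      rw [← hXpow, show m - 1 = i + (m - 1 - i) by omega, pow_add, ← mul_assoc, ← mul_pow, mul_comm xi x, hxxi,
        one_pow, one_mul, Nat.add_sub_cancel_left]
  have hTσ : ∀ z, T (σ z) = -T z := by
    have h : (T.comp σ.toLinearMap + T).comp (LinearMap.mulRight F (xi ^ (m - 1))) = 0 := by
      refine (AdjoinRoot.powerBasis' hP).basis.ext fun j => ?_
      have hj : (j : ℕ) < 2 * m := hdeg ▸ j.isLt
      simp only [PowerBasis.basis_eq_pow, LinearMap.comp_apply, LinearMap.add_apply, LinearMap.mulRight_apply,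
        AlgHom.toLinearMap_apply, LinearMap.zero_apply]
      rw [show (AdjoinRoot.powerBasis' hP).gen = x from hx.symm]
      rcases le_or_gt (m - 1) (j : ℕ) with hjm | hjm
      · obtain ⟨i, hi⟩ : ∃ i, (j : ℕ) = i + (m - 1) := ⟨(j : ℕ) - (m - 1), by omega⟩
        rw [hi, pow_add, mul_assoc, ← mul_pow, hxxi, one_pow, mul_one, map_pow, hσx, hTx i (by omega)]
        rcases Nat.eq_zero_or_pos i with rfl | hi0
        · rw [pow_zero, if_neg (by omega), ← pow_zero x, hTx 0 (Nat.zero_le _), if_neg (by omega), add_zero]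
        · rw [hTxi i hi0 (by omega)]
          split_ifs <;> simp
      · obtain ⟨i, hi, hi0⟩ : ∃ i, m - 1 = (j : ℕ) + i ∧ 0 < i := ⟨m - 1 - j, by omega, by omega⟩
        rw [hi, pow_add, ← mul_assoc, ← mul_pow, hxxi, one_pow, one_mul, map_pow, hσxi, hTxi i hi0 (by omega),
          hTx i (by omega), if_neg (by omega), if_neg (by omega), add_zero]
    intro z
    have h1 := LinearMap.congr_fun h (z * x ^ (m - 1))
    simp only [LinearMap.comp_apply, LinearMap.mulRight_apply, LinearMap.add_apply, AlgHom.toLinearMap_apply,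
      LinearMap.zero_apply] at h1
    rw [mul_assoc, ← mul_pow, hxxi, one_pow, mul_one] at h1
    exact eq_neg_of_add_eq_zero_left h1
  let β : AdjoinRoot P →ₗ[F] AdjoinRoot P →ₗ[F] F :=
    ((LinearMap.mul F (AdjoinRoot P)).comp σ.toLinearMap).compr₂ T
  have hβ : ∀ u v, β u v = T (σ u * v) := fun u v => rfl
  have hskew : ∀ u v, β v u = -β u v := fun u v => by
    rw [hβ, hβ, ← hTσ, map_mul σ, hσσ, mul_comm]
  have hB : SpCount.IsAltND β := by
    refine ⟨fun v => ?_, fun v hv => ?_⟩
    · have hv : v ∈ Submodule.span F (Set.range (AdjoinRoot.powerBasis' hP).basis) := by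
        rw [Module.Basis.span_eq]; trivial
      induction hv using Submodule.span_induction with
      | mem u hu =>
        obtain ⟨j, rfl⟩ := hu
        rw [PowerBasis.basis_eq_pow, show (AdjoinRoot.powerBasis' hP).gen = x from hx.symm, hβ, map_pow, hσx,
          ← mul_pow, mul_comm, hxxi, one_pow, ← pow_zero x, hTx 0 (Nat.zero_le _), if_neg (by omega)]
      | zero => simp
      | add u w _ _ hu hw =>
        simp only [map_add, LinearMap.add_apply, hu, hw, zero_add, add_zero, hskew u w, add_neg_cancel, neg_add_cancel]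
      | smul c u _ hu => simp only [map_smul, LinearMap.smul_apply, hu, smul_zero]
    · by_contra hv0
      have hw0 : σ v ≠ 0 := fun e => hv0 (by rw [← hσσ v, e, map_zero])
      obtain ⟨f, hf⟩ : ∃ f, f = AdjoinRoot.modByMonicHom hP (σ v) := ⟨_, rfl⟩
      have hfv : AdjoinRoot.mk P f = σ v := by rw [hf]; exact AdjoinRoot.mk_leftInverse hP _
      have hf0 : f ≠ 0 := fun e => hw0 (by rw [← hfv, e, map_zero])
      have hfd : f.natDegree < 2 * m := by
        obtain ⟨g, hg⟩ := AdjoinRoot.mk_surjective (σ v)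
        rw [hf, ← hg, AdjoinRoot.modByMonicHom_mk, ← hdeg]
        refine Polynomial.natDegree_modByMonic_lt g hP fun e => ?_
        rw [e, natDegree_one] at hdeg
        omega
      have := hv (xi ^ (m - 1) * x ^ (2 * m - 1 - f.natDegree))
      rw [hβ, hT (f * X ^ (2 * m - 1 - f.natDegree)) _ ?_ (by
          rw [natDegree_mul_X_pow _ hf0]; omega),
        coeff_mul_X_pow', if_pos (Nat.sub_le _ _), show 2 * m - 1 - (2 * m - 1 - f.natDegree) = f.natDegree by omega,
        ← leadingCoeff, leadingCoeff_eq_zero] at this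
      · exact hf0 this
      · rw [map_mul, ← hXpow, hfv, mul_assoc, mul_right_comm (xi ^ (m - 1)), ← mul_pow, mul_comm xi x, hxxi,
          one_pow, one_mul]
  have hV : Module.finrank F (AdjoinRoot P) = 2 * m := by
    rw [(AdjoinRoot.powerBasis' hP).finrank, AdjoinRoot.powerBasis'_dim, hdeg]
  obtain ⟨fam⟩ := SpCount.exists_fam m hB hV
  refine ⟨⟨LinearMap.toMatrix (SpCount.famBasis hB hV fam) (SpCount.famBasis hB hV fam) (Semisimple.rootMul P),
    (SpCount.toMatrix_mem_iff hB hV fam _).2 fun u v => ?_⟩, ?_⟩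
  · show β (AdjoinRoot.root P * u) (AdjoinRoot.root P * v) = β u v
    rw [← hx, hβ, hβ, map_mul σ, hσx, mul_mul_mul_comm, mul_comm xi x, hxxi, one_mul]
  · show (LinearMap.toMatrix _ _ (Semisimple.rootMul P)).charpoly = P
    rw [LinearMap.charpoly_toMatrix, Semisimple.charpoly_rootMul hP]

end companion

variable [Fintype F] (p : ℕ) [Fact p.Prime] [CharP F p]

theorem charpoly_pow_card_pow (A : Matrix (Fin m ⊕ Fin m) (Fin m ⊕ Fin m) F) :
    ∀ k, (A ^ (Fintype.card F ^ k)).charpoly = A.charpoly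
  | 0 => by simp
  | k + 1 => by
    rw [pow_succ, pow_mul, FiniteField.Matrix.charpoly_pow_card, charpoly_pow_card_pow A k]

/-- Every palindromic polynomial occurs for a semisimple element. -/
theorem exists_element {P : F[X]} (hP : P.Monic) (hdeg : P.natDegree = 2 * m)
    (hpal : ∀ i ≤ 2 * m, P.coeff i = P.coeff (2 * m - i)) :
    ∃ g : Matrix.symplecticGroup (Fin m) F, g.1.charpoly = P ∧ (orderOf g).Coprime p := by
  rcases Nat.eq_zero_or_pos m with rfl | hm
  · refine ⟨1, ?_, by rw [orderOf_one]; exact Nat.coprime_one_left _⟩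
    rw [hP.natDegree_eq_zero.1 (by omega), Matrix.charpoly, Matrix.det_isEmpty]
  · obtain ⟨C, hC⟩ := exists_symplectic_root hm hP hdeg hpal
    obtain ⟨k, hk⟩ := Semisimple.exists_pow_coprime (F := F) p C
    exact ⟨_, by rw [SubmonoidClass.coe_pow, charpoly_pow_card_pow, hC], hk⟩

/-- The number of semisimple classes. -/
theorem card_classes : Nat.card {c : ConjClasses (Matrix.symplecticGroup (Fin m) F) //
    ∃ g : Matrix.symplecticGroup (Fin m) F, ConjClasses.mk g = c ∧ (orderOf g).Coprime p} = Fintype.card F ^ m := by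
  have hcard : Nat.card (Fin m → F) = Fintype.card F ^ m := by
    rw [Nat.card_fun, Nat.card_eq_fintype_card, Nat.card_eq_fintype_card, Fintype.card_fin]
  rw [← hcard]
  have hdegA : ∀ g : Matrix.symplecticGroup (Fin m) F, g.1.charpoly.natDegree = 2 * m := fun g => by
    rw [Matrix.charpoly_natDegree_eq_dim, Fintype.card_sum, Fintype.card_fin, two_mul]
  refine Nat.card_eq_of_bijective (fun c => fun i : Fin m => c.2.choose.1.charpoly.coeff (i + 1)) ⟨?_, ?_⟩
  · intro c d h
    apply Subtype.ext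
    rw [← c.2.choose_spec.1, ← d.2.choose_spec.1, ConjClasses.mk_eq_mk_iff_isConj]
    refine conj_of_charpoly p _ _ c.2.choose_spec.2 d.2.choose_spec.2 (Polynomial.ext fun i => ?_)
    have hlow : ∀ j ≤ m, c.2.choose.1.charpoly.coeff j = d.2.choose.1.charpoly.coeff j := fun j hj => by
      rcases j with _ | j
      · rw [coeff_zero, coeff_zero]
      · exact congrFun h ⟨j, by omega⟩
    rcases le_or_gt i m with hi | hi
    · exact hlow i hi
    · rcases le_or_gt i (2 * m) with hi' | hi'
      · rw [charpoly_palindrome _ hi', charpoly_palindrome _ hi']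
        exact hlow _ (by omega)
      · rw [coeff_eq_zero_of_natDegree_lt (by rw [hdegA]; exact hi'),
          coeff_eq_zero_of_natDegree_lt (by rw [hdegA]; exact hi')]
  · intro v
    obtain ⟨a, ha⟩ : ∃ a : ℕ → F, a = fun i => if h : min i (2 * m - i) - 1 < m then
        (if min i (2 * m - i) = 0 then 1 else v ⟨min i (2 * m - i) - 1, h⟩) else 1 := ⟨_, rfl⟩
    obtain ⟨hmon, hdeg, hco⟩ := Semisimple.polyOf_spec (fun i : Fin (2 * m) => a i)
    have hco' : ∀ i ≤ 2 * m, (Semisimple.polyOf (fun i : Fin (2 * m) => a i)).coeff i = a i := fun i hi => by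
      rcases hi.lt_or_eq with h | h
      · exact hco ⟨i, h⟩
      · subst h
        rw [show a (2 * m) = 1 by rw [ha]; simp]
        conv_lhs => arg 2; rw [← hdeg]
        exact hmon.coeff_natDegree
    obtain ⟨g, hg, hgo⟩ := exists_element p hmon hdeg fun i hi => by
      rw [hco' i hi, hco' _ (Nat.sub_le _ _), ha]
      simp only [show 2 * m - (2 * m - i) = i by omega, min_comm (2 * m - i) i]
    obtain ⟨cl, hcl⟩ : ∃ cl : {c : ConjClasses (Matrix.symplecticGroup (Fin m) F) //
        ∃ g : Matrix.symplecticGroup (Fin m) F, ConjClasses.mk g = c ∧ (orderOf g).Coprime p},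
        cl = ⟨ConjClasses.mk g, g, rfl, hgo⟩ := ⟨_, rfl⟩
    refine ⟨cl, funext fun i => ?_⟩
    have hc : IsConj cl.2.choose g :=
      ConjClasses.mk_eq_mk_iff_isConj.1 (cl.2.choose_spec.1.trans (by rw [hcl]))
    show cl.2.choose.1.charpoly.coeff _ = _
    rw [charpoly_conj hc, hg, hco' _ (by omega), ha]
    have hmin : min ((i : ℕ) + 1) (2 * m - ((i : ℕ) + 1)) = (i : ℕ) + 1 := by omega
    simp only [hmin, Nat.succ_ne_zero, if_false, Nat.add_sub_cancel, i.isLt, dif_pos, Fin.eta]

end Cfsg.Agent.Small.SymplecticClasses
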