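import Cfsg.Agent.Lib.Small.OrthogonalSemisimple
import Cfsg.Agent.Lib.Small.QuadModels
import Cfsg.Agent.Lib.Small.PrimeOrderFactor
import Cfsg.Agent.Lib.Small.SymplecticClasses

/-!
# Classes of elements of odd prime order prime to the characteristic in orthogonal groups
-/

set_option autoImplicit false
set_option linter.unusedSectionVars false

namespace Cfsg.Agent.Small.OrthogonalPrimeClasses

open Matrix Polynomial QuadraticMap Cfsg.Agent.Small Cfsg.Agent.Classical

universe u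

variable {F : Type u} [Field F]

/-! ### Invariant forms -/

theorem eq_zero_of_mulVec {κ : Type} [Fintype κ] [DecidableEq κ] (A : Matrix κ κ F) {t : F}
    (h : A.charpoly.eval t ≠ 0) {v : κ → F} (hv : A *ᵥ v = t • v) : v = 0 := by
  rw [Matrix.eval_charpoly] at h
  refine Matrix.eq_zero_of_mulVec_eq_zero h ?_
  rw [Matrix.sub_mulVec, hv, Matrix.scalar_apply, ← Matrix.smul_one_eq_diagonal, Matrix.smul_mulVec, Matrix.one_mulVec,
    sub_self]

/-- A symplectic matrix without eigenvalue `±1` preserves a nondegenerate quadratic form. -/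
theorem exists_form {k : ℕ} (g : Matrix.symplecticGroup (Fin k) F) (h1 : g.1.charpoly.eval 1 ≠ 0)
    (h2 : g.1.charpoly.eval (-1) ≠ 0) :
    ∃ W : QuadraticForm F (Fin k ⊕ Fin k → F), OCount.PND W ∧ ∀ v, W (g.1 *ᵥ v) = W v := by
  obtain ⟨a, ha⟩ : ∃ a, a = g.1 := ⟨_, rfl⟩
  obtain ⟨M, hM⟩ : ∃ M, M = Matrix.J (Fin k) F * a := ⟨_, rfl⟩
  have hJ : aᵀ * Matrix.J (Fin k) F * a = Matrix.J (Fin k) F := ha ▸ SymplecticGroup.mem_iff'.1 g.2
  have hB : ∀ u v : Fin k ⊕ Fin k → F, Matrix.toLinearMap₂' F M u v = u ⬝ᵥ (M *ᵥ v) := fun u v =>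
    Matrix.toLinearMap₂'_apply' M u v
  refine ⟨LinearMap.BilinMap.toQuadraticMap (Matrix.toLinearMap₂' F M), fun v hv => ?_, fun v => ?_⟩
  · have hz : (M + Mᵀ) *ᵥ v = 0 := dotProduct_eq_zero _ fun w => by
      have h := hv w
      rw [LinearMap.BilinMap.polar_toQuadraticMap, hB, hB] at h
      rw [dotProduct_comm, Matrix.add_mulVec, dotProduct_add, Matrix.mulVec_transpose, dotProduct_comm w (v ᵥ* M),
        ← dotProduct_mulVec, add_comm]
      exact h
    have hMt : M + Mᵀ = aᵀ * Matrix.J (Fin k) F * (a * a - 1) := by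
      rw [Matrix.mul_sub, ← Matrix.mul_assoc, hJ, Matrix.mul_one, hM, Matrix.transpose_mul, Matrix.J_transpose,
        Matrix.mul_neg, sub_eq_add_neg]
    have hu : (aᵀ * Matrix.J (Fin k) F).det ≠ 0 := by
      rw [Matrix.det_mul, Matrix.det_transpose, ha, SymplecticClasses.det_eq_one, one_mul]
      exact (Matrix.isUnit_det_J (Fin k) F).ne_zero
    rw [hMt, ← Matrix.mulVec_mulVec] at hz
    have hz' := Matrix.eq_zero_of_mulVec_eq_zero hu hz
    rw [Matrix.sub_mulVec, Matrix.one_mulVec, ← Matrix.mulVec_mulVec, sub_eq_zero] at hz'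
    have hw : a *ᵥ v - v = 0 := eq_zero_of_mulVec a (ha ▸ h2) (by
      rw [Matrix.mulVec_sub, hz', neg_one_smul, neg_sub])
    exact eq_zero_of_mulVec a (ha ▸ h1) (by rw [one_smul]; exact sub_eq_zero.1 hw)
  · simp only [LinearMap.BilinMap.toQuadraticMap_apply, hB, ← ha]
    rw [dotProduct_mulVec, Matrix.vecMul_mulVec, hM, ← Matrix.mul_assoc, hJ, ← dotProduct_mulVec,
      Matrix.mulVec_mulVec]

/-- The orthogonal sum of two nondegenerate forms. -/
theorem exists_sum {κ κ' : Type} [Fintype κ] [Fintype κ'] (W : QuadraticForm F (κ → F)) (W' : QuadraticForm F (κ' → F))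
    (h : OCount.PND W) (h' : OCount.PND W') :
    ∃ T : QuadraticForm F (κ ⊕ κ' → F), OCount.PND T ∧ ∀ v, T v = W (v ∘ Sum.inl) + W' (v ∘ Sum.inr) := by
  obtain ⟨T, hT⟩ : ∃ T : QuadraticForm F (κ ⊕ κ' → F),
      T = W.comp (LinearMap.funLeft F F Sum.inl) + W'.comp (LinearMap.funLeft F F Sum.inr) := ⟨_, rfl⟩
  have hval : ∀ v, T v = W (v ∘ Sum.inl) + W' (v ∘ Sum.inr) := fun v => by rw [hT]; rfl
  refine ⟨T, fun v hv => ?_, hval⟩
  have e : ∀ w, polar T v w = polar W (v ∘ Sum.inl) (w ∘ Sum.inl) + polar W' (v ∘ Sum.inr) (w ∘ Sum.inr) := fun w => by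
    simp only [polar, hval]
    rw [show (v + w) ∘ Sum.inl = v ∘ Sum.inl + w ∘ Sum.inl from rfl,
      show (v + w) ∘ Sum.inr = v ∘ Sum.inr + w ∘ Sum.inr from rfl]
    ring
  have h1 : v ∘ Sum.inl = 0 := h _ fun w => by
    have := hv (Sum.elim w 0)
    rw [e, Sum.elim_comp_inl, Sum.elim_comp_inr, polar_zero_right, add_zero] at this
    exact this
  have h2 : v ∘ Sum.inr = 0 := h' _ fun w => by
    have := hv (Sum.elim 0 w)
    rw [e, Sum.elim_comp_inl, Sum.elim_comp_inr, polar_zero_right, zero_add] at this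
    exact this
  funext x
  rcases x with x | x
  exacts [congrFun h1 x, congrFun h2 x]

/-! ### Counting modulo a prime -/

variable {r : ℕ}

theorem card_modEq_fixed {α : Type*} [Finite α] (hr : r.Prime) (f : α → α) (hf : f^[r] = id) :
    Nat.card α ≡ Nat.card {a // f a = a} [MOD r] := by
  classical
  haveI := Fintype.ofFinite α
  haveI : Fact r.Prime := ⟨hr⟩
  obtain ⟨e, he⟩ : ∃ e : Function.End α, e = f := ⟨f, rfl⟩
  have hpow : e ^ r ^ 1 = 1 := by
    rw [pow_one]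
    exact (hom_coe_pow (fun g : Function.End α => g) rfl (fun g h => rfl) e r).trans (he ▸ hf)
  have h := Equiv.Perm.card_fixedPoints_modEq hpow
  rw [← Nat.card_eq_fintype_card, ← Nat.card_eq_fintype_card] at h
  subst he
  exact h

/-- An isometry of order `r` acts on the vectors of norm one, and only its fixed vectors matter modulo `r`. -/
theorem card_one_modEq [Finite F] {κ : Type} [Fintype κ] [DecidableEq κ] (hr : r.Prime) (W : (κ → F) → F)
    (A : Matrix κ κ F) (hA : ∀ v, W (A *ᵥ v) = W v) (hAr : A ^ r = 1) :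
    Nat.card {v // W v = 1} ≡ Nat.card {v // W v = 1 ∧ A *ᵥ v = v} [MOD r] := by
  obtain ⟨f, hf⟩ : ∃ f : {v // W v = 1} → {v // W v = 1}, ∀ v, (f v).1 = A *ᵥ v.1 :=
    ⟨fun v => ⟨A *ᵥ v.1, (hA _).trans v.2⟩, fun v => rfl⟩
  have hiter : ∀ (k : ℕ) v, (f^[k] v).1 = A ^ k *ᵥ v.1 := by
    intro k
    induction k with
    | zero => intro v; rw [pow_zero, Matrix.one_mulVec]; rfl
    | succ k ih => intro v; rw [Function.iterate_succ_apply', hf, ih, Matrix.mulVec_mulVec, ← pow_succ']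
  have h := card_modEq_fixed hr f (funext fun v => Subtype.ext (by rw [hiter, hAr, Matrix.one_mulVec]; rfl))
  refine h.trans (congrArg (· % r) (Nat.card_congr ((Equiv.subtypeEquivRight fun v => ?_).trans
    (Equiv.subtypeSubtypeEquivSubtypeInter _ (fun v => A *ᵥ v = v)))))
  rw [← hf]
  exact Subtype.ext_iff

theorem cast_ne_zero_of (hr : r.Prime) {p : ℕ} [Fact p.Prime] [CharP F p] [Fintype F] (hrp : r ≠ p) :
    ((Fintype.card F : ℕ) : ZMod r) ≠ 0 := by
  obtain ⟨⟨f, hf⟩, -, hK⟩ := FiniteField.card F p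
  rw [Ne, ZMod.natCast_eq_zero_iff, hK]
  exact fun h => hrp ((Nat.prime_dvd_prime_iff_eq hr (Fact.out : p.Prime)).1 (hr.dvd_of_dvd_pow h))

theorem plus_dvd_iff (hr : r.Prime) {q : ℕ} (hq : 1 ≤ q) (hq0 : (q : ZMod r) ≠ 0) (m k : ℕ) :
    r ∣ (q ^ m - 1) * q ^ k ↔ (q : ZMod r) ^ m = 1 := by
  haveI : Fact r.Prime := ⟨hr⟩
  rw [← ZMod.natCast_eq_zero_iff, Nat.cast_mul, Nat.cast_sub (Nat.one_le_pow _ _ hq), mul_eq_zero,
    Nat.cast_pow, Nat.cast_pow, or_iff_left (pow_ne_zero _ hq0), Nat.cast_one, sub_eq_zero]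

theorem minus_dvd_iff (hr : r.Prime) {q : ℕ} (hq0 : (q : ZMod r) ≠ 0) (m k : ℕ) :
    r ∣ (q ^ m + 1) * q ^ k ↔ (q : ZMod r) ^ m = -1 := by
  haveI : Fact r.Prime := ⟨hr⟩
  rw [← ZMod.natCast_eq_zero_iff, Nat.cast_mul, Nat.cast_add, mul_eq_zero, Nat.cast_pow, Nat.cast_pow,
    or_iff_left (pow_ne_zero _ hq0), Nat.cast_one, add_eq_zero_iff_eq_neg]

theorem one_ne_neg_one (hr : r.Prime) (hr2 : r ≠ 2) : (1 : ZMod r) ≠ -1 := by
  intro e
  have h2 : ((2 : ℕ) : ZMod r) = 0 := by push_cast; linear_combination e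
  exact hr2 ((Nat.prime_dvd_prime_iff_eq hr Nat.prime_two).1 ((ZMod.natCast_eq_zero_iff _ _).1 h2))

theorem plus_not_modEq_minus (hr : r.Prime) (hr2 : r ≠ 2) {q : ℕ} (hq : 1 ≤ q) (hq0 : (q : ZMod r) ≠ 0) (m k : ℕ) :
    ¬ (q ^ m - 1) * q ^ k ≡ (q ^ m + 1) * q ^ k [MOD r] := by
  haveI : Fact r.Prime := ⟨hr⟩
  intro h
  rw [← ZMod.natCast_eq_natCast_iff, Nat.cast_mul, Nat.cast_mul, Nat.cast_sub (Nat.one_le_pow _ _ hq), Nat.cast_add,
    mul_eq_mul_right_iff, Nat.cast_pow, Nat.cast_pow, Nat.cast_one] at h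
  rcases h with h | h
  · exact one_ne_neg_one hr hr2 (by linear_combination -h)
  · exact pow_ne_zero _ hq0 h

/-! ### The forms in even dimension -/

section models

variable [Fintype F]

theorem even_count {V : Type u} [AddCommGroup V] [Module F V] [FiniteDimensional F V] (T : QuadraticForm F V) {m : ℕ}
    (hm : 1 ≤ m) (hV : Module.finrank F V = 2 * m) (hT : OCount.PND T) (a c : F)
    (hac : ∀ z₁ z₂ : F, z₁ ^ 2 + a * z₁ * z₂ + c * z₂ ^ 2 = 0 → z₁ = 0 ∧ z₂ = 0) :
    ((∃ L : (Fin m ⊕ Fin m → F) ≃ₗ[F] V, ∀ v, T (L v) = Cfsg.quadFormPlus m F v) ∧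
        Nat.card {v // T v = 1} = (Fintype.card F ^ m - 1) * Fintype.card F ^ (m - 1)) ∨
      ((∃ L : ((Fin (m - 1) ⊕ Fin (m - 1)) ⊕ Fin 2 → F) ≃ₗ[F] V,
          ∀ v, T (L v) = Cfsg.quadFormMinus (m - 1) F a c v) ∧
        Nat.card {v // T v = 1} = (Fintype.card F ^ m + 1) * Fintype.card F ^ (m - 1)) := by
  rcases QuadModels.even_model T hm hV (QuadModels.nondegenerate hT) a c hac with ⟨L, hL⟩ | ⟨L, hL⟩
  · refine Or.inl ⟨⟨L, hL⟩, ?_⟩
    rw [← QuadModels.card_one_plus]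
    exact (Nat.card_congr (L.toEquiv.subtypeEquiv fun v => by rw [LinearEquiv.coe_toEquiv, hL])).symm
  · refine Or.inr ⟨⟨L, hL⟩, ?_⟩
    have h := QuadModels.card_one_minus (m - 1) a c hac
    rw [Nat.sub_add_cancel hm] at h
    rw [← h]
    exact (Nat.card_congr (L.toEquiv.subtypeEquiv fun v => by rw [LinearEquiv.coe_toEquiv, hL])).symm

variable {ι κ : Type} [Fintype ι] [Fintype κ]

/-- Two nondegenerate forms of the same even dimension with equally many vectors of norm one are equivalent. -/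
theorem sim_even (Q : QuadraticForm F (ι → F)) (W : QuadraticForm F (κ → F)) (hQ : OCount.PND Q) (hW : OCount.PND W)
    {m : ℕ} (hm : 1 ≤ m) (hι : Fintype.card ι = 2 * m) (hκ : Fintype.card κ = 2 * m)
    (hN : Nat.card {v // W v = 1} = Nat.card {v // Q v = 1}) :
    ∃ (y : F) (L : (κ → F) ≃ₗ[F] (ι → F)), y ≠ 0 ∧ ∀ v, Q (L v) = y * W v := by
  obtain ⟨a, c, hac⟩ := QuadModels.exists_aniso (F := F)
  have hne : (Fintype.card F ^ m - 1) * Fintype.card F ^ (m - 1) ≠ (Fintype.card F ^ m + 1) * Fintype.card F ^ (m - 1) :=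
    fun h => by
      have := Nat.eq_of_mul_eq_mul_right (Nat.pow_pos Fintype.card_pos) h
      omega
  have key : ∀ {μ : Type} (S : (μ → F) → F) (LQ : (μ → F) ≃ₗ[F] (ι → F)) (LW : (μ → F) ≃ₗ[F] (κ → F)),
      (∀ v, Q (LQ v) = S v) → (∀ v, W (LW v) = S v) →
        ∃ (y : F) (L : (κ → F) ≃ₗ[F] (ι → F)), y ≠ 0 ∧ ∀ v, Q (L v) = y * W v :=
    fun S LQ LW h1 h2 => ⟨1, LW.symm.trans LQ, one_ne_zero, fun v => by
      rw [one_mul, LinearEquiv.trans_apply, h1, ← h2, LinearEquiv.apply_symm_apply]⟩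
  rcases even_count Q hm (by rw [Module.finrank_fintype_fun_eq_card, hι]) hQ a c hac with ⟨⟨LQ, hLQ⟩, eQ⟩ | ⟨⟨LQ, hLQ⟩, eQ⟩ <;>
    rcases even_count W hm (by rw [Module.finrank_fintype_fun_eq_card, hκ]) hW a c hac with ⟨⟨LW, hLW⟩, eW⟩ | ⟨⟨LW, hLW⟩, eW⟩
  · exact key _ LQ LW hLQ hLW
  · exact absurd (eQ.symm.trans (hN.symm.trans eW)) hne
  · exact absurd (eW.symm.trans (hN.trans eQ)) hne
  · exact key _ LQ LW hLQ hLW

/-- Any two nondegenerate forms of the same odd dimension are equivalent up to a scalar. -/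
theorem sim_odd (Q : QuadraticForm F (ι → F)) (W : QuadraticForm F (κ → F)) (hQ : OCount.PND Q) (hW : OCount.PND W)
    {m : ℕ} (hι : Fintype.card ι = 2 * m + 1) (hκ : Fintype.card κ = 2 * m + 1) :
    ∃ (y : F) (L : (κ → F) ≃ₗ[F] (ι → F)), y ≠ 0 ∧ ∀ v, Q (L v) = y * W v := by
  obtain ⟨d, LQ, hd, hLQ⟩ := QuadModels.odd_model Q (m := m) (by rw [Module.finrank_fintype_fun_eq_card, hι])
    (QuadModels.nondegenerate hQ)
  obtain ⟨e, LW, he, hLW⟩ := QuadModels.odd_model W (m := m) (by rw [Module.finrank_fintype_fun_eq_card, hκ])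
    (QuadModels.nondegenerate hW)
  refine ⟨d / e, LW.symm.trans LQ, div_ne_zero hd he, fun v => ?_⟩
  have h := hLW (LW.symm v)
  rw [LinearEquiv.apply_symm_apply] at h
  rw [LinearEquiv.trans_apply, hLQ, h, ← mul_assoc, div_mul_cancel₀ d he]

end models

variable {ι : Type} [Fintype ι] [DecidableEq ι]

/-- An isometry of a similar form gives an isometry. -/
theorem exists_isometry (Q : QuadraticForm F (ι → F)) {κ : Type} [Fintype κ] [DecidableEq κ] (hr : r.Prime)
    (W : (κ → F) → F) (A : Matrix κ κ F) (hA : ∀ v, W (A *ᵥ v) = W v) (hAr : A ^ r = 1) (y : F)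
    (L : (κ → F) ≃ₗ[F] (ι → F)) (hL : ∀ v, Q (L v) = y * W v) :
    ∃ g : ↥(Cfsg.isometryGroup F ⇑Q), g.1.1.charpoly = A.charpoly ∧ g ^ r = 1 := by
  obtain ⟨φ, hφ⟩ : ∃ φ, φ = L.conjAlgEquiv F (Matrix.toLinAlgEquiv' A) := ⟨_, rfl⟩
  obtain ⟨B, hB⟩ : ∃ B, B = LinearMap.toMatrixAlgEquiv' φ := ⟨_, rfl⟩
  have hBφ : Matrix.toLinAlgEquiv' B = φ := by
    rw [hB, Matrix.toLinAlgEquiv'_toMatrixAlgEquiv']
  have hBr : B ^ r = 1 := by rw [hB, hφ, ← map_pow, ← map_pow, ← map_pow, hAr, map_one, map_one, map_one]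
  have hBv : ∀ v, B *ᵥ v = L (A *ᵥ L.symm v) := fun v => by
    rw [← Matrix.toLinAlgEquiv'_apply, hBφ, hφ, LinearEquiv.conjAlgEquiv_apply, LinearMap.comp_apply,
      LinearMap.comp_apply, Matrix.toLinAlgEquiv'_apply]
    rfl
  obtain ⟨U, hU⟩ : ∃ U : GL ι F, U.1 = B := ⟨Units.ofPowEqOne B r hBr hr.ne_zero, rfl⟩
  refine ⟨⟨U, fun u v => ?_⟩, ?_, Subtype.ext (Units.ext ?_)⟩
  · show Q (U.1 *ᵥ u) = Q u
    rw [hU, hBv, hL, hA, ← hL, LinearEquiv.apply_symm_apply]
  · show U.1.charpoly = _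
    rw [hU, ← Matrix.charpoly_toLin', ← Matrix.charpoly_toLin' A,
      show Matrix.toLin' B = φ from hBφ, hφ]
    exact LinearEquiv.charpoly_conj L _
  · rw [SubgroupClass.coe_pow, Units.val_pow_eq_pow_val, hU, hBr]
    rfl

/-! ### Self-dual polynomials -/

variable [Fintype F] {p : ℕ} [Fact p.Prime] [CharP F p] {i : ℕ}

theorem fac_eq (n : ℕ) (M : Multiset (PrimeOrderFactor.factors F r)) :
    PrimeOrderFactor.fac n i M = (X - 1) ^ (n - i * M.card) * PrimeOrderFactor.fac (i * M.card) i M := by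
  rw [PrimeOrderFactor.fac, PrimeOrderFactor.fac, Nat.sub_self, pow_zero, one_mul]

theorem eval_fac (hr : r.Prime) (hrp : r ≠ p) (hi : i = orderOf ((Fintype.card F : ℕ) : ZMod r))
    (M : Multiset (PrimeOrderFactor.factors F r)) :
    (PrimeOrderFactor.fac (i * M.card) i M).eval 1 ≠ 0 ∧
      (r ≠ 2 → (PrimeOrderFactor.fac (i * M.card) i M).eval (-1) ≠ 0) := by
  obtain ⟨hS, -, -⟩ := PrimeOrderFactor.exists_data (K := F) (p := p) hr hrp
  obtain ⟨-, -, -, s, hs⟩ := PrimeOrderFactor.fac_spec (p := p) hr hrp hi (le_refl (i * M.card))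
  have h1 : (PrimeOrderFactor.fac (i * M.card) i M).eval 1 ≠ 0 := by
    intro h
    have hX : (X - C 1 : F[X]) ∣ PrimeOrderFactor.fac (i * M.card) i M := dvd_iff_isRoot.2 h
    rw [PrimeOrderFactor.fac, Nat.sub_self, pow_zero, one_mul] at hX
    obtain ⟨g, hg, hgX⟩ := (irreducible_X_sub_C (1 : F)).prime.exists_mem_multiset_dvd hX
    obtain ⟨f, -, rfl⟩ := Multiset.mem_map.1 hg
    obtain ⟨hm, hirr, -, -, hne, -⟩ := hS f.1 f.2
    refine hne ?_
    rw [← C_1]
    exact (eq_of_monic_of_associated (monic_X_sub_C 1) hm ((irreducible_X_sub_C 1).associated_of_dvd hirr hgX)).symm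
  refine ⟨h1, fun hr2 h => ?_⟩
  have h' := congrArg (eval (-1 : F)) hs
  rw [eval_mul, h, zero_mul, eval_pow, eval_sub, eval_pow, eval_X, eval_one, (hr.odd_of_ne_two hr2).neg_one_pow] at h'
  have h2 : (-1 : F) = 1 := sub_eq_zero.1 (pow_eq_zero_iff'.1 h').1
  rw [h2] at h
  exact h1 h

theorem eval_one_iff (hr : r.Prime) (hrp : r ≠ p) (hi : i = orderOf ((Fintype.card F : ℕ) : ZMod r)) {n : ℕ}
    {M : Multiset (PrimeOrderFactor.factors F r)} (hM : i * M.card ≤ n) :
    (PrimeOrderFactor.fac n i M).eval 1 ≠ 0 ↔ i * M.card = n := by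
  rw [fac_eq, eval_mul, eval_pow, eval_sub, eval_X, eval_one, sub_self]
  constructor
  · intro h
    by_contra hne
    exact h (by rw [zero_pow (by omega), zero_mul])
  · intro h
    rw [h, Nat.sub_self, pow_zero, one_mul, ← h]
    exact (eval_fac (p := p) hr hrp hi M).1

theorem neg_one_pow_iff (hr : r.Prime) (hr2 : r ≠ 2) (hi : i = orderOf ((Fintype.card F : ℕ) : ZMod r)) (hipos : 0 < i) :
    (∃ j : ℕ, (((p ^ 0) * Fintype.card F ^ j : ℕ) : ZMod r) = -1) ↔ ¬ Odd i := by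
  haveI : Fact r.Prime := ⟨hr⟩
  have hq1 : ((Fintype.card F : ℕ) : ZMod r) ^ i = 1 := by rw [hi]; exact pow_orderOf_eq_one _
  constructor
  · rintro ⟨j, hj⟩ hodd
    rw [pow_zero, one_mul, Nat.cast_pow] at hj
    refine one_ne_neg_one hr hr2 ?_
    calc (1 : ZMod r) = (((Fintype.card F : ℕ) : ZMod r) ^ i) ^ j := by rw [hq1, one_pow]
      _ = (-1 : ZMod r) ^ i := by rw [← pow_mul, mul_comm, pow_mul, hj]
      _ = -1 := hodd.neg_one_pow
  · intro hodd
    obtain ⟨u, hu⟩ := Nat.not_odd_iff_even.1 hodd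
    refine ⟨u, ?_⟩
    rw [pow_zero, one_mul, Nat.cast_pow]
    have h1 : (((Fintype.card F : ℕ) : ZMod r) ^ u) ^ 2 = 1 := by rw [← pow_mul, ← hq1]; congr 1; omega
    refine (sq_eq_one_iff.1 h1).resolve_left fun e => ?_
    have h2 := orderOf_dvd_of_pow_eq_one e
    rw [← hi] at h2
    have := Nat.le_of_dvd (by omega) h2
    omega

theorem ord_pos (hr : r.Prime) (hrp : r ≠ p) (hi : i = orderOf ((Fintype.card F : ℕ) : ZMod r)) : 0 < i := by
  obtain ⟨-, -, hSc⟩ := PrimeOrderFactor.exists_data (K := F) (p := p) hr hrp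
  rw [← hi] at hSc
  rcases Nat.eq_zero_or_pos i with h | h
  · rw [h, mul_zero] at hSc
    have := hr.two_le
    omega
  · exact h

/-! ### The classes -/

/-- The characteristic polynomial of an isometry is self-dual. -/
theorem selfdual (Q : QuadraticForm F (ι → F)) (hQ : (polarBilin Q).Nondegenerate) (g : ↥(Cfsg.isometryGroup F ⇑Q)) :
    PrimeOrderFactor.dual (RingHom.id F) g.1.1.charpoly = g.1.1.charpoly := by
  rw [← PrimeOrderFactor.charpoly_inv_dual _ ((Matrix.isUnit_iff_isUnit_det _).1 g.1.isUnit),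
    Matrix.inv_eq_left_inv (OrthogonalSemisimple.adj_isometry hQ g.2), OrthogonalSemisimple.adj,
    Matrix.charpoly_mul_comm, Matrix.mul_nonsing_inv_cancel_left _ _ (OrthogonalSemisimple.gram_det Q hQ),
    Matrix.charpoly_transpose]

/-- The block sum of a fixed point free element and an identity. -/
theorem exists_block (hr : r.Prime) (hr2 : r ≠ 2) (hrp : r ≠ p) (hi : i = orderOf ((Fintype.card F : ℕ) : ZMod r))
    (M : Multiset (PrimeOrderFactor.factors F r))
    (hM : M.map (PrimeOrderFactor.dualS (p := p) hr hrp (RingHom.id F) (fun _ => rfl)) = M) {k : ℕ}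
    (hk : i * M.card = 2 * k) {κ : Type} [Fintype κ] [DecidableEq κ] (W₀ : QuadraticForm F (κ → F))
    (h₀ : OCount.PND W₀) :
    ∃ (W : QuadraticForm F ((Fin k ⊕ Fin k) ⊕ κ → F)) (A : Matrix ((Fin k ⊕ Fin k) ⊕ κ) ((Fin k ⊕ Fin k) ⊕ κ) F),
      OCount.PND W ∧ (∀ v, W (A *ᵥ v) = W v) ∧ A ^ r = 1 ∧
        A.charpoly = PrimeOrderFactor.fac (i * M.card + Fintype.card κ) i M ∧
        Nat.card {v // W v = 1} ≡ Nat.card {z // W₀ z = 1} [MOD r] := by
  obtain ⟨R, hR⟩ : ∃ R, R = PrimeOrderFactor.fac (i * M.card) i M := ⟨_, rfl⟩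
  obtain ⟨hm, hd, -, hdiv⟩ := PrimeOrderFactor.fac_spec (p := p) hr hrp hi (le_refl (i * M.card))
  obtain ⟨he1, he2⟩ := eval_fac (p := p) hr hrp hi M
  have hdual : PrimeOrderFactor.dual (RingHom.id F) R = R := by
    rw [hR, PrimeOrderFactor.dual_fac (p := p) hr hrp (RingHom.id F) (fun _ => rfl), hM]
  rw [← hR] at hm hd hdiv he1 he2
  have hd2 : R.natDegree = 2 * k := hd.trans hk
  obtain ⟨g, hg, hgo⟩ := SymplecticClasses.exists_element p hm hd2 fun j hj => by
    rw [← hd2] at hj ⊢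
    exact PrimeOrderFactor.palindrome hm he1 hdual hj
  have hgN : g.1 ^ orderOf g = 1 := by rw [← SubmonoidClass.coe_pow, pow_orderOf_eq_one, OneMemClass.coe_one]
  have hgr : g.1 ^ r = 1 := PrimeOrderFactor.pow_eq_one_of_charpoly hr _ (by rw [hg]; exact hdiv) hgN hgo
  obtain ⟨W₁, hW₁, hinv⟩ := exists_form g (by rw [hg]; exact he1) (by rw [hg]; exact he2 hr2)
  obtain ⟨W, hW, hWv⟩ := exists_sum W₁ W₀ hW₁ h₀
  have hmul : ∀ v : (Fin k ⊕ Fin k) ⊕ κ → F, Matrix.fromBlocks g.1 0 0 1 *ᵥ v =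
      Sum.elim (g.1 *ᵥ (v ∘ Sum.inl)) (v ∘ Sum.inr) := fun v => by
    rw [Matrix.fromBlocks_mulVec]
    simp
  have hinvW : ∀ v, W (Matrix.fromBlocks g.1 0 0 1 *ᵥ v) = W v := fun v => by
    rw [hmul, hWv, hWv, Sum.elim_comp_inl, Sum.elim_comp_inr, hinv]
  have hAr : Matrix.fromBlocks g.1 0 0 (1 : Matrix κ κ F) ^ r = 1 := by
    rw [Matrix.fromBlocks_diagonal_pow, hgr, one_pow, Matrix.fromBlocks_one]
  refine ⟨W, Matrix.fromBlocks g.1 0 0 1, hW, hinvW, hAr, ?_, ?_⟩
  · rw [Matrix.charpoly_fromBlocks_zero₁₂, hg, Matrix.charpoly_one, hR, fac_eq (n := i * M.card + Fintype.card κ),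
      Nat.add_sub_cancel_left, mul_comm]
  · refine (card_one_modEq hr W _ hinvW hAr).trans (congrArg (· % r) (Nat.card_congr
      { toFun := fun v => ⟨v.1 ∘ Sum.inr, ?_⟩
        invFun := fun z => ⟨Sum.elim 0 z.1, ?_, ?_⟩
        left_inv := fun v => Subtype.ext ?_
        right_inv := fun z => Subtype.ext (Sum.elim_comp_inr (0 : Fin k ⊕ Fin k → F) z.1) }))
    · have h0 : v.1 ∘ Sum.inl = 0 := eq_zero_of_mulVec g.1 (t := 1) (by rw [hg]; exact he1) (by
        have := congrArg (fun w => w ∘ Sum.inl) v.2.2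
        simp only [hmul, Sum.elim_comp_inl] at this
        rw [one_smul]; exact this)
      have h := v.2.1
      rw [hWv, h0, QuadraticMap.map_zero, zero_add] at h
      exact h
    · rw [hWv, Sum.elim_comp_inl, Sum.elim_comp_inr, QuadraticMap.map_zero, zero_add, z.2]
    · rw [hmul, Sum.elim_comp_inl, Sum.elim_comp_inr, Matrix.mulVec_zero]
    · have h0 : v.1 ∘ Sum.inl = 0 := eq_zero_of_mulVec g.1 (t := 1) (by rw [hg]; exact he1) (by
        have := congrArg (fun w => w ∘ Sum.inl) v.2.2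
        simp only [hmul, Sum.elim_comp_inl] at this
        rw [one_smul]; exact this)
      funext x
      rcases x with x | x
      · exact (congrFun h0 x).symm
      · rfl

/-- The degree of the fixed point free part is even. -/
theorem even_degree (hr : r.Prime) (hr2 : r ≠ 2) (hrp : r ≠ p) (hi : i = orderOf ((Fintype.card F : ℕ) : ZMod r))
    (M : Multiset (PrimeOrderFactor.factors F r))
    (hM : M.map (PrimeOrderFactor.dualS (p := p) hr hrp (RingHom.id F) (fun _ => rfl)) = M) :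
    Even (i * M.card) := by
  classical
  rcases Nat.even_or_odd i with h | h
  · exact h.mul_right _
  · refine Even.mul_left (PrimeOrderFactor.even_card_invariant _
      (PrimeOrderFactor.dualS_dualS (p := p) hr hrp (RingHom.id F) (fun _ => rfl)) (fun g e => ?_) hM) i
    exact (neg_one_pow_iff (p := p) hr hr2 hi (ord_pos (p := p) hr hrp hi)).1
      ((PrimeOrderFactor.dual_eq_iff hr hrp (RingHom.id F) 0 (fun x => by rw [pow_zero, pow_one, RingHom.id_apply]) g.2).1
        (congrArg Subtype.val e)) h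

/-- Existence of an element with given self-dual characteristic polynomial. -/
theorem exists_element (Q : QuadraticForm F (ι → F)) (hQ : (polarBilin Q).Nondegenerate)
    (hodd : Odd (Fintype.card ι) → (2 : F) ≠ 0) (hr : r.Prime) (hr2 : r ≠ 2) (hrp : r ≠ p)
    (hi : i = orderOf ((Fintype.card F : ℕ) : ZMod r)) (M : Multiset (PrimeOrderFactor.factors F r))
    (hle : i * M.card ≤ Fintype.card ι)
    (hM : M.map (PrimeOrderFactor.dualS (p := p) hr hrp (RingHom.id F) (fun _ => rfl)) = M)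
    (hfull : i * M.card = Fintype.card ι → r ∣ Nat.card {v // Q v = 1}) :
    ∃ g : ↥(Cfsg.isometryGroup F ⇑Q), g.1.1.charpoly = PrimeOrderFactor.fac (Fintype.card ι) i M ∧ g ^ r = 1 := by
  have hipos := ord_pos (p := p) hr hrp hi
  have hP : OCount.PND Q := fun v h => hQ.1 v h
  have hq0 : ((Fintype.card F : ℕ) : ZMod r) ≠ 0 := cast_ne_zero_of hr (p := p) hrp
  have hq1 : 1 ≤ Fintype.card F := Fintype.card_pos
  obtain ⟨k, hk⟩ := even_degree (p := p) hr hr2 hrp hi M hM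
  rw [← two_mul] at hk
  rcases Nat.eq_zero_or_pos k with rfl | hk0
  · obtain rfl : M = 0 := by
      rw [mul_zero, mul_eq_zero, Multiset.card_eq_zero] at hk
      exact hk.resolve_left (by omega)
    refine ⟨1, ?_, one_pow r⟩
    rw [OneMemClass.coe_one, Units.val_one, Matrix.charpoly_one, PrimeOrderFactor.fac, Multiset.card_zero, mul_zero,
      Nat.sub_zero, Multiset.map_zero, Multiset.prod_zero, mul_one]
  rcases Nat.even_or_odd' (Fintype.card ι) with ⟨m, hm | hm⟩
  · have hm1 : 1 ≤ m := by omega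
    obtain ⟨a, c, hac⟩ := QuadModels.exists_aniso (F := F)
    have hQc := even_count Q hm1 (by rw [Module.finrank_fintype_fun_eq_card, hm]) hP a c hac
    rcases Nat.eq_zero_or_pos (m - k) with h0 | h0
    · have hn : i * M.card = Fintype.card ι := by omega
      obtain ⟨W, A, hW, hinv, hAr, hchar, hcount⟩ := exists_block (p := p) hr hr2 hrp hi M hM hk
        (0 : QuadraticForm F (Empty → F)) OOmega.pnd_empty
      have hz : Nat.card {z : Empty → F // (0 : QuadraticForm F (Empty → F)) z = 1} = 0 :=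
        Nat.card_eq_zero.2 (Or.inl ⟨fun z => zero_ne_one (α := F) z.2⟩)
      rw [hz, Nat.modEq_zero_iff_dvd] at hcount
      have hκ : Fintype.card ((Fin k ⊕ Fin k) ⊕ Empty) = 2 * m := by
        simp only [Fintype.card_sum, Fintype.card_fin, Fintype.card_empty]; omega
      obtain ⟨y, L, -, hL⟩ := sim_even Q W hP hW hm1 hm hκ (by
        rcases even_count W hm1 (by rw [Module.finrank_fintype_fun_eq_card, hκ]) hW a c hac with ⟨-, eW⟩ | ⟨-, eW⟩ <;>
          rcases hQc with ⟨-, eQ⟩ | ⟨-, eQ⟩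
        · rw [eW, eQ]
        · have h1 := eW ▸ hcount
          have h2 := eQ ▸ hfull hn
          exact absurd ((Nat.modEq_zero_iff_dvd.2 h1).trans (Nat.modEq_zero_iff_dvd.2 h2).symm)
            (plus_not_modEq_minus hr hr2 hq1 hq0 m (m - 1))
        · have h1 := eW ▸ hcount
          have h2 := eQ ▸ hfull hn
          exact absurd ((Nat.modEq_zero_iff_dvd.2 h2).trans (Nat.modEq_zero_iff_dvd.2 h1).symm)
            (plus_not_modEq_minus hr hr2 hq1 hq0 m (m - 1))
        · rw [eW, eQ])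
      obtain ⟨g, hg, hgr⟩ := exists_isometry Q hr W A hinv hAr y L hL
      refine ⟨g, ?_, hgr⟩
      rw [hg, hchar, Fintype.card_empty, add_zero, hn]
    · obtain ⟨j, hj⟩ : ∃ j, m - k = j + 1 := ⟨m - k - 1, by omega⟩
      obtain ⟨W₁, hW₁, hW₁'⟩ : ∃ W₁ : QuadraticForm F (Fin (j + 1) ⊕ Fin (j + 1) → F), OCount.PND W₁ ∧
          Nat.card {z // W₁ z = 1} = (Fintype.card F ^ (j + 1) - 1) * Fintype.card F ^ j := by
        refine ⟨_, OOmega.formOf_pnd (m := j + 1) (e := (Equiv.sumEmpty (Fin (j + 1) ⊕ Fin (j + 1)) Empty).symm)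
          (OOmega.pnd_empty (F := F)), ?_⟩
        have h := QuadModels.card_one_plus (F := F) (j + 1)
        rw [← OOmega.coe_plus, Nat.add_sub_cancel] at h
        exact h
      obtain ⟨W₂, hW₂, hW₂'⟩ : ∃ W₂ : QuadraticForm F ((Fin j ⊕ Fin j) ⊕ Fin 2 → F), OCount.PND W₂ ∧
          Nat.card {z // W₂ z = 1} = (Fintype.card F ^ (j + 1) + 1) * Fintype.card F ^ j := by
        refine ⟨_, OOmega.formOf_pnd (m := j) (e := Equiv.refl ((Fin j ⊕ Fin j) ⊕ Fin 2)) (OOmega.pnd_plane hac), ?_⟩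
        have h := QuadModels.card_one_minus j a c hac
        rw [← OOmega.coe_minus j a c] at h
        exact h
      obtain ⟨U, A, hU, hinv, hAr, hchar, hcount⟩ := exists_block (p := p) hr hr2 hrp hi M hM hk W₁ hW₁
      obtain ⟨U', A', hU', hinv', hAr', hchar', hcount'⟩ := exists_block (p := p) hr hr2 hrp hi M hM hk W₂ hW₂
      rw [hW₁'] at hcount
      rw [hW₂'] at hcount'
      have hκ : Fintype.card ((Fin k ⊕ Fin k) ⊕ (Fin (j + 1) ⊕ Fin (j + 1))) = 2 * m := by
        simp only [Fintype.card_sum, Fintype.card_fin]; omega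
      have hκ' : Fintype.card ((Fin k ⊕ Fin k) ⊕ ((Fin j ⊕ Fin j) ⊕ Fin 2)) = 2 * m := by
        simp only [Fintype.card_sum, Fintype.card_fin]; omega
      have hne : Nat.card {v // U v = 1} ≠ Nat.card {v // U' v = 1} := fun e => by
        rw [e] at hcount
        exact plus_not_modEq_minus hr hr2 hq1 hq0 (j + 1) j (hcount.symm.trans hcount')
      have hor : Nat.card {v // U v = 1} = Nat.card {v // Q v = 1} ∨ Nat.card {v // U' v = 1} = Nat.card {v // Q v = 1} := by
        rcases even_count U hm1 (by rw [Module.finrank_fintype_fun_eq_card, hκ]) hU a c hac with ⟨-, eU⟩ | ⟨-, eU⟩ <;>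
          rcases even_count U' hm1 (by rw [Module.finrank_fintype_fun_eq_card, hκ']) hU' a c hac with ⟨-, eU'⟩ | ⟨-, eU'⟩ <;>
            rcases hQc with ⟨-, eQ⟩ | ⟨-, eQ⟩ <;>
              rw [eU, eU'] at hne ⊢ <;> rw [eQ] <;> omega
      rcases hor with h | h
      · obtain ⟨y, L, -, hL⟩ := sim_even Q U hP hU hm1 hm hκ h
        obtain ⟨g, hg, hgr⟩ := exists_isometry Q hr U A hinv hAr y L hL
        refine ⟨g, ?_, hgr⟩
        rw [hg, hchar]
        congr 1
        simp only [Fintype.card_sum, Fintype.card_fin]; omega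
      · obtain ⟨y, L, -, hL⟩ := sim_even Q U' hP hU' hm1 hm hκ' h
        obtain ⟨g, hg, hgr⟩ := exists_isometry Q hr U' A' hinv' hAr' y L hL
        refine ⟨g, ?_, hgr⟩
        rw [hg, hchar']
        congr 1
        simp only [Fintype.card_sum, Fintype.card_fin]; omega
  · obtain ⟨j, hj⟩ : ∃ j, m = k + j := ⟨m - k, by omega⟩
    obtain ⟨W, A, hW, hinv, hAr, hchar, -⟩ := exists_block (p := p) hr hr2 hrp hi M hM hk
      (OOmega.formOf j (Equiv.sumComm Unit (Fin j ⊕ Fin j)) (OCount.lineForm F))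
      (OOmega.formOf_pnd (OOmega.pnd_line (hodd ⟨m, hm⟩)))
    have hκ : Fintype.card ((Fin k ⊕ Fin k) ⊕ (Unit ⊕ (Fin j ⊕ Fin j))) = 2 * m + 1 := by
      simp only [Fintype.card_sum, Fintype.card_fin, Fintype.card_unit]; omega
    obtain ⟨y, L, -, hL⟩ := sim_odd Q W hP hW hm hκ
    obtain ⟨g, hg, hgr⟩ := exists_isometry Q hr W A hinv hAr y L hL
    refine ⟨g, ?_, hgr⟩
    rw [hg, hchar]
    congr 1
    simp only [Fintype.card_sum, Fintype.card_fin, Fintype.card_unit]; omega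

/-- Classes of elements of order `r`. -/
theorem card_classes (Q : QuadraticForm F (ι → F)) (hQ : (polarBilin Q).Nondegenerate)
    (hodd : Odd (Fintype.card ι) → (2 : F) ≠ 0) (hr : r.Prime) (hr2 : r ≠ 2) (hrp : r ≠ p)
    (hi : i = orderOf ((Fintype.card F : ℕ) : ZMod r)) :
    Nat.card {C : ConjClasses ↥(Cfsg.isometryGroup F ⇑Q) // ∃ g, ConjClasses.mk g = C ∧ orderOf g = r} =
      Nat.card {M : Multiset (PrimeOrderFactor.factors F r) // M.card ≤ Fintype.card ι / i ∧
        M.map (PrimeOrderFactor.dualS (p := p) hr hrp (RingHom.id F) (fun _ => rfl)) = M ∧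
        (i * M.card = Fintype.card ι → r ∣ Nat.card {v // Q v = 1})} - 1 := by
  haveI : Fact r.Prime := ⟨hr⟩
  have hcop : r.Coprime p := (Nat.coprime_primes hr (Fact.out : p.Prime)).2 hrp
  obtain ⟨e⟩ : Nonempty (ι ≃ Fin (Fintype.card ι)) := ⟨Fintype.equivFin ι⟩
  let ψ : ↥(Cfsg.isometryGroup F ⇑Q) →* GL (Fin (Fintype.card ι)) F :=
    ((Matrix.reindexAlgEquiv F F e).toMonoidHom.comp
      ((Units.coeHom (Matrix ι ι F)).comp (Cfsg.isometryGroup F ⇑Q).subtype)).toHomUnits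
  have hψv : ∀ x, (ψ x).1 = Matrix.reindexAlgEquiv F F e x.1.1 := fun x => rfl
  have hψ : Function.Injective ψ := fun x y hxy =>
    Subtype.ext (Units.ext ((Matrix.reindexAlgEquiv F F e).injective (by rw [← hψv, ← hψv, hxy])))
  rw [PrimeOrderFactor.card_classes' (p := p) ((Units.coeHom (Matrix ι ι F)).comp (Cfsg.isometryGroup F ⇑Q).subtype)
    (fun a b h => Subtype.ext (Units.ext h))
    (fun P => PrimeOrderFactor.dual (RingHom.id F) P = P ∧ (P.eval 1 ≠ 0 → r ∣ Nat.card {v // Q v = 1}))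
    (fun g h hc => by
      obtain ⟨c, rfl⟩ := isConj_iff.1 hc
      rw [map_mul, map_mul, Matrix.charpoly_mul_comm, ← Matrix.mul_assoc, ← map_mul, inv_mul_cancel, map_one,
        Matrix.one_mul])
    hr hrp ?_ ?_ ?_ hi]
  · refine congrArg (· - 1) (Nat.card_congr (Equiv.subtypeEquivRight fun M => and_congr_right fun hM => ?_))
    have hle : i * M.card ≤ Fintype.card ι := (Nat.mul_le_mul_left i hM).trans (Nat.mul_div_le _ i)
    refine and_congr ?_ (imp_congr_left (eval_one_iff (p := p) hr hrp hi hle))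
    rw [PrimeOrderFactor.dual_fac (p := p) hr hrp (RingHom.id F) (fun _ => rfl)]
    exact ⟨fun e => PrimeOrderFactor.fac_injective (p := p) hr hrp hi (by rwa [Multiset.card_map]) hle e,
      fun e => by rw [e]⟩
  · intro g h hg hh hc
    have hcopg : (orderOf g).Coprime p := Nat.Coprime.coprime_dvd_left (orderOf_dvd_of_pow_eq_one hg) hcop
    have hcoph : (orderOf h).Coprime p := Nat.Coprime.coprime_dvd_left (orderOf_dvd_of_pow_eq_one hh) hcop
    have hoddg : Odd (orderOf g) := (hr.odd_of_ne_two hr2).of_dvd_nat (orderOf_dvd_of_pow_eq_one hg)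
    obtain ⟨c, hcc⟩ := isConj_iff.1 (Semisimple.isConj_of_charpoly p (ψ g) (ψ h)
      (by rw [orderOf_injective ψ hψ]; exact hcopg) (by rw [orderOf_injective ψ hψ]; exact hcoph)
      (by rw [hψv, hψv, Matrix.coe_reindexAlgEquiv, Matrix.charpoly_reindex, Matrix.charpoly_reindex]; exact hc))
    rw [mul_inv_eq_iff_eq_mul] at hcc
    have hcc' := congrArg (fun X : GL (Fin (Fintype.card ι)) F => (Matrix.reindexAlgEquiv F F e).symm X.1) hcc
    simp only [Units.val_mul, hψv, map_mul, AlgEquiv.symm_apply_apply] at hcc'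
    exact OrthogonalSemisimple.conj_of_similar hQ p g h hcopg hoddg _
      ((Matrix.isUnit_iff_isUnit_det _).1 (c.isUnit.map (Matrix.reindexAlgEquiv F F e).symm)) hcc'
  · intro g hg
    refine ⟨selfdual Q hQ g, fun h1 => ?_⟩
    rw [← Nat.modEq_zero_iff_dvd]
    refine (card_one_modEq hr ⇑Q g.1.1 (fun v => g.2 v v) ?_).trans (congrArg (· % r) ?_)
    · rw [← Units.val_pow_eq_pow_val, ← SubgroupClass.coe_pow, hg, OneMemClass.coe_one, Units.val_one]
    · refine Nat.card_eq_zero.2 (Or.inl ⟨fun v => ?_⟩)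
      have h0 := eq_zero_of_mulVec g.1.1 (t := 1) h1 (v.2.2.trans (one_smul F v.1).symm)
      have := v.2.1
      rw [h0, QuadraticMap.map_zero] at this
      exact zero_ne_one this
  · intro P hP hd hdvd hgood
    obtain ⟨M, hM, hMP⟩ := PrimeOrderFactor.exists_fac (p := p) hr hrp hi hP hd fun f hf hfd =>
      hf.prime.dvd_of_dvd_pow (hfd.trans hdvd)
    have hinv : M.map (PrimeOrderFactor.dualS (p := p) hr hrp (RingHom.id F) (fun _ => rfl)) = M :=
      PrimeOrderFactor.fac_injective (p := p) hr hrp hi (by rwa [Multiset.card_map]) hM (by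
        rw [← PrimeOrderFactor.dual_fac (p := p) hr hrp (RingHom.id F) (fun _ => rfl), hMP, hgood.1])
    obtain ⟨g, hg, hgr⟩ := exists_element (p := p) Q hQ hodd hr hr2 hrp hi M hM hinv fun h =>
      hgood.2 (hMP ▸ (eval_one_iff (p := p) hr hrp hi hM).2 h)
    exact ⟨g, hg.trans hMP, Nat.Coprime.coprime_dvd_left (orderOf_dvd_of_pow_eq_one hgr) hcop⟩

/-! ### Closed formulas -/

/-- The number of invariant multisets subject to a condition on the full ones. -/
theorem count_cond {S : Type*} (Inv : Multiset S → Prop) (c : Prop) [Decidable c] {n : ℕ} (hn : 0 < n) (hipos : 0 < i) :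
    Nat.card {M : Multiset S // M.card ≤ n / i ∧ Inv M ∧ (i * M.card = n → c)} =
      if i ∣ n ∧ ¬ c then Nat.card {M : Multiset S // M.card ≤ n / i - 1 ∧ Inv M}
      else Nat.card {M : Multiset S // M.card ≤ n / i ∧ Inv M} := by
  split_ifs with h
  · obtain ⟨⟨e, rfl⟩, hc⟩ := h
    rw [Nat.mul_div_cancel_left _ hipos]
    have he : 0 < e := Nat.pos_of_mul_pos_left hn
    refine Nat.card_congr (Equiv.subtypeEquivRight fun M => ?_)
    constructor
    · rintro ⟨h1, h2, h3⟩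
      have : M.card ≠ e := fun e' => hc (h3 (by rw [e']))
      exact ⟨by omega, h2⟩
    · rintro ⟨h1, h2⟩
      refine ⟨by omega, h2, fun e' => absurd (Nat.eq_of_mul_eq_mul_left hipos e') (by omega)⟩
  · refine Nat.card_congr (Equiv.subtypeEquivRight fun M => ?_)
    refine and_congr_right fun _ => and_iff_left_of_imp fun _ e => ?_
    by_contra hc
    exact h ⟨⟨_, e.symm⟩, hc⟩

/-- The number of invariant multisets. -/
theorem count_formula (hr : r.Prime) (hr2 : r ≠ 2) (hrp : r ≠ p) (hi : i = orderOf ((Fintype.card F : ℕ) : ZMod r))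
    {t : ℕ} (ht : t * i = r - 1) (N : ℕ) :
    Nat.card {M : Multiset (PrimeOrderFactor.factors F r) // M.card ≤ N ∧
        M.map (PrimeOrderFactor.dualS (p := p) hr hrp (RingHom.id F) (fun _ => rfl)) = M} =
      if Odd i then (N / 2 + t / 2).choose (t / 2) else (N + t).choose t := by
  classical
  have hipos := ord_pos (p := p) hr hrp hi
  obtain ⟨-, -, hSc⟩ := PrimeOrderFactor.exists_data (K := F) (p := p) hr hrp
  rw [← hi] at hSc
  have hcard : (PrimeOrderFactor.factors F r).card = t := Nat.eq_of_mul_eq_mul_right hipos (hSc.trans ht.symm)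
  obtain ⟨hyes, hno⟩ := PrimeOrderFactor.card_dual_invariant (K := F) (p := p) hr hrp (RingHom.id F) 0
    (fun x => by rw [pow_zero, pow_one, RingHom.id_apply]) (fun _ => rfl) N
  rw [← hcard]
  by_cases h : Odd i
  · rw [if_pos h]
    exact hno fun e => (neg_one_pow_iff (p := p) hr hr2 hi hipos).1 e h
  · rw [if_neg h]
    exact hyes ((neg_one_pow_iff (p := p) hr hr2 hi hipos).2 h)

/-- The class count in terms of binomial coefficients. -/
theorem card_classes_eq (Q : QuadraticForm F (ι → F)) (hQ : (polarBilin Q).Nondegenerate)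
    (hodd : Odd (Fintype.card ι) → (2 : F) ≠ 0) (hr : r.Prime) (hr2 : r ≠ 2) (hrp : r ≠ p)
    (hi : i = orderOf ((Fintype.card F : ℕ) : ZMod r)) (hn : 0 < Fintype.card ι) {t : ℕ} (ht : t * i = r - 1)
    {N : ℕ} (hN : N = if i ∣ Fintype.card ι ∧ ¬ r ∣ Nat.card {v // Q v = 1} then Fintype.card ι / i - 1
      else Fintype.card ι / i) :
    Nat.card {C : ConjClasses ↥(Cfsg.isometryGroup F ⇑Q) // ∃ g, ConjClasses.mk g = C ∧ orderOf g = r} =
      (if Odd i then (N / 2 + t / 2).choose (t / 2) else (N + t).choose t) - 1 := by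
  rw [card_classes (p := p) Q hQ hodd hr hr2 hrp hi,
    count_cond (fun M => M.map (PrimeOrderFactor.dualS (p := p) hr hrp (RingHom.id F) (fun _ => rfl)) = M)
      (r ∣ Nat.card {v // Q v = 1}) hn (ord_pos (p := p) hr hrp hi)]
  split_ifs at hN ⊢ with h <;> rw [hN, count_formula (p := p) hr hr2 hrp hi ht] <;>
    first | rw [if_pos (by assumption)] | rw [if_neg (by assumption)]

/-- Powers of `q` for even multiplicative order. -/
theorem pow_of_even (hr : r.Prime) {q m : ℕ} (hi : i = orderOf (q : ZMod r)) (hev : ¬ Odd i) (hipos : 0 < i)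
    (hdvd : i ∣ 2 * m) : (q : ZMod r) ^ m = (-1) ^ (2 * m / i) := by
  haveI : Fact r.Prime := ⟨hr⟩
  obtain ⟨u, hu⟩ := Nat.not_odd_iff_even.1 hev
  obtain ⟨e, he⟩ := hdvd
  have h1 : ((q : ZMod r) ^ u) ^ 2 = 1 := by
    rw [← pow_mul, show u * 2 = i by omega, hi]; exact pow_orderOf_eq_one _
  have h2 : (q : ZMod r) ^ u = -1 := (sq_eq_one_iff.1 h1).resolve_left fun e' => by
    have h3 := orderOf_dvd_of_pow_eq_one e'
    rw [← hi] at h3
    have := Nat.le_of_dvd (by omega) h3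
    omega
  have he' : m = u * e := by
    refine Nat.eq_of_mul_eq_mul_left two_pos ?_
    rw [he, hu]; ring
  rw [he, Nat.mul_div_cancel_left _ hipos, he', pow_mul, h2]

theorem pascal_sub {e t : ℕ} (he : 0 < e) (ht : 0 < t) :
    (e - 1 + t).choose t - 1 = (e + t).choose t - 1 - (e + t - 1).choose (t - 1) := by
  obtain ⟨a, rfl⟩ : ∃ a, e = a + 1 := ⟨e - 1, by omega⟩
  obtain ⟨b, rfl⟩ : ∃ b, t = b + 1 := ⟨t - 1, by omega⟩
  rw [Nat.add_sub_cancel, Nat.add_sub_cancel, show a + 1 + (b + 1) = (a + b + 1) + 1 by omega, Nat.add_sub_cancel,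
    Nat.choose_succ_succ' (a + b + 1) b, show a + (b + 1) = a + b + 1 by omega]
  omega

end Cfsg.Agent.Small.OrthogonalPrimeClasses
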