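import Cfsg.Agent.Lib.Small.NilpotentCommutantGroups
import Cfsg.Agent.Lib.Small.FieldMatrix

/-!
# Adjacency in the prime graph of `PSL_n(q)`
-/

set_option autoImplicit false
set_option linter.unusedSectionVars false

namespace Cfsg.Agent.Small.PSLPrimeGraph

open Matrix Module Cfsg.Agent.Small.NilCommutant

section General

variable {L : Type*} [Group L] [Finite L] {Z : Subgroup L} [Z.Normal]

theorem orderOf_mk_of_coprime (x : L) (h : (orderOf x).Coprime (Nat.card Z)) :
    orderOf (x : L ⧸ Z) = orderOf x := by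
  refine Nat.dvd_antisymm (orderOf_map_dvd (QuotientGroup.mk' Z) x) (orderOf_dvd_of_pow_eq_one ?_)
  have hm : x ^ orderOf (x : L ⧸ Z) ∈ Z := by
    rw [← QuotientGroup.eq_one_iff, QuotientGroup.mk_pow, pow_orderOf_eq_one]
  refine orderOf_eq_one_iff.1 (Nat.dvd_one.1 ?_)
  rw [← h]
  exact Nat.dvd_gcd (orderOf_dvd_of_pow_eq_one (by rw [← pow_mul, mul_comm, pow_mul, pow_orderOf_eq_one, one_pow]))
    (Subgroup.orderOf_dvd_natCard Z hm)

theorem orderOf_mk_mul {r s : ℕ} (hr : r.Prime) (hs : s.Prime) (hrs : r ≠ s) (x y : L) (h : Commute x y)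
    (hx : x ∉ Z) (hxr : x ^ r ∈ Z) (hy : y ∉ Z) (hys : y ^ s ∈ Z) :
    orderOf ((x * y : L) : L ⧸ Z) = r * s := by
  have key : ∀ (t : ℕ), t.Prime → ∀ z : L, z ∉ Z → z ^ t ∈ Z → orderOf (z : L ⧸ Z) = t := fun t ht z hz hzt => by
    haveI : Fact t.Prime := ⟨ht⟩
    refine orderOf_eq_prime ?_ fun h1 => hz ((QuotientGroup.eq_one_iff z).1 h1)
    rw [← QuotientGroup.mk_pow, QuotientGroup.eq_one_iff]
    exact hzt
  rw [QuotientGroup.mk_mul]
  show orderOf (QuotientGroup.mk' Z x * QuotientGroup.mk' Z y) = r * s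
  rw [(h.map (QuotientGroup.mk' Z)).orderOf_mul_eq_mul_orderOf_of_coprime]
  · show orderOf (x : L ⧸ Z) * orderOf (y : L ⧸ Z) = r * s
    rw [key r hr x hx hxr, key s hs y hy hys]
  · show (orderOf (x : L ⧸ Z)).Coprime (orderOf (y : L ⧸ Z))
    rw [key r hr x hx hxr, key s hs y hy hys]
    exact (Nat.coprime_primes hr hs).2 hrs

omit [Finite L] in
theorem exists_pair {r s : ℕ} (g : L ⧸ Z) (hg : orderOf g = r * s) (hr : r.Prime) (hs : s.Prime) :
    ∃ a b : L ⧸ Z, orderOf a = r ∧ orderOf b = s ∧ Commute a b := by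
  refine ⟨g ^ s, g ^ r, ?_, ?_, (Commute.refl g).pow_pow _ _⟩
  · rw [orderOf_pow' g hs.ne_zero, hg, Nat.gcd_eq_right (dvd_mul_left s r), Nat.mul_div_cancel _ hs.pos]
  · rw [orderOf_pow' g hr.ne_zero, hg, Nat.gcd_eq_right (dvd_mul_right r s), Nat.mul_div_cancel_left _ hr.pos]

end General

variable {F : Type*} [Field F]

/-- The block diagonal embedding. -/
noncomputable def blockHom {a b n : ℕ} (h : a + b = n) :
    Matrix.SpecialLinearGroup (Fin a) F × Matrix.SpecialLinearGroup (Fin b) F →*
      Matrix.SpecialLinearGroup (Fin n) F where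
  toFun x := ⟨Matrix.reindexAlgEquiv F F (finSumFinEquiv.trans (finCongr h))
      (Matrix.fromBlocks (x.1 : Matrix (Fin a) (Fin a) F) 0 0 (x.2 : Matrix (Fin b) (Fin b) F)), by
    rw [Matrix.det_reindexAlgEquiv, Matrix.det_fromBlocks_zero₂₁, x.1.2, x.2.2, one_mul]⟩
  map_one' := Subtype.ext (by
    show Matrix.reindexAlgEquiv F F _ (Matrix.fromBlocks 1 0 0 1) = 1
    rw [Matrix.fromBlocks_one, map_one])
  map_mul' x y := Subtype.ext (by
    show Matrix.reindexAlgEquiv F F _ _ = Matrix.reindexAlgEquiv F F _ _ * Matrix.reindexAlgEquiv F F _ _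
    rw [← map_mul, Matrix.fromBlocks_multiply]
    simp)

theorem blockHom_injective {a b n : ℕ} (h : a + b = n) :
    Function.Injective (blockHom (F := F) h) := by
  intro x y hxy
  have h1 := (Matrix.reindexAlgEquiv F F (finSumFinEquiv.trans (finCongr h))).injective
    (congrArg Subtype.val hxy)
  obtain ⟨e1, -, -, e2⟩ := Matrix.fromBlocks_inj.1 h1
  exact Prod.ext (Subtype.ext e1) (Subtype.ext e2)

theorem mem_center_block {a b n : ℕ} (h : a + b = n) (x : Matrix.SpecialLinearGroup (Fin a) F)
    (y : Matrix.SpecialLinearGroup (Fin b) F)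
    (hc : blockHom h (x, y) ∈ Subgroup.center (Matrix.SpecialLinearGroup (Fin n) F)) :
    ∃ c : F, (x : Matrix (Fin a) (Fin a) F) = c • (1 : Matrix (Fin a) (Fin a) F) ∧
      (y : Matrix (Fin b) (Fin b) F) = c • (1 : Matrix (Fin b) (Fin b) F) := by
  obtain ⟨c, -, hc⟩ := Matrix.SpecialLinearGroup.mem_center_iff.1 hc
  refine ⟨c, ?_⟩
  have h1 : Matrix.fromBlocks (x : Matrix (Fin a) (Fin a) F) 0 0 (y : Matrix (Fin b) (Fin b) F)
      = c • (1 : Matrix (Fin a ⊕ Fin b) (Fin a ⊕ Fin b) F) := by
    refine (Matrix.reindexAlgEquiv F F (finSumFinEquiv.trans (finCongr h))).injective ?_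
    rw [map_smul, map_one, Matrix.smul_one_eq_diagonal]
    exact hc.symm
  rw [← Matrix.fromBlocks_one, Matrix.fromBlocks_smul] at h1
  obtain ⟨e1, -, -, e2⟩ := Matrix.fromBlocks_inj.1 h1
  exact ⟨e1, e2⟩

section Finite

variable [Fintype F]

theorem orderOf_ord_pos {r : ℕ} [Fact r.Prime] (hq : (Fintype.card F : ZMod r) ≠ 0) :
    0 < orderOf (Fintype.card F : ZMod r) :=
  orderOf_pos_iff.2 (isOfFinOrder_iff_pow_eq_one.2
    ⟨r - 1, by have := (Fact.out : r.Prime).two_le; omega, ZMod.pow_card_sub_one_eq_one hq⟩)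

theorem ord_eq_one_iff {r : ℕ} [Fact r.Prime] :
    orderOf (Fintype.card F : ZMod r) = 1 ↔ r ∣ Fintype.card F - 1 := by
  rw [orderOf_eq_one_iff, ← Nat.modEq_iff_dvd' Fintype.card_pos, ← ZMod.natCast_eq_natCast_iff, Nat.cast_one,
    eq_comm]

theorem ne_zero_of_ne_char {p r : ℕ} [Fact p.Prime] [CharP F p] [Fact r.Prime] (hrp : r ≠ p) :
    (Fintype.card F : ZMod r) ≠ 0 := by
  intro h0
  obtain ⟨e, he⟩ := FiniteField.card F p
  rw [ZMod.natCast_eq_zero_iff, he.2] at h0
  exact hrp ((Nat.prime_dvd_prime_iff_eq Fact.out Fact.out).1 ((Fact.out : r.Prime).dvd_of_dvd_pow h0))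

theorem center_dvd (n : ℕ) :
    Nat.card (Subgroup.center (Matrix.SpecialLinearGroup (Fin n) F)) ∣ Fintype.card F - 1 := by
  rw [Nat.card_congr (Matrix.SpecialLinearGroup.center_equiv_rootsOfUnity).toEquiv]
  have := Subgroup.card_subgroup_dvd_card (rootsOfUnity (max (Fintype.card (Fin n)) 1) F)
  rwa [Nat.card_units, Nat.card_eq_fintype_card (α := F)] at this

/-- Elements of order prime to `q - 1` dividing `q^d - 1`. -/
theorem exists_order {m d t : ℕ} (hd : 1 ≤ d) (hdm : d ≤ m) (ht : t ∣ Fintype.card F ^ d - 1)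
    (hco : t.Coprime (Fintype.card F - 1)) :
    ∃ x : Matrix.SpecialLinearGroup (Fin m) F, orderOf x = t := by
  classical
  obtain ⟨s, hs⟩ := exists_singer (F := F) d hd
  rw [Nat.card_eq_fintype_card] at hs
  obtain ⟨u, hu⟩ : ∃ u, u = s ^ (orderOf s / t) := ⟨_, rfl⟩
  have hut : orderOf u = t := hu ▸ orderOf_pow_orderOf_div (orderOf_pos s).ne' (hs ▸ ht)
  have hdet : Matrix.GeneralLinearGroup.det u = 1 := by
    rw [← orderOf_eq_one_iff, ← Nat.dvd_one, ← hco]
    refine Nat.dvd_gcd (hut ▸ orderOf_map_dvd _ u) ?_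
    have := _root_.orderOf_dvd_natCard (Matrix.GeneralLinearGroup.det u)
    rwa [Nat.card_units, Nat.card_eq_fintype_card (α := F)] at this
  let v : Matrix.SpecialLinearGroup (Fin d) F := ⟨(u : Matrix (Fin d) (Fin d) F), by
    rw [← Matrix.GeneralLinearGroup.val_det_apply, hdet, Units.val_one]⟩
  have hv : orderOf v = t := by
    rw [← orderOf_injective Matrix.SpecialLinearGroup.toGL (fun a b h => Subtype.ext (congrArg Units.val h)) v,
      ← hut]
    exact congrArg orderOf (Units.ext rfl)
  refine ⟨blockHom (Nat.add_sub_cancel' hdm) (v, 1), ?_⟩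
  rw [orderOf_injective _ (blockHom_injective _), Prod.orderOf, hv, orderOf_one, Nat.lcm_one_right]

theorem ord_le_of_dvd {r : ℕ} [Fact r.Prime] {n : ℕ} (hn : 0 < n) (hq : (Fintype.card F : ZMod r) ≠ 0)
    (h : r ∣ Nat.card (Matrix.ProjectiveSpecialLinearGroup (Fin n) F)) :
    orderOf (Fintype.card F : ZMod r) ≤ n := by
  have h1 : r ∣ Nat.card (Matrix.SpecialLinearGroup (Fin n) F) :=
    h.trans (Subgroup.card_dvd_of_surjective (QuotientGroup.mk' _) (QuotientGroup.mk'_surjective _))
  have h2 := h1.trans (dvd_mul_right _ (Fintype.card F - 1))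
  rw [card_SL_mul hn] at h2
  obtain ⟨i, -, hi⟩ := (Prime.dvd_finsetProd_iff (Fact.out : r.Prime).prime _).1 h2
  rw [show Fintype.card F ^ n - Fintype.card F ^ (i : ℕ) =
      Fintype.card F ^ (i : ℕ) * (Fintype.card F ^ (n - i) - 1) by
    rw [Nat.mul_sub, ← pow_add, mul_one, Nat.add_sub_cancel' i.2.le]] at hi
  rcases (Fact.out : r.Prime).dvd_mul.1 hi with h3 | h3
  · exact absurd ((ZMod.natCast_eq_zero_iff _ _).2 ((Fact.out : r.Prime).dvd_of_dvd_pow h3)) hq
  · refine (Nat.le_of_dvd (by omega) (orderOf_dvd_of_pow_eq_one (x := (Fintype.card F : ZMod r)) (n := n - i) ?_)).trans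
      (Nat.sub_le _ _)
    rw [← sub_eq_zero, ← Nat.cast_pow, ← Nat.cast_one, ← Nat.cast_sub (Nat.one_le_pow _ _ Fintype.card_pos),
      ZMod.natCast_eq_zero_iff]
    exact h3

theorem dvd_pow_sub_one {r d : ℕ} [Fact r.Prime] (hd : orderOf (Fintype.card F : ZMod r) ∣ d) :
    r ∣ Fintype.card F ^ d - 1 := by
  rw [← ZMod.natCast_eq_zero_iff, Nat.cast_sub (Nat.one_le_pow _ _ Fintype.card_pos), Nat.cast_pow, Nat.cast_one,
    sub_eq_zero, orderOf_dvd_iff_pow_eq_one.1 hd]

/-- Two odd primes different from the characteristic. -/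
theorem adjacent_iff (p : ℕ) [Fact p.Prime] [CharP F p] (n : ℕ) (hn : 2 ≤ n)
    (r s : ℕ) (hr : r.Prime) (hs : s.Prime) (hrp : r ≠ p) (hsp : s ≠ p) (hrs : r ≠ s)
    (hrG : r ∣ Nat.card (Matrix.ProjectiveSpecialLinearGroup (Fin n) F))
    (hsG : s ∣ Nat.card (Matrix.ProjectiveSpecialLinearGroup (Fin n) F))
    (k l : ℕ) (hk : k = orderOf ((Fintype.card F : ℕ) : ZMod r)) (hl : l = orderOf ((Fintype.card F : ℕ) : ZMod s))
    (h2k : 2 ≤ k) (hkl : k ≤ l) :
    (r * s ∉ Set.range (orderOf : Matrix.ProjectiveSpecialLinearGroup (Fin n) F → ℕ)) ↔ (n < k + l ∧ ¬ k ∣ l) := by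
  classical
  haveI : Fact r.Prime := ⟨hr⟩
  haveI : Fact s.Prime := ⟨hs⟩
  have hq1 := ne_zero_of_ne_char (F := F) (p := p) hrp
  have hq2 := ne_zero_of_ne_char (F := F) (p := p) hsp
  have hkn : k ≤ n := hk ▸ ord_le_of_dvd (by omega) hq1 hrG
  have hln : l ≤ n := hl ▸ ord_le_of_dvd (by omega) hq2 hsG
  have hr1 : ¬ r ∣ Fintype.card F - 1 := fun h => by
    have := ord_eq_one_iff.2 h; omega
  have hs1 : ¬ s ∣ Fintype.card F - 1 := fun h => by
    have := ord_eq_one_iff.2 h; omega
  have hcoq : (r * s).Coprime (Fintype.card F - 1) :=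
    Nat.Coprime.mul_left (hr.coprime_iff_not_dvd.2 hr1) (hs.coprime_iff_not_dvd.2 hs1)
  have hco : ∀ x : Matrix.SpecialLinearGroup (Fin n) F, orderOf x = r * s →
      r * s ∈ Set.range (orderOf : Matrix.ProjectiveSpecialLinearGroup (Fin n) F → ℕ) := fun x hx =>
    ⟨(x : Matrix.ProjectiveSpecialLinearGroup (Fin n) F),
      (orderOf_mk_of_coprime x (by rw [hx]; exact hcoq.coprime_dvd_right (center_dvd n))).trans hx⟩
  constructor
  · intro hno
    refine ⟨?_, fun hdvd => hno ?_⟩
    · by_contra hle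
      refine hno ?_
      obtain ⟨x, hx⟩ := exists_order (F := F) (m := k) (d := k) (t := r) (by omega) le_rfl
        (dvd_pow_sub_one (hk ▸ dvd_rfl)) (hr.coprime_iff_not_dvd.2 hr1)
      obtain ⟨y, hy⟩ := exists_order (F := F) (m := n - k) (d := l) (t := s) (by omega) (by omega)
        (dvd_pow_sub_one (hl ▸ dvd_rfl)) (hs.coprime_iff_not_dvd.2 hs1)
      refine hco (blockHom (Nat.add_sub_cancel' hkn) (x, y)) ?_
      rw [orderOf_injective _ (blockHom_injective _), Prod.orderOf, hx, hy]
      exact ((Nat.coprime_primes hr hs).2 hrs).lcm_eq_mul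
    · obtain ⟨x, hx⟩ := exists_order (F := F) (m := n) (d := l) (t := r * s) (by omega) hln
        (((Nat.coprime_primes hr hs).2 hrs).mul_dvd_of_dvd_of_dvd (dvd_pow_sub_one (hk ▸ hdvd))
          (dvd_pow_sub_one (hl ▸ dvd_rfl))) hcoq
      exact hco x hx
  rintro ⟨hnkl, hndvd⟩ ⟨g, hg⟩
  obtain ⟨a, b, ha, hb, hab⟩ := exists_pair g hg hr hs
  have hZs : ¬ s ∣ Nat.card (Subgroup.center (Matrix.SpecialLinearGroup (Fin n) F)) :=
    fun h => hs1 (h.trans (center_dvd n))
  have hZr : ¬ r ∣ Nat.card (Subgroup.center (Matrix.SpecialLinearGroup (Fin n) F)) :=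
    fun h => hr1 (h.trans (center_dvd n))
  obtain ⟨A, B, hAB, hA, ⟨i, hAi⟩, hBZ, hBs⟩ := exists_lift_pair le_rfl hr hs hrs hZs a b ha hb hab
  obtain ⟨C, hC, hC1⟩ : ∃ C, Commute C B ∧ C ≠ 1 ∧ C ^ r = 1 := by
    obtain ⟨j, -, hjo⟩ := (Nat.dvd_prime_pow hr).1 (orderOf_dvd_of_pow_eq_one hAi)
    refine ⟨A ^ r ^ (j - 1), hAB.pow_left _, ?_, ?_⟩
    · intro h
      have hle := orderOf_dvd_of_pow_eq_one h
      rw [hjo, Nat.pow_dvd_pow_iff_le_right hr.one_lt] at hle
      exact hA (orderOf_eq_one_iff.1 (by rw [hjo, show j = 0 by omega, pow_zero]))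
    · have hj : 0 < j := Nat.pos_of_ne_zero fun h => hA (orderOf_eq_one_iff.1 (by rw [hjo, h, pow_zero]))
      rw [← pow_mul, ← pow_succ, Nat.sub_add_cancel hj, ← hjo, pow_orderOf_eq_one]
  obtain ⟨hC2, hC3⟩ := hC1
  let e := Matrix.toLinAlgEquiv' (R := F) (n := Fin n)
  let φ : Matrix.SpecialLinearGroup (Fin n) F →* Module.End F (Fin n → F) :=
    { toFun := fun x => e (x : Matrix (Fin n) (Fin n) F)
      map_one' := map_one e
      map_mul' := fun x y => map_mul e _ _ }
  have hφ : Function.Injective φ := fun x y h => Subtype.ext (e.injective h)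
  obtain ⟨T, hT⟩ : ∃ T, T = φ C := ⟨_, rfl⟩
  obtain ⟨S, hS⟩ : ∃ S, S = φ B := ⟨_, rfl⟩
  have hTr : T ^ r = 1 := by rw [hT, ← map_pow, hC3, map_one]
  have hSs : S ^ s = 1 := by rw [hS, ← map_pow, hBs, map_one]
  have hT1 : T ≠ 1 := fun h => hC2 (hφ ((hT ▸ h).trans (map_one φ).symm))
  have hS1 : S ≠ 1 := fun h => hBZ (by
    rw [show B = 1 from hφ ((hS ▸ h).trans (map_one φ).symm)]; exact one_mem _)
  have hTS : ∀ v, T (S v) = S (T v) := fun v => commute_apply (by rw [hT, hS]; exact hC.map φ) v
  have hinvS : ∀ v ∈ fix T, S v ∈ fix T := fun v hv => mem_fix.2 (by rw [hTS, mem_fix.1 hv])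
  have hinvT : ∀ v ∈ fix S, T v ∈ fix S := fun v hv => mem_fix.2 (by rw [← hTS, mem_fix.1 hv])
  have m1 := finrank_modEq hSs hq2 (fix T) hinvS
  have m2 := finrank_modEq hTr hq1 (fix S) hinvT
  have m3 := finrank_modEq hTr hq1 ⊤ fun u _ => Submodule.mem_top
  have m4 := finrank_modEq hSs hq2 ⊤ fun u _ => Submodule.mem_top
  rw [inf_comm (fix S) (fix T)] at m2
  rw [finrank_top, top_inf_eq] at m3 m4
  rw [← hl] at m1 m4
  rw [← hk] at m2 m3
  have hle := Submodule.finrank_sup_add_finrank_inf_eq (fix T) (fix S)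
  have hsup := Submodule.finrank_le (fix T ⊔ fix S)
  have hct := finrank_fix_lt hT1
  have hcs := finrank_fix_lt hS1
  have hcr := Submodule.finrank_mono (inf_le_left : fix T ⊓ fix S ≤ fix T)
  have hcs' := Submodule.finrank_mono (inf_le_right : fix T ⊓ fix S ≤ fix S)
  rw [Module.finrank_fintype_fun_eq_card, Fintype.card_fin] at m3 m4 hsup hct hcs
  generalize finrank F ↥(fix T ⊔ fix S) = w at hle hsup
  generalize finrank F ↥(fix T ⊓ fix S) = z at m1 m2 hle hcr hcs'
  generalize finrank F ↥(fix T) = x at m1 m3 hle hct hcr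
  generalize finrank F ↥(fix S) = y at m2 m4 hle hcs hcs'
  have d1 : l ∣ x - z := (Nat.modEq_iff_dvd' hcr).1 m1.symm
  have d2 : k ∣ y - z := (Nat.modEq_iff_dvd' hcs').1 m2.symm
  have d3 : k ∣ n - x := (Nat.modEq_iff_dvd' hct.le).1 m3.symm
  have d4 : l ∣ n - y := (Nat.modEq_iff_dvd' hcs.le).1 m4.symm
  have d5 : k ∣ n - x - (y - z) := Nat.dvd_sub d3 d2
  have d6 : l ∣ n - y - (x - z) := Nat.dvd_sub d4 d1
  rw [show n - y - (x - z) = n - x - (y - z) by omega] at d6
  have hd0 : n - x - (y - z) = 0 := by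
    by_contra hne
    have hlcm := Nat.lcm_dvd d5 d6
    have h2 : l * 2 ≤ Nat.lcm k l := by
      obtain ⟨c, hc⟩ := Nat.dvd_lcm_right k l
      have hc2 : 2 ≤ c := by
        by_contra hlt
        interval_cases c
        · rw [mul_zero] at hc; exact Nat.lcm_ne_zero (by omega) (by omega) hc
        · exact hndvd (by rw [← mul_one l, ← hc]; exact Nat.dvd_lcm_left k l)
      rw [hc]
      exact Nat.mul_le_mul_left _ hc2
    have := Nat.le_of_dvd (Nat.pos_of_ne_zero hne) hlcm
    omega
  have ha' : l ≤ x - z := Nat.le_of_dvd (by omega) d1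
  have hb' : k ≤ y - z := Nat.le_of_dvd (by omega) d2
  omega

/-- In dimension three a commutant of a transvection-like map. -/
theorem scalar_of_three {T M : (Fin 3 → F) →ₗ[F] (Fin 3 → F)} (hM : M ≠ 0) (hM2 : M * M = 0)
    (hcomm : Commute T M) {c : F} (hc : c ^ 3 = 1) (hT3 : T ^ 3 = c • (1 : (Fin 3 → F) →ₗ[F] (Fin 3 → F)))
    (hdet : LinearMap.det T = 1) (h9 : ∀ e : F, e ^ 9 = 1 → e ^ 3 = 1) (h3 : (3 : F) ≠ 0) :
    ∃ e : F, T = e • (1 : (Fin 3 → F) →ₗ[F] (Fin 3 → F)) := by
  classical
  obtain ⟨x, hx⟩ : ∃ x, M x ≠ 0 := by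
    by_contra! h
    exact hM (LinearMap.ext h)
  obtain ⟨u, hu⟩ : ∃ u, u = M x := ⟨_, rfl⟩
  rw [← hu] at hx
  have hMM : ∀ v, M (M v) = 0 := fun v => by rw [← Module.End.mul_apply, hM2]; rfl
  have hle : LinearMap.range M ≤ LinearMap.ker M := by
    rintro _ ⟨v, rfl⟩; exact hMM v
  have hdim := LinearMap.finrank_range_add_finrank_ker M
  rw [Module.finrank_fintype_fun_eq_card, Fintype.card_fin] at hdim
  have h1 := Submodule.finrank_mono hle
  have hsp : Submodule.span F {u} ≤ LinearMap.range M := by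
    rw [Submodule.span_singleton_le_iff_mem]; exact ⟨x, hu.symm⟩
  have hur : Submodule.span F {u} = LinearMap.range M :=
    Submodule.eq_of_le_of_finrank_le hsp (by rw [finrank_span_singleton hx]; omega)
  have hker2 : finrank F (LinearMap.ker M) = 2 := by
    have : finrank F (LinearMap.range M) = 1 := by rw [← hur, finrank_span_singleton hx]
    omega
  obtain ⟨w, hwK, hwu⟩ : ∃ w ∈ LinearMap.ker M, w ∉ Submodule.span F {u} := by
    by_contra! h
    have := Submodule.finrank_mono (show LinearMap.ker M ≤ Submodule.span F {u} from h)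
    rw [finrank_span_singleton hx] at this
    omega
  have hMw : M w = 0 := hwK
  have hMu : M u = 0 := hu ▸ hMM x
  have hTM : ∀ v, T (M v) = M (T v) := fun v => commute_apply hcomm v
  have hli : LinearIndependent F ![u, w, x] := by
    rw [Fintype.linearIndependent_iff]
    intro g hg
    rw [Fin.sum_univ_three] at hg
    simp only [Matrix.cons_val_zero, Matrix.cons_val_one, Matrix.cons_val] at hg
    have h2 : g 2 = 0 := by
      have := congrArg M hg
      rw [map_add, map_add, map_smul, map_smul, map_smul, hMu, hMw, smul_zero, smul_zero, zero_add, zero_add,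
        map_zero, ← hu, smul_eq_zero] at this
      exact this.resolve_right hx
    rw [h2, zero_smul, add_zero] at hg
    have h1' : g 1 = 0 := by
      by_contra hne
      refine hwu (Submodule.mem_span_singleton.2 ⟨-(g 0) / g 1, ?_⟩)
      have : g 1 • w = -(g 0 • u) := eq_neg_of_add_eq_zero_right hg
      rw [neg_div, neg_smul, div_eq_inv_mul, mul_smul, ← smul_neg, ← this, smul_smul, inv_mul_cancel₀ hne,
        one_smul]
    rw [h1', zero_smul, add_zero, smul_eq_zero] at hg
    intro i
    fin_cases i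
    · exact hg.resolve_right hx
    · exact h1'
    · exact h2
  let B : Basis (Fin 3) F (Fin 3 → F) := basisOfLinearIndependentOfCardEqFinrank hli
    (by rw [Module.finrank_fintype_fun_eq_card])
  have hB : ∀ i, B i = ![u, w, x] i := fun i => by
    simp [B, coe_basisOfLinearIndependentOfCardEqFinrank]
  have hspanK : Submodule.span F {u, w} = LinearMap.ker M := by
    refine Submodule.eq_of_le_of_finrank_le ?_ ?_
    · rw [Submodule.span_le]
      intro v hv
      rcases hv with rfl | rfl
      · exact hMu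
      · exact hMw
    · have hli2 : LinearIndependent F ![u, w] := by
        have := hli.comp ![0, 1] (by decide)
        convert! this using 1
        funext i
        fin_cases i <;> rfl
      have := finrank_span_eq_card hli2
      rw [Fintype.card_fin, Matrix.range_cons, Matrix.range_cons, Matrix.range_empty, Set.union_empty,
        Set.singleton_union] at this
      omega
  obtain ⟨lam, hlam⟩ : ∃ lam : F, lam • u = T u := by
    refine Submodule.mem_span_singleton.1 ?_
    rw [hur]
    exact ⟨T x, by rw [hu, hTM]⟩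
  obtain ⟨e, μ, hw'⟩ : ∃ e μ : F, e • u + μ • w = T w := by
    refine Submodule.mem_span_pair.1 ?_
    rw [hspanK, LinearMap.mem_ker, ← hTM, hMw, map_zero]
  obtain ⟨a, b, hx'⟩ : ∃ a b : F, a • u + b • w = T x - lam • x := by
    refine Submodule.mem_span_pair.1 ?_
    rw [hspanK, LinearMap.mem_ker, map_sub, map_smul, ← hTM, ← hu, hlam, sub_self]
  have hTx : T x = a • u + b • w + lam • x := by rw [hx', sub_add_cancel]
  have hmat : LinearMap.toMatrix B B T = !![lam, e, a; 0, μ, b; 0, 0, lam] := by
    have e0 : T (B 0) = lam • B 0 := by rw [hB]; exact hlam.symm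
    have e1 : T (B 1) = e • B 0 + μ • B 1 := by rw [hB, hB]; exact hw'.symm
    have e2 : T (B 2) = a • B 0 + b • B 1 + lam • B 2 := by rw [hB, hB, hB]; exact hTx
    ext i j
    rw [LinearMap.toMatrix_apply]
    fin_cases j <;> simp only [Fin.isValue, Fin.zero_eta, Fin.mk_one, Fin.reduceFinMk] <;>
      [rw [e0]; rw [e1]; rw [e2]] <;>
      simp only [map_add, map_smul, Basis.repr_self, Finsupp.coe_add, Finsupp.coe_smul, Pi.add_apply, Pi.smul_apply,
        smul_eq_mul] <;>
      fin_cases i <;> simp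
  have hd : lam * μ * lam = 1 := by
    rw [← hdet, ← LinearMap.det_toMatrix B T, hmat, Matrix.det_fin_three]
    simp
  have hl3 : lam ^ 3 = c := by
    have h := LinearMap.congr_fun hT3 u
    rw [pow_succ, pow_two, Module.End.mul_apply, Module.End.mul_apply, LinearMap.smul_apply, Module.End.one_apply,
      ← hlam, map_smul, map_smul, ← hlam, map_smul, ← hlam, smul_smul, smul_smul] at h
    have := smul_left_injective F hx h
    rw [← this]; ring
  have hl1 : lam ^ 3 = 1 := h9 lam (by rw [show 9 = 3 * 3 from rfl, pow_mul, hl3, hc])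
  have hl0 : lam ≠ 0 := fun h => by rw [h] at hl1; norm_num at hl1
  have hμ : μ = lam := by
    have : lam * lam * (μ - lam) = 0 := by linear_combination hd - hl1
    rcases mul_eq_zero.1 this with h | h
    · exact absurd (mul_self_eq_zero.1 h) hl0
    · exact sub_eq_zero.1 h
  rw [hμ] at hw'
  have h3l : (3 : F) * (lam * lam) ≠ 0 := mul_ne_zero h3 (mul_ne_zero hl0 hl0)
  have he : e = 0 := by
    have h := LinearMap.congr_fun hT3 w
    rw [pow_succ, pow_two, Module.End.mul_apply, Module.End.mul_apply, LinearMap.smul_apply, Module.End.one_apply] at h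
    simp only [← hw', ← hlam, map_add, map_smul] at h
    have h' : (3 * (lam * lam) * e) • u = 0 := by
      rw [← sub_self (c • w)]
      nth_rw 1 [← h]
      rw [← hl3]
      module
    rcases smul_eq_zero.1 h' with h'' | h''
    · exact (mul_eq_zero.1 h'').resolve_left h3l
    · exact absurd h'' hx
  rw [he, zero_smul, zero_add] at hw'
  have hab : a • u + b • w = 0 := by
    have h := LinearMap.congr_fun hT3 x
    rw [pow_succ, pow_two, Module.End.mul_apply, Module.End.mul_apply, LinearMap.smul_apply, Module.End.one_apply] at h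
    simp only [hTx, ← hw', ← hlam, map_add, map_smul] at h
    have h' : (3 * (lam * lam)) • (a • u + b • w) = 0 := by
      rw [← sub_self (c • x)]
      nth_rw 1 [← h]
      rw [← hl3]
      module
    exact (smul_eq_zero.1 h').resolve_left h3l
  refine ⟨lam, B.ext fun i => ?_⟩
  rw [hB, LinearMap.smul_apply, Module.End.one_apply]
  fin_cases i
  · exact hlam.symm
  · exact hw'.symm
  · show T x = lam • x
    rw [hTx, hab, zero_add]

/-- An odd prime and the characteristic. -/
theorem adjacent_char_iff (p : ℕ) [Fact p.Prime] [CharP F p] (n : ℕ) (hn : 2 ≤ n)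
    (r : ℕ) (hr : r.Prime) (hr2 : r ≠ 2) (hrp : r ≠ p)
    (k : ℕ) (hk : k = orderOf ((Fintype.card F : ℕ) : ZMod r)) :
    (r * p ∉ Set.range (orderOf : Matrix.ProjectiveSpecialLinearGroup (Fin n) F → ℕ)) ↔
      (n - 2 < k ∨ (n = 3 ∧ r = 3 ∧ 3 ∣ Fintype.card F - 1 ∧ ¬ 9 ∣ Fintype.card F - 1)) := by
  classical
  haveI : Fact r.Prime := ⟨hr⟩
  have hp : p.Prime := Fact.out
  have hq1 := ne_zero_of_ne_char (F := F) (p := p) hrp
  have hk0 : 0 < k := hk ▸ orderOf_ord_pos hq1
  have hpq : ¬ p ∣ Fintype.card F - 1 := fun h => by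
    obtain ⟨e, he⟩ := FiniteField.card F p
    have h1 : p ∣ Fintype.card F := by rw [he.2]; exact dvd_pow_self p e.ne_zero
    have := Nat.dvd_sub h1 h
    rw [Nat.sub_sub_self Fintype.card_pos, Nat.dvd_one] at this
    exact hp.ne_one this
  constructor
  · intro hno
    by_contra hc
    rw [not_or, not_lt] at hc
    obtain ⟨hkn, hexc⟩ := hc
    refine hno ?_
    let T : Matrix.SpecialLinearGroup (Fin 2) F := ⟨!![1, 1; 0, 1], by simp [Matrix.det_fin_two]⟩
    have hTpow : ∀ j : ℕ, ((T ^ j : Matrix.SpecialLinearGroup (Fin 2) F) : Matrix (Fin 2) (Fin 2) F) =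
        !![1, (j : F); 0, 1] := by
      intro j
      induction j with
      | zero => simp [Matrix.one_fin_two]
      | succ j ih => rw [pow_succ, Matrix.SpecialLinearGroup.coe_mul, ih]; simp [T, add_comm]
    have hT : orderOf T = p := by
      refine orderOf_eq_prime (Subtype.ext ?_) fun h => ?_
      · rw [hTpow, CharP.cast_eq_zero, Matrix.SpecialLinearGroup.coe_one, Matrix.one_fin_two]
      · have := congrArg (fun M : Matrix.SpecialLinearGroup (Fin 2) F => (M : Matrix (Fin 2) (Fin 2) F) 0 1) h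
        simp [T] at this
    rcases Nat.lt_or_ge n 4 with hn4 | hn4
    · -- dimension three
      have hn3 : n = 3 := by omega
      subst hn3
      have hrq : r ∣ Fintype.card F - 1 := ord_eq_one_iff.1 (by omega)
      obtain ⟨a, ha, ha3⟩ : ∃ a : Fˣ, a ^ r ^ 2 = 1 ∧ a ^ 3 ≠ 1 ∧ (r = 3 ∨ a ^ r = 1) := by
        obtain ⟨g, hg⟩ := IsCyclic.exists_ofOrder_eq_natCard (α := Fˣ)
        rw [Nat.card_units, Nat.card_eq_fintype_card] at hg
        by_cases h3 : r = 3
        · subst h3
          have h9 : 9 ∣ Fintype.card F - 1 := by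
            by_contra h9
            exact hexc ⟨rfl, rfl, hrq, h9⟩
          have ho : orderOf (g ^ (orderOf g / 9)) = 9 := orderOf_pow_orderOf_div (orderOf_pos g).ne' (hg ▸ h9)
          refine ⟨g ^ (orderOf g / 9), by rw [show 3 ^ 2 = 9 from rfl]; nth_rw 2 [← ho]; exact pow_orderOf_eq_one _,
            fun h => ?_, Or.inl rfl⟩
          have := orderOf_dvd_of_pow_eq_one h
          rw [ho] at this
          norm_num at this
        · have ho : orderOf (g ^ (orderOf g / r)) = r := orderOf_pow_orderOf_div (orderOf_pos g).ne' (hg ▸ hrq)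
          have hpr : (g ^ (orderOf g / r)) ^ r = 1 :=
            (congrArg ((g ^ (orderOf g / r)) ^ ·) ho.symm).trans (pow_orderOf_eq_one _)
          refine ⟨g ^ (orderOf g / r), by rw [pow_two, pow_mul, hpr, one_pow], fun h => h3 ?_,
            Or.inr hpr⟩
          exact (Nat.prime_dvd_prime_iff_eq hr Nat.prime_three).1 (ho ▸ orderOf_dvd_of_pow_eq_one h)
      let x : Matrix.SpecialLinearGroup (Fin 3) F :=
        ⟨Matrix.diagonal ![(a : F), a, ((a : F) ^ 2)⁻¹], by
          have : (a : F) ≠ 0 := a.ne_zero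
          rw [Matrix.det_diagonal, Fin.prod_univ_three]
          simp only [Matrix.cons_val_zero, Matrix.cons_val_one, Matrix.cons_val]
          field_simp⟩
      let y : Matrix.SpecialLinearGroup (Fin 3) F := blockHom (show 2 + 1 = 3 from rfl) (T, 1)
      have hy : (y : Matrix (Fin 3) (Fin 3) F) = !![1, 1, 0; 0, 1, 0; 0, 0, 1] := by
        have e0 : (finSumFinEquiv.trans (finCongr (show 2 + 1 = 3 from rfl))).symm 0 = Sum.inl 0 := rfl
        have e1 : (finSumFinEquiv.trans (finCongr (show 2 + 1 = 3 from rfl))).symm 1 = Sum.inl 1 := rfl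
        have e2 : (finSumFinEquiv.trans (finCongr (show 2 + 1 = 3 from rfl))).symm 2 = Sum.inr 0 := rfl
        have hy' : ∀ i j, (y : Matrix (Fin 3) (Fin 3) F) i j =
            Matrix.fromBlocks (T : Matrix (Fin 2) (Fin 2) F) 0 0 (1 : Matrix (Fin 1) (Fin 1) F)
              ((finSumFinEquiv.trans (finCongr (show 2 + 1 = 3 from rfl))).symm i)
              ((finSumFinEquiv.trans (finCongr (show 2 + 1 = 3 from rfl))).symm j) := fun i j => rfl
        ext i j
        rw [hy']
        fin_cases i <;> fin_cases j <;> simp only [Fin.isValue, Fin.zero_eta, Fin.mk_one, Fin.reduceFinMk, e0, e1, e2] <;>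
          simp [T]
      refine ⟨((x * y : Matrix.SpecialLinearGroup (Fin 3) F) : Matrix.ProjectiveSpecialLinearGroup (Fin 3) F),
        orderOf_mk_mul hr hp hrp x y ?_ ?_ ?_ ?_ ?_⟩
      · refine Subtype.ext ?_
        rw [Matrix.SpecialLinearGroup.coe_mul, Matrix.SpecialLinearGroup.coe_mul, hy]
        ext i j
        fin_cases i <;> fin_cases j <;> simp [x, Matrix.mul_apply, Fin.sum_univ_three]
      · intro hc
        obtain ⟨c, -, hc⟩ := Matrix.SpecialLinearGroup.mem_center_iff.1 hc
        have h0 := congrFun (congrFun hc 0) 0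
        have h2 := congrFun (congrFun hc 2) 2
        simp [x] at h0 h2
        refine ha3.1 (Units.ext ?_)
        rw [Units.val_pow_eq_pow_val, Units.val_one]
        have : (a : F) ≠ 0 := a.ne_zero
        rw [h0] at h2
        field_simp at h2
        linear_combination h2
      · refine Matrix.SpecialLinearGroup.mem_center_iff.2 ⟨((a : F)) ^ r, ?_, ?_⟩
        · rw [Fintype.card_fin, ← Units.val_pow_eq_pow_val, ← Units.val_pow_eq_pow_val, ← Units.val_one]
          congr 1
          rcases ha3.2 with h3 | h3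
          · rw [← pow_mul, h3, show 3 * 3 = 3 ^ 2 from rfl, ← h3, ha]
          · rw [h3, one_pow]
        · have hne : (a : F) ≠ 0 := a.ne_zero
          rw [Matrix.SpecialLinearGroup.coe_pow]
          simp only [x, Matrix.diagonal_pow, Matrix.scalar_apply]
          congr 1
          funext i
          fin_cases i
          · simp
          · simp
          · simp only [Fin.reduceFinMk, Pi.pow_apply, Matrix.cons_val]
            have h3a : ((a : F) ^ r) ^ 3 = 1 := by
              rw [← Units.val_pow_eq_pow_val, ← Units.val_pow_eq_pow_val, ← Units.val_one]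
              congr 1
              rcases ha3.2 with h3 | h3
              · rw [← pow_mul, h3, show 3 * 3 = 3 ^ 2 from rfl, ← h3, ha]
              · rw [h3, one_pow]
            rw [inv_pow, ← pow_mul, mul_comm, pow_mul]
            refine eq_inv_of_mul_eq_one_left ?_
            linear_combination h3a
      · intro hc
        obtain ⟨c, -, hc⟩ := Matrix.SpecialLinearGroup.mem_center_iff.1 hc
        have h01 := congrFun (congrFun hc 0) 1
        rw [hy] at h01
        simp at h01
      · refine Matrix.SpecialLinearGroup.mem_center_iff.2 ⟨1, one_pow _, ?_⟩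
        have h1 : y ^ p = 1 := by
          rw [← map_pow, Prod.pow_mk, ← hT, pow_orderOf_eq_one, one_pow]
          exact map_one _
        rw [h1, Matrix.SpecialLinearGroup.coe_one, map_one]
    obtain ⟨x, hx⟩ : ∃ x : Matrix.SpecialLinearGroup (Fin (n - 2)) F, orderOf x = r :=
      exists_prime_orderOf_dvd_card' r (dvd_card_SL (p := p) hr (by omega) (Or.inr (Or.inr (by omega))))
    let y : Matrix.SpecialLinearGroup (Fin n) F := blockHom (Nat.sub_add_cancel hn) (x, T)
    have hy : orderOf y = r * p := by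
      rw [orderOf_injective _ (blockHom_injective _), Prod.orderOf, hx, hT]
      exact ((Nat.coprime_primes hr hp).2 hrp).lcm_eq_mul
    refine ⟨(y : Matrix.ProjectiveSpecialLinearGroup (Fin n) F), ?_⟩
    refine Nat.dvd_antisymm (hy ▸ orderOf_map_dvd (QuotientGroup.mk' _) y) ?_
    rw [← hy]
    refine orderOf_dvd_of_pow_eq_one ?_
    have hm : y ^ orderOf (y : Matrix.ProjectiveSpecialLinearGroup (Fin n) F) ∈
        Subgroup.center (Matrix.SpecialLinearGroup (Fin n) F) := by
      rw [← QuotientGroup.eq_one_iff, QuotientGroup.mk_pow]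
      exact pow_orderOf_eq_one _
    rw [← map_pow, Prod.pow_mk] at hm
    obtain ⟨c, hc1, hc2⟩ := mem_center_block _ _ _ hm
    rw [hTpow] at hc2
    have h00 := congrFun (congrFun hc2 0) 0
    have h01 := congrFun (congrFun hc2 0) 1
    simp at h00 h01
    rw [← map_pow, Prod.pow_mk, show x ^ orderOf (y : Matrix.ProjectiveSpecialLinearGroup (Fin n) F) = 1 from
      Subtype.ext (by rw [hc1, ← h00, one_smul, Matrix.SpecialLinearGroup.coe_one]),
      show T ^ orderOf (y : Matrix.ProjectiveSpecialLinearGroup (Fin n) F) = 1 from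
        Subtype.ext (by rw [hTpow, h01, Matrix.SpecialLinearGroup.coe_one, Matrix.one_fin_two])]
    exact map_one _
  rintro hc ⟨g, hg⟩
  obtain ⟨a, b, hb, ha, hab⟩ := exists_pair g hg hr hp
  by_cases hrq : r ∣ Fintype.card F - 1
  · have hk1 : k = 1 := hk ▸ ord_eq_one_iff.2 hrq
    rcases hc with hc | ⟨hn3, hr3, -, h9⟩
    · have hn2 : n = 2 := by omega
      subst hn2
      have hZ : ¬ r ∣ Nat.card (Subgroup.center (Matrix.SpecialLinearGroup (Fin 2) F)) := fun h => by
        rw [Nat.card_congr (Matrix.SpecialLinearGroup.center_equiv_rootsOfUnity).toEquiv] at h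
        obtain ⟨c, hc⟩ := exists_prime_orderOf_dvd_card' r h
        have h2 : c ^ 2 = 1 := Subtype.ext (by
          have := c.2
          simp only [mem_rootsOfUnity, Fintype.card_fin] at this
          exact this)
        have h3 := orderOf_dvd_of_pow_eq_one h2
        rw [hc] at h3
        exact hr2 ((Nat.prime_dvd_prime_iff_eq hr Nat.prime_two).1 h3)
      obtain ⟨A, B, hAB, hA, ⟨i, hAi⟩, hBZ, hBr⟩ := exists_lift_pair le_rfl hp hr (Ne.symm hrp) hZ b a ha hb hab.symm
      obtain ⟨N, S, hN, hnil, hS, hSr, hSN, hSv, -⟩ := exists_maps (p := p)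
        (A := (A : Matrix (Fin 2) (Fin 2) F)) (B := (B : Matrix (Fin 2) (Fin 2) F)) (r := r) (i := i) (by omega)
        (by
          show _ * _ = _ * _
          rw [← Matrix.SpecialLinearGroup.coe_mul, hAB.eq, Matrix.SpecialLinearGroup.coe_mul])
        (fun h => hA (Subtype.ext h)) (by rw [← Matrix.SpecialLinearGroup.coe_pow, hAi, Matrix.SpecialLinearGroup.coe_one])
        (fun h => hBZ (by rw [show B = 1 from Subtype.ext h]; exact one_mem _))
        (by rw [← Matrix.SpecialLinearGroup.coe_pow, hBr, Matrix.SpecialLinearGroup.coe_one])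
      have hdet : LinearMap.det S = 1 := by
        rw [show S = Matrix.toLin' (B : Matrix (Fin 2) (Fin 2) F) from LinearMap.ext fun v => by
          rw [hSv, Matrix.toLin'_apply], LinearMap.det_toLin']
        exact B.2
      obtain ⟨x, hx⟩ : ∃ x, N x ≠ 0 := by
        by_contra! h
        exact hN (LinearMap.ext h)
      have hKR := ker_inf_range_ne_bot hN hnil
      have hdim := LinearMap.finrank_range_add_finrank_ker N
      rw [Module.finrank_fintype_fun_eq_card, Fintype.card_fin] at hdim
      have hr1 : 0 < finrank F ↥(LinearMap.ker N ⊓ LinearMap.range N) :=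
        Nat.pos_of_ne_zero fun h => hKR (Submodule.finrank_eq_zero.1 h)
      have h1 := Submodule.finrank_mono (inf_le_left : LinearMap.ker N ⊓ LinearMap.range N ≤ LinearMap.ker N)
      have h2 := Submodule.finrank_mono (inf_le_right : LinearMap.ker N ⊓ LinearMap.range N ≤ LinearMap.range N)
      have hK : LinearMap.ker N = LinearMap.range N := by
        have e1 := Submodule.eq_of_le_of_finrank_le (inf_le_left : LinearMap.ker N ⊓ LinearMap.range N ≤ LinearMap.ker N)
          (by omega)
        have e2 := Submodule.eq_of_le_of_finrank_le (inf_le_right : LinearMap.ker N ⊓ LinearMap.range N ≤ LinearMap.range N)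
          (by omega)
        exact e1.symm.trans e2
      have hspan : Submodule.span F {N x} = LinearMap.range N :=
        Submodule.eq_of_le_of_finrank_le ((Submodule.span_singleton_le_iff_mem _ _).2 ⟨x, rfl⟩)
          (by rw [finrank_span_singleton hx]; omega)
      obtain ⟨lam, hlam⟩ : ∃ lam : F, lam • N x = S (N x) := Submodule.mem_span_singleton.1
        (hspan ▸ ⟨S x, (commute_apply hSN x).symm⟩)
      obtain ⟨c, hc⟩ : ∃ c : F, c • N x = S x - lam • x := Submodule.mem_span_singleton.1 (by
        rw [hspan, ← hK, LinearMap.mem_ker, map_sub, map_smul, ← commute_apply hSN, hlam, sub_self])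
      have hNN : N (N x) = 0 := by
        have : N x ∈ LinearMap.ker N := hK ▸ ⟨x, rfl⟩
        exact this
      have hli : LinearIndependent F ![N x, x] := by
        rw [LinearIndependent.pair_iff]
        intro s t hst
        have := congrArg N hst
        rw [map_add, map_smul, map_smul, hNN, smul_zero, zero_add, map_zero, smul_eq_zero] at this
        have ht := this.resolve_right hx
        rw [ht, zero_smul, add_zero, smul_eq_zero] at hst
        exact ⟨hst.resolve_right hx, ht⟩
      let Bs : Basis (Fin 2) F (Fin 2 → F) := basisOfLinearIndependentOfCardEqFinrank hli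
        (by rw [Module.finrank_fintype_fun_eq_card])
      have hB : ∀ i, Bs i = ![N x, x] i := fun i => by simp [Bs, coe_basisOfLinearIndependentOfCardEqFinrank]
      have hSx : S x = c • N x + lam • x := by rw [hc, sub_add_cancel]
      have hmat : LinearMap.toMatrix Bs Bs S = !![lam, c; 0, lam] := by
        have e0 : S (Bs 0) = lam • Bs 0 := by rw [hB]; exact hlam.symm
        have e1 : S (Bs 1) = c • Bs 0 + lam • Bs 1 := by rw [hB, hB]; exact hSx
        ext i j
        rw [LinearMap.toMatrix_apply]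
        fin_cases j <;> simp only [Fin.isValue, Fin.zero_eta, Fin.mk_one] <;> [rw [e0]; rw [e1]] <;>
          simp only [map_add, map_smul, Basis.repr_self, Finsupp.coe_add, Finsupp.coe_smul, Pi.add_apply,
            Pi.smul_apply, smul_eq_mul] <;>
          fin_cases i <;> simp
      have hpowN : ∀ j : ℕ, (S ^ j) (N x) = lam ^ j • N x := by
        intro j
        induction j with
        | zero => simp
        | succ j ih => rw [pow_succ', Module.End.mul_apply, ih, map_smul, ← hlam, smul_smul, ← pow_succ]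
      have hlr : lam ^ r = 1 := by
        have := hpowN r
        rw [hSr, Module.End.one_apply] at this
        refine (smul_left_injective F hx (?_ : lam ^ r • N x = (1 : F) • N x))
        rw [one_smul]; exact this.symm
      have hl2 : lam * lam = 1 := by
        rw [← hdet, ← LinearMap.det_toMatrix Bs S, hmat, Matrix.det_fin_two]
        simp
      have hl1 : lam = 1 := by
        rcases mul_self_eq_one_iff.1 hl2 with h | h
        · exact h
        · rw [h, (hr.odd_of_ne_two hr2).neg_one_pow] at hlr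
          rw [h, hlr]
      subst hl1
      have hpowx : ∀ j : ℕ, (S ^ j) x = x + (j : F) • (c • N x) := by
        intro j
        induction j with
        | zero => simp
        | succ j ih =>
          rw [pow_succ', Module.End.mul_apply, ih, map_add, map_smul, map_smul, ← hlam, hSx, Nat.cast_add,
            Nat.cast_one, one_smul, one_smul, add_smul, one_smul]
          abel
      have hc0 : c = 0 := by
        have := hpowx r
        rw [hSr, Module.End.one_apply, left_eq_add, smul_eq_zero, smul_eq_zero] at this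
        rcases this with h | h | h
        · exact absurd ((Nat.prime_dvd_prime_iff_eq hp hr).1 ((CharP.cast_eq_zero_iff F p r).1 h)).symm hrp
        · exact h
        · exact absurd h hx
      refine hS (Bs.ext fun i => ?_)
      rw [hB, Module.End.one_apply]
      fin_cases i
      · show S (N x) = N x
        rw [← hlam, one_smul]
      · show S x = x
        rw [hSx, hc0, zero_smul, zero_add, one_smul]
    · subst hn3
      subst hr3
      -- here the lift of the element of order 3 has its cube in the centre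
      have lift : ∃ A B : Matrix.SpecialLinearGroup (Fin 3) F, Commute A B ∧ A ≠ 1 ∧ (∃ i : ℕ, A ^ p ^ i = 1) ∧
          B ∉ Subgroup.center (Matrix.SpecialLinearGroup (Fin 3) F) ∧
          B ^ 3 ∈ Subgroup.center (Matrix.SpecialLinearGroup (Fin 3) F) := by
        obtain ⟨A', hA'⟩ := QuotientGroup.mk_surjective b
        obtain ⟨B, hB⟩ := QuotientGroup.mk_surjective a
        obtain ⟨i, m, hm, hord⟩ := Nat.exists_eq_pow_mul_and_not_dvd (orderOf_pos A').ne' p hp.ne_one
        obtain ⟨t, -, ht⟩ := Nat.exists_mul_mod_eq_one_of_coprime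
          ((hp.coprime_iff_not_dvd.2 hm).symm) hp.one_lt
        have hA : ((A' ^ (m * t) : Matrix.SpecialLinearGroup (Fin 3) F) :
            Matrix.ProjectiveSpecialLinearGroup (Fin 3) F) = b := by
          rw [QuotientGroup.mk_pow, hA', ← pow_mod_orderOf, ha, ht, pow_one]
        have hAi : (A' ^ (m * t)) ^ p ^ i = 1 := by
          rw [← pow_mul, show m * t * p ^ i = orderOf A' * t by rw [hord]; ring, pow_mul, pow_orderOf_eq_one, one_pow]
        refine ⟨A' ^ (m * t), B, ?_, fun h => ?_, ⟨i, hAi⟩, fun h => ?_, ?_⟩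
        · obtain ⟨z, hz⟩ : ∃ z, z = B * A' ^ (m * t) * B⁻¹ * (A' ^ (m * t))⁻¹ := ⟨_, rfl⟩
          have hzZ : z ∈ Subgroup.center (Matrix.SpecialLinearGroup (Fin 3) F) := by
            refine (QuotientGroup.eq_one_iff z).1 ?_
            rw [hz, QuotientGroup.mk_mul, QuotientGroup.mk_mul, QuotientGroup.mk_mul, QuotientGroup.mk_inv,
              QuotientGroup.mk_inv, hA, hB, hab.eq, mul_inv_cancel_right, mul_inv_cancel]
          have hconj : B * A' ^ (m * t) * B⁻¹ = z * A' ^ (m * t) := by rw [hz, inv_mul_cancel_right]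
          have hz1 : z ^ p ^ i = 1 := by
            have h : (z * A' ^ (m * t)) ^ p ^ i = 1 := by rw [← hconj, conj_pow, hAi, mul_one, mul_inv_cancel]
            rwa [Commute.mul_pow ((Subgroup.mem_center_iff.1 hzZ (A' ^ (m * t))).symm), hAi, mul_one] at h
          have hz0 : z = 1 := by
            have h : orderOf z ∣ Nat.gcd (p ^ i) (Fintype.card F - 1) :=
              Nat.dvd_gcd (orderOf_dvd_of_pow_eq_one hz1) ((Subgroup.orderOf_dvd_natCard _ hzZ).trans (center_dvd 3))
            rw [(hp.coprime_iff_not_dvd.2 hpq).pow_left i, Nat.dvd_one, orderOf_eq_one_iff] at h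
            exact h
          rw [hz0, one_mul] at hconj
          exact (mul_inv_eq_iff_eq_mul.1 hconj).symm
        · rw [h, QuotientGroup.mk_one] at hA
          rw [← hA, orderOf_one] at ha
          exact hp.ne_one ha.symm
        · rw [(QuotientGroup.eq_one_iff B).2 h] at hB
          rw [← hB, orderOf_one] at hb
          omega
        · refine (QuotientGroup.eq_one_iff _).1 ?_
          rw [QuotientGroup.mk_pow, hB]
          exact (congrArg (a ^ ·) hb.symm).trans (pow_orderOf_eq_one a)
      obtain ⟨A, B, hAB, hA, ⟨i, hAi⟩, hBZ, hB3⟩ := lift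
      obtain ⟨c, hc3, hcB⟩ := Matrix.SpecialLinearGroup.mem_center_iff.1 hB3
      rw [Fintype.card_fin] at hc3
      let e := Matrix.toLinAlgEquiv' (R := F) (n := Fin 3)
      obtain ⟨N, hN⟩ : ∃ N, N = e ((A : Matrix (Fin 3) (Fin 3) F) - 1) := ⟨_, rfl⟩
      have hN0 : N ≠ 0 := fun h => hA (Subtype.ext
        (sub_eq_zero.1 (e.injective ((hN ▸ h).trans (map_zero e).symm))))
      have hnil : IsNilpotent N := ⟨p ^ i, by
        rw [hN, ← map_pow, sub_pow_char_pow_of_commute (p := p) (x := (A : Matrix (Fin 3) (Fin 3) F)) (y := 1)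
          (h := Commute.one_right _), ← Matrix.SpecialLinearGroup.coe_pow, hAi, Matrix.SpecialLinearGroup.coe_one,
          one_pow, sub_self, map_zero]⟩
      have hcomm : Commute (e (B : Matrix (Fin 3) (Fin 3) F)) N := by
        rw [hN]
        refine (Commute.sub_right ?_ (Commute.one_right _)).map e
        show _ * _ = _ * _
        rw [← Matrix.SpecialLinearGroup.coe_mul, ← hAB.eq, Matrix.SpecialLinearGroup.coe_mul]
      obtain ⟨M, hM0, hM2, hMc⟩ : ∃ M : (Fin 3 → F) →ₗ[F] (Fin 3 → F), M ≠ 0 ∧ M * M = 0 ∧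
          Commute (e (B : Matrix (Fin 3) (Fin 3) F)) M := by
        have hex : ∃ j, N ^ (j + 1) = 0 := by
          obtain ⟨j, hj⟩ := hnil
          exact ⟨j, by rw [pow_succ, hj, zero_mul]⟩
        have h0 : 0 < Nat.find hex := Nat.pos_of_ne_zero fun h => hN0 (by
          have := Nat.find_spec hex
          rwa [h, zero_add, pow_one] at this)
        refine ⟨N ^ Nat.find hex, ?_, ?_, hcomm.pow_right _⟩
        · have := Nat.find_min hex (show Nat.find hex - 1 < Nat.find hex by omega)
          rwa [Nat.sub_add_cancel h0] at this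
        · rw [← pow_add]
          exact pow_eq_zero_of_le (by omega) (Nat.find_spec hex)
      have hh9 : ∀ z : F, z ^ 9 = 1 → z ^ 3 = 1 := by
        intro z hz
        have hz0 : z ≠ 0 := fun h => by rw [h] at hz; norm_num at hz
        have h1 : orderOf (Units.mk0 z hz0) ∣ 3 ^ 2 := orderOf_dvd_of_pow_eq_one (Units.ext (by simpa using hz))
        have h2 : orderOf (Units.mk0 z hz0) ∣ Fintype.card F - 1 := by
          have := _root_.orderOf_dvd_natCard (Units.mk0 z hz0)
          rwa [Nat.card_units, Nat.card_eq_fintype_card (α := F)] at this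
        obtain ⟨j, hj, hjo⟩ := (Nat.dvd_prime_pow Nat.prime_three).1 h1
        have h3 : orderOf (Units.mk0 z hz0) ∣ 3 := by
          rw [hjo] at h2 ⊢
          interval_cases j
          · norm_num
          · norm_num
          · exact absurd h2 h9
        have := congrArg Units.val (orderOf_dvd_iff_pow_eq_one.1 h3)
        simpa using this
      have h3 : (3 : F) ≠ 0 := by
        intro h
        have h' : ((3 : ℕ) : F) = 0 := by exact_mod_cast h
        rw [CharP.cast_eq_zero_iff F p] at h'
        exact hrp ((Nat.prime_dvd_prime_iff_eq hp Nat.prime_three).1 h').symm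
      obtain ⟨w, hw⟩ := scalar_of_three hM0 hM2 hMc (c := c) hc3 (by
        rw [← map_pow, ← Matrix.SpecialLinearGroup.coe_pow, ← hcB, Matrix.scalar_apply,
          ← Matrix.smul_one_eq_diagonal, map_smul, map_one]) (by
        show LinearMap.det (Matrix.toLin' (B : Matrix (Fin 3) (Fin 3) F)) = 1
        rw [LinearMap.det_toLin']; exact B.2) hh9 h3
      refine hBZ (Matrix.SpecialLinearGroup.mem_center_iff.2 ⟨w, ?_, ?_⟩)
      · have hBw : (B : Matrix (Fin 3) (Fin 3) F) = w • (1 : Matrix (Fin 3) (Fin 3) F) :=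
          e.injective (by rw [hw, map_smul, map_one])
        have := B.2
        rw [hBw, Matrix.det_smul, Matrix.det_one, mul_one] at this
        exact this
      · rw [Matrix.scalar_apply, ← Matrix.smul_one_eq_diagonal]
        exact e.injective (by rw [hw, map_smul, map_one])
  · have hk2 : 2 ≤ k := by
      by_contra h
      exact hrq (ord_eq_one_iff.1 (by omega))
    have hkn : n - 2 < k := by
      rcases hc with hc | ⟨-, h3, h4, -⟩
      · exact hc
      · exact absurd (h3 ▸ h4) hrq
    have hZ : ¬ r ∣ Nat.card (Subgroup.center (Matrix.SpecialLinearGroup (Fin n) F)) :=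
      fun h => hrq (h.trans (center_dvd n))
    obtain ⟨A, B, hAB, hA, ⟨i, hAi⟩, hBZ, hBr⟩ := exists_lift_pair le_rfl hp hr (Ne.symm hrp) hZ b a ha hb hab.symm
    obtain ⟨N, S, hN, hnil, hS, hSr, hSN, -, -⟩ := exists_maps (p := p)
      (A := (A : Matrix (Fin n) (Fin n) F)) (B := (B : Matrix (Fin n) (Fin n) F)) (r := r) (i := i) (by omega)
      (by
        show _ * _ = _ * _
        rw [← Matrix.SpecialLinearGroup.coe_mul, hAB.eq, Matrix.SpecialLinearGroup.coe_mul])
      (fun h => hA (Subtype.ext h)) (by rw [← Matrix.SpecialLinearGroup.coe_pow, hAi, Matrix.SpecialLinearGroup.coe_one])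
      (fun h => hBZ (by rw [show B = 1 from Subtype.ext h]; exact one_mem _))
      (by rw [← Matrix.SpecialLinearGroup.coe_pow, hBr, Matrix.SpecialLinearGroup.coe_one])
    have := ord_add_two_le hSr hS hN hnil hSN hq1 (hk ▸ hk2)
    rw [Module.finrank_fintype_fun_eq_card, Fintype.card_fin, ← hk] at this
    omega

end Finite

end Cfsg.Agent.Small.PSLPrimeGraph
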