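import Mathlib

/-!
# Finite commutative rings with a separating involution

Fixed units are norms, and elements of norm one are quotients of a unit by its conjugate.
-/

set_option autoImplicit false
set_option linter.unusedSectionVars false

namespace Cfsg.Agent.Small.InvolutionRing

variable {S : Type*} [CommRing S] [Finite S] (φ : S →+* S) (hφ : ∀ x, φ (φ x) = x) {ω t : S}

/-- The fixed subring. -/
abbrev fix : Subring S := φ.eqLocus (RingHom.id S)

theorem fix_apply (r : ↥(fix φ)) : φ (r : S) = (r : S) := r.2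

include hφ in
theorem trace_mem (x : S) : x + φ x ∈ fix φ := by
  show φ (x + φ x) = x + φ x
  rw [map_add, hφ, add_comm]

include hφ in
theorem norm_mem (x : S) : x * φ x ∈ fix φ := by
  show φ (x * φ x) = x * φ x
  rw [map_mul, hφ, mul_comm]

theorem isUnit_fix {r : ↥(fix φ)} (h : IsUnit (r : S)) : IsUnit r := by
  obtain ⟨u, hu⟩ := h
  have : φ (↑u⁻¹ : S) = ↑u⁻¹ := by
    refine u.mul_right_inj.mp ?_
    rw [Units.mul_inv, ← map_one φ, ← Units.mul_inv u, map_mul, hu, fix_apply φ r]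
  exact .of_mul_eq_one ⟨↑u⁻¹, this⟩ (Subtype.ext (by show (r : S) * _ = 1; rw [← hu, Units.mul_inv]))

/-- Chinese remainders in a finite commutative ring. -/
theorem exists_crt {R : Type*} [CommRing R] [Finite R] (f : MaximalSpectrum R → R) :
    ∃ r, ∀ m : MaximalSpectrum R, r - f m ∈ m.asIdeal := by
  obtain ⟨x, hx⟩ := (IsArtinianRing.quotNilradicalEquivPi R).surjective fun m => Ideal.Quotient.mk m.asIdeal (f m)
  obtain ⟨r, rfl⟩ := Ideal.Quotient.mk_surjective x
  refine ⟨r, fun m => Ideal.Quotient.eq.mp ?_⟩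
  exact congrFun hx m

theorem isUnit_of_forall {R : Type*} [CommRing R] (r : R) (h : ∀ m : MaximalSpectrum R, r ∉ m.asIdeal) : IsUnit r := by
  by_contra hr
  obtain ⟨I, hI, hrI⟩ := exists_max_ideal_of_mem_nonunits hr
  exact h ⟨I, hI⟩ hrI

theorem isNilpotent_of_forall {R : Type*} [CommRing R] [Finite R] (r : R) (h : ∀ m : MaximalSpectrum R, r ∈ m.asIdeal) :
    IsNilpotent r := by
  rw [← mem_nilradical, IsArtinianRing.nilradical_eq_iInf, Ideal.mem_iInf]
  exact h

/-- A non-degenerate binary form over a finite field takes every value. -/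
theorem exists_binary {E : Type*} [Field E] [Finite E] {T D : E} (hd : T ^ 2 - 4 * D ≠ 0) (c : E) :
    ∃ a b : E, a ^ 2 + T * a * b + D * b ^ 2 = c := by
  haveI := Fintype.ofFinite E
  by_cases h2 : (2 : E) = 0
  · haveI : CharP E 2 := CharTwo.of_one_ne_zero_of_two_eq_zero one_ne_zero h2
    obtain ⟨a, ha⟩ := FiniteField.isSquare_of_char_two (ringChar.eq E 2) c
    exact ⟨a, 0, by rw [ha]; ring⟩
  · have h4 : (4 : E) ≠ 0 := by
      rw [show (4 : E) = 2 * 2 by norm_num]; exact mul_ne_zero h2 h2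
    have hd' : D - T ^ 2 / 4 ≠ 0 := fun e => hd (by
      field_simp at e
      linear_combination -e)
    obtain ⟨x, b, h⟩ := FiniteField.exists_root_sum_quadratic (R := E)
      (f := Polynomial.X ^ 2) (g := Polynomial.C (D - T ^ 2 / 4) * Polynomial.X ^ 2 - Polynomial.C c)
      (Polynomial.degree_X_pow 2) (by
        rw [Polynomial.degree_sub_eq_left_of_degree_lt]
        · rw [Polynomial.degree_C_mul_X_pow 2 hd']; rfl
        · rw [Polynomial.degree_C_mul_X_pow 2 hd']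
          exact lt_of_le_of_lt Polynomial.degree_C_le (by decide))
      (FiniteField.odd_card_of_char_ne_two fun e => h2 (by
        haveI := ringChar.of_eq e
        exact CharTwo.two_eq_zero))
    simp only [Polynomial.eval_mul, Polynomial.eval_C, Polynomial.eval_pow, Polynomial.eval_X,
      Polynomial.eval_sub] at h
    refine ⟨x - T * b / 2, b, ?_⟩
    have e1 : (x - T * b / 2) ^ 2 + T * (x - T * b / 2) * b + D * b ^ 2 = x ^ 2 + (D - T ^ 2 / 4) * b ^ 2 := by
      rw [show (4 : E) = 2 * 2 by norm_num]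
      field_simp
      ring
    rw [e1]
    linear_combination h

include hφ in
theorem norm_nilpotent (ht : t + φ t = 1) : ∀ (k : ℕ) (e : S), φ e = e → e ^ (2 ^ k) = 0 → ∃ x, x * φ x = 1 + e := by
  intro k
  induction k with
  | zero => intro e _ h; exact ⟨1, by rw [pow_zero, pow_one] at h; rw [h, map_one, mul_one, add_zero]⟩
  | succ k ih =>
    intro e he h
    have hnil : IsNilpotent e := ⟨_, h⟩
    obtain ⟨x₁, hx₁⟩ : ∃ x, x = 1 + t * e := ⟨_, rfl⟩
    have hN : x₁ * φ x₁ = 1 + e + t * φ t * e ^ 2 := by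
      rw [hx₁, map_add, map_one, map_mul, he]
      linear_combination e * ht
    have hu : IsUnit (x₁ * φ x₁) := by
      rw [hN, show 1 + e + t * φ t * e ^ 2 = 1 + e * (1 + t * φ t * e) by ring]
      exact (Commute.isNilpotent_mul_right (Commute.all _ _) hnil).isUnit_one_add
    obtain ⟨u, hu⟩ := hu
    have huφ : φ (u : S) = u := by rw [hu, map_mul, hφ, mul_comm]
    have hiφ : φ (↑u⁻¹ : S) = ↑u⁻¹ := by
      refine u.mul_right_inj.mp ?_
      rw [Units.mul_inv]
      conv_lhs => rw [← huφ]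
      rw [← map_mul, Units.mul_inv, map_one]
    obtain ⟨e', he'⟩ : ∃ e', e' = -(t * φ t * ↑u⁻¹) * e ^ 2 := ⟨_, rfl⟩
    obtain ⟨x, hx⟩ := ih e' (by rw [he', map_mul, map_neg, map_mul, map_mul, hiφ, map_pow, he, hφ]; ring)
      (by rw [he', mul_pow, ← pow_mul, ← pow_succ', h, mul_zero])
    refine ⟨x₁ * x, ?_⟩
    rw [map_mul, mul_mul_mul_comm, hx, ← hu, he']
    have h1 : (u : S) * (↑u⁻¹ : S) = 1 := u.mul_inv
    have h3 : (u : S) = 1 + e + t * φ t * e ^ 2 := hu.trans hN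
    linear_combination (-(t * φ t * e ^ 2)) * h1 + h3

include hφ in
/-- Every fixed unit is a norm. -/
theorem exists_norm (hω : IsUnit (ω - φ ω)) (ht : t + φ t = 1) {y : S} (hy : φ y = y) (hyu : IsUnit y) :
    ∃ x, x * φ x = y := by
  let R := fix φ
  let T : ↥R := ⟨ω + φ ω, trace_mem φ hφ ω⟩
  let D : ↥R := ⟨ω * φ ω, norm_mem φ hφ ω⟩
  let Y : ↥R := ⟨y, hy⟩
  have hdisc : IsUnit (T ^ 2 - 4 * D) := by
    refine isUnit_fix φ ?_
    have e : ((T ^ 2 - 4 * D : ↥R) : S) = (ω - φ ω) ^ 2 := by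
      push_cast
      show (ω + φ ω) ^ 2 - 4 * (ω * φ ω) = _
      ring
    rw [e]
    exact hω.pow 2
  have hloc : ∀ m : MaximalSpectrum ↥R, ∃ a b : ↥R, a ^ 2 + T * a * b + D * b ^ 2 - Y ∈ m.asIdeal := by
    intro m
    let _ : Field (↥R ⧸ m.asIdeal) := Ideal.Quotient.field m.asIdeal
    haveI : Finite (↥R ⧸ m.asIdeal) := Finite.of_surjective _ Ideal.Quotient.mk_surjective
    have hd : (Ideal.Quotient.mk m.asIdeal T) ^ 2 - 4 * Ideal.Quotient.mk m.asIdeal D ≠ 0 := by
      have := (hdisc.map (Ideal.Quotient.mk m.asIdeal)).ne_zero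
      simpa [map_sub, map_pow, map_mul, map_ofNat] using this
    obtain ⟨a, b, hab⟩ := exists_binary hd (Ideal.Quotient.mk m.asIdeal Y)
    obtain ⟨a, rfl⟩ := Ideal.Quotient.mk_surjective a
    obtain ⟨b, rfl⟩ := Ideal.Quotient.mk_surjective b
    exact ⟨a, b, Ideal.Quotient.eq.mp (by simpa using hab)⟩
  choose fa fb hf using hloc
  obtain ⟨a, ha⟩ := exists_crt fa
  obtain ⟨b, hb⟩ := exists_crt fb
  obtain ⟨x₀, hx₀⟩ : ∃ x, x = (a : S) + (b : S) * ω := ⟨_, rfl⟩
  have hNx : x₀ * φ x₀ = ((a ^ 2 + T * a * b + D * b ^ 2 : ↥R) : S) := by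
    rw [hx₀, map_add, map_mul, fix_apply, fix_apply]
    push_cast
    show _ = _ + (ω + φ ω) * _ * _ + (ω * φ ω) * _
    ring
  have hnil : IsNilpotent (a ^ 2 + T * a * b + D * b ^ 2 - Y) := isNilpotent_of_forall _ fun m => by
    have h1 := Ideal.Quotient.eq.mpr (hf m)
    rw [← Ideal.Quotient.eq] at *
    simp only [map_add, map_mul, map_pow, Ideal.Quotient.eq.mpr (ha m), Ideal.Quotient.eq.mpr (hb m)] at h1 ⊢
    exact h1
  obtain ⟨n, hn⟩ : IsUnit (a ^ 2 + T * a * b + D * b ^ 2) := by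
    have := hnil.isUnit_add_left_of_commute (isUnit_fix φ (r := Y) hyu) (Commute.all _ _)
    simpa using this
  obtain ⟨E, hE⟩ : ∃ E : ↥R, E = ↑n⁻¹ * Y - 1 := ⟨_, rfl⟩
  have hEn : IsNilpotent E := by
    rw [show E = -(↑n⁻¹ * (a ^ 2 + T * a * b + D * b ^ 2 - Y)) by rw [hE, mul_sub, ← hn, Units.inv_mul]; ring]
    exact (Commute.isNilpotent_mul_left (Commute.all _ _) hnil).neg
  obtain ⟨k, hk⟩ := hEn
  obtain ⟨x₁, hx₁⟩ := norm_nilpotent φ hφ ht k (E : S) (fix_apply φ E) (by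
    have := congrArg Subtype.val (pow_eq_zero_of_le (Nat.lt_two_pow_self).le hk)
    simpa using this)
  refine ⟨x₀ * x₁, ?_⟩
  rw [map_mul, mul_mul_mul_comm, hx₁, hNx, ← hn, hE]
  show ((n : ↥R) : S) * (1 + (((↑n⁻¹ : ↥R) : S) * y - 1)) = y
  rw [add_sub_cancel, ← mul_assoc, ← Subring.coe_mul, Units.mul_inv, Subring.coe_one, one_mul]

include hφ in
/-- An element of norm one is a quotient of a unit by its conjugate. -/
theorem exists_quot (hω : IsUnit (ω - φ ω)) {z : S} (hz : z * φ z = 1) :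
    ∃ a : S, IsUnit (a + z * φ a) := by
  let R := fix φ
  obtain ⟨L, hL⟩ : ∃ L : S → S, ∀ a, L a = a + z * φ a := ⟨_, fun _ => rfl⟩
  have hNmem := norm_mem φ hφ
  let A : ↥R := ⟨L 1 * φ (L 1), hNmem _⟩
  let C : ↥R := ⟨L ω * φ (L ω), hNmem _⟩
  have hLsym : ∀ a, z * φ (L a) = L a := fun a => by
    rw [hL, map_add, map_mul, hφ]
    linear_combination a * hz
  let B : ↥R := ⟨L 1 * φ (L ω), by
    show φ (L 1 * φ (L ω)) = L 1 * φ (L ω)
    have h1 := hLsym 1
    have h2 := hLsym ω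
    rw [map_mul, hφ]
    linear_combination φ (L 1) * (-h2) + φ (L ω) * h1⟩
  have hBB : B * B = A * C := Subtype.ext (by
    have h := fix_apply φ B
    show L 1 * φ (L ω) * (L 1 * φ (L ω)) = L 1 * φ (L 1) * (L ω * φ (L ω))
    change φ (L 1 * φ (L ω)) = L 1 * φ (L ω) at h
    rw [map_mul, hφ] at h
    linear_combination -(L 1 * φ (L ω)) * h)
  have hid : IsUnit ((⟨ω + φ ω, trace_mem φ hφ ω⟩ : ↥R) * B - C - ⟨ω * φ ω, hNmem ω⟩ * A) := by
    refine isUnit_fix φ ?_
    show IsUnit ((ω + φ ω) * (L 1 * φ (L ω)) - L ω * φ (L ω) - ω * φ ω * (L 1 * φ (L 1)))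
    have e : (ω + φ ω) * (L 1 * φ (L ω)) - L ω * φ (L ω) - ω * φ ω * (L 1 * φ (L 1)) = (ω - φ ω) ^ 2 := by
      simp only [hL, map_add, map_mul, map_one, hφ]
      linear_combination (ω * ω - ω * φ ω) * hz
    rw [e]
    exact hω.pow 2
  have hloc : ∀ m : MaximalSpectrum ↥R, A ∉ m.asIdeal ∨ C ∉ m.asIdeal := by
    intro m
    by_contra h
    push Not at h
    have hB : B ∈ m.asIdeal := by
      rcases m.isMaximal.isPrime.mem_or_mem (hBB ▸ m.asIdeal.mul_mem_right C h.1) with h' | h' <;> exact h'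
    exact m.isMaximal.ne_top (Ideal.eq_top_of_isUnit_mem _
      (sub_mem (sub_mem (m.asIdeal.mul_mem_left _ hB) h.2) (m.asIdeal.mul_mem_left _ h.1)) hid)
  classical
  obtain ⟨r₁, hr₁⟩ := exists_crt fun m : MaximalSpectrum ↥R => if A ∈ m.asIdeal then (0 : ↥R) else 1
  obtain ⟨r₂, hr₂⟩ := exists_crt fun m : MaximalSpectrum ↥R => if A ∈ m.asIdeal then (1 : ↥R) else 0
  obtain ⟨a, ha⟩ : ∃ a, a = (r₁ : S) + (r₂ : S) * ω := ⟨_, rfl⟩
  have hN : L a * φ (L a) = ((r₁ ^ 2 * A + r₁ * r₂ * (B + B) + r₂ ^ 2 * C : ↥R) : S) := by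
    have hB := fix_apply φ B
    change φ (L 1 * φ (L ω)) = L 1 * φ (L ω) at hB
    rw [map_mul, hφ] at hB
    have e : L a = (r₁ : S) * L 1 + (r₂ : S) * L ω := by
      simp only [hL, ha, map_add, map_mul, fix_apply, map_one]
      ring
    rw [e, map_add, map_mul, map_mul, fix_apply, fix_apply]
    push_cast
    show _ = _ * (L 1 * φ (L 1)) + _ * _ * (L 1 * φ (L ω) + L 1 * φ (L ω)) + _ * (L ω * φ (L ω))
    linear_combination ((r₁ : S) * (r₂ : S)) * hB
  refine ⟨a, ?_⟩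
  rw [← hL]
  refine isUnit_of_mul_isUnit_left (y := φ (L a)) ?_
  rw [hN]
  suffices hu : IsUnit (r₁ ^ 2 * A + r₁ * r₂ * (B + B) + r₂ ^ 2 * C) from hu.map R.subtype
  refine isUnit_of_forall _ fun m hm => ?_
  have h1 := Ideal.Quotient.eq.mpr (hr₁ m)
  have h2 := Ideal.Quotient.eq.mpr (hr₂ m)
  have h3 := Ideal.Quotient.eq_zero_iff_mem.mpr hm
  by_cases hA : A ∈ m.asIdeal
  · rw [if_pos hA, map_zero] at h1
    rw [if_pos hA, map_one] at h2
    simp only [map_add, map_mul, map_pow, h1, h2] at h3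
    have h4 : Ideal.Quotient.mk m.asIdeal C = 0 := by linear_combination h3
    exact (hloc m).resolve_left (not_not.mpr hA) (Ideal.Quotient.eq_zero_iff_mem.mp h4)
  · rw [if_neg hA, map_one] at h1
    rw [if_neg hA, map_zero] at h2
    simp only [map_add, map_mul, map_pow, h1, h2] at h3
    have h4 : Ideal.Quotient.mk m.asIdeal A = 0 := by linear_combination h3
    exact hA (Ideal.Quotient.eq_zero_iff_mem.mp h4)

end Cfsg.Agent.Small.InvolutionRing
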