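import Mathlib.LinearAlgebra.Semisimple
import Mathlib.LinearAlgebra.Charpoly.ToMatrix
import Mathlib.LinearAlgebra.Matrix.Charpoly.Minpoly
import Mathlib.LinearAlgebra.Matrix.Charpoly.Coeff
import Mathlib.LinearAlgebra.Matrix.Charpoly.FiniteField
import Mathlib.LinearAlgebra.Matrix.Charpoly.Eigs
import Mathlib.LinearAlgebra.Projection
import Mathlib.RingTheory.AdjoinRoot
import Mathlib.RingTheory.Polynomial.Basic
import Mathlib.FieldTheory.Finite.GaloisField
import Mathlib.FieldTheory.IsAlgClosed.Spectrum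
import Mathlib.LinearAlgebra.Matrix.GeneralLinearGroup.Defs

/-!
Semisimple linear maps: determined by the characteristic polynomial; centralisers have every
determinant over finite fields.
-/

set_option autoImplicit false

namespace Cfsg.Agent.Small.Semisimple

open Polynomial Module

universe u v

variable {K : Type u} [Field K]

/-- Multiplication by the root. -/
noncomputable def rootMul (q : K[X]) : Module.End K (AdjoinRoot q) :=
  LinearMap.mulLeft K (AdjoinRoot.root q)

theorem charpoly_rootMul {q : K[X]} (hq : q.Monic) :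
    haveI := (AdjoinRoot.powerBasis' hq).finite
    (rootMul q).charpoly = q := by
  haveI := (AdjoinRoot.powerBasis' hq).finite
  have h0 : q ≠ 0 := hq.ne_zero
  rw [← LinearMap.charpoly_toMatrix (rootMul q) (AdjoinRoot.powerBasis' hq).basis]
  change (Algebra.leftMulMatrix (AdjoinRoot.powerBasis' hq).basis (AdjoinRoot.root q)).charpoly = q
  have hg : (AdjoinRoot.powerBasis' hq).gen = AdjoinRoot.root q := rfl
  rw [← hg, charpoly_leftMulMatrix, hg, AdjoinRoot.minpoly_root h0, hq.leadingCoeff, inv_one, map_one,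
    mul_one]

theorem dvd_minpoly_of_dvd_charpoly {ι : Type*} [Fintype ι] [DecidableEq ι] (A : Matrix ι ι K)
    {q : K[X]} (hq : Irreducible q) (h : q ∣ A.charpoly) : q ∣ minpoly K A := by
  haveI : Fact (Irreducible q) := ⟨hq⟩
  set L := AdjoinRoot q
  let μ : L := AdjoinRoot.root q
  let B : Matrix ι ι L := A.map (algebraMap K L)
  cases isEmpty_or_nonempty ι
  · rw [Matrix.charpoly, Matrix.det_isEmpty] at h
    exact absurd (isUnit_of_dvd_one h) hq.not_isUnit
  have hμ : μ ∈ spectrum L B := by
    rw [Matrix.mem_spectrum_iff_isRoot_charpoly, Matrix.charpoly_map, IsRoot, eval_map,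
      ← aeval_def, AdjoinRoot.aeval_eq]
    exact AdjoinRoot.mk_eq_zero.2 h
  have h1 : eval μ ((minpoly K A).map (algebraMap K L)) ∈
      spectrum L (aeval B ((minpoly K A).map (algebraMap K L))) := spectrum.subset_polynomial_aeval B ((minpoly K A).map (algebraMap K L)) ⟨μ, hμ, rfl⟩
  have h2 : aeval B ((minpoly K A).map (algebraMap K L)) = 0 := by
    rw [aeval_map_algebraMap]
    have := Polynomial.aeval_algHom_apply ((Algebra.ofId K L).mapMatrix (m := ι)) A (minpoly K A)
    rw [minpoly.aeval, map_zero] at this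
    exact this
  rw [h2, spectrum.zero_eq, Set.mem_singleton_iff, eval_map, ← aeval_def, AdjoinRoot.aeval_eq] at h1
  exact AdjoinRoot.mk_eq_zero.1 h1

section

variable {V : Type v} [AddCommGroup V] [Module K V] [FiniteDimensional K V]

theorem exists_ker (f : Module.End K V) {q : K[X]} (hq : Irreducible q) (h : q ∣ f.charpoly) :
    ∃ v : V, v ≠ 0 ∧ aeval f q v = 0 := by
  classical
  let b := Module.finBasis K V
  have hm : q ∣ minpoly K f := by
    have := dvd_minpoly_of_dvd_charpoly (LinearMap.toMatrix b b f) hq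
      (by rwa [LinearMap.charpoly_toMatrix])
    rwa [← Matrix.minpoly_toLin b, Matrix.toLin_toMatrix] at this
  obtain ⟨r, hr⟩ := hm
  have hf := minpoly.aeval K f
  have hne : aeval f r ≠ 0 := by
    intro h0
    have hd : minpoly K f ∣ r := minpoly.dvd K f h0
    have hmn : minpoly K f ≠ 0 := minpoly.ne_zero (Algebra.IsIntegral.isIntegral f)
    have hr0 : r ≠ 0 := fun h => hmn (by rw [hr, h, mul_zero])
    rw [hr] at hd
    exact hq.not_isUnit (isUnit_of_dvd_one ((mul_dvd_mul_iff_right hr0).1 (by rwa [one_mul])))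
  obtain ⟨w, hw⟩ : ∃ w, aeval f r w ≠ 0 := by
    by_contra hc
    exact hne (LinearMap.ext fun w => not_not.1 fun h' => hc ⟨w, h'⟩)
  refine ⟨_, hw, ?_⟩
  rw [← Module.End.mul_apply, ← map_mul, ← hr, hf, LinearMap.zero_apply]

theorem exists_summand (f : Module.End K V) (hs : f.IsSemisimple) {q : K[X]} (hq : Irreducible q)
    (hm : q.Monic) (h : q ∣ f.charpoly) :
    ∃ (U : Submodule K V) (hU : U ∈ f.invtSubmodule) (e : (AdjoinRoot q × U) ≃ₗ[K] V),
      ∀ z, f (e z) = e ((rootMul q).prodMap (f.restrict hU) z) := by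
  obtain ⟨v, hv, hqv⟩ := exists_ker f hq h
  let φ : AdjoinRoot q →ₗ[K] V :=
    ((LinearMap.applyₗ v).comp (aeval f).toLinearMap).comp (AdjoinRoot.modByMonicHom hm)
  have hmk : ∀ p, φ (AdjoinRoot.mk q p) = aeval f p v := by
    intro p
    have hp := modByMonic_add_div p q
    calc φ (AdjoinRoot.mk q p) = aeval f (p %ₘ q) v := rfl
      _ = aeval f (p %ₘ q + p /ₘ q * q) v := by
        rw [map_add, map_mul, LinearMap.add_apply, Module.End.mul_apply, hqv, map_zero, add_zero]
      _ = aeval f p v := by rw [mul_comm, hp]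
  have hinj : Function.Injective φ := by
    rw [injective_iff_map_eq_zero]
    intro z hz
    obtain ⟨p, rfl⟩ := AdjoinRoot.mk_surjective z
    rw [hmk] at hz
    rw [AdjoinRoot.mk_eq_zero]
    by_contra hnd
    obtain ⟨a, b, hab⟩ := (hq.coprime_iff_not_dvd).2 hnd
    apply hv
    have := congrArg (fun g => aeval f g v) hab
    simpa [Module.End.mul_apply, hqv, hz] using this.symm
  have hcomm : ∀ z, f (φ z) = φ (rootMul q z) := by
    intro z
    obtain ⟨p, rfl⟩ := AdjoinRoot.mk_surjective z
    rw [rootMul, LinearMap.mulLeft_apply, ← AdjoinRoot.mk_X, ← map_mul, hmk, hmk, map_mul, aeval_X,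
      Module.End.mul_apply]
  have hW : LinearMap.range φ ∈ f.invtSubmodule := by
    rw [Module.End.mem_invtSubmodule_iff_forall_mem_of_mem]
    rintro _ ⟨z, rfl⟩
    exact ⟨_, (hcomm z).symm⟩
  obtain ⟨U, hU, hc⟩ := Module.End.isSemisimple_iff.1 hs _ hW
  refine ⟨U, hU, ((LinearEquiv.ofInjective φ hinj).prodCongr (LinearEquiv.refl K U)).trans
    (Submodule.prodEquivOfIsCompl _ _ hc), ?_⟩
  rintro ⟨z, u⟩
  simp [Submodule.coe_prodEquivOfIsCompl', hcomm]
  rfl

theorem charpoly_of_summand {f : Module.End K V} {q : K[X]} (hm : q.Monic) {U : Submodule K V}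
    {hU : U ∈ f.invtSubmodule} (e : (AdjoinRoot q × U) ≃ₗ[K] V)
    (he : ∀ z, f (e z) = e ((rootMul q).prodMap (f.restrict hU) z)) :
    f.charpoly = q * LinearMap.charpoly (f.restrict hU) := by
  haveI := (AdjoinRoot.powerBasis' hm).finite
  have : f = e.conj ((rootMul q).prodMap (f.restrict hU)) := by
    ext x
    rw [LinearEquiv.conj_apply_apply, ← he, LinearEquiv.apply_symm_apply]
  conv_lhs => rw [this]
  rw [LinearEquiv.charpoly_conj, LinearMap.charpoly_prodMap, charpoly_rootMul hm]

end

theorem similar_of_charpoly : ∀ (d : ℕ) {V W : Type v} [AddCommGroup V] [Module K V]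
    [FiniteDimensional K V] [AddCommGroup W] [Module K W] [FiniteDimensional K W]
    (f : Module.End K V) (g : Module.End K W), finrank K V ≤ d → f.IsSemisimple → g.IsSemisimple →
    f.charpoly = g.charpoly → ∃ e : V ≃ₗ[K] W, ∀ x, e (f x) = g (e x) := by
  intro d
  induction d using Nat.strong_induction_on with
  | _ d ih =>
    intro V W _ _ _ _ _ _ f g hd hf hg hc
    have hdim : finrank K V = finrank K W := by
      rw [← f.charpoly_natDegree, hc, g.charpoly_natDegree]
    rcases Nat.eq_zero_or_pos (finrank K V) with h0 | h0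
    · haveI : Subsingleton V := Module.finrank_zero_iff.1 h0
      haveI : Subsingleton W := Module.finrank_zero_iff.1 (hdim ▸ h0)
      exact ⟨LinearEquiv.ofFinrankEq V W hdim, fun x => Subsingleton.elim _ _⟩
    obtain ⟨q, hm, hq, hqd⟩ := Polynomial.exists_monic_irreducible_factor f.charpoly
      (not_isUnit_of_natDegree_pos _ (by rw [f.charpoly_natDegree]; exact h0))
    obtain ⟨U, hU, e, he⟩ := exists_summand f hf hq hm hqd
    obtain ⟨U', hU', e', he'⟩ := exists_summand g hg hq hm (hc ▸ hqd)
    have hcU : LinearMap.charpoly (f.restrict hU) = LinearMap.charpoly (g.restrict hU') :=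
      mul_left_cancel₀ hm.ne_zero (by rw [← charpoly_of_summand hm e he, hc, charpoly_of_summand hm e' he'])
    have hlt : finrank K U < d := by
      have h1 := congrArg natDegree (charpoly_of_summand hm e he)
      rw [f.charpoly_natDegree, natDegree_mul hm.ne_zero (LinearMap.charpoly_monic _).ne_zero,
        LinearMap.charpoly_natDegree] at h1
      have := hq.natDegree_pos
      omega
    obtain ⟨ψ, hψ⟩ := ih _ hlt (f.restrict hU) (g.restrict hU') le_rfl (hf.restrict hU) (hg.restrict hU') hcU
    refine ⟨e.symm.trans (((LinearEquiv.refl K (AdjoinRoot q)).prodCongr ψ).trans e'), fun x => ?_⟩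
    obtain ⟨⟨z, u⟩, rfl⟩ := e.surjective x
    rw [he]
    simp [he', hψ]

theorem exists_commute_det {V : Type v} [AddCommGroup V] [Module K V] [FiniteDimensional K V]
    [Finite K] (f : Module.End K V) (hf : f.IsSemisimple) (h0 : 0 < finrank K V) (c : K) :
    ∃ y : Module.End K V, y * f = f * y ∧ LinearMap.det y = c := by
  obtain ⟨q, hm, hq, hqd⟩ := Polynomial.exists_monic_irreducible_factor f.charpoly
    (not_isUnit_of_natDegree_pos _ (by rw [f.charpoly_natDegree]; exact h0))
  obtain ⟨U, hU, e, he⟩ := exists_summand f hf hq hm hqd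
  haveI : Fact (Irreducible q) := ⟨hq⟩
  haveI := (AdjoinRoot.powerBasis' hm).finite
  haveI : Finite (AdjoinRoot q) := Module.finite_of_finite K
  obtain ⟨z, hz⟩ := FiniteField.norm_surjective K (AdjoinRoot q) c
  refine ⟨e.conj ((LinearMap.mulLeft K z).prodMap LinearMap.id), ?_, ?_⟩
  · ext x
    obtain ⟨⟨w, u⟩, rfl⟩ := e.surjective x
    simp [Module.End.mul_apply, LinearEquiv.conj_apply_apply, he, rootMul, mul_left_comm]
  · rw [LinearEquiv.conj_apply, LinearMap.comp_assoc, LinearMap.det_conj, LinearMap.det_prodMap,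
      LinearMap.det_id, mul_one, ← hz]
    rfl

/-! ### Matrices -/

variable {n : ℕ}

open Matrix in
theorem matrix_isSemisimple (p : ℕ) [Fact p.Prime] [CharP K p] (g : GL (Fin n) K)
    (hg : (orderOf g).Coprime p) :
    Module.End.IsSemisimple (Matrix.toLin' (g : Matrix (Fin n) (Fin n) K)) := by
  have hm : ((orderOf g : ℕ) : K) ≠ 0 := by
    rw [Ne, CharP.cast_eq_zero_iff K p]
    intro h
    exact (Fact.out : p.Prime).one_lt.ne' (Nat.dvd_one.1 (hg ▸ Nat.dvd_gcd h dvd_rfl))
  refine Module.End.isSemisimple_of_squarefree_aeval_eq_zero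
    (p := X ^ orderOf g - 1) (X_pow_sub_one_separable_iff.2 hm).squarefree ?_
  rw [map_sub, map_pow, aeval_X, map_one]
  have : ((g : Matrix (Fin n) (Fin n) K)) ^ orderOf g = 1 := by
    rw [← Units.val_pow_eq_pow_val, pow_orderOf_eq_one, Units.val_one]
  rw [← Matrix.toLin'_pow, this, Matrix.toLin'_one, sub_eq_zero]
  rfl

open Matrix in
theorem isConj_of_charpoly (p : ℕ) [Fact p.Prime] [CharP K p] (g h : GL (Fin n) K)
    (hg : (orderOf g).Coprime p) (hh : (orderOf h).Coprime p)
    (hc : (g : Matrix (Fin n) (Fin n) K).charpoly = (h : Matrix (Fin n) (Fin n) K).charpoly) :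
    IsConj g h := by
  obtain ⟨e, he⟩ := similar_of_charpoly _ _ _ le_rfl (matrix_isSemisimple p g hg)
    (matrix_isSemisimple p h hh) (by rw [Matrix.charpoly_toLin', Matrix.charpoly_toLin', hc])
  let P : GL (Fin n) K := ⟨LinearMap.toMatrix' (e : (Fin n → K) →ₗ[K] (Fin n → K)),
    LinearMap.toMatrix' (e.symm : (Fin n → K) →ₗ[K] (Fin n → K)),
    by rw [← LinearMap.toMatrix'_comp, e.comp_symm, LinearMap.toMatrix'_id],
    by rw [← LinearMap.toMatrix'_comp, e.symm_comp, LinearMap.toMatrix'_id]⟩
  rw [isConj_iff]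
  refine ⟨P, mul_inv_eq_iff_eq_mul.2 (Units.ext ?_)⟩
  apply Matrix.toLin'.injective
  rw [Units.val_mul, Units.val_mul, Matrix.toLin'_mul, Matrix.toLin'_mul]
  refine LinearMap.ext fun x => ?_
  simp only [P, Matrix.toLin'_toMatrix', LinearMap.comp_apply, LinearEquiv.coe_coe]
  exact he x

open Matrix in
/-- The centraliser of a semisimple element has every determinant. -/
theorem exists_centralizing_det [Finite K] (p : ℕ) [Fact p.Prime] [CharP K p] (x g : GL (Fin n) K)
    (hx : (orderOf x).Coprime p) : ∃ y : GL (Fin n) K, y * x = x * y ∧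
      (y : Matrix (Fin n) (Fin n) K).det = (g : Matrix (Fin n) (Fin n) K).det := by
  rcases Nat.eq_zero_or_pos n with rfl | h0
  · exact ⟨1, by simp, by simp⟩
  obtain ⟨y, hy, hd⟩ := exists_commute_det _ (matrix_isSemisimple p x hx) (by simpa using h0)
    (g : Matrix (Fin n) (Fin n) K).det
  have hdet : (LinearMap.toMatrix' y).det = (g : Matrix (Fin n) (Fin n) K).det := by
    rw [LinearMap.det_toMatrix', hd]
  have hne : (LinearMap.toMatrix' y).det ≠ 0 := by
    rw [hdet]
    exact ((Matrix.isUnit_iff_isUnit_det _).1 g.isUnit).ne_zero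
  refine ⟨Matrix.GeneralLinearGroup.mkOfDetNeZero _ hne, ?_, hdet⟩
  apply Units.ext
  apply Matrix.toLin'.injective
  rw [Units.val_mul, Units.val_mul, Matrix.toLin'_mul, Matrix.toLin'_mul,
    Matrix.GeneralLinearGroup.val_mkOfDetNeZero, Matrix.toLin'_toMatrix']
  exact hy

end Cfsg.Agent.Small.Semisimple
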