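import Cfsg.Prelude.Def_ClassicalGeometry
import Cfsg.Agent.Lib.Small.InvolutionRing
import Cfsg.Agent.Lib.Small.Semisimple
import Cfsg.Agent.Lib.Classical.SymplecticIso

/-!
# Semisimple symplectic elements which are similar are conjugate
-/

set_option autoImplicit false
set_option linter.unusedSectionVars false

namespace Cfsg.Agent.Small.SymplecticSemisimple

open Matrix Cfsg.Agent.Small



variable {F : Type*} [Field F]

/-- A non-degenerate alternating form lives in even dimension. -/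
theorem exists_even : ∀ (d : ℕ) {V : Type*} [AddCommGroup V] [Module F V] [FiniteDimensional F V]
    {B : V →ₗ[F] V →ₗ[F] F}, Classical.SpCount.IsAltND B → Module.finrank F V = d → ∃ m, d = 2 * m := by
  intro d
  induction d using Nat.strong_induction_on with
  | _ d ih =>
    intro V _ _ _ B hB hd
    rcases Nat.eq_zero_or_pos d with rfl | h0
    · exact ⟨0, rfl⟩
    haveI : Nontrivial V := Module.nontrivial_of_finrank_pos (R := F) (by omega)
    obtain ⟨v, hv⟩ := exists_ne (0 : V)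
    obtain ⟨w, hw⟩ := Classical.SpCount.exists_pair hB hv
    have h := Classical.SpCount.finrank_comp hB hw
    obtain ⟨m, hm⟩ := ih _ (by omega) (Classical.SpCount.res_isAltND hB hw) rfl
    exact ⟨m + 1, by omega⟩

variable {ι : Type*} [Fintype ι] [DecidableEq ι]

/-- Every non-degenerate alternating matrix is congruent to the standard one. -/
theorem exists_std (G : Matrix ι ι F) (halt : ∀ v, v ⬝ᵥ (G *ᵥ v) = 0) (hG : IsUnit G.det) :
    ∃ (m : ℕ) (P : Matrix ι (Fin m ⊕ Fin m) F) (Q : Matrix (Fin m ⊕ Fin m) ι F),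
      Fintype.card ι = 2 * m ∧ Pᵀ * G * P = Matrix.J (Fin m) F ∧ P * Q = 1 ∧ Q * P = 1 := by
  have hB : Classical.SpCount.IsAltND (Matrix.toLinearMap₂' F G) := by
    refine ⟨fun v => by rw [Matrix.toLinearMap₂'_apply']; exact halt v, fun v hv => ?_⟩
    have h : ∀ w, (Gᵀ *ᵥ v) ⬝ᵥ w = 0 := fun w => by
      rw [Matrix.mulVec_transpose, ← Matrix.dotProduct_mulVec, ← Matrix.toLinearMap₂'_apply']
      exact hv w
    have h' : Gᵀ *ᵥ v = 0 := funext fun i => by simpa using h (Pi.single i 1)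
    by_contra hv0
    exact hG.ne_zero (by rw [← Matrix.det_transpose]; exact Matrix.exists_mulVec_eq_zero_iff.1 ⟨v, hv0, h'⟩)
  obtain ⟨m, hm⟩ := exists_even _ hB (Module.finrank_fintype_fun_eq_card F (η := ι))
  have hV : Module.finrank F (ι → F) = 2 * m := by rw [Module.finrank_fintype_fun_eq_card, hm]
  obtain ⟨f⟩ := Classical.SpCount.exists_fam m hB hV
  obtain ⟨b, hb⟩ : ∃ b, b = Classical.SpCount.famBasis hB hV f := ⟨_, rfl⟩
  refine ⟨m, (Pi.basisFun F ι).toMatrix b, b.toMatrix (Pi.basisFun F ι), hm, ?_,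
    Module.Basis.toMatrix_mul_toMatrix_flip _ _, Module.Basis.toMatrix_mul_toMatrix_flip _ _⟩
  have h1 := Classical.SpCount.toMatrix₂_basis hB hV f
  rw [← hb] at h1
  rw [← h1, ← LinearMap.toMatrix₂_mul_basis_toMatrix (Pi.basisFun F ι) (Pi.basisFun F ι) b b]
  congr 2
  ext i j
  rw [LinearMap.toMatrix₂_apply, Pi.basisFun_apply, Pi.basisFun_apply, Matrix.toLinearMap₂'_apply']
  simp

/-- Any two non-degenerate alternating matrices on the same index set are congruent. -/
theorem exists_congr (G₁ G₂ : Matrix ι ι F) (h₁ : ∀ v, v ⬝ᵥ (G₁ *ᵥ v) = 0) (hG₁ : IsUnit G₁.det)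
    (h₂ : ∀ v, v ⬝ᵥ (G₂ *ᵥ v) = 0) (hG₂ : IsUnit G₂.det) : ∃ P : Matrix ι ι F, Pᵀ * G₁ * P = G₂ := by
  obtain ⟨m, P₁, Q₁, hm₁, e₁, -, -⟩ := exists_std G₁ h₁ hG₁
  obtain ⟨m', P₂, Q₂, hm₂, e₂, hPQ, -⟩ := exists_std G₂ h₂ hG₂
  obtain rfl : m = m' := by omega
  refine ⟨P₁ * Q₂, ?_⟩
  calc (P₁ * Q₂)ᵀ * G₁ * (P₁ * Q₂) = Q₂ᵀ * (P₁ᵀ * G₁ * P₁) * Q₂ := by
        rw [Matrix.transpose_mul]; simp only [Matrix.mul_assoc]
    _ = (P₂ * Q₂)ᵀ * G₂ * (P₂ * Q₂) := by
        rw [e₁, ← e₂, Matrix.transpose_mul]; simp only [Matrix.mul_assoc]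
    _ = G₂ := by rw [hPQ, Matrix.transpose_one, Matrix.one_mul, Matrix.mul_one]

section adj

variable {m : ℕ}

/-- The adjoint with respect to the standard symplectic form. -/
noncomputable def adj (X : Matrix (Fin m ⊕ Fin m) (Fin m ⊕ Fin m) F) : Matrix (Fin m ⊕ Fin m) (Fin m ⊕ Fin m) F :=
  -(Matrix.J (Fin m) F * Xᵀ * Matrix.J (Fin m) F)

variable {X Y : Matrix (Fin m ⊕ Fin m) (Fin m ⊕ Fin m) F}

theorem J_J_mul {κ : Type*} (Z : Matrix (Fin m ⊕ Fin m) κ F) :
    Matrix.J (Fin m) F * (Matrix.J (Fin m) F * Z) = -Z := by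
  rw [← Matrix.mul_assoc, Matrix.J_squared, Matrix.neg_mul, Matrix.one_mul]

theorem adj_mul : adj (X * Y) = adj Y * adj X := by
  simp only [adj, Matrix.transpose_mul, Matrix.neg_mul, Matrix.mul_neg, neg_neg, Matrix.mul_assoc, J_J_mul]

theorem adj_one : adj (1 : Matrix (Fin m ⊕ Fin m) (Fin m ⊕ Fin m) F) = 1 := by
  rw [adj, Matrix.transpose_one, Matrix.mul_one, Matrix.J_squared, neg_neg]

theorem adj_add : adj (X + Y) = adj X + adj Y := by
  simp only [adj, Matrix.transpose_add, Matrix.mul_add, Matrix.add_mul, neg_add]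

theorem adj_neg : adj (-X) = -adj X := by
  simp only [adj, Matrix.transpose_neg, Matrix.neg_mul, Matrix.mul_neg]

theorem adj_zero : adj (0 : Matrix (Fin m ⊕ Fin m) (Fin m ⊕ Fin m) F) = 0 := by
  simp [adj]

theorem adj_adj : adj (adj X) = X := by
  simp only [adj, Matrix.transpose_neg, Matrix.transpose_mul, Matrix.transpose_transpose, Matrix.J_transpose,
    Matrix.neg_mul, Matrix.mul_neg, neg_neg, Matrix.mul_assoc, J_J_mul, Matrix.J_squared, Matrix.mul_one]

theorem adj_mul_self_eq_one : adj X * X = 1 ↔ X ∈ Matrix.symplecticGroup (Fin m) F := by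
  rw [SymplecticGroup.mem_iff', adj, Matrix.neg_mul, Matrix.mul_assoc, Matrix.mul_assoc, ← Matrix.mul_assoc Xᵀ]
  constructor
  · intro h
    have := congrArg (fun Z => Matrix.J (Fin m) F * Z) h
    simp only [Matrix.mul_neg, J_J_mul, neg_neg, Matrix.mul_one] at this
    exact this
  · intro h
    rw [h, Matrix.J_squared, neg_neg]

theorem form_alt {κ : Type*} [Fintype κ] (Z : Matrix (Fin m ⊕ Fin m) κ F) (v : κ → F) :
    v ⬝ᵥ ((Zᵀ * Matrix.J (Fin m) F * Z) *ᵥ v) = 0 := by
  rw [← Matrix.mulVec_mulVec, ← Matrix.mulVec_mulVec, Matrix.dotProduct_mulVec, Matrix.vecMul_transpose,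
    ← Classical.SpCount.stdForm_apply]
  exact (Classical.SpCount.stdForm_isAltND m).self _

/-- A self-adjoint idempotent commuting with `adj g * g` carries a square root of it. -/
theorem exists_part (g e : Matrix (Fin m ⊕ Fin m) (Fin m ⊕ Fin m) F) (hg : IsUnit g.det) (he : e * e = e)
    (hae : adj e = e) (hc : e * (adj g * g) = adj g * g * e) :
    ∃ k, e * k = k ∧ k * e = k ∧ adj k * k = adj g * g * e := by
  classical
  obtain ⟨Z, hZ⟩ : ∃ Z, Z = LinearMap.range (Matrix.toLin' e) := ⟨_, rfl⟩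
  obtain ⟨U, hU⟩ : ∃ U : Matrix (Fin m ⊕ Fin m) (Fin (Module.finrank F Z)) F, Matrix.toLin' U =
      Z.subtype.comp ((Module.finBasis F Z).equivFun.symm : (Fin _ → F) →ₗ[F] Z) := Matrix.toLin'.surjective _
  obtain ⟨W, hW⟩ : ∃ W : Matrix (Fin (Module.finrank F Z)) (Fin m ⊕ Fin m) F, Matrix.toLin' W =
      ((Module.finBasis F Z).equivFun : Z →ₗ[F] (Fin _ → F)).comp
        (LinearMap.codRestrict Z (Matrix.toLin' e) (fun x => hZ ▸ LinearMap.mem_range_self _ x)) :=
    Matrix.toLin'.surjective _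
  have hUW : U * W = e := by
    apply Matrix.toLin'.injective
    rw [Matrix.toLin'_mul, hU, hW]
    ext x
    simp
  have hWU : W * U = 1 := by
    apply Matrix.toLin'.injective
    rw [Matrix.toLin'_mul, hU, hW, Matrix.toLin'_one]
    refine LinearMap.ext fun x => ?_
    obtain ⟨y, hy⟩ : ∃ y, Matrix.toLin' e y = (((Module.finBasis F Z).equivFun.symm x : Z) : Fin m ⊕ Fin m → F) :=
      LinearMap.mem_range.1 (hZ ▸ Submodule.coe_mem _)
    have hfix : ∀ z : Z, LinearMap.codRestrict Z (Matrix.toLin' e) (fun x => hZ ▸ LinearMap.mem_range_self _ x)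
        (z : Fin m ⊕ Fin m → F) = z := fun z => by
      obtain ⟨y, hy⟩ : ∃ y, Matrix.toLin' e y = (z : Fin m ⊕ Fin m → F) := LinearMap.mem_range.1 (hZ ▸ z.2)
      refine Subtype.ext ?_
      rw [LinearMap.codRestrict_apply, ← hy, ← LinearMap.comp_apply, ← Matrix.toLin'_mul, he]
    simp only [LinearMap.comp_apply, LinearEquiv.coe_coe, Submodule.coe_subtype, LinearMap.id_apply]
    rw [hfix, LinearEquiv.apply_symm_apply]
  have heU : e * U = U := by rw [← hUW, Matrix.mul_assoc, hWU, Matrix.mul_one]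
  obtain ⟨J₀, hJ⟩ : ∃ J₀, J₀ = Matrix.J (Fin m) F := ⟨_, rfl⟩
  have hu : IsUnit (Uᵀ * J₀ * U).det := by
    refine Matrix.isUnit_det_of_left_inverse (B := W * (-J₀) * Wᵀ) ?_
    calc W * (-J₀) * Wᵀ * (Uᵀ * J₀ * U) = W * (-(J₀ * (U * W)ᵀ * J₀)) * U := by
          rw [Matrix.transpose_mul]; simp only [Matrix.mul_assoc, Matrix.neg_mul, Matrix.mul_neg]
      _ = 1 := by rw [hUW, hJ, ← adj, hae, Matrix.mul_assoc, heU, hWU]
  have hu' : IsUnit ((g * U)ᵀ * J₀ * (g * U)).det := by
    obtain ⟨H', hH'⟩ : ∃ H', H' = g⁻¹ * adj g⁻¹ := ⟨_, rfl⟩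
    have hH : H' * (adj g * g) = 1 := by
      rw [hH', Matrix.mul_assoc, ← Matrix.mul_assoc (adj g⁻¹), ← adj_mul, Matrix.mul_nonsing_inv _ hg, adj_one,
        Matrix.one_mul, Matrix.nonsing_inv_mul _ hg]
    refine Matrix.isUnit_det_of_left_inverse (B := W * H' * (-J₀) * Wᵀ) ?_
    calc W * H' * (-J₀) * Wᵀ * ((g * U)ᵀ * J₀ * (g * U))
          = W * H' * (-(J₀ * (g * (U * W))ᵀ * J₀) * g) * U := by
          simp only [Matrix.transpose_mul, Matrix.mul_assoc, Matrix.neg_mul, Matrix.mul_neg]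
      _ = W * H' * (e * (adj g * g)) * U := by rw [hUW, hJ, ← adj, adj_mul, hae, Matrix.mul_assoc e]
      _ = 1 := by
          rw [hc, ← Matrix.mul_assoc, Matrix.mul_assoc W H', hH, Matrix.mul_one, Matrix.mul_assoc, heU, hWU]
  obtain ⟨P, hP⟩ := exists_congr _ _ (fun v => hJ ▸ form_alt U v) hu (fun v => hJ ▸ form_alt (g * U) v) hu'
  refine ⟨U * P * W, ?_, ?_, ?_⟩
  · rw [← Matrix.mul_assoc, ← Matrix.mul_assoc, heU]
  · rw [← hUW, Matrix.mul_assoc (U * P), ← Matrix.mul_assoc W, hWU, Matrix.one_mul]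
  · calc adj (U * P * W) * (U * P * W)
          = -(J₀ * (Wᵀ * (Pᵀ * (Uᵀ * J₀ * U) * P) * W)) := by
          simp only [adj, ← hJ, Matrix.transpose_mul, Matrix.mul_assoc, Matrix.neg_mul, Matrix.mul_neg]
      _ = -(J₀ * (g * (U * W))ᵀ * J₀) * (g * (U * W)) := by
          rw [hP]
          simp only [Matrix.transpose_mul, Matrix.mul_assoc, Matrix.neg_mul]
      _ = adj g * g * e := by
          rw [hUW, hJ, ← adj, adj_mul, hae, ← Matrix.mul_assoc, Matrix.mul_assoc e, hc, Matrix.mul_assoc _ e, he]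

end adj

/-- The ring theoretic part of the construction. -/
theorem exists_parts {S : Type*} [CommRing S] [Finite S] (φ : S →+* S) (hφ : ∀ x, φ (φ x) = x) (p : ℕ)
    [hp : Fact p.Prime] (hp0 : (p : S) = 0) {A H : S} {M : ℕ} (hA : φ A * A = 1) (hM : A ^ M = 1)
    (hMp : M.Coprime p) (hH : φ H = H) (hHu : IsUnit H) :
    ∃ a b x : S, φ a = a ∧ φ b = b ∧ a * a = a ∧ b * b = b ∧ a * b = 0 ∧ A * a = a ∧ A * b = -b ∧
      x * φ x = H * (1 - a - b) ∧ x * (1 - a - b) = x := by
  have hunit : ∀ k : ℕ, k.Coprime p → IsUnit (k : S) := fun k hk => by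
    obtain ⟨u, v, huv⟩ := (Nat.isCoprime_iff_coprime.2 hk)
    refine .of_mul_eq_one (u : S) ?_
    have := congrArg (Int.cast : ℤ → S) huv
    push_cast at this
    rw [hp0, mul_zero, add_zero, mul_comm] at this
    exact this
  obtain ⟨c, hc⟩ := (hunit M hMp).exists_left_inv
  obtain ⟨e, he⟩ : ∃ e, e = c * ∑ i ∈ Finset.range M, (A ^ 2) ^ i := ⟨_, rfl⟩
  have hM2 : (A ^ 2) ^ M = 1 := by rw [← pow_mul, mul_comm, pow_mul, hM, one_pow]
  have hAe : A ^ 2 * e = e := by
    have h : (∑ i ∈ Finset.range M, (A ^ 2) ^ i) * (A ^ 2 - 1) = 0 := by rw [geom_sum_mul, hM2, sub_self]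
    rw [he]
    linear_combination c * h
  have hpow : ∀ i, (A ^ 2) ^ i * e = e := by
    intro i
    induction i with
    | zero => rw [pow_zero, one_mul]
    | succ i ih => rw [pow_succ, mul_assoc, hAe, ih]
  have hee : e * e = e := by
    conv_lhs => arg 1; rw [he]
    rw [mul_assoc, Finset.sum_mul, Finset.sum_congr rfl fun i _ => hpow i, Finset.sum_const, Finset.card_range,
      nsmul_eq_mul, ← mul_assoc, hc, one_mul]
  have hφc : φ c = c := by
    have h1 := congrArg φ hc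
    rw [map_mul, map_natCast, map_one] at h1
    linear_combination c * h1 - φ c * hc
  have hφA : φ A ^ 2 * e = e := by
    have h : φ A ^ 2 * A ^ 2 = 1 := by rw [← mul_pow, hA, one_pow]
    linear_combination (-(φ A) ^ 2) * hAe + e * h
  have hpow' : ∀ i, (φ A ^ 2) ^ i * e = e := by
    intro i
    induction i with
    | zero => rw [pow_zero, one_mul]
    | succ i ih => rw [pow_succ, mul_assoc, hφA, ih]
  have hφe : φ e = e := by
    have h1 : φ e * e = e := by
      rw [he, map_mul, map_sum, hφc]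
      simp only [map_pow]
      rw [← he, mul_assoc, Finset.sum_mul, Finset.sum_congr rfl fun i _ => hpow' i, Finset.sum_const,
        Finset.card_range, nsmul_eq_mul, ← mul_assoc, hc, one_mul]
    have h2 := congrArg φ h1
    rw [map_mul, hφ] at h2
    rw [← h2, mul_comm, h1]
  obtain ⟨y, hy⟩ : ∃ y, (A ^ 2 - 1) * y = 1 - e := by
    obtain ⟨w, hw⟩ : (A ^ 2 - 1) ∣ ∑ i ∈ Finset.range M, ((A ^ 2) ^ i - 1) :=
      Finset.dvd_sum fun i _ => sub_one_dvd_pow_sub_one _ i
    refine ⟨-c * w, ?_⟩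
    rw [Finset.sum_sub_distrib, Finset.sum_const, Finset.card_range, nsmul_eq_mul, mul_one] at hw
    rw [he]
    linear_combination c * hw + hc
  obtain ⟨a, ha1, ha2, ha3, ha4, ha5⟩ : ∃ a, a * a = a ∧ a * e = a ∧ φ a = a ∧ A * a = a ∧
      A * (e - a) = -(e - a) := by
    rcases (Nat.coprime_or_dvd_of_prime hp.out 2) with h | h
    · obtain ⟨t, ht⟩ := (hunit 2 h.symm).exists_left_inv
      push_cast at ht
      refine ⟨t * ((1 + A) * e), ?_, ?_, ?_, ?_, ?_⟩
      · linear_combination (t ^ 2 * e) * hAe + (t ^ 2 * (1 + 2 * A)) * hee + t ^ 2 * hee - t * (1 + A) * hee +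
          t * (1 + A) * e * ht + t * (1 + A) * hee
      · linear_combination t * (1 + A) * hee
      · have hφt : φ t = t := by
          have h1 := congrArg φ ht
          rw [map_mul, map_ofNat, map_one] at h1
          linear_combination t * h1 - φ t * ht
        have : φ A * e = A * e := by linear_combination (-(φ A)) * hAe + A * e * hA
        rw [map_mul, map_mul, map_add, map_one, hφt, hφe]
        linear_combination t * this
      · linear_combination t * hAe
      · linear_combination (-(1 + A) * e) * ht - t * hAe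
    · obtain rfl : p = 2 := (Nat.prime_dvd_prime_iff_eq hp.out Nat.prime_two).1 h
      have hAe' : A * e = e := by
        obtain ⟨r, hr⟩ := Nat.odd_iff.2 (Nat.odd_iff.1 (Nat.coprime_two_right.1 hMp))
        calc A * e = A ^ M * A * e := by rw [hM, one_mul]
          _ = (A ^ 2) ^ (r + 1) * e := by rw [← pow_succ, ← pow_mul, hr]; ring_nf
          _ = e := hpow _
      exact ⟨e, hee, hee, hφe, hAe', by rw [sub_self, mul_zero, neg_zero]⟩
  -- the remaining part
  obtain ⟨I, hI⟩ : ∃ I, I = Ideal.span ({e} : Set S) := ⟨_, rfl⟩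
  have hIle : I ≤ I.comap φ := by
    rw [hI, Ideal.span_le, Set.singleton_subset_iff, SetLike.mem_coe, Ideal.mem_comap, hφe]
    exact Ideal.mem_span_singleton_self e
  haveI : Finite (S ⧸ I) := Finite.of_surjective _ Ideal.Quotient.mk_surjective
  let π := Ideal.Quotient.mk I
  let ψ : S ⧸ I →+* S ⧸ I := Ideal.quotientMap I φ hIle
  have hψ : ∀ s, ψ (π s) = π (φ s) := fun s => Ideal.quotientMap_mk
  have hψψ : ∀ z, ψ (ψ z) = z := fun z => by
    obtain ⟨s, rfl⟩ := Ideal.Quotient.mk_surjective z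
    rw [hψ, hψ, hφ]
  have hπe : π e = 0 := Ideal.Quotient.eq_zero_iff_mem.2 (hI ▸ Ideal.mem_span_singleton_self e)
  obtain ⟨u, hu⟩ : IsUnit (π A - ψ (π A)) := by
    have h := congrArg π hy
    rw [map_mul, map_sub π 1 e, hπe, sub_zero, map_one] at h
    refine .of_mul_eq_one (π A * π y) ?_
    rw [hψ, ← h, ← map_sub, ← map_mul, ← map_mul, ← map_mul]
    congr 1
    linear_combination (-y) * hA
  have hψu : ψ (↑u⁻¹ : S ⧸ I) = -↑u⁻¹ := by
    have h1 : ψ (u : S ⧸ I) = -u := by rw [hu, map_sub, hψψ, neg_sub]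
    have h2 := congrArg ψ u.mul_inv
    rw [map_mul, h1, map_one] at h2
    linear_combination (-(↑u⁻¹ : S ⧸ I)) * h2 - ψ (↑u⁻¹ : S ⧸ I) * u.mul_inv
  obtain ⟨z, hz⟩ := InvolutionRing.exists_norm ψ hψψ (ω := π A) (t := π A * ↑u⁻¹) (hu ▸ u.isUnit)
    (by rw [map_mul, hψu]; linear_combination u.mul_inv - (↑u⁻¹ : S ⧸ I) * hu)
    (y := π H) (by rw [hψ, hH]) (hHu.map π)
  obtain ⟨x, rfl⟩ := Ideal.Quotient.mk_surjective z
  obtain ⟨w, hw⟩ : e ∣ x * φ x - H := by
    rw [← Ideal.mem_span_singleton, ← hI, ← Ideal.Quotient.eq, map_mul, ← hψ]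
    exact hz
  refine ⟨a, e - a, (1 - e) * x, ha3, by rw [map_sub, hφe, ha3], ha1, ?_, ?_, ha4, ha5, ?_, ?_⟩
  · linear_combination hee + ha1 - 2 * ha2
  · linear_combination ha2 - ha1
  · rw [map_mul, map_sub, map_one, hφe]
    linear_combination (1 - e) ^ 2 * hw + (H - (1 - e) * w) * hee
  · linear_combination x * hee

variable [Finite F] {m : ℕ} (p : ℕ) [Fact p.Prime] [CharP F p]

/-- A semisimple symplectic element is conjugate in the symplectic group to every symplectic element similar to it. -/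
theorem conj_of_similar (A B : Matrix.symplecticGroup (Fin m) F) (hA : (orderOf A).Coprime p)
    (g : Matrix (Fin m ⊕ Fin m) (Fin m ⊕ Fin m) F) (hg : IsUnit g.det) (hgA : g * A.1 = B.1 * g) :
    IsConj A B := by
  classical
  obtain ⟨H, hH⟩ : ∃ H, H = adj g * g := ⟨_, rfl⟩
  have hA1 : adj A.1 * A.1 = 1 := adj_mul_self_eq_one.2 A.2
  have hB1 : adj B.1 * B.1 = 1 := adj_mul_self_eq_one.2 B.2
  have hHA : A.1 * H = H * A.1 := by
    have e1 : adj A.1 * (H * A.1) = H := by
      calc adj A.1 * (H * A.1) = adj (g * A.1) * (g * A.1) := by rw [hH, adj_mul]; simp only [Matrix.mul_assoc]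
        _ = adj g * (adj B.1 * B.1) * g := by rw [hgA, adj_mul]; simp only [Matrix.mul_assoc]
        _ = H := by rw [hB1, Matrix.mul_one, hH]
    calc A.1 * H = A.1 * (adj A.1 * (H * A.1)) := by rw [e1]
      _ = H * A.1 := by rw [← Matrix.mul_assoc, mul_eq_one_comm.1 hA1, Matrix.one_mul]
  have hHadj : adj H = H := by rw [hH, adj_mul, adj_adj]
  have hHdet : IsUnit H.det := by
    rw [hH, Matrix.det_mul]
    refine IsUnit.mul ?_ hg
    have := congrArg Matrix.det (show adj g * adj g⁻¹ = 1 by rw [← adj_mul, Matrix.nonsing_inv_mul _ hg, adj_one])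
    rw [Matrix.det_mul, Matrix.det_one] at this
    exact .of_mul_eq_one _ this
  obtain ⟨R, hR⟩ : ∃ R, R = Subring.closure ({A.1, H} : Set (Matrix (Fin m ⊕ Fin m) (Fin m ⊕ Fin m) F)) := ⟨_, rfl⟩
  have hcomm : ∀ x ∈ R, ∀ y ∈ R, x * y = y * x := by
    have h1 : R ≤ Subring.centralizer {A.1, H} := by
      rw [hR, Subring.closure_le]
      rintro x (rfl | rfl) <;> refine Subring.mem_centralizer_iff.2 ?_ <;> rintro y (rfl | rfl)
      exacts [rfl, hHA.symm, hHA, rfl]
    have h2 : R ≤ Subring.centralizer (R : Set (Matrix (Fin m ⊕ Fin m) (Fin m ⊕ Fin m) F)) := by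
      conv_lhs => rw [hR]
      rw [Subring.closure_le]
      exact fun x hx => Subring.mem_centralizer_iff.2 fun y hy => (Subring.mem_centralizer_iff.1 (h1 hy) x hx).symm
    exact fun x hx y hy => Subring.mem_centralizer_iff.1 (h2 hy) x hx
  have hAR : A.1 ∈ R := hR ▸ Subring.subset_closure (Or.inl rfl)
  have hHR : H ∈ R := hR ▸ Subring.subset_closure (Or.inr rfl)
  have hM : A.1 ^ orderOf A = 1 := by rw [← SubmonoidClass.coe_pow, pow_orderOf_eq_one, OneMemClass.coe_one]
  have hadjA : adj A.1 ∈ R := by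
    have hpos : 0 < orderOf A := orderOf_pos A
    have : adj A.1 = A.1 ^ (orderOf A - 1) := by
      calc adj A.1 = adj A.1 * (A.1 * A.1 ^ (orderOf A - 1)) := by
            rw [← pow_succ', Nat.sub_add_cancel hpos, hM, Matrix.mul_one]
        _ = A.1 ^ (orderOf A - 1) := by rw [← Matrix.mul_assoc, hA1, Matrix.one_mul]
    rw [this]
    exact pow_mem hAR _
  have hstab : ∀ x ∈ R, adj x ∈ R := by
    intro x hx
    rw [hR] at hx
    induction hx using Subring.closure_induction with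
    | mem x h =>
      rcases h with rfl | rfl
      · exact hadjA
      · rw [hHadj]; exact hHR
    | zero => rw [adj_zero]; exact zero_mem _
    | one => rw [adj_one]; exact one_mem _
    | add x y _ _ hx hy => rw [adj_add]; exact add_mem hx hy
    | neg x _ hx => rw [adj_neg]; exact neg_mem hx
    | mul x y _ _ hx hy => rw [adj_mul]; exact mul_mem hy hx
  letI : CommRing R := { (inferInstance : Ring R) with mul_comm := fun x y => Subtype.ext (hcomm x x.2 y y.2) }
  let φ : R →+* R :=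
    { toFun := fun x => ⟨adj x.1, hstab x x.2⟩
      map_one' := Subtype.ext adj_one
      map_mul' := fun x y => Subtype.ext (by
        show adj (x.1 * y.1) = adj x.1 * adj y.1
        rw [adj_mul, hcomm _ (hstab _ y.2) _ (hstab _ x.2)])
      map_zero' := Subtype.ext adj_zero
      map_add' := fun x y => Subtype.ext adj_add }
  haveI : Finite R := Finite.of_injective _ Subtype.val_injective
  have hp0 : (p : R) = 0 := by
    refine Subtype.ext ?_
    show ((p : R) : Matrix (Fin m ⊕ Fin m) (Fin m ⊕ Fin m) F) = 0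
    rw [Subring.coe_natCast]
    ext i j
    simp [Matrix.natCast_apply, CharP.cast_eq_zero]
  have hHu : IsUnit (⟨H, hHR⟩ : R) := by
    have hinj : Function.Injective (fun x : R => (⟨H, hHR⟩ : R) * x) := fun x y h => by
      refine Subtype.ext ?_
      have h' : H * x.1 = H * y.1 := congrArg Subtype.val h
      rw [← Matrix.nonsing_inv_mul_cancel_left H x.1 hHdet, h', Matrix.nonsing_inv_mul_cancel_left H y.1 hHdet]
    obtain ⟨K, hK⟩ := (Finite.injective_iff_surjective.1 hinj) 1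
    exact .of_mul_eq_one K hK
  obtain ⟨a, b, x, ha, hb, haa, hbb, hab, hAa, hAb, hx, hxc⟩ :=
    exists_parts φ (fun x => Subtype.ext adj_adj) p hp0 (A := (⟨A.1, hAR⟩ : R)) (H := ⟨H, hHR⟩)
      (M := orderOf A) (Subtype.ext hA1) (Subtype.ext (by rw [SubmonoidClass.coe_pow]; exact hM)) hA
      (Subtype.ext hHadj) hHu
  obtain ⟨ka, ka1, ka2, ka3⟩ := exists_part g a.1 hg (congrArg Subtype.val haa) (congrArg Subtype.val ha)
    (by rw [← hH]; exact hcomm _ a.2 _ hHR)
  obtain ⟨kb, kb1, kb2, kb3⟩ := exists_part g b.1 hg (congrArg Subtype.val hbb) (congrArg Subtype.val hb)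
    (by rw [← hH]; exact hcomm _ b.2 _ hHR)
  rw [← hH] at ka3 kb3
  have hab' : a.1 * b.1 = 0 := congrArg Subtype.val hab
  have hba' : b.1 * a.1 = 0 := by rw [hcomm _ b.2 _ a.2, hab']
  have hax : a.1 * x.1 = 0 := congrArg Subtype.val (show a * x = 0 by
    linear_combination (-a) * hxc - x * haa - x * hab)
  have hbx : b.1 * x.1 = 0 := congrArg Subtype.val (show b * x = 0 by
    linear_combination (-b) * hxc - x * hbb - x * hab)
  have hxa : x.1 * a.1 = 0 := by rw [hcomm _ x.2 _ a.2, hax]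
  have hxb : x.1 * b.1 = 0 := by rw [hcomm _ x.2 _ b.2, hbx]
  have hadja : adj ka = adj ka * a.1 := by
    conv_lhs => rw [← ka1, adj_mul, show adj a.1 = a.1 from congrArg Subtype.val ha]
  have hadjb : adj kb = adj kb * b.1 := by
    conv_lhs => rw [← kb1, adj_mul, show adj b.1 = b.1 from congrArg Subtype.val hb]
  have hxx : adj x.1 * x.1 = H * (1 - a.1 - b.1) := by
    rw [hcomm _ (hstab _ x.2) _ x.2]
    exact congrArg Subtype.val hx
  have z1 : adj ka * kb = 0 := by
    rw [hadja, ← kb1, Matrix.mul_assoc, ← Matrix.mul_assoc a.1, hab', Matrix.zero_mul, Matrix.mul_zero]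
  have z2 : adj kb * ka = 0 := by
    rw [hadjb, ← ka1, Matrix.mul_assoc, ← Matrix.mul_assoc b.1, hba', Matrix.zero_mul, Matrix.mul_zero]
  have z3 : adj ka * x.1 = 0 := by rw [hadja, Matrix.mul_assoc, hax, Matrix.mul_zero]
  have z4 : adj kb * x.1 = 0 := by rw [hadjb, Matrix.mul_assoc, hbx, Matrix.mul_zero]
  have z5 : adj x.1 * ka = 0 := by rw [← adj_adj (X := ka), ← adj_mul, z3, adj_zero]
  have z6 : adj x.1 * kb = 0 := by rw [← adj_adj (X := kb), ← adj_mul, z4, adj_zero]
  obtain ⟨k, hk⟩ : ∃ k, k = ka + kb + x.1 := ⟨_, rfl⟩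
  have hkH : adj k * k = H := by
    rw [hk, adj_add, adj_add]
    simp only [Matrix.add_mul, Matrix.mul_add, z1, z2, z3, z4, z5, z6, ka3, kb3, hxx, Matrix.mul_sub, Matrix.mul_one,
      add_zero, zero_add]
    abel
  have hAa' : A.1 * a.1 = a.1 := congrArg Subtype.val hAa
  have hAb' : A.1 * b.1 = -b.1 := congrArg Subtype.val hAb
  have hkA : A.1 * k = k * A.1 := by
    have e1 : A.1 * ka = ka * A.1 := by
      have h1 : A.1 * ka = ka := by rw [← ka1, ← Matrix.mul_assoc, hAa']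
      have h2 : ka * A.1 = ka := by rw [← ka2, Matrix.mul_assoc, hcomm _ a.2 _ hAR, hAa']
      rw [h1, h2]
    have e2 : A.1 * kb = kb * A.1 := by
      have h1 : A.1 * kb = -kb := by rw [← kb1, ← Matrix.mul_assoc, hAb', Matrix.neg_mul]
      have h2 : kb * A.1 = -kb := by rw [← kb2, Matrix.mul_assoc, hcomm _ b.2 _ hAR, hAb', Matrix.mul_neg]
      rw [h1, h2]
    rw [hk, Matrix.mul_add, Matrix.mul_add, Matrix.add_mul, Matrix.add_mul, e1, e2, hcomm _ hAR _ x.2]
  have hkdet : IsUnit k.det := by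
    have := congrArg Matrix.det hkH
    rw [Matrix.det_mul] at this
    exact isUnit_of_mul_isUnit_right (this ▸ hHdet)
  obtain ⟨u, hu⟩ : ∃ u, u = g * k⁻¹ := ⟨_, rfl⟩
  have husp : u ∈ Matrix.symplecticGroup (Fin m) F := by
    rw [← adj_mul_self_eq_one, hu, adj_mul, Matrix.mul_assoc, ← Matrix.mul_assoc (adj g), ← hH, ← hkH,
      Matrix.mul_assoc (adj k), Matrix.mul_nonsing_inv _ hkdet, Matrix.mul_one, ← adj_mul,
      Matrix.mul_nonsing_inv _ hkdet, adj_one]
  rw [isConj_iff]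
  refine ⟨⟨u, husp⟩, mul_inv_eq_iff_eq_mul.2 (Subtype.ext ?_)⟩
  show u * A.1 = B.1 * u
  rw [hu, ← Matrix.mul_assoc, ← hgA, Matrix.mul_assoc g A.1, Matrix.mul_assoc g]
  congr 1
  calc k⁻¹ * A.1 = k⁻¹ * (A.1 * k) * k⁻¹ := by
        rw [Matrix.mul_assoc, Matrix.mul_assoc A.1, Matrix.mul_nonsing_inv _ hkdet, Matrix.mul_one]
    _ = A.1 * k⁻¹ := by rw [hkA, Matrix.nonsing_inv_mul_cancel_left _ _ hkdet]

end Cfsg.Agent.Small.SymplecticSemisimple
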