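import Cfsg.Agent.Lib.Small.NilpotentCommutant
import Cfsg.Agent.Lib.Small.SymplecticElems
import Cfsg.Agent.Lib.Small.SymplecticSemisimple
import Cfsg.Agent.Lib.Small.PSLPrimeGraph

/-!
# Adjacency in the prime graph of `PSp_2n(q)`
-/

set_option autoImplicit false
set_option linter.unusedSectionVars false

namespace Cfsg.Agent.Small.SpPrimeGraph

open Module Polynomial Cfsg.Agent.Small.NilCommutant Cfsg.Agent.Classical.SpCount

section Field

variable {K : Type*} [Field K] [Fintype K] {V : Type*} [AddCommGroup V] [Module K V] [FiniteDimensional K V]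

/-- An isometry of order `M` whose powers are fixed-point-free, in the least possible dimension,
forces `-1` to be a power of `q` modulo `M`. -/
theorem exists_pow_eq_neg_one {M : ℕ} (hM : 1 < M) (R : V →ₗ[K] V) (β : V →ₗ[K] V →ₗ[K] K)
    (hdim : finrank K V = orderOf (Fintype.card K : ZMod M)) [Nontrivial V] (hR : R ^ M = 1)
    (hfree : ∀ t : ℕ, t.Prime → t ∣ M → ∀ v, (R ^ (M / t)) v = v → v = 0)
    (hβ : ∀ y, (∀ x, β x y = 0) → y = 0) (hiso : ∀ x y, β (R x) (R y) = β x y) :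
    ∃ i : ℕ, (Fintype.card K : ZMod M) ^ i = -1 := by
  classical
  have hint : IsIntegral K R := Algebra.IsIntegral.isIntegral R
  obtain ⟨g, hgirr, hgdvd⟩ := WfDvdMonoid.exists_irreducible_factor
    (minpoly.not_isUnit K R) (minpoly.ne_zero hint)
  obtain ⟨v, hv0, hv⟩ : ∃ v : V, v ≠ 0 ∧ aeval R g v = 0 := by
    by_contra! hcon
    obtain ⟨h, hh⟩ := hgdvd
    have hh0 : h ≠ 0 := fun h0 => minpoly.ne_zero hint (by rw [hh, h0, mul_zero])
    have hh1 : aeval R h = 0 := LinearMap.ext fun v => by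
      by_contra hne
      refine hcon _ hne ?_
      have := LinearMap.congr_fun (minpoly.aeval K R) v
      rwa [hh, map_mul, Module.End.mul_apply] at this
    have := natDegree_le_of_dvd (minpoly.dvd K R hh1) hh0
    have hdeg : (minpoly K R).natDegree = g.natDegree + h.natDegree := by
      rw [hh]; exact natDegree_mul hgirr.ne_zero hh0
    have := hgirr.natDegree_pos
    omega
  haveI : Fact (Irreducible g) := ⟨hgirr⟩
  have hXM : g ∣ X ^ M - 1 := hgdvd.trans (minpoly.dvd K R (by simp [hR]))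
  haveI : Module.Finite K (AdjoinRoot g) := (AdjoinRoot.powerBasis hgirr.ne_zero).finite
  haveI : Finite (AdjoinRoot g) := Module.finite_of_finite K
  obtain ⟨z, hz⟩ : ∃ z, z = AdjoinRoot.root g := ⟨_, rfl⟩
  have hzM : z ^ M = 1 := by
    have := AdjoinRoot.mk_eq_zero.2 hXM
    rwa [map_sub, map_pow, map_one, AdjoinRoot.mk_X, ← hz, sub_eq_zero] at this
  have hord : orderOf z = M := by
    refine orderOf_eq_of_pow_and_pow_div_prime (by omega) hzM fun t ht htM h1 => hv0 (hfree t ht htM v ?_)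
    obtain ⟨c, hc⟩ : g ∣ X ^ (M / t) - 1 := by
      rw [← AdjoinRoot.mk_eq_zero, map_sub, map_pow, map_one, AdjoinRoot.mk_X, ← hz, h1, sub_self]
    have h2 : aeval R ((X : K[X]) ^ (M / t) - 1) v = 0 := by
      rw [hc, mul_comm, map_mul, Module.End.mul_apply, hv, map_zero]
    rwa [map_sub, map_pow, map_one, aeval_X, LinearMap.sub_apply, Module.End.one_apply, sub_eq_zero] at h2
  have hz0 : z ≠ 0 := by
    intro h0
    rw [h0, zero_pow (by omega)] at hzM
    exact zero_ne_one hzM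
  have hdeg : finrank K (AdjoinRoot g) = g.natDegree := by
    rw [(AdjoinRoot.powerBasis hgirr.ne_zero).finrank, AdjoinRoot.powerBasis_dim]
  have hcard : Nat.card (AdjoinRoot g) = Fintype.card K ^ g.natDegree := by
    rw [Module.natCard_eq_pow_finrank (K := K), hdeg, Nat.card_eq_fintype_card]
  have hge : finrank K V ≤ g.natDegree := by
    rw [hdim]
    refine Nat.le_of_dvd hgirr.natDegree_pos (orderOf_dvd_of_pow_eq_one ?_)
    have hu := _root_.orderOf_dvd_natCard (Units.mk0 z hz0)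
    rw [← orderOf_units, Units.val_mk0, hord, Nat.card_units, hcard] at hu
    rw [← sub_eq_zero, ← Nat.cast_pow, ← Nat.cast_one,
      ← Nat.cast_sub (Nat.one_le_pow _ _ Fintype.card_pos), ZMod.natCast_eq_zero_iff]
    exact hu
  have hmin : aeval R g = 0 := by
    have h1 := natDegree_le_of_dvd (LinearMap.minpoly_dvd_charpoly R) (LinearMap.charpoly_monic R).ne_zero
    rw [LinearMap.charpoly_natDegree] at h1
    obtain ⟨h, hh⟩ := hgdvd
    have hh0 : h ≠ 0 := fun h0 => minpoly.ne_zero hint (by rw [hh, h0, mul_zero])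
    have hdeg' : (minpoly K R).natDegree = g.natDegree + h.natDegree := by
      rw [hh]; exact natDegree_mul hgirr.ne_zero hh0
    obtain ⟨c, rfl⟩ := natDegree_eq_zero.1 (show h.natDegree = 0 by omega)
    have h2 := minpoly.aeval K R
    rw [hh, map_mul, aeval_C, ← Algebra.commutes, ← Algebra.smul_def, smul_eq_zero] at h2
    exact h2.resolve_left fun h3 => hh0 (by rw [h3, map_zero])
  have hR' : ∀ x y, β (R x) y = β x ((R ^ (M - 1)) y) := fun x y => by
    have e1 : R ((R ^ (M - 1)) y) = y := by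
      rw [← Module.End.mul_apply, ← pow_succ', Nat.sub_add_cancel hM.le, hR, Module.End.one_apply]
    conv_lhs => rw [← e1, hiso]
  have hadj : ∀ (P : K[X]) (x y : V), β (aeval R P x) y = β x (aeval (R ^ (M - 1)) P y) := by
    intro P
    induction P using Polynomial.induction_on' with
    | add a b ha hb => intro x y; simp [ha, hb]
    | monomial n c =>
      intro x y
      rw [aeval_monomial, aeval_monomial, ← Algebra.smul_def, ← Algebra.smul_def, LinearMap.smul_apply,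
        map_smul, LinearMap.smul_apply, LinearMap.smul_apply, map_smul]
      congr 1
      induction n generalizing x y with
      | zero => simp
      | succ n ih => rw [pow_succ, Module.End.mul_apply, ih, hR', ← Module.End.mul_apply, ← pow_succ']
  have hinv : aeval (R ^ (M - 1)) g = 0 := LinearMap.ext fun y => hβ _ fun x => by
    rw [← hadj, hmin]
    simp
  have hroot : aeval (z ^ (M - 1)) g = 0 := by
    have h1 : minpoly K R ∣ g.comp (X ^ (M - 1)) := minpoly.dvd K R (by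
      rw [aeval_comp, map_pow, aeval_X]; exact hinv)
    have h2 : aeval z (g.comp (X ^ (M - 1))) = 0 := by
      rw [hz, AdjoinRoot.aeval_eq, AdjoinRoot.mk_eq_zero]
      exact hgdvd.trans h1
    rwa [aeval_comp, map_pow, aeval_X] at h2
  let σ : AdjoinRoot g →ₐ[K] AdjoinRoot g :=
    AdjoinRoot.liftAlgHom g (Algebra.ofId K (AdjoinRoot g)) (z ^ (M - 1)) (by
      rw [← hroot, aeval_def]; rfl)
  have hσ : σ z = z ^ (M - 1) := by subst hz; simp [σ]
  obtain ⟨i, hi⟩ := (FiniteField.bijective_frobeniusAlgHom_pow K (AdjoinRoot g)).2 σ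
  have hit : ∀ j : ℕ, (FiniteField.frobeniusAlgHom K (AdjoinRoot g) ^ j) z = z ^ (Fintype.card K ^ j) := by
    intro j
    induction j with
    | zero => simp
    | succ j ih =>
      rw [pow_succ' (FiniteField.frobeniusAlgHom K (AdjoinRoot g)), AlgHom.mul_apply, ih,
        FiniteField.coe_frobeniusAlgHom]
      simp only
      rw [← pow_mul, pow_succ]
  refine ⟨i, ?_⟩
  have h1 : z ^ (Fintype.card K ^ (i : ℕ)) = z ^ (M - 1) := by rw [← hit, ← hσ, ← hi]
  have h2 : (Units.mk0 z hz0) ^ (Fintype.card K ^ (i : ℕ)) = (Units.mk0 z hz0) ^ (M - 1) :=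
    Units.ext (by simpa using h1)
  rw [pow_eq_pow_iff_modEq, ← orderOf_units, Units.val_mk0, hord, ← ZMod.natCast_eq_natCast_iff,
    Nat.cast_pow, Nat.cast_sub hM.le, ZMod.natCast_self, zero_sub, Nat.cast_one] at h2
  exact h2

end Field

section Number

variable {r : ℕ} [Fact r.Prime] {x : ZMod r} {k η : ℕ}

theorem neg_one_ne_one (hr : r ≠ 2) : (-1 : ZMod r) ≠ 1 := by
  intro h
  have h2 : ((2 : ℕ) : ZMod r) = 0 := by push_cast; linear_combination -h
  rw [ZMod.natCast_eq_zero_iff] at h2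
  exact hr ((Nat.prime_dvd_prime_iff_eq Fact.out Nat.prime_two).1 h2)

theorem eta_of_neg_one (hr : r ≠ 2) (hk : k = orderOf x) (hη : (Odd k ∧ η = k) ∨ (Even k ∧ 2 * η = k))
    {i : ℕ} (hi : x ^ i = -1) : Even k ∧ ∃ m, Odd m ∧ i = η * m := by
  have h2i : k ∣ 2 * i := hk ▸ orderOf_dvd_of_pow_eq_one (by rw [mul_comm, pow_mul, hi]; simp)
  rcases hη with ⟨ho, -⟩ | ⟨he, hη⟩
  · exfalso
    have : k ∣ i := (Nat.coprime_two_right.2 ho).dvd_of_dvd_mul_left h2i
    rw [hk, orderOf_dvd_iff_pow_eq_one, hi] at this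
    exact neg_one_ne_one hr this
  refine ⟨he, ?_⟩
  obtain ⟨m, hm⟩ : η ∣ i := by
    rw [← hη] at h2i
    exact (Nat.mul_dvd_mul_iff_left two_pos).1 h2i
  refine ⟨m, ?_, hm⟩
  by_contra hm2
  obtain ⟨c, hc⟩ := Nat.not_odd_iff_even.1 hm2
  have : k ∣ i := ⟨c, by rw [hm, hc, ← hη]; ring⟩
  rw [hk, orderOf_dvd_iff_pow_eq_one, hi] at this
  exact neg_one_ne_one hr this

theorem eta_pow (hk0 : 0 < k) (hk : k = orderOf x) (hη : (Odd k ∧ η = k) ∨ (Even k ∧ 2 * η = k)) :
    (Odd k ∧ x ^ η = 1) ∨ (Even k ∧ x ^ η = -1) := by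
  rcases hη with ⟨ho, hη⟩ | ⟨he, hη⟩
  · exact Or.inl ⟨ho, by rw [hη, hk, pow_orderOf_eq_one]⟩
  · refine Or.inr ⟨he, ?_⟩
    have h : x ^ η * x ^ η = 1 := by rw [← pow_add, ← two_mul, hη, hk, pow_orderOf_eq_one]
    refine (mul_self_eq_one_iff.1 h).resolve_left fun h1 => ?_
    have := Nat.le_of_dvd (by omega) (hk ▸ orderOf_dvd_of_pow_eq_one h1 : k ∣ η)
    omega

theorem two_eta_dvd (hη : (Odd k ∧ η = k) ∨ (Even k ∧ 2 * η = k)) {d : ℕ} (hd : k ∣ d) (hd2 : Even d) :
    2 * η ∣ d := by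
  rcases hη with ⟨ho, hη⟩ | ⟨-, hη⟩
  · rw [hη]
    exact Nat.Coprime.mul_dvd_of_dvd_of_dvd (Nat.coprime_two_left.2 ho) (even_iff_two_dvd.1 hd2) hd
  · rw [hη]; exact hd

theorem eta_pos (hk0 : 0 < k) (hη : (Odd k ∧ η = k) ∨ (Even k ∧ 2 * η = k)) : 0 < η ∧ η ≤ k := by
  rcases hη with ⟨-, hη⟩ | ⟨-, hη⟩ <;> omega

end Number

section Space

variable {K : Type*} [Field K] {V : Type*} [AddCommGroup V] [Module K V] [FiniteDimensional K V]
  {β : V →ₗ[K] V →ₗ[K] K}

theorem pow_iso {T : V →ₗ[K] V} (hiso : ∀ x y, β (T x) (T y) = β x y) (k : ℕ) (x y : V) :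
    β ((T ^ k) x) ((T ^ k) y) = β x y := by
  induction k with
  | zero => simp
  | succ k ih => rw [pow_succ', Module.End.mul_apply, Module.End.mul_apply, hiso, ih]

theorem pow_fixed {T : V →ₗ[K] V} {v : V} (h : T v = v) (k : ℕ) : (T ^ k) v = v := by
  induction k with
  | zero => simp
  | succ k ih => rw [pow_succ', Module.End.mul_apply, ih, h]

theorem radical_fix (hβ : IsAltND β) {M : ℕ} (hM : (M : K) ≠ 0) {T : V →ₗ[K] V} (hT : T ^ M = 1)
    (hiso : ∀ x y, β (T x) (T y) = β x y) : ∀ x ∈ fix T, (∀ y ∈ fix T, β x y = 0) → x = 0 := by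
  intro x hx hxy
  refine hβ.nondeg x fun v => ?_
  have hP : (∑ k ∈ Finset.range M, (T ^ k) v) ∈ fix T := by
    rw [mem_fix, map_sum]
    have h1 := Finset.sum_range_succ' (fun k => (T ^ k) v) M
    have h2 := Finset.sum_range_succ (fun k => (T ^ k) v) M
    rw [h1, hT, pow_zero, add_left_inj] at h2
    rw [← h2]
    exact Finset.sum_congr rfl fun k _ => by rw [pow_succ', Module.End.mul_apply]
  have hsum : β x (∑ k ∈ Finset.range M, (T ^ k) v) = (M : K) * β x v := by
    rw [map_sum, Finset.sum_congr rfl (g := fun _ => β x v) fun k _ => ?_, Finset.sum_const, Finset.card_range,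
      nsmul_eq_mul]
    conv_lhs => rw [← pow_fixed (mem_fix.1 hx) k, pow_iso hiso]
  rw [hxy _ hP, eq_comm, mul_eq_zero] at hsum
  exact hsum.resolve_left hM

theorem even_sub (hβ : IsAltND β) (U : Submodule K V) (hU : ∀ x ∈ U, (∀ y ∈ U, β x y = 0) → x = 0) :
    Even (finrank K U) := by
  obtain ⟨m, hm⟩ := SymplecticSemisimple.exists_even _ (V := U) (B := β.compl₁₂ U.subtype U.subtype)
    ⟨fun x => hβ.self _, fun x hx => Subtype.ext (hU _ x.2 fun y hy => hx ⟨y, hy⟩)⟩ rfl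
  exact ⟨m, by omega⟩

theorem even_top (hβ : IsAltND β) : Even (finrank K V) := by
  obtain ⟨m, hm⟩ := SymplecticSemisimple.exists_even _ hβ rfl
  exact ⟨m, by omega⟩

theorem apply_eq_of_coprime {S : V →ₗ[K] V} {a b : ℕ} (hab : a.Coprime b) {v : V} (ha : (S ^ a) v = v)
    (hb : (S ^ b) v = v) : S v = v := by
  have h := Function.IsPeriodicPt.gcd (f := ⇑S) (x := v) (m := a) (n := b)
    (by rw [Function.IsPeriodicPt, Function.IsFixedPt, ← Module.End.coe_pow]; exact ha)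
    (by rw [Function.IsPeriodicPt, Function.IsFixedPt, ← Module.End.coe_pow]; exact hb)
  rwa [hab] at h

theorem fix_mul {T S : V →ₗ[K] V} {r s : ℕ} (hrs : r.Coprime s) (hTS : Commute T S) (hT : T ^ r = 1)
    (hS : S ^ s = 1) : fix (T * S) = fix T ⊓ fix S := by
  ext v
  rw [Submodule.mem_inf, mem_fix, mem_fix, mem_fix]
  constructor
  · intro h
    have hr : (S ^ r) v = v := by
      have := pow_fixed h r
      rwa [hTS.mul_pow, hT, one_mul] at this
    have hs : (T ^ s) v = v := by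
      have := pow_fixed h s
      rwa [hTS.mul_pow, hS, mul_one] at this
    exact ⟨apply_eq_of_coprime hrs.symm hs (by rw [hT]; rfl), apply_eq_of_coprime hrs hr (by rw [hS]; rfl)⟩
  · rintro ⟨h1, h2⟩
    rw [Module.End.mul_apply, h2, h1]

variable [Fintype K] {r : ℕ} [Fact r.Prime]

/-- Fixed space of a non-trivial isometry of odd prime order. -/
theorem fix_bound (hβ : IsAltND β) {T : V →ₗ[K] V} (hT : T ^ r = 1) (hT1 : T ≠ 1)
    (hiso : ∀ x y, β (T x) (T y) = β x y) (hrK : (r : K) ≠ 0) (hq : (Fintype.card K : ZMod r) ≠ 0) {k η : ℕ}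
    (hk : k = orderOf (Fintype.card K : ZMod r)) (hη : (Odd k ∧ η = k) ∨ (Even k ∧ 2 * η = k)) :
    2 * η ∣ finrank K V - finrank K (fix T) ∧ 2 * η ≤ finrank K V - finrank K (fix T) := by
  have hm := finrank_modEq hT hq ⊤ fun u _ => Submodule.mem_top
  rw [finrank_top, top_inf_eq, ← hk] at hm
  have hlt := finrank_fix_lt hT1
  have hev := (Nat.even_sub hlt.le).2 (iff_of_true (even_top hβ) (even_sub hβ _ (radical_fix hβ hrK hT hiso)))
  have h := two_eta_dvd hη ((Nat.modEq_iff_dvd' hlt.le).1 hm.symm) hev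
  exact ⟨h, Nat.le_of_dvd (by omega) h⟩

/-- An element of order `r` commuting with a non-trivial unipotent isometry. -/
theorem eta_add_one_le (hr2 : r ≠ 2) (hβ : IsAltND β) {T N : V →ₗ[K] V} (hT : T ^ r = 1) (hT1 : T ≠ 1)
    (hN : N ≠ 0) (hnil : IsNilpotent N) (hcomm : Commute T N)
    (hiso : ∀ x y, β (T x) (T y) = β x y) (hNiso : ∀ x y, β (x + N x) (y + N y) = β x y) (hrK : (r : K) ≠ 0)
    (hq : (Fintype.card K : ZMod r) ≠ 0) {k η : ℕ}
    (hk : k = orderOf (Fintype.card K : ZMod r)) (hη : (Odd k ∧ η = k) ∨ (Even k ∧ 2 * η = k)) :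
    2 * (η + 1) ≤ finrank K V := by
  classical
  by_contra hlt
  obtain ⟨c, hc⟩ := even_top hβ
  obtain ⟨hd, hle⟩ := fix_bound hβ hT hT1 hiso hrK hq hk hη
  have hflt := finrank_fix_lt hT1
  have hf : finrank K (fix T) = 0 := by omega
  have hn : finrank K V = 2 * η := by omega
  rcases Nat.eq_zero_or_pos k with hk0 | hk0
  · rw [hk] at hk0
    exact (orderOf_pos_iff.2 (isOfFinOrder_iff_pow_eq_one.2
      ⟨r - 1, by have := (Fact.out : r.Prime).two_le; omega, ZMod.pow_card_sub_one_eq_one hq⟩)).ne' hk0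
  have hfix : fix T = ⊥ := Submodule.finrank_eq_zero.1 hf
  have hmod : ∀ U : Submodule K V, (∀ u ∈ U, T u ∈ U) → k ∣ finrank K U := by
    intro U hU
    have h := finrank_modEq hT hq U hU
    rw [hfix, inf_bot_eq, finrank_bot, ← hk] at h
    exact Nat.modEq_zero_iff_dvd.1 h
  have hkerinv : ∀ u ∈ LinearMap.ker N, T u ∈ LinearMap.ker N := fun u hu => by
    rw [LinearMap.mem_ker, ← commute_apply hcomm, LinearMap.mem_ker.1 hu, map_zero]
  have hraninv : ∀ u ∈ LinearMap.range N, T u ∈ LinearMap.range N := by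
    rintro u ⟨v, rfl⟩
    exact ⟨T v, (commute_apply hcomm v).symm⟩
  have hdim := LinearMap.finrank_range_add_finrank_ker N
  have hR := ker_inf_range_ne_bot hN hnil
  have hRpos : 0 < finrank K ↥(LinearMap.ker N ⊓ LinearMap.range N) :=
    Nat.pos_of_ne_zero fun h => hR (Submodule.finrank_eq_zero.1 h)
  have hRk := hmod (LinearMap.ker N ⊓ LinearMap.range N) fun u hu => ⟨hkerinv u hu.1, hraninv u hu.2⟩
  have hkd := hmod _ hkerinv
  have hwd := hmod _ hraninv
  have h1 := Submodule.finrank_mono (inf_le_left : LinearMap.ker N ⊓ LinearMap.range N ≤ LinearMap.ker N)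
  have h2 := Submodule.finrank_mono (inf_le_right : LinearMap.ker N ⊓ LinearMap.range N ≤ LinearMap.range N)
  have hR' := Nat.le_of_dvd hRpos hRk
  rcases hη with ⟨hodd, hηk⟩ | ⟨-, hηk⟩
  swap
  · omega
  obtain ⟨a, ha⟩ := hkd
  obtain ⟨b, hb⟩ := hwd
  have hab : a + b = 2 := Nat.eq_of_mul_eq_mul_left hk0 (by rw [Nat.mul_add, ← ha, ← hb]; omega)
  have ha0 : a ≠ 0 := fun h => by rw [h, mul_zero] at ha; omega
  have hb0 : b ≠ 0 := fun h => by rw [h, mul_zero] at hb; omega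
  obtain rfl : a = 1 := by omega
  obtain rfl : b = 1 := by omega
  have hKW' : LinearMap.range N ≤ LinearMap.ker N := by
    rw [← Submodule.eq_of_le_of_finrank_le (inf_le_right : LinearMap.ker N ⊓ LinearMap.range N ≤ LinearMap.range N)
      (by omega)]
    exact inf_le_left
  have hperp : ∀ x, ∀ y ∈ LinearMap.ker N, β (N x) y = 0 := by
    intro x y hy
    have h := hNiso x y
    rw [LinearMap.mem_ker.1 hy, add_zero, map_add, LinearMap.add_apply, add_eq_left] at h
    exact h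
  obtain ⟨s, hs⟩ := LinearMap.exists_rightInverse_of_surjective N.rangeRestrict
    (LinearMap.range_eq_top.2 (LinearMap.surjective_rangeRestrict N))
  have hs' : ∀ a : LinearMap.range N, N (s a) = a := fun a => congrArg Subtype.val (LinearMap.congr_fun hs a)
  obtain ⟨R, hRdef⟩ : ∃ R : LinearMap.range N →ₗ[K] LinearMap.range N, ∀ v, (R v : V) = T v :=
    ⟨T.restrict hraninv, fun v => rfl⟩
  have hRpow : ∀ (j : ℕ) v, ((R ^ j) v : V) = (T ^ j) v := by
    intro j
    induction j with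
    | zero => intro v; simp
    | succ j ih => intro v; rw [pow_succ', pow_succ', Module.End.mul_apply, Module.End.mul_apply, hRdef, ih]
  haveI : Nontrivial (LinearMap.range N) := Module.nontrivial_of_finrank_pos (R := K) (by omega)
  obtain ⟨i, hi⟩ := exists_pow_eq_neg_one (M := r) (Fact.out : r.Prime).one_lt R
    (β.compl₁₂ s (LinearMap.range N).subtype) (by rw [hb, mul_one, hk])
    (LinearMap.ext fun v => Subtype.ext (by rw [hRpow, hT]; rfl))
    (fun t ht htr v hv => by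
      rw [(Nat.prime_dvd_prime_iff_eq ht Fact.out).1 htr, Nat.div_self (Fact.out : r.Prime).pos, pow_one] at hv
      have h : (v : V) ∈ fix T := mem_fix.2 (by rw [← hRdef, hv])
      rw [hfix, Submodule.mem_bot] at h
      exact Subtype.ext h)
    (fun y hy => by
      refine Subtype.ext (hβ.nondeg _ fun x => ?_)
      have h1 : β (s ⟨N x, x, rfl⟩) (y : V) = 0 := hy _
      obtain ⟨y', hy'⟩ := y.2
      have hk' : x - s ⟨N x, x, rfl⟩ ∈ LinearMap.ker N := by rw [LinearMap.mem_ker, map_sub, hs', sub_self]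
      have h2 : β (y : V) (x - s ⟨N x, x, rfl⟩) = 0 := hy' ▸ hperp y' _ hk'
      rw [map_sub, sub_eq_zero] at h2
      rw [h2, hβ.swap, h1, neg_zero])
    (fun x y => by
      show β (s (R x)) (R y : V) = β (s x) (y : V)
      have hk' : s (R x) - T (s x) ∈ LinearMap.ker N := by
        rw [LinearMap.mem_ker, map_sub, hs', hRdef, ← commute_apply hcomm, hs', sub_self]
      obtain ⟨y', hy'⟩ := (R y).2
      have h1 : β (R y : V) (s (R x) - T (s x)) = 0 := hy' ▸ hperp y' _ hk'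
      rw [map_sub, sub_eq_zero] at h1
      rw [hβ.swap, h1, ← hβ.swap, hRdef, hiso])
  obtain ⟨he, -⟩ := eta_of_neg_one hr2 hk (Or.inl ⟨hodd, hηk⟩) hi
  exact Nat.not_even_iff_odd.2 hodd he

theorem orderOf_natCast_mul {r s : ℕ} (h : r.Coprime s) (c : ℕ) :
    orderOf ((c : ℕ) : ZMod (r * s)) = (orderOf (c : ZMod r)).lcm (orderOf (c : ZMod s)) := by
  rw [← orderOf_injective (ZMod.chineseRemainder h).toRingHom.toMonoidHom (ZMod.chineseRemainder h).injective]
  show orderOf (ZMod.chineseRemainder h (c : ZMod (r * s))) = _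
  rw [map_natCast, Prod.orderOf, Prod.fst_natCast, Prod.snd_natCast]

/-- Two commuting isometries of distinct odd prime orders. -/
theorem eta_add_le_or {s : ℕ} [Fact s.Prime] (hr2 : r ≠ 2) (hs2 : s ≠ 2) (hrs : r ≠ s) (hβ : IsAltND β)
    {T S : V →ₗ[K] V} (hT : T ^ r = 1) (hT1 : T ≠ 1) (hS : S ^ s = 1) (hS1 : S ≠ 1) (hTS : Commute T S)
    (hTiso : ∀ x y, β (T x) (T y) = β x y) (hSiso : ∀ x y, β (S x) (S y) = β x y)
    (hrK : (r : K) ≠ 0) (hsK : (s : K) ≠ 0)
    (hqr : (Fintype.card K : ZMod r) ≠ 0) (hqs : (Fintype.card K : ZMod s) ≠ 0) {k l ηk ηl : ℕ}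
    (hk : k = orderOf (Fintype.card K : ZMod r)) (hl : l = orderOf (Fintype.card K : ZMod s))
    (hηk : (Odd k ∧ ηk = k) ∨ (Even k ∧ 2 * ηk = k)) (hηl : (Odd l ∧ ηl = l) ∨ (Even l ∧ 2 * ηl = l))
    (hkl : ηk ≤ ηl) :
    2 * (ηk + ηl) ≤ finrank K V ∨ ∃ t, Odd t ∧ l = k * t := by
  classical
  refine or_iff_not_imp_right.2 fun hodd => ?_
  by_contra hlt
  have hk0 : 0 < k := hk ▸ orderOf_pos_iff.2 (isOfFinOrder_iff_pow_eq_one.2
    ⟨r - 1, by have := (Fact.out : r.Prime).two_le; omega, ZMod.pow_card_sub_one_eq_one hqr⟩)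
  have hl0 : 0 < l := hl ▸ orderOf_pos_iff.2 (isOfFinOrder_iff_pow_eq_one.2
    ⟨s - 1, by have := (Fact.out : s.Prime).two_le; omega, ZMod.pow_card_sub_one_eq_one hqs⟩)
  obtain ⟨hηk0, -⟩ := eta_pos hk0 hηk
  have hco : r.Coprime s := (Nat.coprime_primes Fact.out Fact.out).2 hrs
  have hCT := radical_fix hβ hrK hT hTiso
  have hCS := radical_fix hβ hsK hS hSiso
  have hR : (T * S) ^ (r * s) = 1 := by
    rw [hTS.mul_pow, pow_mul, hT, one_pow, one_mul, mul_comm, pow_mul, hS, one_pow]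
  have hRiso : ∀ x y, β ((T * S) x) ((T * S) y) = β x y := fun x y => by
    rw [Module.End.mul_apply, Module.End.mul_apply, hTiso, hSiso]
  have hCTS := radical_fix hβ (M := r * s) (by rw [Nat.cast_mul]; exact mul_ne_zero hrK hsK) hR hRiso
  rw [fix_mul hco hTS hT hS] at hCTS
  have hinvS : ∀ v ∈ fix T, S v ∈ fix T := fun v hv => mem_fix.2 (by rw [commute_apply hTS, mem_fix.1 hv])
  have hinvT : ∀ v ∈ fix S, T v ∈ fix S := fun v hv => mem_fix.2 (by rw [← commute_apply hTS, mem_fix.1 hv])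
  have m1 := finrank_modEq hS hqs (fix T) hinvS
  have m2 := finrank_modEq hT hqr (fix S) hinvT
  rw [inf_comm (fix S) (fix T)] at m2
  have hb1 := fix_bound hβ hT hT1 hTiso hrK hqr hk hηk
  have hb2 := fix_bound hβ hS hS1 hSiso hsK hqs hl hηl
  rw [← hl] at m1
  rw [← hk] at m2
  have hle := Submodule.finrank_sup_add_finrank_inf_eq (fix T) (fix S)
  have hsup := Submodule.finrank_le (fix T ⊔ fix S)
  have hct := finrank_fix_lt hT1
  have hcs := finrank_fix_lt hS1
  have hcr := Submodule.finrank_mono (inf_le_left : fix T ⊓ fix S ≤ fix T)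
  have hcs' := Submodule.finrank_mono (inf_le_right : fix T ⊓ fix S ≤ fix S)
  have d1 : 2 * ηl ∣ finrank K (fix T) - finrank K ↥(fix T ⊓ fix S) :=
    two_eta_dvd hηl ((Nat.modEq_iff_dvd' hcr).1 m1.symm)
      ((Nat.even_sub hcr).2 (iff_of_true (even_sub hβ _ hCT) (even_sub hβ _ hCTS)))
  have d2 : 2 * ηk ∣ finrank K (fix S) - finrank K ↥(fix T ⊓ fix S) :=
    two_eta_dvd hηk ((Nat.modEq_iff_dvd' hcs').1 m2.symm)
      ((Nat.even_sub hcs').2 (iff_of_true (even_sub hβ _ hCS) (even_sub hβ _ hCTS)))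
  obtain ⟨d, hd⟩ : ∃ d, finrank K V - finrank K (fix T) - (finrank K (fix S) - finrank K ↥(fix T ⊓ fix S)) = d :=
    ⟨_, rfl⟩
  have d5 : 2 * ηk ∣ d := hd ▸ Nat.dvd_sub hb1.1 d2
  have d6 : 2 * ηl ∣ d := by
    have h := Nat.dvd_sub hb2.1 d1
    rwa [show finrank K V - finrank K (fix S) - (finrank K (fix T) - finrank K ↥(fix T ⊓ fix S)) = d by omega] at h
  rcases Nat.eq_zero_or_pos d with hd0 | hd0
  · have ha' : 2 * ηl ≤ finrank K (fix T) - finrank K ↥(fix T ⊓ fix S) := Nat.le_of_dvd (by omega) d1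
    have hb' : 2 * ηk ≤ finrank K (fix S) - finrank K ↥(fix T ⊓ fix S) := Nat.le_of_dvd (by omega) d2
    omega
  have hd2 : d = 2 * ηl := by
    obtain ⟨c, hc⟩ := d6
    have hc1 : c < 2 := by
      by_contra hc2
      have : 2 * ηl * 2 ≤ 2 * ηl * c := Nat.mul_le_mul_left _ (by omega)
      omega
    interval_cases c <;> omega
  have hdiv : ηk ∣ ηl := (Nat.mul_dvd_mul_iff_left two_pos).1 (hd2 ▸ d5)
  have hL : (k.lcm l) = 2 * ηl := by
    rcases hηk with ⟨hko, hk'⟩ | ⟨hke, hk'⟩ <;> rcases hηl with ⟨hlo, hl'⟩ | ⟨hle', hl'⟩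
    · refine absurd ⟨l / k, ?_, ?_⟩ hodd
      · rw [hk', hl'] at hdiv
        have h := Nat.mul_div_cancel' hdiv
        rw [← h] at hlo
        exact (Nat.odd_mul.1 hlo).2
      · rw [hk', hl'] at hdiv
        exact (Nat.mul_div_cancel' hdiv).symm
    · have : k ∣ l := by rw [hk'] at hdiv; rw [← hl']; exact dvd_mul_of_dvd_right hdiv 2
      rw [Nat.lcm_eq_right this, hl']
    · have h1 : k ∣ 2 * l := by rw [← hk', ← hl']; exact Nat.mul_dvd_mul_left 2 hdiv
      have h2 : k.lcm l ∣ 2 * l := Nat.lcm_dvd h1 (dvd_mul_left l 2)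
      obtain ⟨c, hc⟩ := Nat.dvd_lcm_right k l
      rw [hc, mul_comm 2 l] at h2
      have hc2 : c ∣ 2 := (Nat.mul_dvd_mul_iff_left hl0).1 h2
      rcases (Nat.dvd_prime Nat.prime_two).1 hc2 with rfl | rfl
      · exfalso
        have h3 := Nat.dvd_lcm_left k l
        rw [hc, mul_one] at h3
        exact Nat.not_even_iff_odd.2 hlo (even_iff_two_dvd.2 ((even_iff_two_dvd.1 hke).trans h3))
      · rw [hc, hl', mul_comm]
    · have : k ∣ l := by rw [← hk', ← hl']; exact Nat.mul_dvd_mul_left 2 hdiv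
      rw [Nat.lcm_eq_right this, hl']
  -- the part moved by both
  have hnd : LinearMap.BilinForm.Nondegenerate β :=
    ⟨fun x hx => hβ.nondeg x hx, fun y hy => hβ.nondeg y fun x => by rw [hβ.swap, hy x, neg_zero]⟩
  have hrefl : LinearMap.BilinForm.IsRefl β := fun x y h => by
    show β y x = 0
    rw [hβ.swap, show β x y = 0 from h, neg_zero]
  obtain ⟨D, hDdef⟩ : ∃ D, D = LinearMap.BilinForm.orthogonal β (fix T ⊔ fix S) := ⟨_, rfl⟩
  have hDdim : finrank K D = d := by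
    have h := LinearMap.BilinForm.finrank_orthogonal hnd (fix T ⊔ fix S)
    rw [← hDdef] at h
    omega
  have hDperp : ∀ v ∈ D, ∀ c ∈ fix T ⊔ fix S, β c v = 0 := fun v hv c hc =>
    LinearMap.BilinForm.mem_orthogonal_iff.1 (hDdef ▸ hv) c hc
  have hDT : ∀ v ∈ D, T v = v → v = 0 := fun v hv h => hCT v (mem_fix.2 h) fun y hy => by
    rw [hβ.swap, hDperp v hv y (Submodule.mem_sup_left hy), neg_zero]
  have hDS : ∀ v ∈ D, S v = v → v = 0 := fun v hv h => hCS v (mem_fix.2 h) fun y hy => by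
    rw [hβ.swap, hDperp v hv y (Submodule.mem_sup_right hy), neg_zero]
  have hDinv : ∀ (A : V →ₗ[K] V) (j : ℕ), A ^ j = 1 → 0 < j → (∀ x y, β (A x) (A y) = β x y) →
      (∀ v ∈ fix T, A v ∈ fix T) → (∀ v ∈ fix S, A v ∈ fix S) → ∀ v ∈ D, A v ∈ D := by
    intro A j hAj hj0 hAiso h1 h2 v hv
    rw [hDdef, LinearMap.BilinForm.mem_orthogonal_iff]
    intro c hc
    show β c (A v) = 0
    have hcinv : ∀ i : ℕ, (A ^ i) c ∈ fix T ⊔ fix S := by
      intro i
      induction i with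
      | zero => simpa using hc
      | succ i ih =>
        obtain ⟨a, ha, b, hb, hab⟩ := Submodule.mem_sup.1 ih
        rw [pow_succ', Module.End.mul_apply, ← hab, map_add]
        exact add_mem (Submodule.mem_sup_left (h1 a ha)) (Submodule.mem_sup_right (h2 b hb))
    have e1 : A ((A ^ (j - 1)) c) = c := by
      rw [← Module.End.mul_apply, ← pow_succ', Nat.sub_add_cancel hj0, hAj, Module.End.one_apply]
    rw [← e1, hAiso]
    exact hDperp v hv _ (hcinv _)
  have hTD := hDinv T r hT (Fact.out : r.Prime).pos hTiso (fun v hv => mem_fix.2 (by rw [mem_fix.1 hv, mem_fix.1 hv])) hinvT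
  have hSD := hDinv S s hS (Fact.out : s.Prime).pos hSiso hinvS (fun v hv => mem_fix.2 (by rw [mem_fix.1 hv, mem_fix.1 hv]))
  obtain ⟨R, hRdef⟩ : ∃ R : D →ₗ[K] D, ∀ v, (R v : V) = T (S v) :=
    ⟨(T * S).restrict fun v hv => hTD _ (hSD v hv), fun v => rfl⟩
  have hRpow : ∀ (j : ℕ) v, ((R ^ j) v : V) = ((T * S) ^ j) v := by
    intro j
    induction j with
    | zero => intro v; simp
    | succ j ih => intro v; rw [pow_succ', pow_succ', Module.End.mul_apply, Module.End.mul_apply, hRdef, ih]; rfl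
  haveI : Nontrivial D := Module.nontrivial_of_finrank_pos (R := K) (by omega)
  have hM : 1 < r * s := one_lt_mul'' (Fact.out : r.Prime).one_lt (Fact.out : s.Prime).one_lt
  obtain ⟨i, hi⟩ := exists_pow_eq_neg_one hM R (β.compl₁₂ D.subtype D.subtype)
    (by rw [orderOf_natCast_mul hco, ← hk, ← hl, hL, hDdim, hd2])
    (LinearMap.ext fun v => Subtype.ext (by rw [hRpow, hR]; rfl))
    (fun t ht htM v hv => by
      have hv' : ((T * S) ^ (r * s / t)) (v : V) = v := by rw [← hRpow, hv]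
      refine Subtype.ext ?_
      rcases ht.dvd_mul.1 htM with h | h
      · rw [(Nat.prime_dvd_prime_iff_eq ht Fact.out).1 h, Nat.mul_div_cancel_left _ (Fact.out : r.Prime).pos,
          hTS.mul_pow, hS, mul_one] at hv'
        exact hDT v v.2 (apply_eq_of_coprime hco.symm hv' (by rw [hT]; rfl))
      · rw [(Nat.prime_dvd_prime_iff_eq ht Fact.out).1 h, Nat.mul_div_cancel _ (Fact.out : s.Prime).pos,
          hTS.mul_pow, hT, one_mul] at hv'
        exact hDS v v.2 (apply_eq_of_coprime hco hv' (by rw [hS]; rfl)))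
    (fun y hy => by
      have hyc : (y : V) ∈ fix T ⊔ fix S := by
        have h : (y : V) ∈ LinearMap.BilinForm.orthogonal β D :=
          LinearMap.BilinForm.mem_orthogonal_iff.2 fun x hx => hy ⟨x, hx⟩
        have e : LinearMap.BilinForm.orthogonal β D = fix T ⊔ fix S :=
          (congrArg (LinearMap.BilinForm.orthogonal β) hDdef).trans
            (LinearMap.BilinForm.orthogonal_orthogonal hnd hrefl _)
        exact e ▸ h
      obtain ⟨a, ha, b, hb, hab⟩ := Submodule.mem_sup.1 hyc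
      have h1 : (T (y : V) - y) ∈ fix S := by
        rw [← hab, map_add, mem_fix.1 ha, add_sub_add_left_eq_sub]
        exact sub_mem (hinvT b hb) hb
      have h2 : T (y : V) - y ∈ D := sub_mem (hTD _ y.2) y.2
      have h3 := hDS _ h2 (mem_fix.1 h1)
      exact Subtype.ext (hDT _ y.2 (sub_eq_zero.1 h3)))
    (fun x y => by
      show β (R x : V) (R y : V) = β (x : V) (y : V)
      rw [hRdef, hRdef, hTiso, hSiso])
  have hir : (Fintype.card K : ZMod r) ^ i = -1 := by
    have h := congrArg (ZMod.castHom (dvd_mul_right r s) (ZMod r)) hi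
    simpa using h
  have his : (Fintype.card K : ZMod s) ^ i = -1 := by
    have h := congrArg (ZMod.castHom (dvd_mul_left s r) (ZMod s)) hi
    simpa using h
  obtain ⟨hke, a, ha, hia⟩ := eta_of_neg_one hr2 hk hηk hir
  obtain ⟨hle', b, hb, hib⟩ := eta_of_neg_one hs2 hl hηl his
  obtain ⟨t, ht⟩ := hdiv
  refine hodd ⟨t, ?_, ?_⟩
  · rw [hib, ht, mul_assoc] at hia
    have := Nat.eq_of_mul_eq_mul_left hηk0 hia
    rw [← this] at ha
    exact (Nat.odd_mul.1 ha).1
  · rcases hηk with ⟨h, -⟩ | ⟨-, hk'⟩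
    · exact absurd hke (Nat.not_even_iff_odd.2 h)
    rcases hηl with ⟨h, -⟩ | ⟨-, hl'⟩
    · exact absurd hle' (Nat.not_even_iff_odd.2 h)
    rw [← hl', ht, ← hk', mul_assoc]

end Space

section Group

open Matrix

variable {F : Type*} [Field F] {n : ℕ}

/-- The standard form. -/
noncomputable def stdForm (n : ℕ) (F : Type*) [Field F] :
    (Fin n ⊕ Fin n → F) →ₗ[F] (Fin n ⊕ Fin n → F) →ₗ[F] F :=
  Matrix.toLinearMap₂' F (Matrix.J (Fin n) F)

theorem stdForm_alt : IsAltND (stdForm n F) := by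
  refine ⟨fun v => ?_, fun v hv => ?_⟩
  · rw [stdForm, Matrix.toLinearMap₂'_apply']
    simp [Matrix.J, Matrix.fromBlocks_mulVec, dotProduct, Fintype.sum_sum_type, Function.comp_def,
      Matrix.neg_mulVec, mul_comm, add_comm]
  · funext i
    have h : ∀ w, (stdForm n F) v w = v ⬝ᵥ (Matrix.J (Fin n) F *ᵥ w) := fun w => Matrix.toLinearMap₂'_apply' _ _ _
    have := hv (Matrix.J (Fin n) F *ᵥ Pi.single i 1)
    rw [h, Matrix.mulVec_mulVec, Matrix.J_squared, Matrix.neg_mulVec, Matrix.one_mulVec, dotProduct_neg,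
      dotProduct_single, mul_one, neg_eq_zero] at this
    exact this

theorem stdForm_iso (g : symplecticGroup (Fin n) F) (u v : Fin n ⊕ Fin n → F) :
    stdForm n F ((g : Matrix (Fin n ⊕ Fin n) (Fin n ⊕ Fin n) F) *ᵥ u)
      ((g : Matrix (Fin n ⊕ Fin n) (Fin n ⊕ Fin n) F) *ᵥ v) = stdForm n F u v := by
  rw [stdForm, Matrix.toLinearMap₂'_apply', Matrix.toLinearMap₂'_apply', Matrix.mulVec_mulVec,
    Matrix.dotProduct_mulVec, Matrix.vecMul_mulVec, ← Matrix.mul_assoc, SymplecticGroup.mem_iff'.1 g.2,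
    ← Matrix.dotProduct_mulVec]

/-- The natural module. -/
noncomputable def rep (n : ℕ) (F : Type*) [Field F] :
    symplecticGroup (Fin n) F →* Module.End F (Fin n ⊕ Fin n → F) where
  toFun g := Matrix.toLinAlgEquiv' (g : Matrix (Fin n ⊕ Fin n) (Fin n ⊕ Fin n) F)
  map_one' := map_one _
  map_mul' x y := map_mul Matrix.toLinAlgEquiv' _ _

theorem rep_injective : Function.Injective (rep n F) := fun _ _ h =>
  Subtype.ext (Matrix.toLinAlgEquiv'.injective h)

theorem rep_iso (g : symplecticGroup (Fin n) F) (u v : Fin n ⊕ Fin n → F) :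
    stdForm n F (rep n F g u) (rep n F g v) = stdForm n F u v := stdForm_iso g u v

theorem card_center [Fintype F] {t : ℕ} (ht : t.Prime)
    (h : t ∣ Nat.card (Subgroup.center (symplecticGroup (Fin n) F))) : t = 2 ∧ ringChar F ≠ 2 := by
  haveI : Fact t.Prime := ⟨ht⟩
  obtain ⟨z, hz⟩ := exists_prime_orderOf_dvd_card' t h
  obtain ⟨c, hc, hzc⟩ := sp_center_smul n (z : symplecticGroup (Fin n) F) z.2
  have h2 : z ^ 2 = 1 := Subtype.ext (Subtype.ext (by
    rw [pow_two, Subgroup.coe_mul, Submonoid.coe_mul, hzc, Matrix.smul_mul, Matrix.mul_smul, mul_one, smul_smul, hc,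
      one_smul]
    rfl))
  have ht2 : t = 2 := (Nat.prime_dvd_prime_iff_eq ht Nat.prime_two).1 (hz ▸ orderOf_dvd_of_pow_eq_one h2)
  refine ⟨ht2, fun h2' => ?_⟩
  haveI : CharP F 2 := ringChar.of_eq h2'
  have hc1 : c = 1 := by
    rcases mul_self_eq_one_iff.1 hc with h | h
    · exact h
    · rw [h, CharTwo.neg_eq]
  have : z = 1 := Subtype.ext (Subtype.ext (by rw [hzc, hc1, one_smul]; rfl))
  rw [this, orderOf_one] at hz
  exact ht.ne_one hz.symm

variable [Fintype F]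

theorem natCast_ne_zero {p : ℕ} [Fact p.Prime] [CharP F p] {r : ℕ} (hr : r.Prime) (hrp : r ≠ p) : (r : F) ≠ 0 :=
  fun h0 => hrp ((Nat.prime_dvd_prime_iff_eq Fact.out hr).1 ((CharP.cast_eq_zero_iff F p r).1 h0)).symm

theorem eta_le {p : ℕ} [Fact p.Prime] [CharP F p] {r : ℕ} [Fact r.Prime] (hrp : r ≠ p)
    (h : r ∣ Nat.card (Cfsg.PSp n F)) {k η : ℕ}
    (hk : k = orderOf ((Fintype.card F : ℕ) : ZMod r)) (hη : (Odd k ∧ η = k) ∨ (Even k ∧ 2 * η = k)) : η ≤ n := by
  obtain ⟨g, hg⟩ := exists_prime_orderOf_dvd_card' (G := symplecticGroup (Fin n) F) r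
    (h.trans (Subgroup.card_dvd_of_surjective (QuotientGroup.mk' _) (QuotientGroup.mk'_surjective _)))
  have hb := fix_bound stdForm_alt (T := rep n F g) (r := r)
    (by rw [← map_pow, ← hg, pow_orderOf_eq_one, map_one])
    (fun h => (Fact.out : r.Prime).ne_one (by
      rw [← hg, rep_injective (h.trans (map_one (rep n F)).symm), orderOf_one]))
    (rep_iso g) (natCast_ne_zero (p := p) Fact.out hrp) (PSLPrimeGraph.ne_zero_of_ne_char (p := p) hrp) hk hη
  rw [Module.finrank_fintype_fun_eq_card, Fintype.card_sum, Fintype.card_fin] at hb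
  omega

/-- Elements of order dividing `q ^ η ± 1`, padded. -/
theorem exists_order {m η t : ℕ} (hη : 1 ≤ η) (hm : η ≤ m)
    (h : t ∣ Fintype.card F ^ η - 1 ∨ t ∣ Fintype.card F ^ η + 1) :
    ∃ x : symplecticGroup (Fin m) F, orderOf x = t := by
  obtain ⟨T, hT⟩ : ∃ T : symplecticGroup (Fin η) F, t ∣ orderOf T := by
    rcases h with h | h
    · obtain ⟨T, hT⟩ := exists_sp_torus_minus (F := F) η hη
      exact ⟨T, by rwa [hT, Nat.card_eq_fintype_card]⟩
    · obtain ⟨T, hT⟩ := exists_sp_torus_plus (F := F) η hη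
      exact ⟨T, by rwa [hT, Nat.card_eq_fintype_card]⟩
  refine ⟨spBlockHom F (Nat.add_sub_cancel' hm) (T ^ (orderOf T / t), 1), ?_⟩
  rw [orderOf_injective _ (fun x y hxy => ?_), Prod.orderOf, orderOf_one, Nat.lcm_one_right,
    orderOf_pow_orderOf_div (orderOf_pos T).ne' hT]
  have := spBlockMat_injective _ (congrArg Subtype.val hxy)
  exact Prod.ext (Subtype.ext (congrArg Prod.fst this)) (Subtype.ext (congrArg Prod.snd this))

theorem dvd_of_eta {r : ℕ} [Fact r.Prime] {k η m : ℕ} (hk0 : 0 < k)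
    (hk : k = orderOf ((Fintype.card F : ℕ) : ZMod r)) (hη : (Odd k ∧ η = k) ∨ (Even k ∧ 2 * η = k)) (hm : Odd m) :
    (Odd k ∧ r ∣ Fintype.card F ^ (η * m) - 1) ∨ (Even k ∧ r ∣ Fintype.card F ^ (η * m) + 1) := by
  rcases eta_pow hk0 hk hη with ⟨ho, h⟩ | ⟨he, h⟩
  · refine Or.inl ⟨ho, ?_⟩
    rw [← ZMod.natCast_eq_zero_iff, Nat.cast_sub (Nat.one_le_pow _ _ Fintype.card_pos), Nat.cast_pow, pow_mul, h,
      one_pow, Nat.cast_one, sub_self]
  · refine Or.inr ⟨he, ?_⟩
    rw [← ZMod.natCast_eq_zero_iff, Nat.cast_add, Nat.cast_pow, pow_mul, h, hm.neg_one_pow, Nat.cast_one,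
      neg_add_cancel]

theorem spBlock_order {a b c : ℕ} (h : a + b = c) (x : symplecticGroup (Fin a) F) (y : symplecticGroup (Fin b) F) :
    orderOf (spBlockHom F h (x, y)) = (orderOf x).lcm (orderOf y) := by
  rw [orderOf_injective _ (fun u v huv => ?_), Prod.orderOf]
  have := spBlockMat_injective _ (congrArg Subtype.val huv)
  exact Prod.ext (Subtype.ext (congrArg Prod.fst this)) (Subtype.ext (congrArg Prod.snd this))

theorem adjacent_char_iff (p : ℕ) [Fact p.Prime] [CharP F p] (n : ℕ) (hn : 2 ≤ n)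
    (r : ℕ) (hr : r.Prime) (hr2 : r ≠ 2) (hrp : r ≠ p)
    (k ηk : ℕ) (hk : k = orderOf ((Fintype.card F : ℕ) : ZMod r)) (hηk : (Odd k ∧ ηk = k) ∨ (Even k ∧ 2 * ηk = k)) :
    (r * p ∉ Set.range (orderOf : Cfsg.PSp n F → ℕ)) ↔ n - 1 < ηk := by
  classical
  haveI : Fact r.Prime := ⟨hr⟩
  have hp : p.Prime := Fact.out
  have hq := PSLPrimeGraph.ne_zero_of_ne_char (F := F) (p := p) hrp
  have hk0 : 0 < k := hk ▸ PSLPrimeGraph.orderOf_ord_pos hq
  have hrF : (r : F) ≠ 0 := natCast_ne_zero (p := p) hr hrp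
  have hZ : ∀ t : ℕ, t.Prime → t ∣ Nat.card (Subgroup.center (symplecticGroup (Fin n) F)) → t ≠ r ∧ t ≠ p := by
    intro t ht h
    obtain ⟨h2, hch⟩ := card_center ht h
    refine ⟨by omega, fun htp => hch ?_⟩
    rw [ringChar.eq F p, ← htp, h2]
  constructor
  · intro hno
    by_contra hle
    refine hno ?_
    obtain ⟨hη0, -⟩ := eta_pos hk0 hηk
    obtain ⟨x, hx⟩ := exists_order (F := F) (m := n - 1) (η := ηk) (t := r) hη0 (by omega) (by
      rcases dvd_of_eta hk0 hk hηk odd_one with ⟨-, h⟩ | ⟨-, h⟩ <;> rw [mul_one] at h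
      exacts [Or.inl h, Or.inr h])
    obtain ⟨u, hu⟩ := exists_sp_unipotent (F := F) p 1 le_rfl
    have hclog : Nat.clog p (2 * 1) = 1 := by
      refine le_antisymm (Nat.clog_le_of_le_pow (by have := hp.two_le; rw [pow_one]; omega)) (Nat.clog_pos hp.one_lt ?_)
      omega
    rw [hclog, pow_one] at hu
    have hy : orderOf (spBlockHom F (Nat.sub_add_cancel (show 1 ≤ n by omega)) (x, u)) = r * p := by
      rw [spBlock_order, hx, hu]
      exact ((Nat.coprime_primes hr hp).2 hrp).lcm_eq_mul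
    refine ⟨(spBlockHom F (Nat.sub_add_cancel (show 1 ≤ n by omega)) (x, u) : Cfsg.PSp n F),
      (PSLPrimeGraph.orderOf_mk_of_coprime _ ?_).trans hy⟩
    rw [hy, Nat.coprime_iff_gcd_eq_one]
    refine Nat.eq_one_iff_not_exists_prime_dvd.2 fun t ht h => ?_
    obtain ⟨h1, h2⟩ := Nat.dvd_gcd_iff.1 h
    obtain ⟨a, b⟩ := hZ t ht h2
    rcases ht.dvd_mul.1 h1 with h | h
    · exact a ((Nat.prime_dvd_prime_iff_eq ht hr).1 h)
    · exact b ((Nat.prime_dvd_prime_iff_eq ht hp).1 h)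
  rintro hc ⟨g, hg⟩
  obtain ⟨a, b, hb, ha, hab⟩ := PSLPrimeGraph.exists_pair g hg hr hp
  obtain ⟨A, B, hAB, hA, ⟨i, hAi⟩, hBZ, hBr⟩ :=
    exists_lift_pair le_rfl hp hr (Ne.symm hrp) (fun h => (hZ r hr h).1 rfl) b a ha hb hab.symm
  haveI : Nonempty (Fin n ⊕ Fin n) := ⟨Sum.inl ⟨0, by omega⟩⟩
  obtain ⟨N, hN⟩ : ∃ N, N = rep n F A - 1 := ⟨_, rfl⟩
  have hnil : IsNilpotent N := by
    refine ⟨p ^ i, ?_⟩
    have he : N = Matrix.toLinAlgEquiv' ((A : Matrix (Fin n ⊕ Fin n) (Fin n ⊕ Fin n) F) - 1) := by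
      rw [hN, map_sub, map_one]; rfl
    rw [he, ← map_pow, sub_pow_char_pow_of_commute (p := p)
      (x := (A : Matrix (Fin n ⊕ Fin n) (Fin n ⊕ Fin n) F)) (y := 1) (h := Commute.one_right _), one_pow,
      ← SubmonoidClass.coe_pow, hAi, OneMemClass.coe_one, sub_self, map_zero]
  have := eta_add_one_le hr2 stdForm_alt (T := rep n F B) (N := N) (by rw [← map_pow, hBr, map_one])
    (fun h => hBZ (by rw [rep_injective (h.trans (map_one (rep n F)).symm)]; exact one_mem _))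
    (fun h => hA (rep_injective ((sub_eq_zero.1 (hN ▸ h)).trans (map_one (rep n F)).symm))) hnil
    (by rw [hN]; exact ((hAB.map (rep n F)).symm.sub_right (Commute.one_right _)))
    (rep_iso B) (fun x y => by
      have e : ∀ v, v + N v = rep n F A v := fun v => by
        rw [hN, LinearMap.sub_apply, Module.End.one_apply, add_sub_cancel]
      rw [e, e]; exact rep_iso A x y) hrF hq hk hηk
  rw [Module.finrank_fintype_fun_eq_card, Fintype.card_sum, Fintype.card_fin] at this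
  omega

theorem adjacent_iff (p : ℕ) [Fact p.Prime] [CharP F p] (n : ℕ)
    (r s : ℕ) (hr : r.Prime) (hs : s.Prime) (hr2 : r ≠ 2) (hs2 : s ≠ 2) (hrp : r ≠ p) (hsp : s ≠ p) (hrs : r ≠ s)
    (hsG : s ∣ Nat.card (Cfsg.PSp n F))
    (k l ηk ηl : ℕ) (hk : k = orderOf ((Fintype.card F : ℕ) : ZMod r)) (hl : l = orderOf ((Fintype.card F : ℕ) : ZMod s))
    (hηk : (Odd k ∧ ηk = k) ∨ (Even k ∧ 2 * ηk = k)) (hηl : (Odd l ∧ ηl = l) ∨ (Even l ∧ 2 * ηl = l)) (hkl : ηk ≤ ηl) :
    (r * s ∉ Set.range (orderOf : Cfsg.PSp n F → ℕ)) ↔ (n < ηk + ηl ∧ ¬ ∃ t : ℕ, Odd t ∧ l = k * t) := by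
  classical
  haveI : Fact r.Prime := ⟨hr⟩
  haveI : Fact s.Prime := ⟨hs⟩
  have hqr := PSLPrimeGraph.ne_zero_of_ne_char (F := F) (p := p) hrp
  have hqs := PSLPrimeGraph.ne_zero_of_ne_char (F := F) (p := p) hsp
  have hk0 : 0 < k := hk ▸ PSLPrimeGraph.orderOf_ord_pos hqr
  have hl0 : 0 < l := hl ▸ PSLPrimeGraph.orderOf_ord_pos hqs
  obtain ⟨hηk0, -⟩ := eta_pos hk0 hηk
  obtain ⟨hηl0, -⟩ := eta_pos hl0 hηl
  have hln : ηl ≤ n := eta_le (p := p) hsp hsG hl hηl
  have hZ : (r * s).Coprime (Nat.card (Subgroup.center (symplecticGroup (Fin n) F))) :=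
    Nat.Coprime.mul_left (hr.coprime_iff_not_dvd.2 fun h => hr2 (card_center hr h).1)
      (hs.coprime_iff_not_dvd.2 fun h => hs2 (card_center hs h).1)
  have hco : ∀ x : symplecticGroup (Fin n) F, orderOf x = r * s →
      r * s ∈ Set.range (orderOf : Cfsg.PSp n F → ℕ) := fun x hx =>
    ⟨(x : Cfsg.PSp n F), (PSLPrimeGraph.orderOf_mk_of_coprime x (by rw [hx]; exact hZ)).trans hx⟩
  constructor
  · intro hno
    refine ⟨?_, fun ⟨t, hto, hlt⟩ => hno ?_⟩
    · by_contra hle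
      refine hno ?_
      obtain ⟨x, hx⟩ := exists_order (F := F) (m := ηk) (η := ηk) (t := r) hηk0 le_rfl (by
        rcases dvd_of_eta hk0 hk hηk odd_one with ⟨-, h⟩ | ⟨-, h⟩ <;> rw [mul_one] at h
        exacts [Or.inl h, Or.inr h])
      obtain ⟨y, hy⟩ := exists_order (F := F) (m := n - ηk) (η := ηl) (t := s) hηl0 (by omega) (by
        rcases dvd_of_eta hl0 hl hηl odd_one with ⟨-, h⟩ | ⟨-, h⟩ <;> rw [mul_one] at h
        exacts [Or.inl h, Or.inr h])
      refine hco (spBlockHom F (show ηk + (n - ηk) = n by omega) (x, y)) ?_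
      rw [spBlock_order, hx, hy]
      exact ((Nat.coprime_primes hr hs).2 hrs).lcm_eq_mul
    · have hηt : ηl = ηk * t := by
        rcases hηk with ⟨hko, hk'⟩ | ⟨hke, hk'⟩
        · rcases hηl with ⟨-, hl'⟩ | ⟨hle, -⟩
          · rw [hl', hk', hlt]
          · exact absurd hle (Nat.not_even_iff_odd.2 (hlt ▸ Nat.odd_mul.2 ⟨hko, hto⟩))
        · rcases hηl with ⟨hlo, -⟩ | ⟨-, hl'⟩
          · exact absurd (hlt ▸ hke.mul_right t) (Nat.not_even_iff_odd.2 hlo)
          · refine Nat.eq_of_mul_eq_mul_left two_pos ?_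
            rw [hl', hlt, ← hk', mul_assoc]
      obtain ⟨x, hx⟩ := exists_order (F := F) (m := n) (η := ηl) (t := r * s) hηl0 hln (by
        have hco' := (Nat.coprime_primes hr hs).2 hrs
        rcases dvd_of_eta hk0 hk hηk hto with ⟨hko, h1⟩ | ⟨hke, h1⟩ <;>
          rcases dvd_of_eta hl0 hl hηl odd_one with ⟨hlo, h2⟩ | ⟨hle, h2⟩ <;>
          rw [← hηt] at h1 <;> rw [mul_one] at h2
        · exact Or.inl (hco'.mul_dvd_of_dvd_of_dvd h1 h2)
        · exact absurd hle (Nat.not_even_iff_odd.2 (hlt ▸ Nat.odd_mul.2 ⟨hko, hto⟩))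
        · exact absurd (hlt ▸ hke.mul_right t) (Nat.not_even_iff_odd.2 hlo)
        · exact Or.inr (hco'.mul_dvd_of_dvd_of_dvd h1 h2))
      exact hco x hx
  rintro ⟨hn, hnodd⟩ ⟨g, hg⟩
  obtain ⟨a, b, ha, hb, hab⟩ := PSLPrimeGraph.exists_pair g hg hr hs
  obtain ⟨A, B, hAB, hA, ⟨i, hAi⟩, hBZ, hBs⟩ := exists_lift_pair le_rfl hr hs hrs
    (fun h => hs2 (card_center hs h).1) a b ha hb hab
  obtain ⟨C, hC, hC2, hC3⟩ : ∃ C, Commute C B ∧ C ≠ 1 ∧ C ^ r = 1 := by
    obtain ⟨j, -, hjo⟩ := (Nat.dvd_prime_pow hr).1 (orderOf_dvd_of_pow_eq_one hAi)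
    have hj : 0 < j := Nat.pos_of_ne_zero fun h => hA (orderOf_eq_one_iff.1 (by rw [hjo, h, pow_zero]))
    refine ⟨A ^ r ^ (j - 1), hAB.pow_left _, fun h => ?_, ?_⟩
    · have hle := orderOf_dvd_of_pow_eq_one h
      rw [hjo, Nat.pow_dvd_pow_iff_le_right hr.one_lt] at hle
      omega
    · rw [← pow_mul, ← pow_succ, Nat.sub_add_cancel hj, ← hjo, pow_orderOf_eq_one]
  rcases eta_add_le_or hr2 hs2 hrs stdForm_alt (T := rep n F C) (S := rep n F B)
    (by rw [← map_pow, hC3, map_one]) (fun h => hC2 (rep_injective (h.trans (map_one (rep n F)).symm)))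
    (by rw [← map_pow, hBs, map_one])
    (fun h => hBZ (by rw [rep_injective (h.trans (map_one (rep n F)).symm)]; exact one_mem _))
    (hC.map _) (rep_iso C) (rep_iso B) (natCast_ne_zero (p := p) hr hrp) (natCast_ne_zero (p := p) hs hsp)
    hqr hqs hk hl hηk hηl hkl with h | h
  · rw [Module.finrank_fintype_fun_eq_card, Fintype.card_sum, Fintype.card_fin] at h
    omega
  · exact hnodd h

end Group

end Cfsg.Agent.Small.SpPrimeGraph
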