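import Mathlib
import Cfsg.Prelude.Def_Classical

/-!
Standard bases of nondegenerate quadratic spaces over finite fields, in every characteristic.
-/

set_option autoImplicit false

namespace Cfsg.Agent.Small.QuadBasis

open QuadraticMap Module

variable {F V : Type*} [Field F] [AddCommGroup V] [Module F V] (Q : QuadraticForm F V)

theorem q_add (x y : V) : Q (x + y) = Q x + Q y + polar Q x y := by rw [polar]; abel

theorem q_smul (c : F) (x : V) : Q (c • x) = c * c * Q x := by rw [QuadraticMap.map_smul, smul_eq_mul]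

theorem p_smul_left (c : F) (x y : V) : polar Q (c • x) y = c * polar Q x y := by
  rw [polar_smul_left, smul_eq_mul]

theorem p_smul_right (c : F) (x y : V) : polar Q x (c • y) = c * polar Q x y := by
  rw [polar_smul_right, smul_eq_mul]

theorem p_self (x : V) : polar Q x x = 2 * Q x := by rw [polar_self, two_nsmul, two_mul]

theorem q_sum {ι : Type*} (s : Finset ι) (v : ι → V) (h : ∀ i j, i ≠ j → polar Q (v i) (v j) = 0) :
    Q (∑ i ∈ s, v i) = ∑ i ∈ s, Q (v i) := by
  classical
  induction s using Finset.induction with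
  | empty => simp
  | insert a s ha ih =>
    rw [Finset.sum_insert ha, Finset.sum_insert ha, q_add, ih]
    have h0 : polar Q (v a) (∑ i ∈ s, v i) = 0 := by
      rw [← QuadraticMap.polarBilin_apply_apply, map_sum]
      exact Finset.sum_eq_zero fun i hi => h a i fun e => ha (e ▸ hi)
    rw [h0, add_zero]

theorem exists_form_rep [Fintype F] (h2 : (2 : F) ≠ 0) (a b c : F) (ha : a ≠ 0) (hb : b ≠ 0) :
    ∃ s t : F, a * (s * s) + b * (t * t) = c := by
  have hR : ringChar F ≠ 2 := fun h => h2 (by
    have : CharP F 2 := ringChar.of_eq h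
    exact CharP.cast_eq_zero F 2)
  have hf : (Polynomial.C a * Polynomial.X ^ 2).degree = 2 := Polynomial.degree_C_mul_X_pow 2 ha
  have hg : (Polynomial.C b * Polynomial.X ^ 2 - Polynomial.C c).degree = 2 := by
    rw [Polynomial.degree_sub_C (by rw [Polynomial.degree_C_mul_X_pow 2 hb]; decide),
      Polynomial.degree_C_mul_X_pow 2 hb]
    rfl
  obtain ⟨s, t, h⟩ := FiniteField.exists_root_sum_quadratic hf hg (FiniteField.odd_card_of_char_ne_two hR)
  refine ⟨s, t, ?_⟩
  simp only [Polynomial.eval_mul, Polynomial.eval_C, Polynomial.eval_pow, Polynomial.eval_X, Polynomial.eval_sub] at h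
  linear_combination h

theorem exists_sq [Fintype F] (h2 : (2 : F) = 0) (a : F) : ∃ r : F, r * r = a := by
  have : CharP F 2 := CharTwo.of_one_ne_zero_of_two_eq_zero one_ne_zero h2
  obtain ⟨r, hr⟩ := FiniteField.isSquare_of_char_two (ringChar.eq F 2) a
  exact ⟨r, hr.symm⟩

/-- The restriction of the polar form to a subspace is nondegenerate. -/
def Nondeg (W : Submodule F V) : Prop := ∀ x ∈ W, (∀ y ∈ W, polar Q x y = 0) → x = 0

theorem exists_singular [Fintype F] [FiniteDimensional F V] {W : Submodule F V} (h3 : 3 ≤ finrank F W) :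
    ∃ x ∈ W, x ≠ 0 ∧ Q x = 0 := by
  classical
  by_contra hno
  push Not at hno
  have hW0 : W ≠ ⊥ := fun h => by rw [h, finrank_bot] at h3; omega
  obtain ⟨x, hx, hx0⟩ := Submodule.exists_mem_ne_zero_of_ne_bot hW0
  obtain ⟨W₁, hW₁⟩ : ∃ W₁, W₁ = W ⊓ LinearMap.ker (polarBilin Q x) := ⟨_, rfl⟩
  have hr1 : 2 ≤ finrank F W₁ := by
    have h := Submodule.finrank_sup_add_finrank_inf_eq W (LinearMap.ker (polarBilin Q x))
    have h' := (polarBilin Q x).finrank_range_add_finrank_ker
    have : finrank F (LinearMap.range (polarBilin Q x)) ≤ 1 := (Submodule.finrank_le _).trans (finrank_self F).le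
    have := Submodule.finrank_le (W ⊔ LinearMap.ker (polarBilin Q x))
    rw [hW₁]
    omega
  have hW₁' : ∀ y ∈ W₁, y ∈ W ∧ polar Q x y = 0 := fun y hy => by
    rw [hW₁, Submodule.mem_inf, LinearMap.mem_ker] at hy
    exact hy
  by_cases h2 : (2 : F) = 0
  · obtain ⟨y, hy, hys⟩ : ∃ y ∈ W₁, y ∉ Submodule.span F {x} := SetLike.not_le_iff_exists.mp fun h => by
      have := Submodule.finrank_mono h
      rw [finrank_span_singleton hx0] at this
      omega
    obtain ⟨c, hc⟩ := exists_sq h2 (Q y / Q x)
    refine hno (y + c • x) (W.add_mem (hW₁' y hy).1 (W.smul_mem _ hx)) (fun h => hys ?_) ?_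
    · rw [eq_neg_of_add_eq_zero_left h]
      exact neg_mem (Submodule.smul_mem _ _ (Submodule.mem_span_singleton_self x))
    · rw [q_add, q_smul, p_smul_right, polar_comm, (hW₁' y hy).2, hc, div_mul_cancel₀ _ (hno x hx hx0)]
      linear_combination (Q y) * h2
  · obtain ⟨y, hy, hy0⟩ := Submodule.exists_mem_ne_zero_of_ne_bot (p := W₁) fun h => by
      rw [h, finrank_bot] at hr1
      omega
    obtain ⟨z, hz, hz0⟩ := Submodule.exists_mem_ne_zero_of_ne_bot (p := W₁ ⊓ LinearMap.ker (polarBilin Q y)) fun h => by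
      have h' := (polarBilin Q y).finrank_range_add_finrank_ker
      have : finrank F (LinearMap.range (polarBilin Q y)) ≤ 1 := (Submodule.finrank_le _).trans (finrank_self F).le
      have h'' := Submodule.finrank_sup_add_finrank_inf_eq W₁ (LinearMap.ker (polarBilin Q y))
      rw [h, finrank_bot] at h''
      have := Submodule.finrank_le (W₁ ⊔ LinearMap.ker (polarBilin Q y))
      omega
    rw [Submodule.mem_inf, LinearMap.mem_ker] at hz
    have hyz : polar Q y z = 0 := hz.2
    obtain ⟨hzW, hxz⟩ := hW₁' z hz.1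
    obtain ⟨hyW, hxy⟩ := hW₁' y hy
    obtain ⟨s, t, hst⟩ := exists_form_rep h2 (Q x) (Q y) (-Q z) (hno x hx hx0) (hno y hyW hy0)
    refine hno (z + (s • x + t • y)) (W.add_mem hzW (W.add_mem (W.smul_mem _ hx) (W.smul_mem _ hyW))) (fun h => ?_) ?_
    · have h' := congrArg (fun u => polar Q z u) h
      simp only [polar_add_right, p_smul_right, polar_zero_right, p_self] at h'
      rw [polar_comm _ z x, hxz, polar_comm _ z y, hyz] at h'
      simp [h2, hno z hzW hz0] at h'
    · rw [q_add Q z, q_add Q (s • x), q_smul, q_smul, polar_add_right, p_smul_right, p_smul_right, p_smul_right,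
        p_smul_left, polar_comm _ z x, hxz, polar_comm _ z y, hyz, hxy]
      linear_combination hst

theorem exists_pair [FiniteDimensional F V] {W : Submodule F V} (hW : Nondeg Q W) {e : V} (he : e ∈ W)
    (he0 : e ≠ 0) (hQe : Q e = 0) :
    ∃ f ∈ W, Q f = 0 ∧ polar Q e f = 1 ∧ ∃ W' : Submodule F V, W' ≤ W ∧ Nondeg Q W' ∧
      finrank F W' + 2 = finrank F W ∧ ∀ x ∈ W', polar Q e x = 0 ∧ polar Q f x = 0 := by
  obtain ⟨g₀, hg₀, hg₀'⟩ : ∃ g ∈ W, polar Q e g ≠ 0 := by
    by_contra h
    push Not at h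
    exact he0 (hW e he h)
  obtain ⟨g, hg, hg'⟩ : ∃ g ∈ W, polar Q e g = 1 :=
    ⟨(polar Q e g₀)⁻¹ • g₀, W.smul_mem _ hg₀, by rw [p_smul_right, inv_mul_cancel₀ hg₀']⟩
  have hee : polar Q e e = 0 := by rw [p_self, hQe, mul_zero]
  obtain ⟨f, hf, hQf, hef⟩ : ∃ f ∈ W, Q f = 0 ∧ polar Q e f = 1 := by
    refine ⟨g + (-Q g) • e, W.add_mem hg (W.smul_mem _ he), ?_, ?_⟩
    · rw [q_add, q_smul, p_smul_right, polar_comm, hg', hQe]
      ring
    · rw [polar_add_right, p_smul_right, hg', hee]
      ring
  have hff : polar Q f f = 0 := by rw [p_self, hQf, mul_zero]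
  refine ⟨f, hf, hQf, hef, W ⊓ (LinearMap.ker (polarBilin Q e) ⊓ LinearMap.ker (polarBilin Q f)), inf_le_left,
    ?_, ?_, fun x hx => ?_⟩
  · intro x hx hxo
    simp only [Submodule.mem_inf, LinearMap.mem_ker, polarBilin_apply_apply] at hx
    refine hW x hx.1 fun y hy => ?_
    have h := hxo (y - polar Q f y • e - polar Q e y • f) (by
      simp only [Submodule.mem_inf, LinearMap.mem_ker, polarBilin_apply_apply]
      refine ⟨W.sub_mem (W.sub_mem hy (W.smul_mem _ he)) (W.smul_mem _ hf), ?_, ?_⟩
      · simp only [polar_sub_right, p_smul_right, hee, hef]; ring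
      · simp only [polar_sub_right, p_smul_right, hff, polar_comm _ f e, hef]; ring)
    simp only [polar_sub_right, p_smul_right, polar_comm _ x e, hx.2.1, polar_comm _ x f, hx.2.2, mul_zero,
      sub_zero] at h
    exact h
  · let l : W →ₗ[F] F × F := ((polarBilin Q e).prod (polarBilin Q f)).domRestrict W
    have hl : LinearMap.range l = ⊤ := LinearMap.range_eq_top.mpr fun p =>
      ⟨p.2 • ⟨e, he⟩ + p.1 • ⟨f, hf⟩, by
        simp [l, polarBilin_apply_apply, polar_add_right, hee, hef, hff, polar_comm _ f e]⟩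
    have h := l.finrank_range_add_finrank_ker
    rw [hl, finrank_top, finrank_prod, finrank_self] at h
    have hm : (LinearMap.ker l).map W.subtype =
        W ⊓ (LinearMap.ker (polarBilin Q e) ⊓ LinearMap.ker (polarBilin Q f)) := by
      rw [show LinearMap.ker l = Submodule.comap W.subtype
        (LinearMap.ker (polarBilin Q e) ⊓ LinearMap.ker (polarBilin Q f)) from by
          rw [← LinearMap.ker_prod, ← LinearMap.ker_comp]; rfl, Submodule.map_comap_subtype]
    rw [← hm, Submodule.finrank_map_subtype_eq]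
    omega
  · simp only [Submodule.mem_inf, LinearMap.mem_ker, polarBilin_apply_apply] at hx
    exact hx.2

/-- Mutually orthogonal hyperbolic pairs inside a subspace. -/
structure Frame (W : Submodule F V) (k : ℕ) (e f : Fin k → V) : Prop where
  he : ∀ i, e i ∈ W
  hf : ∀ i, f i ∈ W
  qe : ∀ i, Q (e i) = 0
  qf : ∀ i, Q (f i) = 0
  ef : ∀ i j, polar Q (e i) (f j) = if i = j then 1 else 0
  ee : ∀ i j, polar Q (e i) (e j) = 0
  ff : ∀ i j, polar Q (f i) (f j) = 0

theorem exists_frame [Fintype F] [FiniteDimensional F V] (r : ℕ) (hr : r = 1 ∨ r = 2) :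
    ∀ (k : ℕ) (W : Submodule F V), Nondeg Q W → finrank F W = 2 * k + r →
      ∃ (e f : Fin k → V) (W₀ : Submodule F V), Frame Q W k e f ∧ W₀ ≤ W ∧ Nondeg Q W₀ ∧ finrank F W₀ = r ∧
        ∀ x ∈ W₀, ∀ i, polar Q (e i) x = 0 ∧ polar Q (f i) x = 0 := by
  intro k
  induction k with
  | zero =>
    exact fun W hW hd => ⟨Fin.elim0, Fin.elim0, W,
      ⟨fun i => i.elim0, fun i => i.elim0, fun i => i.elim0, fun i => i.elim0, fun i => i.elim0, fun i => i.elim0,
        fun i => i.elim0⟩, le_rfl, hW, by omega, fun x _ i => i.elim0⟩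
  | succ k ih =>
    intro W hW hd
    obtain ⟨a, ha, ha0, hQa⟩ := exists_singular Q (W := W) (by omega)
    obtain ⟨b, hb, hQb, hab, W', hW', hN', hd', ho⟩ := exists_pair Q hW ha ha0 hQa
    obtain ⟨e, f, W₀, hF, hW₀, hN₀, hd₀, ho₀⟩ := ih W' hN' (by omega)
    refine ⟨Fin.cons a e, Fin.cons b f, W₀, ?_, hW₀.trans hW', hN₀, hd₀, fun x hx i => ?_⟩
    · constructor
      · exact fun i => Fin.cases ha (fun i => hW' (hF.he i)) i
      · exact fun i => Fin.cases hb (fun i => hW' (hF.hf i)) i
      · exact fun i => Fin.cases hQa hF.qe i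
      · exact fun i => Fin.cases hQb hF.qf i
      · intro i j
        cases i using Fin.cases with
        | zero =>
          cases j using Fin.cases with
          | zero => simpa using hab
          | succ j => simpa [(Fin.succ_ne_zero j).symm] using (ho _ (hF.hf j)).1
        | succ i =>
          cases j using Fin.cases with
          | zero => simpa [Fin.succ_ne_zero i, polar_comm _ (e i) b] using (ho _ (hF.he i)).2
          | succ j => simpa [Fin.succ_inj] using hF.ef i j
      · intro i j
        cases i using Fin.cases with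
        | zero =>
          cases j using Fin.cases with
          | zero => simp [hQa]
          | succ j => simpa using (ho _ (hF.he j)).1
        | succ i =>
          cases j using Fin.cases with
          | zero => simpa [polar_comm _ (e i) a] using (ho _ (hF.he i)).1
          | succ j => simpa using hF.ee i j
      · intro i j
        cases i using Fin.cases with
        | zero =>
          cases j using Fin.cases with
          | zero => simp [hQb]
          | succ j => simpa using (ho _ (hF.hf j)).2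
        | succ i =>
          cases j using Fin.cases with
          | zero => simpa [polar_comm _ (f i) b] using (ho _ (hF.hf i)).2
          | succ j => simpa using hF.ff i j
    · cases i using Fin.cases with
      | zero => simpa using ho x (hW₀ hx)
      | succ i => simpa using ho₀ x hx i

theorem exists_binary [Fintype F] [FiniteDimensional F V] {W : Submodule F V} (hW : Nondeg Q W)
    (hd : finrank F W = 2) :
    (∃ e f : V, e ∈ W ∧ f ∈ W ∧ Q e = 0 ∧ Q f = 0 ∧ polar Q e f = 1) ∨
      ∃ (x y : V) (ζ : F), x ∈ W ∧ y ∈ W ∧ Q x = 1 ∧ polar Q x y = 1 ∧ Q y = ζ ∧ (∀ t : F, t ^ 2 + t + ζ ≠ 0) ∧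
        LinearIndependent F ![x, y] := by
  by_cases hs : ∃ e ∈ W, e ≠ 0 ∧ Q e = 0
  · obtain ⟨e, he, he0, hQe⟩ := hs
    obtain ⟨f, hf, hQf, hef, -⟩ := exists_pair Q hW he he0 hQe
    exact Or.inl ⟨e, f, he, hf, hQe, hQf, hef⟩
  push Not at hs
  refine Or.inr ?_
  have hW0 : W ≠ ⊥ := fun h => by rw [h, finrank_bot] at hd; omega
  obtain ⟨x₀, hx₀, hx₀0⟩ := Submodule.exists_mem_ne_zero_of_ne_bot hW0
  obtain ⟨x, hx, hQx⟩ : ∃ x ∈ W, Q x = 1 := by
    by_cases h2 : (2 : F) = 0
    · obtain ⟨c, hc⟩ := exists_sq h2 (Q x₀)⁻¹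
      exact ⟨c • x₀, W.smul_mem _ hx₀, by rw [q_smul, hc, inv_mul_cancel₀ (hs x₀ hx₀ hx₀0)]⟩
    · obtain ⟨z, hz, hz0⟩ := Submodule.exists_mem_ne_zero_of_ne_bot (p := W ⊓ LinearMap.ker (polarBilin Q x₀))
        fun h => by
          have h' := (polarBilin Q x₀).finrank_range_add_finrank_ker
          have : finrank F (LinearMap.range (polarBilin Q x₀)) ≤ 1 :=
            (Submodule.finrank_le _).trans (finrank_self F).le
          have h'' := Submodule.finrank_sup_add_finrank_inf_eq W (LinearMap.ker (polarBilin Q x₀))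
          rw [h, finrank_bot] at h''
          have := Submodule.finrank_le (W ⊔ LinearMap.ker (polarBilin Q x₀))
          omega
      rw [Submodule.mem_inf, LinearMap.mem_ker] at hz
      obtain ⟨s, t, hst⟩ := exists_form_rep h2 (Q x₀) (Q z) 1 (hs x₀ hx₀ hx₀0) (hs z hz.1 hz0)
      refine ⟨s • x₀ + t • z, W.add_mem (W.smul_mem _ hx₀) (W.smul_mem _ hz.1), ?_⟩
      rw [q_add, q_smul, q_smul, p_smul_left, p_smul_right, show polar Q x₀ z = 0 from hz.2]
      linear_combination hst
  have hx0 : x ≠ 0 := fun h => by rw [h, QuadraticMap.map_zero] at hQx; exact zero_ne_one hQx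
  obtain ⟨w, hw, hws⟩ : ∃ w ∈ W, w ∉ Submodule.span F {x} := SetLike.not_le_iff_exists.mp fun h => by
    have := Submodule.finrank_mono h
    rw [finrank_span_singleton hx0] at this
    omega
  obtain ⟨y, hy, hys, hxy⟩ : ∃ y ∈ W, y ∉ Submodule.span F {x} ∧ polar Q x y = 1 := by
    by_cases hc : polar Q x w = 0
    · obtain ⟨g₀, hg₀, hg₀'⟩ : ∃ g ∈ W, polar Q x g ≠ 0 := by
        by_contra h
        push Not at h
        exact hx0 (hW x hx h)
      by_cases hgs : (polar Q x g₀)⁻¹ • g₀ ∈ Submodule.span F {x}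
      · refine ⟨(polar Q x g₀)⁻¹ • g₀ + w, W.add_mem (W.smul_mem _ hg₀) hw, fun h => hws ?_, ?_⟩
        · simpa using (Submodule.add_mem_iff_right _ hgs).mp h
        · rw [polar_add_right, p_smul_right, inv_mul_cancel₀ hg₀', hc, add_zero]
      · exact ⟨_, W.smul_mem _ hg₀, hgs, by rw [p_smul_right, inv_mul_cancel₀ hg₀']⟩
    · refine ⟨(polar Q x w)⁻¹ • w, W.smul_mem _ hw, fun h => hws ?_, by rw [p_smul_right, inv_mul_cancel₀ hc]⟩
      simpa [smul_smul, mul_inv_cancel₀ hc] using Submodule.smul_mem _ (polar Q x w) h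
  refine ⟨x, y, Q y, hx, hy, hQx, hxy, rfl, fun t ht => ?_, ?_⟩
  · have h1 : t • x + y ≠ 0 := fun h => hys (by
      rw [eq_neg_of_add_eq_zero_right h]
      exact neg_mem (Submodule.smul_mem _ _ (Submodule.mem_span_singleton_self x)))
    refine hs _ (W.add_mem (W.smul_mem _ hx) hy) h1 ?_
    rw [q_add, q_smul, p_smul_left, hQx, hxy]
    linear_combination ht
  · rw [LinearIndependent.pair_iff' hx0]
    exact fun a ha => hys (ha ▸ Submodule.smul_mem _ _ (Submodule.mem_span_singleton_self x))

theorem frame_li {k : ℕ} {W : Submodule F V} {e f : Fin k → V} (hF : Frame Q W k e f) {κ : Type*} [Fintype κ]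
    (w : κ → V) (hw : LinearIndependent F w) (ho : ∀ c i, polar Q (e i) (w c) = 0 ∧ polar Q (f i) (w c) = 0) :
    LinearIndependent F (Sum.elim (Sum.elim e f) w) := by
  classical
  rw [Fintype.linearIndependent_iff]
  intro g hg
  have hev : ∀ (u : V), ∑ i, g i * polar Q u (Sum.elim (Sum.elim e f) w i) = 0 := fun u => by
    have := congrArg (polarBilin Q u) hg
    rw [map_sum, map_zero] at this
    rw [← this]
    exact Finset.sum_congr rfl fun i _ => by rw [map_smul, smul_eq_mul]; rfl
  have hf : ∀ j, g (.inl (.inr j)) = 0 := fun j => by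
    simpa [Fintype.sum_sum_type, hF.ee, hF.ef, (ho · j)] using hev (e j)
  have he : ∀ j, g (.inl (.inl j)) = 0 := fun j => by
    have := hev (f j)
    simpa [Fintype.sum_sum_type, hF.ff, polar_comm _ (f j) (e _), hF.ef, (ho · j)] using this
  intro i
  rcases i with (i | i) | i
  · exact he i
  · exact hf i
  · exact Fintype.linearIndependent_iff.mp hw _ (by simpa [Fintype.sum_sum_type, he, hf] using hg) i

/-- The value of `Q` in coordinates of a frame plus a complementary part. -/
theorem frame_value {k : ℕ} {W : Submodule F V} {e f : Fin k → V} (hF : Frame Q W k e f) {κ : Type*} [Fintype κ]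
    (w : κ → V) (ho : ∀ c i, polar Q (e i) (w c) = 0 ∧ polar Q (f i) (w c) = 0)
    (a b : Fin k → F) (z : κ → F) :
    Q (∑ i, (a i • e i + b i • f i) + ∑ c, z c • w c) = ∑ i, a i * b i + Q (∑ c, z c • w c) := by
  rw [q_add, q_sum]
  · have h0 : polar Q (∑ i, (a i • e i + b i • f i)) (∑ c, z c • w c) = 0 := by
      rw [← polarBilin_apply_apply, map_sum]
      refine Finset.sum_eq_zero fun c _ => ?_
      rw [map_sum, LinearMap.sum_apply]
      refine Finset.sum_eq_zero fun i _ => ?_
      simp only [polarBilin_apply_apply, polar_add_left, p_smul_left, p_smul_right, ho c i]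
      ring
    rw [h0, add_zero]
    refine congrArg (· + _) (Finset.sum_congr rfl fun i _ => ?_)
    rw [q_add, q_smul, q_smul, p_smul_left, p_smul_right, hF.qe, hF.qf, hF.ef, if_pos rfl]
    ring
  · intro i j hij
    simp only [polar_add_left, polar_add_right, p_smul_left, p_smul_right, hF.ee, hF.ff, hF.ef, if_neg hij,
      polar_comm _ (f i) (e j), if_neg (Ne.symm hij)]
    ring

end Cfsg.Agent.Small.QuadBasis
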