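import Mathlib
import Cfsg.Agent.Lib.Small.QuadBasis

/-!
Hyperbolic, elliptic and parabolic bases; similarities with arbitrary multiplier in even dimension.
-/

set_option autoImplicit false

namespace Cfsg.Agent.Small.QuadBasis

open QuadraticMap Module

variable {F V : Type*} [Field F] [AddCommGroup V] [Module F V] (Q : QuadraticForm F V)

theorem frame_cons {k : ℕ} {W : Submodule F V} {e f : Fin k → V} (hF : Frame Q W k e f) {a b : V} (ha : a ∈ W)
    (hb : b ∈ W) (hQa : Q a = 0) (hQb : Q b = 0) (hab : polar Q a b = 1)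
    (ho : ∀ i, polar Q (e i) a = 0 ∧ polar Q (f i) a = 0 ∧ polar Q (e i) b = 0 ∧ polar Q (f i) b = 0) :
    Frame Q W (k + 1) (Fin.cons a e) (Fin.cons b f) := by
  constructor
  · exact fun i => Fin.cases ha hF.he i
  · exact fun i => Fin.cases hb hF.hf i
  · exact fun i => Fin.cases hQa hF.qe i
  · exact fun i => Fin.cases hQb hF.qf i
  · intro i j
    cases i using Fin.cases with
    | zero =>
      cases j using Fin.cases with
      | zero => simpa using hab
      | succ j => simpa [(Fin.succ_ne_zero j).symm, polar_comm _ a (f j)] using (ho j).2.1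
    | succ i =>
      cases j using Fin.cases with
      | zero => simpa [Fin.succ_ne_zero i] using (ho i).2.2.1
      | succ j => simpa [Fin.succ_inj] using hF.ef i j
  · intro i j
    cases i using Fin.cases with
    | zero =>
      cases j using Fin.cases with
      | zero => simp [hQa]
      | succ j => simpa [polar_comm _ a (e j)] using (ho j).1
    | succ i =>
      cases j using Fin.cases with
      | zero => simpa using (ho i).1
      | succ j => simpa using hF.ee i j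
  · intro i j
    cases i using Fin.cases with
    | zero =>
      cases j using Fin.cases with
      | zero => simp [hQb]
      | succ j => simpa [polar_comm _ b (f j)] using (ho j).2.2.2
    | succ i =>
      cases j using Fin.cases with
      | zero => simpa using (ho i).2.2.2
      | succ j => simpa using hF.ff i j

theorem nondeg_top (hQ : (polarBilin Q).Nondegenerate) : Nondeg Q (⊤ : Submodule F V) :=
  fun x _ h => hQ.1 x fun y => h y Submodule.mem_top

theorem hyperbolic_li {k : ℕ} {W : Submodule F V} {e f : Fin k → V} (hF : Frame Q W k e f) :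
    LinearIndependent F (Sum.elim e f) :=
  (frame_li Q hF (κ := Fin 0) Fin.elim0 linearIndependent_empty_type fun c => c.elim0).comp Sum.inl Sum.inl_injective

theorem even_basis [Fintype F] [FiniteDimensional F V] {m : ℕ} (hm : 1 ≤ m) (hV : finrank F V = 2 * m)
    (hQ : (polarBilin Q).Nondegenerate) :
    (∃ b : Basis (Fin m ⊕ Fin m) F V, (∀ i, Q (b (Sum.inl i)) = 0 ∧ Q (b (Sum.inr i)) = 0) ∧
        (∀ i j, polar ⇑Q (b (Sum.inl i)) (b (Sum.inr j)) = if i = j then 1 else 0) ∧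
        (∀ i j, polar ⇑Q (b (Sum.inl i)) (b (Sum.inl j)) = 0 ∧ polar ⇑Q (b (Sum.inr i)) (b (Sum.inr j)) = 0)) ∨
      (∃ (b : Basis ((Fin (m - 1) ⊕ Fin (m - 1)) ⊕ Fin 2) F V) (ζ : F), (∀ t : F, t ^ 2 + t + ζ ≠ 0) ∧
        (∀ i, Q (b (Sum.inl (Sum.inl i))) = 0 ∧ Q (b (Sum.inl (Sum.inr i))) = 0) ∧
        (∀ i j, polar ⇑Q (b (Sum.inl (Sum.inl i))) (b (Sum.inl (Sum.inr j))) = if i = j then 1 else 0) ∧
        (∀ i j, polar ⇑Q (b (Sum.inl (Sum.inl i))) (b (Sum.inl (Sum.inl j))) = 0 ∧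
          polar ⇑Q (b (Sum.inl (Sum.inr i))) (b (Sum.inl (Sum.inr j))) = 0) ∧
        (∀ i (k : Fin 2), polar ⇑Q (b (Sum.inl (Sum.inl i))) (b (Sum.inr k)) = 0 ∧
          polar ⇑Q (b (Sum.inl (Sum.inr i))) (b (Sum.inr k)) = 0) ∧
        Q (b (Sum.inr 0)) = 1 ∧ polar ⇑Q (b (Sum.inr 0)) (b (Sum.inr 1)) = 1 ∧ Q (b (Sum.inr 1)) = ζ) := by
  obtain ⟨k, rfl⟩ : ∃ k, m = k + 1 := ⟨m - 1, by omega⟩
  obtain ⟨e, f, W₀, hF, -, hN, hd, ho⟩ := exists_frame Q 2 (Or.inr rfl) k ⊤ (nondeg_top Q hQ)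
    (by rw [finrank_top, hV]; ring)
  rcases exists_binary Q hN hd with ⟨a, b, ha, hb, hQa, hQb, hab⟩ | ⟨x, y, ζ, hx, hy, hQx, hxy, hQy, hζ, hli⟩
  · have hF' := frame_cons Q hF Submodule.mem_top Submodule.mem_top hQa hQb hab
      fun i => ⟨(ho a ha i).1, (ho a ha i).2, (ho b hb i).1, (ho b hb i).2⟩
    refine Or.inl ⟨basisOfLinearIndependentOfCardEqFinrank (hyperbolic_li Q hF') (by simp [hV]; ring), ?_, ?_, ?_⟩
    · exact fun i => by simpa using ⟨hF'.qe i, hF'.qf i⟩
    · exact fun i j => by simpa using hF'.ef i j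
    · exact fun i j => by simpa using ⟨hF'.ee i j, hF'.ff i j⟩
  · have ho' : ∀ (c : Fin 2) i, polar Q (e i) (![x, y] c) = 0 ∧ polar Q (f i) (![x, y] c) = 0 := by
      intro c i
      fin_cases c
      · simpa using ho x hx i
      · simpa using ho y hy i
    refine Or.inr ⟨basisOfLinearIndependentOfCardEqFinrank
      (ι := (Fin (k + 1 - 1) ⊕ Fin (k + 1 - 1)) ⊕ Fin 2)
      (b := Sum.elim (Sum.elim e f) ![x, y]) (frame_li Q hF _ hli ho') (by simp [hV]; ring), ζ, hζ, ?_, ?_, ?_, ?_, ?_, ?_, ?_⟩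
    · exact fun i => by simpa using ⟨hF.qe i, hF.qf i⟩
    · exact fun i j => by simpa using hF.ef i j
    · exact fun i j => by simpa using ⟨hF.ee i j, hF.ff i j⟩
    · exact fun i c => by simpa using ho' c i
    · simpa using hQx
    · simpa using hxy
    · simpa using hQy

theorem odd_basis [Fintype F] [FiniteDimensional F V] {m : ℕ} (hV : finrank F V = 2 * m + 1)
    (hQ : (polarBilin Q).Nondegenerate) :
    ∃ b : Basis (Unit ⊕ (Fin m ⊕ Fin m)) F V, Q (b (Sum.inl ())) ≠ 0 ∧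
      (∀ i, polar ⇑Q (b (Sum.inl ())) (b (Sum.inr (Sum.inl i))) = 0 ∧
        polar ⇑Q (b (Sum.inl ())) (b (Sum.inr (Sum.inr i))) = 0) ∧
      (∀ i, Q (b (Sum.inr (Sum.inl i))) = 0 ∧ Q (b (Sum.inr (Sum.inr i))) = 0) ∧
      (∀ i j, polar ⇑Q (b (Sum.inr (Sum.inl i))) (b (Sum.inr (Sum.inr j))) = if i = j then 1 else 0) ∧
      (∀ i j, polar ⇑Q (b (Sum.inr (Sum.inl i))) (b (Sum.inr (Sum.inl j))) = 0 ∧
        polar ⇑Q (b (Sum.inr (Sum.inr i))) (b (Sum.inr (Sum.inr j))) = 0) := by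
  obtain ⟨e, f, W₀, hF, -, hN, hd, ho⟩ := exists_frame Q 1 (Or.inl rfl) m ⊤ (nondeg_top Q hQ)
    (by rw [finrank_top, hV])
  have hW0 : W₀ ≠ ⊥ := fun h => by rw [h, finrank_bot] at hd; omega
  obtain ⟨x, hx, hx0⟩ := Submodule.exists_mem_ne_zero_of_ne_bot hW0
  have hQx : Q x ≠ 0 := fun h0 => hx0 (hN x hx fun y hy => by
    have hW : W₀ = Submodule.span F {x} := (Submodule.eq_of_le_of_finrank_eq
      ((Submodule.span_singleton_le_iff_mem _ _).mpr hx) (by rw [finrank_span_singleton hx0, hd])).symm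
    rw [hW, Submodule.mem_span_singleton] at hy
    obtain ⟨c, rfl⟩ := hy
    rw [p_smul_right, p_self, h0, mul_zero, mul_zero])
  have hli := (frame_li Q hF (κ := Unit) (fun _ => x) (LinearIndependent.of_subsingleton () hx0)
    fun _ i => ho x hx i).comp (Equiv.sumComm _ _) (Equiv.injective _)
  refine ⟨basisOfLinearIndependentOfCardEqFinrank (ι := Unit ⊕ (Fin m ⊕ Fin m)) hli (by simp [hV]; ring),
    by simpa using hQx, ?_, ?_, ?_, ?_⟩
  · exact fun i => by simpa [polar_comm _ x] using ho x hx i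
  · exact fun i => by simpa using ⟨hF.qe i, hF.qf i⟩
  · exact fun i j => by simpa using hF.ef i j
  · exact fun i j => by simpa using ⟨hF.ee i j, hF.ff i j⟩

theorem similarity [Fintype F] [FiniteDimensional F V] {m : ℕ} (hm : 1 ≤ m) (hV : finrank F V = 2 * m)
    (hQ : (polarBilin Q).Nondegenerate) (c : F) (hc : c ≠ 0) :
    ∃ g : V ≃ₗ[F] V, ∀ v, Q (g v) = c * Q v := by
  suffices h : ∃ g : V →ₗ[F] V, ∀ v, Q (g v) = c * Q v by
    obtain ⟨g, hg⟩ := h
    have hinj : Function.Injective g := by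
      rw [← LinearMap.ker_eq_bot, eq_bot_iff]
      intro v hv
      rw [LinearMap.mem_ker] at hv
      refine (Submodule.mem_bot F).mpr (hQ.1 v fun w => ?_)
      have h := hg (v + w)
      rw [map_add, hv, zero_add, hg, q_add Q v w] at h
      have hv' := hg v
      rw [hv, QuadraticMap.map_zero] at hv'
      have h2 : c * polar Q v w = 0 := by linear_combination -h + hv'
      exact (mul_eq_zero.mp h2).resolve_left hc
    exact ⟨LinearEquiv.ofBijective g ⟨hinj, (LinearMap.injective_iff_surjective.mp hinj)⟩, hg⟩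
  classical
  rcases even_basis Q hm hV hQ with ⟨b, hb1, hb2, hb3⟩ | ⟨b, ζ, hζ, hb1, hb2, hb3, hb4, hx, hxy, hy⟩
  · have hF : Frame Q (⊤ : Submodule F V) m (fun i => b (.inl i)) fun i => b (.inr i) :=
      ⟨fun _ => trivial, fun _ => trivial, fun i => (hb1 i).1, fun i => (hb1 i).2, hb2, fun i j => (hb3 i j).1,
        fun i j => (hb3 i j).2⟩
    have key : ∀ p q : Fin m → F, Q (∑ i, (p i • b (.inl i) + q i • b (.inr i))) = ∑ i, p i * q i := fun p q => by
      have := frame_value Q hF (κ := Fin 0) Fin.elim0 (fun c => c.elim0) p q Fin.elim0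
      simpa using this
    refine ⟨b.constr F (Sum.elim (fun i => b (.inl i)) fun i => c • b (.inr i)), fun v => ?_⟩
    obtain ⟨p, hp⟩ : ∃ p : Fin m ⊕ Fin m → F, v = ∑ i, (p (.inl i) • b (.inl i) + p (.inr i) • b (.inr i)) :=
      ⟨b.repr v, by rw [Finset.sum_add_distrib, ← Fintype.sum_sum_type (fun i => b.repr v i • b i), b.sum_repr]⟩
    rw [hp, map_sum]
    simp only [map_add, map_smul, Basis.constr_basis, Sum.elim_inl, Sum.elim_inr, smul_smul]
    rw [key, key, Finset.mul_sum]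
    exact Finset.sum_congr rfl fun i _ => by ring
  · have hF : Frame Q (⊤ : Submodule F V) (m - 1) (fun i => b (.inl (.inl i))) fun i => b (.inl (.inr i)) :=
      ⟨fun _ => trivial, fun _ => trivial, fun i => (hb1 i).1, fun i => (hb1 i).2, hb2, fun i j => (hb3 i j).1,
        fun i j => (hb3 i j).2⟩
    have key : ∀ (p q : Fin (m - 1) → F) (s t : F),
        Q (∑ i, (p i • b (.inl (.inl i)) + q i • b (.inl (.inr i))) + (s • b (.inr 0) + t • b (.inr 1))) =
          ∑ i, p i * q i + (s * s + s * t + ζ * (t * t)) := fun p q s t => by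
      have h := frame_value Q hF (fun k => b (.inr k)) (fun k i => hb4 i k) p q ![s, t]
      simp only [Fin.sum_univ_two, Matrix.cons_val_zero, Matrix.cons_val_one] at h
      rw [h, q_add, q_smul, q_smul, p_smul_left, p_smul_right, hx, hxy, hy]
      ring
    obtain ⟨a₀, b₀, h0⟩ : ∃ a₀ b₀ : F, a₀ * a₀ + a₀ * b₀ + ζ * (b₀ * b₀) = c := by
      by_cases h2 : (2 : F) = 0
      · obtain ⟨r, hr⟩ := exists_sq h2 c
        exact ⟨r, 0, by linear_combination hr⟩
      · have hhalf : (2⁻¹ : F) * 2 = 1 := inv_mul_cancel₀ h2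
        have hne : ζ - 2⁻¹ * 2⁻¹ ≠ 0 := fun h =>
          hζ (-2⁻¹) (by linear_combination h + (2⁻¹ : F) * hhalf)
        obtain ⟨s, t, hst⟩ := exists_form_rep h2 1 (ζ - 2⁻¹ * 2⁻¹) c one_ne_zero hne
        exact ⟨s - t * 2⁻¹, t, by linear_combination hst + (-(s * t) + 2⁻¹ * (t * t)) * hhalf⟩
    refine ⟨b.constr F (Sum.elim (Sum.elim (fun i => b (.inl (.inl i))) fun i => c • b (.inl (.inr i)))
      ![a₀ • b (.inr 0) + b₀ • b (.inr 1), (-(ζ * b₀)) • b (.inr 0) + (a₀ + b₀) • b (.inr 1)]), fun v => ?_⟩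
    obtain ⟨p, hp⟩ : ∃ p : (Fin (m - 1) ⊕ Fin (m - 1)) ⊕ Fin 2 → F,
        v = ∑ i, (p (.inl (.inl i)) • b (.inl (.inl i)) + p (.inl (.inr i)) • b (.inl (.inr i))) +
          (p (.inr 0) • b (.inr 0) + p (.inr 1) • b (.inr 1)) :=
      ⟨b.repr v, by
        conv_lhs => rw [← b.sum_repr v]
        rw [Fintype.sum_sum_type, Fintype.sum_sum_type, Fin.sum_univ_two, Finset.sum_add_distrib]⟩
    rw [hp, map_add, map_sum]
    simp only [map_add, map_smul, Basis.constr_basis, Sum.elim_inl, Sum.elim_inr, smul_smul, Matrix.cons_val_zero,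
      Matrix.cons_val_one, smul_add]
    rw [show (p (.inr 0) * a₀) • b (.inr 0) + (p (.inr 0) * b₀) • b (.inr 1) +
        ((p (.inr 1) * -(ζ * b₀)) • b (.inr 0) + (p (.inr 1) * (a₀ + b₀)) • b (.inr 1)) =
      (p (.inr 0) * a₀ + p (.inr 1) * -(ζ * b₀)) • b (.inr 0) +
        (p (.inr 0) * b₀ + p (.inr 1) * (a₀ + b₀)) • b (.inr 1) from by simp only [add_smul]; abel]
    rw [key, key, mul_add c, Finset.mul_sum]
    refine congrArg₂ (· + ·) (Finset.sum_congr rfl fun i _ => by ring) ?_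
    linear_combination
      (p (.inr 0) * p (.inr 0) + p (.inr 0) * p (.inr 1) + ζ * (p (.inr 1) * p (.inr 1))) * h0

end Cfsg.Agent.Small.QuadBasis
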