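import Mathlib

/-!
# Jordan types of nilpotent endomorphisms and unipotent classes of the general linear group
-/

set_option autoImplicit false
set_option linter.unusedSectionVars false

namespace Cfsg.Agent.Small.JordanType

open Module Polynomial DirectSum

section Chains

variable {F V : Type*} [Field F] [AddCommGroup V] [Module F V] [FiniteDimensional F V]

/-- A basis made of chains for `N`. -/
def IsChain (N : Module.End F V) {ι : Type*} {k : ι → ℕ} (b : Basis (Σ i, Fin (k i)) F V) : Prop :=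
  ∀ x, N (b x) = if h : (x.2 : ℕ) + 1 < k x.1 then b ⟨x.1, ⟨(x.2 : ℕ) + 1, h⟩⟩ else 0

/-- A nilpotent endomorphism has a basis made of chains. -/
theorem exists_chain (N : Module.End F V) (hN : IsNilpotent N) :
    ∃ (t : ℕ) (k : Fin t → ℕ) (b : Basis (Σ i, Fin (k i)) F V), IsChain N b := by
  classical
  obtain ⟨c, hc⟩ := hN
  have hT : Module.IsTorsion' (Module.AEval' N) (Submonoid.powers (X : F[X])) := by
    refine (Submodule.isTorsion'_powers_iff (X : F[X])).mpr fun x => ⟨c, ?_⟩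
    obtain ⟨v, rfl⟩ := (Module.AEval'.of N).surjective x
    rw [Module.AEval'.X_pow_smul_of, hc]
    simp
  obtain ⟨t, k, ⟨Φ⟩⟩ := Module.torsion_by_prime_power_decomposition (irreducible_X (R := F)) hT
  let B : ∀ i, Basis (Fin (k i)) F (F[X] ⧸ F[X] ∙ (X : F[X]) ^ k i) := fun i =>
    (AdjoinRoot.powerBasis' (monic_X_pow (R := F) (k i))).basis.reindex
      (finCongr ((AdjoinRoot.powerBasis'_dim (monic_X_pow (R := F) (k i))).trans (natDegree_X_pow _)))
  let Φ' : V ≃ₗ[F] ⨁ i, F[X] ⧸ F[X] ∙ (X : F[X]) ^ k i :=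
    (Module.AEval'.of N).trans (Φ.restrictScalars F)
  let b : Basis (Σ i, Fin (k i)) F V := (DFinsupp.basis B).map Φ'.symm
  refine ⟨t, k, b, fun x => ?_⟩
  obtain ⟨i, j⟩ := x
  have hB : ∀ l : Fin (k i), B i l = Submodule.Quotient.mk ((X : F[X]) ^ (l : ℕ)) := by
    intro l
    have h1 : (AdjoinRoot.powerBasis' (monic_X_pow (R := F) (k i))).basis.reindex
        (finCongr ((AdjoinRoot.powerBasis'_dim (monic_X_pow (R := F) (k i))).trans (natDegree_X_pow _))) l =
        AdjoinRoot.mk ((X : F[X]) ^ k i) ((X : F[X]) ^ (l : ℕ)) := by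
      rw [Basis.reindex_apply, PowerBasis.basis_eq_pow, map_pow, AdjoinRoot.mk_X]
      rfl
    exact h1
  have hb : ∀ l : Fin (k i), Φ (Module.AEval'.of N (b ⟨i, l⟩)) = DirectSum.lof F[X] _ _ i (B i l) := by
    intro l
    show Φ (Module.AEval'.of N (Φ'.symm (DFinsupp.basis B ⟨i, l⟩))) = _
    have h1 : DFinsupp.basis B ⟨i, l⟩ = DFinsupp.single i (B i l) := by
      simp [DFinsupp.basis]
    show Φ' (Φ'.symm _) = _
    rw [LinearEquiv.apply_symm_apply, h1]
    rfl
  apply (Module.AEval'.of N).injective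
  apply Φ.injective
  rw [← Module.AEval'.X_smul_of, map_smul, hb, ← map_smul, hB, ← Submodule.Quotient.mk_smul, smul_eq_mul, ← pow_succ']
  split_ifs with h
  · rw [hb, hB]
  · have h0 : (Submodule.Quotient.mk ((X : F[X]) ^ ((j : ℕ) + 1)) : F[X] ⧸ F[X] ∙ (X : F[X]) ^ k i) = 0 :=
      (Submodule.Quotient.mk_eq_zero _).mpr (Submodule.mem_span_singleton.mpr
        ⟨X ^ ((j : ℕ) + 1 - k i), by rw [smul_eq_mul, ← pow_add, Nat.sub_add_cancel (show k i ≤ (j : ℕ) + 1 from not_lt.mp h)]⟩)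
    rw [h0]
    simp

variable {N : Module.End F V} {ι : Type*} [Fintype ι] {k : ι → ℕ} {b : Basis (Σ i, Fin (k i)) F V}

theorem IsChain.pow (hb : IsChain N b) (r : ℕ) : ∀ x, (N ^ r) (b x) =
    if h : (x.2 : ℕ) + r < k x.1 then b ⟨x.1, ⟨(x.2 : ℕ) + r, h⟩⟩ else 0 := by
  induction r with
  | zero => intro x; simp
  | succ r ih =>
    intro x
    rw [pow_succ', Module.End.mul_apply, ih]
    split_ifs with h1 h2 h2
    · rw [hb, dif_pos (show (x.2 : ℕ) + r + 1 < k x.1 by omega)]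
      rfl
    · rw [hb, dif_neg (show ¬ (x.2 : ℕ) + r + 1 < k x.1 by omega)]
    · omega
    · rw [map_zero]

theorem IsChain.finrank_range (hb : IsChain N b) (r : ℕ) :
    finrank F (LinearMap.range (N ^ r)) = ∑ i, (k i - r) := by
  classical
  let e : (Σ i, Fin (k i - r)) → (Σ i, Fin (k i)) := fun x => ⟨x.1, ⟨(x.2 : ℕ) + r, by omega⟩⟩
  have he : Function.Injective e := by
    rintro ⟨i, j⟩ ⟨i', j'⟩ h
    obtain rfl : i = i' := congrArg Sigma.fst h
    have h1 := congrArg (fun y : (Σ i, Fin (k i)) => (y.2 : ℕ)) h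
    simp only [e, Nat.add_right_cancel_iff] at h1
    rw [Fin.ext h1]
  have hr : LinearMap.range (N ^ r) = Submodule.span F (Set.range fun x => b (e x)) := by
    rw [LinearMap.range_eq_map, ← b.span_eq, Submodule.map_span]
    refine le_antisymm (Submodule.span_le.mpr ?_) (Submodule.span_mono ?_)
    · rintro _ ⟨_, ⟨x, rfl⟩, rfl⟩
      rw [hb.pow]
      split_ifs with h
      · exact Submodule.subset_span ⟨⟨x.1, ⟨x.2, by omega⟩⟩, rfl⟩
      · exact zero_mem _
    · rintro _ ⟨x, rfl⟩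
      refine ⟨_, ⟨⟨x.1, ⟨x.2, by omega⟩⟩, rfl⟩, ?_⟩
      rw [hb.pow, dif_pos (show (x.2 : ℕ) + r < k x.1 by omega)]
  have h2 := finrank_span_eq_card (b.linearIndependent.comp e he)
  simp only [Function.comp_def] at h2
  rw [hr, h2, Fintype.card_sigma]
  simp

theorem IsChain.pow_eq_zero_iff (hb : IsChain N b) (r : ℕ) : N ^ r = 0 ↔ ∀ i, k i ≤ r := by
  rw [← LinearMap.range_eq_bot, ← Submodule.finrank_eq_zero, hb.finrank_range, Finset.sum_eq_zero_iff]
  simp [Nat.sub_eq_zero_iff_le]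

theorem IsChain.sum_eq (hb : IsChain N b) : ∑ i, k i = finrank F V := by
  rw [Module.finrank_eq_card_basis b, Fintype.card_sigma]
  simp

/-- The block sizes. -/
def parts {ι : Type*} [Fintype ι] (k : ι → ℕ) : Multiset ℕ := (Finset.univ.val.map k).filter (· ≠ 0)

theorem count_parts {ι : Type*} [Fintype ι] (k : ι → ℕ) {s : ℕ} (hs : s ≠ 0) :
    (parts k).count s = Nat.card {i // k i = s} := by
  classical
  rw [parts, Multiset.count_filter_of_pos (p := fun x : ℕ => x ≠ 0) hs, Multiset.count_map, Nat.card_eq_fintype_card, Fintype.card_subtype]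
  exact congrArg Multiset.card (Multiset.filter_congr fun i _ => eq_comm)

theorem count_zero_parts {ι : Type*} [Fintype ι] (k : ι → ℕ) : (parts k).count 0 = 0 :=
  Multiset.count_eq_zero.mpr fun h => (Multiset.mem_filter.mp h).2 rfl

theorem sum_parts {ι : Type*} [Fintype ι] (k : ι → ℕ) : (parts k).sum = ∑ i, k i := by
  classical
  rw [parts, ← Finset.sum_map_val]
  have h : ∀ s : Multiset ℕ, (s.filter (· ≠ 0)).sum = s.sum := fun s => by
    induction s using Multiset.induction_on with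
    | empty => simp
    | cons a s ih => by_cases ha : a = 0 <;> simp [ha, ih]
  exact h _

theorem forall_parts {ι : Type*} [Fintype ι] (k : ι → ℕ) (r : ℕ) : (∀ a ∈ parts k, a ≤ r) ↔ ∀ i, k i ≤ r := by
  refine ⟨fun h i => ?_, fun h a ha => ?_⟩
  · rcases Nat.eq_zero_or_pos (k i) with h0 | h0
    · omega
    · exact h _ (Multiset.mem_filter.mpr ⟨Multiset.mem_map_of_mem k (Finset.mem_univ i), by omega⟩)
  · obtain ⟨i, -, rfl⟩ := Multiset.mem_map.mp (Multiset.mem_filter.mp ha).1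
    exact h i

/-- The block sizes are determined by the ranks of the powers. -/
theorem parts_eq_of_ranks {ι ι' : Type*} [Fintype ι] [Fintype ι'] (k : ι → ℕ) (k' : ι' → ℕ)
    (h : ∀ r, ∑ i, (k i - r) = ∑ i, (k' i - r)) : parts k = parts k' := by
  classical
  refine Multiset.ext.mpr fun s => ?_
  rcases Nat.eq_zero_or_pos s with rfl | hs
  · rw [count_zero_parts, count_zero_parts]
  rw [count_parts k hs.ne', count_parts k' hs.ne', Nat.card_eq_fintype_card, Nat.card_eq_fintype_card,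
    Fintype.card_subtype, Fintype.card_subtype, Finset.card_filter, Finset.card_filter]
  have pt : ∀ u : ℕ, (u - (s - 1)) + (u - (s + 1)) = (u - s) + (u - s) + (if u = s then 1 else 0) := fun u => by
    split_ifs <;> omega
  have h1 := Finset.sum_congr (rfl : (Finset.univ : Finset ι) = _) fun a _ => pt (k a)
  have h3 := Finset.sum_congr (rfl : (Finset.univ : Finset ι') = _) fun a _ => pt (k' a)
  simp only [Finset.sum_add_distrib] at h1 h3
  rw [h (s - 1), h (s + 1), h s] at h1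
  omega

/-- Equal block sizes give similar endomorphisms. -/
theorem exists_equiv {V' : Type*} [AddCommGroup V'] [Module F V'] {N' : Module.End F V'} {ι' : Type*} [Fintype ι']
    {k' : ι' → ℕ} {b' : Basis (Σ i, Fin (k' i)) F V'} (hb : IsChain N b) (hb' : IsChain N' b')
    (h : parts k = parts k') : ∃ Φ : V ≃ₗ[F] V', ∀ v, Φ (N v) = N' (Φ v) := by
  classical
  have hfib : ∀ s, Fintype.card {x : {i // k i ≠ 0} // k x.1 = s} = Fintype.card {x : {i // k' i ≠ 0} // k' x.1 = s} := by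
    intro s
    rcases Nat.eq_zero_or_pos s with rfl | hs
    · rw [Fintype.card_eq_zero_iff.mpr ⟨fun x => x.1.2 x.2⟩, Fintype.card_eq_zero_iff.mpr ⟨fun x => x.1.2 x.2⟩]
    · have e1 := count_parts k hs.ne'
      have e2 := count_parts k' hs.ne'
      rw [h, e2, Nat.card_eq_fintype_card, Nat.card_eq_fintype_card] at e1
      rw [Fintype.card_congr (Equiv.subtypeSubtypeEquivSubtype (p := fun i => k i ≠ 0) (q := fun i => k i = s)
          (fun hx => by omega)),
        Fintype.card_congr (Equiv.subtypeSubtypeEquivSubtype (p := fun i => k' i ≠ 0) (q := fun i => k' i = s)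
          (fun hx => by omega))]
      exact e1.symm
  let σ : {i // k i ≠ 0} ≃ {i // k' i ≠ 0} := Equiv.ofFiberEquiv fun s => Fintype.equivOfCardEq (hfib s)
  have hσ : ∀ x, k' (σ x).1 = k x.1 := fun x =>
    Equiv.ofFiberEquiv_map (f := fun x : {i // k i ≠ 0} => k x.1) (g := fun x : {i // k' i ≠ 0} => k' x.1) _ x
  let f : (Σ i, Fin (k i)) → (Σ i, Fin (k' i)) := fun x =>
    ⟨(σ ⟨x.1, Fin.pos x.2 |>.ne'⟩).1, Fin.cast (hσ _).symm x.2⟩
  have hf : Function.Bijective f := by
    constructor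
    · rintro ⟨i, j⟩ ⟨i', j'⟩ hh
      have h1 := congrArg Sigma.fst hh
      obtain rfl : i = i' := congrArg Subtype.val (σ.injective (Subtype.ext h1))
      have h3 := congrArg (fun y : (Σ i, Fin (k' i)) => (y.2 : ℕ)) hh
      exact Sigma.ext rfl (heq_of_eq (Fin.ext h3))
    · rintro ⟨i', j'⟩
      obtain ⟨⟨i, hi⟩, hx⟩ := σ.surjective ⟨i', Fin.pos j' |>.ne'⟩
      have hk : k i = k' i' := by rw [← hσ ⟨i, hi⟩, hx]
      refine ⟨⟨i, Fin.cast hk.symm j'⟩, ?_⟩
      have h1 : (σ ⟨i, hi⟩).1 = i' := by rw [hx]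
      exact Sigma.ext h1 ((Fin.heq_ext_iff (congrArg k' h1)).mpr rfl)
  refine ⟨b.equiv b' (Equiv.ofBijective f hf), fun v => ?_⟩
  have : (b.equiv b' (Equiv.ofBijective f hf)).toLinearMap ∘ₗ N =
      N' ∘ₗ (b.equiv b' (Equiv.ofBijective f hf)).toLinearMap := b.ext fun x => by
    show b.equiv b' _ (N (b x)) = N' (b.equiv b' _ (b x))
    rw [hb, Basis.equiv_apply, hb']
    by_cases h1 : (x.2 : ℕ) + 1 < k x.1
    · have h3 : ((f x).2 : ℕ) + 1 < k' (f x).1 := by
        show (x.2 : ℕ) + 1 < k' (σ _).1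
        rw [hσ]; exact h1
      rw [dif_pos h1, dif_pos (show ((Equiv.ofBijective f hf x).2 : ℕ) + 1 < k' (Equiv.ofBijective f hf x).1 from h3),
        Basis.equiv_apply]
      rfl
    · have h3 : ¬ ((f x).2 : ℕ) + 1 < k' (f x).1 := by
        show ¬ (x.2 : ℕ) + 1 < k' (σ _).1
        rw [hσ]; exact h1
      rw [dif_neg h1, dif_neg (show ¬ ((Equiv.ofBijective f hf x).2 : ℕ) + 1 < k' (Equiv.ofBijective f hf x).1 from h3),
        map_zero]
  exact LinearMap.congr_fun this v

/-- Every family of block sizes of the right total occurs. -/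
theorem exists_nilpotent (k : ι → ℕ) (hk : ∑ i, k i = finrank F V) :
    ∃ (N : Module.End F V) (b : Basis (Σ i, Fin (k i)) F V), IsNilpotent N ∧ IsChain N b := by
  classical
  let b : Basis (Σ i, Fin (k i)) F V := (Module.finBasis F V).reindex
    (Fintype.equivFinOfCardEq (by rw [Fintype.card_sigma]; simpa using hk)).symm
  let N : Module.End F V := b.constr F fun x => if h : (x.2 : ℕ) + 1 < k x.1 then b ⟨x.1, ⟨(x.2 : ℕ) + 1, h⟩⟩ else 0
  have hc : IsChain N b := fun x => b.constr_basis F _ x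
  exact ⟨N, b, ⟨∑ i, k i, (hc.pow_eq_zero_iff _).mpr fun i => Finset.single_le_sum (fun _ _ => Nat.zero_le _)
    (Finset.mem_univ i)⟩, hc⟩

end Chains

section GLn

open scoped MatrixGroups

variable {F : Type*} [Field F] {n : ℕ}

/-- The endomorphism `g - 1`. -/
noncomputable def nil (g : GL (Fin n) F) : Module.End F (Fin n → F) :=
  ((Matrix.GeneralLinearGroup.toLin g : (Module.End F (Fin n → F))ˣ) : Module.End F (Fin n → F)) - 1

/-- `g` has the given Jordan type. -/
def HasType (g : GL (Fin n) F) (μ : Nat.Partition n) : Prop :=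
  ∃ (t : ℕ) (k : Fin t → ℕ) (b : Basis (Σ i, Fin (k i)) F (Fin n → F)), IsChain (nil g) b ∧ parts k = μ.parts

theorem exists_type (g : GL (Fin n) F) (hg : IsNilpotent (nil g)) : ∃ μ, HasType g μ := by
  obtain ⟨t, k, b, hb⟩ := exists_chain (nil g) hg
  exact ⟨⟨parts k, fun hi => Nat.pos_of_ne_zero (Multiset.mem_filter.mp hi).2,
    by rw [sum_parts, hb.sum_eq]; simp⟩, t, k, b, hb, rfl⟩

theorem hasType_isNilpotent {g : GL (Fin n) F} {μ : Nat.Partition n} (h : HasType g μ) : IsNilpotent (nil g) := by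
  obtain ⟨t, k, b, hb, -⟩ := h
  exact ⟨∑ i, k i, (hb.pow_eq_zero_iff _).mpr fun i => Finset.single_le_sum (fun _ _ => Nat.zero_le _)
    (Finset.mem_univ i)⟩

theorem nil_conj {g h : GL (Fin n) F} :
    IsConj g h ↔ ∃ Φ : (Fin n → F) ≃ₗ[F] (Fin n → F), ∀ v, Φ (nil g v) = nil h (Φ v) := by
  let e : GL (Fin n) F ≃* (Module.End F (Fin n → F))ˣ := Matrix.GeneralLinearGroup.toLin
  rw [isConj_iff]
  constructor
  · rintro ⟨c, hc⟩
    refine ⟨LinearMap.GeneralLinearGroup.toLinearEquiv (e c), fun v => ?_⟩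
    have h1 : (e c).1 * (e g).1 = (e h).1 * (e c).1 := by
      rw [← Units.val_mul, ← Units.val_mul, ← map_mul, ← map_mul, ← hc, inv_mul_cancel_right]
    show (e c).1 (((e g).1 - 1) v) = ((e h).1 - 1) ((e c).1 v)
    rw [LinearMap.sub_apply, LinearMap.sub_apply, map_sub, ← Module.End.mul_apply, h1]
    rfl
  · rintro ⟨Φ, hΦ⟩
    obtain ⟨c, hc⟩ := e.surjective (LinearMap.GeneralLinearGroup.ofLinearEquiv Φ)
    refine ⟨c, mul_inv_eq_iff_eq_mul.mpr (e.injective (Units.ext (LinearMap.ext fun v => ?_)))⟩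
    rw [map_mul, map_mul, hc, Units.val_mul, Units.val_mul, Module.End.mul_apply, Module.End.mul_apply]
    have h1 := hΦ v
    show Φ ((e g).1 v) = (e h).1 (Φ v)
    change Φ (((e g).1 - 1) v) = ((e h).1 - 1) (Φ v) at h1
    rw [LinearMap.sub_apply, LinearMap.sub_apply, map_sub] at h1
    simpa using h1

theorem conj_of_type {g h : GL (Fin n) F} {μ : Nat.Partition n} (hg : HasType g μ) (hh : HasType h μ) : IsConj g h := by
  obtain ⟨t, k, b, hb, hk⟩ := hg
  obtain ⟨t', k', b', hb', hk'⟩ := hh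
  exact nil_conj.mpr (exists_equiv hb hb' (hk.trans hk'.symm))

theorem type_unique {g h : GL (Fin n) F} {μ ν : Nat.Partition n} (hg : HasType g μ) (hh : HasType h ν)
    (hc : IsConj g h) : μ = ν := by
  obtain ⟨t, k, b, hb, hk⟩ := hg
  obtain ⟨t', k', b', hb', hk'⟩ := hh
  obtain ⟨Φ, hΦ⟩ := nil_conj.mp hc
  refine Nat.Partition.ext ?_
  rw [← hk, ← hk']
  refine parts_eq_of_ranks k k' fun r => ?_
  rw [← hb.finrank_range, ← hb'.finrank_range]
  have hr : ∀ (s : ℕ) v, Φ ((nil g ^ s) v) = (nil h ^ s) (Φ v) := by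
    intro s
    induction s with
    | zero => intro v; rfl
    | succ s ih => intro v; rw [pow_succ, pow_succ, Module.End.mul_apply, Module.End.mul_apply, ih, hΦ]
  have e : LinearMap.range (nil h ^ r) = (LinearMap.range (nil g ^ r)).map (Φ : (Fin n → F) →ₗ[F] Fin n → F) := by
    ext w
    constructor
    · rintro ⟨v, rfl⟩
      exact ⟨_, ⟨Φ.symm v, rfl⟩, (hr r _).trans (by rw [LinearEquiv.apply_symm_apply])⟩
    · rintro ⟨_, ⟨v, rfl⟩, rfl⟩
      exact ⟨Φ v, (hr r v).symm⟩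
  rw [e, LinearEquiv.finrank_map_eq]

theorem exists_of_type (μ : Nat.Partition n) : ∃ g : GL (Fin n) F, HasType g μ := by
  classical
  obtain ⟨t, k, hk⟩ : ∃ (t : ℕ) (k : Fin t → ℕ), (Finset.univ.val.map k) = μ.parts :=
    ⟨μ.parts.toList.length, fun i => μ.parts.toList.get i, by
      rw [Fin.univ_val_map, List.ofFn_get, Multiset.coe_toList]⟩
  have hp : parts k = μ.parts := by
    rw [parts, hk]
    exact Multiset.filter_eq_self.mpr fun a ha => (μ.parts_pos ha).ne'
  obtain ⟨N, b, hN, hb⟩ := exists_nilpotent (F := F) (V := Fin n → F) k (by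
    rw [← sum_parts, hp, μ.parts_sum]; simp)
  obtain ⟨g, hg⟩ := Matrix.GeneralLinearGroup.toLin.surjective (hN.isUnit_add_one.unit)
  refine ⟨g, t, k, b, ?_, hp⟩
  rwa [show nil g = N by rw [nil, hg]; show N + 1 - 1 = N; abel]

/-- Classes of unipotent elements are counted by partitions. -/
theorem card_classes [DecidableEq (Nat.Partition n)] (pred : Nat.Partition n → Prop) [DecidablePred pred]
    (P : GL (Fin n) F → Prop) (hP : ∀ g, P g ↔ ∃ μ, HasType g μ ∧ pred μ) :
    Nat.card {C : ConjClasses (GL (Fin n) F) // ∃ g, P g ∧ ConjClasses.mk g = C} =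
      (Finset.univ.filter pred).card := by
  rw [← Fintype.card_subtype, ← Nat.card_eq_fintype_card]
  symm
  choose R hR using fun μ : {μ : Nat.Partition n // pred μ} => exists_of_type (F := F) μ.1
  refine Nat.card_eq_of_bijective (fun μ => ⟨ConjClasses.mk (R μ), R μ, (hP _).mpr ⟨μ.1, hR μ, μ.2⟩, rfl⟩) ⟨?_, ?_⟩
  · intro μ ν h
    exact Subtype.ext (type_unique (hR μ) (hR ν) (ConjClasses.mk_eq_mk_iff_isConj.mp (congrArg Subtype.val h)))
  · rintro ⟨_, g, hg, rfl⟩
    obtain ⟨μ, h1, h2⟩ := (hP g).mp hg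
    exact ⟨⟨μ, h2⟩, Subtype.ext (ConjClasses.mk_eq_mk_iff_isConj.mpr (conj_of_type (hR _) h1))⟩

variable {p : ℕ} [hp : Fact p.Prime] [CharP F p]

theorem toLin_pow_eq_one_iff (g : GL (Fin n) F) (k : ℕ) : g ^ p ^ k = 1 ↔ nil g ^ p ^ k = 0 := by
  obtain ⟨r, hr⟩ := (Commute.one_right (nil g)).exists_add_pow_prime_pow_eq hp.out k
  have hp0 : (p : Module.End F (Fin n → F)) = 0 := by
    rw [← map_natCast (algebraMap F (Module.End F (Fin n → F))), CharP.cast_eq_zero, map_zero]
  rw [hp0, zero_mul, zero_mul, zero_mul, add_zero, one_pow, nil, sub_add_cancel, ← Units.val_pow_eq_pow_val,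
    ← map_pow] at hr
  rw [nil, ← Matrix.GeneralLinearGroup.toLin.injective.eq_iff, map_one, Units.ext_iff, hr]
  simp

theorem pPower_iff [Finite F] (g : GL (Fin n) F) : (∃ k, orderOf g = p ^ k) ↔ IsNilpotent (nil g) := by
  constructor
  · rintro ⟨k, hk⟩
    exact ⟨p ^ k, (toLin_pow_eq_one_iff g k).mp (hk ▸ pow_orderOf_eq_one g)⟩
  · rintro ⟨c, hc⟩
    have h1 : g ^ p ^ c = 1 :=
      (toLin_pow_eq_one_iff g c).mpr (pow_eq_zero_of_le (Nat.lt_pow_self hp.out.one_lt).le hc)
    obtain ⟨j, -, hj⟩ := (Nat.dvd_prime_pow hp.out).mp (orderOf_dvd_of_pow_eq_one h1)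
    exact ⟨j, hj⟩

theorem order_p_iff (g : GL (Fin n) F) : orderOf g = p ↔
    ∃ μ : Nat.Partition n, HasType g μ ∧ (∀ a ∈ μ.parts, a ≤ p) ∧ ¬ ∀ a ∈ μ.parts, a ≤ 1 := by
  have h1 : g = 1 ↔ nil g ^ 1 = 0 := by
    have h := toLin_pow_eq_one_iff (p := p) g 0
    simpa using h
  have hpow : g ^ p = 1 ↔ nil g ^ p = 0 := by simpa using toLin_pow_eq_one_iff (p := p) g 1
  rw [orderOf_eq_prime_iff, hpow, ne_eq, h1]
  constructor
  · rintro ⟨ha, hb⟩
    obtain ⟨μ, hμ⟩ := exists_type g ⟨p, ha⟩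
    obtain ⟨t, k, b, hc, hk⟩ := hμ
    refine ⟨μ, ⟨t, k, b, hc, hk⟩, ?_, fun h => hb ?_⟩
    · rw [← hk, forall_parts]
      exact (hc.pow_eq_zero_iff p).mp ha
    · rw [← hk, forall_parts] at h
      exact (hc.pow_eq_zero_iff 1).mpr h
  · rintro ⟨μ, ⟨t, k, b, hc, hk⟩, ha, hb⟩
    rw [← hk, forall_parts] at ha hb
    exact ⟨(hc.pow_eq_zero_iff p).mpr ha, fun h => hb ((hc.pow_eq_zero_iff 1).mp h)⟩

end GLn

/-- Only one partition has all parts at most one. -/
theorem card_filter_partition (n r : ℕ) (hr : 1 ≤ r) :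
    (Finset.univ.filter fun μ : Nat.Partition n => (∀ a ∈ μ.parts, a ≤ r) ∧ ¬ ∀ a ∈ μ.parts, a ≤ 1).card =
      (Finset.univ.filter fun μ : Nat.Partition n => ∀ a ∈ μ.parts, a ≤ r).card - 1 := by
  classical
  obtain ⟨ν, hν⟩ : ∃ ν : Nat.Partition n, ν.parts = Multiset.replicate n 1 :=
    ⟨⟨Multiset.replicate n 1, fun hi => by rw [Multiset.eq_of_mem_replicate hi]; exact Nat.one_pos, by simp⟩, rfl⟩
  have hone : ∀ μ : Nat.Partition n, (∀ a ∈ μ.parts, a ≤ 1) ↔ μ = ν := by
    intro μ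
    refine ⟨fun h => Nat.Partition.ext ?_, fun h a ha => ?_⟩
    · have h1 : ∀ a ∈ μ.parts, a = 1 := fun a ha => le_antisymm (h a ha) (μ.parts_pos ha)
      have h3 := Multiset.eq_replicate_card.mpr h1
      have h4 := μ.parts_sum
      rw [h3, Multiset.sum_replicate, smul_eq_mul, mul_one] at h4
      rw [hν, h3, h4]
    · rw [h, hν] at ha
      exact (Multiset.eq_of_mem_replicate ha).le
  have hmem : ν ∈ Finset.univ.filter fun μ : Nat.Partition n => ∀ a ∈ μ.parts, a ≤ r := by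
    rw [Finset.mem_filter]
    exact ⟨Finset.mem_univ _, fun a ha => by rw [hν] at ha; rw [Multiset.eq_of_mem_replicate ha]; exact hr⟩
  rw [← Finset.card_erase_of_mem hmem]
  congr 1
  ext μ
  simp only [Finset.mem_filter, Finset.mem_erase, Finset.mem_univ, true_and, hone μ]
  exact and_comm

end Cfsg.Agent.Small.JordanType
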