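import Cfsg.Agent.Lib.Small.InvolutionRing
import Cfsg.Agent.Lib.Small.PSUn.Basic
import Cfsg.Prelude.Def_LieClassical

/-!
# Conjugacy in the general unitary group through the general linear group
-/

set_option autoImplicit false
set_option linter.unusedSectionVars false

namespace Cfsg.Agent.Small.UnitaryConj

open Matrix Cfsg.Agent.Small

variable {F : Type*} [Field F] [Fintype F] [StarRing F] {n q : ℕ}

/-- The centre of the centraliser of a single matrix. -/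
abbrev dbl (H : Matrix (Fin n) (Fin n) F) : Subring (Matrix (Fin n) (Fin n) F) :=
  Subring.centralizer ((Subring.centralizer {H} : Subring (Matrix (Fin n) (Fin n) F)) : Set (Matrix (Fin n) (Fin n) F))

theorem mem_cent {H x : Matrix (Fin n) (Fin n) F} : x ∈ Subring.centralizer {H} ↔ H * x = x * H := by
  rw [Subring.mem_centralizer_iff]
  simp

theorem mem_dbl {H x : Matrix (Fin n) (Fin n) F} : x ∈ dbl H ↔ ∀ d, H * d = d * H → d * x = x * d := by
  rw [Subring.mem_centralizer_iff]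
  exact ⟨fun h d hd => h d (mem_cent.2 hd), fun h d hd => h d (mem_cent.1 hd)⟩

theorem dbl_comm {H : Matrix (Fin n) (Fin n) F} (x y : dbl H) : x * y = y * x :=
  Subtype.ext ((mem_dbl.1 y.2 x.1 (mem_dbl.1 x.2 H rfl)))

theorem self_mem_dbl (H : Matrix (Fin n) (Fin n) F) : H ∈ dbl H := mem_dbl.2 fun _ hd => hd.symm

theorem scalar_mem_dbl (H : Matrix (Fin n) (Fin n) F) (a : F) : Matrix.scalar (Fin n) a ∈ dbl H :=
  mem_dbl.2 fun d _ => (Matrix.scalar_commute a (fun r => Commute.all _ _) d).eq.symm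

/-- The commutative ring structure. -/
@[reducible] def dblRing (H : Matrix (Fin n) (Fin n) F) : CommRing (dbl H) :=
  { (inferInstance : Ring (dbl H)) with mul_comm := dbl_comm }

theorem isUnit_dbl {H : Matrix (Fin n) (Fin n) F} (x : dbl H) (hx : IsUnit (x : Matrix (Fin n) (Fin n) F)) :
    IsUnit x := by
  obtain ⟨u, hu⟩ := hx
  have hm : (↑u⁻¹ : Matrix (Fin n) (Fin n) F) ∈ dbl H := mem_dbl.2 fun d hd => by
    have h : Commute d (u : Matrix (Fin n) (Fin n) F) := by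
      rw [hu]; exact mem_dbl.1 x.2 d hd
    exact h.units_inv_right.eq
  exact ⟨⟨x, ⟨_, hm⟩, Subtype.ext (by show (x : Matrix (Fin n) (Fin n) F) * _ = 1; rw [← hu, Units.mul_inv]),
    Subtype.ext (by show _ * (x : Matrix (Fin n) (Fin n) F) = 1; rw [← hu, Units.inv_mul])⟩, rfl⟩

/-- The scalars needed for the involution arguments. -/
theorem exists_scalars (hstar : ∀ x : F, star x = x ^ q) (hF : Fintype.card F = q ^ 2) :
    ∃ w t : F, w - star w ≠ 0 ∧ t + star t = 1 := by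
  obtain ⟨b, hb⟩ := Hermitian.exists_star_ne hstar hF
  obtain ⟨c, hc⟩ := Hermitian.exists_trace_ne hstar hF (one_ne_zero (α := F))
  rw [mul_one, star_star] at hc
  refine ⟨b, star c / (star c + c), sub_ne_zero.2 (Ne.symm hb), ?_⟩
  rw [star_div₀, star_add, star_star, add_comm c (star c), ← add_div, div_self hc]

theorem isUnit_scalar {H : Matrix (Fin n) (Fin n) F} {a : F} (ha : a ≠ 0) :
    IsUnit (⟨Matrix.scalar (Fin n) a, scalar_mem_dbl H a⟩ : dbl H) :=
  isUnit_dbl _ ((isUnit_iff_ne_zero.2 ha).map (Matrix.scalar (Fin n)))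

theorem conjTranspose_scalar (a : F) : (Matrix.scalar (Fin n) a)ᴴ = Matrix.scalar (Fin n) (star a) := by
  rw [Matrix.scalar_apply, Matrix.scalar_apply, Matrix.diagonal_conjTranspose]
  rfl

/-- A hermitian invertible matrix is a norm inside the centre of its centraliser. -/
theorem exists_norm (hstar : ∀ x : F, star x = x ^ q) (hF : Fintype.card F = q ^ 2) (H : Matrix (Fin n) (Fin n) F)
    (hH : Hᴴ = H) (hu : IsUnit H) :
    ∃ k : Matrix (Fin n) (Fin n) F, IsUnit k ∧ kᴴ * k = H ∧ ∀ A, H * A = A * H → A * k = k * A := by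
  obtain ⟨w, t, hw, ht⟩ := exists_scalars hstar hF
  have hst : ∀ d, H * d = d * H → H * dᴴ = dᴴ * H := fun d hd => by
    have := congrArg Matrix.conjTranspose hd
    rwa [Matrix.conjTranspose_mul, Matrix.conjTranspose_mul, hH, eq_comm] at this
  have hmem : ∀ x : dbl H, (x : Matrix (Fin n) (Fin n) F)ᴴ ∈ dbl H := fun x => mem_dbl.2 fun d hd => by
    have := congrArg Matrix.conjTranspose (mem_dbl.1 x.2 dᴴ (hst d hd))
    rwa [Matrix.conjTranspose_mul, Matrix.conjTranspose_mul, Matrix.conjTranspose_conjTranspose, eq_comm] at this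
  let _ : CommRing (dbl H) := dblRing H
  let φ : dbl H →+* dbl H :=
    { toFun := fun x => ⟨(x : Matrix (Fin n) (Fin n) F)ᴴ, hmem x⟩
      map_one' := Subtype.ext Matrix.conjTranspose_one
      map_zero' := Subtype.ext Matrix.conjTranspose_zero
      map_add' := fun x y => Subtype.ext (Matrix.conjTranspose_add _ _)
      map_mul' := fun x y => by
        rw [dbl_comm x y]
        exact Subtype.ext (Matrix.conjTranspose_mul _ _) }
  have hφ : ∀ x, φ (φ x) = x := fun x => Subtype.ext (Matrix.conjTranspose_conjTranspose _)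
  have hsc : ∀ a : F, φ ⟨_, scalar_mem_dbl H a⟩ = ⟨_, scalar_mem_dbl H (star a)⟩ := fun a =>
    Subtype.ext (conjTranspose_scalar a)
  haveI : Finite (dbl H) := Finite.of_injective _ Subtype.val_injective
  obtain ⟨x, hx⟩ := InvolutionRing.exists_norm φ hφ (ω := ⟨_, scalar_mem_dbl H w⟩) (t := ⟨_, scalar_mem_dbl H t⟩)
    (by
      rw [hsc]
      convert isUnit_scalar (H := H) hw using 1
      exact Subtype.ext (map_sub (Matrix.scalar (Fin n)) w (star w)).symm)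
    (by
      rw [hsc]
      exact Subtype.ext ((map_add (Matrix.scalar (Fin n)) t (star t)).symm.trans (by rw [ht, map_one]; rfl)))
    (y := ⟨H, self_mem_dbl H⟩) (Subtype.ext hH) (isUnit_dbl _ hu)
  have hx' : (x : Matrix (Fin n) (Fin n) F) * (x : Matrix (Fin n) (Fin n) F)ᴴ = H := congrArg Subtype.val hx
  have hcomm : (x : Matrix (Fin n) (Fin n) F)ᴴ * (x : Matrix (Fin n) (Fin n) F) = H :=
    (congrArg Subtype.val (dbl_comm (φ x) x)).trans hx'
  refine ⟨x, ?_, hcomm, fun A hA => mem_dbl.1 x.2 A hA⟩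
  rw [Matrix.isUnit_iff_isUnit_det] at hu ⊢
  rw [← hcomm, Matrix.det_mul] at hu
  exact isUnit_of_mul_isUnit_right hu

/-- An invariant invertible form has an invariant hermitian companion. -/
theorem exists_herm (hstar : ∀ x : F, star x = x ^ q) (hF : Fintype.card F = q ^ 2) (c : GL (Fin n) F)
    (A : Matrix (Fin n) (Fin n) F) (hA : IsUnit A) (h : Aᴴ * c.1 * A = c.1) :
    ∃ X : Matrix (Fin n) (Fin n) F, IsUnit X ∧ Xᴴ = X ∧ Aᴴ * X * A = X := by
  obtain ⟨w, t, hw, -⟩ := exists_scalars hstar hF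
  obtain ⟨z, hz⟩ : ∃ z, z = (↑c⁻¹ : Matrix (Fin n) (Fin n) F) * (c.1)ᴴ := ⟨_, rfl⟩
  have hci : c.1 * (↑c⁻¹ : Matrix (Fin n) (Fin n) F) = 1 := Units.mul_inv c
  have hic : (↑c⁻¹ : Matrix (Fin n) (Fin n) F) * c.1 = 1 := Units.inv_mul c
  have hci' : (↑c⁻¹ : Matrix (Fin n) (Fin n) F)ᴴ * (c.1)ᴴ = 1 := by
    rw [← Matrix.conjTranspose_mul, hci, Matrix.conjTranspose_one]
  have hic' : (c.1)ᴴ * (↑c⁻¹ : Matrix (Fin n) (Fin n) F)ᴴ = 1 := by
    rw [← Matrix.conjTranspose_mul, hic, Matrix.conjTranspose_one]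
  have e1 : ∀ y, c.1 * ((↑c⁻¹ : Matrix (Fin n) (Fin n) F) * y) = y := fun y => by rw [← mul_assoc, hci, one_mul]
  have e2 : ∀ y, (↑c⁻¹ : Matrix (Fin n) (Fin n) F) * (c.1 * y) = y := fun y => by rw [← mul_assoc, hic, one_mul]
  have e3 : ∀ y, (↑c⁻¹ : Matrix (Fin n) (Fin n) F)ᴴ * ((c.1)ᴴ * y) = y := fun y => by rw [← mul_assoc, hci', one_mul]
  have e4 : ∀ y, (c.1)ᴴ * ((↑c⁻¹ : Matrix (Fin n) (Fin n) F)ᴴ * y) = y := fun y => by rw [← mul_assoc, hic', one_mul]
  let T : Matrix (Fin n) (Fin n) F → Matrix (Fin n) (Fin n) F := fun x =>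
    (↑c⁻¹ : Matrix (Fin n) (Fin n) F) * xᴴ * c.1
  have hTmul : ∀ x y, T (x * y) = T y * T x := fun x y => by
    simp only [T, Matrix.conjTranspose_mul, mul_assoc, e1]
  have hTT : ∀ x, z * x = x * z → T (T x) = x := fun x hx => by
    have : T (T x) = z * x * ((↑c⁻¹ : Matrix (Fin n) (Fin n) F)ᴴ * c.1) := by
      simp only [T, hz, Matrix.conjTranspose_mul, Matrix.conjTranspose_conjTranspose, mul_assoc]
    rw [this, hx, hz]
    simp only [mul_assoc, e4, hic, mul_one]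
  have hTz : z * T z = 1 := by
    simp only [T, hz, Matrix.conjTranspose_mul, Matrix.conjTranspose_conjTranspose, mul_assoc, e2, e4, hic]
  have hTcent : ∀ x, z * x = x * z → z * T x = T x * z := fun x hx => by
    -- `T z` is the inverse of `z`
    have hTz' : T z * z = 1 := mul_eq_one_comm.1 hTz
    have h1 : T x * T z = T z * T x := by rw [← hTmul, ← hTmul, hx]
    calc z * T x = z * T x * (T z * z) := by rw [hTz', mul_one]
      _ = z * (T x * T z) * z := by simp only [mul_assoc]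
      _ = T x * z := by rw [h1, ← mul_assoc z, hTz, one_mul]
  have hTmem : ∀ x : dbl z, T (x : Matrix (Fin n) (Fin n) F) ∈ dbl z := fun x => mem_dbl.2 fun d hd => by
    rw [← hTT d hd, ← hTmul, ← hTmul, mem_dbl.1 x.2 (T d) (hTcent d hd)]
  let _ : CommRing (dbl z) := dblRing z
  let φ : dbl z →+* dbl z :=
    { toFun := fun x => ⟨T x, hTmem x⟩
      map_one' := Subtype.ext (by
        show (↑c⁻¹ : Matrix (Fin n) (Fin n) F) * (1 : Matrix (Fin n) (Fin n) F)ᴴ * c.1 = 1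
        rw [Matrix.conjTranspose_one, mul_one, hic])
      map_zero' := Subtype.ext (by
        show (↑c⁻¹ : Matrix (Fin n) (Fin n) F) * (0 : Matrix (Fin n) (Fin n) F)ᴴ * c.1 = 0
        rw [Matrix.conjTranspose_zero, mul_zero, zero_mul])
      map_add' := fun x y => Subtype.ext (by
        show (↑c⁻¹ : Matrix (Fin n) (Fin n) F) * ((x : Matrix (Fin n) (Fin n) F) + (y : Matrix (Fin n) (Fin n) F))ᴴ * c.1 =
          (↑c⁻¹ : Matrix (Fin n) (Fin n) F) * (x : Matrix (Fin n) (Fin n) F)ᴴ * c.1 +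
            (↑c⁻¹ : Matrix (Fin n) (Fin n) F) * (y : Matrix (Fin n) (Fin n) F)ᴴ * c.1
        rw [Matrix.conjTranspose_add, mul_add, add_mul])
      map_mul' := fun x y => by
        rw [dbl_comm x y]
        exact Subtype.ext (hTmul _ _) }
  have hself : ∀ x : dbl z, z * (x : Matrix (Fin n) (Fin n) F) = (x : Matrix (Fin n) (Fin n) F) * z := fun x =>
    mem_dbl.1 x.2 z rfl
  have hφ : ∀ x, φ (φ x) = x := fun x => Subtype.ext (hTT _ (hself x))
  have hsc : ∀ a : F, φ ⟨_, scalar_mem_dbl z a⟩ = ⟨_, scalar_mem_dbl z (star a)⟩ := fun a =>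
    Subtype.ext (by
      show (↑c⁻¹ : Matrix (Fin n) (Fin n) F) * (Matrix.scalar (Fin n) a)ᴴ * c.1 = _
      rw [conjTranspose_scalar, mul_assoc, (Matrix.scalar_commute (star a) (fun r => Commute.all _ _) c.1).eq, e2])
  haveI : Finite (dbl z) := Finite.of_injective _ Subtype.val_injective
  obtain ⟨a, ha⟩ := InvolutionRing.exists_quot φ hφ (ω := ⟨_, scalar_mem_dbl z w⟩)
    (by
      rw [hsc]
      convert isUnit_scalar (H := z) hw using 1
      exact Subtype.ext (map_sub (Matrix.scalar (Fin n)) w (star w)).symm)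
    (z := ⟨z, self_mem_dbl z⟩) (Subtype.ext hTz)
  obtain ⟨W, hW⟩ : ∃ W : dbl z, W = a + ⟨z, self_mem_dbl z⟩ * φ a := ⟨_, rfl⟩
  rw [← hW] at ha
  have hWfix : z * T W = (W : Matrix (Fin n) (Fin n) F) := by
    have h1 : (⟨z, self_mem_dbl z⟩ : dbl z) * φ W = W := by
      rw [hW, map_add, map_mul, hφ, mul_add, ← mul_assoc,
        show (⟨z, self_mem_dbl z⟩ : dbl z) * φ ⟨z, self_mem_dbl z⟩ = 1 from Subtype.ext hTz, one_mul, add_comm]
    exact congrArg Subtype.val h1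
  have hAu : IsUnit A.det := (Matrix.isUnit_iff_isUnit_det A).1 hA
  have hAz : z * A = A * z := by
    have h1 : Aᴴ * (c.1)ᴴ * A = (c.1)ᴴ := by
      have := congrArg Matrix.conjTranspose h
      rwa [Matrix.conjTranspose_mul, Matrix.conjTranspose_mul, Matrix.conjTranspose_conjTranspose, ← mul_assoc] at this
    have hAh : IsUnit (Aᴴ).det := by rw [Matrix.det_conjTranspose]; exact hAu.star
    have h3 : c.1 * A = (Aᴴ)⁻¹ * c.1 := by
      conv_rhs => rw [← h]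
      rw [mul_assoc, Matrix.nonsing_inv_mul_cancel_left _ _ hAh]
    have h4 : (c.1)ᴴ * A = (Aᴴ)⁻¹ * (c.1)ᴴ := by
      conv_rhs => rw [← h1]
      rw [mul_assoc, Matrix.nonsing_inv_mul_cancel_left _ _ hAh]
    have h5 : A * (↑c⁻¹ : Matrix (Fin n) (Fin n) F) = (↑c⁻¹ : Matrix (Fin n) (Fin n) F) * (Aᴴ)⁻¹ := by
      have := congrArg (fun y => (↑c⁻¹ : Matrix (Fin n) (Fin n) F) * y * (↑c⁻¹ : Matrix (Fin n) (Fin n) F)) h3
      simpa only [mul_assoc, e2, hci, mul_one] using this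
    rw [hz, mul_assoc, h4, ← mul_assoc, ← h5, mul_assoc]
  have hAW : A * (W : Matrix (Fin n) (Fin n) F) = (W : Matrix (Fin n) (Fin n) F) * A := mem_dbl.1 W.2 A hAz
  refine ⟨c.1 * (W : Matrix (Fin n) (Fin n) F), (Units.isUnit c).mul (ha.map (dbl z).subtype), ?_, ?_⟩
  · have h1 : c.1 * (T W * z) = ((W : Matrix (Fin n) (Fin n) F))ᴴ * (c.1)ᴴ := by
      simp only [T, hz, mul_assoc, e1]
    rw [Matrix.conjTranspose_mul, ← h1, ← hTcent _ (hself W), hWfix]
  · rw [mul_assoc, mul_assoc c.1, ← hAW, ← mul_assoc, ← mul_assoc, h]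

/-- Membership in the unitary group. -/
theorem mem_GU_inv (hstar : ∀ x : F, star x = x ^ q) (g : GL (Fin n) F) (hg : g ∈ Cfsg.GU n F q) :
    (↑g⁻¹ : Matrix (Fin n) (Fin n) F) = (g.1)ᴴ :=
  (left_inv_eq_right_inv ((PSUn.mem_GU_iff_star hstar g).1 hg) (Units.mul_inv g)).symm

/-- Conjugate in `GL` means conjugate in `GU`. -/
theorem conj_GU (hstar : ∀ x : F, star x = x ^ q) (hF : Fintype.card F = q ^ 2) (A B : ↥(Cfsg.GU n F q)) :
    IsConj A B ↔ IsConj (A : GL (Fin n) F) (B : GL (Fin n) F) := by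
  refine ⟨fun h => MonoidHom.map_isConj (Cfsg.GU n F q).subtype h, fun h => ?_⟩
  obtain ⟨g, hg⟩ := isConj_iff.1 h
  obtain ⟨H, hH⟩ : ∃ H, H = (g.1)ᴴ * g.1 := ⟨_, rfl⟩
  have hA := (PSUn.mem_GU_iff_star hstar _).1 A.2
  have hB := (PSUn.mem_GU_iff_star hstar _).1 B.2
  have hgA : g.1 * (A : GL (Fin n) F).1 = (B : GL (Fin n) F).1 * g.1 := by
    rw [← Units.val_mul, ← Units.val_mul, mul_inv_eq_iff_eq_mul.1 hg]
  have hAH : H * (A : GL (Fin n) F).1 = (A : GL (Fin n) F).1 * H := by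
    have h1 : ((A : GL (Fin n) F).1)ᴴ * H * (A : GL (Fin n) F).1 = H := by
      rw [hH]
      calc ((A : GL (Fin n) F).1)ᴴ * ((g.1)ᴴ * g.1) * (A : GL (Fin n) F).1
          = (g.1 * (A : GL (Fin n) F).1)ᴴ * (g.1 * (A : GL (Fin n) F).1) := by
            rw [Matrix.conjTranspose_mul]; simp only [mul_assoc]
        _ = (g.1)ᴴ * (((B : GL (Fin n) F).1)ᴴ * (B : GL (Fin n) F).1) * g.1 := by
            rw [hgA, Matrix.conjTranspose_mul]; simp only [mul_assoc]
        _ = _ := by rw [hB, mul_one]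
    conv_rhs => rw [← h1]
    simp only [← mul_assoc]
    rw [mul_eq_one_comm.1 hA, one_mul]
  obtain ⟨k, hk, hkk, hkc⟩ := exists_norm hstar hF H
    (by rw [hH, Matrix.conjTranspose_mul, Matrix.conjTranspose_conjTranspose])
    (by rw [hH]; exact (g.isUnit.star).mul g.isUnit)
  obtain ⟨k, rfl⟩ := hk
  have hu : g * k⁻¹ ∈ Cfsg.GU n F q := by
    rw [PSUn.mem_GU_iff_star hstar, Units.val_mul, Matrix.conjTranspose_mul,
      show ((↑k⁻¹ : Matrix (Fin n) (Fin n) F))ᴴ * (g.1)ᴴ * (g.1 * (↑k⁻¹ : Matrix (Fin n) (Fin n) F)) =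
        ((↑k⁻¹ : Matrix (Fin n) (Fin n) F))ᴴ * H * (↑k⁻¹ : Matrix (Fin n) (Fin n) F) by rw [hH]; simp only [mul_assoc],
      ← hkk, ← mul_assoc, ← Matrix.conjTranspose_mul, Units.mul_inv, Matrix.conjTranspose_one, one_mul, Units.mul_inv]
  have hkA : (A : GL (Fin n) F) * k = k * (A : GL (Fin n) F) := Units.ext (hkc _ hAH)
  refine isConj_iff.2 ⟨⟨g * k⁻¹, hu⟩, Subtype.ext ?_⟩
  show g * k⁻¹ * (A : GL (Fin n) F) * (g * k⁻¹)⁻¹ = (B : GL (Fin n) F)
  rw [← hg, _root_.mul_inv_rev, inv_inv]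
  calc g * k⁻¹ * (A : GL (Fin n) F) * (k * g⁻¹) = g * (k⁻¹ * ((A : GL (Fin n) F) * k)) * g⁻¹ := by group
    _ = g * (A : GL (Fin n) F) * g⁻¹ := by rw [hkA, inv_mul_cancel_left]

/-- Similar to an element of `GU`. -/
theorem exists_GU_iff (hstar : ∀ x : F, star x = x ^ q) (hF : Fintype.card F = q ^ 2) (A : GL (Fin n) F) :
    (∃ B : ↥(Cfsg.GU n F q), IsConj A (B : GL (Fin n) F)) ↔
      IsConj (A : Matrix (Fin n) (Fin n) F) ((A.1)ᴴ)⁻¹ := by
  have hAh : IsUnit ((A.1)ᴴ).det := by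
    rw [Matrix.det_conjTranspose]; exact ((Matrix.isUnit_iff_isUnit_det _).1 A.isUnit).star
  constructor
  · rintro ⟨B, hB⟩
    obtain ⟨g, hg⟩ := isConj_iff.1 hB
    have hB' := (PSUn.mem_GU_iff_star hstar _).1 B.2
    obtain ⟨H, hH⟩ : ∃ H, H = (g.1)ᴴ * g.1 := ⟨_, rfl⟩
    have hHu : IsUnit H := hH ▸ (g.isUnit.star).mul g.isUnit
    refine ⟨hHu.unit, ?_⟩
    show H * A.1 = ((A.1)ᴴ)⁻¹ * H
    have hgA : g.1 * A.1 = (B : GL (Fin n) F).1 * g.1 := by
      rw [← Units.val_mul, ← Units.val_mul, mul_inv_eq_iff_eq_mul.1 hg]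
    have h1 : (A.1)ᴴ * (H * A.1) = H := by
      rw [hH]
      calc (A.1)ᴴ * ((g.1)ᴴ * g.1 * A.1) = (g.1 * A.1)ᴴ * (g.1 * A.1) := by
            rw [Matrix.conjTranspose_mul]; simp only [mul_assoc]
        _ = (g.1)ᴴ * (((B : GL (Fin n) F).1)ᴴ * (B : GL (Fin n) F).1) * g.1 := by
            rw [hgA, Matrix.conjTranspose_mul]; simp only [mul_assoc]
        _ = _ := by rw [hB', mul_one]
    conv_rhs => rw [← h1]
    rw [Matrix.nonsing_inv_mul_cancel_left _ _ hAh]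
  · rintro ⟨c, hc⟩
    have h : (A.1)ᴴ * c.1 * A.1 = c.1 := by
      rw [mul_assoc, show c.1 * A.1 = ((A.1)ᴴ)⁻¹ * c.1 from hc, Matrix.mul_nonsing_inv_cancel_left _ _ hAh]
    obtain ⟨X, hXu, hXh, hXA⟩ := exists_herm hstar hF c A.1 A.isUnit h
    obtain ⟨P, hP, hPX⟩ := Hermitian.exists_congr_one hstar hF n X hXh hXu
    obtain ⟨P, rfl⟩ := hP
    have hB : P⁻¹ * A * P ∈ Cfsg.GU n F q := by
      rw [PSUn.mem_GU_iff_star hstar]
      have e1 : ((↑P⁻¹ : Matrix (Fin n) (Fin n) F))ᴴ * (↑P⁻¹ : Matrix (Fin n) (Fin n) F) = X := by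
        calc ((↑P⁻¹ : Matrix (Fin n) (Fin n) F))ᴴ * (↑P⁻¹ : Matrix (Fin n) (Fin n) F)
            = ((↑P⁻¹ : Matrix (Fin n) (Fin n) F))ᴴ * ((P.1)ᴴ * X * P.1) * (↑P⁻¹ : Matrix (Fin n) (Fin n) F) := by
              rw [hPX, mul_one]
          _ = (P.1 * (↑P⁻¹ : Matrix (Fin n) (Fin n) F))ᴴ * X * (P.1 * (↑P⁻¹ : Matrix (Fin n) (Fin n) F)) := by
              rw [Matrix.conjTranspose_mul]; simp only [mul_assoc]
          _ = X := by rw [Units.mul_inv, Matrix.conjTranspose_one, one_mul, mul_one]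
      simp only [Units.val_mul, Matrix.conjTranspose_mul]
      calc (P.1)ᴴ * ((A.1)ᴴ * ((↑P⁻¹ : Matrix (Fin n) (Fin n) F))ᴴ) * ((↑P⁻¹ : Matrix (Fin n) (Fin n) F) * A.1 * P.1)
          = (P.1)ᴴ * ((A.1)ᴴ * (((↑P⁻¹ : Matrix (Fin n) (Fin n) F))ᴴ * (↑P⁻¹ : Matrix (Fin n) (Fin n) F)) * A.1) * P.1 := by
            simp only [mul_assoc]
        _ = 1 := by rw [e1, hXA, hPX]
    exact ⟨⟨_, hB⟩, isConj_iff.2 ⟨P⁻¹, by rw [inv_inv]⟩⟩

end Cfsg.Agent.Small.UnitaryConj
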