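import Mathlib
import Cfsg.Prelude.Def_Classical
import Cfsg.Agent.Lib.Small.SL2.Counting

/-!
Discriminants and Witt index of the standard quadratic forms.
-/

set_option autoImplicit false
set_option linter.unusedSectionVars false

namespace Cfsg.Agent.Small.FormDisc

open Matrix

variable {F : Type*} [Field F]

theorem gram_det {σ : Type*} [Fintype σ] [DecidableEq σ] {ι : Type*} [Fintype ι] [DecidableEq ι]
    (J : Matrix σ σ F) (β : (σ → F) → (σ → F) → F) (hβ : ∀ u v, β u v = u ⬝ᵥ J *ᵥ v)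
    (b : Module.Basis ι F (σ → F)) :
    ∃ d : F, d ≠ 0 ∧ (Matrix.of fun i j : ι => β (b i) (b j)).det = d * d * J.det := by
  obtain ⟨e⟩ : Nonempty (ι ≃ σ) := ⟨b.indexEquiv (Pi.basisFun F σ)⟩
  obtain ⟨P, hP⟩ : ∃ P, P = (Pi.basisFun F σ).toMatrix (b.reindex e) := ⟨_, rfl⟩
  have hd : P.det ≠ 0 := by
    intro h
    have h1 := (Pi.basisFun F σ).toMatrix_mul_toMatrix_flip (b.reindex e)
    have h2 := congrArg Matrix.det h1
    rw [Matrix.det_mul, Matrix.det_one, ← hP, h, zero_mul] at h2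
    exact zero_ne_one h2
  refine ⟨P.det, hd, ?_⟩
  have hG : (Matrix.of fun i j : ι => β (b i) (b j)) = (Pᵀ * J * P).submatrix e e := by
    ext i j
    rw [Matrix.of_apply, hβ, Matrix.submatrix_apply, Matrix.mul_assoc, Matrix.mul_apply, dotProduct]
    refine Finset.sum_congr rfl fun s _ => ?_
    rw [Matrix.transpose_apply, hP, Matrix.mul_apply, Matrix.mulVec, dotProduct]
    simp [Module.Basis.toMatrix_apply, Pi.basisFun_repr]
  rw [hG, Matrix.det_submatrix_equiv_self, Matrix.det_mul, Matrix.det_mul, Matrix.det_transpose]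
  ring

theorem isSquare_sq_mul {d x : F} (hd : d ≠ 0) : IsSquare (d * d * x) ↔ IsSquare x := by
  constructor
  · rintro ⟨w, hw⟩
    exact ⟨w / d, by field_simp; linear_combination hw⟩
  · rintro ⟨w, rfl⟩
    exact ⟨d * w, by ring⟩

/-- The matrix of the polar form of the hyperbolic form. -/
def Jplus (F : Type*) [Field F] (m : ℕ) : Matrix (Fin m ⊕ Fin m) (Fin m ⊕ Fin m) F :=
  Matrix.fromBlocks 0 1 1 0

theorem polar_plus (m : ℕ) (u v : Fin m ⊕ Fin m → F) :
    QuadraticMap.polar (Cfsg.quadFormPlus m F) u v = u ⬝ᵥ Jplus F m *ᵥ v := by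
  simp only [QuadraticMap.polar, Cfsg.quadFormPlus, Pi.add_apply, Jplus, Matrix.fromBlocks_mulVec,
    Matrix.zero_mulVec, Matrix.one_mulVec, zero_add, add_zero, dotProduct, Fintype.sum_sum_type,
    Sum.elim_inl, Sum.elim_inr, Function.comp_apply]
  rw [← Finset.sum_sub_distrib, ← Finset.sum_sub_distrib, ← Finset.sum_add_distrib]
  refine Finset.sum_congr rfl fun i _ => ?_
  ring

theorem det_Jplus (m : ℕ) : (Jplus F m).det = (-1) ^ m := by
  have h : Matrix.fromBlocks (1 : Matrix (Fin m) (Fin m) F) 1 0 1 * Jplus F m =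
      Matrix.fromBlocks 1 1 1 0 := by
    simp [Jplus, Matrix.fromBlocks_multiply]
  have h2 := congrArg Matrix.det h
  rw [Matrix.det_mul, Matrix.det_fromBlocks_zero₂₁, Matrix.det_one, one_mul, one_mul] at h2
  rw [h2, Matrix.det_fromBlocks_one₁₁, Matrix.mul_one, zero_sub, Matrix.det_neg, Matrix.det_one,
    Fintype.card_fin, mul_one]

/-- The matrix of the polar form of an elliptic form. -/
def Jminus (F : Type*) [Field F] (k : ℕ) (a c : F) :
    Matrix ((Fin k ⊕ Fin k) ⊕ Fin 2) ((Fin k ⊕ Fin k) ⊕ Fin 2) F :=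
  Matrix.fromBlocks (Jplus F k) 0 0 !![2, a; a, 2 * c]

theorem polar_minus (k : ℕ) (a c : F) (u v : (Fin k ⊕ Fin k) ⊕ Fin 2 → F) :
    QuadraticMap.polar (Cfsg.quadFormMinus k F a c) u v = u ⬝ᵥ Jminus F k a c *ᵥ v := by
  have h := polar_plus k (u ∘ Sum.inl) (v ∘ Sum.inl)
  simp only [QuadraticMap.polar, Cfsg.quadFormPlus, Pi.add_apply, Function.comp_apply] at h
  rw [Jminus, Matrix.fromBlocks_mulVec, dotProduct, Fintype.sum_sum_type]
  simp only [Sum.elim_inl, Sum.elim_inr, Matrix.zero_mulVec, add_zero, zero_add]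
  simp only [dotProduct, Function.comp_apply] at h
  rw [← h, Fin.sum_univ_two]
  simp only [QuadraticMap.polar, Cfsg.quadFormMinus, Pi.add_apply]
  simp [Matrix.mulVec, dotProduct, Fin.sum_univ_two]
  ring

theorem det_Jminus (k : ℕ) (a c : F) : (Jminus F k a c).det = (-1) ^ k * (4 * c - a * a) := by
  rw [Jminus, Matrix.det_fromBlocks_zero₂₁, det_Jplus, Matrix.det_fin_two]
  simp
  ring

section Finite

variable [Fintype F]

theorem two_ne {q : ℕ} (hF : Fintype.card F = q) (hq : Odd q) : (2 : F) ≠ 0 :=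
  Cfsg.Agent.Small.SL2C.not_two_dvd_iff.mp (by rw [hF]; exact hq.not_two_dvd_nat)

theorem isSquare_neg_one_pow {q : ℕ} (hF : Fintype.card F = q) (hq : Odd q) (m : ℕ) :
    IsSquare ((-1 : F) ^ m) ↔ Even (m * (q - 1) / 2) := by
  obtain ⟨h, rfl⟩ := hq
  rw [show 2 * h + 1 - 1 = 2 * h from rfl, show m * (2 * h) / 2 = m * h by
    rw [mul_left_comm, Nat.mul_div_cancel_left _ two_pos], Nat.even_mul]
  rcases Nat.even_or_odd m with he | ho
  · simp [he, he.neg_one_pow, IsSquare.one]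
  · rw [ho.neg_one_pow, FiniteField.isSquare_neg_one_iff, hF]
    simp only [Nat.not_even_iff_odd.mpr ho, false_or, Nat.even_iff]
    omega

theorem disc_plus {q : ℕ} (hF : Fintype.card F = q) (hq : Odd q) {m : ℕ} {ι : Type*} [Fintype ι]
    [DecidableEq ι] (b : Module.Basis ι F (Fin m ⊕ Fin m → F)) :
    IsSquare (Matrix.of (fun i j : ι => QuadraticMap.polar (Cfsg.quadFormPlus m F) (b i) (b j))).det ↔
      Even (m * (q - 1) / 2) := by
  obtain ⟨d, hd, h⟩ := gram_det (Jplus F m) _ (polar_plus m) b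
  rw [h, isSquare_sq_mul hd, det_Jplus, isSquare_neg_one_pow hF hq]

theorem disc_minus {q : ℕ} (hF : Fintype.card F = q) (hq : Odd q) {k : ℕ} (a c : F)
    (hac : ∀ z₁ z₂ : F, z₁ ^ 2 + a * z₁ * z₂ + c * z₂ ^ 2 = 0 → z₁ = 0 ∧ z₂ = 0) {ι : Type*}
    [Fintype ι] [DecidableEq ι] (b : Module.Basis ι F ((Fin k ⊕ Fin k) ⊕ Fin 2 → F)) :
    IsSquare (Matrix.of (fun i j : ι => QuadraticMap.polar (Cfsg.quadFormMinus k F a c) (b i) (b j))).det
      ↔ ¬ Even ((k + 1) * (q - 1) / 2) := by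
  obtain ⟨d, hd, h⟩ := gram_det (Jminus F k a c) _ (polar_minus k a c) b
  have h2 := two_ne hF hq
  rw [h, isSquare_sq_mul hd, det_Jminus, ← isSquare_neg_one_pow hF hq,
    show (-1 : F) ^ k * (4 * c - a * a) = (-1) ^ (k + 1) * (a * a - 4 * c) by ring]
  have hD : ¬ IsSquare (a * a - 4 * c) := by
    rintro ⟨w, hw⟩
    refine one_ne_zero (α := F) (hac ((-a + w) / 2) 1 ?_).2
    field_simp
    linear_combination -hw
  constructor
  · rintro ⟨w, hw⟩ ⟨u, hu⟩
    have hu0 : u ≠ 0 := fun h0 => by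
      rw [h0, mul_zero] at hu; exact pow_ne_zero (k + 1) (neg_ne_zero.mpr one_ne_zero) hu
    refine hD ⟨w / u, ?_⟩
    field_simp
    linear_combination hw - (a * a - 4 * c) * hu
  · intro hns
    exact Cfsg.Agent.Small.SL2C.isSquare_mul_of_not h2 hns hD

theorem multiplier_isSquare {n : ℕ} (hn : Odd n) (Q : QuadraticForm F (Fin n → F))
    (hQ : (QuadraticMap.polarBilin Q).Nondegenerate) (g : (Fin n → F) ≃ₗ[F] (Fin n → F)) (c : F)
    (hg : ∀ v, Q (g v) = c * Q v) : IsSquare c := by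
  classical
  obtain ⟨B, hB⟩ : ∃ B, B = QuadraticMap.polarBilin Q := ⟨_, rfl⟩
  have hc : B.compl₁₂ (g : (Fin n → F) →ₗ[F] (Fin n → F)) (g : (Fin n → F) →ₗ[F] (Fin n → F)) = c • B := by
    refine LinearMap.ext₂ fun u v => ?_
    rw [hB]
    simp only [LinearMap.compl₁₂_apply, LinearMap.smul_apply, QuadraticMap.polarBilin_apply_apply,
      QuadraticMap.polar, LinearEquiv.coe_coe, smul_eq_mul, ← map_add, hg]
    ring
  have h := congrArg (fun T => (LinearMap.toMatrix₂' F T).det) hc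
  rw [LinearMap.toMatrix₂'_compl₁₂, Matrix.det_mul, Matrix.det_mul, Matrix.det_transpose, map_smul,
    Matrix.det_smul, Fintype.card_fin] at h
  have hdet : (LinearMap.toMatrix₂' F B).det ≠ 0 :=
    Matrix.nondegenerate_iff_det_ne_zero.mp (LinearMap.nondegenerate_toMatrix₂'_iff.mpr (hB ▸ hQ))
  obtain ⟨e, he⟩ : ∃ e, e = (LinearMap.toMatrix' (g : (Fin n → F) →ₗ[F] (Fin n → F))).det := ⟨_, rfl⟩
  rw [← he] at h
  have hcn : c ^ n = e * e := mul_right_cancel₀ hdet (by linear_combination -h)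
  obtain ⟨j, rfl⟩ := hn
  by_cases hc0 : c = 0
  · exact hc0 ▸ IsSquare.zero
  refine ⟨e / c ^ j, ?_⟩
  field_simp
  linear_combination hcn

end Finite

/-- The hyperbolic and elliptic forms are not isometric. -/
theorem not_isometric {k : ℕ} (ζ : F) (hζ : ∀ t : F, t ^ 2 + t + ζ ≠ 0)
    (g : (Fin (k + 1) ⊕ Fin (k + 1) → F) ≃ₗ[F] ((Fin k ⊕ Fin k) ⊕ Fin 2 → F)) :
    ¬ (∀ v, Cfsg.quadFormMinus k F 1 ζ (g v) = Cfsg.quadFormPlus (k + 1) F v) := by
  intro hiso
  let ext0 : (Fin (k + 1) → F) →ₗ[F] (Fin (k + 1) ⊕ Fin (k + 1) → F) :=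
    { toFun := fun x => Sum.elim x 0
      map_add' := fun x y => by ext (i | i) <;> simp
      map_smul' := fun a x => by ext (i | i) <;> simp }
  let emb : (Fin (k + 1) → F) →ₗ[F] ((Fin k ⊕ Fin k) ⊕ Fin 2 → F) := g.toLinearMap.comp ext0
  have hemb : ∀ x, Cfsg.quadFormMinus k F 1 ζ (emb x) = 0 := fun x => by
    show Cfsg.quadFormMinus k F 1 ζ (g (Sum.elim x 0)) = 0
    rw [hiso]; simp [Cfsg.quadFormPlus]
  let A : (Fin (k + 1) → F) →ₗ[F] (Fin k → F) :=
    (LinearMap.funLeft F F (fun i => Sum.inl (Sum.inl i))).comp emb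
  let Y : (Fin (k + 1) → F) →ₗ[F] (Fin k → F) :=
    (LinearMap.funLeft F F (fun i => Sum.inl (Sum.inr i))).comp emb
  have hz : ∀ x, A x = 0 → emb x (.inr 0) = 0 ∧ emb x (.inr 1) = 0 := by
    intro x hx
    have h := hemb x
    have hx' : ∀ i, emb x (.inl (.inl i)) = 0 := fun i => congrFun hx i
    simp only [Cfsg.quadFormMinus, hx', zero_mul, Finset.sum_const_zero, zero_add, one_mul] at h
    by_cases h1 : emb x (.inr 1) = 0
    · refine ⟨?_, h1⟩
      rw [h1] at h
      exact mul_self_eq_zero.mp (by linear_combination h)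
    · exfalso
      refine hζ (emb x (.inr 0) / emb x (.inr 1)) ?_
      field_simp
      linear_combination h
  have hinj : Function.Injective (Y.comp (LinearMap.ker A).subtype) := by
    refine LinearMap.ker_eq_bot.mp (LinearMap.ker_eq_bot'.mpr fun x hx => ?_)
    obtain ⟨h0, h1⟩ := hz x.1 x.2
    have he : emb x.1 = 0 := by
      ext ((i | i) | j)
      · exact congrFun x.2 i
      · exact congrFun hx i
      · fin_cases j
        · exact h0
        · exact h1
    have h' : Sum.elim x.1 (0 : Fin (k + 1) → F) = 0 :=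
      g.injective (by rw [map_zero]; exact he)
    exact Subtype.ext (funext fun i => congrFun h' (Sum.inl i))
  have horth : (LinearMap.range (Y.comp (LinearMap.ker A).subtype)).map
      (dotProductEquiv F (Fin k) : (Fin k → F) →ₗ[F] Module.Dual F (Fin k → F)) ≤
      (LinearMap.range A).dualAnnihilator := by
    rintro _ ⟨_, ⟨x, rfl⟩, rfl⟩
    rw [Submodule.mem_dualAnnihilator]
    rintro _ ⟨w, rfl⟩
    show (Y x.1) ⬝ᵥ (A w) = 0
    have h := hemb (x.1 + w)
    have h' := hemb x.1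
    have h'' := hemb w
    obtain ⟨h0, h1⟩ := hz x.1 x.2
    have hx' : ∀ i, emb x.1 (.inl (.inl i)) = 0 := fun i => congrFun x.2 i
    simp only [Cfsg.quadFormMinus, map_add, Pi.add_apply, hx', h0, h1, zero_add, zero_mul,
      Finset.sum_const_zero, one_mul] at h h' h''
    simp only [mul_add, Finset.sum_add_distrib] at h
    simp only [dotProduct, Y, A, LinearMap.comp_apply, LinearMap.funLeft_apply]
    rw [Finset.sum_congr rfl fun i _ => mul_comm (emb x.1 (.inl (.inr i))) (emb w (.inl (.inl i)))]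
    linear_combination h - h''
  have h1 := Submodule.finrank_mono horth
  rw [LinearEquiv.finrank_map_eq, LinearMap.finrank_range_of_inj hinj] at h1
  have h2 := Subspace.finrank_add_finrank_dualAnnihilator_eq (LinearMap.range A)
  rw [Module.finrank_fin_fun] at h2
  have h3 := LinearMap.finrank_range_add_finrank_ker A
  rw [Module.finrank_fin_fun] at h3
  omega

end Cfsg.Agent.Small.FormDisc
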