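import Cfsg.Prelude.Def_Classical
import Cfsg.Agent.Lib.Small.InvolutionRing
import Cfsg.Agent.Lib.Classical.OrthReflect

/-!
# Odd order semisimple isometries which are similar are conjugate in the orthogonal group
-/

set_option autoImplicit false
set_option linter.unusedSectionVars false

namespace Cfsg.Agent.Small.OrthogonalSemisimple

open Matrix QuadraticMap Cfsg.Agent.Small

open scoped MatrixGroups

variable {F : Type*} [Field F] {ι : Type} [Fintype ι] [DecidableEq ι] (Q : QuadraticForm F (ι → F))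

/-- The Gram matrix of the polar form. -/
noncomputable def gram : Matrix ι ι F := LinearMap.toMatrix₂' F (polarBilin Q)

theorem polar_eq (u v : ι → F) : polar Q u v = u ⬝ᵥ (gram Q *ᵥ v) := by
  rw [gram, ← Matrix.toLinearMap₂'_apply', Matrix.toLinearMap₂'_toMatrix', polarBilin_apply_apply]

theorem gram_transpose : (gram Q)ᵀ = gram Q := by
  ext i j
  rw [Matrix.transpose_apply, gram, LinearMap.toMatrix₂'_apply, LinearMap.toMatrix₂'_apply, polarBilin_apply_apply,
    polarBilin_apply_apply, polar_comm]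

theorem gram_det (hQ : (polarBilin Q).Nondegenerate) : IsUnit (gram Q).det := by
  rw [isUnit_iff_ne_zero]
  intro h0
  obtain ⟨v, hv, hv0⟩ := Matrix.exists_mulVec_eq_zero_iff.2 h0
  refine hv (hQ.1 v fun w => ?_)
  rw [polarBilin_apply_apply, polar_comm, polar_eq, hv0, dotProduct_zero]

/-- The adjoint of a matrix. -/
noncomputable def adj (X : Matrix ι ι F) : Matrix ι ι F := (gram Q)⁻¹ * Xᵀ * gram Q

variable {Q} (hQ : (polarBilin Q).Nondegenerate)

include hQ

theorem polar_adj (X : Matrix ι ι F) (u v : ι → F) : polar Q (X *ᵥ u) v = polar Q u (adj Q X *ᵥ v) := by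
  rw [polar_eq, polar_eq, adj, Matrix.mulVec_mulVec, Matrix.mul_assoc, Matrix.mul_nonsing_inv_cancel_left _ _ (gram_det Q hQ),
    ← Matrix.mulVec_mulVec, Matrix.dotProduct_mulVec u Xᵀ, Matrix.vecMul_transpose]

theorem eq_of_polar {X Y : Matrix ι ι F} (h : ∀ u v, polar Q u (X *ᵥ v) = polar Q u (Y *ᵥ v)) : X = Y := by
  refine Matrix.ext_of_mulVec_single fun i => ?_
  refine sub_eq_zero.1 (hQ.2 _ fun u => ?_)
  rw [polarBilin_apply_apply, polar_sub_right, h, sub_self]

theorem adj_mul (X Y : Matrix ι ι F) : adj Q (X * Y) = adj Q Y * adj Q X :=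
  eq_of_polar hQ fun u v => by
    rw [← polar_adj hQ, ← Matrix.mulVec_mulVec, polar_adj hQ, polar_adj hQ, Matrix.mulVec_mulVec]

theorem adj_one : adj Q (1 : Matrix ι ι F) = 1 := by
  rw [adj, Matrix.transpose_one, Matrix.mul_one, Matrix.nonsing_inv_mul _ (gram_det Q hQ)]

theorem adj_adj (X : Matrix ι ι F) : adj Q (adj Q X) = X :=
  eq_of_polar hQ fun u v => by
    rw [← polar_adj hQ, polar_comm, ← polar_adj hQ, polar_comm]

theorem adj_isometry {A : GL ι F} (hA : A ∈ Cfsg.isometryGroup F ⇑Q) : adj Q A.1 * A.1 = 1 :=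
  eq_of_polar hQ fun u v => by
    have h : ∀ w, Q (A.1 *ᵥ w) = Q w := fun w => hA w w
    rw [← Matrix.mulVec_mulVec, ← polar_adj hQ, Matrix.one_mulVec]
    simp only [polar, ← Matrix.mulVec_add, h]

omit hQ

/-- The ring theoretic part of the construction. -/
theorem exists_parts {S : Type*} [CommRing S] [Finite S] (φ : S →+* S) (hφ : ∀ x, φ (φ x) = x)
    {A H : S} {M : ℕ} (hA : φ A * A = 1) (hM : A ^ M = 1) (hodd : Odd M) (hMu : IsUnit (M : S))
    (hH : φ H = H) (hHu : IsUnit H) :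
    ∃ e y z : S, φ e = e ∧ e * e = e ∧ A * e = e ∧ (A - 1) * y = 1 - e ∧ φ z * H * z * (1 - e) = 1 - e := by
  obtain ⟨c, hc⟩ := hMu.exists_left_inv
  obtain ⟨e, he⟩ : ∃ e, e = c * ∑ i ∈ Finset.range M, A ^ i := ⟨_, rfl⟩
  have hAe : A * e = e := by
    have h : (∑ i ∈ Finset.range M, A ^ i) * (A - 1) = 0 := by rw [geom_sum_mul, hM, sub_self]
    rw [he]
    linear_combination c * h
  have hpow : ∀ i, A ^ i * e = e := by
    intro i
    induction i with
    | zero => rw [pow_zero, one_mul]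
    | succ i ih => rw [pow_succ, mul_assoc, hAe, ih]
  have hee : e * e = e := by
    conv_lhs => arg 1; rw [he]
    rw [mul_assoc, Finset.sum_mul, Finset.sum_congr rfl fun i _ => hpow i, Finset.sum_const, Finset.card_range,
      nsmul_eq_mul, ← mul_assoc, hc, one_mul]
  have hφc : φ c = c := by
    have h1 := congrArg φ hc
    rw [map_mul, map_natCast, map_one] at h1
    linear_combination c * h1 - φ c * hc
  have hφA : φ A * e = e := by linear_combination (-(φ A)) * hAe + e * hA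
  have hpow' : ∀ i, φ A ^ i * e = e := by
    intro i
    induction i with
    | zero => rw [pow_zero, one_mul]
    | succ i ih => rw [pow_succ, mul_assoc, hφA, ih]
  have hφe : φ e = e := by
    have h1 : φ e * e = e := by
      rw [he, map_mul, map_sum, hφc]
      simp only [map_pow]
      rw [← he, mul_assoc, Finset.sum_mul, Finset.sum_congr rfl fun i _ => hpow' i, Finset.sum_const,
        Finset.card_range, nsmul_eq_mul, ← mul_assoc, hc, one_mul]
    have h2 := congrArg φ h1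
    rw [map_mul, hφ] at h2
    rw [← h2, mul_comm, h1]
  obtain ⟨y, hy⟩ : ∃ y, (A - 1) * y = 1 - e := by
    obtain ⟨w, hw⟩ : (A - 1) ∣ ∑ i ∈ Finset.range M, (A ^ i - 1) :=
      Finset.dvd_sum fun i _ => sub_one_dvd_pow_sub_one _ i
    refine ⟨-c * w, ?_⟩
    rw [Finset.sum_sub_distrib, Finset.sum_const, Finset.card_range, nsmul_eq_mul, mul_one] at hw
    rw [he]
    linear_combination c * hw + hc
  obtain ⟨v, hv⟩ : (A ^ 2 - 1) ∣ (A - 1) := by
    obtain ⟨r, hr⟩ := hodd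
    have h : (A ^ 2) ^ (r + 1) = A := by rw [← pow_mul, show 2 * (r + 1) = M + 1 by omega, pow_succ, hM, one_mul]
    calc A ^ 2 - 1 ∣ (A ^ 2) ^ (r + 1) - 1 := sub_one_dvd_pow_sub_one _ _
      _ = A - 1 := by rw [h]
  obtain ⟨Hi, hHi⟩ := hHu.exists_left_inv
  have hφHi : φ Hi = Hi := by
    have h1 := congrArg φ hHi
    rw [map_mul, map_one, hH] at h1
    linear_combination Hi * h1 - φ Hi * hHi
  obtain ⟨I, hI⟩ : ∃ I, I = Ideal.span ({e} : Set S) := ⟨_, rfl⟩
  have hIle : I ≤ I.comap φ := by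
    rw [hI, Ideal.span_le, Set.singleton_subset_iff, SetLike.mem_coe, Ideal.mem_comap, hφe]
    exact Ideal.mem_span_singleton_self e
  haveI : Finite (S ⧸ I) := Finite.of_surjective _ Ideal.Quotient.mk_surjective
  let π := Ideal.Quotient.mk I
  let ψ : S ⧸ I →+* S ⧸ I := Ideal.quotientMap I φ hIle
  have hψ : ∀ s, ψ (π s) = π (φ s) := fun s => Ideal.quotientMap_mk
  have hψψ : ∀ z, ψ (ψ z) = z := fun z => by
    obtain ⟨s, rfl⟩ := Ideal.Quotient.mk_surjective z
    rw [hψ, hψ, hφ]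
  have hπe : π e = 0 := Ideal.Quotient.eq_zero_iff_mem.2 (hI ▸ Ideal.mem_span_singleton_self e)
  obtain ⟨u, hu⟩ : IsUnit (π A - ψ (π A)) := by
    have h := congrArg π hy
    rw [map_mul, map_sub π 1 e, hπe, sub_zero, map_one] at h
    refine .of_mul_eq_one (π A * π (v * y)) ?_
    rw [hψ, ← h, ← map_sub, ← map_mul, ← map_mul, ← map_mul]
    congr 1
    linear_combination (-(v * y)) * hA - y * hv
  have hψu : ψ (↑u⁻¹ : S ⧸ I) = -↑u⁻¹ := by
    have h1 : ψ (u : S ⧸ I) = -u := by rw [hu, map_sub, hψψ, neg_sub]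
    have h2 := congrArg ψ u.mul_inv
    rw [map_mul, h1, map_one] at h2
    linear_combination (-(↑u⁻¹ : S ⧸ I)) * h2 - ψ (↑u⁻¹ : S ⧸ I) * u.mul_inv
  obtain ⟨z, hz⟩ := InvolutionRing.exists_norm ψ hψψ (ω := π A) (t := π A * ↑u⁻¹) (hu ▸ u.isUnit)
    (by rw [map_mul, hψu]; linear_combination u.mul_inv - (↑u⁻¹ : S ⧸ I) * hu)
    (y := π Hi) (by rw [hψ, hφHi]) ((IsUnit.of_mul_eq_one H hHi).map π)
  obtain ⟨x, rfl⟩ := Ideal.Quotient.mk_surjective z
  obtain ⟨w, hw⟩ : e ∣ x * φ x - Hi := by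
    rw [← Ideal.mem_span_singleton, ← hI, ← Ideal.Quotient.eq, map_mul, ← hψ]
    exact hz
  refine ⟨e, y, x, hφe, hee, hAe, hy, ?_⟩
  linear_combination (1 - e) * H * hw + (1 - e) * hHi - H * w * hee

variable [Finite F] (p : ℕ) [Fact p.Prime] [CharP F p]

include hQ in
/-- An isometry of odd order prime to the characteristic is conjugate to every isometry similar to it. -/
theorem conj_of_similar (A B : ↥(Cfsg.isometryGroup F ⇑Q)) (hA : (orderOf A).Coprime p) (hodd : Odd (orderOf A))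
    (g : Matrix ι ι F) (hg : IsUnit g.det) (hgA : g * A.1.1 = B.1.1 * g) : IsConj A B := by
  classical
  obtain ⟨a, ha⟩ : ∃ a, a = A.1.1 := ⟨_, rfl⟩
  obtain ⟨b, hb⟩ : ∃ b, b = B.1.1 := ⟨_, rfl⟩
  have hA1 : adj Q a * a = 1 := ha ▸ adj_isometry hQ A.2
  have hB1 : adj Q b * b = 1 := hb ▸ adj_isometry hQ B.2
  have hQA : ∀ v, Q (a *ᵥ v) = Q v := fun v => ha ▸ A.2 v v
  have hQB : ∀ v, Q (b *ᵥ v) = Q v := fun v => hb ▸ B.2 v v
  rw [← ha, ← hb] at hgA
  obtain ⟨H, hH⟩ : ∃ H, H = adj Q g * g := ⟨_, rfl⟩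
  have hHA : a * H = H * a := by
    have e1 : adj Q a * (H * a) = H := by
      calc adj Q a * (H * a) = adj Q (g * a) * (g * a) := by rw [hH, adj_mul hQ]; simp only [Matrix.mul_assoc]
        _ = adj Q g * (adj Q b * b) * g := by rw [hgA, adj_mul hQ]; simp only [Matrix.mul_assoc]
        _ = H := by rw [hB1, Matrix.mul_one, hH]
    calc a * H = a * (adj Q a * (H * a)) := by rw [e1]
      _ = H * a := by rw [← Matrix.mul_assoc, mul_eq_one_comm.1 hA1, Matrix.one_mul]
  have hHadj : adj Q H = H := by rw [hH, adj_mul hQ, adj_adj hQ]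
  have hHdet : IsUnit H.det := by
    rw [hH, Matrix.det_mul]
    refine IsUnit.mul ?_ hg
    have := congrArg Matrix.det
      (show adj Q g * adj Q g⁻¹ = 1 by rw [← adj_mul hQ, Matrix.nonsing_inv_mul _ hg, adj_one hQ])
    rw [Matrix.det_mul, Matrix.det_one] at this
    exact .of_mul_eq_one _ this
  obtain ⟨R, hR⟩ : ∃ R, R = Subring.closure ({a, H} : Set (Matrix ι ι F)) := ⟨_, rfl⟩
  have hcomm : ∀ x ∈ R, ∀ y ∈ R, x * y = y * x := by
    have h1 : R ≤ Subring.centralizer {a, H} := by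
      rw [hR, Subring.closure_le]
      rintro x (rfl | rfl) <;> refine Subring.mem_centralizer_iff.2 ?_ <;> rintro y (rfl | rfl)
      exacts [rfl, hHA.symm, hHA, rfl]
    have h2 : R ≤ Subring.centralizer (R : Set (Matrix ι ι F)) := by
      conv_lhs => rw [hR]
      rw [Subring.closure_le]
      exact fun x hx => Subring.mem_centralizer_iff.2 fun y hy => (Subring.mem_centralizer_iff.1 (h1 hy) x hx).symm
    exact fun x hx y hy => Subring.mem_centralizer_iff.1 (h2 hy) x hx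
  have hAR : a ∈ R := hR ▸ Subring.subset_closure (Or.inl rfl)
  have hHR : H ∈ R := hR ▸ Subring.subset_closure (Or.inr rfl)
  have hM : a ^ orderOf A = 1 := by
    rw [ha, ← Units.val_pow_eq_pow_val, ← SubgroupClass.coe_pow, pow_orderOf_eq_one, OneMemClass.coe_one, Units.val_one]
  have hadjA : adj Q a ∈ R := by
    have hpos : 0 < orderOf A := hodd.pos
    have : adj Q a = a ^ (orderOf A - 1) := by
      calc adj Q a = adj Q a * (a * a ^ (orderOf A - 1)) := by
            rw [← pow_succ', Nat.sub_add_cancel hpos, hM, Matrix.mul_one]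
        _ = a ^ (orderOf A - 1) := by rw [← Matrix.mul_assoc, hA1, Matrix.one_mul]
    rw [this]
    exact pow_mem hAR _
  have hadd : ∀ X Y : Matrix ι ι F, adj Q (X + Y) = adj Q X + adj Q Y := fun X Y => by
    simp only [adj, Matrix.transpose_add, Matrix.mul_add, Matrix.add_mul]
  have hzero : adj Q (0 : Matrix ι ι F) = 0 := by simp [adj]
  have hstab : ∀ x ∈ R, adj Q x ∈ R := by
    intro x hx
    rw [hR] at hx
    induction hx using Subring.closure_induction with
    | mem x h =>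
      rcases h with rfl | rfl
      · exact hadjA
      · rw [hHadj]; exact hHR
    | zero => rw [hzero]; exact zero_mem _
    | one => rw [adj_one hQ]; exact one_mem _
    | add x y _ _ hx hy => rw [hadd]; exact add_mem hx hy
    | neg x _ hx =>
      rw [show adj Q (-x) = -adj Q x from eq_neg_of_add_eq_zero_left (by rw [← hadd, neg_add_cancel, hzero])]
      exact neg_mem hx
    | mul x y _ _ hx hy => rw [adj_mul hQ]; exact mul_mem hy hx
  letI : CommRing R := { (inferInstance : Ring R) with mul_comm := fun x y => Subtype.ext (hcomm x x.2 y y.2) }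
  let φ : R →+* R :=
    { toFun := fun x => ⟨adj Q x.1, hstab x x.2⟩
      map_one' := Subtype.ext (adj_one hQ)
      map_mul' := fun x y => Subtype.ext (by
        show adj Q (x.1 * y.1) = adj Q x.1 * adj Q y.1
        rw [adj_mul hQ, hcomm _ (hstab _ y.2) _ (hstab _ x.2)])
      map_zero' := Subtype.ext hzero
      map_add' := fun x y => Subtype.ext (hadd _ _) }
  haveI : Finite R := Finite.of_injective _ Subtype.val_injective
  have hMu : IsUnit ((orderOf A : ℕ) : R) := by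
    obtain ⟨s, t, hst⟩ := Nat.isCoprime_iff_coprime.2 hA
    have hp0 : (p : R) = 0 := by
      refine Subtype.ext ?_
      show ((p : R) : Matrix ι ι F) = 0
      rw [Subring.coe_natCast]
      ext i j
      simp [Matrix.natCast_apply, CharP.cast_eq_zero]
    refine .of_mul_eq_one (s : R) ?_
    have := congrArg (Int.cast : ℤ → R) hst
    push_cast at this
    rw [hp0, mul_zero, add_zero, mul_comm] at this
    exact this
  have hHu : IsUnit (⟨H, hHR⟩ : R) := by
    have hinj : Function.Injective (fun x : R => (⟨H, hHR⟩ : R) * x) := fun x y h => by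
      refine Subtype.ext ?_
      have h' : H * x.1 = H * y.1 := congrArg Subtype.val h
      rw [← Matrix.nonsing_inv_mul_cancel_left H x.1 hHdet, h', Matrix.nonsing_inv_mul_cancel_left H y.1 hHdet]
    obtain ⟨K, hK⟩ := (Finite.injective_iff_surjective.1 hinj) 1
    exact .of_mul_eq_one K hK
  obtain ⟨e, y, z, he, hee, hAe, hy, hz⟩ :=
    exists_parts φ (fun x => Subtype.ext (adj_adj hQ _)) (A := (⟨a, hAR⟩ : R)) (H := ⟨H, hHR⟩) (M := orderOf A)
      (Subtype.ext hA1) (Subtype.ext (by rw [SubmonoidClass.coe_pow]; exact hM)) hodd hMu (Subtype.ext hHadj) hHu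
  obtain ⟨f, hf⟩ : ∃ f, f = (1 : Matrix ι ι F) - e.1 := ⟨_, rfl⟩
  have hff : f * f = f := by
    rw [hf, Matrix.sub_mul, Matrix.one_mul, Matrix.mul_sub, Matrix.mul_one,
      show e.1 * e.1 = e.1 from congrArg Subtype.val hee, sub_self, sub_zero]
  have hfy : (a - 1) * y.1 = f := hf ▸ congrArg Subtype.val hy
  have hfz : adj Q z.1 * H * z.1 * f = f := hf ▸ congrArg Subtype.val hz
  have hfR : f ∈ R := hf ▸ sub_mem (one_mem _) e.2
  have hfadj : adj Q f = f := by
    have h : adj Q e.1 = e.1 := congrArg Subtype.val he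
    refine eq_of_polar hQ fun u v => ?_
    rw [← polar_adj hQ, hf, Matrix.sub_mulVec, Matrix.sub_mulVec, Matrix.one_mulVec, Matrix.one_mulVec, polar_sub_left,
      polar_sub_right, polar_adj hQ e.1, h]
  -- the partial isometry
  obtain ⟨T, hT⟩ : ∃ T, T = g * (f * z.1) := ⟨_, rfl⟩
  have hTA : T * a = b * T := by
    rw [hT, Matrix.mul_assoc g, hcomm _ (mul_mem hfR z.2) _ hAR, ← Matrix.mul_assoc, hgA, Matrix.mul_assoc b g]
  have hTT : adj Q T * T = f := by
    calc adj Q T * T = adj Q z.1 * (adj Q f * (adj Q g * g) * f) * z.1 := by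
          rw [hT, adj_mul hQ, adj_mul hQ]; simp only [Matrix.mul_assoc]
      _ = adj Q z.1 * (H * (f * f)) * z.1 := by
          rw [hfadj, ← hH, hcomm _ hfR _ hHR]; simp only [Matrix.mul_assoc]
      _ = f := by rw [hff, Matrix.mul_assoc, Matrix.mul_assoc H, hcomm _ hfR _ z.2]; simpa only [Matrix.mul_assoc] using hfz
  have hpol : ∀ u v, polar Q (T *ᵥ u) (T *ᵥ v) = polar Q u (f *ᵥ v) := fun u v => by
    rw [polar_adj hQ, Matrix.mulVec_mulVec, hTT]
  obtain ⟨W, hW⟩ : ∃ W, W = LinearMap.range (Matrix.toLin' f) := ⟨_, rfl⟩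
  have hWmem : ∀ w, w ∈ W ↔ f *ᵥ w = w := fun w => by
    rw [hW]
    refine ⟨?_, fun h => ⟨w, by rw [Matrix.toLin'_apply, h]⟩⟩
    rintro ⟨v, rfl⟩
    rw [Matrix.toLin'_apply, Matrix.mulVec_mulVec, hff]
  have hQT : ∀ w ∈ W, Q (T *ᵥ w) = Q w := by
    intro w hw
    obtain ⟨w', hw'⟩ : ∃ w', w' = f *ᵥ (y.1 *ᵥ w) := ⟨_, rfl⟩
    have h1 : a *ᵥ w' = w + w' := by
      have h : (a - 1) *ᵥ w' = w := by
        rw [hw', Matrix.mulVec_mulVec, Matrix.mulVec_mulVec,
          show (a - 1) * f * y.1 = f * f by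
            rw [hcomm _ (sub_mem hAR (one_mem _)) _ hfR, Matrix.mul_assoc, hfy], hff,
          (hWmem w).1 hw]
      rw [Matrix.sub_mulVec, Matrix.one_mulVec, sub_eq_iff_eq_add] at h
      exact h
    have hpw : polar Q (T *ᵥ w) (T *ᵥ w') = polar Q w w' := by
      rw [hpol, hw', Matrix.mulVec_mulVec, hff]
    have h2 : Q (T *ᵥ (a *ᵥ w')) = Q (T *ᵥ w') := by rw [Matrix.mulVec_mulVec, hTA, ← Matrix.mulVec_mulVec, hQB]
    have h3 := hQA w'
    rw [h1, Matrix.mulVec_add, Classical.Witt.q_add, hpw] at h2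
    rw [h1, Classical.Witt.q_add] at h3
    linear_combination h2 - h3
  obtain ⟨L, hL⟩ : ∃ L : W →ₗ[F] (ι → F), ∀ w : W, L w = T *ᵥ w.1 :=
    ⟨(Matrix.toLin' T).comp W.subtype, fun w => rfl⟩
  have hpnd : Classical.OCount.PND Q := fun v h => hQ.1 v h
  have hinj : Function.Injective L := by
    rw [← LinearMap.ker_eq_bot, Submodule.eq_bot_iff]
    intro w hw
    rw [LinearMap.mem_ker, hL] at hw
    refine Subtype.ext (hQ.1 w.1 fun v => ?_)
    rw [polarBilin_apply_apply]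
    have h := hpol w.1 v
    rw [hw, polar_zero_left] at h
    rw [← (hWmem w.1).1 w.2, polar_adj hQ, hfadj]
    exact h.symm
  obtain ⟨h, hh, hhW⟩ := Classical.ORefl.witt hpnd W L hinj fun w => by rw [hL]; exact hQT _ w.2
  -- the conjugating isometry
  obtain ⟨Hm, hHm⟩ : ∃ Hm : Matrix ι ι F, ∀ v, Hm *ᵥ v = h v :=
    ⟨LinearMap.toMatrix' (h : (ι → F) →ₗ[F] ι → F), fun v => by rw [← Matrix.toLin'_apply, Matrix.toLin'_toMatrix']; rfl⟩
  have hHu : IsUnit Hm.det := by
    rw [isUnit_iff_ne_zero]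
    intro h0
    obtain ⟨v, hv, hv0⟩ := Matrix.exists_mulVec_eq_zero_iff.2 h0
    exact hv (h.map_eq_zero_iff.1 ((hHm v).symm.trans hv0))
  have hconj : Hm * a = b * Hm := by
    refine Matrix.ext_of_mulVec_single fun i => ?_
    obtain ⟨v, hv⟩ : ∃ v : ι → F, v = Pi.single i 1 := ⟨_, rfl⟩
    rw [← hv]
    have hsplit : ∀ u, u = e.1 *ᵥ u + f *ᵥ u := fun u => by
      rw [hf, Matrix.sub_mulVec, Matrix.one_mulVec, add_sub_cancel]
    have hfW : f *ᵥ v ∈ W := hW ▸ ⟨v, Matrix.toLin'_apply f v⟩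
    have haW : a *ᵥ (f *ᵥ v) ∈ W := (hWmem _).2 (by
      rw [Matrix.mulVec_mulVec, Matrix.mulVec_mulVec, hcomm _ hfR _ hAR, Matrix.mul_assoc, hff, Matrix.mulVec_mulVec])
    have e2 : Hm *ᵥ (a *ᵥ (f *ᵥ v)) = b *ᵥ (Hm *ᵥ (f *ᵥ v)) := by
      rw [hHm, hHm, show h (a *ᵥ (f *ᵥ v)) = L ⟨_, haW⟩ from hhW ⟨_, haW⟩,
        show h (f *ᵥ v) = L ⟨_, hfW⟩ from hhW ⟨_, hfW⟩, hL, hL]
      simp only
      rw [Matrix.mulVec_mulVec, hTA, ← Matrix.mulVec_mulVec]
    have e1 : b *ᵥ (Hm *ᵥ (e.1 *ᵥ v)) = Hm *ᵥ (e.1 *ᵥ v) := by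
      obtain ⟨c, hc⟩ : ∃ c, c = Hm *ᵥ (e.1 *ᵥ v) := ⟨_, rfl⟩
      rw [← hc]
      refine sub_eq_zero.1 (hQ.1 _ fun u => ?_)
      rw [polarBilin_apply_apply, polar_sub_left]
      obtain ⟨u', hu'⟩ : ∃ u', b *ᵥ u' = u := ⟨adj Q b *ᵥ u, by
        rw [Matrix.mulVec_mulVec, mul_eq_one_comm.1 hB1, Matrix.one_mulVec]⟩
      rw [← hu', polar_adj hQ b, Matrix.mulVec_mulVec u' (adj Q b), hB1, Matrix.one_mulVec, ← polar_sub_right]
      -- every `u' - b u'` lies in the image of the partial isometry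
      obtain ⟨s, hs⟩ : ∃ s, g *ᵥ s = u' := ⟨g⁻¹ *ᵥ u', by
        rw [Matrix.mulVec_mulVec, Matrix.mul_nonsing_inv _ hg, Matrix.one_mulVec]⟩
      obtain ⟨w, hw⟩ : ∃ w, w = f *ᵥ ((adj Q z.1 * H) *ᵥ ((1 - a) *ᵥ s)) := ⟨_, rfl⟩
      have hwW : w ∈ W := hW ▸ ⟨_, (Matrix.toLin'_apply f _).trans hw.symm⟩
      have hTw : T *ᵥ w = u' - b *ᵥ u' := by
        have ha1 : f * (1 - a) = 1 - a := by
          rw [hf, Matrix.sub_mul, Matrix.one_mul, Matrix.mul_sub, Matrix.mul_one, hcomm _ e.2 _ hAR,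
            show a * e.1 = e.1 from congrArg Subtype.val hAe, sub_self, sub_zero]
        have hk : f * z.1 * (f * (adj Q z.1 * H)) * (1 - a) = 1 - a := by
          have h' : f * z.1 * (f * (adj Q z.1 * H)) = adj Q z.1 * H * z.1 * f := by
            have := congrArg Subtype.val (show (⟨f, hfR⟩ : R) * z * (⟨f, hfR⟩ * (φ z * ⟨H, hHR⟩)) =
              φ z * ⟨H, hHR⟩ * z * (⟨f, hfR⟩ * ⟨f, hfR⟩) by ring)
            simp only [Subring.coe_mul, hff] at this
            exact this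
          rw [h', hfz, ha1]
        rw [hw, ← hs, hT, Matrix.mulVec_mulVec, Matrix.mulVec_mulVec, Matrix.mulVec_mulVec, Matrix.mulVec_mulVec,
          ← hgA, ← Matrix.sub_mulVec,
          show g * (f * z.1) * f * (adj Q z.1 * H) * (1 - a) = g * (f * z.1 * (f * (adj Q z.1 * H)) * (1 - a)) by
            simp only [Matrix.mul_assoc], hk, Matrix.mul_sub, Matrix.mul_one]
      have hLw : h w = T *ᵥ w := (hhW ⟨w, hwW⟩).trans (hL _)
      rw [← hTw, ← hLw, hc, hHm, Classical.ORefl.polar_iso hh, polar_comm, ← (hWmem w).1 hwW, polar_adj hQ, hfadj,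
        Matrix.mulVec_mulVec, show f * e.1 = 0 by
          rw [hf, Matrix.sub_mul, Matrix.one_mul, show e.1 * e.1 = e.1 from congrArg Subtype.val hee, sub_self],
        Matrix.zero_mulVec, polar_zero_right]
    rw [← Matrix.mulVec_mulVec, ← Matrix.mulVec_mulVec]
    calc Hm *ᵥ (a *ᵥ v) = Hm *ᵥ (a *ᵥ (e.1 *ᵥ v)) + Hm *ᵥ (a *ᵥ (f *ᵥ v)) := by
          rw [← Matrix.mulVec_add, ← Matrix.mulVec_add, ← hsplit]
      _ = b *ᵥ (Hm *ᵥ (e.1 *ᵥ v)) + b *ᵥ (Hm *ᵥ (f *ᵥ v)) := by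
          rw [e1, e2, Matrix.mulVec_mulVec v a e.1, show a * e.1 = e.1 from congrArg Subtype.val hAe]
      _ = b *ᵥ (Hm *ᵥ v) := by rw [← Matrix.mulVec_add, ← Matrix.mulVec_add, ← hsplit]
  obtain ⟨U, hU⟩ : ∃ U : ↥(Cfsg.isometryGroup F ⇑Q), U.1.1 = Hm :=
    ⟨⟨Matrix.GeneralLinearGroup.mkOfDetNeZero Hm hHu.ne_zero, fun u v => by
      show Q (Hm *ᵥ u) = Q u
      rw [hHm]; exact hh u⟩, Matrix.GeneralLinearGroup.val_mkOfDetNeZero _ _⟩
  rw [isConj_iff]
  refine ⟨U, mul_inv_eq_iff_eq_mul.2 (Subtype.ext (Units.ext ?_))⟩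
  simp only [Subgroup.coe_mul, Units.val_mul, hU, ← ha, ← hb]
  exact hconj

end Cfsg.Agent.Small.OrthogonalSemisimple
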