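import Mathlib
import Cfsg.Agent.Lib.Small.QuadBasis

/-!
Over a finite field of odd order the dimension and the discriminant classify nondegenerate quadratic forms.
-/

set_option autoImplicit false

namespace Cfsg.Agent.Small.QuadBasis

open QuadraticMap Module

variable {F V : Type*} [Field F] [AddCommGroup V] [Module F V] (Q : QuadraticForm F V)

theorem split_line [FiniteDimensional F V] (h2 : (2 : F) ≠ 0) {W : Submodule F V} (hW : Nondeg Q W) {x : V}
    (hx : x ∈ W) (hQx : Q x ≠ 0) :
    Nondeg Q (W ⊓ LinearMap.ker (polarBilin Q x)) ∧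
      finrank F ↥(W ⊓ LinearMap.ker (polarBilin Q x)) + 1 = finrank F W := by
  have hxx : polar Q x x ≠ 0 := by rw [p_self]; exact mul_ne_zero h2 hQx
  constructor
  · intro z hz hzo
    simp only [Submodule.mem_inf, LinearMap.mem_ker, polarBilin_apply_apply] at hz
    refine hW z hz.1 fun y hy => ?_
    have h := hzo (y - (polar Q x y / polar Q x x) • x) (by
      simp only [Submodule.mem_inf, LinearMap.mem_ker, polarBilin_apply_apply]
      exact ⟨W.sub_mem hy (W.smul_mem _ hx), by rw [polar_sub_right, p_smul_right, div_mul_cancel₀ _ hxx, sub_self]⟩)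
    rwa [polar_sub_right, p_smul_right, polar_comm _ z x, hz.2, mul_zero, sub_zero] at h
  · let l : W →ₗ[F] F := (polarBilin Q x).domRestrict W
    have hl : LinearMap.range l = ⊤ := LinearMap.range_eq_top.mpr fun c =>
      ⟨(c / polar Q x x) • ⟨x, hx⟩, show polar Q x ((c / polar Q x x) • x) = c by
        rw [p_smul_right, div_mul_cancel₀ _ hxx]⟩
    have h := l.finrank_range_add_finrank_ker
    rw [hl, finrank_top, finrank_self] at h
    have hm : (LinearMap.ker l).map W.subtype = W ⊓ LinearMap.ker (polarBilin Q x) := by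
      rw [show LinearMap.ker l = Submodule.comap W.subtype (LinearMap.ker (polarBilin Q x)) from by
        rw [← LinearMap.ker_comp]; rfl, Submodule.map_comap_subtype]
    rw [← hm, Submodule.finrank_map_subtype_eq]
    omega

theorem exists_ne_zero_value {W : Submodule F V} (hW : Nondeg Q W) (h0 : W ≠ ⊥) :
    ∃ x ∈ W, Q x ≠ 0 := by
  by_contra h
  push Not at h
  obtain ⟨x, hx, hx0⟩ := Submodule.exists_mem_ne_zero_of_ne_bot h0
  refine hx0 (hW x hx fun y hy => ?_)
  rw [polar, h _ (W.add_mem hx hy), h x hx, h y hy, sub_zero, sub_zero]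

theorem exists_diagonal [Fintype F] [FiniteDimensional F V] (h2 : (2 : F) ≠ 0) :
    ∀ (n : ℕ) (W : Submodule F V), Nondeg Q W → finrank F W = n + 1 →
      ∃ (v : Fin (n + 1) → V) (d : F), d ≠ 0 ∧ (∀ i, v i ∈ W) ∧ (∀ i j, i ≠ j → polar Q (v i) (v j) = 0) ∧
        ∀ i, Q (v i) = if i = Fin.last n then d else 1 := by
  intro n
  induction n with
  | zero =>
    intro W hW hd
    obtain ⟨x, hx, hQx⟩ := exists_ne_zero_value Q hW fun h => by
      rw [h, finrank_bot] at hd
      omega
    exact ⟨fun _ => x, Q x, hQx, fun _ => hx, fun i j h => absurd (Fin.ext (by omega)) h,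
      fun i => by rw [if_pos (Fin.ext (by simp))]⟩
  | succ n ih =>
    intro W hW hd
    obtain ⟨x₀, hx₀, hQx₀⟩ := exists_ne_zero_value Q hW fun h => by
      rw [h, finrank_bot] at hd
      omega
    obtain ⟨hN₀, hd₀⟩ := split_line Q h2 hW hx₀ hQx₀
    obtain ⟨z, hz, hQz⟩ := exists_ne_zero_value Q hN₀ fun h => by
      rw [h, finrank_bot] at hd₀
      omega
    simp only [Submodule.mem_inf, LinearMap.mem_ker, polarBilin_apply_apply] at hz
    obtain ⟨s, t, hst⟩ := exists_form_rep h2 (Q x₀) (Q z) 1 hQx₀ hQz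
    obtain ⟨x, hx, hQx⟩ : ∃ x ∈ W, Q x = 1 := by
      refine ⟨s • x₀ + t • z, W.add_mem (W.smul_mem _ hx₀) (W.smul_mem _ hz.1), ?_⟩
      rw [q_add, q_smul, q_smul, p_smul_left, p_smul_right, hz.2]
      linear_combination hst
    obtain ⟨hN, hd'⟩ := split_line Q h2 hW hx (hQx ▸ one_ne_zero)
    obtain ⟨v, d, hd0, hv, hvo, hvq⟩ := ih _ hN (by omega)
    have hv' : ∀ i, v i ∈ W ∧ polar Q x (v i) = 0 := fun i => by
      have := hv i
      simpa [Submodule.mem_inf, LinearMap.mem_ker] using this
    refine ⟨Fin.cons x v, d, hd0, fun i => Fin.cases hx (fun i => (hv' i).1) i, fun i j hij => ?_, fun i => ?_⟩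
    · cases i using Fin.cases with
      | zero =>
        cases j using Fin.cases with
        | zero => exact absurd rfl hij
        | succ j => simpa using (hv' j).2
      | succ i =>
        cases j using Fin.cases with
        | zero => simpa [polar_comm _ (v i) x] using (hv' i).2
        | succ j => simpa using hvo i j fun h => hij (h ▸ rfl)
    · cases i using Fin.cases with
      | zero => rw [Fin.cons_zero, if_neg fun h => absurd (congrArg Fin.val h) (by simp), hQx]
      | succ i =>
        rw [Fin.cons_succ, hvq i]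
        simp [← Fin.succ_last]

theorem det_gram_eq {n : ℕ} (Q : QuadraticForm F (Fin n → F)) (P : Matrix (Fin n) (Fin n) F) (w : Fin n → F)
    (ho : ∀ i j, i ≠ j → polar Q (fun k => P k i) (fun k => P k j) = 0)
    (hq : ∀ i, polar Q (fun k => P k i) (fun k => P k i) = w i) :
    P.det ^ 2 * (Matrix.of fun i j : Fin n => polar Q (Pi.single i 1) (Pi.single j 1)).det = ∏ i, w i := by
  obtain ⟨G, hG⟩ : ∃ G, G = Matrix.of fun i j : Fin n => polar Q (Pi.single i 1) (Pi.single j 1) := ⟨_, rfl⟩
  rw [← hG]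
  have key : ∀ u v : Fin n → F, polar Q u v = ∑ i, ∑ j, u i * (G i j * v j) := by
    intro u v
    conv_lhs => rw [pi_eq_sum_univ' u, pi_eq_sum_univ' v, ← polarBilin_apply_apply]
    simp only [map_sum, map_smul, LinearMap.sum_apply, LinearMap.smul_apply, smul_eq_mul, polarBilin_apply_apply,
      hG, Matrix.of_apply]
    rw [Finset.sum_comm]
    simp only [Finset.mul_sum]
    exact Finset.sum_congr rfl fun i _ => Finset.sum_congr rfl fun j _ => by ring
  have h : P.transpose * G * P = Matrix.diagonal w := by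
    ext i j
    have h' : (P.transpose * G * P) i j = polar Q (fun k => P k i) (fun k => P k j) := by
      rw [key, Matrix.mul_assoc]
      simp [Matrix.mul_apply, Finset.mul_sum]
    rw [h']
    by_cases hij : i = j
    · subst hij
      rw [hq, Matrix.diagonal_apply_eq]
    · rw [ho i j hij, Matrix.diagonal_apply_ne _ hij]
  have := congrArg Matrix.det h
  rw [Matrix.det_mul, Matrix.det_mul, Matrix.det_transpose, Matrix.det_diagonal] at this
  linear_combination this

theorem isometric_iff [Fintype F] (h2 : (2 : F) ≠ 0) {n : ℕ} (Q₁ Q₂ : QuadraticForm F (Fin n → F))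
    (h₁ : (polarBilin Q₁).Nondegenerate) (h₂ : (polarBilin Q₂).Nondegenerate) :
    (∃ g : (Fin n → F) ≃ₗ[F] (Fin n → F), ∀ v, Q₂ (g v) = Q₁ v) ↔
      IsSquare ((Matrix.of (fun i j : Fin n => polar ⇑Q₁ (Pi.single i 1) (Pi.single j 1))).det *
        (Matrix.of (fun i j : Fin n => polar ⇑Q₂ (Pi.single i 1) (Pi.single j 1))).det) := by
  classical
  constructor
  · rintro ⟨g, hg⟩
    obtain ⟨M, hM⟩ : ∃ M, M = LinearMap.toMatrix' (g : (Fin n → F) →ₗ[F] (Fin n → F)) := ⟨_, rfl⟩
    have hpol : ∀ u v, polar Q₁ u v = polar Q₂ (g u) (g v) := fun u v => by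
      simp only [polar, ← map_add, hg]
    have h : M.transpose * (Matrix.of (fun i j : Fin n => polar ⇑Q₂ (Pi.single i 1) (Pi.single j 1))) * M =
        Matrix.of (fun i j : Fin n => polar ⇑Q₁ (Pi.single i 1) (Pi.single j 1)) := by
      ext i j
      simp only [Matrix.of_apply]
      rw [hpol, pi_eq_sum_univ' (g (Pi.single i 1)), pi_eq_sum_univ' (g (Pi.single j 1)),
        ← polarBilin_apply_apply]
      simp only [map_sum, map_smul, LinearMap.sum_apply, LinearMap.smul_apply, smul_eq_mul, polarBilin_apply_apply,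
        Matrix.mul_apply, Matrix.transpose_apply, Matrix.of_apply, hM, LinearMap.toMatrix'_apply, Finset.sum_mul,
        Finset.mul_sum]
      exact Finset.sum_congr rfl fun k _ => Finset.sum_congr rfl fun l _ => by
        simp only [LinearEquiv.coe_coe]
        ring
    rw [← h, Matrix.det_mul, Matrix.det_mul, Matrix.det_transpose]
    exact ⟨M.det * (Matrix.of (fun i j : Fin n => polar ⇑Q₂ (Pi.single i 1) (Pi.single j 1))).det, by ring⟩
  · intro hsq
    rcases n with _ | n
    · exact ⟨LinearEquiv.refl F _, fun v => by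
        rw [Subsingleton.elim v 0, LinearEquiv.refl_apply, QuadraticMap.map_zero, QuadraticMap.map_zero]⟩
    have hfr : finrank F ↥(⊤ : Submodule F (Fin (n + 1) → F)) = n + 1 := by rw [finrank_top, finrank_fin_fun]
    have hmk : ∀ Q : QuadraticForm F (Fin (n + 1) → F), (polarBilin Q).Nondegenerate →
        ∃ (b : Basis (Fin (n + 1)) F (Fin (n + 1) → F)) (d r : F), d ≠ 0 ∧ r ≠ 0 ∧
          r * r * (Matrix.of (fun i j : Fin (n + 1) => polar ⇑Q (Pi.single i 1) (Pi.single j 1))).det =
            2 ^ (n + 1) * d ∧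
          ∀ c : Fin (n + 1) → F, Q (∑ i, c i • b i) = ∑ i, c i * c i * (if i = Fin.last n then d else 1) := by
      intro Q hQ
      obtain ⟨v, d, hd, -, hvo, hvq⟩ := exists_diagonal Q h2 n ⊤ (fun x _ h => hQ.1 x fun y => h y trivial) hfr
      obtain ⟨P, hP⟩ : ∃ P : Matrix (Fin (n + 1)) (Fin (n + 1)) F, P = Matrix.of fun k i => v i k := ⟨_, rfl⟩
      have hcol : ∀ i, (fun k => P k i) = v i := fun i => by rw [hP]; rfl
      have hdet := det_gram_eq Q P (fun i => 2 * (if i = Fin.last n then d else 1))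
        (fun i j hij => by rw [hcol, hcol]; exact hvo i j hij) (fun i => by rw [hcol, p_self, hvq])
      have hprod : ∏ i : Fin (n + 1), (2 * (if i = Fin.last n then d else (1 : F))) = 2 ^ (n + 1) * d := by
        rw [Finset.prod_mul_distrib, Finset.prod_const, Finset.card_univ, Fintype.card_fin,
          Fintype.prod_ite_eq' (Fin.last n) fun _ => d]
      rw [hprod] at hdet
      have hP0 : P.det ≠ 0 := fun h0 => by
        rw [h0] at hdet
        exact mul_ne_zero (pow_ne_zero _ h2) hd (by rw [← hdet]; ring)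
      have hli : LinearIndependent F v := by
        have := Matrix.linearIndependent_cols_of_det_ne_zero hP0
        rwa [show P.col = v from funext hcol] at this
      refine ⟨basisOfLinearIndependentOfCardEqFinrank hli (by simp), d, P.det, hd, hP0, by linear_combination hdet,
        fun c => ?_⟩
      simp only [coe_basisOfLinearIndependentOfCardEqFinrank]
      rw [q_sum]
      · exact Finset.sum_congr rfl fun i _ => by rw [q_smul, hvq]
      · intro i j hij
        rw [p_smul_left, p_smul_right, hvo i j hij, mul_zero, mul_zero]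
    obtain ⟨b₁, d₁, r₁, hd₁, hr₁, hdet₁, hQ₁⟩ := hmk Q₁ h₁
    obtain ⟨b₂, d₂, r₂, hd₂, hr₂, hdet₂, hQ₂⟩ := hmk Q₂ h₂
    obtain ⟨s, hs⟩ := hsq
    obtain ⟨ρ, hρ⟩ : ∃ ρ, ρ = r₁ * r₂ * s / (2 ^ (n + 1) * d₂) := ⟨_, rfl⟩
    have hρd : ρ * ρ * d₂ = d₁ := by
      have h3 : r₁ * r₂ * s * (r₁ * r₂ * s) = 2 ^ (n + 1) * d₁ * (2 ^ (n + 1) * d₂) := by
        rw [← hdet₁, ← hdet₂]
        linear_combination (-(r₁ * r₁ * (r₂ * r₂))) * hs
      have h4 : (2 : F) ^ (n + 1) ≠ 0 := pow_ne_zero _ h2
      rw [hρ, div_mul_div_comm, h3]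
      field_simp
    have hρ0 : ρ ≠ 0 := fun h0 => hd₁ (by rw [← hρd, h0]; ring)
    let sc : Fin (n + 1) → Fˣ := fun i => if i = Fin.last n then Units.mk0 ρ hρ0 else 1
    refine ⟨b₁.equiv (b₂.unitsSMul sc) (Equiv.refl _), fun v => ?_⟩
    conv_rhs => rw [← b₁.sum_repr v, hQ₁]
    conv_lhs => rw [← b₁.sum_repr v, map_sum]
    simp only [map_smul, Basis.equiv_apply, Equiv.refl_apply, Basis.unitsSMul_apply, Units.smul_def, smul_smul]
    rw [hQ₂]
    refine Finset.sum_congr rfl fun i _ => ?_
    by_cases hi : i = Fin.last n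
    · simp only [sc, hi, if_true, Units.val_mk0]
      linear_combination (b₁.repr v (Fin.last n) * b₁.repr v (Fin.last n)) * hρd
    · simp [sc, hi]

end Cfsg.Agent.Small.QuadBasis
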