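import Cfsg.Agent.Lib.Small.SpJordan
import Cfsg.Prelude.Def_Classical

/-!
The Jordan types of the unipotent elements of the orthogonal groups.
-/

set_option autoImplicit false
set_option linter.unusedSectionVars false

namespace Cfsg.Agent.Small.OrthJordan

open Matrix
open Cfsg.Agent.Small.SpRegular (IsCyc poly)
open Cfsg.Agent.Small.JordanCent (nilM jordan_eq)
open Cfsg.Agent.Small.SpJordan

variable {F : Type*} [Field F]

/-- An invertible symmetric form invariant under one block of odd size. -/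
theorem exists_sym_inv (h2 : (2 : F) ≠ 0) {n : ℕ} (hn : Odd n) :
    ∃ E : Matrix (Fin n) (Fin n) F, IsUnit E ∧ Eᵀ = E ∧
      (Cfsg.jordanBlock n F)ᵀ * E * Cfsg.jordanBlock n F = E := by
  have hn1 : 1 ≤ n := hn.pos
  obtain ⟨S, hu, hS⟩ := exists_inv (F := F) hn1
  have hS' : (Cfsg.jordanBlock n F)ᵀ * Sᵀ * Cfsg.jordanBlock n F = Sᵀ := by
    have h := congrArg Matrix.transpose hS
    simp only [Matrix.transpose_mul, Matrix.transpose_transpose, ← Matrix.mul_assoc] at h
    exact h
  refine ⟨S + Sᵀ, ?_, by rw [Matrix.transpose_add, Matrix.transpose_transpose, add_comm],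
    by rw [mul_add, add_mul, hS, hS']⟩
  obtain ⟨s, rfl⟩ := hu
  set P := (↑s⁻¹ : Matrix (Fin n) (Fin n) F) * (s : Matrix (Fin n) (Fin n) F)ᵀ with hP
  have hsP : (s : Matrix (Fin n) (Fin n) F) * P = (s : Matrix (Fin n) (Fin n) F)ᵀ := by
    rw [hP, ← Matrix.mul_assoc, s.mul_inv, Matrix.one_mul]
  have hJu : IsUnit ((Cfsg.jordanBlock n F)ᵀ * (s : Matrix (Fin n) (Fin n) F)) := by
    refine IsUnit.mul ?_ s.isUnit
    rw [jordanBlock_eq, Matrix.transpose_add, Matrix.transpose_one]
    exact IsNilpotent.isUnit_one_add ⟨n, by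
      rw [← Matrix.transpose_pow, (isCyc_Nb hn1).nil, Matrix.transpose_zero]⟩
  have hcomm : Commute P (Cfsg.jordanBlock n F) := by
    refine hJu.mul_left_cancel ?_
    calc (Cfsg.jordanBlock n F)ᵀ * s * (P * Cfsg.jordanBlock n F)
        = (Cfsg.jordanBlock n F)ᵀ * ((s : Matrix (Fin n) (Fin n) F) * P) * Cfsg.jordanBlock n F := by
          simp only [Matrix.mul_assoc]
      _ = (s : Matrix (Fin n) (Fin n) F) * P := by rw [hsP, hS']
      _ = (Cfsg.jordanBlock n F)ᵀ * s * Cfsg.jordanBlock n F * P := by rw [hS]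
      _ = _ := by simp only [Matrix.mul_assoc]
  have hPN : Commute P (Nb n F) := by
    have := hcomm.sub_right (Commute.one_right P)
    rwa [jordanBlock_eq, add_sub_cancel_left] at this
  obtain ⟨c, hc⟩ := SpRegular.exists_poly (isCyc_Nb hn1) hPN
  set δ : Fin n → F := Pi.single ⟨0, hn1⟩ 1
  have hone : poly (Nb n F) δ = 1 := by
    rw [poly, Finset.sum_eq_single (⟨0, hn1⟩ : Fin n)]
    · simp [δ]
    · intro i _ hi
      simp [δ, hi]
    · simp
  have hadd : ∀ a b : Fin n → F, poly (Nb n F) (a + b) = poly (Nb n F) a + poly (Nb n F) b := fun a b => by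
    simp only [poly, Pi.add_apply, add_smul, Finset.sum_add_distrib]
  have hneg : ∀ a : Fin n → F, poly (Nb n F) (-a) = -poly (Nb n F) a := fun a => by
    simp only [poly, Pi.neg_apply, neg_smul, Finset.sum_neg_distrib]
  have hplus : (s : Matrix (Fin n) (Fin n) F) + (s : Matrix (Fin n) (Fin n) F)ᵀ =
      s * poly (Nb n F) (δ + c) := by
    rw [hadd, hone, ← hc, mul_add, mul_one, hsP]
  have hminus : (s : Matrix (Fin n) (Fin n) F) - (s : Matrix (Fin n) (Fin n) F)ᵀ =
      s * poly (Nb n F) (δ + -c) := by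
    rw [hadd, hone, hneg, ← hc, mul_add, mul_one, mul_neg, hsP, sub_eq_add_neg]
  rw [hplus]
  refine s.isUnit.mul (SpRegular.isUnit_poly (isCyc_Nb hn1) _ fun h0 => ?_)
  have h1 : ¬ IsUnit ((s : Matrix (Fin n) (Fin n) F) - (s : Matrix (Fin n) (Fin n) F)ᵀ) := by
    rw [Matrix.isUnit_iff_isUnit_det, Classical.det_eq_zero_of_alternating_of_odd (by rwa [Fintype.card_fin]) _
      (fun i j => by simp) fun i => by simp]
    exact not_isUnit_zero
  refine h1 ?_
  rw [hminus]
  refine s.isUnit.mul (SpRegular.isUnit_poly (isCyc_Nb hn1) _ fun h0' => ?_)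
  simp [δ] at h0 h0'
  exact h2 (by linear_combination h0 + h0')

variable {t : ℕ} (d : Fin t → ℕ)

local notation "I" => ((k : Fin t) × Fin (d k))

/-- An involution pairing the blocks of the sizes satisfying `P`. -/
theorem exists_pairing_gen (P : ℕ → Prop)
    (hev : ∀ j : ℕ, P j → Even (Finset.univ.filter (fun k : Fin t => d k = j)).card) :
    ∃ π : Fin t → Fin t, (∀ k, d (π k) = d k) ∧ (∀ k, π (π k) = k) ∧ ∀ k, π k = k → ¬ P (d k) := by
  classical
  have key : ∀ j, ∃ g : Fin t → Fin t, ∀ k, d k = j → d (g k) = j ∧ g (g k) = k ∧ (g k = k → ¬ P j) := by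
    intro j
    by_cases hj : P j
    swap
    · exact ⟨id, fun k hk => ⟨hk, rfl, fun _ => hj⟩⟩
    set s := Finset.univ.filter (fun k : Fin t => d k = j) with hs
    let σ : Fin s.card ≃ s := (s.orderIsoOfFin rfl).toEquiv
    refine ⟨fun k => if h : k ∈ s then (σ (σ.symm ⟨k, h⟩).rev : Fin t) else k, fun k hk => ?_⟩
    have hmem : k ∈ s := by simp [hs, hk]
    have hv : ∀ x : s, d (x : Fin t) = j := fun x => (Finset.mem_filter.1 x.2).2
    simp only [dif_pos hmem]
    refine ⟨hv _, ?_, fun h => ?_⟩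
    · rw [dif_pos (σ _).2]
      simp
    · exfalso
      have h' : σ (σ.symm ⟨k, hmem⟩).rev = ⟨k, hmem⟩ := Subtype.ext h
      have h'' := congrArg Fin.val (σ.injective (h'.trans (σ.apply_symm_apply _).symm))
      rw [Fin.val_rev] at h''
      obtain ⟨r, hr⟩ : Even s.card := hev j hj
      have := (σ.symm ⟨k, hmem⟩).isLt
      omega
  choose g hg using key
  refine ⟨fun k => g (d k) k, fun k => (hg _ k rfl).1, fun k => ?_, fun k => (hg _ k rfl).2.2⟩
  show g (d (g (d k) k)) (g (d k) k) = k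
  rw [(hg _ k rfl).1]
  exact (hg _ k rfl).2.1

/-- An invertible symmetric invariant form, odd characteristic. -/
theorem exists_sym_form (h2 : (2 : F) ≠ 0) (hd : ∀ k, 1 ≤ d k)
    (hev : ∀ j : ℕ, Even j → 0 < j → Even (Finset.univ.filter (fun k : Fin t => d k = j)).card) :
    ∃ Ω : Matrix I I F, IsUnit Ω ∧ Ωᵀ = Ω ∧
      (Cfsg.jordanTypeMatrix d F)ᵀ * Ω * Cfsg.jordanTypeMatrix d F = Ω := by
  classical
  obtain ⟨π, hπd, hπ, hπe⟩ := exists_pairing_gen d (fun j => Even j ∧ 0 < j) fun j h => hev j h.1 h.2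
  have hπo : ∀ k, π k = k → Odd (d k) := fun k h =>
    (Nat.even_or_odd (d k)).resolve_left fun he => hπe k h ⟨he, hd k⟩
  have hS : ∀ n, ∃ S : Matrix (Fin n) (Fin n) F, 1 ≤ n →
      IsUnit S ∧ (Cfsg.jordanBlock n F)ᵀ * S * Cfsg.jordanBlock n F = S := fun n => by
    rcases Nat.eq_zero_or_pos n with h | h
    · exact ⟨0, fun h1 => by omega⟩
    · obtain ⟨S, hS⟩ := exists_inv (F := F) h
      exact ⟨S, fun _ => hS⟩
  have hE : ∀ n, ∃ E : Matrix (Fin n) (Fin n) F, Odd n → IsUnit E ∧ Eᵀ = E ∧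
      (Cfsg.jordanBlock n F)ᵀ * E * Cfsg.jordanBlock n F = E := fun n => by
    by_cases h : Odd n
    · obtain ⟨E, hE⟩ := exists_sym_inv h2 h
      exact ⟨E, fun _ => hE⟩
    · exact ⟨0, fun h' => absurd h' h⟩
  choose S hS using hS
  choose E hE using hE
  let B : ∀ k, Matrix (Fin (d k)) (Fin (d k)) F := fun k =>
    if π k = k then E (d k) else if k < π k then S (d k) else (S (d k))ᵀ
  have hB : ∀ k, IsUnit (B k) ∧ (Cfsg.jordanBlock (d k) F)ᵀ * B k * Cfsg.jordanBlock (d k) F = B k := by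
    intro k
    obtain ⟨hu, hi⟩ := hS (d k) (hd k)
    simp only [B]
    split_ifs with h1 h2
    · exact ⟨(hE _ (hπo k h1)).1, (hE _ (hπo k h1)).2.2⟩
    · exact ⟨hu, hi⟩
    · refine ⟨?_, ?_⟩
      · rw [Matrix.isUnit_iff_isUnit_det, Matrix.det_transpose, ← Matrix.isUnit_iff_isUnit_det]
        exact hu
      · have h := congrArg Matrix.transpose hi
        rw [Matrix.transpose_mul, Matrix.transpose_mul, Matrix.transpose_transpose, ← Matrix.mul_assoc] at h
        exact h
  let ρ : I ≃ I :=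
    { toFun := fun x => ⟨π x.1, Fin.cast (hπd x.1).symm x.2⟩
      invFun := fun x => ⟨π x.1, Fin.cast (hπd x.1).symm x.2⟩
      left_inv := fun x => sig_ext d (hπ x.1) rfl
      right_inv := fun x => sig_ext d (hπ x.1) rfl }
  set J := Cfsg.jordanTypeMatrix d F with hJ
  set D : Matrix I I F := Matrix.blockDiagonal' B with hD
  have hJρ : J.submatrix ρ ρ = J := by
    ext ⟨k, a⟩ ⟨l, b⟩
    rw [Matrix.submatrix_apply, hJ, jordan_eq]
    have hinj : π k = π l ↔ k = l := ⟨fun h => by simpa [hπ] using congrArg π h, fun h => by rw [h]⟩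
    simp only [Matrix.add_apply, Matrix.one_apply, nilM, ρ.apply_eq_iff_eq]
    simp only [ρ, Equiv.coe_fn_mk, Fin.val_cast, hinj]
  have hJD : Jᵀ * D * J = D := by
    rw [hJ, hD, Cfsg.jordanTypeMatrix, Matrix.blockDiagonal'_transpose, ← Matrix.blockDiagonal'_mul,
      ← Matrix.blockDiagonal'_mul]
    exact congrArg Matrix.blockDiagonal' (funext fun k => (hB k).2)
  have hmul : D.submatrix id ρ * J = (D * J).submatrix id ρ := by
    conv_lhs => rw [← hJρ]
    exact Matrix.submatrix_mul_equiv D J id ρ ρ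
  refine ⟨D.submatrix id ρ, ?_, ?_, ?_⟩
  · have hC : D * Matrix.blockDiagonal' (fun k => (B k)⁻¹) = 1 := by
      rw [hD, ← Matrix.blockDiagonal'_mul,
        show (fun k => B k * (B k)⁻¹) = fun k => (1 : Matrix (Fin (d k)) (Fin (d k)) F) from
          funext fun k => Matrix.mul_nonsing_inv _ ((Matrix.isUnit_iff_isUnit_det _).1 (hB k).1)]
      exact Matrix.blockDiagonal'_one
    refine IsUnit.of_mul_eq_one (b := (Matrix.blockDiagonal' fun k => (B k)⁻¹).submatrix ρ id) ?_
    rw [Matrix.submatrix_mul_equiv, hC, Matrix.submatrix_id_id]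
  · ext ⟨k, a⟩ ⟨l, b⟩
    simp only [Matrix.transpose_apply, Matrix.submatrix_apply, id, ρ, Equiv.coe_fn_mk, hD]
    by_cases h : k = π l
    · subst h
      have e1 : (⟨π (π l), Fin.cast (hπd (π l)).symm a⟩ : I) = ⟨l, Fin.cast (hπd l) a⟩ :=
        sig_ext d (hπ l) rfl
      rw [e1, Matrix.blockDiagonal'_apply_eq, Matrix.blockDiagonal'_apply_eq]
      simp only [B]
      by_cases h1 : π l = l
      · rw [if_pos h1, if_pos (by rw [h1, h1]), cast_entry E (hπd l)]
        have := congrFun (congrFun (hE _ (hπo l h1)).2.1 b) (Fin.cast (hπd l) a)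
        rw [Matrix.transpose_apply] at this
        rw [this]
      · have h1' : ¬ π (π l) = π l := by rw [hπ]; exact Ne.symm h1
        rw [if_neg h1, if_neg h1', hπ]
        rcases lt_or_gt_of_ne h1 with h2 | h2
        · rw [if_neg (by omega), if_pos h2]
          simp only [Matrix.transpose_apply]
          exact (cast_entry S (hπd l) a b).symm
        · rw [if_pos h2, if_neg (by omega)]
          simp only [Matrix.transpose_apply]
          exact cast_entry S (hπd l).symm b a
    · have h' : l ≠ π k := fun e => h (by rw [e, hπ])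
      rw [Matrix.blockDiagonal'_apply_ne _ _ _ h, Matrix.blockDiagonal'_apply_ne _ _ _ h']
  · rw [Matrix.mul_assoc, hmul]
    calc Jᵀ * (D * J).submatrix id ρ = (Jᵀ * (D * J)).submatrix id ρ := by
          ext; simp [Matrix.mul_apply]
      _ = D.submatrix id ρ := by rw [← Matrix.mul_assoc, hJD]

variable {κ : Type} [Fintype κ] [DecidableEq κ]

/-- The quadratic form of a matrix. -/
noncomputable def qf (A : Matrix κ κ F) : QuadraticForm F (κ → F) :=
  LinearMap.BilinMap.toQuadraticMap (Matrix.toLinearMap₂' F A : (κ → F) →ₗ[F] (κ → F) →ₗ[F] F)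

theorem qf_apply (A : Matrix κ κ F) (v : κ → F) : qf A v = v ⬝ᵥ (A *ᵥ v) := by
  rw [qf, LinearMap.BilinMap.toQuadraticMap_apply, Matrix.toLinearMap₂'_apply']

theorem qf_polarBilin (A : Matrix κ κ F) :
    QuadraticMap.polarBilin (qf A) = Matrix.toLinearMap₂' F (A + Aᵀ) := by
  refine LinearMap.ext fun u => LinearMap.ext fun v => ?_
  rw [QuadraticMap.polarBilin_apply_apply, QuadraticMap.polar, qf_apply, qf_apply, qf_apply,
    Matrix.toLinearMap₂'_apply', Matrix.mulVec_add, add_dotProduct, dotProduct_add, dotProduct_add,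
    Matrix.add_mulVec, dotProduct_add, show u ⬝ᵥ (Aᵀ *ᵥ v) = v ⬝ᵥ (A *ᵥ u) by
      rw [Matrix.mulVec_transpose, dotProduct_comm, ← Matrix.dotProduct_mulVec]]
  ring

theorem isometric_of_alt {A M T : Matrix κ κ F} (hT : Mᵀ * A * M = A + T) (hs : ∀ x y, T y x = -T x y)
    (h0 : ∀ x, T x x = 0) (v : κ → F) : qf A (M *ᵥ v) = qf A v := by
  have h : (M *ᵥ v) ⬝ᵥ (A *ᵥ (M *ᵥ v)) = v ⬝ᵥ ((Mᵀ * A * M) *ᵥ v) := by
    rw [← Matrix.mulVec_mulVec, ← Matrix.mulVec_mulVec, Matrix.dotProduct_mulVec v Mᵀ, Matrix.vecMul_transpose]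
  rw [qf_apply, qf_apply, h, hT, Matrix.add_mulVec, dotProduct_add, alt_self hs h0 v, add_zero]

/-- The matrix of the polar form of an isometric pair. -/
theorem polar_data {n : ℕ} (Q : QuadraticForm F (Fin n → F)) (hQ : (QuadraticMap.polarBilin Q).Nondegenerate)
    (e : I ≃ Fin n) (A : ↥(Cfsg.isometryGroup F ⇑Q))
    (hc : IsConj (Matrix.reindex e e (Cfsg.jordanTypeMatrix d F))
      ((A : Matrix.GeneralLinearGroup (Fin n) F) : Matrix (Fin n) (Fin n) F)) :
    ∃ Ω : Matrix I I F, IsUnit Ω ∧ Ωᵀ = Ω ∧ ((2 : F) = 0 → ∀ x, Ω x x = 0) ∧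
      (Cfsg.jordanTypeMatrix d F)ᵀ * Ω * Cfsg.jordanTypeMatrix d F = Ω := by
  obtain ⟨c, hc⟩ := hc
  set A' := ((A : Matrix.GeneralLinearGroup (Fin n) F) : Matrix (Fin n) (Fin n) F)
  set X0 := LinearMap.toMatrix₂' F (QuadraticMap.polarBilin Q) with hX0
  have hpol : ∀ u v : Fin n → F, u ⬝ᵥ (X0 *ᵥ v) = QuadraticMap.polar Q u v := fun u v => by
    rw [← Matrix.toLinearMap₂'_apply', hX0, Matrix.toLinearMap₂'_toMatrix',
      QuadraticMap.polarBilin_apply_apply]
  have hA : ∀ v, Q (A' *ᵥ v) = Q v := fun v => A.2 v v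
  have hentry : ∀ (Y : Matrix (Fin n) (Fin n) F) i j, (Yᵀ * X0 * Y) i j =
      QuadraticMap.polar Q (fun k => Y k i) (fun k => Y k j) := fun Y i j => by
    rw [← hpol, Matrix.mul_assoc]
    rfl
  have hAX : A'ᵀ * X0 * A' = X0 := by
    ext i j
    have h1 : ∀ k, (fun r => A' r k) = A' *ᵥ Pi.single k 1 := fun k => by
      rw [Matrix.mulVec_single_one]
      rfl
    rw [hentry, h1, h1, QuadraticMap.polar, ← Matrix.mulVec_add, hA, hA, hA, hX0,
      LinearMap.toMatrix₂'_apply, QuadraticMap.polarBilin_apply_apply]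
    rfl
  set X := (c : Matrix (Fin n) (Fin n) F)ᵀ * X0 * c with hX
  set J := Cfsg.jordanTypeMatrix d F
  have hc' : (c : Matrix (Fin n) (Fin n) F) * J.submatrix e.symm e.symm = A' * c := hc
  have hX3 : (J.submatrix e.symm e.symm)ᵀ * X * J.submatrix e.symm e.symm = X := by
    calc (J.submatrix e.symm e.symm)ᵀ * X * J.submatrix e.symm e.symm
        = ((c : Matrix (Fin n) (Fin n) F) * J.submatrix e.symm e.symm)ᵀ * X0 *
            ((c : Matrix (Fin n) (Fin n) F) * J.submatrix e.symm e.symm) := by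
          simp only [hX, Matrix.transpose_mul, Matrix.mul_assoc]
      _ = (c : Matrix (Fin n) (Fin n) F)ᵀ * (A'ᵀ * X0 * A') * c := by
          rw [hc']
          simp only [Matrix.transpose_mul, Matrix.mul_assoc]
      _ = X := by rw [hAX]
  refine ⟨X.submatrix e e, ?_, ?_, fun h2 x => ?_, ?_⟩
  · rw [Matrix.isUnit_iff_isUnit_det, Matrix.det_submatrix_equiv_self, hX, Matrix.det_mul, Matrix.det_mul,
      Matrix.det_transpose]
    have h0 : X0.det ≠ 0 := by
      rw [← LinearMap.nondegenerate_toLinearMap₂'_iff_det_ne_zero, hX0, Matrix.toLinearMap₂'_toMatrix']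
      exact hQ
    exact (((Matrix.isUnit_iff_isUnit_det _).1 c.isUnit).mul h0.isUnit).mul
      ((Matrix.isUnit_iff_isUnit_det _).1 c.isUnit)
  · ext x y
    rw [Matrix.transpose_apply, Matrix.submatrix_apply, Matrix.submatrix_apply, hX, hentry, hentry]
    exact QuadraticMap.polar_comm _ _ _
  · rw [Matrix.submatrix_apply, hX, hentry, QuadraticMap.polar_self, two_nsmul, ← two_mul, h2, zero_mul]
  · have h := congrArg (fun Y => Matrix.submatrix Y e e) hX3
    simp only [← Matrix.submatrix_mul_equiv _ _ _ e, Matrix.transpose_submatrix, Matrix.submatrix_submatrix,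
      Equiv.symm_comp_self, Matrix.submatrix_id_id] at h
    exact h

/-- A matrix form with alternating defect gives an orthogonal group containing the type. -/
theorem occurs_of_matrix {n : ℕ} (e : I ≃ Fin n) (A T : Matrix I I F) (hu : IsUnit (A + Aᵀ))
    (hT : (Cfsg.jordanTypeMatrix d F)ᵀ * A * Cfsg.jordanTypeMatrix d F = A + T) (hs : ∀ x y, T y x = -T x y)
    (h0 : ∀ x, T x x = 0) :
    ∃ Q : QuadraticForm F (Fin n → F), (QuadraticMap.polarBilin Q).Nondegenerate ∧
      ∃ e : I ≃ Fin n, ∃ B : ↥(Cfsg.isometryGroup F ⇑Q), IsConj (Matrix.reindex e e (Cfsg.jordanTypeMatrix d F))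
        ((B : Matrix.GeneralLinearGroup (Fin n) F) : Matrix (Fin n) (Fin n) F) := by
  set J := Cfsg.jordanTypeMatrix d F with hJ
  set M := J.submatrix e.symm e.symm with hM
  have hJu : IsUnit J := by
    rw [hJ, jordan_eq, Matrix.isUnit_iff_isUnit_det]
    have : IsUnit (1 + nilM F d) := by
      rw [← jordan_eq, Cfsg.jordanTypeMatrix]
      refine IsUnit.of_mul_eq_one (b := Matrix.blockDiagonal' fun k => (Cfsg.jordanBlock (d k) F)⁻¹) ?_
      rw [← Matrix.blockDiagonal'_mul, show (fun k => Cfsg.jordanBlock (d k) F * (Cfsg.jordanBlock (d k) F)⁻¹) =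
          fun k => (1 : Matrix (Fin (d k)) (Fin (d k)) F) from funext fun k => ?_]
      · exact Matrix.blockDiagonal'_one
      refine Matrix.mul_nonsing_inv _ ((Matrix.isUnit_iff_isUnit_det _).1 ?_)
      rw [jordanBlock_eq]
      rcases Nat.eq_zero_or_pos (d k) with hk | hk
      · have : IsEmpty (Fin (d k)) := by rw [hk]; infer_instance
        exact isUnit_of_subsingleton _
      · exact IsNilpotent.isUnit_one_add ⟨d k, (isCyc_Nb hk).nil⟩
    exact (Matrix.isUnit_iff_isUnit_det _).1 this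
  have hMu : IsUnit M := by
    rw [hM, Matrix.isUnit_iff_isUnit_det, Matrix.det_submatrix_equiv_self]
    exact (Matrix.isUnit_iff_isUnit_det _).1 hJu
  set A2 := A.submatrix e.symm e.symm with hA2
  refine ⟨qf A2, ?_, e, ⟨hMu.unit, fun v _ => ?_⟩, IsConj.refl _⟩
  · rw [qf_polarBilin, LinearMap.nondegenerate_toLinearMap₂'_iff_det_ne_zero, hA2, Matrix.transpose_submatrix]
    show ((A + Aᵀ).submatrix e.symm e.symm).det ≠ 0
    rw [Matrix.det_submatrix_equiv_self]
    exact ((Matrix.isUnit_iff_isUnit_det _).1 hu).ne_zero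
  · show qf A2 (M *ᵥ v) = qf A2 v
    refine isometric_of_alt (T := T.submatrix e.symm e.symm) ?_ (fun x y => hs _ _) (fun x => h0 _) v
    rw [hM, hA2, Matrix.transpose_submatrix, Matrix.submatrix_mul_equiv, Matrix.submatrix_mul_equiv, hT]
    rfl

/-- The Jordan types of the orthogonal groups in odd characteristic. -/
theorem occurs_iff_odd (h2 : (2 : F) ≠ 0) {n : ℕ} (hd : ∀ k, 1 ≤ d k) (hsum : ∑ k, d k = n) :
    (∃ Q : QuadraticForm F (Fin n → F), (QuadraticMap.polarBilin Q).Nondegenerate ∧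
      ∃ e : I ≃ Fin n, ∃ A : ↥(Cfsg.isometryGroup F ⇑Q), IsConj (Matrix.reindex e e (Cfsg.jordanTypeMatrix d F))
        ((A : Matrix.GeneralLinearGroup (Fin n) F) : Matrix (Fin n) (Fin n) F)) ↔
      ∀ j : ℕ, Even j → 0 < j → Even (Finset.univ.filter (fun k : Fin t => d k = j)).card := by
  constructor
  · rintro ⟨Q, hQ, e, A, hA⟩ j hj hj0
    obtain ⟨Ω, hu, hs, -, hi⟩ := polar_data d Q hQ e A hA
    refine even_of_form_gen d (ε := (1 : F)) (one_mul 1) hu (by rw [hs, one_smul]) hi j hj0 ?_ (Or.inl h2)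
    rw [one_mul, Odd.neg_one_pow]
    obtain ⟨i, hi'⟩ := hj
    exact ⟨i - 1, by omega⟩
  · intro hev
    obtain ⟨Ω, hu, hs, hi⟩ := exists_sym_form d h2 hd hev
    refine occurs_of_matrix d (Fintype.equivOfCardEq (by simp [hsum])) Ω 0 ?_ (by rw [hi, add_zero])
      (fun _ _ => by simp) fun _ => rfl
    rw [hs, ← two_smul F Ω, Matrix.isUnit_iff_isUnit_det, Matrix.det_smul]
    exact ((pow_ne_zero _ h2).isUnit).mul ((Matrix.isUnit_iff_isUnit_det _).1 hu)

/-- The Jordan types of the orthogonal groups in characteristic two. -/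
theorem occurs_iff_two (h2 : (2 : F) = 0) {n : ℕ} (hd : ∀ k, 1 ≤ d k) (hsum : ∑ k, d k = n) :
    (∃ Q : QuadraticForm F (Fin n → F), (QuadraticMap.polarBilin Q).Nondegenerate ∧
      ∃ e : I ≃ Fin n, ∃ A : ↥(Cfsg.isometryGroup F ⇑Q), IsConj (Matrix.reindex e e (Cfsg.jordanTypeMatrix d F))
        ((A : Matrix.GeneralLinearGroup (Fin n) F) : Matrix (Fin n) (Fin n) F)) ↔
      ∀ j : ℕ, Odd j → Even (Finset.univ.filter (fun k : Fin t => d k = j)).card := by
  have hneg : ∀ x : F, -x = x := fun x => by linear_combination (-x) * h2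
  constructor
  · rintro ⟨Q, hQ, e, A, hA⟩ j hj
    obtain ⟨Ω, hu, hs, h0, hi⟩ := polar_data d Q hQ e A hA
    refine even_of_form d hu ?_ (h0 h2) hi j hj
    ext x y
    rw [hs, Matrix.neg_apply, hneg]
  · intro hev
    classical
    obtain ⟨Ω, hu, hskew, hdiag, hi⟩ := exists_form (F := F) d hd hev
    set J := Cfsg.jordanTypeMatrix d F with hJ
    let σ := Fintype.equivFin I
    let A0 : Matrix I I F := Matrix.of fun x y => if σ x < σ y then Ω x y else 0
    have hA0 : A0 + A0ᵀ = Ω := by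
      ext x y
      simp only [A0, Matrix.add_apply, Matrix.transpose_apply, Matrix.of_apply]
      rcases lt_trichotomy (σ x) (σ y) with h | h | h
      · rw [if_pos h, if_neg h.not_gt, add_zero]
      · obtain rfl := σ.injective h
        simp [hdiag]
      · rw [if_neg h.not_gt, if_pos h, zero_add]
        have := congrFun (congrFun hskew x) y
        rw [Matrix.transpose_apply, Matrix.neg_apply, hneg] at this
        exact this
    set T0 := Jᵀ * A0 * J - A0 with hT0
    let b : I → F := fun x => if h : 0 < x.2.val then T0 ⟨x.1, ⟨x.2.val - 1, by omega⟩⟩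
      ⟨x.1, ⟨x.2.val - 1, by omega⟩⟩ else 0
    set A := A0 + Matrix.diagonal b with hA
    set T := Jᵀ * A * J - A with hT
    have hAΩ : A + Aᵀ = Ω := by
      rw [hA, Matrix.transpose_add, Matrix.diagonal_transpose, ← hA0]
      ext x y
      simp only [Matrix.add_apply]
      linear_combination (Matrix.diagonal b x y) * h2
    have hexp : ∀ (Y : Matrix I I F) (x : I), (Jᵀ * Y * J) x x - Y x x =
        (Yᵀ * nilM F d) x x + (Y * nilM F d) x x + ((Y * nilM F d)ᵀ * nilM F d) x x := by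
      intro Y x
      have e : Jᵀ * Y * J = Y + (Yᵀ * nilM F d)ᵀ + Y * nilM F d + ((Y * nilM F d)ᵀ * nilM F d)ᵀ := by
        rw [hJ, jordan_eq]
        simp only [Matrix.transpose_add, Matrix.transpose_one, Matrix.transpose_mul, Matrix.transpose_transpose,
          add_mul, mul_add, one_mul, mul_one, Matrix.mul_assoc]
        abel
      rw [e]
      simp only [Matrix.add_apply, Matrix.transpose_apply]
      ring
    have hdiag' : ∀ x, T x x = 0 := by
      intro x
      have hD : T x x = T0 x x + ((Jᵀ * Matrix.diagonal b * J) x x - Matrix.diagonal b x x) := by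
        rw [hT, hT0, hA]
        simp only [Matrix.mul_add, Matrix.add_mul, Matrix.sub_apply, Matrix.add_apply]
        ring
      have h0 : T0 x x = (A0ᵀ * nilM F d) x x + (A0 * nilM F d) x x + ((A0 * nilM F d)ᵀ * nilM F d) x x := by
        rw [hT0, Matrix.sub_apply, hexp]
      rw [hD, hexp, Matrix.diagonal_transpose]
      simp only [JordanCent.mul_nilM_apply, Matrix.transpose_apply]
      by_cases h : x.2.val + 1 < d x.1
      · have hne : x ≠ (⟨x.1, ⟨x.2.val + 1, h⟩⟩ : I) := fun e => by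
          have := congrArg (fun y : I => y.2.val) e
          simp at this
        simp only [dif_pos h, Matrix.diagonal_apply_ne _ hne, Matrix.diagonal_apply_eq, zero_add]
        simp only [b, Nat.succ_pos', dite_true, Nat.add_sub_cancel]
        linear_combination (T0 x x) * h2
      · rw [h0]
        simp only [JordanCent.mul_nilM_apply, dif_neg h, add_zero]
    refine occurs_of_matrix d (Fintype.equivOfCardEq (by simp [hsum])) A T ?_ (by rw [hT, add_sub_cancel]) ?_ hdiag'
    · rw [hAΩ]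
      exact hu
    · intro x y
      have h : T + Tᵀ = 0 := by
        have : Tᵀ = Jᵀ * Aᵀ * J - Aᵀ := by
          rw [hT]
          simp only [Matrix.transpose_sub, Matrix.transpose_mul, Matrix.transpose_transpose, Matrix.mul_assoc]
        rw [this, hT, sub_add_sub_comm, ← Matrix.add_mul, ← Matrix.mul_add, hAΩ, hi, sub_self]
      have h' := congrFun (congrFun h x) y
      rw [Matrix.add_apply, Matrix.transpose_apply, Matrix.zero_apply] at h'
      linear_combination h'

end Cfsg.Agent.Small.OrthJordan
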