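import Cfsg.Agent.Lib.Small.JordanCentralizer
import Cfsg.Agent.Lib.Small.SpRegular.Exists
import Cfsg.Agent.Lib.Classical.LinBasic
import Cfsg.Agent.Lib.Classical.SymplecticCount

/-!
The Jordan types of the unipotent elements of the symplectic groups.
-/

set_option autoImplicit false
set_option linter.unusedSectionVars false

namespace Cfsg.Agent.Small.SpJordan

open Matrix
open Cfsg.Agent.Small.SpRegular (IsCyc)
open Cfsg.Agent.Small.JordanCent (nilM jordan_eq)

variable {F : Type*} [Field F]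

theorem alt_self {κ : Type} [Fintype κ] [DecidableEq κ] {J : Matrix κ κ F}
    (hJ : ∀ x y, J y x = -J x y) (hd : ∀ x, J x x = 0) (w : κ → F) : w ⬝ᵥ (J *ᵥ w) = 0 := by
  simp only [dotProduct, Matrix.mulVec, Finset.mul_sum]
  rw [← Fintype.sum_prod_type']
  refine Finset.sum_ninvolution Prod.swap (fun x => ?_) (fun x hx e' => hx ?_) (fun x => Finset.mem_univ _) Prod.swap_swap
  · simp only [Prod.fst_swap, Prod.snd_swap]
    rw [hJ x.1 x.2]
    ring
  · have : x.2 = x.1 := congrArg Prod.fst e'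
    rw [this, hd]
    ring

/-- The nilpotent part of one block. -/
def Nb (n : ℕ) (F : Type*) [Field F] : Matrix (Fin n) (Fin n) F :=
  Matrix.of fun i j => if (i : ℕ) = (j : ℕ) + 1 then 1 else 0

theorem jordanBlock_eq (n : ℕ) : Cfsg.jordanBlock n F = 1 + Nb n F := by
  ext i j
  rw [Cfsg.jordanBlock, Matrix.of_apply, Matrix.add_apply, Nb, Matrix.of_apply]
  by_cases h : (i : ℕ) = j
  · obtain rfl : i = j := Fin.ext h
    simp
  · have : i ≠ j := fun hh => h (congrArg Fin.val hh)
    simp [h, this]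

theorem Nb_pow (n k : ℕ) (i j : Fin n) : (Nb n F ^ k) i j = if (i : ℕ) = (j : ℕ) + k then 1 else 0 := by
  induction k generalizing i j with
  | zero => simp [Matrix.one_apply, Fin.ext_iff]
  | succ k ih =>
    rw [pow_succ, Matrix.mul_apply]
    simp only [ih]
    simp only [Nb, Matrix.of_apply, mul_ite, mul_one, mul_zero]
    by_cases h : (j : ℕ) + 1 < n
    · rw [Finset.sum_eq_single (⟨(j : ℕ) + 1, h⟩ : Fin n)]
      · simp [Nat.add_assoc, Nat.add_comm 1 k]
      · intro x _ hx
        rw [if_neg]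
        exact fun hh => hx (Fin.ext hh)
      · simp
    · rw [if_neg (by have := i.isLt; omega)]
      refine Finset.sum_eq_zero fun x _ => ?_
      rw [if_neg (by have := x.isLt; omega)]

theorem isCyc_Nb {n : ℕ} (hn : 1 ≤ n) : IsCyc n (Nb n F) := by
  refine ⟨Fintype.card_fin n, hn, ?_, ?_⟩
  · ext i j
    rw [Nb_pow, if_neg (by have := i.isLt; omega), Matrix.zero_apply]
  · intro h
    have := congrFun (congrFun h ⟨n - 1, by omega⟩) ⟨0, hn⟩
    rw [Nb_pow, if_pos (show n - 1 = 0 + (n - 1) by omega)] at this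
    exact one_ne_zero this

/-- An invertible form invariant under one block. -/
theorem exists_inv {n : ℕ} (hn : 1 ≤ n) :
    ∃ S : Matrix (Fin n) (Fin n) F, IsUnit S ∧ (Cfsg.jordanBlock n F)ᵀ * S * Cfsg.jordanBlock n F = S := by
  have hN := isCyc_Nb (F := F) hn
  obtain ⟨u, hu⟩ : IsUnit (1 + (Nb n F)ᵀ) := IsNilpotent.isUnit_one_add ⟨n, by
    rw [← Matrix.transpose_pow, hN.nil, Matrix.transpose_zero]⟩
  have hcomm : Commute (-(↑u⁻¹ : Matrix (Fin n) (Fin n) F)) (Nb n F)ᵀ := by
    refine (Commute.units_inv_left ?_).neg_left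
    rw [hu]
    exact (Commute.one_left _).add_left (Commute.refl _)
  have hT : IsCyc n (-(↑u⁻¹ : Matrix (Fin n) (Fin n) F) * (Nb n F)ᵀ) := by
    refine ⟨hN.card, hn, ?_, fun h => hN.top ?_⟩
    · rw [hcomm.mul_pow, ← Matrix.transpose_pow, hN.nil, Matrix.transpose_zero, mul_zero]
    · rw [hcomm.mul_pow] at h
      have := congrArg Matrix.transpose (((u⁻¹).isUnit.neg.pow (n - 1)).mul_right_eq_zero.1 h)
      rwa [← Matrix.transpose_pow, Matrix.transpose_transpose, Matrix.transpose_zero] at this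
  obtain ⟨x, hx⟩ := SpRegular.exists_conj hN hT
  refine ⟨x.1, x.isUnit, ?_⟩
  have h1 : (u : Matrix (Fin n) (Fin n) F) * (x.1 * Nb n F) = -((Nb n F)ᵀ * x.1) := by
    rw [hx, ← Matrix.mul_assoc, ← Matrix.mul_assoc, Matrix.mul_neg, u.mul_inv]
    simp
  rw [hu] at h1
  rw [jordanBlock_eq, Matrix.transpose_add, Matrix.transpose_one]
  rw [add_mul, one_mul] at h1
  simp only [add_mul, mul_add, one_mul, mul_one, Matrix.mul_assoc]
  linear_combination (norm := abel) h1

/-- An invertible alternating form invariant under one block of even size. -/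
theorem exists_alt_inv {n : ℕ} (hn : 1 ≤ n) (he : Even n) :
    ∃ E : Matrix (Fin n) (Fin n) F, IsUnit E ∧ Eᵀ = -E ∧ (∀ i, E i i = 0) ∧
      (Cfsg.jordanBlock n F)ᵀ * E * Cfsg.jordanBlock n F = E := by
  obtain ⟨e, rfl⟩ := he
  obtain ⟨u, hu⟩ := SpRegular.exists_reg (F := F) e (by omega)
  let σ : Fin e ⊕ Fin e ≃ Fin (e + e) := finSumFinEquiv
  set M : Matrix (Fin (e + e)) (Fin (e + e)) F := (u : Matrix (Fin e ⊕ Fin e) (Fin e ⊕ Fin e) F).submatrix σ.symm σ.symm
    with hM
  set J' : Matrix (Fin (e + e)) (Fin (e + e)) F := (Matrix.J (Fin e) F).submatrix σ.symm σ.symm with hJ'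
  have hMJ : Mᵀ * J' * M = J' := by
    rw [hM, hJ', Matrix.transpose_submatrix, Matrix.submatrix_mul_equiv, Matrix.submatrix_mul_equiv,
      SymplecticGroup.mem_iff'.1 u.2]
  have hskew : J'ᵀ = -J' := by
    rw [hJ', Matrix.transpose_submatrix, Matrix.J_transpose]
    rfl
  have hdiag : ∀ i, J' i i = 0 := fun i => by
    rw [hJ', Matrix.submatrix_apply]
    rcases σ.symm i with j | j <;> simp [Matrix.J]
  have hc : IsCyc (e + e) (M - 1) := by
    have h0 : ∀ k, (M - 1) ^ k =
        (((u : Matrix (Fin e ⊕ Fin e) (Fin e ⊕ Fin e) F) - 1) ^ k).submatrix σ.symm σ.symm := fun k => by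
      induction k with
      | zero => rw [pow_zero, pow_zero, Matrix.submatrix_one_equiv]
      | succ k ih =>
        rw [pow_succ, pow_succ, ih, ← Matrix.submatrix_mul_equiv _ _ _ σ.symm, Matrix.submatrix_sub]
        simp [hM, Matrix.submatrix_one_equiv]
    have h2 : IsCyc (2 * e) ((u : Matrix (Fin e ⊕ Fin e) (Fin e ⊕ Fin e) F) - 1) := hu
    rw [two_mul] at h2
    refine ⟨Fintype.card_fin _, hn, ?_, fun h => h2.top ?_⟩
    · rw [h0, h2.nil, Matrix.submatrix_zero]
      rfl
    · rw [h0] at h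
      ext i j
      simpa using congrFun (congrFun h (σ i)) (σ j)
  obtain ⟨x, hx⟩ := SpRegular.exists_conj (isCyc_Nb (F := F) hn) hc
  have hxJ : x.1 * Cfsg.jordanBlock (e + e) F = M * x.1 := by
    rw [jordanBlock_eq, mul_add, mul_one, hx, sub_mul, one_mul]
    abel
  refine ⟨x.1ᵀ * J' * x.1, ?_, ?_, fun i => ?_, ?_⟩
  · rw [Matrix.isUnit_iff_isUnit_det, Matrix.det_mul, Matrix.det_mul, Matrix.det_transpose]
    refine IsUnit.mul (IsUnit.mul ?_ ?_) ?_
    · exact (Matrix.isUnit_iff_isUnit_det _).1 x.isUnit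
    · rw [hJ', Matrix.det_submatrix_equiv_self]
      exact Matrix.isUnit_det_J _ _
    · exact (Matrix.isUnit_iff_isUnit_det _).1 x.isUnit
  · rw [Matrix.transpose_mul, Matrix.transpose_mul, Matrix.transpose_transpose, hskew, Matrix.neg_mul,
      Matrix.mul_neg, Matrix.mul_assoc]
  · have h := alt_self (fun a b => congrFun (congrFun hskew a) b) hdiag (fun k => x.1 k i)
    rw [← h, Matrix.mul_assoc]
    rfl
  · calc (Cfsg.jordanBlock (e + e) F)ᵀ * (x.1ᵀ * J' * x.1) * Cfsg.jordanBlock (e + e) F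
        = (x.1 * Cfsg.jordanBlock (e + e) F)ᵀ * J' * (x.1 * Cfsg.jordanBlock (e + e) F) := by
          simp only [Matrix.transpose_mul, Matrix.mul_assoc]
      _ = x.1ᵀ * (Mᵀ * J' * M) * x.1 := by
          rw [hxJ]
          simp only [Matrix.transpose_mul, Matrix.mul_assoc]
      _ = _ := by rw [hMJ]

variable {t : ℕ} (d : Fin t → ℕ)

local notation "I" => ((k : Fin t) × Fin (d k))

theorem sig_ext {k l : Fin t} {a : Fin (d k)} {b : Fin (d l)} (h : k = l) (hv : a.val = b.val) :
    (⟨k, a⟩ : I) = ⟨l, b⟩ := by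
  subst h
  rw [Fin.ext hv]

/-- An involution pairing the blocks of odd size. -/
theorem exists_pairing (hev : ∀ j : ℕ, Odd j → Even (Finset.univ.filter (fun k : Fin t => d k = j)).card) :
    ∃ π : Fin t → Fin t, (∀ k, d (π k) = d k) ∧ (∀ k, π (π k) = k) ∧ ∀ k, π k = k → Even (d k) := by
  classical
  have key : ∀ j, ∃ g : Fin t → Fin t, ∀ k, d k = j → d (g k) = j ∧ g (g k) = k ∧ (g k = k → Even j) := by
    intro j
    rcases Nat.even_or_odd j with hj | hj
    · exact ⟨id, fun k hk => ⟨hk, rfl, fun _ => hj⟩⟩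
    set s := Finset.univ.filter (fun k : Fin t => d k = j) with hs
    let σ : Fin s.card ≃ s := (s.orderIsoOfFin rfl).toEquiv
    refine ⟨fun k => if h : k ∈ s then (σ (σ.symm ⟨k, h⟩).rev : Fin t) else k, fun k hk => ?_⟩
    have hmem : k ∈ s := by simp [hs, hk]
    have hv : ∀ x : s, d (x : Fin t) = j := fun x => (Finset.mem_filter.1 x.2).2
    simp only [dif_pos hmem]
    refine ⟨hv _, ?_, fun h => ?_⟩
    · rw [dif_pos (σ _).2]
      simp
    · exfalso
      have h' : σ (σ.symm ⟨k, hmem⟩).rev = ⟨k, hmem⟩ := Subtype.ext h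
      have h'' := congrArg Fin.val (σ.injective (h'.trans (σ.apply_symm_apply _).symm))
      rw [Fin.val_rev] at h''
      obtain ⟨r, hr⟩ : Even s.card := hev j hj
      have := (σ.symm ⟨k, hmem⟩).isLt
      omega
  choose g hg using key
  refine ⟨fun k => g (d k) k, fun k => (hg _ k rfl).1, fun k => ?_, fun k => (hg _ k rfl).2.2⟩
  show g (d (g (d k) k)) (g (d k) k) = k
  rw [(hg _ k rfl).1]
  exact (hg _ k rfl).2.1

theorem cast_entry (T : ∀ n, Matrix (Fin n) (Fin n) F) {n n' : ℕ} (h : n = n') (a : Fin n) (b : Fin n') :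
    T n a (Fin.cast h.symm b) = T n' (Fin.cast h a) b := by
  subst h
  rfl

/-- A unipotent matrix with the pairing condition leaves an invertible alternating form invariant. -/
theorem exists_form (hd : ∀ k, 1 ≤ d k)
    (hev : ∀ j : ℕ, Odd j → Even (Finset.univ.filter (fun k : Fin t => d k = j)).card) :
    ∃ Ω : Matrix I I F, IsUnit Ω ∧ Ωᵀ = -Ω ∧ (∀ x, Ω x x = 0) ∧
      (Cfsg.jordanTypeMatrix d F)ᵀ * Ω * Cfsg.jordanTypeMatrix d F = Ω := by
  classical
  obtain ⟨π, hπd, hπ, hπe⟩ := exists_pairing d hev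
  have hS : ∀ n, ∃ S : Matrix (Fin n) (Fin n) F, 1 ≤ n →
      IsUnit S ∧ (Cfsg.jordanBlock n F)ᵀ * S * Cfsg.jordanBlock n F = S := fun n => by
    rcases Nat.eq_zero_or_pos n with h | h
    · exact ⟨0, fun h1 => by omega⟩
    · obtain ⟨S, hS⟩ := exists_inv (F := F) h
      exact ⟨S, fun _ => hS⟩
  have hE : ∀ n, ∃ E : Matrix (Fin n) (Fin n) F, 1 ≤ n → Even n → IsUnit E ∧ Eᵀ = -E ∧ (∀ i, E i i = 0) ∧
      (Cfsg.jordanBlock n F)ᵀ * E * Cfsg.jordanBlock n F = E := fun n => by
    by_cases h : 1 ≤ n ∧ Even n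
    · obtain ⟨E, hE⟩ := exists_alt_inv (F := F) h.1 h.2
      exact ⟨E, fun _ _ => hE⟩
    · exact ⟨0, fun h1 h2 => absurd ⟨h1, h2⟩ h⟩
  choose S hS using hS
  choose E hE using hE
  let B : ∀ k, Matrix (Fin (d k)) (Fin (d k)) F := fun k =>
    if π k = k then E (d k) else if k < π k then S (d k) else -(S (d k))ᵀ
  have hB : ∀ k, IsUnit (B k) ∧ (Cfsg.jordanBlock (d k) F)ᵀ * B k * Cfsg.jordanBlock (d k) F = B k := by
    intro k
    obtain ⟨hu, hi⟩ := hS (d k) (hd k)
    simp only [B]
    split_ifs with h1 h2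
    · exact ⟨(hE _ (hd k) (hπe k h1)).1, (hE _ (hd k) (hπe k h1)).2.2.2⟩
    · exact ⟨hu, hi⟩
    · refine ⟨?_, ?_⟩
      · rw [IsUnit.neg_iff, Matrix.isUnit_iff_isUnit_det, Matrix.det_transpose, ← Matrix.isUnit_iff_isUnit_det]
        exact hu
      · have h := congrArg Matrix.transpose hi
        rw [Matrix.transpose_mul, Matrix.transpose_mul, Matrix.transpose_transpose, ← Matrix.mul_assoc] at h
        rw [Matrix.mul_neg, Matrix.neg_mul, h]
  let ρ : I ≃ I :=
    { toFun := fun x => ⟨π x.1, Fin.cast (hπd x.1).symm x.2⟩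
      invFun := fun x => ⟨π x.1, Fin.cast (hπd x.1).symm x.2⟩
      left_inv := fun x => sig_ext d (hπ x.1) rfl
      right_inv := fun x => sig_ext d (hπ x.1) rfl }
  set J := Cfsg.jordanTypeMatrix d F with hJ
  set D : Matrix I I F := Matrix.blockDiagonal' B with hD
  have hJρ : J.submatrix ρ ρ = J := by
    ext ⟨k, a⟩ ⟨l, b⟩
    rw [Matrix.submatrix_apply, hJ, jordan_eq]
    have hinj : π k = π l ↔ k = l := ⟨fun h => by simpa [hπ] using congrArg π h, fun h => by rw [h]⟩
    simp only [Matrix.add_apply, Matrix.one_apply, nilM, ρ.apply_eq_iff_eq]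
    simp only [ρ, Equiv.coe_fn_mk, Fin.val_cast, hinj]
  have hJD : Jᵀ * D * J = D := by
    rw [hJ, hD, Cfsg.jordanTypeMatrix, Matrix.blockDiagonal'_transpose, ← Matrix.blockDiagonal'_mul,
      ← Matrix.blockDiagonal'_mul]
    exact congrArg Matrix.blockDiagonal' (funext fun k => (hB k).2)
  have hmul : D.submatrix id ρ * J = (D * J).submatrix id ρ := by
    conv_lhs => rw [← hJρ]
    exact Matrix.submatrix_mul_equiv D J id ρ ρ
  refine ⟨D.submatrix id ρ, ?_, ?_, ?_, ?_⟩
  · have hC : D * Matrix.blockDiagonal' (fun k => (B k)⁻¹) = 1 := by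
      rw [hD, ← Matrix.blockDiagonal'_mul,
        show (fun k => B k * (B k)⁻¹) = fun k => (1 : Matrix (Fin (d k)) (Fin (d k)) F) from
          funext fun k => Matrix.mul_nonsing_inv _ ((Matrix.isUnit_iff_isUnit_det _).1 (hB k).1)]
      exact Matrix.blockDiagonal'_one
    refine IsUnit.of_mul_eq_one (b := (Matrix.blockDiagonal' fun k => (B k)⁻¹).submatrix ρ id) ?_
    rw [Matrix.submatrix_mul_equiv, hC, Matrix.submatrix_id_id]
  · ext ⟨k, a⟩ ⟨l, b⟩
    simp only [Matrix.transpose_apply, Matrix.neg_apply, Matrix.submatrix_apply, id, ρ, Equiv.coe_fn_mk, hD]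
    by_cases h : k = π l
    · subst h
      have e1 : (⟨π (π l), Fin.cast (hπd (π l)).symm a⟩ : I) = ⟨l, Fin.cast (hπd l) a⟩ :=
        sig_ext d (hπ l) rfl
      rw [e1, Matrix.blockDiagonal'_apply_eq, Matrix.blockDiagonal'_apply_eq]
      simp only [B]
      by_cases h1 : π l = l
      · rw [if_pos h1, if_pos (by rw [h1, h1]), cast_entry E (hπd l)]
        have := congrFun (congrFun (hE _ (hd l) (hπe l h1)).2.1 b) (Fin.cast (hπd l) a)
        rw [Matrix.transpose_apply, Matrix.neg_apply] at this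
        rw [this, neg_neg]
      · have h1' : ¬ π (π l) = π l := by rw [hπ]; exact Ne.symm h1
        rw [if_neg h1, if_neg h1', hπ]
        rcases lt_or_gt_of_ne h1 with h2 | h2
        · rw [if_neg (by omega), if_pos h2]
          simp only [Matrix.neg_apply, Matrix.transpose_apply]
          exact congrArg Neg.neg (cast_entry S (hπd l) a b).symm
        · rw [if_pos h2, if_neg (by omega)]
          simp only [Matrix.neg_apply, Matrix.transpose_apply, neg_neg]
          exact cast_entry S (hπd l).symm b a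
    · have h' : l ≠ π k := fun e => h (by rw [e, hπ])
      rw [Matrix.blockDiagonal'_apply_ne _ _ _ h, Matrix.blockDiagonal'_apply_ne _ _ _ h', neg_zero]
  · rintro ⟨k, a⟩
    simp only [Matrix.submatrix_apply, id, ρ, Equiv.coe_fn_mk, hD]
    by_cases h : π k = k
    · have e1 : (⟨π k, Fin.cast (hπd k).symm a⟩ : I) = ⟨k, a⟩ := sig_ext d h rfl
      rw [e1, Matrix.blockDiagonal'_apply_eq]
      simp only [B, if_pos h]
      exact (hE _ (hd k) (hπe k h)).2.2.1 a
    · rw [Matrix.blockDiagonal'_apply_ne _ _ _ (Ne.symm h)]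
  · rw [Matrix.mul_assoc, hmul]
    calc Jᵀ * (D * J).submatrix id ρ = (Jᵀ * (D * J)).submatrix id ρ := by
          ext; simp [Matrix.mul_apply]
      _ = D.submatrix id ρ := by rw [← Matrix.mul_assoc, hJD]

/-- Necessity: an invariant non-degenerate form of sign `ε` pairs the blocks of the sizes `j` of the
wrong parity. -/
theorem even_of_form_gen {Ω : Matrix I I F} {ε : F} (hε : ε * ε = 1) (hu : IsUnit Ω) (hskew : Ωᵀ = ε • Ω)
    (hinv : (Cfsg.jordanTypeMatrix d F)ᵀ * Ω * Cfsg.jordanTypeMatrix d F = Ω) (j : ℕ) (hj1 : 1 ≤ j)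
    (hpar : ε * (-1) ^ (j - 1) = -1) (hd0 : (2 : F) ≠ 0 ∨ (Odd j ∧ ∀ x, Ω x x = 0)) :
    Even (Finset.univ.filter (fun k : Fin t => d k = j)).card := by
  classical
  let φ : Fin t → Fin t → ℕ → ℕ → F := fun k l a b =>
    if h : a < d k ∧ b < d l then Ω ⟨k, a, h.1⟩ ⟨l, b, h.2⟩ else 0
  have hφ : ∀ (k l : Fin t) (a : Fin (d k)) (b : Fin (d l)), φ k l a b = Ω ⟨k, a⟩ ⟨l, b⟩ := fun k l a b =>
    dif_pos ⟨a.isLt, b.isLt⟩
  have hout : ∀ k l a b, ¬ (a < d k ∧ b < d l) → φ k l a b = 0 := fun k l a b h => dif_neg h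
  have hsw : ∀ k l a b, φ l k b a = ε * φ k l a b := by
    intro k l a b
    by_cases h : a < d k ∧ b < d l
    · have := congrFun (congrFun hskew ⟨k, a, h.1⟩) ⟨l, b, h.2⟩
      rw [Matrix.transpose_apply, Matrix.smul_apply, smul_eq_mul] at this
      rw [hφ l k ⟨b, h.2⟩ ⟨a, h.1⟩, hφ k l ⟨a, h.1⟩ ⟨b, h.2⟩, this]
    · rw [hout k l a b h, hout l k b a fun h' => h ⟨h'.2, h'.1⟩, mul_zero]
  have hright : ∀ (k l : Fin t) (a : Fin (d k)) (b : Fin (d l)),
      (Ω * nilM F d) ⟨k, a⟩ ⟨l, b⟩ = φ k l a (b + 1) := by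
    intro k l a b
    rw [JordanCent.mul_nilM_apply]
    split_ifs with h
    · rw [hφ k l a ⟨b + 1, h⟩]
    · rw [hout _ _ _ _ fun h' => h h'.2]
  have hstep : ∀ k l a b, φ k l (a + 1) b + φ k l a (b + 1) + φ k l (a + 1) (b + 1) = 0 := by
    intro k l a b
    by_cases h : a < d k ∧ b < d l
    swap
    · rw [hout k l _ _ fun h' => h ⟨by omega, h'.2⟩, hout k l _ _ fun h' => h ⟨h'.1, by omega⟩,
        hout k l _ _ fun h' => h ⟨by omega, by omega⟩, add_zero, add_zero]
    set x : I := ⟨k, a, h.1⟩ with hx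
    set y : I := ⟨l, b, h.2⟩ with hy
    have h0 := congrFun (congrFun hinv x) y
    have e : (Cfsg.jordanTypeMatrix d F)ᵀ * Ω * Cfsg.jordanTypeMatrix d F =
        Ω + (nilM F d)ᵀ * Ω + Ω * nilM F d + (nilM F d)ᵀ * (Ω * nilM F d) := by
      rw [jordan_eq, Matrix.transpose_add, Matrix.transpose_one]
      simp only [add_mul, mul_add, one_mul, mul_one, Matrix.mul_assoc]
      abel
    rw [e] at h0
    simp only [Matrix.add_apply] at h0
    have e1 : ((nilM F d)ᵀ * Ω) x y = φ k l (a + 1) b := by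
      have : (nilM F d)ᵀ * Ω = ε • (Ω * nilM F d)ᵀ := by
        rw [Matrix.transpose_mul, hskew, Matrix.mul_smul, smul_smul, hε, one_smul]
      rw [this, Matrix.smul_apply, Matrix.transpose_apply, hx, hy, hright, smul_eq_mul]
      rw [hsw k l (a + 1) b, ← mul_assoc, hε, one_mul]
    have e2 : (Ω * nilM F d) x y = φ k l a (b + 1) := hright k l ⟨a, h.1⟩ ⟨b, h.2⟩
    have e3 : ((nilM F d)ᵀ * (Ω * nilM F d)) x y = φ k l (a + 1) (b + 1) := by
      rw [show (nilM F d)ᵀ * (Ω * nilM F d) = ((Ω * nilM F d)ᵀ * nilM F d)ᵀ by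
        rw [Matrix.transpose_mul, Matrix.transpose_transpose]]
      rw [Matrix.transpose_apply, JordanCent.mul_nilM_apply]
      split_ifs with h'
      · exact hright k l ⟨a + 1, h'⟩ ⟨b, h.2⟩
      · rw [hout _ _ _ _ fun h'' => h' h''.1]
    rw [e1, e2, e3] at h0
    linear_combination h0
  have hzero : ∀ k l a b, d l ≤ a + b → φ k l a b = 0 := by
    intro k l a
    induction a with
    | zero => exact fun b hb => hout _ _ _ _ fun h' => by omega
    | succ a ih =>
      suffices ∀ n b, d l ≤ b + n → d l ≤ a + 1 + b → φ k l (a + 1) b = 0 from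
        fun b hb => this (d l) b (by omega) hb
      intro n
      induction n with
      | zero => exact fun b hb _ => hout _ _ _ _ fun h' => by omega
      | succ n ihn =>
        intro b hb hb'
        have := hstep k l a b
        rw [ih (b + 1) (by omega), ihn (b + 1) (by omega) (by omega), add_zero, add_zero] at this
        exact this
  have hzero' : ∀ k l a b, d k ≤ a + b → φ k l a b = 0 := fun k l a b h => by
    rw [hsw l k b a, hzero l k b a (by omega), mul_zero]
  have hanti : ∀ k l, d k = j → d l = j → ∀ a b, a + b + 1 = j → φ k l a b = (-1) ^ a * φ k l 0 (j - 1) := by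
    intro k l hk hl a
    induction a with
    | zero =>
      intro b hb
      rw [pow_zero, one_mul, show b = j - 1 by omega]
    | succ a ih =>
      intro b hb
      have := hstep k l a b
      rw [hzero k l (a + 1) (b + 1) (by omega), add_zero, ih (b + 1) (by omega)] at this
      rw [pow_succ]
      linear_combination this
  set s := Finset.univ.filter (fun k : Fin t => d k = j) with hs
  have hmem : ∀ k : s, d (k : Fin t) = j := fun k => (Finset.mem_filter.1 k.2).2
  let G : Matrix s s F := fun k l => φ k l 0 (j - 1)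
  have hGskew : ∀ k l, G l k = -G k l := fun k l => by
    show φ l k 0 (j - 1) = -φ k l 0 (j - 1)
    rw [hsw (k : Fin t) l (j - 1) 0, hanti k l (hmem k) (hmem l) (j - 1) 0 (by omega), ← mul_assoc, hpar,
      neg_one_mul]
  have hGdiag : ∀ k, G k k = 0 := fun k => by
    rcases hd0 with h2 | ⟨⟨i, hi⟩, hdiag⟩
    · have := hGskew k k
      exact (mul_eq_zero.1 (show (2 : F) * G k k = 0 by linear_combination this)).resolve_left h2
    show φ k k 0 (j - 1) = 0
    have h1 := hanti k k (hmem k) (hmem k) i i (by omega)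
    have hik : i < d (k : Fin t) := by have := hmem k; omega
    rw [hφ (k : Fin t) k ⟨i, hik⟩ ⟨i, hik⟩, hdiag] at h1
    rcases mul_eq_zero.1 h1.symm with h | h
    · exact absurd h (pow_ne_zero _ (neg_ne_zero.2 one_ne_zero))
    · exact h
  have hinj : Function.Injective G.mulVec := by
    refine (injective_iff_map_eq_zero G.mulVecLin).2 fun c hc => ?_
    replace hc : G *ᵥ c = 0 := hc
    let y : I → F := fun x => if h : x.1 ∈ s then (if x.2.val = j - 1 then c ⟨x.1, h⟩ else 0) else 0
    let K : Type := {x : I // x.2.val + j < d x.1}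
    let Em : Matrix I K F := fun x z => if x.1 = z.1.1 ∧ x.2.val = z.1.2.val + j then 1 else 0
    have hK0 : ∀ x : I, ¬ (x.2.val + j < d x.1) → ∀ z, (Ω * Em) x z = 0 := by
      rintro ⟨k, a⟩ h z
      rw [Matrix.mul_apply]
      refine Finset.sum_eq_zero ?_
      rintro ⟨l, b⟩ -
      simp only [Em]
      split_ifs with h'
      · rw [mul_one, ← hφ, hzero' k l a b (by dsimp only at h h'; omega)]
      · rw [mul_zero]
    have hEm : ∀ (z : K → F) (w : K), (Em *ᵥ z) ⟨w.1.1, w.1.2.val + j, w.2⟩ = z w := by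
      intro z w
      rw [Matrix.mulVec, dotProduct, Finset.sum_eq_single w]
      · simp [Em]
      · rintro ⟨⟨l, b⟩, hb⟩ _ hne
        simp only [Em]
        rw [if_neg, zero_mul]
        rintro ⟨h1, h2⟩
        refine hne (Subtype.ext (sig_ext d h1.symm ?_))
        exact Nat.add_right_cancel (show b.val + j = w.1.2.val + j from h2.symm)
      · simp
    let Q : Matrix K K F := (Ω * Em).submatrix Subtype.val id
    have hΩinj := Matrix.mulVec_injective_iff_isUnit.2 hu
    have hQ : IsUnit Q := by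
      refine Matrix.mulVec_injective_iff_isUnit.1 ((injective_iff_map_eq_zero Q.mulVecLin).2 fun z hz => ?_)
      replace hz : Q *ᵥ z = 0 := hz
      have h1 : Ω *ᵥ (Em *ᵥ z) = 0 := by
        rw [Matrix.mulVec_mulVec]
        funext x
        by_cases h : x.2.val + j < d x.1
        · exact congrFun hz ⟨x, h⟩
        · simp [Matrix.mulVec, dotProduct, hK0 x h]
      rw [← Matrix.mulVec_zero Ω] at h1
      funext w
      rw [← hEm z w, hΩinj h1]
      rfl
    have hw : ∀ x : I, ¬ (x.2.val + j < d x.1) → (Ω *ᵥ y) x = 0 := by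
      rintro ⟨k, a⟩ h
      dsimp only at h
      rw [Matrix.mulVec, dotProduct, Fintype.sum_sigma]
      have hterm : ∀ l, ∑ b : Fin (d l), Ω ⟨k, a⟩ ⟨l, b⟩ * y ⟨l, b⟩ =
          if hl : l ∈ s then φ k l a (j - 1) * c ⟨l, hl⟩ else 0 := by
        intro l
        simp only [y]
        split_ifs with hl
        · have hdl : d l = j := by simpa [hs] using hl
          rw [Finset.sum_eq_single (⟨j - 1, by omega⟩ : Fin (d l))]
          · rw [if_pos rfl, ← hφ]
          · intro b _ hb
            rw [if_neg fun e => hb (Fin.ext e), mul_zero]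
          · simp
        · simp
      rw [Finset.sum_congr rfl fun l _ => hterm l]
      by_cases hk : k ∈ s ∧ a.val = 0
      · have := congrFun hc ⟨k, hk.1⟩
        rw [Matrix.mulVec, dotProduct, Pi.zero_apply] at this
        refine Eq.trans ?_ this
        rw [← Finset.sum_subset (Finset.subset_univ s) (fun l _ hl => dif_neg hl), ← Finset.sum_coe_sort s]
        refine Finset.sum_congr rfl fun l _ => ?_
        rw [dif_pos l.2]
        show φ k l a (j - 1) * c l = φ k l 0 (j - 1) * c l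
        rw [hk.2]
      · refine Finset.sum_eq_zero fun l _ => ?_
        split_ifs with hl
        · have hdl : d l = j := by simpa [hs] using hl
          have h0 : φ k l a (j - 1) = 0 := by
            rcases Nat.eq_zero_or_pos a.val with ha | ha
            · rw [ha]
              refine hzero' k l _ _ ?_
              have : d k ≠ j := fun e => hk ⟨by simp [hs, e], ha⟩
              omega
            · exact hzero k l _ _ (by omega)
          rw [h0, zero_mul]
        · rfl
    obtain ⟨z, hz⟩ := Matrix.mulVec_surjective_iff_isUnit.2 hQ fun w => (Ω *ᵥ y) w.1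
    have h1 : Ω *ᵥ (Em *ᵥ z) = Ω *ᵥ y := by
      rw [Matrix.mulVec_mulVec]
      funext x
      by_cases h : x.2.val + j < d x.1
      · exact congrFun hz ⟨x, h⟩
      · rw [hw x h]
        simp [Matrix.mulVec, dotProduct, hK0 x h]
    have h2 := hΩinj h1
    funext l
    have hl : j - 1 < d (l : Fin t) := by have := hmem l; omega
    have h3 := congrFun h2 ⟨l, j - 1, hl⟩
    simp only [y] at h3
    simp only [dif_pos l.2, if_true] at h3
    rw [Pi.zero_apply, ← h3, Matrix.mulVec, dotProduct]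
    refine Finset.sum_eq_zero fun w _ => ?_
    simp only [Em]
    rw [if_neg fun h => by have := h.2; omega, zero_mul]
  have hdet : G.det ≠ 0 := ((Matrix.isUnit_iff_isUnit_det G).1 (Matrix.mulVec_injective_iff_isUnit.1 hinj)).ne_zero
  by_contra hcard
  refine hdet (Classical.det_eq_zero_of_alternating_of_odd ?_ G hGskew hGdiag)
  rw [Fintype.card_coe]
  exact Nat.not_even_iff_odd.1 hcard

/-- An invariant alternating non-degenerate form pairs the blocks of odd size. -/
theorem even_of_form {Ω : Matrix I I F} (hu : IsUnit Ω) (hskew : Ωᵀ = -Ω) (hdiag : ∀ x, Ω x x = 0)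
    (hinv : (Cfsg.jordanTypeMatrix d F)ᵀ * Ω * Cfsg.jordanTypeMatrix d F = Ω) (j : ℕ) (hj : Odd j) :
    Even (Finset.univ.filter (fun k : Fin t => d k = j)).card :=
  even_of_form_gen d (ε := (-1 : F)) (by ring) hu (by rw [hskew, neg_one_smul]) hinv j hj.pos
    (by rw [(show Even (j - 1) by obtain ⟨i, hi⟩ := hj; exact ⟨i, by omega⟩).neg_one_pow, mul_one])
    (Or.inr ⟨hj, hdiag⟩)

/-- The Jordan types which occur in the symplectic group. -/
theorem occurs_iff {m : ℕ} (hd : ∀ k, 1 ≤ d k) (hsum : ∑ k, d k = 2 * m) :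
    (∃ e : I ≃ (Fin m ⊕ Fin m), ∃ A : Matrix.symplecticGroup (Fin m) F,
      IsConj (Matrix.reindex e e (Cfsg.jordanTypeMatrix d F)) (A : Matrix (Fin m ⊕ Fin m) (Fin m ⊕ Fin m) F)) ↔
    ∀ j : ℕ, Odd j → Even (Finset.univ.filter (fun k : Fin t => d k = j)).card := by
  classical
  constructor
  · rintro ⟨e, A, c, hc⟩
    set J := Cfsg.jordanTypeMatrix d F
    set X := (c : Matrix (Fin m ⊕ Fin m) (Fin m ⊕ Fin m) F)ᵀ * Matrix.J (Fin m) F * c with hX
    have hX1 : Xᵀ = -X := by
      rw [hX, Matrix.transpose_mul, Matrix.transpose_mul, Matrix.transpose_transpose, Matrix.J_transpose,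
        Matrix.neg_mul, Matrix.mul_neg, Matrix.mul_assoc]
    have hX2 : ∀ i, X i i = 0 := fun i => by
      have h := alt_self (J := Matrix.J (Fin m) F) (fun a b => congrFun (congrFun (Matrix.J_transpose _ _) a) b)
        (fun a => by rcases a with a | a <;> simp [Matrix.J])
        (fun k => (c : Matrix (Fin m ⊕ Fin m) (Fin m ⊕ Fin m) F) k i)
      rw [← h, hX, Matrix.mul_assoc]
      rfl
    have hc' : (c : Matrix (Fin m ⊕ Fin m) (Fin m ⊕ Fin m) F) * J.submatrix e.symm e.symm = A * c := hc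
    have hX3 : (J.submatrix e.symm e.symm)ᵀ * X * J.submatrix e.symm e.symm = X := by
      calc (J.submatrix e.symm e.symm)ᵀ * X * J.submatrix e.symm e.symm
          = ((c : Matrix (Fin m ⊕ Fin m) (Fin m ⊕ Fin m) F) * J.submatrix e.symm e.symm)ᵀ *
              Matrix.J (Fin m) F * ((c : Matrix (Fin m ⊕ Fin m) (Fin m ⊕ Fin m) F) * J.submatrix e.symm e.symm) := by
            simp only [hX, Matrix.transpose_mul, Matrix.mul_assoc]
        _ = (c : Matrix (Fin m ⊕ Fin m) (Fin m ⊕ Fin m) F)ᵀ *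
              ((A : Matrix (Fin m ⊕ Fin m) (Fin m ⊕ Fin m) F)ᵀ * Matrix.J (Fin m) F * A) * c := by
            rw [hc']
            simp only [Matrix.transpose_mul, Matrix.mul_assoc]
        _ = X := by rw [SymplecticGroup.mem_iff'.1 A.2]
    refine even_of_form d (Ω := X.submatrix e e) ?_ ?_ (fun x => hX2 _) ?_
    · rw [Matrix.isUnit_iff_isUnit_det, Matrix.det_submatrix_equiv_self, hX, Matrix.det_mul, Matrix.det_mul,
        Matrix.det_transpose]
      exact (((Matrix.isUnit_iff_isUnit_det _).1 c.isUnit).mul (Matrix.isUnit_det_J _ _)).mul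
        ((Matrix.isUnit_iff_isUnit_det _).1 c.isUnit)
    · rw [Matrix.transpose_submatrix, hX1]
      rfl
    · have h := congrArg (fun Y => Matrix.submatrix Y e e) hX3
      simp only [← Matrix.submatrix_mul_equiv _ _ _ e, Matrix.transpose_submatrix, Matrix.submatrix_submatrix,
        Equiv.symm_comp_self, Matrix.submatrix_id_id] at h
      exact h
  · intro hev
    obtain ⟨Ω, hu, hskew, hdiag, hinv⟩ := exists_form (F := F) d hd hev
    set J := Cfsg.jordanTypeMatrix d F
    let e : I ≃ (Fin m ⊕ Fin m) := Fintype.equivOfCardEq (by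
      simp only [Fintype.card_sigma, Fintype.card_sum, Fintype.card_fin, hsum]
      omega)
    set M := J.submatrix e.symm e.symm
    set X := Ω.submatrix e.symm e.symm with hX
    have hMX : Mᵀ * X * M = X := by
      simp only [M, hX, Matrix.transpose_submatrix, Matrix.submatrix_mul_equiv, hinv]
    have hXs : ∀ a b, X b a = -X a b := fun a b => congrFun (congrFun hskew (e.symm a)) (e.symm b)
    have hXu : IsUnit X.det := by
      rw [hX, Matrix.det_submatrix_equiv_self]
      exact (Matrix.isUnit_iff_isUnit_det _).1 hu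
    let B2 : (Fin m ⊕ Fin m → F) →ₗ[F] (Fin m ⊕ Fin m → F) →ₗ[F] F := Matrix.toLinearMap₂' F X
    have hB : ∀ v w, B2 v w = v ⬝ᵥ (X *ᵥ w) := fun v w => Matrix.toLinearMap₂'_apply' X v w
    have hB2 : Classical.SpCount.IsAltND B2 := by
      refine ⟨fun v => ?_, fun v hv => ?_⟩
      · rw [hB]
        exact alt_self hXs (fun a => hdiag _) v
      · have h0 : v ᵥ* X = 0 := by
          funext b
          have := hv (Pi.single b 1)
          rw [hB, Matrix.dotProduct_mulVec, dotProduct_single, mul_one] at this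
          exact this
        have hiu : IsUnit X := (Matrix.isUnit_iff_isUnit_det X).2 hXu
        exact Matrix.vecMul_injective_iff_isUnit.2 hiu (h0.trans (Matrix.zero_vecMul X).symm)
    obtain ⟨f⟩ := Classical.SpCount.exists_fam m hB2 (by
      simp only [Module.finrank_pi, Fintype.card_sum, Fintype.card_fin]
      omega)
    let P : Matrix (Fin m ⊕ Fin m) (Fin m ⊕ Fin m) F := Matrix.of fun a b => f.1 b a
    have hP : Pᵀ * X * P = Matrix.J (Fin m) F := by
      ext a b
      rw [← f.2 a b, hB, Matrix.mul_assoc]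
      rfl
    have hPdet : IsUnit P.det := by
      have h := Matrix.isUnit_det_J (Fin m) F
      rw [← hP, Matrix.det_mul] at h
      exact (IsUnit.mul_iff.1 h).2
    have hPP : P * P⁻¹ = 1 := Matrix.mul_nonsing_inv _ hPdet
    have hPP' : P⁻¹ * P = 1 := Matrix.nonsing_inv_mul _ hPdet
    have hA : (P⁻¹ * M * P) ∈ Matrix.symplecticGroup (Fin m) F := by
      rw [SymplecticGroup.mem_iff']
      calc (P⁻¹ * M * P)ᵀ * Matrix.J (Fin m) F * (P⁻¹ * M * P)
          = (P * (P⁻¹ * M * P))ᵀ * X * (P * (P⁻¹ * M * P)) := by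
            rw [← hP]
            simp only [Matrix.transpose_mul, Matrix.mul_assoc]
        _ = (M * P)ᵀ * X * (M * P) := by
            rw [show P * (P⁻¹ * M * P) = M * P by rw [← Matrix.mul_assoc, ← Matrix.mul_assoc, hPP, Matrix.one_mul]]
        _ = Pᵀ * (Mᵀ * X * M) * P := by simp only [Matrix.transpose_mul, Matrix.mul_assoc]
        _ = Matrix.J (Fin m) F := by rw [hMX, hP]
    refine ⟨e, ⟨_, hA⟩, ⟨P⁻¹, P, hPP', hPP⟩, ?_⟩
    show P⁻¹ * M = P⁻¹ * M * P * P⁻¹
    rw [Matrix.mul_assoc, hPP, Matrix.mul_one]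

end Cfsg.Agent.Small.SpJordan
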