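import Cfsg.Agent.Lib.Small.NilpotentCommutant

/-!
# Commuting elements in `PSL_n(q)` and `PSU_m(q)`, one of order the characteristic
-/

set_option autoImplicit false
set_option linter.unusedSectionVars false

namespace Cfsg.Agent.Small.NilCommutant

open Matrix Cfsg.Agent.Classical Cfsg.Agent.Classical.UCount

/-- Transport of a pair of matrices to linear maps. -/
theorem exists_maps {F : Type*} [Field F] {p : ℕ} [Fact p.Prime] [CharP F p] {n : ℕ}
    {A B : Matrix (Fin n) (Fin n) F} (hn : 0 < n) {r i : ℕ} (hAB : Commute A B) (hA : A ≠ 1)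
    (hAi : A ^ p ^ i = 1) (hB : B ≠ 1) (hBr : B ^ r = 1) :
    ∃ N T : (Fin n → F) →ₗ[F] (Fin n → F), N ≠ 0 ∧ IsNilpotent N ∧ T ≠ 1 ∧ T ^ r = 1 ∧ Commute T N ∧
      (∀ v, T v = B *ᵥ v) ∧ (∀ v, v + N v = A *ᵥ v) := by
  haveI : Nonempty (Fin n) := ⟨⟨0, hn⟩⟩
  let e := Matrix.toLinAlgEquiv' (R := F) (n := Fin n)
  refine ⟨e (A - 1), e B, fun h => hA (sub_eq_zero.1 (e.injective (h.trans (map_zero e).symm))), ?_,
    fun h => hB (e.injective (h.trans (map_one e).symm)), by rw [← map_pow, hBr, map_one],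
    (hAB.symm.sub_right (Commute.one_right B)).map e, fun v => Matrix.toLinAlgEquiv'_apply B v, fun v => ?_⟩
  · refine ⟨p ^ i, ?_⟩
    rw [← map_pow, sub_pow_char_pow_of_commute (p := p) (x := A) (y := 1) (h := Commute.one_right A), hAi, one_pow, sub_self,
      map_zero]
  · rw [Matrix.toLinAlgEquiv'_apply, Matrix.sub_mulVec, Matrix.one_mulVec, add_sub_cancel]

section Linear

variable {F : Type*} [Field F] [Fintype F] {k : ℕ}

theorem card_SL_mul (hk : 0 < k) :
    Nat.card (Matrix.SpecialLinearGroup (Fin k) F) * (Fintype.card F - 1) =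
      ∏ i : Fin k, (Fintype.card F ^ k - Fintype.card F ^ (i : ℕ)) := by
  classical
  haveI : Nonempty (Fin k) := ⟨⟨0, hk⟩⟩
  rw [← Matrix.card_GL_field, ← Subgroup.card_mul_index (Matrix.GeneralLinearGroup.det : GL (Fin k) F →* Fˣ).ker,
    Subgroup.index_ker, MonoidHom.range_eq_top.2 Matrix.GeneralLinearGroup.det_surjective, Subgroup.card_top,
    Nat.card_units, Nat.card_eq_fintype_card (α := F)]
  congr 1
  exact Nat.card_congr
    { toFun := fun s => ⟨Matrix.SpecialLinearGroup.toGL s, MonoidHom.mem_ker.2 (Units.ext (by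
        rw [Matrix.GeneralLinearGroup.val_det_apply]; exact s.2))⟩
      invFun := fun g => ⟨(g.1 : Matrix (Fin k) (Fin k) F), by
        have := congrArg Units.val (MonoidHom.mem_ker.1 g.2)
        rwa [Matrix.GeneralLinearGroup.val_det_apply] at this⟩
      left_inv := fun s => Subtype.ext rfl
      right_inv := fun g => Subtype.ext (Units.ext rfl) }

theorem dvd_card_SL {p r : ℕ} [Fact p.Prime] [CharP F p] (hr : r.Prime) (hk : 2 ≤ k)
    (h : r = p ∨ r ∣ Fintype.card F - 1 ∨ orderOf ((Fintype.card F : ℕ) : ZMod r) ≤ k) :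
    r ∣ Nat.card (Matrix.SpecialLinearGroup (Fin k) F) := by
  haveI : Fact r.Prime := ⟨hr⟩
  obtain ⟨q, hq⟩ : ∃ q, Fintype.card F = q := ⟨_, rfl⟩
  have hq2 : 2 ≤ q := hq ▸ Fintype.one_lt_card
  have hcard := card_SL_mul (F := F) (k := k) (by omega)
  rw [hq] at hcard h
  by_cases hr1 : r ∣ q - 1
  · have hfac : ∀ i : Fin k, q - 1 ∣ q ^ k - q ^ (i : ℕ) := fun i => by
      rw [show q ^ k - q ^ (i : ℕ) = q ^ (i : ℕ) * (q ^ (k - i) - 1) by
        rw [Nat.mul_sub, ← pow_add, mul_one, Nat.add_sub_cancel' i.2.le]]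
      exact dvd_mul_of_dvd_right (Nat.sub_one_dvd_pow_sub_one q (k - i)) _
    have h2 : (q - 1) * (q - 1) ∣ ∏ i : Fin k, (q ^ k - q ^ (i : ℕ)) := by
      rw [Fintype.prod_eq_mul_prod_compl (⟨0, by omega⟩ : Fin k)]
      refine mul_dvd_mul (hfac _) ((hfac ⟨1, by omega⟩).trans ?_)
      exact Finset.dvd_prod_of_mem _ (by simp [Fin.ext_iff])
    rw [← hcard] at h2
    exact hr1.trans (Nat.dvd_of_mul_dvd_mul_right (by omega) h2)
  have hdvd : r ∣ ∏ i : Fin k, (q ^ k - q ^ (i : ℕ)) := by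
    rcases h with h | h | h
    · refine (dvd_trans ?_ (Finset.dvd_prod_of_mem _ (Finset.mem_univ (⟨1, by omega⟩ : Fin k))))
      have : r ∣ q := by
        obtain ⟨e, he⟩ := FiniteField.card F p
        rw [← hq, he.2, h]
        exact dvd_pow_self p e.ne_zero
      exact Nat.dvd_sub (this.trans (dvd_pow_self q (by omega))) (this.trans (dvd_pow_self q one_ne_zero))
    · exact absurd h hr1
    · by_cases hrq : r ∣ q
      · exact dvd_trans (Nat.dvd_sub (hrq.trans (dvd_pow_self q (by omega))) (hrq.trans (dvd_pow_self q one_ne_zero)))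
          (Finset.dvd_prod_of_mem _ (Finset.mem_univ (⟨1, by omega⟩ : Fin k)))
      · have hq0 : (q : ZMod r) ≠ 0 := fun h0 => hrq ((ZMod.natCast_eq_zero_iff _ _).1 h0)
        have hd0 : 0 < orderOf (q : ZMod r) :=
          orderOf_pos_iff.2 (isOfFinOrder_iff_pow_eq_one.2 ⟨r - 1, by have := hr.two_le; omega, ZMod.pow_card_sub_one_eq_one hq0⟩)
        refine dvd_trans ?_ (Finset.dvd_prod_of_mem _
          (Finset.mem_univ (⟨k - orderOf (q : ZMod r), by omega⟩ : Fin k)))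
        rw [← ZMod.natCast_eq_zero_iff, Nat.cast_sub (Nat.pow_le_pow_right (by omega) (Nat.sub_le _ _)),
          Nat.cast_pow, Nat.cast_pow, sub_eq_zero]
        calc (q : ZMod r) ^ k = (q : ZMod r) ^ (k - orderOf (q : ZMod r)) * (q : ZMod r) ^ orderOf (q : ZMod r) := by
              rw [← pow_add, Nat.sub_add_cancel h]
          _ = _ := by rw [pow_orderOf_eq_one, mul_one]
  rw [← hcard] at hdvd
  exact (hr.dvd_mul.1 hdvd).resolve_right hr1

theorem primeFactors_psl (p : ℕ) [Fact p.Prime] [CharP F p] (n : ℕ) (hn : 4 ≤ n)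
    (a b : Matrix.ProjectiveSpecialLinearGroup (Fin n) F) (ha : orderOf a = p) (hab : Commute a b) :
    (orderOf b).primeFactors ⊆ (Nat.card (Matrix.SpecialLinearGroup (Fin (n - 2)) F)).primeFactors := by
  classical
  intro r hr
  rw [Nat.mem_primeFactors] at hr ⊢
  obtain ⟨hrp, hrd, -⟩ := hr
  haveI : Fact r.Prime := ⟨hrp⟩
  refine ⟨hrp, ?_, Nat.card_pos.ne'⟩
  refine dvd_card_SL (p := p) hrp (by omega) ?_
  by_cases hp : r = p
  · exact Or.inl hp
  by_cases hr1 : r ∣ Fintype.card F - 1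
  · exact Or.inr (Or.inl hr1)
  refine Or.inr (Or.inr ?_)
  have hb : orderOf (b ^ (orderOf b / r)) = r := orderOf_pow_orderOf_div (orderOf_pos b).ne' hrd
  have hZ : ¬ r ∣ Nat.card (Subgroup.center (Matrix.SpecialLinearGroup (Fin n) F)) := fun h => hr1 (by
    rw [Nat.card_congr (Matrix.SpecialLinearGroup.center_equiv_rootsOfUnity).toEquiv] at h
    have := h.trans (Subgroup.card_subgroup_dvd_card _)
    rwa [Nat.card_units, Nat.card_eq_fintype_card] at this)
  obtain ⟨A, B, hAB, hA, ⟨i, hAi⟩, hBZ, hBr⟩ :=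
    exists_lift_pair le_rfl (Fact.out : p.Prime) hrp (Ne.symm hp) hZ a _ ha hb (hab.pow_right _)
  obtain ⟨N, T, hN, hnil, hT, hTr, hTN, -, -⟩ := exists_maps (p := p)
    (A := (A : Matrix (Fin n) (Fin n) F)) (B := (B : Matrix (Fin n) (Fin n) F)) (r := r) (i := i) (by omega)
    (by
      show _ * _ = _ * _
      rw [← Matrix.SpecialLinearGroup.coe_mul, hAB.eq, Matrix.SpecialLinearGroup.coe_mul])
    (fun h => hA (Subtype.ext h)) (by rw [← Matrix.SpecialLinearGroup.coe_pow, hAi, Matrix.SpecialLinearGroup.coe_one])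
    (fun h => hBZ (by rw [show B = 1 from Subtype.ext h]; exact one_mem _))
    (by rw [← Matrix.SpecialLinearGroup.coe_pow, hBr, Matrix.SpecialLinearGroup.coe_one])
  have hq0 : (Fintype.card F : ZMod r) ≠ 0 := fun h0 => hp (by
    obtain ⟨e, he⟩ := FiniteField.card F p
    rw [ZMod.natCast_eq_zero_iff, he.2] at h0
    exact (Nat.prime_dvd_prime_iff_eq hrp Fact.out).1 (hrp.dvd_of_dvd_pow h0))
  have hd : 2 ≤ orderOf (Fintype.card F : ZMod r) := by
    by_contra h
    have h1 : (Fintype.card F : ZMod r) = 1 := by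
      have h0 : orderOf (Fintype.card F : ZMod r) ≠ 0 := (orderOf_pos_iff.2 (isOfFinOrder_iff_pow_eq_one.2
        ⟨r - 1, by have := hrp.two_le; omega, ZMod.pow_card_sub_one_eq_one hq0⟩)).ne'
      exact orderOf_eq_one_iff.1 (by omega)
    refine hr1 ((Nat.modEq_iff_dvd' Fintype.card_pos).1 ?_)
    rw [← ZMod.natCast_eq_natCast_iff, h1, Nat.cast_one]
  have := ord_add_two_le hTr hT hN hnil hTN hq0 hd
  rw [Module.finrank_fintype_fun_eq_card, Fintype.card_fin] at this
  omega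

end Linear

section Unitary

variable {F : Type*} [Field F] [Fintype F] {q : ℕ}

theorem dvd_card_SU {σ : F ≃+* F} (hσ : IsUSigma q σ) {k r : ℕ} (hr : r.Prime) (hk : 2 ≤ k)
    (h : r ∣ q ∨ r ∣ q ^ 2 - 1 ∨ ∃ i, 1 ≤ i ∧ i ≤ k ∧ (-(q : ZMod r)) ^ i = 1) :
    r ∣ Nat.card ↥(Cfsg.SU k F q) := by
  have hq := hσ.two_le
  have hmul := card_SU (n := k) hσ (by omega)
  rw [card_GU hσ k] at hmul
  have h2 : (q + 1) * (q ^ 2 - 1) ∣ ∏ i ∈ Finset.range k, (if Even i then q ^ (i + 1) + 1 else q ^ (i + 1) - 1) := by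
    refine dvd_trans ?_ (Finset.prod_dvd_prod_of_subset (Finset.range 2) _ _ (Finset.range_subset_range.2 hk))
    simp [Finset.prod_range_succ]
  by_cases hq21 : r ∣ q ^ 2 - 1
  · have h3 : (q + 1) * (q ^ 2 - 1) ∣ (q + 1) * Nat.card ↥(Cfsg.SU k F q) := hmul ▸ dvd_mul_of_dvd_right h2 _
    exact hq21.trans (Nat.dvd_of_mul_dvd_mul_left (by omega) h3)
  have hq1 : ¬ r ∣ q + 1 := fun h' => hq21 (h'.trans (by
    rw [show q ^ 2 - 1 = (q + 1) * (q - 1) by rw [← Nat.sq_sub_sq, one_pow]]; exact dvd_mul_right _ _))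
  have hd : r ∣ (q + 1) * Nat.card ↥(Cfsg.SU k F q) := by
    rw [hmul]
    rcases h with h | h | ⟨i, hi1, hi2, hi3⟩
    · refine dvd_mul_of_dvd_left (h.trans (dvd_pow_self q ?_)) _
      have : 2 * 1 ≤ k * (k - 1) := Nat.mul_le_mul hk (by omega)
      omega
    · exact absurd h hq21
    · refine dvd_mul_of_dvd_right ?_ _
      refine dvd_trans ?_ (Finset.dvd_prod_of_mem _ (Finset.mem_range.2 (show i - 1 < k by omega)))
      rw [show i - 1 + 1 = i by omega]
      have h1 : 1 ≤ q ^ i := Nat.one_le_pow _ _ (by omega)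
      split_ifs with he
      · have hodd : Odd i := by
          have := he.add_one
          rwa [show i - 1 + 1 = i by omega] at this
        rw [hodd.neg_pow, neg_eq_iff_eq_neg] at hi3
        rw [← ZMod.natCast_eq_zero_iff, Nat.cast_add, Nat.cast_pow, Nat.cast_one, hi3, neg_add_cancel]
      · have heven : Even i := by
          have := (Nat.not_even_iff_odd.1 he).add_one
          rwa [show i - 1 + 1 = i by omega] at this
        rw [heven.neg_pow] at hi3
        rw [← ZMod.natCast_eq_zero_iff, Nat.cast_sub h1, Nat.cast_pow, Nat.cast_one, hi3, sub_self]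
  exact (hr.dvd_mul.1 hd).resolve_left hq1

theorem primeFactors_psu (p : ℕ) [Fact p.Prime] [CharP F p] (m : ℕ) (hm : 4 ≤ m) (hF : Fintype.card F = q ^ 2)
    (a b : Cfsg.PSU m F q) (ha : orderOf a = p) (hab : Commute a b) :
    (orderOf b).primeFactors ⊆ (Nat.card ↥(Cfsg.SU (m - 2) F q)).primeFactors := by
  classical
  obtain ⟨p', e, σ, -, -, -, -, hσ⟩ := exists_usigma hF
  intro r hr
  rw [Nat.mem_primeFactors] at hr ⊢
  obtain ⟨hrp, hrd, -⟩ := hr
  haveI : Fact r.Prime := ⟨hrp⟩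
  refine ⟨hrp, ?_, Nat.card_pos.ne'⟩
  refine dvd_card_SU hσ hrp (by omega) ?_
  have hqp : ∀ s : ℕ, s.Prime → s ∣ q → s = p := fun s hs hd => by
    obtain ⟨e', he⟩ := FiniteField.card F p
    have h2 : s ∣ p ^ (e' : ℕ) := by rw [← he.2, hF]; exact hd.trans (dvd_pow_self q two_ne_zero)
    exact (Nat.prime_dvd_prime_iff_eq hs Fact.out).1 (hs.dvd_of_dvd_pow h2)
  by_cases hp : r = p
  · refine Or.inl ?_
    obtain ⟨s, hs, hsq⟩ := Nat.exists_prime_and_dvd (n := q) (by have := hσ.two_le; omega)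
    rw [hp, ← hqp s hs hsq]
    exact hsq
  by_cases hr1 : r ∣ q ^ 2 - 1
  · exact Or.inr (Or.inl hr1)
  refine Or.inr (Or.inr ?_)
  have hrq : ¬ r ∣ q := fun h => hp (hqp r hrp h)
  have hb : orderOf (b ^ (orderOf b / r)) = r := orderOf_pow_orderOf_div (orderOf_pos b).ne' hrd
  have hZ : ¬ r ∣ Nat.card (Subgroup.center ↥(Cfsg.SU m F q)) := fun h => hr1 (by
    rw [card_center_SU hσ (by omega)] at h
    refine h.trans ((Nat.gcd_dvd_right _ _).trans ?_)
    rw [show q ^ 2 - 1 = (q + 1) * (q - 1) by rw [← Nat.sq_sub_sq, one_pow]]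
    exact dvd_mul_right _ _)
  obtain ⟨A, B, hAB, hA, ⟨i, hAi⟩, hBZ, hBr⟩ :=
    exists_lift_pair le_rfl (Fact.out : p.Prime) hrp (Ne.symm hp) hZ a _ ha hb (hab.pow_right _)
  let φ : ↥(Cfsg.SU m F q) →* Matrix (Fin m) (Fin m) F :=
    (Cfsg.slToMat m F).comp (Cfsg.SU m F q).subtype
  have hφ : Function.Injective φ := fun x y h => Subtype.ext (Subtype.ext h)
  obtain ⟨N, T, hN, hnil, hT, hTr, hTN, hTv, hNv⟩ := exists_maps (p := p)
    (A := φ A) (B := φ B) (r := r) (i := i) (by omega) (hAB.map φ)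
    (fun h => hA (hφ (h.trans (map_one φ).symm))) (by rw [← map_pow, hAi, map_one])
    (fun h => hBZ (by rw [show B = 1 from hφ (h.trans (map_one φ).symm)]; exact one_mem _))
    (by rw [← map_pow, hBr, map_one])
  have hf := hσ.isUnitaryForm (n := m)
  have H : IsHermND σ (Cfsg.hermForm m F q) :=
    ⟨hf.add_left, hf.smul_left, fun x y => (hf.herm y x).symm, fun v hv => by
      by_contra hne
      obtain ⟨⟨w, hw⟩, -⟩ := hf.nondegenerate v hne
      exact hw (by rw [hf.herm w v, hv w, map_zero])⟩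
  have hq0 : (q : ZMod r) ≠ 0 := fun h0 => hrq ((ZMod.natCast_eq_zero_iff _ _).1 h0)
  have hq2 : (Fintype.card F : ZMod r) ≠ 0 := by rw [hF, Nat.cast_pow]; exact pow_ne_zero _ hq0
  have hrF : (r : F) ≠ 0 := fun h0 => hp ((Nat.prime_dvd_prime_iff_eq Fact.out hrp).1 ((CharP.cast_eq_zero_iff F p r).1 h0)).symm
  have hd : 2 ≤ orderOf (Fintype.card F : ZMod r) := by
    by_contra h
    have h1 : (Fintype.card F : ZMod r) = 1 := by
      have h0 : orderOf (Fintype.card F : ZMod r) ≠ 0 := (orderOf_pos_iff.2 (isOfFinOrder_iff_pow_eq_one.2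
        ⟨r - 1, by have := hrp.two_le; omega, ZMod.pow_card_sub_one_eq_one hq2⟩)).ne'
      exact orderOf_eq_one_iff.1 (by omega)
    refine hr1 ((Nat.modEq_iff_dvd' (Nat.one_le_pow _ _ (by have := hσ.two_le; omega))).1 ?_)
    rw [← ZMod.natCast_eq_natCast_iff, ← hF, h1, Nat.cast_one]
  have := unitary_bound hσ H hTr hT hN hnil hTN
    (fun x y => by rw [hTv, hTv]; exact B.2 x y) (fun x y => by rw [hNv, hNv]; exact A.2 x y) hrq hrF hd
  rw [Module.finrank_fintype_fun_eq_card, Fintype.card_fin] at this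
  refine ⟨orderOf (-(q : ZMod r)), ?_, by omega, pow_orderOf_eq_one _⟩
  exact orderOf_pos_iff.2 (isOfFinOrder_iff_pow_eq_one.2
    ⟨r - 1, by have := hrp.two_le; omega, ZMod.pow_card_sub_one_eq_one (neg_ne_zero.2 hq0)⟩)

end Unitary

end Cfsg.Agent.Small.NilCommutant
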