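import Cfsg.Agent.Lib.Small.SuzukiSylowFacts
import Cfsg.Prelude.Def_KGroupFacts
import Mathlib.FieldTheory.Galois.Basic
import Mathlib.FieldTheory.Finite.GaloisField

/-!
The automorphism group of a Suzuki group.
-/

set_option autoImplicit false

namespace Cfsg.Agent.Small.SuzukiAut

open Cfsg.Agent.Lie.Suzuki

variable {F : Type*} [Field F] {m : ℕ}

theorem map_tM (σ : F ≃+* F) (a b : F) :
    Matrix.SpecialLinearGroup.map (σ : F →+* F) (tM m a b) = tM m (σ a) (σ b) := by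
  apply Subtype.ext
  ext i j
  show σ (((tM m a b) : Matrix.SpecialLinearGroup (Fin 4) F).1 i j) = _
  fin_cases i <;> fin_cases j <;>
    simp [tM, tMat, fv, map_add, map_mul, map_pow]

theorem map_wM (σ : F ≃+* F) : Matrix.SpecialLinearGroup.map (σ : F →+* F) (wM F) = wM F := by
  apply Subtype.ext
  ext i j
  show σ (((wM F) : Matrix.SpecialLinearGroup (Fin 4) F).1 i j) = _
  fin_cases i <;> fin_cases j <;> simp [wM]

theorem map_dM (σ : F ≃+* F) (k : Fˣ) :
    Matrix.SpecialLinearGroup.map (σ : F →+* F) (dM m k) = dM m (Units.map (σ : F →* F) k) := by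
  apply Subtype.ext
  ext i j
  show σ (((dM m k) : Matrix.SpecialLinearGroup (Fin 4) F).1 i j) = _
  fin_cases i <;> fin_cases j <;> simp [dM, map_pow, map_inv₀]

variable [Fintype F] (hF : Fintype.card F = 2 ^ (2 * m + 1))
include hF

/-- The stabilizer of the point at infinity. -/
def sInf (_h : Fintype.card F = 2 ^ (2 * m + 1)) : Subgroup (Cfsg.Sz F m) :=
  MulAction.stabilizer (Cfsg.Sz F m) (Cfsg.suzukiPointInfinity F)

/-- The stabilizer of the point zero. -/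
def sZero (_h : Fintype.card F = 2 ^ (2 * m + 1)) : Subgroup (Cfsg.Sz F m) :=
  MulAction.stabilizer (Cfsg.Sz F m) (pt m (0 : F) 0)

theorem mem_sInf_iff (g : Cfsg.Sz F m) :
    g ∈ sInf hF ↔ g • Cfsg.suzukiPointInfinity F = Cfsg.suzukiPointInfinity F := Iff.rfl

theorem tS_pt (a b : F) : tS (m := m) hF a b • pt m (0 : F) 0 = pt m a b := tM_pt_zero hF a b

theorem tS_inf (a b : F) :
    tS (m := m) hF a b • Cfsg.suzukiPointInfinity F = Cfsg.suzukiPointInfinity F := tM_inf a b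

theorem dS_pt_zero (k : Fˣ) : dS (m := m) hF k • pt m (0 : F) 0 = pt m 0 0 := by
  show dM m k • pt m (0 : F) 0 = pt m 0 0
  rw [dM_pt hF, mul_zero, mul_zero]

theorem dS_inf (k : Fˣ) :
    dS (m := m) hF k • Cfsg.suzukiPointInfinity F = Cfsg.suzukiPointInfinity F := dM_inf k

theorem tS_injective {a b c d : F} (h : tS (m := m) hF a b = tS hF c d) : a = c ∧ b = d :=
  tM_injective (congrArg Subtype.val h : tM m a b = tM m c d)

theorem dS_injective {k l : Fˣ} (h : dS (m := m) hF k = dS hF l) : k = l :=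
  dM_injective (congrArg Subtype.val h : dM m k = dM m l)

theorem eq_dS (hm : 1 ≤ m) {g : Cfsg.Sz F m} (h0 : g ∈ sInf hF) (h1 : g ∈ sZero hF) :
    ∃ k : Fˣ, g = dS hF k := by
  obtain ⟨k, hk⟩ := two_point hF hm g.2 h0 h1
  exact ⟨k, Subtype.ext hk⟩

theorem normalizer_sInf (hm : 1 ≤ m) :
    Subgroup.normalizer ((uSub (m := m) hF : Subgroup _) : Set (Cfsg.Sz F m)) = sInf hF :=
  normalizer_uSub hF hm

theorem stab_injective (hm : 1 ≤ m) {p q : Projectivization F (Fin 4 → F)}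
    (hp : p ∈ Cfsg.suzukiOvoid F m) (hq : q ∈ Cfsg.suzukiOvoid F m)
    (h : MulAction.stabilizer (Cfsg.Sz F m) p ≤ MulAction.stabilizer (Cfsg.Sz F m) q) : p = q := by
  obtain ⟨g, hg, gp⟩ := to_inf hF hp
  obtain ⟨G', hG'⟩ : ∃ G' : Cfsg.Sz F m, G' = ⟨g, hg⟩ := ⟨_, rfl⟩
  have gp' : G' • p = Cfsg.suzukiPointInfinity F := by rw [hG']; exact gp
  have hfix : tS (m := m) hF (1 : F) 0 • (G' • q) = G' • q := by
    have hmem : G'⁻¹ * tS hF (1 : F) 0 * G' ∈ MulAction.stabilizer (Cfsg.Sz F m) q := by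
      refine h ?_
      rw [MulAction.mem_stabilizer_iff, mul_smul, mul_smul, gp', tS_inf hF, inv_smul_eq_iff, gp']
    rw [MulAction.mem_stabilizer_iff, mul_smul, mul_smul, inv_smul_eq_iff] at hmem
    exact hmem
  rcases mem_ovoid.1 (smul_mem hF G'.2 hq) with e | ⟨x, y, e⟩
  · exact smul_left_cancel G' (gp'.trans e.symm)
  · exfalso
    have e' : G' • q = pt m x y := e
    rw [e'] at hfix
    have h2 : tM m (1 : F) 0 • pt m x y = pt m x y := hfix
    rw [tM_pt hF] at h2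
    have := (pt_inj h2).1
    simp at this

/-- A field automorphism as an endomorphism of the Suzuki group. -/
theorem field_mem (hm : 1 ≤ m) (σ : F ≃+* F) {g : Matrix.SpecialLinearGroup (Fin 4) F}
    (hg : g ∈ Cfsg.Sz F m) : Matrix.SpecialLinearGroup.map (σ : F →+* F) g ∈ Cfsg.Sz F m := by
  rcases decomp hF hm hg with ⟨a, b, k, rfl⟩ | ⟨a, b, c, d, k, rfl⟩
  · rw [map_mul, map_tM, map_dM]
    exact mul_mem (tM_mem hF _ _) (dM_mem hF _)
  · rw [map_mul, map_mul, map_mul, map_tM, map_tM, map_wM, map_dM]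
    exact mul_mem (mul_mem (tM_mem hF _ _) (wM_mem hF)) (mul_mem (tM_mem hF _ _) (dM_mem hF _))

theorem map_map_eq (σ τ : F ≃+* F) (g : Matrix.SpecialLinearGroup (Fin 4) F) :
    Matrix.SpecialLinearGroup.map (σ : F →+* F) (Matrix.SpecialLinearGroup.map (τ : F →+* F) g) =
      Matrix.SpecialLinearGroup.map ((σ * τ : F ≃+* F) : F →+* F) g :=
  Subtype.ext (Matrix.ext fun _ _ => rfl)

/-- The field automorphisms. -/
def fieldAut (hm : 1 ≤ m) : (F ≃+* F) →* MulAut (Cfsg.Sz F m) where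
  toFun σ :=
    { toFun := fun g => ⟨_, field_mem hF hm σ g.2⟩
      invFun := fun g => ⟨_, field_mem hF hm σ.symm g.2⟩
      left_inv := fun g => Subtype.ext (Subtype.ext (Matrix.ext fun i j => σ.symm_apply_apply _))
      right_inv := fun g => Subtype.ext (Subtype.ext (Matrix.ext fun i j => σ.apply_symm_apply _))
      map_mul' := fun g h => Subtype.ext (map_mul (Matrix.SpecialLinearGroup.map (σ : F →+* F)) g.1 h.1) }
  map_one' := MulEquiv.ext fun g => Subtype.ext (Subtype.ext (Matrix.ext fun _ _ => rfl))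
  map_mul' σ τ := MulEquiv.ext fun g => Subtype.ext (map_map_eq hF σ τ g.1).symm

theorem fieldAut_tS (hm : 1 ≤ m) (σ : F ≃+* F) (a b : F) :
    fieldAut hF hm σ (tS hF a b) = tS hF (σ a) (σ b) := Subtype.ext (map_tM σ a b)

theorem fieldAut_wS (hm : 1 ≤ m) (σ : F ≃+* F) : fieldAut hF hm σ (wS hF) = wS hF :=
  Subtype.ext (map_wM σ)

theorem fieldAut_dS (hm : 1 ≤ m) (σ : F ≃+* F) (k : Fˣ) :
    fieldAut hF hm σ (dS hF k) = dS hF (Units.map (σ : F →* F) k) := Subtype.ext (map_dM σ k)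

theorem eq_of_map_le {G : Type*} [Group G] [Finite G] (φ : MulAut G) {A : Subgroup G}
    (h : ∀ g ∈ A, φ g ∈ A) : A.map φ.toMonoidHom = A :=
  Subgroup.eq_of_le_of_card_ge (by rintro _ ⟨g, hg, rfl⟩; exact h g hg)
    (Subgroup.card_map_of_injective φ.injective).ge

theorem sZero_eq (hm : 1 ≤ m) :
    sZero hF = (sInf hF).map (MulAut.conj (wS (m := m) hF)).toMonoidHom := by
  have hw : wS (m := m) hF • Cfsg.suzukiPointInfinity F = pt m (0 : F) 0 := wM_inf
  rw [sZero, ← hw, MulAction.stabilizer_smul_eq_stabilizer_map_conj]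
  rfl

/-- Automorphisms that preserve the translation group and both point stabilizers. -/
def IsNormal (φ : MulAut (Cfsg.Sz F m)) : Prop :=
  (uSub (m := m) hF).map φ.toMonoidHom = uSub hF ∧ (sInf hF).map φ.toMonoidHom = sInf hF ∧
    (sZero hF).map φ.toMonoidHom = sZero hF

theorem IsNormal.mul {φ ψ : MulAut (Cfsg.Sz F m)} (h1 : IsNormal hF φ) (h2 : IsNormal hF ψ) :
    IsNormal hF (φ * ψ) := by
  have e : ∀ A : Subgroup (Cfsg.Sz F m),
      A.map (φ * ψ).toMonoidHom = (A.map ψ.toMonoidHom).map φ.toMonoidHom := fun A => by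
    rw [Subgroup.map_map]; rfl
  exact ⟨by rw [e, h2.1, h1.1], by rw [e, h2.2.1, h1.2.1], by rw [e, h2.2.2, h1.2.2]⟩

theorem IsNormal.inv {φ : MulAut (Cfsg.Sz F m)} (h1 : IsNormal hF φ) : IsNormal hF φ⁻¹ := by
  have e : ∀ A : Subgroup (Cfsg.Sz F m), A.map φ.toMonoidHom = A → A.map (φ⁻¹).toMonoidHom = A := by
    intro A hA
    conv_lhs => rw [← hA]
    rw [Subgroup.map_map]
    ext x
    simp
  exact ⟨e _ h1.1, e _ h1.2.1, e _ h1.2.2⟩

theorem isNormal_conj_dS (hm : 1 ≤ m) (k : Fˣ) : IsNormal hF (MulAut.conj (dS (m := m) hF k)) := by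
  have hn : dS (m := m) hF k ∈ sInf hF := dS_inf hF k
  haveI : Finite (Cfsg.Sz F m) := inferInstance
  refine ⟨eq_of_map_le hF _ fun g hg => ?_, eq_of_map_le hF _ fun g hg => ?_, eq_of_map_le hF _ fun g hg => ?_⟩
  · rw [← normalizer_sInf hF hm] at hn
    exact (Subgroup.mem_set_normalizer_iff.1 hn g).1 hg
  · exact mul_mem (mul_mem hn hg) (inv_mem hn)
  · exact mul_mem (mul_mem (dS_pt_zero hF k) hg) (Subgroup.inv_mem (sZero hF) (dS_pt_zero hF k))

theorem isNormal_fieldAut (hm : 1 ≤ m) (σ : F ≃+* F) : IsNormal hF (fieldAut hF hm σ) := by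
  have hU : ∀ g ∈ uSub (m := m) hF, fieldAut hF hm σ g ∈ uSub hF := by
    rintro _ ⟨a, b, rfl⟩
    exact ⟨_, _, fieldAut_tS hF hm σ a b⟩
  have hI : ∀ g ∈ sInf (m := m) hF, fieldAut hF hm σ g ∈ sInf hF := by
    intro g hg
    obtain ⟨a, b, k, rfl⟩ := sz_fix hF hm g hg
    rw [map_mul, fieldAut_tS, fieldAut_dS]
    exact mul_mem (tS_inf hF _ _) (dS_inf hF _)
  refine ⟨eq_of_map_le hF _ hU, eq_of_map_le hF _ hI, eq_of_map_le hF _ fun g hg => ?_⟩
  rw [sZero_eq hF hm] at hg ⊢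
  obtain ⟨u, hu, rfl⟩ := hg
  refine ⟨fieldAut hF hm σ u, hI u hu, ?_⟩
  simp [MulAut.conj_apply, fieldAut_wS]

theorem exists_isNormal (hm : 1 ≤ m) (φ : MulAut (Cfsg.Sz F m)) :
    ∃ g : Cfsg.Sz F m, IsNormal hF (MulAut.conj g * φ) := by
  haveI : Fact (Nat.Prime 2) := ⟨Nat.prime_two⟩
  have hidx : ¬ 2 ∣ ((uSub (m := m) hF).map φ.toMonoidHom).index := by
    rw [show (uSub (m := m) hF).map φ.toMonoidHom = (uSub hF).map (φ : Cfsg.Sz F m →* Cfsg.Sz F m) from rfl,
      Subgroup.index_map_equiv]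
    exact not_two_dvd_index hF hm
  obtain ⟨g, hg⟩ := SuzukiFacts.exists_conj_uSub hF hm
    (((uSub_isPGroup (m := m) hF).map φ.toMonoidHom).toSylow hidx)
  obtain ⟨ψ, hψ⟩ : ∃ ψ, ψ = MulAut.conj g⁻¹ * φ := ⟨_, rfl⟩
  have hUψ : (uSub (m := m) hF).map ψ.toMonoidHom = uSub hF := by
    rw [hψ, show (uSub (m := m) hF).map (MulAut.conj g⁻¹ * φ).toMonoidHom =
      ((uSub hF).map φ.toMonoidHom).map (MulAut.conj g⁻¹).toMonoidHom by rw [Subgroup.map_map]; rfl]
    have hg' : (uSub (m := m) hF).map φ.toMonoidHom = (uSub hF).map (MulAut.conj g).toMonoidHom := hg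
    rw [hg', Subgroup.map_map]
    ext x
    simp [mul_assoc]
  have hnorm : ∀ ψ : MulAut (Cfsg.Sz F m), (uSub (m := m) hF).map ψ.toMonoidHom = uSub hF →
      (sInf hF).map ψ.toMonoidHom = sInf hF := by
    intro ψ h
    rw [← normalizer_sInf hF hm]
    have := Subgroup.map_equiv_normalizer_eq (uSub (m := m) hF) ψ
    rw [h] at this
    exact this
  have hI := hnorm ψ hUψ
  -- the image of the point zero stabilizer
  obtain ⟨v, hv⟩ : ∃ v, v = ψ (wS (m := m) hF) := ⟨_, rfl⟩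
  have hne : v ∉ sInf hF := by
    intro h
    rw [← hI] at h
    obtain ⟨u, hu, huv⟩ := h
    have huw : u = wS (m := m) hF := ψ.injective (huv.trans hv)
    have h2 : wM F • Cfsg.suzukiPointInfinity F = Cfsg.suzukiPointInfinity F := by
      have := (mem_sInf_iff hF u).1 hu
      rw [huw] at this
      exact this
    rw [wM_inf (m := m)] at h2
    exact pt_ne_inf (0 : F) 0 h2
  obtain ⟨x, y, hxy⟩ : ∃ x y, v • Cfsg.suzukiPointInfinity F = pt m x y := by
    rcases mem_ovoid.1 (smul_mem hF v.2 inf_mem) with h | h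
    · exact absurd ((mem_sInf_iff hF v).2 h) hne
    · exact h
  refine ⟨(tS hF x y)⁻¹ * g⁻¹, ?_⟩
  have e : MulAut.conj ((tS (m := m) hF x y)⁻¹ * g⁻¹) * φ = MulAut.conj (tS hF x y)⁻¹ * ψ := by
    rw [hψ, map_mul, mul_assoc]
  rw [e]
  have hU : (uSub (m := m) hF).map (MulAut.conj (tS hF x y)⁻¹ * ψ).toMonoidHom = uSub hF := by
    refine eq_of_map_le hF _ fun u hu => ?_
    have h1 : ψ u ∈ uSub hF := hUψ.le ⟨u, hu, rfl⟩
    exact mul_mem (mul_mem (inv_mem ⟨x, y, rfl⟩) h1) (inv_mem (inv_mem ⟨x, y, rfl⟩))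
  refine ⟨hU, hnorm _ hU, ?_⟩
  refine eq_of_map_le hF _ fun u hu => ?_
  rw [sZero_eq hF hm] at hu
  obtain ⟨b, hb, rfl⟩ := hu
  have hψb : ψ b ∈ sInf hF := hI.le ⟨b, hb, rfl⟩
  have h0 : ((tS (m := m) hF x y)⁻¹ * v) • Cfsg.suzukiPointInfinity F = pt m (0 : F) 0 := by
    rw [mul_smul, hxy]
    exact tM_inv_pt hF x y
  show (MulAut.conj (tS hF x y)⁻¹ * ψ) (MulAut.conj (wS hF) b) • pt m (0 : F) 0 = pt m 0 0
  rw [show (MulAut.conj (tS hF x y)⁻¹ * ψ) (MulAut.conj (wS hF) b) =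
      ((tS hF x y)⁻¹ * v) * ψ b * ((tS hF x y)⁻¹ * v)⁻¹ by
    simp [MulAut.conj_apply, hv, mul_assoc]]
  rw [← h0, mul_smul, mul_smul, inv_smul_smul, (mem_sInf_iff hF _).1 hψb]

theorem mem_zSub_iff (g : Cfsg.Sz F m) : g ∈ zSub hF ↔ g ∈ uSub hF ∧ g * g = 1 := by
  constructor
  · rintro ⟨b, rfl⟩
    exact ⟨⟨0, b, rfl⟩, by rw [tS_mul hF]; simp [add_self hF, tS_zero hF]⟩
  · rintro ⟨⟨a, b, rfl⟩, h⟩
    rw [tS_mul hF, ← tS_zero hF] at h
    obtain ⟨-, h2⟩ := tS_injective hF h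
    rw [add_self hF, zero_add] at h2
    have ha : a = 0 := by
      rcases mul_eq_zero.1 h2 with h3 | h3
      · exact eq_zero_of_pow_eq_zero h3
      · exact h3
    exact ⟨b, by rw [ha]⟩

/-- Scaling data of a normal automorphism. -/
theorem data (hm : 1 ≤ m) {φ : MulAut (Cfsg.Sz F m)} (hφ : IsNormal hF φ) :
    ∃ (f : F → F) (χ : Fˣ → Fˣ), Function.Injective f ∧ (∀ b, φ (tS hF 0 b) = tS hF 0 (f b)) ∧
      (∀ k, φ (dS hF k) = dS hF (χ k)) ∧ (∀ b c, f (b + c) = f b + f c) ∧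
      ∀ (k : Fˣ) b, f ((k : F) ^ (2 ^ (m + 1) + 1) * b) = (χ k : F) ^ (2 ^ (m + 1) + 1) * f b := by
  have hz : ∀ b, ∃ c, φ (tS (m := m) hF 0 b) = tS hF 0 c := by
    intro b
    obtain ⟨h1, h2⟩ := (mem_zSub_iff hF _).1 (⟨b, rfl⟩ : tS (m := m) hF 0 b ∈ zSub hF)
    exact (mem_zSub_iff hF _).2 ⟨hφ.1.le ⟨_, h1, rfl⟩, by rw [← map_mul, h2, map_one]⟩
  have hd : ∀ k, ∃ l, φ (dS (m := m) hF k) = dS hF l := fun k =>
    eq_dS hF hm (hφ.2.1.le ⟨_, dS_inf hF k, rfl⟩) (hφ.2.2.le ⟨_, dS_pt_zero hF k, rfl⟩)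
  choose f hf using hz
  choose χ hχ using hd
  refine ⟨f, χ, ?_, hf, hχ, fun b c => ?_, fun k b => ?_⟩
  · intro b c h
    refine (tS_injective (m := m) hF (φ.injective ?_ : tS hF 0 b = tS hF 0 c)).2
    rw [hf, hf, h]
  · have h := map_mul φ (tS (m := m) hF 0 b) (tS hF 0 c)
    rw [tS_mul hF, hf, hf, tS_mul hF] at h
    have hz0 : (0 : F) ^ 2 ^ (m + 1) = 0 := zero_pow (by positivity)
    simp only [hz0, zero_mul, add_zero, hf] at h
    exact (tS_injective hF h).2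
  · have h := congrArg φ (dS_mul_tS hF hm k 0 b)
    rw [map_mul, map_mul, hχ, hf, dS_mul_tS hF hm, mul_zero, mul_zero, hf] at h
    exact (tS_injective hF (mul_right_cancel h)).2.symm

theorem eq_one_of_fix (hm : 1 ≤ m) {φ : MulAut (Cfsg.Sz F m)} (hφ : IsNormal hF φ)
    (hZ : ∀ b, φ (tS hF 0 b) = tS hF 0 b) : φ = 1 := by
  obtain ⟨f, χ, -, hf, hχ, -, hscale⟩ := data hF hm hφ
  have hfid : ∀ b, f b = b := fun b => (tS_injective hF ((hf b).symm.trans (hZ b))).2
  have hχid : ∀ k, χ k = k := by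
    intro k
    have h := hscale k 1
    rw [mul_one, hfid, hfid, mul_one] at h
    exact Units.ext (((congrArg (· ^ (2 ^ (m + 1) - 1)) h.symm).trans (sg_add_one_left_inv hF (k : F)).2).symm.trans
      (sg_add_one_left_inv hF (χ k : F)).2).symm
  have hu : ∀ a, ∃ g h, φ (tS (m := m) hF a 0) = tS hF g h := fun a => hφ.1.le ⟨_, ⟨a, 0, rfl⟩, rfl⟩
  choose g h hgh using hu
  have hd : ∀ (k : Fˣ) a, g ((k : F) * a) = (k : F) * g a ∧
      h ((k : F) * a) = (k : F) ^ (2 ^ (m + 1) + 1) * h a := by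
    intro k a
    have e := congrArg φ (dS_mul_tS hF hm k a 0)
    rw [map_mul, map_mul, hχ, hχid, hgh, dS_mul_tS hF hm, mul_zero, hgh] at e
    obtain ⟨e1, e2⟩ := tS_injective hF (mul_right_cancel e)
    exact ⟨e1.symm, e2.symm⟩
  have hga : ∀ a, g a = a := by
    intro a
    have e := map_mul φ (tS (m := m) hF a 0) (tS hF a 0)
    rw [tS_mul hF, hgh, tS_mul hF, add_self hF, add_self hF, add_self hF, add_self hF, hZ] at e
    have e2 := (tS_injective hF e).2
    rw [zero_add, zero_add] at e2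
    have e3 : a ^ (2 ^ (m + 1) + 1) = g a ^ (2 ^ (m + 1) + 1) := by rw [pow_succ a, pow_succ (g a)]; exact e2
    exact (((sg_add_one_left_inv hF a).2.symm.trans (congrArg (· ^ (2 ^ (m + 1) - 1)) e3)).trans
      (sg_add_one_left_inv hF (g a)).2).symm
  have hadd : ∀ a c, h (a + c) = h a + h c := by
    intro a c
    have e := map_mul φ (tS (m := m) hF a 0) (tS hF c 0)
    have hz0 : (0 : F) ^ 2 ^ (m + 1) = 0 := zero_pow (by positivity)
    have e0 : tS (m := m) hF a 0 * tS hF c 0 = tS hF 0 (a ^ 2 ^ (m + 1) * c) * tS hF (a + c) 0 := by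
      rw [tS_mul hF, tS_mul hF]
      simp [hz0]
    rw [e0, map_mul, hZ, hgh, hgh, hgh, hga, hga, hga, tS_mul hF, tS_mul hF] at e
    have e2 := (tS_injective hF e).2
    rw [hz0, zero_mul, add_zero, add_comm (a ^ 2 ^ (m + 1) * c)] at e2
    exact add_right_cancel e2
  have hh : ∀ a, h a = 0 := by
    have h0 : h 0 = 0 := by simpa using hadd 0 0
    have hk : ∀ k : Fˣ, h (k : F) = (k : F) ^ (2 ^ (m + 1) + 1) * h 1 := by
      intro k
      have := (hd k 1).2
      rwa [mul_one] at this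
    obtain ⟨k, hk1⟩ := exists_unit_ne_one hF hm
    have hkk : (1 : F) + k ≠ 0 := fun e => hk1 (by
      rw [← neg_eq hF 1]; exact eq_neg_of_add_eq_zero_right e)
    have h1 : h 1 = 0 := by
      have e := hadd 1 (k : F)
      have e' := hk (Units.mk0 _ hkk)
      rw [Units.val_mk0] at e'
      rw [e', hk k] at e
      have hl : (k : F) + (k : F) ^ 2 ^ (m + 1) ≠ 0 := by
        intro he
        have h3' : (k : F) ^ 2 ^ (m + 1) = k := (eq_neg_of_add_eq_zero_right he).trans (neg_eq hF _)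
        have h4 := sg_sg hF (k : F)
        rw [h3', h3', sq] at h4
        exact hk1 ((mul_eq_left₀ k.ne_zero).1 h4.symm)
      rw [pow_succ ((1 : F) + k), add_pow_sg hF, one_pow, pow_succ] at e
      refine (mul_eq_zero.1 (show ((k : F) + (k : F) ^ 2 ^ (m + 1)) * h 1 = 0 from ?_)).resolve_left hl
      linear_combination e
    intro a
    rcases eq_or_ne a 0 with rfl | ha
    · exact h0
    · have := hk (Units.mk0 a ha)
      rwa [Units.val_mk0, h1, mul_zero] at this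
  have hU : ∀ a b, φ (tS hF a b) = tS hF a b := by
    intro a b
    have e0 : tS (m := m) hF a b = tS hF 0 b * tS hF a 0 := by
      rw [tS_mul hF]
      simp
    rw [e0, map_mul, hZ, hgh, hga, hh]
  have hpt : ∀ p ∈ Cfsg.suzukiOvoid F m, (MulAction.stabilizer (Cfsg.Sz F m) p).map φ.toMonoidHom =
      MulAction.stabilizer (Cfsg.Sz F m) p := by
    intro p hp
    rcases mem_ovoid.1 hp with rfl | ⟨x, y, rfl⟩
    · exact hφ.2.1
    · rw [← tS_pt hF x y, MulAction.stabilizer_smul_eq_stabilizer_map_conj, Subgroup.map_map]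
      conv_rhs => rw [show MulAction.stabilizer (Cfsg.Sz F m) (pt m (0 : F) 0) = sZero hF from rfl,
        ← hφ.2.2, Subgroup.map_map]
      refine congrArg (fun f => Subgroup.map f (sZero hF)) (MonoidHom.ext fun u => ?_)
      simp [MulAut.conj_apply, hU]
  refine MulEquiv.ext fun u => ?_
  refine Subtype.ext (ext_ovoid hF hm (φ u).2 u.2 fun p hp => ?_)
  refine stab_injective hF hm (smul_mem hF (φ u).2 hp) (smul_mem hF u.2 hp) (le_of_eq ?_)
  show MulAction.stabilizer (Cfsg.Sz F m) (φ u • p) = MulAction.stabilizer (Cfsg.Sz F m) (u • p)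
  conv_rhs => rw [← hpt (u • p) (smul_mem hF u.2 hp)]
  rw [MulAction.stabilizer_smul_eq_stabilizer_map_conj, MulAction.stabilizer_smul_eq_stabilizer_map_conj,
    Subgroup.map_map]
  conv_lhs => rw [← hpt p hp, Subgroup.map_map]
  refine congrArg (fun f => Subgroup.map f (MulAction.stabilizer (Cfsg.Sz F m) p)) (MonoidHom.ext fun v => ?_)
  simp [MulAut.conj_apply]

theorem decomp_aut (hm : 1 ≤ m) (φ : MulAut (Cfsg.Sz F m)) :
    ∃ (g : Cfsg.Sz F m) (σ : F ≃+* F), φ = MulAut.conj g * fieldAut hF hm σ := by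
  obtain ⟨g, hg⟩ := exists_isNormal hF hm φ
  obtain ⟨f, χ, hinj, hf, hχ, hadd, hscale⟩ := data hF hm hg
  have hf0 : f 0 = 0 := by simpa using hadd 0 0
  have hc0 : f 1 ≠ 0 := fun e => one_ne_zero (hinj (e.trans hf0.symm))
  have hmul : ∀ x y, f (x * y) * f 1 = f x * f y := by
    intro x y
    rcases eq_or_ne x 0 with rfl | hx
    · simp [hf0]
    · obtain ⟨k, hk⟩ : ∃ k : Fˣ, (k : F) ^ (2 ^ (m + 1) + 1) = x :=
        ⟨Units.mk0 _ (pow_ne_zero (2 ^ (m + 1) - 1) hx), (sg_add_one_left_inv hF x).1⟩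
      have h1 := hscale k y
      have h2 := hscale k 1
      rw [hk] at h1 h2
      rw [mul_one] at h2
      rw [h1, h2]
      ring
  let σh : F →+* F :=
    { toFun := fun x => f x / f 1
      map_one' := div_self hc0
      map_mul' := fun x y => by
        field_simp
        linear_combination hmul x y
      map_zero' := by rw [hf0, zero_div]
      map_add' := fun x y => by rw [hadd, add_div] }
  let σ : F ≃+* F := RingEquiv.ofBijective σh ((Finite.injective_iff_bijective).1 σh.injective)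
  have hσ : ∀ x, σ x = f x / f 1 := fun x => rfl
  obtain ⟨k, hk⟩ : ∃ k : Fˣ, (k : F) ^ (2 ^ (m + 1) + 1) = f 1 :=
    ⟨Units.mk0 _ (pow_ne_zero (2 ^ (m + 1) - 1) hc0), (sg_add_one_left_inv hF (f 1)).1⟩
  have hρ : IsNormal hF (MulAut.conj (dS hF k) * fieldAut hF hm σ) :=
    (isNormal_conj_dS hF hm k).mul hF (isNormal_fieldAut hF hm σ)
  have hfix : ∀ b, ((MulAut.conj (dS hF k) * fieldAut hF hm σ)⁻¹ * (MulAut.conj g * φ)) (tS hF 0 b) =
      tS hF 0 b := by
    intro b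
    rw [MulAut.mul_apply, hf, MulAut.inv_def, MulEquiv.symm_apply_eq, MulAut.mul_apply, fieldAut_tS,
      MulAut.conj_apply, dS_mul_tS hF hm, mul_inv_cancel_right, map_zero, mul_zero, hk, hσ,
      mul_div_cancel₀ _ hc0]
  have h := eq_one_of_fix hF hm ((hρ.inv hF).mul hF hg) hfix
  rw [inv_mul_eq_one] at h
  refine ⟨g⁻¹ * dS hF k, σ, ?_⟩
  rw [map_mul, map_inv, mul_assoc, h, inv_mul_cancel_left]

theorem inner_trivial (hm : 1 ≤ m) (σ : F ≃+* F) (g : Cfsg.Sz F m)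
    (h : fieldAut hF hm σ = MulAut.conj g) : σ = 1 := by
  obtain ⟨hU, hI, h0⟩ := isNormal_fieldAut hF hm σ
  rw [h] at hU hI h0
  have e1 : g • Cfsg.suzukiPointInfinity F = Cfsg.suzukiPointInfinity F := by
    refine stab_injective hF hm (smul_mem hF g.2 inf_mem) inf_mem (le_of_eq ?_)
    show MulAction.stabilizer (Cfsg.Sz F m) (g • Cfsg.suzukiPointInfinity F) = _
    rw [MulAction.stabilizer_smul_eq_stabilizer_map_conj]
    exact hI
  have e2 : g • pt m (0 : F) 0 = pt m 0 0 := by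
    refine stab_injective hF hm (smul_mem hF g.2 (pt_mem _ _)) (pt_mem _ _) (le_of_eq ?_)
    show MulAction.stabilizer (Cfsg.Sz F m) (g • pt m (0 : F) 0) = _
    rw [MulAction.stabilizer_smul_eq_stabilizer_map_conj]
    exact h0
  obtain ⟨k, rfl⟩ := eq_dS hF hm e1 e2
  have key : ∀ b, σ b = (k : F) ^ (2 ^ (m + 1) + 1) * b := by
    intro b
    have e := congrArg (fun φ : MulAut (Cfsg.Sz F m) => φ (tS hF 0 b)) h
    simp only [fieldAut_tS, MulAut.conj_apply] at e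
    rw [dS_mul_tS hF hm, mul_inv_cancel_right, map_zero, mul_zero] at e
    exact (tS_injective hF e).2
  refine RingEquiv.ext fun b => ?_
  have h1 := key 1
  rw [map_one, mul_one] at h1
  rw [key, ← h1, one_mul]
  rfl

theorem card_ringAut : Nat.card (F ≃+* F) = 2 * m + 1 := by
  haveI := charTwo hF
  haveI : Fact (Nat.Prime 2) := ⟨Nat.prime_two⟩
  letI : Algebra (ZMod 2) F := ZMod.algebra F 2
  let e : (F ≃+* F) ≃ (F ≃ₐ[ZMod 2] F) :=
    { toFun := fun σ => AlgEquiv.ofRingEquiv (f := σ) fun x =>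
        RingHom.congr_fun (Subsingleton.elim ((σ : F →+* F).comp (algebraMap (ZMod 2) F)) (algebraMap (ZMod 2) F)) x
      invFun := fun σ => σ.toRingEquiv
      left_inv := fun σ => RingEquiv.ext fun _ => rfl
      right_inv := fun σ => AlgEquiv.ext fun _ => rfl }
  rw [Nat.card_congr e, IsGalois.card_aut_eq_finrank]
  have h := Module.card_eq_pow_finrank (K := ZMod 2) (V := F)
  rw [hF, ZMod.card] at h
  exact (Nat.pow_right_injective le_rfl h).symm

theorem card_out (hm : 1 ≤ m) : Nat.card (Cfsg.Out (Cfsg.Sz F m)) = 2 * m + 1 := by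
  rw [← card_ringAut hF]
  refine (Nat.card_eq_of_bijective
    ((QuotientGroup.mk' (Cfsg.Inn (Cfsg.Sz F m))).comp (fieldAut hF hm)) ⟨?_, ?_⟩).symm
  · refine (injective_iff_map_eq_one _).2 fun σ hσ => ?_
    obtain ⟨g, hg⟩ := (QuotientGroup.eq_one_iff _).1 (show
      (QuotientGroup.mk (fieldAut hF hm σ) : Cfsg.Out (Cfsg.Sz F m)) = 1 from hσ)
    exact inner_trivial hF hm σ g hg.symm
  · intro x
    obtain ⟨φ, rfl⟩ := QuotientGroup.mk'_surjective _ x
    obtain ⟨g, σ, rfl⟩ := decomp_aut hF hm φ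
    refine ⟨σ, ?_⟩
    rw [MonoidHom.comp_apply, map_mul,
      show QuotientGroup.mk' (Cfsg.Inn (Cfsg.Sz F m)) (MulAut.conj g) = 1 from
        (QuotientGroup.eq_one_iff _).2 ⟨g, rfl⟩, one_mul]

theorem card_out_lie (hm : 1 ≤ m) : Nat.card (Cfsg.Out ↥(Cfsg.Lie.Sz F (2 ^ (m + 1)))) = 2 * m + 1 := by
  obtain ⟨e⟩ := lie_sz_equiv hF hm
  rw [← card_out hF hm]
  refine Nat.card_congr (QuotientGroup.congr _ _ (MulAut.congr e) ?_).toEquiv.symm
  ext φ
  constructor
  · rintro ⟨_, ⟨g, rfl⟩, rfl⟩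
    refine ⟨e g, MulEquiv.ext fun x => ?_⟩
    simp [MulAut.congr, MulAut.conj_apply]
  · rintro ⟨g, rfl⟩
    refine ⟨MulAut.conj (e.symm g), ⟨_, rfl⟩, MulEquiv.ext fun x => ?_⟩
    simp [MulAut.congr, MulAut.conj_apply]

end Cfsg.Agent.Small.SuzukiAut
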