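import Cfsg.Agent.Lib.Small.InvolutionsSp
import Cfsg.Agent.Lib.Classical.OrthReflect

/-!
# Quadratic forms with a common polar form in characteristic two

The Arf invariant as a character sum; transvections moving one form to another.
-/

set_option autoImplicit false
set_option linter.unusedSectionVars false

namespace Cfsg.Agent.Small.ArfTwo

open Module QuadraticMap Cfsg.Agent.Classical Cfsg.Agent.Classical.SpCount Cfsg.Agent.Small.InvolutionsSp
  Cfsg.Agent.Small.SymFormsTwo

variable {F : Type*} [Field F] [Fintype F] [CharP F 2]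

/-- Values of `x ↦ x² + x`. -/
def IsWp (z : F) : Prop := ∃ x : F, x ^ 2 + x = z

/-- The additive character with kernel the values of `x ↦ x² + x`. -/
noncomputable def psi (z : F) : ℤ := @ite ℤ (IsWp z) (_root_.Classical.propDecidable _) 1 (-1)

variable (F) in
/-- The map `x ↦ x² + x`. -/
def wp : F →+ F where
  toFun x := x ^ 2 + x
  map_zero' := by simp
  map_add' x y := by linear_combination (x * y) * (CharTwo.two_eq_zero (R := F))

theorem mem_wp {z : F} : z ∈ (wp F).range ↔ IsWp z := Iff.rfl

theorem index_wp : (wp F).range.index = 2 := by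
  classical
  have hk : Nat.card (wp F).ker = 2 := by
    rw [Nat.card_eq_two_iff]
    refine ⟨⟨0, by simp⟩, ⟨1, ?_⟩, ?_, ?_⟩
    · change (1 : F) ^ 2 + 1 = 0
      rw [one_pow, CharTwo.add_self_eq_zero]
    · exact fun h => zero_ne_one (congrArg Subtype.val h)
    · refine Set.eq_univ_of_forall fun ⟨x, hx⟩ => ?_
      have hx' : x ^ 2 + x = 0 := hx
      have h : x * (x - 1) = 0 := by linear_combination hx' - x * (CharTwo.two_eq_zero (R := F))
      rcases mul_eq_zero.1 h with h | h
      · exact Or.inl (Subtype.ext h)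
      · exact Or.inr (Subtype.ext (sub_eq_zero.1 h))
  have h1 := (wp F).ker.card_mul_index
  have h2 := (wp F).range.card_mul_index
  rw [AddSubgroup.index_ker, hk] at h1
  rw [← h1] at h2
  have hpos : 0 < Nat.card (wp F).range := Nat.card_pos
  exact Nat.eq_of_mul_eq_mul_left hpos (h2.trans (mul_comm _ _))

theorem psi_eq_one {z : F} : psi z = 1 ↔ IsWp z := by
  rw [psi]; split_ifs with h <;> simp [h]

theorem psi_or (z : F) : psi z = 1 ∨ psi z = -1 := by
  rw [psi]; split_ifs <;> simp

theorem psi_zero : psi (0 : F) = 1 := psi_eq_one.2 ⟨0, by simp⟩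

theorem psi_mul_self (z : F) : psi z * psi z = 1 := by
  rcases psi_or z with h | h <;> rw [h] <;> norm_num

theorem psi_add (a b : F) : psi (a + b) = psi a * psi b := by
  have h : IsWp (a + b) ↔ (IsWp a ↔ IsWp b) := by
    simp only [← mem_wp]
    exact AddSubgroup.add_mem_iff_of_index_two index_wp
  rw [psi, psi, psi]
  split_ifs <;> first | rfl | tauto

theorem psi_sq (a : F) : psi (a ^ 2) = psi a := by
  have h : psi (a ^ 2 + a) = 1 := psi_eq_one.2 ⟨a, rfl⟩
  rw [psi_add] at h
  linear_combination psi a * h - psi (a ^ 2) * psi_mul_self a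

theorem exists_psi : ∃ z : F, psi z = -1 := by
  by_contra! h
  have : (wp F).range = ⊤ := eq_top_iff.2 fun z _ => mem_wp.2 (psi_eq_one.1 ((psi_or z).resolve_right (h z)))
  have h2 := index_wp (F := F)
  rw [this, AddSubgroup.index_top] at h2
  omega

/-- A translation on which a character is `-1` kills the sum. -/
theorem sum_eq_zero {α : Type*} [AddGroup α] [Fintype α] (g : α → ℤ) (a : α) (h : ∀ x, g (x + a) = -g x) :
    ∑ x, g x = 0 := by
  have e := Equiv.sum_comp (Equiv.addRight a) g
  simp only [Equiv.coe_addRight, h, Finset.sum_neg_distrib] at e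
  omega

variable {V : Type*} [AddCommGroup V] [Module F V] (Q : QuadraticForm F V)

theorem isAltND (hQ : OCount.PND Q) : IsAltND (polarBilin Q) :=
  ⟨fun v => by rw [polarBilin_apply_apply, ORefl.polar_self_two, CharTwo.two_eq_zero, zero_mul],
    fun v hv => hQ v hv⟩

theorem q_add (x y : V) : Q (x + y) = Q x + Q y + polar Q x y := OCount.map_two x y

theorem q_smul (c : F) (x : V) : Q (c • x) = c ^ 2 * Q x := by
  rw [QuadraticMap.map_smul, smul_eq_mul, pow_two]

theorem polar_self (x : V) : polar Q x x = 0 := by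
  rw [ORefl.polar_self_two, CharTwo.two_eq_zero, zero_mul]

/-- The character sum of a quadratic form. -/
noncomputable def arf [Fintype V] : ℤ := ∑ x, psi (Q x)

theorem arf_shift [Fintype V] (a : V) (R : V → F) (hR : ∀ x, R x = Q x + polar Q a x ^ 2) :
    ∑ x, psi (R x) = psi (Q a) * arf Q := by
  have key : ∀ x, psi (R x) = psi (Q a) * psi (Q (x + a)) := fun x => by
    rw [hR, q_add Q, psi_add, psi_add, psi_add, psi_sq, polar_comm Q a x]
    linear_combination (-(psi (Q x) * psi (polar Q x a))) * psi_mul_self (Q a)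
  rw [Finset.sum_congr rfl fun x _ => key x, ← Finset.mul_sum, arf]
  exact congrArg _ (Equiv.sum_comp (Equiv.addRight a) fun x => psi (Q x))

theorem exists_psi_functional {g : V →ₗ[F] F} (hg : g ≠ 0) : ∃ x, psi (g x) = -1 := by
  obtain ⟨z, hz⟩ := exists_psi (F := F)
  obtain ⟨x, hx⟩ := (g.surjective_of_ne_zero hg) z
  exact ⟨x, by rw [hx, hz]⟩

theorem sum_psi_linear [Fintype V] {g : V →ₗ[F] F} (hg : g ≠ 0) : ∑ x, psi (g x) = 0 := by
  obtain ⟨x, hx⟩ := exists_psi_functional hg
  exact sum_eq_zero _ x fun y => by rw [map_add, psi_add, hx, mul_neg_one]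

theorem arf_sq [Fintype V] (hQ : OCount.PND Q) : arf Q * arf Q = Fintype.card V := by
  classical
  rw [arf, Finset.sum_mul_sum]
  have key : ∀ x : V, ∑ y, psi (Q x) * psi (Q y) = ∑ z, psi (Q z) * psi (polar Q z x) := fun x => by
    rw [← Equiv.sum_comp (Equiv.addRight x)]
    refine Finset.sum_congr rfl fun z _ => ?_
    rw [Equiv.coe_addRight, q_add Q z x, psi_add, psi_add]
    linear_combination (psi (Q z) * psi (polar Q z x)) * psi_mul_self (Q x)
  rw [Finset.sum_congr rfl fun x _ => key x, Finset.sum_comm, Finset.sum_eq_single (0 : V)]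
  · simp [psi_zero]
  · intro z _ hz
    rw [← Finset.mul_sum]
    have hne : polarBilin Q z ≠ 0 := fun h => hz (hQ z fun w => LinearMap.congr_fun h w)
    have := sum_psi_linear hne
    simp only [polarBilin_apply_apply] at this
    rw [this, mul_zero]
  · simp

theorem arf_ne_zero [Fintype V] (hQ : OCount.PND Q) : arf Q ≠ 0 := fun h => by
  have := arf_sq Q hQ
  rw [h, mul_zero] at this
  exact (Fintype.card_pos (α := V)).ne' (by exact_mod_cast this.symm)

theorem arf_eq_or [Fintype V] [FiniteDimensional F V] (hQ : OCount.PND Q) {m : ℕ} (hm : finrank F V = 2 * m) :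
    arf Q = (Fintype.card F : ℤ) ^ m ∨ arf Q = -(Fintype.card F : ℤ) ^ m := by
  refine sq_eq_sq_iff_eq_or_eq_neg.1 ?_
  rw [pow_two, arf_sq Q hQ, Module.card_eq_pow_finrank (K := F), hm, Nat.cast_pow]
  ring

theorem arf_of_ts [Fintype V] [FiniteDimensional F V] (hQ : OCount.PND Q) {m : ℕ} (hm : finrank F V = 2 * m)
    (U : Submodule F V) (hU : ∀ u ∈ U, Q u = 0) (hUd : finrank F U = m) :
    arf Q = (Fintype.card F : ℤ) ^ m := by
  classical
  have horth : LinearMap.BilinForm.orthogonal Q.polarBilin U = U :=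
    (Submodule.eq_of_le_of_finrank_eq (Witt.le_orth Q hU)
      (by rw [LinearMap.BilinForm.finrank_orthogonal (ORefl.nondeg hQ)]; omega)).symm
  have h1 : ∀ x : V, ∑ u : U, psi (Q (x + u)) = if x ∈ U then (Fintype.card U : ℤ) else 0 := fun x => by
    have e : ∀ u : U, psi (Q (x + u)) = psi (Q x) * psi (((polarBilin Q x).domRestrict U) u) := fun u => by
      rw [q_add Q, hU u u.2, add_zero, psi_add]; rfl
    rw [Finset.sum_congr rfl fun u _ => e u, ← Finset.mul_sum]
    split_ifs with hx
    · have h0 : ∀ u : U, ((polarBilin Q x).domRestrict U) u = 0 := fun u =>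
        Witt.le_orth Q hU u.2 x hx
      simp [h0, psi_zero, hU x hx]
    · have hne : (polarBilin Q x).domRestrict U ≠ 0 := fun h => hx (by
        rw [← horth]
        intro u hu
        change polar Q u x = 0
        rw [polar_comm]
        exact LinearMap.congr_fun h ⟨u, hu⟩)
      rw [sum_psi_linear hne, mul_zero]
  have h2 : ∑ u : U, ∑ x : V, psi (Q (x + u)) = Fintype.card U * arf Q := by
    have e : ∀ u : U, ∑ x : V, psi (Q (x + u)) = arf Q := fun u =>
      Equiv.sum_comp (Equiv.addRight (u : V)) fun x => psi (Q x)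
    rw [Finset.sum_congr rfl fun u _ => e u, Finset.sum_const, Finset.card_univ, nsmul_eq_mul]
  rw [Finset.sum_comm, Finset.sum_congr rfl fun x _ => h1 x, Finset.sum_ite, Finset.sum_const_zero, add_zero,
    Finset.sum_const, nsmul_eq_mul] at h2
  have hcard : ((Finset.univ.filter fun x : V => x ∈ U).card : ℤ) = (Fintype.card F : ℤ) ^ m := by
    rw [← Fintype.card_subtype, ← Nat.cast_pow, ← hUd, ← Module.card_eq_pow_finrank (K := F) (V := U)]
  rw [hcard] at h2
  have hpos : (Fintype.card U : ℤ) ≠ 0 := by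
    exact_mod_cast (Fintype.card_pos (α := U)).ne'
  exact mul_left_cancel₀ hpos (h2.symm.trans (mul_comm _ _))

/-- An additive map which is quadratic in scalars is the square of a linear one. -/
theorem exists_vec [FiniteDimensional F V] (hQ : OCount.PND Q) (D : V → F) (hadd : ∀ x y, D (x + y) = D x + D y)
    (hsmul : ∀ (c : F) x, D (c • x) = c ^ 2 * D x) : ∃ g : V →ₗ[F] F, (∀ x, g x ^ 2 = D x) ∧
      ∃ a, ∀ x, polar Q a x = g x := by
  have hr : ∀ a : F, (frobeniusEquiv F 2).symm a ^ 2 = a := frobeniusEquiv_symm_pow_p F 2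
  obtain ⟨g, hg⟩ : ∃ g : V →ₗ[F] F, ∀ x, g x ^ 2 = D x :=
    ⟨{ toFun := fun x => (frobeniusEquiv F 2).symm (D x)
       map_add' := fun x y => by rw [hadd, map_add]
       map_smul' := fun c x => sq_inj (by simp [hsmul, mul_pow, hr]) }, fun x => hr _⟩
  exact ⟨g, hg, ORefl.exists_polar hQ g⟩

/-- Every form with the same polar form is a translate. -/
theorem exists_shift [FiniteDimensional F V] (hQ : OCount.PND Q) (R : V → F)
    (hp : ∀ x y, R (x + y) = R x + R y + polar Q x y) (hs : ∀ (c : F) x, R (c • x) = c ^ 2 * R x) :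
    ∃ a, ∀ x, R x = Q x + polar Q a x ^ 2 := by
  obtain ⟨g, hg, a, ha⟩ := exists_vec Q hQ (fun x => R x + Q x)
    (fun x y => by
      rw [hp, q_add Q]
      linear_combination (polar Q x y) * (CharTwo.two_eq_zero (R := F)))
    (fun c x => by rw [hs, q_smul Q]; ring)
  refine ⟨a, fun x => ?_⟩
  rw [ha, hg]
  linear_combination (-(Q x)) * (CharTwo.two_eq_zero (R := F))

/-- A transvection moving a form to a translate by an Arf-trivial vector. -/
theorem exists_tv (a : V) (ha : IsWp (Q a)) : ∃ T : V ≃ₗ[F] V,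
    (∀ x, T (T x) = x) ∧ (∀ x y, polar Q (T x) (T y) = polar Q x y) ∧
    (∀ x, Q (T x) = Q x + polar Q a x ^ 2) ∧
    ∀ N : V →ₗ[F] V, Invol (polarBilin Q) N → N a = 0 → ∀ x, T (N x) = N (T x) := by
  obtain ⟨c, hc⟩ : ∃ c : F, c ^ 2 * Q a + c = 1 := by
    by_cases h0 : Q a = 0
    · exact ⟨1, by rw [h0]; ring⟩
    · obtain ⟨μ, hμ⟩ := ha
      refine ⟨μ / Q a, ?_⟩
      field_simp
      linear_combination hμ
  obtain ⟨T0, hT0⟩ : ∃ T0 : V →ₗ[F] V, ∀ x, T0 x = x + (c * polar Q a x) • a :=
    ⟨LinearMap.id + (c • polarBilin Q a).smulRight a, fun x => by simp⟩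
  have hinv : Function.Involutive T0 := fun x => by
    rw [hT0, hT0, polar_add_right, polar_smul_right, polar_self, smul_zero, add_zero, add_assoc, ← add_smul,
      CharTwo.add_self_eq_zero, zero_smul, add_zero]
  have hq : ∀ x, Q (T0 x) = Q x + polar Q a x ^ 2 := fun x => by
    rw [hT0, q_add Q, q_smul Q, polar_smul_right, smul_eq_mul, polar_comm Q x a]
    linear_combination polar Q a x ^ 2 * hc
  refine ⟨LinearEquiv.ofInvolutive T0 hinv, hinv, fun x y => ?_, hq, fun N hN hNa x => ?_⟩
  · change polar Q (T0 x) (T0 y) = polar Q x y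
    simp only [hT0, polar_add_left, polar_add_right, polar_smul_left, polar_smul_right, polar_self, smul_eq_mul,
      polar_comm Q x a]
    linear_combination (c * polar Q a x * polar Q a y) * (CharTwo.two_eq_zero (R := F))
  · change T0 (N x) = N (T0 x)
    have h : polar Q a (N x) = 0 := by
      have := hN.adj a x
      rw [polarBilin_apply_apply, polarBilin_apply_apply, hNa] at this
      rw [← this, polar_zero_left]
    rw [hT0, hT0, h, map_add, map_smul, hNa, smul_zero, mul_zero, zero_smul]

/-- Forms with the same polar form and the same character sum are isometric. -/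
theorem exists_iso [Fintype V] [FiniteDimensional F V] (hQ : OCount.PND Q) (R : V → F)
    (hp : ∀ x y, R (x + y) = R x + R y + polar Q x y) (hs : ∀ (c : F) x, R (c • x) = c ^ 2 * R x)
    (ha : ∑ x, psi (R x) = arf Q) :
    ∃ T : V ≃ₗ[F] V, (∀ x y, polar Q (T x) (T y) = polar Q x y) ∧ ∀ x, Q (T x) = R x := by
  obtain ⟨a, hR⟩ := exists_shift Q hQ R hp hs
  have hwp : IsWp (Q a) := by
    rw [← psi_eq_one]
    rw [arf_shift Q a R hR] at ha
    exact mul_right_cancel₀ (arf_ne_zero Q hQ) (ha.trans (one_mul _).symm)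
  obtain ⟨T, -, h1, h2, -⟩ := exists_tv Q a hwp
  exact ⟨T, h1, fun x => (h2 x).trans (hR x).symm⟩

end Cfsg.Agent.Small.ArfTwo
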