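import Cfsg.Agent.Lib.Small.AltMultiplier
import Cfsg.Agent.Lib.Small.Order360
import Cfsg.Agent.Lib.Solv.Universal
import Cfsg.Agent.Lib.Solv.StabCocycle
import Cfsg.Agent.Lib.Lead.QP.Parts
import Cfsg.Agent.Lib.Classical.Dickson.Tools

/-!
The Schur multipliers of alternating groups of degree six and seven, and of SL(2,9).
-/

set_option autoImplicit false

open scoped commutatorElement

namespace Cfsg.Agent.Small.SL2Nine

universe u

/-- Degree six and seven. -/
theorem alt (n : ℕ) (hn : n = 6 ∨ n = 7) : Cfsg.HasCyclicSchurMultiplier (alternatingGroup (Fin n)) 6 := by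
  rcases hn with rfl | rfl
  · exact Solv.hasCyclicSchur_of AltMultiplier.cover_six fun Γ _ _ σ hσ => AltMultiplier.bound_six σ hσ
  · exact Solv.hasCyclicSchur_of ⟨_, inferInstance, inferInstance, AltCover.phi, AltMultiplier.cover_seven⟩
      fun Γ _ _ σ hσ => AltMultiplier.bound_seven σ hσ

/-- A perfect finite group whose quotient by a central kernel is isomorphic to the alternating group of degree six. -/
theorem of_quotient {L Q : Type u} [Group L] [Finite L] [Group Q] [Finite Q] (π : L →* Q)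
    (hπ : Function.Surjective π) (hperf : commutator L = ⊤) (hker : π.ker ≤ Subgroup.center L)
    (hk2 : Nat.card π.ker = 2) (e : Q ≃* alternatingGroup (Fin 6)) : Cfsg.HasCyclicSchurMultiplier L 3 := by
  classical
  have hQ : Group.IsPerfect Q := ⟨by
    rw [commutator_def, ← Subgroup.map_top_of_surjective π hπ, ← Subgroup.map_commutator, ← commutator_def, hperf]⟩
  -- stem extensions of `L` are stem extensions of `Q`
  have hbound : ∀ (Γ : Type u) [Group Γ] [Finite Γ] (σ : Γ →* L), Cfsg.IsStemExtension σ →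
      ∃ g : σ.ker, g ^ 3 = 1 ∧ ∀ k : σ.ker, k ∈ Subgroup.zpowers g := by
    intro Γ _ _ σ hσ
    obtain ⟨hs, hc, hd⟩ := hσ
    have hperfΓ : commutator Γ = ⊤ := by
      refine top_le_iff.1 fun x _ => ?_
      have hx : σ x ∈ (commutator Γ).map σ := by
        rw [commutator_def, Subgroup.map_commutator, Subgroup.map_top_of_surjective σ hs, ← commutator_def, hperf]
        exact Subgroup.mem_top _
      obtain ⟨y, hy, hxy⟩ := hx
      rw [← mul_inv_cancel_left y x]
      exact mul_mem hy (hd (by rw [MonoidHom.mem_ker, map_mul, map_inv, hxy, inv_mul_cancel]))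
    have hcent : ∀ x : Γ, σ x ∈ π.ker → x ∈ Subgroup.center Γ := by
      intro x hx
      have hx' := hker hx
      have hcom : ∀ g : Γ, ⁅x, g⁆ ∈ Subgroup.center Γ := fun g => hc (by
        rw [MonoidHom.mem_ker, map_commutatorElement, commutatorElement_eq_one_iff_mul_comm]
        exact (Subgroup.mem_center_iff.1 hx' (σ g)).symm)
      let f : Γ →* Subgroup.center Γ := MonoidHom.mk' (fun g => ⟨⁅x, g⁆, hcom g⟩) fun g h => Subtype.ext (by
        show ⁅x, g * h⁆ = ⁅x, g⁆ * ⁅x, h⁆
        rw [show ⁅x, g * h⁆ = ⁅x, g⁆ * (g * ⁅x, h⁆ * g⁻¹) by simp only [commutatorElement_def]; group,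
          Subgroup.mem_center_iff.1 (hcom h) g, mul_inv_cancel_right])
      have hle : commutator Γ ≤ f.ker := by
        rw [commutator_def, Subgroup.commutator_le]
        intro a _ b _
        rw [MonoidHom.mem_ker, map_commutatorElement, commutatorElement_eq_one_iff_mul_comm]
        exact Subtype.ext (Subgroup.mem_center_iff.1 (f b).2 _)
      refine Subgroup.mem_center_iff.2 fun g => ?_
      have := congrArg Subtype.val (hle (hperfΓ ▸ Subgroup.mem_top g) : f g = 1)
      exact (commutatorElement_eq_one_iff_mul_comm.1 this).symm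
    obtain ⟨τ, hτ⟩ : ∃ τ : Γ →* alternatingGroup (Fin 6), τ = (e.toMonoidHom.comp π).comp σ := ⟨_, rfl⟩
    have hτker : ∀ x, x ∈ τ.ker ↔ σ x ∈ π.ker := fun x => by
      rw [hτ, MonoidHom.mem_ker, MonoidHom.mem_ker, MonoidHom.comp_apply, MonoidHom.comp_apply,
        MulEquiv.coe_toMonoidHom, EmbeddingLike.map_eq_one_iff]
    have hτs : Cfsg.IsStemExtension τ :=
      ⟨hτ ▸ (e.surjective.comp hπ).comp hs, fun x hx => hcent x ((hτker x).1 hx), by rw [hperfΓ]; exact le_top⟩
    obtain ⟨g, hg6, hgen⟩ := AltMultiplier.bound_six τ hτs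
    have hle : σ.ker ≤ τ.ker := fun x hx => (hτker x).2 (by rw [MonoidHom.mem_ker.1 hx]; exact one_mem _)
    haveI : IsCyclic τ.ker := ⟨g, hgen⟩
    haveI : IsCyclic σ.ker := isCyclic_of_injective (Subgroup.inclusion hle) (Subgroup.inclusion_injective hle)
    obtain ⟨h, hh⟩ := IsCyclic.exists_generator (α := σ.ker)
    refine ⟨h, orderOf_dvd_iff_pow_eq_one.1 ((orderOf_dvd_natCard h).trans ?_), hh⟩
    have h6 : Nat.card τ.ker ∣ 6 := by
      rw [← orderOf_eq_card_of_forall_mem_zpowers hgen]
      exact orderOf_dvd_of_pow_eq_one hg6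
    let ρ : τ.ker →* π.ker := (σ.comp τ.ker.subtype).codRestrict π.ker fun x => (hτker x).1 x.2
    have hρ : Function.Surjective ρ := fun y => by
      obtain ⟨x, hx⟩ := hs y
      exact ⟨⟨x, (hτker x).2 (hx ▸ y.2)⟩, Subtype.ext hx⟩
    have hc' : Nat.card τ.ker = Nat.card σ.ker * 2 := by
      rw [Subgroup.card_eq_card_quotient_mul_card_subgroup ρ.ker,
        Nat.card_congr (QuotientGroup.quotientKerEquivOfSurjective ρ hρ).toEquiv, hk2, mul_comm]
      congr 1
      exact Nat.card_congr
        { toFun := fun x => ⟨((x : τ.ker) : Γ), congrArg Subtype.val (x.2 : ρ x.1 = 1)⟩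
          invFun := fun x => ⟨⟨x, hle x.2⟩, Subtype.ext x.2⟩
          left_inv := fun _ => rfl
          right_inv := fun _ => rfl }
    rw [hc', show (6 : ℕ) = 3 * 2 by norm_num] at h6
    exact Nat.dvd_of_mul_dvd_mul_right two_pos h6
  refine Solv.hasCyclicSchur_of ?_ hbound
  -- the universal cover
  obtain ⟨G, i1, i2, p, hG, hp, hpc, huniv⟩ := Solv.exists_universal hQ
  obtain ⟨X, j1, j2, ξ, ⟨hξs, hξc, hξd⟩, ⟨eξ⟩⟩ := AltMultiplier.cover_six
  letI := j1
  let ξ' : ULift.{u} X →* Q := (e.symm.toMonoidHom.comp ξ).comp MulEquiv.ulift.toMonoidHom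
  have hξ's : Function.Surjective ξ' := (e.symm.surjective.comp hξs).comp MulEquiv.ulift.surjective
  have hξ'k : ∀ x, x ∈ ξ'.ker ↔ ULift.down x ∈ ξ.ker := fun x => by
    rw [MonoidHom.mem_ker, MonoidHom.mem_ker]
    show e.symm (ξ x.down) = 1 ↔ _
    rw [EmbeddingLike.map_eq_one_iff]
  have hξ'c : ξ'.ker ≤ Subgroup.center (ULift.{u} X) := fun x hx => Subgroup.mem_center_iff.2 fun g =>
    ULift.ext _ _ (Subgroup.mem_center_iff.1 (hξc ((hξ'k x).1 hx)) g.down)
  obtain ⟨μ, hμ, -⟩ := huniv (ULift.{u} X) ξ' hξ's hξ'c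
  obtain ⟨η, hη, -⟩ := huniv L π hπ hker
  have hsur : ∀ {Y : Type u} [Group Y] (ψ : Y →* Q) (f : G →* Y), ψ.ker ≤ Subgroup.center Y → ψ.comp f = p →
      commutator Y ≤ f.range := by
    intro Y _ ψ f hψ hf
    rw [commutator_def, Subgroup.commutator_le]
    intro x _ y _
    have key : ∀ x : Y, ∃ a : G, ∃ c ∈ Subgroup.center Y, x = f a * c := fun x => by
      obtain ⟨a, ha⟩ := hp (ψ x)
      refine ⟨a, (f a)⁻¹ * x, hψ ?_, by group⟩
      rw [MonoidHom.mem_ker, map_mul, map_inv, ← MonoidHom.comp_apply ψ f, hf, ha, inv_mul_cancel]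
    obtain ⟨a, c, hc, rfl⟩ := key x
    obtain ⟨b, d, hd, rfl⟩ := key y
    refine ⟨⁅a, b⁆, ?_⟩
    rw [map_commutatorElement]
    exact (Solv.StabCocycle.comm_central (fun g => (Subgroup.mem_center_iff.1 hc g).symm)
      (fun g => (Subgroup.mem_center_iff.1 hd g).symm)).symm
  have hηs : Function.Surjective η := by
    rw [← MonoidHom.range_eq_top, ← top_le_iff, ← hperf]
    exact hsur π η hker hη
  have hstem : Cfsg.IsStemExtension η := ⟨hηs, fun x hx => hpc (by
      rw [MonoidHom.mem_ker, ← hη, MonoidHom.comp_apply, MonoidHom.mem_ker.1 hx, map_one]),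
    by rw [hG.commutator_eq_top]; exact le_top⟩
  obtain ⟨g, hg3, hgen⟩ := hbound G η hstem
  refine ⟨G, i1, i2, η, hstem, ?_⟩
  haveI : IsCyclic η.ker := ⟨g, hgen⟩
  have hdvd : Nat.card η.ker ∣ 3 := by
    rw [← orderOf_eq_card_of_forall_mem_zpowers hgen]
    exact orderOf_dvd_of_pow_eq_one hg3
  have hcard : Nat.card η.ker = 3 := by
    refine Nat.dvd_antisymm hdvd ?_
    have h6 : Nat.card ξ'.ker = 6 := by
      rw [Nat.card_congr (Equiv.subtypeEquiv Equiv.ulift hξ'k), Nat.card_congr eξ.toEquiv]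
      simp
    have hle : ξ'.ker ≤ p.ker.map μ := by
      intro x hx
      have hxd : x ∈ commutator (ULift.{u} X) := by
        have h1 := hξd ((hξ'k x).1 hx)
        have h2 := Subgroup.mem_map_of_mem (MulEquiv.ulift.symm : X ≃* ULift.{u} X).toMonoidHom h1
        rw [commutator_def, Subgroup.map_commutator, Subgroup.map_top_of_surjective _
          (MulEquiv.ulift.symm : X ≃* ULift.{u} X).surjective, ← commutator_def] at h2
        exact h2
      obtain ⟨a, ha⟩ := hsur ξ' μ hξ'c hμ hxd
      refine ⟨a, ?_, ha⟩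
      show a ∈ p.ker
      rw [MonoidHom.mem_ker, ← hμ, MonoidHom.comp_apply, ha]
      exact hx
    have h1 : 6 ≤ Nat.card p.ker := by
      rw [← h6]
      exact (Subgroup.card_le_of_le hle).trans (Nat.card_le_card_of_surjective _
        (Set.surjective_mapsTo_image_restrict μ (p.ker : Set G)))
    have h2 : Nat.card p.ker ≤ Nat.card η.ker * 2 := by
      let ρ : p.ker →* π.ker := (η.comp p.ker.subtype).codRestrict π.ker fun x => by
        show π (η x) = 1
        rw [← MonoidHom.comp_apply, hη]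
        exact x.2
      rw [Subgroup.card_eq_card_quotient_mul_card_subgroup ρ.ker,
        Nat.card_congr (QuotientGroup.quotientKerEquivRange ρ).toEquiv, mul_comm]
      refine Nat.mul_le_mul ?_ (hk2 ▸ Subgroup.card_le_card_group ρ.range)
      exact Nat.card_le_card_of_injective
        (fun x => (⟨((x : p.ker) : G), congrArg Subtype.val (x.2 : ρ x.1 = 1)⟩ : η.ker))
        fun x y h => Subtype.ext (Subtype.ext (congrArg (fun z : η.ker => (z : G)) h))
    have h3 : Nat.card η.ker = 1 ∨ Nat.card η.ker = 3 := (Nat.dvd_prime Nat.prime_three).1 hdvd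
    rcases h3 with h3 | h3
    · omega
    · rw [h3]
  exact ⟨(zmodCyclicMulEquiv (G := η.ker) inferInstance).symm.trans
    (by rw [hcard])⟩

/-- SL(2,9). -/
theorem sl_two_nine {F : Type u} [Field F] [Fintype F] (hF : Fintype.card F = 9) :
    Cfsg.HasCyclicSchurMultiplier (Matrix.SpecialLinearGroup (Fin 2) F) 3 := by
  classical
  haveI : IsSimpleGroup (Matrix.ProjectiveSpecialLinearGroup (Fin 2) F) :=
    Matrix.ProjectiveSpecialLinearGroup.rank_two_simple (by rw [Nat.card_eq_fintype_card, hF]; norm_num)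
  haveI : Finite (Matrix.SpecialLinearGroup (Fin 2) F) := Subtype.finite
  have hcard : Nat.card (Matrix.ProjectiveSpecialLinearGroup (Fin 2) F) = 360 := by
    have := Classical.Dickson.card_psl F
    rw [hF, show Nat.gcd 2 (9 - 1) = 2 from rfl, show 9 * (9 ^ 2 - 1) = 720 from rfl] at this
    omega
  haveI : IsSimpleGroup (alternatingGroup (Fin 6)) := alternatingGroup.isSimpleGroup (by simp)
  obtain ⟨e⟩ := Order360.iso hcard AltMultiplier.card_alt_six
  have h2 : (2 : F) ≠ 0 := fun h => by
    have h1 := Classical.Dickson.gcd_eq_one_of_even h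
    rw [hF] at h1
    norm_num at h1
  refine of_quotient (QuotientGroup.mk' (Subgroup.center (Matrix.SpecialLinearGroup (Fin 2) F)))
    (QuotientGroup.mk'_surjective _) ?_ (by rw [QuotientGroup.ker_mk']) ?_ e
  · refine Cfsg.Agent.Lead.QP.sl2_commutator_top ?_
    obtain ⟨g, hg⟩ := IsCyclic.exists_ofOrder_eq_natCard (α := Fˣ)
    refine ⟨g, g.ne_zero, fun h => ?_⟩
    have h' : g ^ 2 = 1 := Units.ext (by simpa using h)
    have := Nat.le_of_dvd two_pos (orderOf_dvd_of_pow_eq_one h')
    rw [hg, Nat.card_units, Nat.card_eq_fintype_card, hF] at this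
    norm_num at this
  · rw [QuotientGroup.ker_mk']
    rw [Nat.card_congr Matrix.SpecialLinearGroup.center_equiv_rootsOfUnity.toEquiv]
    simp only [Fintype.card_fin]
    rw [show Nat.card (rootsOfUnity (max 2 1) F) = Nat.card (rootsOfUnity 2 F) by norm_num]
    have hne : (-1 : F) ≠ 1 := fun h => h2 (by linear_combination (-1 : F) * h)
    exact (IsPrimitiveRoot.mk_of_lt (-1 : F) two_pos (by norm_num) (fun l hl hl2 => by
      obtain rfl : l = 1 := by omega
      simpa using hne)).card_rootsOfUnity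

end Cfsg.Agent.Small.SL2Nine
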