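import Mathlib

/-!
The group SL₂(3).
-/

set_option autoImplicit false

namespace Cfsg.Agent.Small.SL2Three

open Subgroup
open scoped MatrixGroups

abbrev S := Matrix.SpecialLinearGroup (Fin 2) (ZMod 3)

theorem card_S : Nat.card S = 24 := by
  rw [Nat.card_eq_fintype_card]
  decide +kernel

def I : S := ⟨!![0, 1; 2, 0], by decide⟩
def K : S := ⟨!![1, 1; 1, 2], by decide⟩

theorem pow_four_mul : ∀ a b : S, a ^ 4 = 1 → b ^ 4 = 1 → (a * b) ^ 4 = 1 := by decide +kernel

theorem pow_four_inv : ∀ a : S, a ^ 4 = 1 → a⁻¹ ^ 4 = 1 := by decide +kernel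

def Q : Subgroup S where
  carrier := {a | a ^ 4 = 1}
  one_mem' := one_pow 4
  mul_mem' ha hb := pow_four_mul _ _ ha hb
  inv_mem' ha := pow_four_inv _ ha

instance : DecidablePred (· ∈ Q) := fun a => inferInstanceAs (Decidable (a ^ 4 = 1))

theorem commutatorElement_mem : ∀ a b : S, (a * b * a⁻¹ * b⁻¹) ^ 4 = 1 := by decide +kernel

theorem exists_commutator : ∀ c : S, c ^ 4 = 1 → ∃ a b : S, a * b * a⁻¹ * b⁻¹ = c := by
  decide +kernel

theorem commutator_eq : commutator S = Q := by
  refine le_antisymm ?_ ?_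
  · rw [commutator_def, commutator_le]
    exact fun a _ b _ => commutatorElement_mem a b
  · intro c hc
    obtain ⟨a, b, hab⟩ := exists_commutator c hc
    exact hab ▸ commutator_mem_commutator (mem_top a) (mem_top b)

theorem card_Q : Nat.card Q = 8 := by
  rw [Nat.card_eq_fintype_card]
  decide +kernel

/-- The map from the quaternion group. -/
def quat : QuaternionGroup 2 → S
  | .a i => I ^ i.val
  | .xa i => K * I ^ i.val

theorem quat_mul : ∀ x y : QuaternionGroup 2, quat (x * y) = quat x * quat y := by decide +kernel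

theorem quat_inj : Function.Injective quat := by decide +kernel

theorem quat_mem : ∀ x : QuaternionGroup 2, quat x ^ 4 = 1 := by decide +kernel

noncomputable def quatHom : QuaternionGroup 2 →* Q :=
  MonoidHom.mk' (fun x => ⟨quat x, quat_mem x⟩) fun x y => Subtype.ext (quat_mul x y)

theorem nonempty_quat : Nonempty (commutator S ≃* QuaternionGroup 2) := by
  have hinj : Function.Injective quatHom := fun x y h => quat_inj (congrArg Subtype.val h)
  have hbij : Function.Bijective quatHom := by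
    refine hinj.bijective_of_nat_card_le ?_
    rw [card_Q, Nat.card_eq_fintype_card, QuaternionGroup.card]
  exact ⟨(MulEquiv.subgroupCongr commutator_eq).trans (MulEquiv.ofBijective quatHom hbij).symm⟩

theorem mem_center_iff' : ∀ a : S, (∀ b : S, b * a = a * b) ↔ a = 1 ∨ a = -1 := by decide +kernel

theorem card_center : Nat.card (center S) = 2 := by
  have h : (center S : Set S) = {1, -1} := by
    ext a
    rw [SetLike.mem_coe, mem_center_iff, mem_center_iff', Set.mem_insert_iff, Set.mem_singleton_iff]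
  have h2 : ({1, -1} : Set S).ncard = 2 := Set.ncard_pair (by decide)
  rw [← Nat.card_coe_set_eq] at h2
  exact (Nat.card_congr (Equiv.setCongr h)).trans h2

theorem conj_products : ∀ g : S, g ^ 4 = 1 → g ≠ 1 → g ≠ -1 → ∀ c : S, c ^ 4 = 1 →
    ∃ a b : S, c = a * g * a⁻¹ * (b * g * b⁻¹) ∨ c = a * g * a⁻¹ := by decide +kernel

theorem commutator_noncentral : ∀ g : S, g ^ 4 ≠ 1 →
    ∃ h : S, (g * h * g⁻¹ * h⁻¹) ^ 4 = 1 ∧ g * h * g⁻¹ * h⁻¹ ≠ 1 ∧ g * h * g⁻¹ * h⁻¹ ≠ -1 := by
  decide +kernel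

theorem normal_cases (N : Subgroup S) (hN : N.Normal) :
    N = ⊥ ∨ N = ⊤ ∨ N = center S ∨ N = commutator S := by
  by_cases hsmall : ∀ g ∈ N, g = 1 ∨ g = -1
  · have hle : N ≤ center S := fun g hg => mem_center_iff.2 ((mem_center_iff' g).2 (hsmall g hg))
    rcases (Nat.dvd_prime Nat.prime_two).1 (card_center ▸ card_dvd_of_le hle) with h | h
    · exact Or.inl (eq_bot_of_card_eq _ h)
    · exact Or.inr (Or.inr (Or.inl (eq_of_le_of_card_ge hle (by rw [h, card_center]))))
  push Not at hsmall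
  obtain ⟨g, hg, hg1, hg2⟩ := hsmall
  obtain ⟨g', hg', h4, hg1', hg2'⟩ : ∃ g' ∈ N, g' ^ 4 = 1 ∧ g' ≠ 1 ∧ g' ≠ -1 := by
    by_cases h4 : g ^ 4 = 1
    · exact ⟨g, hg, h4, hg1, hg2⟩
    obtain ⟨h, hh⟩ := commutator_noncentral g h4
    refine ⟨_, ?_, hh⟩
    rw [show g * h * g⁻¹ * h⁻¹ = g * (h * g⁻¹ * h⁻¹) by group]
    exact mul_mem hg (hN.conj_mem _ (inv_mem hg) h)
  have hQ : Q ≤ N := by
    intro c hc
    obtain ⟨a, b, h | h⟩ := conj_products g' h4 hg1' hg2' c hc
    · exact h ▸ mul_mem (hN.conj_mem _ hg' a) (hN.conj_mem _ hg' b)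
    · exact h ▸ hN.conj_mem _ hg' a
  obtain ⟨k, hk⟩ := card_dvd_of_le hQ
  have hd : Nat.card N ∣ 24 := card_S ▸ card_subgroup_dvd_card N
  rw [card_Q] at hk
  rw [hk, show 24 = 8 * 3 by rfl, Nat.mul_dvd_mul_iff_left (by norm_num)] at hd
  rcases (Nat.dvd_prime Nat.prime_three).1 hd with rfl | rfl
  · exact Or.inr (Or.inr (Or.inr (commutator_eq ▸ (eq_of_le_of_card_ge hQ (by rw [hk, card_Q])).symm)))
  · exact Or.inr (Or.inl (eq_top_of_card_eq _ (by rw [hk, card_S])))

theorem complement (P : Sylow 3 S) : IsComplement' (commutator S) (P : Subgroup S) := by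
  haveI : Fact (Nat.Prime 3) := ⟨Nat.prime_three⟩
  have hP : Nat.card (P : Subgroup S) = 3 := by
    rw [P.card_eq_multiplicity, card_S,
      show (24 : ℕ).factorization 3 = 1 by
        rw [show (24 : ℕ) = 8 * 3 by rfl, Nat.factorization_mul (by norm_num) (by norm_num)]
        simp [Nat.factorization_eq_zero_of_not_dvd, Nat.prime_three.factorization_self]]
    norm_num
  refine isComplement'_of_card_mul_and_disjoint ?_ ?_
  · rw [commutator_eq, card_Q, hP, card_S]
  · rw [commutator_eq, disjoint_iff]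
    exact inf_eq_bot_of_coprime (by rw [card_Q, hP]; norm_num)

end Cfsg.Agent.Small.SL2Three
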