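import Mathlib
import Cfsg.Prelude.Def_Classical
import Cfsg.Prelude.Def_Sporadic

/-!
Element orders of alternating groups and the orders of the alternating and sporadic groups.
-/

set_option autoImplicit false

namespace Cfsg.Agent.Small.AltOrders

open Equiv

theorem parity_one_even {m : Multiset ℕ} (h : ∀ a ∈ m, a % 2 = 1) :
    (m.sum + Multiset.card m) % 2 = 0 := by
  induction m using Multiset.induction_on with
  | empty => simp
  | cons a s ih =>
    have ha := h a (Multiset.mem_cons_self a s)
    have := ih fun b hb => h b (Multiset.mem_cons_of_mem hb)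
    rw [Multiset.sum_cons, Multiset.card_cons]
    omega

theorem sum_ge_two {m : Multiset ℕ} {a b : ℕ} (ha : a ∈ m) (hb : b ∈ m.erase a) : a + b ≤ m.sum := by
  rw [← Multiset.cons_erase ha, Multiset.sum_cons]
  exact Nat.add_le_add_left (Multiset.le_sum_of_mem hb) a

theorem sum_ge_three {m : Multiset ℕ} {a b c : ℕ} (ha : a ∈ m) (hb : b ∈ m.erase a)
    (hc : c ∈ (m.erase a).erase b) : a + b + c ≤ m.sum := by
  rw [← Multiset.cons_erase ha, Multiset.sum_cons, add_assoc]
  exact Nat.add_le_add_left (sum_ge_two hb hc) a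

theorem prime_dvd_lcm {p : ℕ} (hp : p.Prime) {m : Multiset ℕ} (h : p ∣ m.lcm) : ∃ a ∈ m, p ∣ a := by
  induction m using Multiset.induction_on with
  | empty => simp at h; exact absurd (Nat.dvd_one.mp (h ▸ dvd_rfl)) hp.one_lt.ne'
  | cons a s ih =>
    rw [Multiset.lcm_cons] at h
    rcases hp.dvd_mul.mp (h.trans (lcm_dvd_mul a s.lcm)) with h' | h'
    · exact ⟨a, Multiset.mem_cons_self a s, h'⟩
    · obtain ⟨b, hb, hb'⟩ := ih h'
      exact ⟨b, Multiset.mem_cons_of_mem hb, hb'⟩

theorem cycleType_facts {n : ℕ} (g : alternatingGroup (Fin n)) :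
    (g.1.cycleType.sum + Multiset.card g.1.cycleType) % 2 = 0 ∧ g.1.cycleType.sum ≤ n ∧
      orderOf g = g.1.cycleType.lcm ∧ ∀ a ∈ g.1.cycleType, 2 ≤ a := by
  refine ⟨?_, ?_, ?_, fun a ha => Equiv.Perm.two_le_of_mem_cycleType ha⟩
  · have h := g.2
    rw [Equiv.Perm.mem_alternatingGroup, Equiv.Perm.sign_of_cycleType] at h
    rcases Nat.mod_two_eq_zero_or_one (g.1.cycleType.sum + Multiset.card g.1.cycleType) with h' | h'
    · exact h'
    · rw [Odd.neg_one_pow (Nat.odd_iff.mpr h')] at h
      exact absurd h (by decide)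
  · simpa using Equiv.Perm.sum_cycleType_le g.1
  · rw [← Subgroup.orderOf_coe, Equiv.Perm.lcm_cycleType]

theorem exists_alt {n : ℕ} {m : Multiset ℕ} (hs : m.sum ≤ n) (h2 : ∀ a ∈ m, 2 ≤ a)
    (hev : (m.sum + Multiset.card m) % 2 = 0) :
    ∃ g : alternatingGroup (Fin n), orderOf g = m.lcm := by
  obtain ⟨g, hg⟩ := (Equiv.Perm.exists_with_cycleType_iff (Fin n) (m := m)).mpr
    ⟨by simpa using hs, h2⟩
  refine ⟨⟨g, ?_⟩, ?_⟩
  · rw [Equiv.Perm.mem_alternatingGroup, Equiv.Perm.sign_of_cycleType, hg]
    exact Even.neg_one_pow (Nat.even_iff.mpr hev)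
  · rw [← Subgroup.orderOf_coe]
    exact (Equiv.Perm.lcm_cycleType g).symm.trans (congrArg Multiset.lcm hg)

theorem two_odd_primes (n r s : ℕ) (hr : r.Prime) (hs : s.Prime) (hr2 : r ≠ 2) (hs2 : s ≠ 2)
    (hrs : r ≠ s) :
    (r * s ∈ Set.range (orderOf : alternatingGroup (Fin n) → ℕ)) ↔ r + s ≤ n := by
  have hro := hr.odd_of_ne_two hr2
  have hso := hs.odd_of_ne_two hs2
  have := hr.two_le
  have := hs.two_le
  constructor
  · rintro ⟨g, hg⟩
    obtain ⟨-, hsum, hlcm, h2⟩ := cycleType_facts g
    rw [hg] at hlcm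
    obtain ⟨a, ha, hra⟩ := prime_dvd_lcm hr (hlcm ▸ dvd_mul_right r s)
    obtain ⟨b, hb, hsb⟩ := prime_dvd_lcm hs (hlcm ▸ dvd_mul_left s r)
    have hla := Nat.le_of_dvd (by have := h2 a ha; omega) hra
    have hlb := Nat.le_of_dvd (by have := h2 b hb; omega) hsb
    by_cases hab : a = b
    · subst hab
      have h' := Nat.le_of_dvd (by have := h2 a ha; omega)
        (((Nat.coprime_primes hr hs).mpr hrs).mul_dvd_of_dvd_of_dvd hra hsb)
      have := Multiset.le_sum_of_mem ha
      nlinarith
    · have := sum_ge_two ha ((Multiset.mem_erase_of_ne (Ne.symm hab)).mpr hb)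
      omega
  · intro h
    obtain ⟨g, hg⟩ := exists_alt (n := n) (m := {r, s}) (by simpa using h)
      (by simp; omega) (by
        have := Nat.odd_iff.mp hro
        have := Nat.odd_iff.mp hso
        simp; omega)
    refine ⟨g, ?_⟩
    rw [hg]
    simp [lcm_eq_nat_lcm, Nat.lcm, ((Nat.coprime_primes hr hs).mpr hrs).gcd_eq_one]

theorem two_and_odd (n r : ℕ) (hr : r.Prime) (hr2 : r ≠ 2) :
    (2 * r ∈ Set.range (orderOf : alternatingGroup (Fin n) → ℕ)) ↔ r + 4 ≤ n := by
  have hro := Nat.odd_iff.mp (hr.odd_of_ne_two hr2)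
  have := hr.two_le
  constructor
  · rintro ⟨g, hg⟩
    obtain ⟨hev, hsum, hlcm, h2⟩ := cycleType_facts g
    rw [hg] at hlcm
    obtain ⟨a, ha, ha2⟩ := prime_dvd_lcm Nat.prime_two (hlcm ▸ dvd_mul_right 2 r)
    obtain ⟨b, hb, hrb⟩ := prime_dvd_lcm hr (hlcm ▸ dvd_mul_left r 2)
    have hlb := Nat.le_of_dvd (by have := h2 b hb; omega) hrb
    have h2a := h2 a ha
    obtain ⟨a', ha', ha'2⟩ : ∃ a' ∈ g.1.cycleType.erase a, a' % 2 = 0 := by
      by_contra! hall
      have h1 := parity_one_even (m := g.1.cycleType.erase a) fun x hx => by have := hall x hx; omega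
      rw [← Multiset.cons_erase ha, Multiset.sum_cons, Multiset.card_cons] at hev
      omega
    have h2a' := h2 a' (Multiset.mem_of_mem_erase ha')
    by_cases hab : a = b
    · subst hab
      have h' := Nat.le_of_dvd (by omega)
        ((((Nat.coprime_primes Nat.prime_two hr).mpr (Ne.symm hr2))).mul_dvd_of_dvd_of_dvd ha2 hrb)
      have := sum_ge_two ha ha'
      omega
    · by_cases hab' : a' = b
      · subst hab'
        have h' := Nat.le_of_dvd (by omega)
          ((((Nat.coprime_primes Nat.prime_two hr).mpr (Ne.symm hr2))).mul_dvd_of_dvd_of_dvd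
            (Nat.dvd_of_mod_eq_zero ha'2) hrb)
        have := sum_ge_two ha ha'
        omega
      · have := sum_ge_three ha ha' (c := b)
          ((Multiset.mem_erase_of_ne (Ne.symm hab')).mpr ((Multiset.mem_erase_of_ne (Ne.symm hab)).mpr hb))
        omega
  · intro h
    obtain ⟨g, hg⟩ := exists_alt (n := n) (m := {r, 2, 2}) (by simp; omega)
      (by simp; omega) (by simp; omega)
    refine ⟨g, ?_⟩
    rw [hg]
    simp [lcm_eq_nat_lcm, Nat.lcm, (((Nat.coprime_primes hr Nat.prime_two).mpr hr2)).gcd_eq_one, mul_comm]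

/-- The possible pairs (lcm, parity) of cycle types with sum at most `n`. -/
def types : ℕ → ℕ → List (ℕ × ℕ)
  | 0, _ => [(1, 0)]
  | k + 1, n => (1, 0) :: ((List.range (n + 1)).filter (2 ≤ ·)).flatMap fun a =>
      (types k (n - a)).map fun p => (Nat.lcm a p.1, (a + 1 + p.2) % 2)

theorem types_spec : ∀ (k n : ℕ) (m : Multiset ℕ), Multiset.card m ≤ k → m.sum ≤ n →
    (∀ a ∈ m, 2 ≤ a) → (m.lcm, (m.sum + Multiset.card m) % 2) ∈ types k n
  | 0, n, m, hc, _, _ => by
    rw [Nat.le_zero, Multiset.card_eq_zero] at hc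
    subst hc
    simp [types]
  | k + 1, n, m, hc, hs, h2 => by
    rw [types, List.mem_cons]
    by_cases hm : m = 0
    · left; subst hm; simp
    obtain ⟨a, ha⟩ := Multiset.exists_mem_of_ne_zero hm
    obtain ⟨s, rfl⟩ := Multiset.exists_cons_of_mem ha
    right
    rw [Multiset.card_cons] at hc
    rw [Multiset.sum_cons] at hs
    rw [List.mem_flatMap]
    refine ⟨a, List.mem_filter.mpr ⟨List.mem_range.mpr (by omega), by
      simpa using h2 a (Multiset.mem_cons_self a s)⟩, List.mem_map.mpr
      ⟨_, types_spec k (n - a) s (by omega) (by omega)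
        (fun b hb => h2 b (Multiset.mem_cons_of_mem hb)), ?_⟩⟩
    rw [Multiset.lcm_cons, Multiset.sum_cons, Multiset.card_cons]
    refine Prod.ext rfl ?_
    simp only
    omega

theorem types_ten : ∀ p ∈ types 5 10, p.2 = 0 →
    p.1 ∈ [1, 2, 3, 4, 5, 6, 7, 8, 9, 10, 12, 15, 21] := by
  decide +kernel

theorem spectrum_A10 : Set.range (orderOf : alternatingGroup (Fin 10) → ℕ) =
    {1, 2, 3, 4, 5, 6, 7, 8, 9, 10, 12, 15, 21} := by
  apply Set.Subset.antisymm
  · rintro _ ⟨g, rfl⟩
    obtain ⟨hev, hsum, hlcm, h2⟩ := cycleType_facts g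
    have hc : Multiset.card g.1.cycleType ≤ 5 := by
      have := Multiset.card_nsmul_le_sum h2
      rw [smul_eq_mul] at this
      omega
    have h := types_ten _ (types_spec 5 10 _ hc hsum h2) hev
    rw [hlcm]
    simpa [List.mem_cons] using h
  · have mk : ∀ m : Multiset ℕ, m.sum ≤ 10 → (∀ a ∈ m, 2 ≤ a) → (m.sum + Multiset.card m) % 2 = 0 →
        ∀ k, m.lcm = k → k ∈ Set.range (orderOf : alternatingGroup (Fin 10) → ℕ) := by
      intro m h1 h2 h3 k hk
      obtain ⟨g, hg⟩ := exists_alt h1 h2 h3
      exact ⟨g, hg.trans hk⟩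
    rintro k (rfl | rfl | rfl | rfl | rfl | rfl | rfl | rfl | rfl | rfl | rfl | rfl | rfl)
    · exact mk 0 (by decide) (by decide) (by decide) _ (by decide)
    · exact mk {2, 2} (by decide) (by decide) (by decide) _ (by decide)
    · exact mk {3} (by decide) (by decide) (by decide) _ (by decide)
    · exact mk {4, 2} (by decide) (by decide) (by decide) _ (by decide)
    · exact mk {5} (by decide) (by decide) (by decide) _ (by decide)
    · exact mk {3, 2, 2} (by decide) (by decide) (by decide) _ (by decide)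
    · exact mk {7} (by decide) (by decide) (by decide) _ (by decide)
    · exact mk {8, 2} (by decide) (by decide) (by decide) _ (by decide)
    · exact mk {9} (by decide) (by decide) (by decide) _ (by decide)
    · exact mk {5, 2, 2} (by decide) (by decide) (by decide) _ (by decide)
    · exact mk {4, 6} (by decide) (by decide) (by decide) _ (by decide)
    · exact mk {5, 3} (by decide) (by decide) (by decide) _ (by decide)
    · exact mk {7, 3} (by decide) (by decide) (by decide) _ (by decide)

theorem no_order_eight (g : Equiv.Perm (Fin 6)) : orderOf g ≠ 8 := by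
  intro h
  have hd : g.cycleType.lcm ∣ 4 := by
    refine Multiset.lcm_dvd.mpr fun a ha => ?_
    have h1 : a ∣ 8 := by
      rw [← h, ← Equiv.Perm.lcm_cycleType]
      exact Multiset.dvd_lcm ha
    have h2 : a ≤ 6 := (Multiset.le_sum_of_mem ha).trans (by simpa using Equiv.Perm.sum_cycleType_le g)
    interval_cases a <;> omega
  rw [Equiv.Perm.lcm_cycleType, h] at hd
  omega

/-- The check for the sporadic orders. -/
def okOrder (N : ℕ) : Bool :=
  decide (N ∣ (Nat.factorial 71) ^ 46) && (List.range 72).all fun p =>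
    p % 2 == 0 || p < 3 || (List.range p).any (fun d => decide (2 ≤ d) && p % d == 0) ||
      N % p ^ 3 != 0 || N % p ^ 4 == 0 ||
      (List.range 60).any fun k => N % 2 ^ k == 0 && decide (p ^ 3 < 2 ^ k)

theorem okOrder_spec {N p : ℕ} (hok : okOrder N = true) (hN : N ≠ 0) (hp : p.Prime) (hodd : p ≠ 2)
    (h3 : N.factorization p = 3) : p ^ 3 < 2 ^ N.factorization 2 := by
  rw [okOrder, Bool.and_eq_true, decide_eq_true_eq, List.all_eq_true] at hok
  have hd : p ^ 3 ∣ N := (hp.pow_dvd_iff_le_factorization hN).mpr h3.ge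
  have hd4 : ¬ p ^ 4 ∣ N := fun h => by
    have := (hp.pow_dvd_iff_le_factorization hN).mp h
    omega
  have hle : p ≤ 71 := hp.dvd_factorial.mp
    (hp.dvd_of_dvd_pow ((dvd_pow_self p three_ne_zero).trans (hd.trans hok.1)))
  have := hp.two_le
  have hodd' := Nat.odd_iff.mp (hp.odd_of_ne_two hodd)
  have h := hok.2 p (List.mem_range.mpr (by omega))
  simp only [Bool.or_eq_true, beq_iff_eq, bne_iff_ne, decide_eq_true_eq, List.any_eq_true,
    Bool.and_eq_true, List.mem_range] at h
  rcases h with ((((h | h) | ⟨d, hd', hd2, hdd⟩) | h) | h) | ⟨k, -, hk, hlt⟩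
  · omega
  · omega
  · rcases hp.eq_one_or_self_of_dvd d (Nat.dvd_of_mod_eq_zero hdd) with e | e <;> omega
  · exact absurd (Nat.dvd_iff_mod_eq_zero.mp hd) h
  · exact absurd (Nat.dvd_of_mod_eq_zero h) hd4
  · exact hlt.trans_le (Nat.pow_le_pow_right two_pos
      ((Nat.prime_two.pow_dvd_iff_le_factorization hN).mp (Nat.dvd_of_mod_eq_zero hk)))

theorem orders_ok : ∀ N ∈ [7920, 95040, 443520, 10200960, 244823040, 175560, 604800, 50232960,
    86775571046077562880, 4157776806543360000, 42305421312000, 495766656000, 64561751654400,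
    4089470473293004800, 1255205709190661721292800, 44352000, 898128000, 4030387200, 145926144000,
    448345497600, 460815505920, 273030912000000, 51765179004000000, 90745943887872000,
    4154781481226426191177580544000000,
    808017424794512875886459904961710757005754368000000000], okOrder N = true := by
  decide +kernel

theorem cube_lt (p : ℕ) (hp : 5 ≤ p) : p ^ 3 < 2 ^ (2 * p - 2) := by
  induction p, hp using Nat.le_induction with
  | base => norm_num
  | succ q hq ih =>
    rw [show 2 * (q + 1) - 2 = (2 * q - 2) + 2 by omega, pow_add]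
    nlinarith [Nat.mul_le_mul hq hq]

theorem alt_bound {n p : ℕ} (hn : 5 ≤ n) (hp : p.Prime) (hodd : p ≠ 2)
    (h3 : (Nat.card (alternatingGroup (Fin n))).factorization p = 3) :
    p ^ 3 < 2 ^ (Nat.card (alternatingGroup (Fin n))).factorization 2 := by
  have : Nontrivial (Fin n) := Fin.nontrivial_iff_two_le.mpr (by omega)
  have hc : 2 * Nat.card (alternatingGroup (Fin n)) = n.factorial := by
    rw [two_mul_nat_card_alternatingGroup, Nat.card_perm, Nat.card_eq_fintype_card, Fintype.card_fin]
  have hv : ∀ r, (n.factorial).factorization r =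
      (Nat.factorization 2) r + (Nat.card (alternatingGroup (Fin n))).factorization r := fun r => by
    rw [← hc, Nat.factorization_mul two_ne_zero Nat.card_pos.ne', Finsupp.add_apply]
  have h2p : (Nat.factorization 2) p = 0 := by
    rw [Nat.prime_two.factorization, Finsupp.single_apply, if_neg (Ne.symm hodd)]
  have h22 : (Nat.factorization 2) 2 = 1 := by
    rw [Nat.prime_two.factorization, Finsupp.single_apply, if_pos rfl]
  have : Fact p.Prime := ⟨hp⟩
  have hvp := hv p
  rw [h2p, h3, zero_add, Nat.factorization_def _ hp] at hvp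
  have := hp.two_le
  have hfm : ∀ a, padicValNat p (p * a).factorial = padicValNat p a.factorial + a :=
    fun a => padicValNat_factorial_mul a
  have hmono : ∀ a b : ℕ, a ≤ b → padicValNat p a.factorial ≤ padicValNat p b.factorial := fun a b h =>
    (padicValNat_dvd_iff_le (Nat.factorial_ne_zero b)).mp
      (pow_padicValNat_dvd.trans (Nat.factorial_dvd_factorial h))
  have hp5 : 5 ≤ p := by
    by_contra hlt
    obtain rfl : p = 3 := by
      have : p ≠ 4 := fun h => by rw [h] at hp; norm_num at hp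
      omega
    rcases Nat.lt_or_ge n 9 with h | h
    · have h1 := hmono n 8 (by omega)
      have h2 : padicValNat 3 (Nat.factorial 8) = padicValNat 3 (3 * 2).factorial := by
        rw [← padicValNat_mul_div_factorial (p := 3) (n := 8)]
      rw [hfm] at h2
      have : padicValNat 3 (Nat.factorial 2) = 0 := padicValNat.eq_zero_of_not_dvd (by decide)
      omega
    · have h1 := hmono (3 * 3) n (by omega)
      rw [hfm] at h1
      have h2 := hfm 1
      rw [mul_one] at h2
      omega
  have hn3 : 3 * p ≤ n := by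
    by_contra hlt
    have h1 : n.factorial ∣ (p * 3 - 1).factorial := Nat.factorial_dvd_factorial (by omega)
    have h2 := hmono n (p * 3 - 1) (by omega)
    have h3' : padicValNat p (p * 3 - 1).factorial = padicValNat p (p * 2).factorial := by
      rw [← padicValNat_mul_div_factorial (p := p) (n := p * 3 - 1)]
      congr 3
      rw [Nat.div_eq_iff (by omega)]
      omega
    rw [hfm] at h3'
    have : padicValNat p (Nat.factorial 2) = 0 :=
      padicValNat.eq_zero_of_not_dvd fun h => by
        have := hp.dvd_factorial.mp h; omega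
    omega
  have h2f : Fact (Nat.Prime 2) := ⟨Nat.prime_two⟩
  have hv2 := hv 2
  rw [h22, Nat.factorization_def _ Nat.prime_two] at hv2
  obtain ⟨m, hm⟩ : ∃ m, m = (3 * p - 1) / 2 := ⟨_, rfl⟩
  have hm1 : padicValNat 2 (2 * m).factorial ≤ padicValNat 2 n.factorial :=
    (padicValNat_dvd_iff_le (Nat.factorial_ne_zero n)).mp
      (pow_padicValNat_dvd.trans (Nat.factorial_dvd_factorial (by omega)))
  have hm2 : padicValNat 2 (2 * (m / 2)).factorial ≤ padicValNat 2 m.factorial :=
    (padicValNat_dvd_iff_le (Nat.factorial_ne_zero m)).mp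
      (pow_padicValNat_dvd.trans (Nat.factorial_dvd_factorial (by omega)))
  rw [padicValNat_factorial_mul] at hm1 hm2
  have hpow : p ^ 3 < 2 ^ (2 * p - 2) := cube_lt p hp5
  exact hpow.trans_le (Nat.pow_le_pow_right two_pos (by omega))

end Cfsg.Agent.Small.AltOrders
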