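import Cfsg.Agent.Lib.Small.SteinbergSL2
import Cfsg.Agent.Lib.Classical.LinBasic

/-!
# The Steinberg presentation of `SL_n` over a finite field, `n ≥ 3`

A group with elementary generators satisfying Steinberg's relations maps injectively to `SL_n`:
induction on the set of indices, with the cosets of the stabiliser of a basis vector.
-/

set_option autoImplicit false
set_option linter.unusedSectionVars false
set_option maxHeartbeats 800000

namespace Cfsg.Agent.Small.SteinbergSLn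

open Matrix Finset

/-- Steinberg's relations with the map to `SL_n`. -/
structure St (n : ℕ) (K : Type*) [Field K] (G : Type*) [Group G] where
  x : Fin n → Fin n → K → G
  φ : G →* SpecialLinearGroup (Fin n) K
  φx : ∀ i j (h : i ≠ j) (t : K), φ (x i j t) = SpecialLinearGroup.transvection h t
  xadd : ∀ i j, i ≠ j → ∀ t u, x i j t * x i j u = x i j (t + u)
  comm : ∀ i j k l, i ≠ j → k ≠ l → i ≠ l → j ≠ k → ∀ t u, Commute (x i j t) (x k l u)
  comm3 : ∀ i j l, i ≠ j → j ≠ l → i ≠ l → ∀ t u, x i j t * x j l u = x i l (t * u) * x j l u * x i j t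
  three : 3 ≤ n

variable {n : ℕ} {K : Type*} [Field K] {G : Type*} [Group G] (S : St n K G)

namespace St

theorem x_zero {i j : Fin n} (h : i ≠ j) : S.x i j 0 = 1 := by
  have := S.xadd i j h 0 0; rwa [add_zero, mul_eq_left] at this

theorem x_inv {i j : Fin n} (h : i ≠ j) (t : K) : (S.x i j t)⁻¹ = S.x i j (-t) := by
  rw [inv_eq_iff_mul_eq_one, S.xadd i j h, add_neg_cancel, S.x_zero h]

/-- Weyl elements. -/
def w (i j : Fin n) (t : K) : G := S.x i j t * S.x j i (-t⁻¹) * S.x i j t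

/-- Torus elements. -/
def h (i j : Fin n) (t : K) : G := S.w i j t * (S.w i j 1)⁻¹

theorem w_inv {i j : Fin n} (hij : i ≠ j) (t : K) : (S.w i j t)⁻¹ = S.w i j (-t) := by
  simp only [w, _root_.mul_inv_rev, S.x_inv hij, S.x_inv (Ne.symm hij), inv_neg, neg_neg, mul_assoc]

theorem conj_fix {i j k l : Fin n} (h1 : i ≠ j) (h2 : k ≠ l) (h3 : i ≠ l) (h4 : j ≠ k) (t u : K) :
    MulAut.conj (S.x i j t) (S.x k l u) = S.x k l u := by
  rw [MulAut.conj_apply, (S.comm i j k l h1 h2 h3 h4 t u).eq, mul_inv_cancel_right]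

theorem conj_left {i j l : Fin n} (h1 : i ≠ j) (h2 : j ≠ l) (h3 : i ≠ l) (t u : K) :
    MulAut.conj (S.x i j t) (S.x j l u) = S.x i l (t * u) * S.x j l u := by
  rw [MulAut.conj_apply, S.comm3 i j l h1 h2 h3, mul_inv_cancel_right]

theorem conj_right {i j l : Fin n} (h1 : i ≠ j) (h2 : j ≠ l) (h3 : i ≠ l) (t u : K) :
    MulAut.conj (S.x j l u) (S.x i j t) = S.x i l (-(t * u)) * S.x i j t := by
  rw [MulAut.conj_apply, mul_inv_eq_iff_eq_mul, ← S.x_inv h3, mul_assoc, eq_inv_mul_iff_mul_eq, ← mul_assoc]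
  exact (S.comm3 i j l h1 h2 h3 t u).symm

theorem conj_w {i j : Fin n} (t : K) (y : G) : MulAut.conj (S.w i j t) y =
    MulAut.conj (S.x i j t) (MulAut.conj (S.x j i (-t⁻¹)) (MulAut.conj (S.x i j t) y)) := by
  simp only [w, map_mul, MulAut.mul_apply]

theorem w1 {i j k : Fin n} (hij : i ≠ j) (hik : i ≠ k) (hjk : j ≠ k) {t : K} (ht : t ≠ 0) (u : K) :
    MulAut.conj (S.w i j t) (S.x i k u) = S.x j k (-(t⁻¹ * u)) := by
  rw [conj_w, S.conj_fix hij hik hik hij.symm, S.conj_left hij.symm hik hjk, map_mul, S.conj_left hij hjk hik,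
    S.conj_fix hij hik hik hij.symm, show t * (-t⁻¹ * u) = -u by field_simp, mul_assoc,
    (S.comm j k i k hjk hik hjk hik.symm _ _).eq, ← mul_assoc, S.xadd i k hik, neg_add_cancel, S.x_zero hik,
    one_mul, neg_mul]

theorem w2 {i j k : Fin n} (hij : i ≠ j) (hik : i ≠ k) (hjk : j ≠ k) {t : K} (ht : t ≠ 0) (u : K) :
    MulAut.conj (S.w i j t) (S.x j k u) = S.x i k (t * u) := by
  rw [conj_w, S.conj_left hij hjk hik, map_mul, S.conj_left hij.symm hik hjk,
    S.conj_fix hij.symm hjk hjk hij, show -t⁻¹ * (t * u) = -u by field_simp, mul_assoc,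
    (S.comm i k j k hik hjk hik hjk.symm _ _).eq, ← mul_assoc, S.xadd j k hjk, neg_add_cancel, S.x_zero hjk,
    one_mul, S.conj_fix hij hik hik hij.symm]

theorem w3 {i j k : Fin n} (hij : i ≠ j) (hik : i ≠ k) (hjk : j ≠ k) {t : K} (ht : t ≠ 0) (v : K) :
    MulAut.conj (S.w i j t) (S.x k i v) = S.x k j (-(v * t)) := by
  rw [conj_w, S.conj_right hik.symm hij hjk.symm, map_mul, S.conj_right hjk.symm hij.symm hik.symm,
    S.conj_fix hij.symm hik.symm hij.symm.symm.symm hik, show -(-(v * t) * -t⁻¹) = -v by field_simp, mul_assoc,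
    (S.comm k j k i hjk.symm hik.symm hik.symm hjk _ _).eq, ← mul_assoc, S.xadd k i hik.symm, neg_add_cancel,
    S.x_zero hik.symm, one_mul, S.conj_fix hij hjk.symm hij hjk]

theorem w4 {i j k : Fin n} (hij : i ≠ j) (hik : i ≠ k) (hjk : j ≠ k) {t : K} (ht : t ≠ 0) (v : K) :
    MulAut.conj (S.w i j t) (S.x k j v) = S.x k i (v * t⁻¹) := by
  rw [conj_w, S.conj_fix hij hjk.symm hij hjk, S.conj_right hjk.symm hij.symm hik.symm, map_mul,
    S.conj_right hik.symm hij hjk.symm, S.conj_fix hij hjk.symm hij hjk,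
    show -(-(v * -t⁻¹) * t) = -v by field_simp, mul_assoc,
    (S.comm k i k j hik.symm hjk.symm hjk.symm hik _ _).eq, ← mul_assoc, S.xadd k j hjk.symm, neg_add_cancel,
    S.x_zero hjk.symm, one_mul, mul_neg, neg_neg]

include S in
theorem exists_third (i j : Fin n) : ∃ k, i ≠ k ∧ j ≠ k := by
  have h3 := S.three
  obtain ⟨k, -, hk⟩ := Finset.exists_mem_notMem_of_card_lt_card (s := ({i, j} : Finset (Fin n))) (t := Finset.univ)
    (lt_of_le_of_lt Finset.card_le_two (by simp; omega))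
  simp only [Finset.mem_insert, Finset.mem_singleton, not_or] at hk
  exact ⟨k, Ne.symm hk.1, Ne.symm hk.2⟩

theorem comm3_conj {i j l : Fin n} (h1 : i ≠ j) (h2 : j ≠ l) (h3 : i ≠ l) (t u : K) :
    S.x i l (t * u) = S.x i j t * S.x j l u * (S.x i j t)⁻¹ * (S.x j l u)⁻¹ := by
  rw [S.comm3 i j l h1 h2 h3]; group

theorem wx {i j : Fin n} (hij : i ≠ j) {t : K} (ht : t ≠ 0) (u : K) :
    MulAut.conj (S.w i j t) (S.x i j u) = S.x j i (-(t⁻¹ ^ 2 * u)) := by
  obtain ⟨k, hik, hjk⟩ := S.exists_third i j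
  have e := S.comm3_conj hik hjk.symm hij u 1
  rw [mul_one] at e
  rw [e, map_mul, map_mul, map_mul, map_inv, map_inv, S.w1 hij hik hjk ht, S.w4 hij hik hjk ht,
    ← S.comm3_conj hjk hik.symm hij.symm, one_mul]
  congr 1
  ring

theorem wy {i j : Fin n} (hij : i ≠ j) {t : K} (ht : t ≠ 0) (u : K) :
    MulAut.conj (S.w i j t) (S.x j i u) = S.x i j (-(t ^ 2 * u)) := by
  obtain ⟨k, hik, hjk⟩ := S.exists_third i j
  have e := S.comm3_conj hjk hik.symm hij.symm u 1
  rw [mul_one] at e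
  rw [e, map_mul, map_mul, map_mul, map_inv, map_inv, S.w2 hij hik hjk ht, S.w3 hij hik hjk ht,
    ← S.comm3_conj hik hjk.symm hij]
  congr 1
  ring

theorem w_swap {i j : Fin n} (hij : i ≠ j) {t : K} (ht : t ≠ 0) : S.w i j t = S.w j i (-t⁻¹) := by
  have h1 := congrArg (MulAut.conj (S.w i j t)) (show S.w i j t = S.x i j t * S.x j i (-t⁻¹) * S.x i j t from rfl)
  rw [map_mul, map_mul, S.wx hij ht, S.wy hij ht, MulAut.conj_apply, mul_inv_cancel_right] at h1
  rw [h1, w, inv_neg, inv_inv, neg_neg]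
  congr 3 <;> field_simp

/-- The group generated by the root subgroups inside an index set. -/
def gen (s : Finset (Fin n)) : Subgroup G :=
  Subgroup.closure {g | ∃ i ∈ s, ∃ j ∈ s, i ≠ j ∧ ∃ t, g = S.x i j t}

theorem x_mem_gen {s : Finset (Fin n)} {i j : Fin n} (hi : i ∈ s) (hj : j ∈ s) (hij : i ≠ j) (t : K) :
    S.x i j t ∈ S.gen s := Subgroup.subset_closure ⟨i, hi, j, hj, hij, t, rfl⟩

theorem w_mem_gen {s : Finset (Fin n)} {i j : Fin n} (hi : i ∈ s) (hj : j ∈ s) (hij : i ≠ j) (t : K) :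
    S.w i j t ∈ S.gen s :=
  mul_mem (mul_mem (S.x_mem_gen hi hj hij _) (S.x_mem_gen hj hi hij.symm _)) (S.x_mem_gen hi hj hij _)

theorem h_mem_gen {s : Finset (Fin n)} {i j : Fin n} (hi : i ∈ s) (hj : j ∈ s) (hij : i ≠ j) (t : K) :
    S.h i j t ∈ S.gen s :=
  mul_mem (S.w_mem_gen hi hj hij _) (inv_mem (S.w_mem_gen hi hj hij _))

/-- The action on vectors. -/
def act (g : G) (v : Fin n → K) : Fin n → K := (S.φ g).1 *ᵥ v

theorem act_mul (a b : G) (v : Fin n → K) : S.act (a * b) v = S.act a (S.act b v) := by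
  rw [act, act, act, map_mul, Matrix.mulVec_mulVec]; rfl

theorem act_one (v : Fin n → K) : S.act 1 v = v := by
  rw [act, map_one]; exact Matrix.one_mulVec v

theorem act_inv (a : G) (v : Fin n → K) : S.act a (S.act a⁻¹ v) = v := by
  rw [← act_mul, mul_inv_cancel, act_one]

theorem act_inv' (a : G) (v : Fin n → K) : S.act a⁻¹ (S.act a v) = v := by
  rw [← act_mul, inv_mul_cancel, act_one]

theorem act_x {i j : Fin n} (hij : i ≠ j) (t : K) (v : Fin n → K) (k : Fin n) :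
    S.act (S.x i j t) v k = v k + if k = i then t * v j else 0 := by
  rw [act, S.φx i j hij, SpecialLinearGroup.transvection_coe, Matrix.add_mulVec, Matrix.one_mulVec,
    Pi.add_apply, Matrix.single_mulVec]
  split_ifs with h
  · subst h; simp [Function.update_self]
  · simp [Function.update_of_ne h]

theorem phi_eq {a b : G} (hab : ∀ v, S.act a v = S.act b v) : S.φ a = S.φ b :=
  Subtype.ext (Matrix.ext_of_mulVec_single fun i => hab _)

theorem act_row {A : Finset (Fin n)} {g : G}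
    (hg : g ∈ Subgroup.closure {y | ∃ i ∈ A, ∃ j, i ≠ j ∧ ∃ t, y = S.x i j t}) :
    ∀ v k, k ∉ A → S.act g v k = v k := by
  induction hg using Subgroup.closure_induction with
  | mem y hy =>
    obtain ⟨i, hi, j, hij, t, rfl⟩ := hy
    intro v k hk
    rw [S.act_x hij, if_neg (fun h : k = i => hk (h ▸ hi)), add_zero]
  | one => intro v k _; rw [act_one]
  | mul a b _ _ ha hb => intro v k hk; rw [act_mul, ha _ k hk, hb v k hk]
  | inv a _ ha => intro v k hk; rw [← ha (S.act a⁻¹ v) k hk, act_inv]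

theorem act_col {B : Finset (Fin n)} {g : G}
    (hg : g ∈ Subgroup.closure {y | ∃ j ∈ B, ∃ i, i ≠ j ∧ ∃ t, y = S.x i j t}) :
    ∀ v, (∀ k ∈ B, v k = 0) → S.act g v = v := by
  induction hg using Subgroup.closure_induction with
  | mem y hy =>
    obtain ⟨j, hj, i, hij, t, rfl⟩ := hy
    intro v hv
    funext k
    rw [S.act_x hij, hv j hj, mul_zero, ite_self, add_zero]
  | one => intro v _; rw [act_one]
  | mul a b _ _ ha hb => intro v hv; rw [act_mul, hb v hv, ha v hv]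
  | inv a _ ha => intro v hv; conv_lhs => rw [← ha v hv]
                  rw [act_inv']

theorem act_w {i j : Fin n} (hij : i ≠ j) {t : K} (ht : t ≠ 0) (v : Fin n → K) (k : Fin n) :
    S.act (S.w i j t) v k = if k = i then t * v j else if k = j then -t⁻¹ * v i else v k := by
  simp only [w, act_mul, S.act_x hij, S.act_x hij.symm]
  by_cases hki : k = i
  · subst hki
    simp only [hij, hij.symm, if_true, if_false, add_zero]
    field_simp
    ring
  · by_cases hkj : k = j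
    · subst hkj
      simp only [hij, hij.symm, if_true, if_false, add_zero]
      field_simp
      ring
    · simp [hki, hkj]

theorem act_h {i j : Fin n} (hij : i ≠ j) {t : K} (ht : t ≠ 0) (v : Fin n → K) (k : Fin n) :
    S.act (S.h i j t) v k = if k = i then t * v i else if k = j then t⁻¹ * v j else v k := by
  rw [h, S.w_inv hij, act_mul, S.act_w hij ht, S.act_w hij (neg_ne_zero.2 one_ne_zero),
    S.act_w hij (neg_ne_zero.2 one_ne_zero), S.act_w hij (neg_ne_zero.2 one_ne_zero)]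
  by_cases hki : k = i
  · subst hki; simp [hij.symm]
  · by_cases hkj : k = j
    · subst hkj; simp [hij.symm]
    · simp [hki, hkj]

/-- The rank one relations of a pair of indices. -/
def R {i j : Fin n} (hij : i ≠ j) : SteinbergSL2.Rels K (S.gen {i, j}) where
  x t := ⟨S.x i j t, S.x_mem_gen (by simp) (by simp) hij t⟩
  y t := ⟨S.x j i t, S.x_mem_gen (by simp) (by simp) hij.symm t⟩
  xadd t u := Subtype.ext (S.xadd i j hij t u)
  yadd t u := Subtype.ext (S.xadd j i hij.symm t u)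
  wx t u ht := Subtype.ext (S.wx hij ht u)
  wy t u ht := Subtype.ext (S.wx hij.symm ht u)

theorem R_gen {i j : Fin n} (hij : i ≠ j) :
    Subgroup.closure (Set.range (S.R hij).x ∪ Set.range (S.R hij).y) = ⊤ := by
  rw [eq_top_iff]
  intro z _
  have key : ∀ a (ha : a ∈ S.gen {i, j}),
      (⟨a, ha⟩ : S.gen {i, j}) ∈ Subgroup.closure (Set.range (S.R hij).x ∪ Set.range (S.R hij).y) := by
    intro a ha
    induction ha using Subgroup.closure_induction with
    | mem g hg =>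
      obtain ⟨a, ha, b, hb, hab, t, rfl⟩ := hg
      simp only [Finset.mem_insert, Finset.mem_singleton] at ha hb
      rcases ha with rfl | rfl <;> rcases hb with rfl | rfl
      · exact absurd rfl hab
      · exact Subgroup.subset_closure (Or.inl ⟨t, rfl⟩)
      · exact Subgroup.subset_closure (Or.inr ⟨t, rfl⟩)
      · exact absurd rfl hab
    | one => exact one_mem _
    | mul x y hx hy ihx ihy => exact mul_mem ihx ihy
    | inv x hx ihx => exact inv_mem ihx
  exact key z.1 z.2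

theorem R_h {i j : Fin n} (hij : i ≠ j) (t : K) : (((S.R hij).h t : S.gen {i, j}) : G) = S.h i j t := rfl

variable [Finite K]

theorem h_mul {i j : Fin n} (hij : i ≠ j) {t u : K} (ht : t ≠ 0) (hu : u ≠ 0) :
    S.h i j (t * u) = S.h i j t * S.h i j u := by
  rw [← S.R_h hij, ← S.R_h hij, ← S.R_h hij, (S.R hij).h_mul (S.R_gen hij) ht hu]
  rfl

theorem h_one (i j : Fin n) : S.h i j 1 = 1 := mul_inv_cancel _

theorem h_inv {i j : Fin n} (hij : i ≠ j) {t : K} (ht : t ≠ 0) : (S.h i j t)⁻¹ = S.h i j t⁻¹ := by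
  rw [inv_eq_iff_mul_eq_one, ← S.h_mul hij ht (inv_ne_zero ht), mul_inv_cancel₀ ht, h_one]

/-- The kernel is trivial in rank one. -/
theorem inj_two {i j : Fin n} (hij : i ≠ j) {g : G} (hg : g ∈ S.gen {i, j}) (h1 : S.φ g = 1) : g = 1 := by
  have hfix : ∀ v, S.act g v = v := fun v => by rw [act, h1]; exact Matrix.one_mulVec v
  have hx : ∀ t, (((S.R hij).x t : S.gen {i, j}) : G) = S.x i j t := fun _ => rfl
  rcases (S.R hij).normal_form (S.R_gen hij) ⟨g, hg⟩ with ⟨a, t, ht, he⟩ | ⟨a, t, b, ht, he⟩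
  · have he' : g = S.x i j a * S.h i j t := congrArg Subtype.val he
    have e1 := congrFun (hfix (Pi.single i 1)) i
    have e2 := congrFun (hfix (Pi.single j 1)) i
    rw [he', act_mul, S.act_x hij, S.act_h hij ht, S.act_h hij ht] at e1 e2
    simp [hij, hij.symm] at e1 e2
    rcases e2 with e2 | e2
    · rw [he', e1, e2, h_one, S.x_zero hij, mul_one]
    · exact absurd e2 ht
  · exfalso
    have he' : g = S.x i j a * S.h i j t * S.w i j 1 * S.x i j b := congrArg Subtype.val he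
    have e1 := congrFun (hfix (Pi.single i 1)) j
    rw [he'] at e1
    simp only [act_mul, S.act_x hij, S.act_h hij ht, S.act_w hij one_ne_zero] at e1
    simp [hij.symm] at e1
    exact ht e1

/-- Torus elements scale every root subgroup. -/
theorem h_scale {i j : Fin n} (hij : i ≠ j) {t : K} (ht : t ≠ 0) {k l : Fin n} (hkl : k ≠ l) :
    ∃ d : K, ∀ u, MulAut.conj (S.h i j t) (S.x k l u) = S.x k l (d * u) := by
  have e : ∀ y, MulAut.conj (S.h i j t) y = MulAut.conj (S.w i j t) (MulAut.conj (S.w i j (-1)) y) := fun y => by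
    rw [h, S.w_inv hij, map_mul, MulAut.mul_apply]
  have h1 : (-1 : K) ≠ 0 := neg_ne_zero.2 one_ne_zero
  by_cases hki : k = i
  · subst hki
    by_cases hlj : l = j
    · subst hlj
      exact ⟨t ^ 2, fun u => by rw [e, S.wx hij h1, S.wy hij ht]; congr 1; simp⟩
    · exact ⟨t, fun u => by rw [e, S.w1 hij hkl (Ne.symm hlj) h1, S.w2 hij hkl (Ne.symm hlj) ht]; congr 1; simp⟩
  by_cases hkj : k = j
  · subst hkj
    by_cases hli : l = i
    · subst hli
      exact ⟨t⁻¹ ^ 2, fun u => by rw [e, S.wy hij h1, S.wx hij ht]; congr 1; simp⟩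
    · exact ⟨t⁻¹, fun u => by rw [e, S.w2 hij (Ne.symm hli) hkl h1, S.w1 hij (Ne.symm hli) hkl ht]; congr 1; simp⟩
  by_cases hli : l = i
  · subst hli
    exact ⟨t⁻¹, fun u => by
      rw [e, S.w3 hij (Ne.symm hki) (Ne.symm hkj) h1, S.w4 hij (Ne.symm hki) (Ne.symm hkj) ht]
      congr 1; simp [mul_comm]⟩
  by_cases hlj : l = j
  · subst hlj
    exact ⟨t, fun u => by
      rw [e, S.w4 hij (Ne.symm hki) (Ne.symm hkj) h1, S.w3 hij (Ne.symm hki) (Ne.symm hkj) ht]
      congr 1; simp [mul_comm]⟩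
  refine ⟨1, fun u => ?_⟩
  rw [e, one_mul]
  simp only [conj_w]
  simp only [S.conj_fix hij hkl (Ne.symm hli) (Ne.symm hkj), S.conj_fix hij.symm hkl (Ne.symm hlj) (Ne.symm hki)]

theorem h_conj_closure {i j : Fin n} (hij : i ≠ j) {t : K} (ht : t ≠ 0) (Q : Fin n → Fin n → Prop) {g : G}
    (hg : g ∈ Subgroup.closure {y | ∃ k l, Q k l ∧ k ≠ l ∧ ∃ u, y = S.x k l u}) :
    MulAut.conj (S.h i j t) g ∈ Subgroup.closure {y | ∃ k l, Q k l ∧ k ≠ l ∧ ∃ u, y = S.x k l u} := by
  induction hg using Subgroup.closure_induction with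
  | mem y hy =>
    obtain ⟨k, l, hQ, hkl, u, rfl⟩ := hy
    obtain ⟨d, hd⟩ := S.h_scale hij ht hkl
    rw [hd]
    exact Subgroup.subset_closure ⟨k, l, hQ, hkl, _, rfl⟩
  | one => rw [map_one]; exact one_mem _
  | mul a b _ _ ha hb => rw [map_mul]; exact mul_mem ha hb
  | inv a _ ha => rw [map_inv]; exact inv_mem ha

/-- Subgroups spanned by root subgroups. -/
def cl (Q : Fin n → Fin n → Prop) : Subgroup G :=
  Subgroup.closure {y | ∃ k l, Q k l ∧ k ≠ l ∧ ∃ u, y = S.x k l u}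

theorem x_mem_cl {Q : Fin n → Fin n → Prop} {k l : Fin n} (hQ : Q k l) (hkl : k ≠ l) (u : K) :
    S.x k l u ∈ S.cl Q := Subgroup.subset_closure ⟨k, l, hQ, hkl, u, rfl⟩

theorem cl_mono {Q Q' : Fin n → Fin n → Prop} (hQQ : ∀ k l, Q k l → k ≠ l → Q' k l) : S.cl Q ≤ S.cl Q' := by
  refine (Subgroup.closure_le _).2 ?_
  rintro _ ⟨k, l, hQ, hkl, u, rfl⟩
  exact S.x_mem_cl (hQQ k l hQ hkl) hkl u

theorem cl_conj {Q : Fin n → Fin n → Prop} {i j : Fin n} (hij : i ≠ j)
    (hQ : ∀ k l, Q k l → k ≠ l → (i ≠ l ∧ j ≠ k) ∨ (j = k ∧ i ≠ l ∧ Q i l) ∨ (i = l ∧ j ≠ k ∧ Q k j))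
    {t : K} {g : G} (hg : g ∈ S.cl Q) : MulAut.conj (S.x i j t) g ∈ S.cl Q := by
  induction hg using Subgroup.closure_induction with
  | mem y hy =>
    obtain ⟨k, l, hkl', hkl, u, rfl⟩ := hy
    rcases hQ k l hkl' hkl with ⟨h1, h2⟩ | ⟨rfl, h1, h2⟩ | ⟨rfl, h1, h2⟩
    · rw [S.conj_fix hij hkl h1 h2]; exact S.x_mem_cl hkl' hkl u
    · rw [S.conj_left hij hkl h1]
      exact mul_mem (S.x_mem_cl h2 h1 _) (S.x_mem_cl hkl' hkl _)
    · rw [S.conj_right hkl hij (Ne.symm h1)]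
      exact mul_mem (S.x_mem_cl h2 (Ne.symm h1) _) (S.x_mem_cl hkl' hkl _)
  | one => rw [map_one]; exact one_mem _
  | mul a b _ _ ha hb => rw [map_mul]; exact mul_mem ha hb
  | inv a _ ha => rw [map_inv]; exact inv_mem ha

theorem cl_conj_cl {Q Q' : Fin n → Fin n → Prop}
    (hQ : ∀ i j, Q' i j → i ≠ j → ∀ k l, Q k l → k ≠ l →
      (i ≠ l ∧ j ≠ k) ∨ (j = k ∧ i ≠ l ∧ Q i l) ∨ (i = l ∧ j ≠ k ∧ Q k j))
    {m g : G} (hm : m ∈ S.cl Q') (hg : g ∈ S.cl Q) : MulAut.conj m g ∈ S.cl Q := by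
  induction hm using Subgroup.closure_induction_left generalizing g with
  | one => rw [map_one]; exact hg
  | mul_left y hy a _ ha =>
    obtain ⟨i, j, hij', hij, t, rfl⟩ := hy
    rw [map_mul, MulAut.mul_apply]
    exact S.cl_conj hij (hQ i j hij' hij) (ha hg)
  | inv_mul_cancel y hy a _ ha =>
    obtain ⟨i, j, hij', hij, t, rfl⟩ := hy
    rw [S.x_inv hij, map_mul, MulAut.mul_apply]
    exact S.cl_conj hij (hQ i j hij' hij) (ha hg)

theorem h_conj_cl {i j : Fin n} (hij : i ≠ j) {t : K} (ht : t ≠ 0) {Q : Fin n → Fin n → Prop} {g : G}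
    (hg : g ∈ S.cl Q) : MulAut.conj (S.h i j t) g ∈ S.cl Q := S.h_conj_closure hij ht Q hg

theorem h_conj_cl' {i j : Fin n} (hij : i ≠ j) {t : K} (ht : t ≠ 0) {Q : Fin n → Fin n → Prop} {g : G}
    (hg : g ∈ S.cl Q) : (S.h i j t)⁻¹ * g * S.h i j t ∈ S.cl Q := by
  have := S.h_conj_cl hij (inv_ne_zero ht) hg
  rwa [← S.h_inv hij ht, MulAut.conj_apply, inv_inv] at this

section Pivot

variable (s : Finset (Fin n)) (o p : Fin n)

/-- Row at the pivot. -/
def V : Subgroup G := S.cl fun k l => k = o ∧ l ∈ s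
/-- Column at the pivot. -/
def L : Subgroup G := S.cl fun k l => l = o ∧ k ∈ s
/-- The smaller group. -/
def M : Subgroup G := S.cl fun k l => k ∈ s.erase o ∧ l ∈ s.erase o
/-- The stabiliser. -/
def P : Subgroup G := S.cl fun k l => k ∈ s ∧ l ∈ s.erase o

/-- The big cell. -/
def Big (g : G) : Prop := ∃ l ∈ S.L s o, ∃ c : K, c ≠ 0 ∧ ∃ q ∈ S.P s o, g = l * S.h o p c * q

/-- All cells. -/
def T (g : G) : Prop := ∃ v ∈ S.V s o, ∃ b, S.Big s o p b ∧ g = v * b

variable {s o p}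

theorem M_eq : S.M s o = S.gen (s.erase o) := by
  refine le_antisymm ((Subgroup.closure_le _).2 ?_) ((Subgroup.closure_le _).2 ?_)
  · rintro _ ⟨k, l, ⟨hk, hl⟩, hkl, u, rfl⟩
    exact S.x_mem_gen hk hl hkl u
  · rintro _ ⟨k, hk, l, hl, hkl, u, rfl⟩
    exact S.x_mem_cl (Q := fun k l => k ∈ s.erase o ∧ l ∈ s.erase o) ⟨hk, hl⟩ hkl u

theorem M_le_P : S.M s o ≤ S.P s o := S.cl_mono fun _ _ h _ => ⟨Finset.mem_of_mem_erase h.1, h.2⟩

theorem V_le_P (ho : o ∈ s) : S.V s o ≤ S.P s o := S.cl_mono fun k l h hkl => by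
  obtain ⟨rfl, hl⟩ := h
  exact ⟨ho, Finset.mem_erase.2 ⟨hkl.symm, hl⟩⟩

theorem M_conj_V {m v : G} (hm : m ∈ S.M s o) (hv : v ∈ S.V s o) : MulAut.conj m v ∈ S.V s o := by
  refine S.cl_conj_cl (fun i j hij hne k l hkl hne' => ?_) hm hv
  obtain ⟨rfl, hl⟩ := hkl
  simp only [Finset.mem_erase] at hij
  by_cases h : i = l
  · exact Or.inr (Or.inr ⟨h, hij.2.1, rfl, hij.2.2⟩)
  · exact Or.inl ⟨h, hij.2.1⟩

theorem M_conj_L {m l : G} (hm : m ∈ S.M s o) (hl : l ∈ S.L s o) : MulAut.conj m l ∈ S.L s o := by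
  refine S.cl_conj_cl (fun i j hij hne k l hkl hne' => ?_) hm hl
  obtain ⟨rfl, hk⟩ := hkl
  simp only [Finset.mem_erase] at hij
  by_cases h : j = k
  · exact Or.inr (Or.inl ⟨h, hij.1.1, rfl, hij.1.2⟩)
  · exact Or.inl ⟨hij.1.1, h⟩

theorem M_mul_Big (hop : o ≠ p) {m g : G} (hm : m ∈ S.M s o) (hg : S.Big s o p g) : S.Big s o p (m * g) := by
  obtain ⟨l, hl, c, hc, q, hq, rfl⟩ := hg
  refine ⟨MulAut.conj m l, S.M_conj_L hm hl, c, hc, ((S.h o p c)⁻¹ * m * S.h o p c) * q,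
    mul_mem (S.M_le_P (S.h_conj_cl' hop hc hm)) hq, ?_⟩
  rw [MulAut.conj_apply]
  group

theorem Big_vec (hop : o ≠ p) {g : G} {l q : G} {c : K} (hc : c ≠ 0) (hl : l ∈ S.L s o) (hq : q ∈ S.P s o)
    (hg : g = l * S.h o p c * q) : S.act g (Pi.single o 1) = S.act l (Pi.single o c) := by
  rw [hg, act_mul, act_mul]
  have hq' : S.act q (Pi.single o 1) = Pi.single o 1 := by
    refine S.act_col (B := s.erase o) ?_ _ (fun k hk => Pi.single_eq_of_ne (Finset.ne_of_mem_erase hk) _)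
    refine Subgroup.closure_mono ?_ hq
    rintro _ ⟨k, l, ⟨-, hl⟩, hkl, u, rfl⟩
    exact ⟨l, hl, k, hkl, u, rfl⟩
  rw [hq']
  congr 1
  funext k
  rw [S.act_h hop hc]
  by_cases hk : k = o
  · subst hk; simp
  · by_cases hkp : k = p
    · subst hkp; simp [hk]
    · simp [hk, hkp]

theorem L_act_o {l : G} (hl : l ∈ S.L s o) (v : Fin n → K) : S.act l v o = v o := by
  refine S.act_row (A := s.erase o) ?_ v o (Finset.notMem_erase o s)
  refine Subgroup.closure_mono ?_ hl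
  rintro _ ⟨k, l, ⟨rfl, hk⟩, hkl, u, rfl⟩
  exact ⟨k, Finset.mem_erase.2 ⟨hkl, hk⟩, l, hkl, u, rfl⟩

theorem M_act_o {m : G} (hm : m ∈ S.M s o) (v : Fin n → K) : S.act m v o = v o := by
  refine S.act_row (A := s.erase o) ?_ v o (Finset.notMem_erase o s)
  refine Subgroup.closure_mono ?_ hm
  rintro _ ⟨k, l, ⟨hk, -⟩, hkl, u, rfl⟩
  exact ⟨k, hk, l, hkl, u, rfl⟩

theorem V_decomp {J : Finset (Fin n)} {j : Fin n} (hjo : j ≠ o) {v : G}
    (hv : v ∈ S.cl fun k l => k = o ∧ l ∈ J) :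
    ∃ r, ∃ z ∈ S.cl (fun k l => k = o ∧ l ∈ J.erase j), v = S.x o j r * z := by
  have hcomm : ∀ z ∈ S.cl (fun k l => k = o ∧ l ∈ J.erase j), ∀ r, Commute (S.x o j r) z := by
    intro z hz r
    induction hz using Subgroup.closure_induction with
    | mem y hy =>
      obtain ⟨k, l, ⟨rfl, -⟩, hkl, u, rfl⟩ := hy
      exact S.comm _ _ _ _ hjo.symm hkl hkl hjo r u
    | one => exact Commute.one_right _
    | mul a b _ _ ha hb => exact ha.mul_right hb
    | inv a _ ha => exact ha.inv_right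
  induction hv using Subgroup.closure_induction with
  | mem y hy =>
    obtain ⟨k, l, ⟨rfl, hl⟩, hkl, u, rfl⟩ := hy
    by_cases h : l = j
    · subst h
      exact ⟨u, 1, one_mem _, (mul_one _).symm⟩
    · exact ⟨0, _, S.x_mem_cl ⟨rfl, Finset.mem_erase.2 ⟨h, hl⟩⟩ hkl u, by rw [S.x_zero hjo.symm, one_mul]⟩
  | one => exact ⟨0, 1, one_mem _, by rw [S.x_zero hjo.symm, one_mul]⟩
  | mul a b _ _ ha hb =>
    obtain ⟨r, z, hz, rfl⟩ := ha
    obtain ⟨r', z', hz', rfl⟩ := hb
    refine ⟨r + r', z * z', mul_mem hz hz', ?_⟩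
    rw [← S.xadd o j hjo.symm, mul_assoc, ← mul_assoc z, ← (hcomm z hz r').eq]
    group
  | inv a _ ha =>
    obtain ⟨r, z, hz, rfl⟩ := ha
    refine ⟨-r, z⁻¹, inv_mem hz, ?_⟩
    rw [_root_.mul_inv_rev, ← S.x_inv hjo.symm, ((hcomm z hz r).inv_inv).eq]

theorem L_decomp {J : Finset (Fin n)} {j : Fin n} (hjo : j ≠ o) {v : G}
    (hv : v ∈ S.cl fun k l => l = o ∧ k ∈ J) :
    ∃ r, ∃ z ∈ S.cl (fun k l => l = o ∧ k ∈ J.erase j), v = S.x j o r * z := by
  have hcomm : ∀ z ∈ S.cl (fun k l => l = o ∧ k ∈ J.erase j), ∀ r, Commute (S.x j o r) z := by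
    intro z hz r
    induction hz using Subgroup.closure_induction with
    | mem y hy =>
      obtain ⟨k, l, ⟨rfl, -⟩, hkl, u, rfl⟩ := hy
      exact S.comm _ _ _ _ hjo hkl hjo hkl.symm r u
    | one => exact Commute.one_right _
    | mul a b _ _ ha hb => exact ha.mul_right hb
    | inv a _ ha => exact ha.inv_right
  induction hv using Subgroup.closure_induction with
  | mem y hy =>
    obtain ⟨k, l, ⟨rfl, hl⟩, hkl, u, rfl⟩ := hy
    by_cases h : k = j
    · subst h
      exact ⟨u, 1, one_mem _, (mul_one _).symm⟩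
    · exact ⟨0, _, S.x_mem_cl ⟨rfl, Finset.mem_erase.2 ⟨h, hl⟩⟩ hkl u, by rw [S.x_zero hjo, one_mul]⟩
  | one => exact ⟨0, 1, one_mem _, by rw [S.x_zero hjo, one_mul]⟩
  | mul a b _ _ ha hb =>
    obtain ⟨r, z, hz, rfl⟩ := ha
    obtain ⟨r', z', hz', rfl⟩ := hb
    refine ⟨r + r', z * z', mul_mem hz hz', ?_⟩
    rw [← S.xadd j o hjo, mul_assoc, ← mul_assoc z, ← (hcomm z hz r').eq]
    group
  | inv a _ ha =>
    obtain ⟨r, z, hz, rfl⟩ := ha
    refine ⟨-r, z⁻¹, inv_mem hz, ?_⟩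
    rw [_root_.mul_inv_rev, ← S.x_inv hjo, ((hcomm z hz r).inv_inv).eq]

theorem cl_empty {Q : Fin n → Fin n → Prop} (hQ : ∀ k l, k ≠ l → ¬ Q k l) {g : G} (hg : g ∈ S.cl Q) : g = 1 := by
  induction hg using Subgroup.closure_induction with
  | mem y hy => obtain ⟨k, l, hkl', hkl, -⟩ := hy; exact absurd hkl' (hQ k l hkl)
  | one => rfl
  | mul a b _ _ ha hb => rw [ha, hb, one_mul]
  | inv a _ ha => rw [ha, inv_one]

theorem V_inj : ∀ J : Finset (Fin n), ∀ v ∈ S.cl (fun k l => k = o ∧ l ∈ J),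
    (∀ w, w o = 0 → S.act v w o = 0) → v = 1 := by
  intro J
  induction J using Finset.strongInduction with
  | H J ih =>
    intro v hv hfix
    by_cases hJ : ∀ j ∈ J, j = o
    · exact S.cl_empty (fun k l hkl h => hkl (by rw [h.1, hJ l h.2])) hv
    push Not at hJ
    obtain ⟨j, hj, hjo⟩ := hJ
    obtain ⟨r, z, hz, rfl⟩ := S.V_decomp hjo hv
    have hz1 : S.act z (Pi.single j 1) = Pi.single j 1 := by
      refine S.act_col (B := (J.erase j)) ?_ _ (fun k hk => Pi.single_eq_of_ne (Finset.ne_of_mem_erase hk) _)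
      refine Subgroup.closure_mono ?_ hz
      rintro _ ⟨k, l, ⟨-, hl⟩, hkl, u, rfl⟩
      exact ⟨l, hl, k, hkl, u, rfl⟩
    have hr := hfix (Pi.single j 1) (Pi.single_eq_of_ne hjo.symm _)
    rw [act_mul, hz1, S.act_x hjo.symm] at hr
    simp [hjo.symm] at hr
    rw [hr, S.x_zero hjo.symm, one_mul] at hfix ⊢
    exact ih _ (Finset.erase_ssubset hj) z hz hfix

theorem L_inj : ∀ J : Finset (Fin n), ∀ v ∈ S.cl (fun k l => l = o ∧ k ∈ J),
    S.act v (Pi.single o 1) = Pi.single o 1 → v = 1 := by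
  intro J
  induction J using Finset.strongInduction with
  | H J ih =>
    intro v hv hfix
    by_cases hJ : ∀ j ∈ J, j = o
    · exact S.cl_empty (fun k l hkl h => hkl (by rw [h.1, hJ k h.2])) hv
    push Not at hJ
    obtain ⟨j, hj, hjo⟩ := hJ
    obtain ⟨r, z, hz, rfl⟩ := S.L_decomp hjo hv
    have hrow : ∀ w k, k ∉ (J.erase j).erase o → S.act z w k = w k := by
      refine S.act_row ?_
      refine Subgroup.closure_mono ?_ hz
      rintro _ ⟨k, l, ⟨rfl, hk⟩, hkl, u, rfl⟩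
      exact ⟨k, Finset.mem_erase.2 ⟨hkl, hk⟩, l, hkl, u, rfl⟩
    have hr := congrFun hfix j
    rw [act_mul, S.act_x hjo, hrow _ j (by simp), hrow _ o (by simp)] at hr
    simp [hjo] at hr
    rw [hr, S.x_zero hjo, one_mul] at hfix ⊢
    exact ih _ (Finset.erase_ssubset hj) z hz hfix

/-- Every non-trivial row element is conjugate under `M` into a root subgroup. -/
theorem V_single : ∀ J : Finset (Fin n), J ⊆ s → ∀ v ∈ S.cl (fun k l => k = o ∧ l ∈ J), v ≠ 1 →
    ∃ j ∈ s, j ≠ o ∧ ∃ b : K, ∃ m ∈ S.M s o, v = m * S.x o j b * m⁻¹ := by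
  intro J
  induction J using Finset.strongInduction with
  | H J ih =>
    intro hJs v hv hv1
    by_cases hJ : ∀ j ∈ J, j = o
    · exact absurd (S.cl_empty (fun k l hkl h => hkl (by rw [h.1, hJ l h.2])) hv) hv1
    push Not at hJ
    obtain ⟨j, hj, hjo⟩ := hJ
    obtain ⟨r, z, hz, rfl⟩ := S.V_decomp hjo hv
    by_cases hr : r = 0
    · rw [hr, S.x_zero hjo.symm, one_mul] at hv1 ⊢
      exact ih _ (Finset.erase_ssubset hj) ((Finset.erase_subset _ _).trans hJs) z hz hv1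
    refine ⟨j, hJs hj, hjo, r, ?_⟩
    have key : ∃ m ∈ S.cl (fun k l => k = j ∧ l ∈ (J.erase j).erase o),
        MulAut.conj m (S.x o j r) = S.x o j r * z := by
      have hcom : ∀ m ∈ S.cl (fun k l => k = j ∧ l ∈ (J.erase j).erase o),
          ∀ y ∈ S.cl (fun k l => k = o ∧ l ∈ J.erase j), Commute m y := by
        intro m hm y hy
        induction hm using Subgroup.closure_induction with
        | mem a ha =>
          obtain ⟨k, l, ⟨rfl, hl⟩, hkl, u, rfl⟩ := ha
          simp only [Finset.mem_erase] at hl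
          induction hy using Subgroup.closure_induction with
          | mem b hb =>
            obtain ⟨k', l', ⟨rfl, hl'⟩, hkl', u', rfl⟩ := hb
            simp only [Finset.mem_erase] at hl'
            exact S.comm _ _ _ _ hkl hkl' hl'.1.symm hl.1 u u'
          | one => exact Commute.one_right _
          | mul a b _ _ ha hb => exact ha.mul_right hb
          | inv a _ ha => exact ha.inv_right
        | one => exact Commute.one_left _
        | mul a b _ _ ha hb => exact ha.mul_left hb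
        | inv a _ ha => exact ha.inv_left
      clear hv hv1
      induction hz using Subgroup.closure_induction with
      | mem y hy =>
        obtain ⟨k, l, ⟨rfl, hl⟩, hkl, u, rfl⟩ := hy
        have hl' := Finset.mem_erase.1 hl
        refine ⟨S.x j l (-(r⁻¹ * u)), S.x_mem_cl ⟨rfl, Finset.mem_erase.2 ⟨hkl.symm, hl⟩⟩ hl'.1.symm _, ?_⟩
        rw [S.conj_right hjo.symm hl'.1.symm hkl, show -(r * -(r⁻¹ * u)) = u by field_simp,
          (S.comm _ _ _ _ hkl hjo.symm hjo.symm hkl.symm u r).eq]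
      | one => exact ⟨1, one_mem _, by rw [map_one, mul_one]; rfl⟩
      | mul a b ha' hb' ha hb =>
        obtain ⟨m, hm, hme⟩ := ha
        obtain ⟨m', hm', hme'⟩ := hb
        refine ⟨m * m', mul_mem hm hm', ?_⟩
        rw [map_mul, MulAut.mul_apply, hme', map_mul, hme, MulAut.conj_apply, (hcom m hm b hb').eq,
          mul_inv_cancel_right, mul_assoc]
      | inv a ha' ha =>
        obtain ⟨m, hm, hme⟩ := ha
        refine ⟨m⁻¹, inv_mem hm, ?_⟩
        have h2 := (hcom m hm a⁻¹ (inv_mem ha')).eq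
        rw [MulAut.conj_apply, inv_inv, mul_assoc, inv_mul_eq_iff_eq_mul, ← mul_assoc]
        rw [MulAut.conj_apply, mul_inv_eq_iff_eq_mul] at hme
        rw [hme, mul_assoc (S.x o j r * a), h2]
        group
    obtain ⟨m, hm, hme⟩ := key
    refine ⟨m, S.cl_mono (fun k l h _ => ?_) hm, ?_⟩
    · obtain ⟨rfl, hl⟩ := h
      simp only [Finset.mem_erase] at hl ⊢
      exact ⟨⟨hjo, hJs hj⟩, hl.1, hJs hl.2.2⟩
    · rw [← hme, MulAut.conj_apply]

theorem h_split {j : Fin n} (hop : o ≠ p) (hoj : o ≠ j) (hpj : p ≠ j) {c : K} (hc : c ≠ 0) :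
    S.h o p c * (S.h o j c)⁻¹ = S.h p j c⁻¹ := by
  have e : ∀ u y, MulAut.conj (S.h o p u) y = MulAut.conj (S.w o p u) (MulAut.conj (S.w o p (-1)) y) := fun u y => by
    rw [h, S.w_inv hop, map_mul, MulAut.mul_apply]
  have h1 : (-1 : K) ≠ 0 := neg_ne_zero.2 one_ne_zero
  have a1 : MulAut.conj (S.h o p c) (S.w p j 1) = S.w p j c⁻¹ := by
    rw [w, map_mul, map_mul, e, e, S.w2 hop hoj hpj h1, S.w1 hop hoj hpj hc, S.w4 hop hoj hpj h1,
      S.w3 hop hoj hpj hc, w]
    simp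
  have a2 : MulAut.conj (S.w p j 1) (S.h o p c) = S.h o j c := by
    have b : ∀ u, MulAut.conj (S.w p j 1) (S.w o p u) = S.w o j (-u) := fun u => by
      rw [show S.w o p u = S.x o p u * S.x p o (-u⁻¹) * S.x o p u from rfl, map_mul, map_mul,
        S.w3 hpj hop.symm hoj.symm one_ne_zero, S.w1 hpj hop.symm hoj.symm one_ne_zero, w]
      simp
    rw [h, map_mul, map_inv, b, b, show S.w o j (-c) * (S.w o j (-1))⁻¹ =
      S.h o j (-c) * (S.h o j (-1))⁻¹ by rw [h, h]; group, show -c = c * -1 by ring, S.h_mul hoj hc h1,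
      mul_inv_cancel_right]
  rw [show S.h p j c⁻¹ = S.w p j c⁻¹ * (S.w p j 1)⁻¹ from rfl, ← a1, ← a2, MulAut.conj_apply, MulAut.conj_apply]
  group

theorem step_single (hop : o ≠ p) (ho : o ∈ s) (hp : p ∈ s) {j : Fin n} (hj : j ∈ s) (hjo : j ≠ o) {b : K} {g : G}
    (hg : S.Big s o p g) (hne : S.act (S.x o j b * g) (Pi.single o 1) o ≠ 0) : S.Big s o p (S.x o j b * g) := by
  obtain ⟨l, hl, c, hc, q, hq, rfl⟩ := hg
  obtain ⟨a, l', hl', rfl⟩ := S.L_decomp (J := s) hjo hl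
  have hvec := S.Big_vec hop hc (l := S.x j o a * l') hl hq rfl
  have hrow : ∀ w k, k ∉ (s.erase j).erase o → S.act l' w k = w k := by
    refine S.act_row ?_
    refine Subgroup.closure_mono ?_ hl'
    rintro _ ⟨k, l, ⟨rfl, hk⟩, hkl, u, rfl⟩
    exact ⟨k, Finset.mem_erase.2 ⟨hkl, hk⟩, l, hkl, u, rfl⟩
  rw [act_mul, hvec, act_mul, S.act_x hjo.symm, S.act_x hjo, S.act_x hjo, hrow _ o (by simp),
    hrow _ j (by simp)] at hne
  simp [hjo, hjo.symm] at hne
  have hd : (1 : K) + b * a ≠ 0 := fun h => hne (by linear_combination c * h)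
  obtain ⟨d, hd'⟩ : ∃ d, d = (1 : K) + b * a := ⟨_, rfl⟩
  rw [← hd'] at hd
  have key : S.x o j b * S.x j o a = S.x j o (a * d⁻¹) * S.h o j d * S.x o j (b * d⁻¹) := by
    refine mul_inv_eq_one.1 (S.inj_two hjo.symm ?_ ?_)
    · refine mul_mem (mul_mem ?_ ?_) (inv_mem (mul_mem (mul_mem ?_ ?_) ?_))
      any_goals exact S.x_mem_gen (by simp) (by simp) hjo.symm _
      any_goals exact S.x_mem_gen (by simp) (by simp) hjo _
      exact S.h_mem_gen (by simp) (by simp) hjo.symm _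
    · rw [map_mul, map_inv, mul_inv_eq_one]
      refine S.phi_eq fun v => funext fun k => ?_
      simp only [act_mul, S.act_x hjo.symm, S.act_x hjo, S.act_h hjo.symm hd]
      by_cases hko : k = o
      · subst hko; simp [hjo, hjo.symm]; field_simp; rw [hd']; ring
      · by_cases hkj : k = j
        · subst hkj; simp [hjo, hjo.symm]; field_simp; rw [hd']; ring
        · simp [hko, hkj]
  have hq' : MulAut.conj l'⁻¹ (S.x o j (b * d⁻¹)) ∈ S.P s o := by
    have h1 : MulAut.conj l'⁻¹ (S.x o j (b * d⁻¹)) ∈ S.cl (fun k m => m = j ∧ k ∈ s) := by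
      refine S.cl_conj_cl (Q' := fun k m => m = o ∧ k ∈ s.erase j) (fun i i' hi hne k m hkm hne' => ?_)
        (inv_mem hl') (S.x_mem_cl ⟨rfl, ho⟩ hjo.symm _)
      obtain ⟨rfl, hi⟩ := hi
      obtain ⟨rfl, hk⟩ := hkm
      have hi' := Finset.mem_erase.1 hi
      by_cases h : i' = k
      · exact Or.inr (Or.inl ⟨h, hi'.1, rfl, hi'.2⟩)
      · exact Or.inl ⟨hi'.1, h⟩
    refine S.cl_mono (fun k m h hkm => ?_) h1
    obtain ⟨rfl, hk⟩ := h
    exact ⟨hk, Finset.mem_erase.2 ⟨hjo, hj⟩⟩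
  obtain ⟨m0, hm0, hm0e⟩ : ∃ m0 ∈ S.M s o, S.h o j d = S.h o p d * m0 := by
    by_cases hpj : p = j
    · subst hpj; exact ⟨1, one_mem _, (mul_one _).symm⟩
    refine ⟨(S.h o p d)⁻¹ * (S.h p j d⁻¹)⁻¹ * S.h o p d, S.h_conj_cl' hop hd (inv_mem ?_), ?_⟩
    · exact (S.M_eq (s := s) (o := o)).ge <| S.h_mem_gen (Finset.mem_erase.2 ⟨hop.symm, hp⟩)
        (Finset.mem_erase.2 ⟨hjo, hj⟩) hpj _
    · rw [← S.h_split hop hjo.symm hpj hd]; group
  refine ⟨S.x j o (a * d⁻¹) * MulAut.conj (S.h o j d) l', mul_mem (S.x_mem_cl ⟨rfl, hj⟩ hjo _)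
    (S.h_conj_cl hjo.symm hd (S.cl_mono (fun k l h _ => ⟨h.1, Finset.mem_of_mem_erase h.2⟩) hl')), d * c,
    mul_ne_zero hd hc,
    ((S.h o p c)⁻¹ * m0 * S.h o p c) * ((S.h o p c)⁻¹ * MulAut.conj l'⁻¹ (S.x o j (b * d⁻¹)) * S.h o p c) * q,
    mul_mem (mul_mem (S.M_le_P (S.h_conj_cl' hop hc hm0)) (S.h_conj_cl' hop hc hq')) hq, ?_⟩
  calc S.x o j b * (S.x j o a * l' * S.h o p c * q)
      = S.x o j b * S.x j o a * (l' * S.h o p c * q) := by group
    _ = _ := by
        rw [key, MulAut.conj_apply, MulAut.conj_apply, hm0e, S.h_mul hop hd hc]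
        group

theorem step_A (hop : o ≠ p) (ho : o ∈ s) (hp : p ∈ s) {v g : G} (hv : v ∈ S.V s o) (hg : S.Big s o p g)
    (hne : S.act (v * g) (Pi.single o 1) o ≠ 0) : S.Big s o p (v * g) := by
  by_cases hv1 : v = 1
  · rwa [hv1, one_mul]
  obtain ⟨j, hj, hjo, b, m, hm, rfl⟩ := S.V_single s (Finset.Subset.refl s) v hv hv1
  rw [mul_assoc, mul_assoc, act_mul, S.M_act_o hm] at hne
  rw [mul_assoc, mul_assoc]
  exact S.M_mul_Big hop hm (S.step_single hop ho hp hj hjo (S.M_mul_Big hop (inv_mem hm) hg) hne)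

theorem M_mul_T (hop : o ≠ p) {m g : G} (hm : m ∈ S.M s o) (hg : S.T s o p g) : S.T s o p (m * g) := by
  obtain ⟨v, hv, b, hb, rfl⟩ := hg
  exact ⟨MulAut.conj m v, S.M_conj_V hm hv, m * b, S.M_mul_Big hop hm hb, by rw [MulAut.conj_apply]; group⟩

theorem V_mul_T {v g : G} (hv : v ∈ S.V s o) (hg : S.T s o p g) : S.T s o p (v * g) := by
  obtain ⟨v', hv', b, hb, rfl⟩ := hg
  exact ⟨v * v', mul_mem hv hv', b, hb, (mul_assoc _ _ _).symm⟩

theorem L_mul_Big {l g : G} (hl : l ∈ S.L s o) (hg : S.Big s o p g) : S.Big s o p (l * g) := by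
  obtain ⟨l', hl', c, hc, q, hq, rfl⟩ := hg
  exact ⟨l * l', mul_mem hl hl', c, hc, q, hq, by group⟩

theorem Big_T {g : G} (hg : S.Big s o p g) : S.T s o p g := ⟨1, one_mem _, g, hg, (one_mul g).symm⟩

theorem col_T (hop : o ≠ p) (ho : o ∈ s) (hp : p ∈ s) {i : Fin n} (hi : i ∈ s) (hio : i ≠ o) (t : K) {g : G}
    (hg : S.T s o p g)
    (hu : S.act g (Pi.single o 1) o ≠ 0 ∨ ∃ k ∈ s, k ≠ o ∧ k ≠ i ∧ S.act g (Pi.single o 1) k ≠ 0) :
    S.T s o p (S.x i o t * g) := by
  obtain ⟨v, hv, b, hb, rfl⟩ := hg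
  have hx : S.x i o t ∈ S.L s o := S.x_mem_cl ⟨rfl, hi⟩ hio t
  by_cases h0 : S.act (v * b) (Pi.single o 1) o ≠ 0
  · exact S.Big_T (S.L_mul_Big hx (S.step_A hop ho hp hv hb h0))
  rw [not_not] at h0
  obtain ⟨k, hk, hko, hki, hku⟩ := hu.resolve_left (fun h => h h0)
  obtain ⟨b', hb', he⟩ : ∃ b', S.Big s o p b' ∧ v * b = S.x o k 1 * b' := by
    refine ⟨S.x o k (-1) * v * b, S.step_A hop ho hp (mul_mem (S.x_mem_cl ⟨rfl, hk⟩ hko.symm _) hv) hb ?_, ?_⟩
    · rw [mul_assoc, act_mul, S.act_x hko.symm, if_pos rfl, h0, zero_add, neg_one_mul, neg_ne_zero]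
      exact hku
    · rw [← mul_assoc, ← mul_assoc, S.xadd o k hko.symm, add_neg_cancel, S.x_zero hko.symm, one_mul]
  rw [he, ← mul_assoc, S.comm3 i o k hio hko.symm hki.symm, mul_assoc, mul_assoc]
  exact S.M_mul_T hop (S.x_mem_cl ⟨Finset.mem_erase.2 ⟨hio, hi⟩, Finset.mem_erase.2 ⟨hko, hk⟩⟩ hki.symm _)
    (S.V_mul_T (S.x_mem_cl ⟨rfl, hk⟩ hko.symm _) (S.Big_T (S.L_mul_Big hx hb')))

theorem all_T (hop : o ≠ p) (ho : o ∈ s) (hp : p ∈ s) (hcard : 3 ≤ s.card) {g : G} (hg : g ∈ S.gen s) :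
    S.T s o p g := by
  have step : ∀ i ∈ s, ∀ j ∈ s, i ≠ j → ∀ (t : K) (g : G), g ∈ S.gen s → S.T s o p g →
      S.T s o p (S.x i j t * g) := by
    intro i hi j hj hij t g hgs hT
    by_cases hjo : j = o
    · subst hjo
      by_cases hu : S.act g (Pi.single j 1) j ≠ 0 ∨ ∃ k ∈ s, k ≠ j ∧ k ≠ i ∧ S.act g (Pi.single j 1) k ≠ 0
      · exact S.col_T hop ho hp hi hij t hT hu
      rw [not_or, not_not] at hu
      obtain ⟨h0, hu⟩ := hu
      push Not at hu
      have hne : S.act g (Pi.single j 1) i ≠ 0 := by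
        intro h
        have hz : S.act g (Pi.single j 1) = 0 := funext fun k => by
          by_cases hks : k ∈ s
          · by_cases hkj : k = j
            · subst hkj; exact h0
            · by_cases hki : k = i
              · subst hki; exact h
              · exact hu k hks hkj hki
          · have hrow : S.act g (Pi.single j 1) k = (Pi.single j 1 : Fin n → K) k := by
              refine S.act_row (A := s) ?_ _ k hks
              refine Subgroup.closure_mono ?_ hgs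
              rintro _ ⟨a, ha, b, -, hab, u, rfl⟩
              exact ⟨a, ha, b, hab, u, rfl⟩
            rw [hrow, Pi.single_eq_of_ne (fun h => hks (by rw [h]; exact ho))]
            rfl
        have h2 := congrArg (S.act g⁻¹) hz
        rw [act_inv'] at h2
        have h3 := congrFun h2 j
        rw [Pi.single_eq_same] at h3
        exact one_ne_zero (h3.trans (by rw [act, Matrix.mulVec_zero]; rfl))
      obtain ⟨k, hk, hknot⟩ := Finset.exists_mem_notMem_of_card_lt_card (s := ({j, i} : Finset (Fin n))) (t := s)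
        (lt_of_le_of_lt Finset.card_le_two (by omega))
      simp only [Finset.mem_insert, Finset.mem_singleton, not_or] at hknot
      obtain ⟨hkj, hki⟩ := hknot
      have hM : ∀ u, S.x k i u ∈ S.M s j := fun u =>
        S.x_mem_cl ⟨Finset.mem_erase.2 ⟨hkj, hk⟩, Finset.mem_erase.2 ⟨hij, hi⟩⟩ hki u
      have hg2 : S.T s j p (S.x k i 1 * g) := S.M_mul_T hop (hM 1) hT
      have hg3 := S.col_T hop ho hp hi hij t hg2 (Or.inr ⟨k, hk, hkj, hki, by
        rw [act_mul, S.act_x hki, if_pos rfl, hu k hk hkj hki, zero_add, one_mul]; exact hne⟩)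
      have hg4 := S.col_T hop ho hp hk hkj t (S.M_mul_T hop (hM (-1)) hg3) (Or.inr ⟨i, hi, hij, Ne.symm hki, by
        rw [act_mul, S.act_x hki, if_neg (Ne.symm hki), add_zero, act_mul, S.act_x hij, if_pos rfl, act_mul,
          S.act_x hki, if_neg (Ne.symm hki), add_zero, S.act_x hki, if_neg (Ne.symm hkj), add_zero, h0, mul_zero,
          add_zero]
        exact hne⟩)
      have e : S.x k j t * (S.x k i (-1) * (S.x i j t * (S.x k i 1 * g))) = S.x i j t * g := by
        have e1 : S.x k j t * (S.x k i (-1) * S.x i j t) = S.x i j t * S.x k i (-1) := by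
          rw [S.comm3 k i j hki hij hkj, ← mul_assoc, ← mul_assoc, S.xadd k j hkj, show t + -1 * t = 0 by ring,
            S.x_zero hkj, one_mul]
        rw [← mul_assoc (S.x k i (-1)), ← mul_assoc, e1, mul_assoc, ← mul_assoc (S.x k i (-1)),
          S.xadd k i hki, neg_add_cancel, S.x_zero hki, one_mul]
      rwa [e] at hg4
    by_cases hio : i = o
    · subst hio
      exact S.V_mul_T (S.x_mem_cl ⟨rfl, hj⟩ hij t) hT
    · exact S.M_mul_T hop (S.x_mem_cl ⟨Finset.mem_erase.2 ⟨hio, hi⟩, Finset.mem_erase.2 ⟨hjo, hj⟩⟩ hij t) hT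
  induction hg using Subgroup.closure_induction_left with
  | one => exact S.Big_T ⟨1, one_mem _, 1, one_ne_zero, 1, one_mem _, by rw [h_one, one_mul, one_mul]⟩
  | mul_left y hy a ha iha =>
    obtain ⟨i, hi, j, hj, hij, t, rfl⟩ := hy
    exact step i hi j hj hij t a ha iha
  | inv_mul_cancel y hy a ha iha =>
    obtain ⟨i, hi, j, hj, hij, t, rfl⟩ := hy
    rw [S.x_inv hij]
    exact step i hi j hj hij _ a ha iha

end Pivot

theorem inj : ∀ s : Finset (Fin n), ∀ g ∈ S.gen s, S.φ g = 1 → g = 1 := by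
  intro s
  induction s using Finset.strongInduction with
  | H s ih =>
    intro g hg h1
    rcases lt_trichotomy s.card 2 with hc | hc | hc
    · refine S.cl_empty (Q := fun k l => k ∈ s ∧ l ∈ s) (fun k l hkl h => hkl ?_) ?_
      · exact Finset.card_le_one.1 (by omega) k h.1 l h.2
      · refine Subgroup.closure_mono ?_ hg
        rintro _ ⟨k, hk, l, hl, hkl, u, rfl⟩
        exact ⟨k, l, ⟨hk, hl⟩, hkl, u, rfl⟩
    · obtain ⟨i, j, hij, rfl⟩ := Finset.card_eq_two.1 hc
      exact S.inj_two hij hg h1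
    obtain ⟨o, p, ho, hp, hop⟩ : ∃ o p, o ∈ s ∧ p ∈ s ∧ o ≠ p := by
      obtain ⟨o, ho, p, hp, hop⟩ := Finset.one_lt_card.1 (by omega : 1 < s.card)
      exact ⟨o, p, ho, hp, hop⟩
    have hfix : ∀ v, S.act g v = v := fun v => by rw [act, h1]; exact Matrix.one_mulVec v
    obtain ⟨v, hv, b, hb, rfl⟩ := S.all_T hop ho hp (by omega) hg
    obtain ⟨l, hl, c, hc', q, hq, he⟩ := S.step_A hop ho hp hv hb (by rw [hfix, Pi.single_eq_same]; exact one_ne_zero)
    have hvec := S.Big_vec hop hc' hl hq he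
    rw [hfix] at hvec
    have hc1 : c = 1 := by
      have := congrFun hvec o
      rw [S.L_act_o hl, Pi.single_eq_same, Pi.single_eq_same] at this
      exact this.symm
    subst hc1
    have hl1 : l = 1 := S.L_inj s l hl hvec.symm
    rw [hl1, h_one, one_mul, one_mul] at he
    -- the element fixes the pivot, so splits as row times smaller
    have hPM : ∀ y ∈ S.P s o, ∃ a ∈ S.V s o, ∃ m ∈ S.M s o, y = a * m := by
      intro y hy
      induction hy using Subgroup.closure_induction with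
      | mem z hz =>
        obtain ⟨k, l, ⟨hk, hl⟩, hkl, u, rfl⟩ := hz
        by_cases hko : k = o
        · subst hko
          exact ⟨_, S.x_mem_cl ⟨rfl, Finset.mem_of_mem_erase hl⟩ hkl u, 1, one_mem _, (mul_one _).symm⟩
        · exact ⟨1, one_mem _, _, S.x_mem_cl ⟨Finset.mem_erase.2 ⟨hko, hk⟩, hl⟩ hkl u, (one_mul _).symm⟩
      | one => exact ⟨1, one_mem _, 1, one_mem _, (mul_one _).symm⟩
      | mul a b _ _ ha hb =>
        obtain ⟨a1, ha1, m1, hm1, rfl⟩ := ha
        obtain ⟨a2, ha2, m2, hm2, rfl⟩ := hb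
        refine ⟨a1 * MulAut.conj m1 a2, mul_mem ha1 (S.M_conj_V hm1 ha2), m1 * m2, mul_mem hm1 hm2, ?_⟩
        rw [MulAut.conj_apply]; group
      | inv a _ ha =>
        obtain ⟨a1, ha1, m1, hm1, rfl⟩ := ha
        refine ⟨MulAut.conj m1⁻¹ a1⁻¹, S.M_conj_V (inv_mem hm1) (inv_mem ha1), m1⁻¹, inv_mem hm1, ?_⟩
        rw [MulAut.conj_apply]; group
    obtain ⟨a, ha, m, hm, ham⟩ := hPM q hq
    have hgam : v * b = a * m := he.trans ham
    have ha1 : a = 1 := S.V_inj s a ha fun w hw => by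
      have e1 := congrFun (hfix (S.act m⁻¹ w)) o
      rw [hgam, act_mul, act_inv, S.M_act_o (inv_mem hm), hw] at e1
      exact e1
    rw [hgam, ha1, one_mul] at h1 ⊢
    exact ih (s.erase o) (Finset.erase_ssubset ho) m (S.M_eq (s := s) (o := o) ▸ hm) h1

end St

/-- The relators of the presentation. -/
def rels (n : ℕ) (K : Type*) [Field K] : Set (FreeGroup ({ij : Fin n × Fin n // ij.1 ≠ ij.2} × K)) :=
  {g | ∃ (a : {ij : Fin n × Fin n // ij.1 ≠ ij.2}) (t u : K),
      g = FreeGroup.of (a, t) * FreeGroup.of (a, u) * (FreeGroup.of (a, t + u))⁻¹} ∪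
    {g | ∃ (a b : {ij : Fin n × Fin n // ij.1 ≠ ij.2}) (t u : K), a.1.1 ≠ b.1.2 ∧ a.1.2 ≠ b.1.1 ∧
      g = FreeGroup.of (a, t) * FreeGroup.of (b, u) * (FreeGroup.of (a, t))⁻¹ * (FreeGroup.of (b, u))⁻¹} ∪
    {g | ∃ (a b : {ij : Fin n × Fin n // ij.1 ≠ ij.2}) (h : a.1.1 ≠ b.1.2) (t u : K), a.1.2 = b.1.1 ∧
      g = FreeGroup.of (a, t) * FreeGroup.of (b, u) * (FreeGroup.of (a, t))⁻¹ * (FreeGroup.of (b, u))⁻¹ *
        (FreeGroup.of (⟨(a.1.1, b.1.2), h⟩, t * u))⁻¹}

theorem main {K : Type*} [Field K] [Finite K] (n : ℕ) (hn : 3 ≤ n) :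
    ∃ e : PresentedGroup (rels n K) ≃* SpecialLinearGroup (Fin n) K,
      ∀ (a : {ij : Fin n × Fin n // ij.1 ≠ ij.2}) (t : K),
        ((e (PresentedGroup.of (a, t)) : Matrix (Fin n) (Fin n) K)) = Matrix.transvection a.1.1 a.1.2 t := by
  classical
  haveI : Nontrivial (Fin n) := Fin.nontrivial_iff_two_le.2 (by omega)
  obtain ⟨f, hf⟩ : ∃ f : {ij : Fin n × Fin n // ij.1 ≠ ij.2} × K → SpecialLinearGroup (Fin n) K,
      ∀ p, f p = SpecialLinearGroup.transvection p.1.2 p.2 := ⟨_, fun _ => rfl⟩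
  have hrel : ∀ r ∈ rels n K, FreeGroup.lift f r = 1 := by
    rintro r ((⟨a, t, u, rfl⟩ | ⟨a, b, t, u, h1, h2, rfl⟩) | ⟨a, b, h, t, u, h2, rfl⟩)
    · simp only [map_mul, map_inv, FreeGroup.lift_apply_of, hf]
      rw [← SpecialLinearGroup.transvection_add, mul_inv_cancel]
    · simp only [map_mul, map_inv, FreeGroup.lift_apply_of, hf]
      rw [mul_inv_eq_one, mul_inv_eq_iff_eq_mul]
      refine Subtype.ext ?_
      show (SpecialLinearGroup.transvection a.2 t).1 * (SpecialLinearGroup.transvection b.2 u).1 =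
        (SpecialLinearGroup.transvection b.2 u).1 * (SpecialLinearGroup.transvection a.2 t).1
      simp [SpecialLinearGroup.transvection_coe, mul_add, add_mul, single_mul_single_of_ne _ _ _ _ h2,
        single_mul_single_of_ne _ _ _ _ h1.symm]
      abel
    · simp only [map_mul, map_inv, FreeGroup.lift_apply_of, hf]
      rw [mul_inv_eq_one, mul_inv_eq_iff_eq_mul, mul_inv_eq_iff_eq_mul]
      refine Subtype.ext ?_
      show (SpecialLinearGroup.transvection a.2 t).1 * (SpecialLinearGroup.transvection b.2 u).1 =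
        (SpecialLinearGroup.transvection h (t * u)).1 * (SpecialLinearGroup.transvection b.2 u).1 *
          (SpecialLinearGroup.transvection a.2 t).1
      obtain ⟨⟨i, j⟩, hij⟩ := a
      obtain ⟨⟨j', l⟩, hjl⟩ := b
      simp only at h h2 hij hjl ⊢
      subst h2
      simp [SpecialLinearGroup.transvection_coe, mul_add, add_mul, single_mul_single_same,
        single_mul_single_of_ne _ _ _ _ h.symm, single_mul_single_of_ne _ _ _ _ hjl.symm,
        single_mul_single_of_ne _ _ _ _ hij.symm]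
      abel
  let φ : PresentedGroup (rels n K) →* SpecialLinearGroup (Fin n) K := PresentedGroup.toGroup hrel
  have φof : ∀ a t, φ (PresentedGroup.of (a, t)) = SpecialLinearGroup.transvection a.2 t := fun a t => by
    rw [show φ (PresentedGroup.of (a, t)) = f (a, t) from PresentedGroup.toGroup.of _, hf]
  let S : St n K (PresentedGroup (rels n K)) :=
    { x := fun i j t => if h : i ≠ j then PresentedGroup.of (⟨(i, j), h⟩, t) else 1
      φ := φ
      φx := fun i j h t => by rw [dif_pos h, φof]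
      xadd := fun i j h t u => by
        rw [dif_pos h, dif_pos h, dif_pos h, ← mul_inv_eq_one]
        exact PresentedGroup.one_of_mem (Or.inl (Or.inl ⟨_, t, u, rfl⟩))
      comm := fun i j k l h1 h2 h3 h4 t u => by
        rw [dif_pos h1, dif_pos h2, commute_iff_eq, ← mul_inv_eq_iff_eq_mul, ← mul_inv_eq_one]
        exact PresentedGroup.one_of_mem (Or.inl (Or.inr ⟨⟨(i, j), h1⟩, ⟨(k, l), h2⟩, t, u, h3, h4, rfl⟩))
      comm3 := fun i j l h1 h2 h3 t u => by
        rw [dif_pos h1, dif_pos h2, dif_pos h3, ← mul_inv_eq_iff_eq_mul, ← mul_inv_eq_iff_eq_mul,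
          ← mul_inv_eq_one]
        exact PresentedGroup.one_of_mem (Or.inr ⟨⟨(i, j), h1⟩, ⟨(j, l), h2⟩, h3, t, u, rfl, rfl⟩)
      three := hn }
  have hgen : ∀ g, g ∈ S.gen Finset.univ := fun g => by
    have htop : (⊤ : Subgroup (PresentedGroup (rels n K))) ≤ S.gen Finset.univ := by
      rw [← PresentedGroup.closure_range_of (rels n K), Subgroup.closure_le]
      rintro _ ⟨⟨⟨⟨i, j⟩, hij⟩, t⟩, rfl⟩
      refine Subgroup.subset_closure ⟨i, Finset.mem_univ _, j, Finset.mem_univ _, hij, t, ?_⟩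
      show _ = if h : i ≠ j then _ else _
      rw [dif_pos hij]
    exact htop (Subgroup.mem_top g)
  have hinj : Function.Injective φ := by
    rw [injective_iff_map_eq_one]
    exact fun g hg => S.inj Finset.univ g (hgen g) hg
  have hsurj : Function.Surjective φ := by
    rw [← MonoidHom.range_eq_top, eq_top_iff, ← Classical.sl_closure_transvections, Subgroup.closure_le]
    rintro _ ⟨i, j, hij, c, rfl⟩
    exact ⟨PresentedGroup.of (⟨(i, j), hij⟩, c), φof _ c⟩
  refine ⟨MulEquiv.ofBijective φ ⟨hinj, hsurj⟩, fun a t => ?_⟩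
  show (φ (PresentedGroup.of (a, t)) : Matrix (Fin n) (Fin n) K) = _
  rw [φof]
  rfl

end Cfsg.Agent.Small.SteinbergSLn
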