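import Mathlib
import Cfsg.Agent.Lib.Classical.TransvectionRoot
import Cfsg.Agent.Lib.Small.PSLn.Sylow
import Cfsg.Agent.Lib.Small.Flags.Bruhat

/-!
Representations of `SL_n(q)` whose restriction to the unitriangular group is a multiple of the
regular one: an irreducible one has dimension `q^(n(n-1)/2)`, has a vector fixed by the upper
triangular group, and is unique up to isomorphism.
-/

set_option autoImplicit false
set_option linter.unusedSectionVars false

namespace Cfsg.Agent.Small.SLnSt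

open Matrix Finset Cfsg.Agent.Small.PSLn

variable {n : ℕ} {F : Type*} [Field F]

local notation "SLn" => Matrix.SpecialLinearGroup (Fin n) F
local notation "SL2" => Matrix.SpecialLinearGroup (Fin 2) F

/-! ### Matrices -/

/-- Upper triangular. -/
def IsUp (g : SLn) : Prop := ∀ i j, j < i → g.1 i j = 0

/-- Monomial with nonzero entries at the places `(σ j, j)`. -/
def Mono (σ : Equiv.Perm (Fin n)) (m : SLn) : Prop := ∀ i j, i ≠ σ j → m.1 i j = 0

theorem mul_mono {σ : Equiv.Perm (Fin n)} {m : SLn} (hm : Mono σ m) (A : Matrix (Fin n) (Fin n) F)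
    (i j : Fin n) : (A * m.1) i j = A i (σ j) * m.1 (σ j) j := by
  rw [Matrix.mul_apply, Finset.sum_eq_single (σ j) (fun k _ hk => by rw [hm k j hk, mul_zero])
    (fun h => absurd (Finset.mem_univ _) h)]

theorem mono_mul {σ : Equiv.Perm (Fin n)} {m : SLn} (hm : Mono σ m) (A : Matrix (Fin n) (Fin n) F)
    (k j : Fin n) : (m.1 * A) (σ k) j = m.1 (σ k) k * A k j := by
  rw [Matrix.mul_apply, Finset.sum_eq_single k (fun l _ hl => by
    rw [hm (σ k) l (fun h => hl (σ.injective h).symm), zero_mul])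
    (fun h => absurd (Finset.mem_univ _) h)]

theorem mono_ne_zero {σ : Equiv.Perm (Fin n)} {m : SLn} (hm : Mono σ m) (j : Fin n) :
    m.1 (σ j) j ≠ 0 := by
  intro h
  have h1 : m.1.det = 0 := Matrix.det_eq_zero_of_column_eq_zero j fun i => by
    rcases eq_or_ne i (σ j) with rfl | hi
    · exact h
    · exact hm i j hi
  rw [m.2] at h1
  exact one_ne_zero h1

theorem mono_mul_mono {σ τ : Equiv.Perm (Fin n)} {a b : SLn} (ha : Mono σ a) (hb : Mono τ b) :
    Mono (σ * τ) (a * b) := by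
  intro i j hij
  rw [Matrix.SpecialLinearGroup.coe_mul, mul_mono hb]
  rw [ha i (τ j) hij, zero_mul]

/-- Two monomial elements with the same pattern differ by a triangular element. -/
theorem mono_div {σ : Equiv.Perm (Fin n)} {m m' : SLn} (hm : Mono σ m) (hm' : Mono σ m') :
    IsUp (m⁻¹ * m') := by
  classical
  have hD : m'.1 = m.1 * Matrix.diagonal (fun j => m'.1 (σ j) j / m.1 (σ j) j) := by
    ext i j
    rw [Matrix.mul_diagonal]
    rcases eq_or_ne i (σ j) with rfl | hi
    · rw [mul_div_cancel₀ _ (mono_ne_zero hm j)]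
    · rw [hm' i j hi, hm i j hi, zero_mul]
  intro i j hij
  rw [Matrix.SpecialLinearGroup.coe_mul, hD, ← Matrix.mul_assoc,
    ← Matrix.SpecialLinearGroup.coe_mul, inv_mul_cancel, Matrix.SpecialLinearGroup.coe_one,
    Matrix.one_mul, Matrix.diagonal_apply_ne _ hij.ne']

/-- A monomial element carries a transvection to a transvection. -/
theorem mono_tr {σ : Equiv.Perm (Fin n)} {m : SLn} (hm : Mono σ m) {a b : Fin n} (hab : a ≠ b)
    (t : F) : m * SpecialLinearGroup.transvection hab t =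
      SpecialLinearGroup.transvection (σ.injective.ne hab)
        (t * m.1 (σ a) a / m.1 (σ b) b) * m := by
  refine Subtype.ext ?_
  show m.1 * (SpecialLinearGroup.transvection hab t).1 =
    (SpecialLinearGroup.transvection (σ.injective.ne hab) _).1 * m.1
  rw [SpecialLinearGroup.transvection_coe, SpecialLinearGroup.transvection_coe, mul_add, add_mul,
    mul_one, one_mul]
  congr 1
  ext i j
  obtain ⟨k, rfl⟩ := σ.surjective i
  rw [mono_mul hm, mul_mono hm]
  have hb := mono_ne_zero hm b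
  simp only [Matrix.single_apply]
  by_cases h : a = k ∧ b = j
  · obtain ⟨rfl, rfl⟩ := h
    rw [if_pos ⟨rfl, rfl⟩, if_pos ⟨rfl, rfl⟩]
    field_simp
  · rw [if_neg h, if_neg fun h' => h ⟨σ.injective h'.1, σ.injective h'.2⟩, mul_zero, zero_mul]

variable [Fintype F]

theorem tr_mem {i j : Fin n} (hij : i < j) (t : F) :
    SpecialLinearGroup.transvection hij.ne t ∈ UTg n F := by
  rw [mem_UTg]
  refine ⟨fun k => ?_, fun k l hlk => ?_⟩ <;>
    rw [SpecialLinearGroup.transvection_coe, Matrix.add_apply, Matrix.single_apply]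
  · rw [Matrix.one_apply_eq, if_neg fun h => ne_of_lt hij (h.1.trans h.2.symm), add_zero]
  · rw [Matrix.one_apply_ne (ne_of_gt hlk), if_neg fun h => ?_, add_zero]
    rw [← h.1, ← h.2] at hlk
    exact lt_asymm hij hlk

theorem ut_isUp {u : SLn} (hu : u ∈ UTg n F) : IsUp u := fun i j h => (mem_UTg.1 hu).2 i j h

theorem mem_upperTriangularGL {g : GL (Fin n) F} (hg : g ∈ Cfsg.upperTriangularGL n F) :
    g.val.IsUpperTriangular := fun i j hij => hg hij

/-- The decomposition `g = u m b`. -/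
theorem exists_umb [NeZero n] (g : SLn) : ∃ (σ : Equiv.Perm (Fin n)) (u m b : SLn),
    u ∈ UTg n F ∧ Mono σ m ∧ IsUp b ∧ g = u * m * b := by
  classical
  obtain ⟨σ, b, c, hb, hc, he⟩ := Flags.bruhat (SpecialLinearGroup.toGL g)
  set t : Fin n → F := fun i => b.val i i with ht
  have hbU : b.val.IsUpperTriangular := mem_upperTriangularGL hb
  have hdetb : ∏ i, t i ≠ 0 := by
    rw [← Matrix.det_of_isUpperTriangular hbU]
    exact (Matrix.isUnit_iff_isUnit_det _).1 b.isUnit |>.ne_zero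
  have ht0 : ∀ i, t i ≠ 0 := fun i => Finset.prod_ne_zero_iff.1 hdetb i (Finset.mem_univ i)
  set u0 : Matrix (Fin n) (Fin n) F := b.val * Matrix.diagonal (fun i => (t i)⁻¹) with hu0
  have hu0' : IsUT u0 := ⟨fun i => by rw [hu0, Matrix.mul_diagonal, mul_inv_cancel₀ (ht0 i)],
    fun i j h => by rw [hu0, Matrix.mul_diagonal, hbU h, zero_mul]⟩
  let u : SLn := ⟨u0, by
    rw [Matrix.det_of_isUpperTriangular (fun i j h => hu0'.2 i j h)]
    exact Finset.prod_eq_one fun i _ => hu0'.1 i⟩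
  set M : Matrix (Fin n) (Fin n) F := Matrix.diagonal t * (Flags.permGLn σ : GL (Fin n) F).val with hM
  have hdetM : M.det ≠ 0 := by
    rw [hM, Matrix.det_mul, Matrix.det_diagonal]
    exact mul_ne_zero hdetb ((Matrix.isUnit_iff_isUnit_det _).1 (Units.isUnit _)).ne_zero
  set e : Fin n → F := Function.update 1 0 M.det⁻¹ with hE
  have hdete : (Matrix.diagonal e).det = M.det⁻¹ := by
    rw [Matrix.det_diagonal, hE, Finset.prod_update_of_mem (Finset.mem_univ _)]
    simp
  let m : SLn := ⟨M * Matrix.diagonal e, by rw [Matrix.det_mul, hdete, mul_inv_cancel₀ hdetM]⟩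
  have hm : Mono σ m := by
    intro i j hij
    show (M * Matrix.diagonal e) i j = 0
    rw [Matrix.mul_diagonal, hM, Matrix.diagonal_mul]
    have h0 : (Flags.permGLn σ : GL (Fin n) F).val i j = 0 := by
      change σ⁻¹.permMatrix F i j = 0
      by_contra h0
      have e1 : σ⁻¹ i = j := by
        simpa [Equiv.Perm.permMatrix, PEquiv.toMatrix_apply, Equiv.toPEquiv_apply] using h0
      exact hij (by rw [← e1]; simp)
    rw [h0, mul_zero, zero_mul]
  refine ⟨σ, u, m, (u * m)⁻¹ * g, mem_UTg.2 hu0', hm, ?_, by group⟩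
  have he0 : ∀ i, e i ≠ 0 := fun i => by
    rw [hE]
    rcases eq_or_ne i 0 with rfl | hi
    · rw [Function.update_self]; exact inv_ne_zero hdetM
    · rw [Function.update_of_ne hi]; exact one_ne_zero
  set X : Matrix (Fin n) (Fin n) F := Matrix.diagonal (fun i => (e i)⁻¹) * c.val with hX
  have hg : g.1 = (u * m).1 * X := by
    have h1 : g.1 = b.val * (Flags.permGLn σ : GL (Fin n) F).val * c.val := by
      rw [← Units.val_mul, ← Units.val_mul, ← he]
      rfl
    have h2 : Matrix.diagonal (fun i => (t i)⁻¹) * Matrix.diagonal t =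
        (1 : Matrix (Fin n) (Fin n) F) := by
      rw [Matrix.diagonal_mul_diagonal, ← Matrix.diagonal_one]
      congr 1
      funext i
      exact inv_mul_cancel₀ (ht0 i)
    have h3 : Matrix.diagonal e * Matrix.diagonal (fun i => (e i)⁻¹) =
        (1 : Matrix (Fin n) (Fin n) F) := by
      rw [Matrix.diagonal_mul_diagonal, ← Matrix.diagonal_one]
      congr 1
      funext i
      exact mul_inv_cancel₀ (he0 i)
    rw [h1]
    show b.val * (Flags.permGLn σ : GL (Fin n) F).val * c.val =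
      (b.val * Matrix.diagonal (fun i => (t i)⁻¹)) *
        ((Matrix.diagonal t * (Flags.permGLn σ : GL (Fin n) F).val) * Matrix.diagonal e) *
          (Matrix.diagonal (fun i => (e i)⁻¹) * c.val)
    calc b.val * (Flags.permGLn σ : GL (Fin n) F).val * c.val
        = b.val * (Matrix.diagonal (fun i => (t i)⁻¹) * Matrix.diagonal t) *
            (Flags.permGLn σ : GL (Fin n) F).val *
            (Matrix.diagonal e * Matrix.diagonal (fun i => (e i)⁻¹)) * c.val := by
          rw [h2, h3, Matrix.mul_one, Matrix.mul_one]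
      _ = _ := by simp only [Matrix.mul_assoc]
  intro i j hij
  rw [Matrix.SpecialLinearGroup.coe_mul, hg, ← Matrix.mul_assoc,
    ← Matrix.SpecialLinearGroup.coe_mul, inv_mul_cancel, Matrix.SpecialLinearGroup.coe_one,
    Matrix.one_mul, hX, Matrix.diagonal_mul, mem_upperTriangularGL hc hij, mul_zero]

theorem diag_mul {a b : SLn} (ha : IsUp a) (hb : IsUp b) : IsUp (a * b) ∧
    ∀ i, (a * b).1 i i = a.1 i i * b.1 i i := by
  constructor
  · exact Matrix.BlockTriangular.mul (b := id) (fun i j h => ha i j h) (fun i j h => hb i j h)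
  · intro i
    rw [Matrix.SpecialLinearGroup.coe_mul, Matrix.mul_apply, Finset.sum_eq_single i]
    · intro k _ hk
      rcases lt_or_gt_of_ne hk with h | h
      · rw [ha i k h, zero_mul]
      · rw [hb k i h, mul_zero]
    · exact fun h => absurd (Finset.mem_univ _) h

theorem inv_up {a : SLn} (ha : IsUp a) : IsUp a⁻¹ := by
  classical
  obtain ⟨k, hk⟩ : ∃ k : ℕ, a⁻¹ = a ^ k := ⟨orderOf a - 1, inv_eq_of_mul_eq_one_right (by
    rw [← pow_succ', Nat.sub_add_cancel (orderOf_pos a), pow_orderOf_eq_one])⟩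
  rw [hk]
  clear hk
  induction k with
  | zero => rw [pow_zero]; exact fun i j h => Matrix.one_apply_ne (ne_of_gt h)
  | succ k ih => rw [pow_succ]; exact (diag_mul ih ha).1

theorem conj_mem {b u : SLn} (hb : IsUp b) (hu : u ∈ UTg n F) : b⁻¹ * u * b ∈ UTg n F := by
  have h1 := diag_mul (inv_up hb) (ut_isUp hu)
  have h2 := diag_mul h1.1 hb
  refine mem_UTg.2 ⟨fun i => ?_, fun i j h => h2.1 i j h⟩
  rw [h2.2, h1.2, (mem_UTg.1 hu).1, mul_one, ← (diag_mul (inv_up hb) hb).2, inv_mul_cancel,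
    Matrix.SpecialLinearGroup.coe_one, Matrix.one_apply_eq]

theorem comm_mem {b b' : SLn} (hb : IsUp b) (hb' : IsUp b') :
    (b' * b)⁻¹ * (b * b') ∈ UTg n F := by
  have h1 := diag_mul hb' hb
  have h2 := diag_mul hb hb'
  have h3 := diag_mul (inv_up h1.1) h2.1
  refine mem_UTg.2 ⟨fun i => ?_, fun i j h => h3.1 i j h⟩
  rw [h3.2, h2.2, mul_comm (b.1 i i), ← h1.2, ← (diag_mul (inv_up h1.1) h1.1).2, inv_mul_cancel,
    Matrix.SpecialLinearGroup.coe_one, Matrix.one_apply_eq]

/-! ### Characters of the unitriangular group -/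

/-- The sum of the entries next to the diagonal. -/
def sd (A : Matrix (Fin n) (Fin n) F) : F :=
  ∑ i : Fin n, ∑ j : Fin n, if j.val = i.val + 1 then A i j else 0

theorem ut_mul_next {A B : Matrix (Fin n) (Fin n) F} (hA : IsUT A) (hB : IsUT B) {i j : Fin n}
    (h : j.val = i.val + 1) : (A * B) i j = A i j + B i j := by
  have hij : i ≠ j := fun e => by rw [e] at h; omega
  rw [Matrix.mul_apply, Finset.sum_eq_add i j hij]
  · rw [hA.1, hB.1, one_mul, mul_one, add_comm]
  · intro k _ hk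
    rcases lt_trichotomy k.val i.val with h1 | h1 | h1
    · rw [hA.2 i k h1, zero_mul]
    · exact absurd (Fin.ext h1) hk.1
    · have h2 : j < k := by
        rcases Nat.lt_or_ge j.val k.val with h2 | h2
        · exact h2
        · exact absurd (Fin.ext (by omega : k.val = j.val)) hk.2
      rw [hB.2 k j h2, mul_zero]
  · exact fun h => absurd (Finset.mem_univ _) h
  · exact fun h => absurd (Finset.mem_univ _) h

theorem sd_mul {A B : Matrix (Fin n) (Fin n) F} (hA : IsUT A) (hB : IsUT B) :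
    sd (A * B) = sd A + sd B := by
  simp only [sd, ← Finset.sum_add_distrib]
  refine Finset.sum_congr rfl fun i _ => Finset.sum_congr rfl fun j _ => ?_
  split_ifs with h
  · exact ut_mul_next hA hB h
  · rw [add_zero]

theorem sd_one : sd (1 : Matrix (Fin n) (Fin n) F) = 0 := by
  refine Finset.sum_eq_zero fun i _ => Finset.sum_eq_zero fun j _ => ?_
  split_ifs with h
  · exact Matrix.one_apply_ne fun e => by rw [e] at h; omega
  · rfl

/-- The character of the unitriangular group. -/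
def bigPsi (ψ : AddChar F ℂ) : ↥(UTg n F) →* ℂ where
  toFun u := ψ (sd u.1.1)
  map_one' := by
    show ψ (sd (1 : Matrix (Fin n) (Fin n) F)) = 1
    rw [sd_one, AddChar.map_zero_eq_one]
  map_mul' u w := by
    show ψ (sd (u.1.1 * w.1.1)) = _
    rw [sd_mul (mem_UTg.1 u.2) (mem_UTg.1 w.2), AddChar.map_add_eq_mul]

theorem bigPsi_tr (ψ : AddChar F ℂ) {i j : Fin n} (h : j.val = i.val + 1) (hij : i < j) (t : F) :
    bigPsi ψ ⟨SpecialLinearGroup.transvection hij.ne t, tr_mem hij t⟩ = ψ t := by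
  show ψ (sd (SpecialLinearGroup.transvection hij.ne t : SLn).1) = ψ t
  congr 1
  rw [SpecialLinearGroup.transvection_coe, sd]
  rw [Finset.sum_eq_single i, Finset.sum_eq_single j, if_pos h, Matrix.add_apply,
    Matrix.one_apply_ne hij.ne, Matrix.single_apply_same, zero_add]
  · intro l _ hl
    rw [if_neg fun h' => hl (Fin.ext (by omega))]
  · exact fun h => absurd (Finset.mem_univ _) h
  · intro k _ hk
    refine Finset.sum_eq_zero fun l _ => ?_
    split_ifs with h'
    · rw [Matrix.add_apply, Matrix.one_apply_ne (fun e => by rw [e] at h'; omega),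
        Matrix.single_apply, if_neg (fun e => hk e.1.symm), add_zero]
    · rfl
  · exact fun h => absurd (Finset.mem_univ _) h

theorem exists_psi : ∃ ψ : AddChar F ℂ, ψ ≠ 1 := by
  have h1 : (1 : F) ≠ 0 := one_ne_zero
  obtain ⟨ψ, hψ⟩ := AddChar.exists_apply_ne_zero.2 h1
  exact ⟨ψ, fun h => hψ (by rw [h]; exact AddChar.one_apply _)⟩

theorem eq_rev_of_no_asc {σ : Equiv.Perm (Fin n)}
    (h : ∀ i j : Fin n, j.val = i.val + 1 → σ⁻¹ j < σ⁻¹ i) : σ = Fin.revPerm := by
  have hmono : StrictMono fun i => Fin.rev (σ⁻¹ i) := by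
    rcases n with _ | k
    · exact fun i => i.elim0
    · refine Fin.strictMono_iff_lt_succ.2 fun i => ?_
      exact Fin.rev_lt_rev.2 (h i.castSucc i.succ (by simp))
  have h2 := StrictMono.range_inj hmono strictMono_id |>.1 (by
    rw [Set.range_id, Set.range_eq_univ]
    exact Fin.rev_surjective.comp σ⁻¹.surjective)
  refine Equiv.ext fun a => ?_
  have h3 := congrFun h2 (σ a)
  simp only [id_eq, Equiv.Perm.coe_inv, Equiv.symm_apply_apply] at h3
  rw [Fin.revPerm_apply, ← h3]

/-! ### The projections -/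

noncomputable local instance fintypeUT : Fintype ↥(UTg n F) := Fintype.ofFinite _

variable {V : Type*} [AddCommGroup V] [Module ℂ V]
  (ρ : Representation ℂ (Matrix.SpecialLinearGroup (Fin n) F) V)

/-- The operator attached to a character of the unitriangular group. -/
noncomputable def proj (Ψ : ↥(UTg n F) →* ℂ) : V →ₗ[ℂ] V :=
  ∑ u : ↥(UTg n F), Ψ u⁻¹ • ρ (u : SLn)

theorem rho_mul (a b : SLn) (v : V) : ρ (a * b) v = ρ a (ρ b v) := by
  rw [map_mul]; rfl

theorem proj_act (Ψ : ↥(UTg n F) →* ℂ) (u : ↥(UTg n F)) (w : V) :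
    proj ρ Ψ (ρ (u : SLn) w) = Ψ u • proj ρ Ψ w := by
  classical
  simp only [proj, LinearMap.sum_apply, LinearMap.smul_apply, Finset.smul_sum, smul_smul]
  refine Fintype.sum_equiv (Equiv.mulRight u) _ _ fun x => ?_
  rw [Equiv.coe_mulRight, Subgroup.coe_mul, rho_mul, _root_.mul_inv_rev, map_mul, ← mul_assoc,
    ← map_mul, mul_inv_cancel, map_one, one_mul]

theorem act_proj (Ψ : ↥(UTg n F) →* ℂ) (u : ↥(UTg n F)) (w : V) :
    ρ (u : SLn) (proj ρ Ψ w) = Ψ u • proj ρ Ψ w := by
  classical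
  simp only [proj, LinearMap.sum_apply, LinearMap.smul_apply, Finset.smul_sum, smul_smul, map_sum,
    map_smul]
  refine Fintype.sum_equiv (Equiv.mulLeft u) _ _ fun x => ?_
  rw [Equiv.coe_mulLeft, Subgroup.coe_mul, rho_mul, _root_.mul_inv_rev, map_mul, mul_comm (Ψ x⁻¹),
    ← mul_assoc, ← map_mul, mul_inv_cancel, map_one, one_mul]

theorem proj_sq (Ψ : ↥(UTg n F) →* ℂ) (w : V) :
    proj ρ Ψ (proj ρ Ψ w) = (Nat.card ↥(UTg n F) : ℂ) • proj ρ Ψ w := by
  classical
  show (∑ u : ↥(UTg n F), Ψ u⁻¹ • ρ (u : SLn)) (proj ρ Ψ w) = _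
  simp only [LinearMap.sum_apply, LinearMap.smul_apply, act_proj, smul_smul, ← map_mul,
    inv_mul_cancel, map_one, one_smul, Finset.sum_const, Finset.card_univ, Nat.card_eq_fintype_card,
    Nat.cast_smul_eq_nsmul]

variable {ρ}

/-- The image of `ρ m v` is zero for monomial elements away from the big cell. -/
theorem proj_mono_zero {ψ : AddChar F ℂ} (hψ : ψ ≠ 1) {σ : Equiv.Perm (Fin n)}
    (hσ : σ ≠ Fin.revPerm) {m : SLn} (hm : Mono σ m) {v : V}
    (hv : ∀ u ∈ UTg n F, ρ u v = v) : proj ρ (bigPsi ψ) (ρ m v) = 0 := by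
  obtain ⟨i, j, hij, h'⟩ : ∃ i j : Fin n, j.val = i.val + 1 ∧ ¬ σ⁻¹ j < σ⁻¹ i := by
    by_contra h
    push_neg at h
    exact hσ (eq_rev_of_no_asc h)
  have hlt : i < j := by rw [Fin.lt_def]; omega
  set a := σ⁻¹ i with ha
  set b := σ⁻¹ j with hb
  have hab : a < b := lt_of_le_of_ne (not_lt.1 h') fun e => hlt.ne (σ⁻¹.injective e)
  have hia : σ a = i := by simp [ha]
  have hjb : σ b = j := by simp [hb]
  obtain ⟨s, hs⟩ := AddChar.ne_one_iff.1 hψ
  set t : F := s * m.1 (σ b) b / m.1 (σ a) a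
  have hts : t * m.1 (σ a) a / m.1 (σ b) b = s := by
    have h1 := mono_ne_zero hm a
    have h2 := mono_ne_zero hm b
    simp only [t]
    field_simp
  have hfix : ρ (SpecialLinearGroup.transvection hlt.ne s) (ρ m v) = ρ m v := by
    conv_rhs => rw [← hv _ (tr_mem hab t), ← rho_mul, mono_tr hm hab.ne, rho_mul]
    simp only [hia, hjb] at hts ⊢
    rw [hts]
  have h2 := proj_act ρ (bigPsi ψ) ⟨_, tr_mem hlt s⟩ (ρ m v)
  rw [bigPsi_tr ψ hij hlt, hfix] at h2
  by_contra h0
  exact hs ((smul_left_injective ℂ h0 (h2.symm.trans (one_smul ℂ _).symm)))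

/-- A vector fixed by the unitriangular group and spanning a line invariant under the triangular
group. -/
def BLine (ρ : Representation ℂ SLn V) (v : V) : Prop :=
  (∀ u ∈ UTg n F, ρ u v = v) ∧ ∀ b, IsUp b → ∃ c : ℂ, ρ b v = c • v

theorem proj_translate [NeZero n] {ψ : AddChar F ℂ} (hψ : ψ ≠ 1) {v : V} (hv : BLine ρ v) (g : SLn)
    {m0 : SLn} (hm0 : Mono Fin.revPerm m0) :
    ∃ c : ℂ, proj ρ (bigPsi ψ) (ρ g v) = c • proj ρ (bigPsi ψ) (ρ m0 v) := by
  obtain ⟨σ, u, m, b, hu, hm, hb, rfl⟩ := exists_umb g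
  obtain ⟨c, hc⟩ := hv.2 b hb
  rw [rho_mul, hc, map_smul, map_smul, rho_mul]
  rw [proj_act ρ (bigPsi ψ) ⟨u, hu⟩, smul_smul]
  rcases eq_or_ne σ Fin.revPerm with rfl | hσ
  · obtain ⟨d, hd⟩ := hv.2 _ (mono_div hm0 hm)
    refine ⟨c * bigPsi ψ ⟨u, hu⟩ * d, ?_⟩
    rw [show m = m0 * (m0⁻¹ * m) by group, rho_mul, hd, map_smul, map_smul, smul_smul]
  · exact ⟨0, by rw [proj_mono_zero hψ hσ hm hv.1, smul_zero, zero_smul]⟩

/-- The span of the translates. -/
def orbitSpan (ρ : Representation ℂ SLn V) (v : V) : Submodule ℂ V :=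
  Submodule.span ℂ (Set.range fun g : SLn => ρ g v)

theorem mem_orbitSpan (v : V) (g : SLn) : ρ g v ∈ orbitSpan ρ v := Submodule.subset_span ⟨g, rfl⟩

theorem orbitSpan_self (v : V) : v ∈ orbitSpan ρ v := by
  have h := mem_orbitSpan (ρ := ρ) v 1
  rwa [map_one] at h

theorem orbitSpan_invariant (v : V) (g : SLn) {x : V} (hx : x ∈ orbitSpan ρ v) :
    ρ g x ∈ orbitSpan ρ v := by
  refine Submodule.span_induction (p := fun x _ => ρ g x ∈ orbitSpan ρ v) ?_ ?_ ?_ ?_ hx
  · rintro _ ⟨a, rfl⟩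
    show ρ g (ρ a v) ∈ _
    rw [← rho_mul]
    exact mem_orbitSpan v _
  · rw [map_zero]; exact Submodule.zero_mem _
  · intro a b _ _ ha hb; rw [map_add]; exact Submodule.add_mem _ ha hb
  · intro c a _ ha; rw [map_smul]; exact Submodule.smul_mem _ _ ha

theorem proj_orbitSpan [NeZero n] {ψ : AddChar F ℂ} (hψ : ψ ≠ 1) {v : V} (hv : BLine ρ v)
    {m0 : SLn} (hm0 : Mono Fin.revPerm m0) {x : V} (hx : x ∈ orbitSpan ρ v) :
    ∃ c : ℂ, proj ρ (bigPsi ψ) x = c • proj ρ (bigPsi ψ) (ρ m0 v) := by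
  refine Submodule.span_induction
    (p := fun x _ => ∃ c : ℂ, proj ρ (bigPsi ψ) x = c • proj ρ (bigPsi ψ) (ρ m0 v)) ?_ ?_ ?_ ?_ hx
  · rintro _ ⟨a, rfl⟩; exact proj_translate hψ hv a hm0
  · exact ⟨0, by rw [map_zero, zero_smul]⟩
  · rintro a b _ _ ⟨c, hc⟩ ⟨d, hd⟩; exact ⟨c + d, by rw [map_add, hc, hd, add_smul]⟩
  · rintro c a _ ⟨d, hd⟩; exact ⟨c * d, by rw [map_smul, hd, smul_smul]⟩

/-! ### Regular restriction -/

variable [FiniteDimensional ℂ V]

/-- The character vanishes on the nontrivial unitriangular elements. -/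
def Vanish (ρ : Representation ℂ SLn V) : Prop :=
  ∀ u ∈ UTg n F, u ≠ 1 → ρ.character u = 0

theorem trace_proj (hρ : Vanish ρ) (Ψ : ↥(UTg n F) →* ℂ) :
    LinearMap.trace ℂ V (proj ρ Ψ) = Module.finrank ℂ V := by
  classical
  simp only [proj, map_sum, map_smul, smul_eq_mul]
  rw [Finset.sum_eq_single (1 : ↥(UTg n F))]
  · rw [inv_one, map_one, one_mul, OneMemClass.coe_one, map_one, LinearMap.trace_one]
  · intro u _ hu
    have := hρ u u.2 (fun h => hu (Subtype.ext h))
    rw [Representation.character] at this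
    rw [this, mul_zero]
  · exact fun h => absurd (Finset.mem_univ _) h

theorem card_ne : (Nat.card ↥(UTg n F) : ℂ) ≠ 0 := Nat.cast_ne_zero.2 Nat.card_pos.ne'

theorem finrank_eq_range (hρ : Vanish ρ) (Ψ : ↥(UTg n F) →* ℂ) :
    Module.finrank ℂ V = Nat.card ↥(UTg n F) * Module.finrank ℂ (LinearMap.range (proj ρ Ψ)) := by
  set k : ℂ := (Nat.card ↥(UTg n F) : ℂ)
  have hk : k ≠ 0 := card_ne
  have hP : LinearMap.IsProj (LinearMap.range (proj ρ Ψ)) (k⁻¹ • proj ρ Ψ) := by
    refine ⟨fun x => Submodule.smul_mem _ _ (LinearMap.mem_range_self _ x), ?_⟩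
    rintro x ⟨w, rfl⟩
    rw [LinearMap.smul_apply, proj_sq, smul_smul, inv_mul_cancel₀ hk, one_smul]
  have h := LinearMap.IsProj.trace hP
  rw [map_smul, trace_proj hρ, smul_eq_mul] at h
  have h2 : (Module.finrank ℂ V : ℂ) =
      ((Nat.card ↥(UTg n F) * Module.finrank ℂ (LinearMap.range (proj ρ Ψ)) : ℕ) : ℂ) := by
    push_cast
    rw [← h, mul_inv_cancel_left₀ hk]
  exact_mod_cast h2

theorem proj_ne_zero (hρ : Vanish ρ) [Nontrivial V] (Ψ : ↥(UTg n F) →* ℂ) :
    ∃ w, proj ρ Ψ w ≠ 0 := by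
  by_contra h
  push_neg at h
  have h1 : LinearMap.range (proj ρ Ψ) = ⊥ := by
    rw [Submodule.eq_bot_iff]
    rintro _ ⟨w, rfl⟩
    exact h w
  have h2 := finrank_eq_range hρ Ψ
  rw [h1, finrank_bot, mul_zero] at h2
  exact absurd h2 Module.finrank_pos.ne'

/-- A fixed vector spanning a line invariant under the triangular group. -/
theorem exists_bline (hρ : Vanish ρ) [Nontrivial V] : ∃ v : V, v ≠ 0 ∧ BLine ρ v := by
  classical
  set P : Submodule ℂ V → Prop := fun S => S ≠ ⊥ ∧ (∀ x ∈ S, ∀ u ∈ UTg n F, ρ u x = x) ∧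
    ∀ b : SLn, IsUp b → ∀ x ∈ S, ρ b x ∈ S
  obtain ⟨w, hw⟩ := proj_ne_zero hρ (1 : ↥(UTg n F) →* ℂ)
  let Fx : Submodule ℂ V :=
    { carrier := {x | ∀ u ∈ UTg n F, ρ u x = x}
      zero_mem' := fun u _ => map_zero _
      add_mem' := fun {x y} hx hy u hu => by rw [map_add, hx u hu, hy u hu]
      smul_mem' := fun c x hx u hu => by rw [map_smul, hx u hu] }
  have hFx : P Fx := by
    refine ⟨fun h => hw ((Submodule.mem_bot ℂ).1 (h ▸ (show proj ρ 1 w ∈ Fx from fun u hu => ?_))),
      fun x hx => hx, fun b hb x hx u hu => ?_⟩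
    · have hc : b⁻¹ * u * b ∈ UTg n F := conj_mem hb hu
      have h1 := hx _ hc
      calc ρ u (ρ b x) = ρ b (ρ (b⁻¹ * u * b) x) := by
            rw [← rho_mul, ← rho_mul]; congr 2; group
        _ = ρ b x := by rw [h1]
    · have h1 := act_proj ρ (1 : ↥(UTg n F) →* ℂ) ⟨u, hu⟩ w
      simpa using h1
  have hex : ∃ k, ∃ S, P S ∧ Module.finrank ℂ S = k := ⟨_, Fx, hFx, rfl⟩
  obtain ⟨S, ⟨hS0, hSU, hSB⟩, hSd⟩ := Nat.find_spec hex
  obtain ⟨v, hvS, hv0⟩ := Submodule.exists_mem_ne_zero_of_ne_bot hS0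
  refine ⟨v, hv0, hSU v hvS, fun b hb => ?_⟩
  haveI : Nontrivial ↥S := Submodule.nontrivial_iff_ne_bot.2 hS0
  obtain ⟨c, hc⟩ := Module.End.exists_eigenvalue ((ρ b).restrict (hSB b hb) : Module.End ℂ ↥S)
  obtain ⟨y, hy⟩ := hc.exists_hasEigenvector
  refine ⟨c, ?_⟩
  let S' : Submodule ℂ V :=
    { carrier := {x | x ∈ S ∧ ρ b x = c • x}
      zero_mem' := ⟨S.zero_mem, by rw [map_zero, smul_zero]⟩
      add_mem' := fun {x z} hx hz => ⟨S.add_mem hx.1 hz.1, by rw [map_add, hx.2, hz.2, smul_add]⟩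
      smul_mem' := fun d x hx => ⟨S.smul_mem d hx.1, by rw [map_smul, hx.2, smul_comm]⟩ }
  have hS' : P S' := by
    refine ⟨fun h => hy.2 (Subtype.ext ((Submodule.mem_bot ℂ).1 (h ▸ (show (y : V) ∈ S' from
      ⟨y.2, by have := congrArg Subtype.val hy.apply_eq_smul; simpa using this⟩)))),
      fun x hx => hSU x hx.1, fun b' hb' x hx => ⟨hSB b' hb' x hx.1, ?_⟩⟩
    -- the commutator lies in the unitriangular group, which acts trivially
    have hcomm : (b' * b)⁻¹ * (b * b') ∈ UTg n F := comm_mem hb hb'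
    calc ρ b (ρ b' x) = ρ (b' * b) (ρ ((b' * b)⁻¹ * (b * b')) x) := by
          rw [← rho_mul, ← rho_mul]; congr 2; group
      _ = ρ b' (ρ b x) := by rw [hSU x hx.1 _ hcomm, rho_mul]
      _ = c • ρ b' x := by rw [hx.2, map_smul]
  have hle : S' ≤ S := fun x hx => hx.1
  have heq : S' = S := Submodule.eq_of_le_of_finrank_le hle (by
    rw [hSd]; exact Nat.find_min' hex ⟨S', hS', rfl⟩)
  exact (heq ▸ hvS : v ∈ S').2

/-! ### A copy of `SL₂` -/

omit [Fintype F] in
theorem dot_single {i j : Fin n} (h : j ≠ i) :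
    (Pi.single j (1 : F) : Fin n → F) ⬝ᵥ Pi.single i 1 = 0 := by
  rw [single_dotProduct, Pi.single_eq_of_ne h, mul_zero]

omit [Fintype F] in
theorem dot_single_self (j : Fin n) :
    (Pi.single j (1 : F) : Fin n → F) ⬝ᵥ Pi.single j 1 ≠ 0 := by
  rw [single_dotProduct, Pi.single_eq_same, mul_one]
  exact one_ne_zero

/-- The copy of `SL₂` on the coordinates `i`, `j`. -/
def emb {i j : Fin n} (hij : i ≠ j) :
    Matrix.SpecialLinearGroup (Fin 2) F →* Matrix.SpecialLinearGroup (Fin n) F :=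
  Cfsg.Agent.Classical.TransRoot.plane (Pi.single i 1) (Pi.single j 1) (Pi.single j 1)
    (Pi.single i 1) (dot_single hij.symm) (dot_single hij) (dot_single_self j) (dot_single_self i)

omit [Fintype F] in
theorem emb_apply {i j : Fin n} (hij : i ≠ j) (M : SL2) (a b : Fin n) :
    (emb hij M).1 a b = (1 : Matrix (Fin n) (Fin n) F) a b +
      ((if a = i then if b = i then M.1 0 0 - 1 else if b = j then M.1 0 1 else 0 else 0) +
        (if a = j then if b = i then M.1 1 0 else if b = j then M.1 1 1 - 1 else 0 else 0)) := by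
  rw [emb, Cfsg.Agent.Classical.TransRoot.plane_coe, Matrix.add_apply]
  congr 1
  simp only [Matrix.mul_apply, Fin.sum_univ_two, Cfsg.Agent.Classical.TransRoot.planeJ,
    Cfsg.Agent.Classical.TransRoot.planeP, Matrix.transpose_apply, Matrix.of_apply,
    Matrix.cons_val_zero, Matrix.cons_val_one, Pi.single_apply, single_dotProduct, if_pos, mul_one,
    inv_one, one_smul, Matrix.sub_apply, Matrix.one_apply]
  by_cases hai : a = i <;> by_cases haj : a = j <;> by_cases hbi : b = i <;> by_cases hbj : b = j <;>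
    simp_all

/-- The upper unipotent element of `SL₂`. -/
def xu (t : F) : SL2 := SpecialLinearGroup.transvection (show (0 : Fin 2) ≠ 1 by decide) t

/-- The Weyl element of `SL₂`. -/
def wv : SL2 := ⟨!![0, 1; -1, 0], by rw [Matrix.det_fin_two_of]; ring⟩

/-- The diagonal element of `SL₂`. -/
def dd (t : Fˣ) : SL2 := ⟨!![(t : F), 0; 0, ((t⁻¹ : Fˣ) : F)], by rw [Matrix.det_fin_two_of]; simp⟩

/-- The triangular element appearing in the rank one relation. -/
def bb (t : Fˣ) : SL2 :=
  ⟨!![-(t : F), 1; 0, -((t⁻¹ : Fˣ) : F)], by rw [Matrix.det_fin_two_of]; simp⟩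

omit [Fintype F] in
theorem wv_rel (t : Fˣ) :
    (wv : SL2) * xu (t : F) * wv = xu (-((t⁻¹ : Fˣ) : F)) * wv * bb t := by
  refine Subtype.ext ?_
  show wv.1 * (xu (t : F)).1 * wv.1 = (xu (-((t⁻¹ : Fˣ) : F))).1 * wv.1 * (bb t).1
  simp only [xu, SpecialLinearGroup.transvection_coe, wv, bb]
  ext a b
  fin_cases a <;> fin_cases b <;> simp [Matrix.mul_apply, Matrix.vecMul, dotProduct, Fin.sum_univ_two, Matrix.single_apply]

omit [Fintype F] in
theorem bb_eq (t : Fˣ) : bb t = dd (-t) * xu (-((t⁻¹ : Fˣ) : F)) := by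
  refine Subtype.ext ?_
  show (bb t).1 = (dd (-t)).1 * (xu (-((t⁻¹ : Fˣ) : F))).1
  simp only [xu, SpecialLinearGroup.transvection_coe, bb, dd]
  ext a b
  fin_cases a <;> fin_cases b <;> simp [Matrix.mul_apply, Matrix.vecMul, dotProduct, Fin.sum_univ_two, Matrix.single_apply]

omit [Fintype F] in
theorem wv_sq : (wv : SL2) * wv = dd (-1) := by
  refine Subtype.ext ?_
  show (wv : SL2).1 * (wv : SL2).1 = (dd (-1 : Fˣ) : SL2).1
  simp only [wv, dd]
  ext a b
  fin_cases a <;> fin_cases b <;> simp [Matrix.mul_apply, Fin.sum_univ_two]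

omit [Fintype F] in
theorem dd_mul (s t : Fˣ) : dd (s * t) = dd s * (dd t : SL2) := by
  refine Subtype.ext ?_
  show (dd (s * t)).1 = (dd s).1 * (dd t).1
  simp only [dd]
  ext a b
  fin_cases a <;> fin_cases b <;>
    simp [Matrix.mul_apply, Fin.sum_univ_two, mul_comm]

omit [Fintype F] in
theorem emb_xu {i j : Fin n} (hij : i ≠ j) (t : F) :
    emb hij (xu t) = SpecialLinearGroup.transvection hij t := by
  refine Subtype.ext ?_
  ext a b
  rw [emb_apply, SpecialLinearGroup.transvection_coe, Matrix.add_apply]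
  congr 1
  simp only [xu, SpecialLinearGroup.transvection_coe, Matrix.add_apply, Matrix.one_apply,
    Matrix.single_apply]
  by_cases hai : a = i <;> by_cases haj : a = j <;> by_cases hbi : b = i <;> by_cases hbj : b = j <;>
    simp_all [eq_comm]

omit [Fintype F] in
theorem emb_dd {i j : Fin n} (hij : i ≠ j) (t : Fˣ) :
    (emb hij (dd t)).1 = Matrix.diagonal (fun a => if a = i then (t : F) else
      if a = j then ((t⁻¹ : Fˣ) : F) else 1) := by
  ext a b
  rw [emb_apply]
  simp only [dd, Matrix.one_apply, Matrix.diagonal_apply]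
  by_cases hai : a = i <;> by_cases haj : a = j <;> by_cases hbi : b = i <;> by_cases hbj : b = j <;>
    simp_all [eq_comm]

omit [Fintype F] in
theorem emb_wv {i j : Fin n} (hij : i ≠ j) :
    Mono (Equiv.swap i j) (emb hij (wv : SL2)) := by
  intro a b hab
  rw [Equiv.swap_apply_def] at hab
  rw [emb_apply]
  simp only [wv, Matrix.one_apply]
  by_cases hai : a = i <;> by_cases haj : a = j <;> by_cases hbi : b = i <;> by_cases hbj : b = j <;>
    simp_all [eq_comm]

theorem emb_dd_up {i j : Fin n} (hij : i ≠ j) (t : Fˣ) : IsUp (emb hij (dd t)) := fun a b h => by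
  rw [emb_dd, Matrix.diagonal_apply_ne _ h.ne']

/-- Conjugation by the Weyl element of `(i, i+1)` keeps the radical of that root. -/
theorem conj_swap {i j : Fin n} (hj : j.val = i.val + 1) {m : SLn} (hm : Mono (Equiv.swap i j) m)
    {u : SLn} (hu : u ∈ UTg n F) (h0 : u.1 i j = 0) : m⁻¹ * u * m ∈ UTg n F := by
  set σ := Equiv.swap i j
  set u' := m⁻¹ * u * m
  have key : ∀ k l, m.1 (σ k) k * u'.1 k l = u.1 (σ k) (σ l) * m.1 (σ l) l := fun k l => by
    rw [← mono_mul hm, ← mul_mono hm, ← Matrix.SpecialLinearGroup.coe_mul,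
      ← Matrix.SpecialLinearGroup.coe_mul, show m * u' = u * m by simp only [u']; group]
  refine mem_UTg.2 ⟨fun k => ?_, fun k l hlk => ?_⟩
  · have h := key k k
    rw [(mem_UTg.1 hu).1, one_mul] at h
    exact mul_left_cancel₀ (mono_ne_zero hm k) (h.trans (mul_one _).symm)
  · have h := key k l
    have hz : u.1 (σ k) (σ l) = 0 := by
      rcases lt_trichotomy (σ l) (σ k) with h1 | h1 | h1
      · exact (mem_UTg.1 hu).2 _ _ h1
      · exact absurd (σ.injective h1) hlk.ne
      · have hv' : ∀ c : Fin n, (σ c).val =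
            if c.val = i.val then j.val else if c.val = j.val then i.val else c.val := by
          intro c
          simp only [σ, Equiv.swap_apply_def, ← Fin.ext_iff]
          split_ifs <;> rfl
        have e : k = j ∧ l = i := by
          have h1' : (σ k).val < (σ l).val := h1
          have hlk' : l.val < k.val := hlk
          rw [hv', hv'] at h1'
          rw [Fin.ext_iff, Fin.ext_iff]
          split_ifs at h1' <;> omega
        rw [e.1, e.2]
        simp only [σ, Equiv.swap_apply_left, Equiv.swap_apply_right]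
        exact h0
    rw [hz, zero_mul] at h
    exact (mul_eq_zero.1 h).resolve_left (mono_ne_zero hm k)

/-- The radical of the root `(i, i+1)`. -/
theorem rad_split {i j : Fin n} (hij : i < j) (hj : j.val = i.val + 1) {u : SLn}
    (hu : u ∈ UTg n F) : ∃ u' ∈ UTg n F, u'.1 i j = 0 ∧
      u = SpecialLinearGroup.transvection hij.ne (u.1 i j) * u' := by
  refine ⟨(SpecialLinearGroup.transvection hij.ne (u.1 i j))⁻¹ * u,
    mul_mem (inv_mem (tr_mem hij _)) hu, ?_, by group⟩
  have h := ut_mul_next (mem_UTg.1 (tr_mem hij (u.1 i j)))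
    (mem_UTg.1 (mul_mem (inv_mem (tr_mem hij (u.1 i j))) hu)) hj
  rw [← Matrix.SpecialLinearGroup.coe_mul, mul_inv_cancel_left,
    SpecialLinearGroup.transvection_coe, Matrix.add_apply, Matrix.one_apply_ne hij.ne,
    Matrix.single_apply_same, zero_add] at h
  linear_combination -h

theorem rad_conj {i j : Fin n} (hij : i < j) (hj : j.val = i.val + 1) {u : SLn}
    (hu : u ∈ UTg n F) (h0 : u.1 i j = 0) (t : F) :
    ((SpecialLinearGroup.transvection hij.ne t)⁻¹ * u * SpecialLinearGroup.transvection hij.ne t).1 i j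
      = 0 := by
  set x : SLn := SpecialLinearGroup.transvection hij.ne t
  have hx : x ∈ UTg n F := tr_mem hij t
  have h1 := ut_mul_next (mem_UTg.1 (inv_mem hx)) (mem_UTg.1 hx) hj
  rw [← Matrix.SpecialLinearGroup.coe_mul, inv_mul_cancel, Matrix.SpecialLinearGroup.coe_one,
    Matrix.one_apply_ne hij.ne] at h1
  rw [Matrix.SpecialLinearGroup.coe_mul, Matrix.SpecialLinearGroup.coe_mul,
    ut_mul_next (IsUT.mul (mem_UTg.1 (inv_mem hx)) (mem_UTg.1 hu)) (mem_UTg.1 hx) hj,
    ut_mul_next (mem_UTg.1 (inv_mem hx)) (mem_UTg.1 hu) hj, h0, add_zero, ← h1]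

/-! ### Irreducible modules with regular restriction -/

/-- The only submodules invariant under the group are trivial. -/
def Irr (ρ : Representation ℂ SLn V) : Prop :=
  ∀ S : Submodule ℂ V, (∀ g, ∀ x ∈ S, ρ g x ∈ S) → S = ⊥ ∨ S = ⊤

theorem orbitSpan_top (hirr : Irr ρ) {v : V} (hv0 : v ≠ 0) : orbitSpan ρ v = ⊤ := by
  refine (hirr _ fun g x hx => orbitSpan_invariant v g hx).resolve_left fun h => hv0 ?_
  rw [← Submodule.mem_bot ℂ, ← h]
  exact orbitSpan_self v

theorem exists_top [NeZero n] (hρ : Vanish ρ) (hirr : Irr ρ) {ψ : AddChar F ℂ} (hψ : ψ ≠ 1) {v : V}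
    (hv0 : v ≠ 0) (hv : BLine ρ v) :
    ∃ m0 : SLn, Mono Fin.revPerm m0 ∧ proj ρ (bigPsi ψ) (ρ m0 v) ≠ 0 := by
  haveI : Nontrivial V := nontrivial_of_ne v 0 hv0
  by_contra h
  obtain ⟨w, hw⟩ := proj_ne_zero hρ (bigPsi ψ)
  refine hw ?_
  have hw' : w ∈ orbitSpan ρ v := by rw [orbitSpan_top hirr hv0]; trivial
  refine Submodule.span_induction (p := fun x _ => proj ρ (bigPsi ψ) x = 0) ?_ (map_zero _)
    (fun a b _ _ ha hb => by rw [map_add, ha, hb, add_zero])
    (fun c a _ ha => by rw [map_smul, ha, smul_zero]) hw'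
  rintro _ ⟨g, rfl⟩
  obtain ⟨σ, u, m, b, hu, hm, hb, rfl⟩ := exists_umb g
  obtain ⟨c, hc⟩ := hv.2 b hb
  show proj ρ (bigPsi ψ) (ρ (u * m * b) v) = 0
  rw [rho_mul, hc, map_smul, map_smul, rho_mul, proj_act ρ (bigPsi ψ) ⟨u, hu⟩]
  rcases eq_or_ne σ Fin.revPerm with rfl | hσ
  · rw [show proj ρ (bigPsi ψ) (ρ m v) = 0 from by
      by_contra h'; exact h ⟨m, hm, h'⟩, smul_zero, smul_zero]
  · rw [proj_mono_zero hψ hσ hm hv.1, smul_zero, smul_zero]

/-- The dimension is the order of the unitriangular group. -/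
theorem finrank_eq [NeZero n] (hρ : Vanish ρ) (hirr : Irr ρ) [Nontrivial V] :
    Module.finrank ℂ V = Nat.card ↥(UTg n F) := by
  obtain ⟨ψ, hψ⟩ := exists_psi (F := F)
  obtain ⟨v, hv0, hv⟩ := exists_bline hρ
  obtain ⟨m0, hm0, -⟩ := exists_top hρ hirr hψ hv0 hv
  have hle : Module.finrank ℂ (LinearMap.range (proj ρ (bigPsi ψ))) ≤ 1 := by
    refine (Submodule.finrank_mono (t := Submodule.span ℂ {proj ρ (bigPsi ψ) (ρ m0 v)}) ?_).trans
      (by simpa using finrank_span_le_card (R := ℂ) ({proj ρ (bigPsi ψ) (ρ m0 v)} : Set V))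
    rintro _ ⟨w, rfl⟩
    obtain ⟨c, hc⟩ := proj_orbitSpan hψ hv hm0
      (show w ∈ orbitSpan ρ v by rw [orbitSpan_top hirr hv0]; trivial)
    exact hc ▸ Submodule.smul_mem _ _ (Submodule.subset_span rfl)
  have h := finrank_eq_range hρ (bigPsi ψ)
  have hpos : 0 < Module.finrank ℂ V := Module.finrank_pos
  rcases Nat.le_one_iff_eq_zero_or_eq_one.1 hle with h0 | h1
  · rw [h0, mul_zero] at h; omega
  · rw [h1, mul_one] at h; exact h

/-- The fixed vectors of the unitriangular group form a line. -/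
theorem fixed_smul (hρ : Vanish ρ) (hdim : Module.finrank ℂ V = Nat.card ↥(UTg n F)) {v : V}
    (hv0 : v ≠ 0) (hv : ∀ u ∈ UTg n F, ρ u v = v) {w : V} (hw : ∀ u ∈ UTg n F, ρ u w = w) :
    ∃ c : ℂ, c • v = w := by
  set R := LinearMap.range (proj ρ (1 : ↥(UTg n F) →* ℂ))
  have hin : ∀ x : V, (∀ u ∈ UTg n F, ρ u x = x) → x ∈ R := by
    intro x hx
    refine ⟨(Nat.card ↥(UTg n F) : ℂ)⁻¹ • x, ?_⟩
    simp only [proj, LinearMap.sum_apply, LinearMap.smul_apply, MonoidHom.one_apply, one_smul,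
      map_smul, hx _ (Subtype.coe_prop _), Finset.sum_const, Finset.card_univ,
      ← Nat.cast_smul_eq_nsmul ℂ, smul_smul, ← Nat.card_eq_fintype_card,
      mul_inv_cancel₀ (card_ne (n := n) (F := F)), inv_mul_cancel₀ (card_ne (n := n) (F := F))]
  have h1 : Module.finrank ℂ R = 1 := by
    have h := finrank_eq_range hρ (1 : ↥(UTg n F) →* ℂ)
    rw [hdim] at h
    exact (Nat.eq_of_mul_eq_mul_left Nat.card_pos (by rw [mul_one]; exact h)).symm
  obtain ⟨c, hc⟩ := (finrank_eq_one_iff_of_nonzero' (⟨v, hin v hv⟩ : R)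
    (fun h => hv0 (congrArg Subtype.val h))).1 h1 ⟨w, hin w hw⟩
  exact ⟨c, congrArg Subtype.val hc⟩

variable [NeZero n]

/-- Diagonal elements of the root subgroups fix the line pointwise. -/
theorem root_torus_fix (hρ : Vanish ρ) (hirr : Irr ρ) {v : V} (hv0 : v ≠ 0) (hv : BLine ρ v)
    {i j : Fin n} (hij : i < j) (hj : j.val = i.val + 1) (b : Fˣ) :
    ρ (emb hij.ne (dd b)) v = v := by
  classical
  haveI : Nontrivial V := nontrivial_of_ne v 0 hv0
  have hdim := finrank_eq hρ hirr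
  let x : F → SLn := fun t => SpecialLinearGroup.transvection hij.ne t
  have hxm : ∀ t, x t ∈ UTg n F := fun t => tr_mem hij t
  have hxadd : ∀ s t, x s * x t = x (s + t) := fun s t =>
    Cfsg.Agent.Classical.TransRoot.trans_mul hij.ne s t
  -- the scalars of the diagonal elements
  have hmu : ∀ t : Fˣ, ∃ c : ℂ, ρ (emb hij.ne (dd t)) v = c • v := fun t =>
    hv.2 _ (emb_dd_up hij.ne t)
  choose μ hμ using hmu
  have hμmul : ∀ s t, μ (s * t) = μ s * μ t := fun s t =>
    smul_left_injective ℂ hv0 (show μ (s * t) • v = (μ s * μ t) • v by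
      rw [← hμ, dd_mul, map_mul, rho_mul, hμ, map_smul, hμ, smul_smul, mul_comm])
  have hμne : ∀ t, μ t ≠ 0 := fun t h0 => hv0 (by
    have := congrArg (ρ (emb hij.ne (dd t))⁻¹) (hμ t)
    rw [h0, zero_smul, map_zero, ← rho_mul, inv_mul_cancel, map_one] at this
    exact this)
  set w : SLn := emb hij.ne (wv : SL2) with hw
  have hwm : Mono (Equiv.swap i j) w := emb_wv hij.ne
  set e := ρ w v with he
  have hrad : ∀ u ∈ UTg n F, u.1 i j = 0 → ρ u e = e := fun u hu h0 => by
    rw [he, ← rho_mul, show u * w = w * (w⁻¹ * u * w) by group, rho_mul,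
      hv.1 _ (conj_swap hj hwm hu h0)]
  set f := ∑ t : F, ρ (x t) e with hf
  have hfix : ∀ u ∈ UTg n F, ρ u f = f := by
    intro u hu
    obtain ⟨u', hu', h0, hue⟩ := rad_split hij hj hu
    obtain ⟨s, hs⟩ : ∃ s : F, u.1 i j = s := ⟨_, rfl⟩
    rw [hs] at hue
    rw [hf, map_sum]
    refine Fintype.sum_equiv (Equiv.addLeft s) _ _ fun t => ?_
    rw [Equiv.coe_addLeft, ← hxadd, rho_mul ρ (x s), ← rho_mul ρ u, hue,
      show x s * u' * x t = x s * (x t * ((x t)⁻¹ * u' * x t)) by group,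
      rho_mul ρ (x s), rho_mul ρ (x t), hrad _ (mul_mem (mul_mem (inv_mem (hxm t)) hu') (hxm t))
        (rad_conj hij hj hu' h0 t)]
  obtain ⟨c, hc⟩ := fixed_smul hρ hdim hv0 hv.1 hfix
  -- the rank one relation
  have hrel : ∀ t : Fˣ, ρ w (ρ (x t) e) = μ (-t) • ρ (x (-((t⁻¹ : Fˣ) : F))) e := by
    intro t
    have hwt : w * x (t : F) * w =
        x (-((t⁻¹ : Fˣ) : F)) * w * emb hij.ne (dd (-t)) * x (-((t⁻¹ : Fˣ) : F)) := by
      simp only [x, hw, ← emb_xu hij.ne, ← map_mul]
      rw [wv_rel, bb_eq, mul_assoc _ (dd (-t)) _]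
    rw [he, ← rho_mul, ← rho_mul, hwt, rho_mul, hv.1 _ (hxm _), rho_mul, hμ, map_smul, rho_mul]
  set ν : Fˣ → ℂ := fun s => μ s⁻¹ with hν
  have heq : c • e = μ (-1) • v + ∑ s : Fˣ, ν s • ρ (x (s : F)) e := by
    have h1 : ρ w f = c • e := by rw [← hc, map_smul, he]
    rw [← h1, hf, Fintype.sum_eq_add_sum_compl (0 : F), map_add, map_sum]
    congr 1
    · rw [show x 0 = 1 by simp only [x]; exact Subtype.ext (by simp), map_one, Module.End.one_apply,
        he, ← rho_mul, hw, ← map_mul, wv_sq, hμ]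
    · symm
      refine Finset.sum_bij' (fun s _ => -((s⁻¹ : Fˣ) : F)) (fun t ht => Units.mk0 (-t⁻¹) ?_)
        ?_ ?_ ?_ ?_ ?_
      · simp only [Finset.mem_compl, Finset.mem_singleton] at ht
        simpa using ht
      · intro s _; simp
      · intro t _; exact Finset.mem_univ _
      · intro s _; ext; simp
      · intro t ht; simp
      · intro s _
        have h2 := hrel (Units.mk0 (-((s⁻¹ : Fˣ) : F)) (by simp))
        rw [Units.val_mk0] at h2
        rw [h2]
        congr 2
        · simp only [hν]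
          congr 1
          ext
          simp
        · simp
  -- `c` is not zero
  have hf' : ∀ s : F, ρ (x s) f = f := fun s => hfix _ (hxm s)
  have hsum : ∀ s : F, ∑ r : F, ρ (x r) (ρ (x s) e) = f := fun s => by
    rw [hf]
    refine Fintype.sum_equiv (Equiv.addRight s) _ _ fun r => ?_
    rw [← rho_mul, hxadd]
    rfl
  have hc0 : c ≠ 0 := by
    intro h0
    have h1 := congrArg (fun z => ∑ r : F, ρ (x r) z) heq
    simp only [map_smul, map_add, map_sum, Finset.sum_add_distrib, ← Finset.smul_sum] at h1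
    rw [Finset.sum_comm] at h1
    simp only [← Finset.smul_sum, hsum, hv.1 _ (hxm _), ← hc, h0, zero_smul, smul_zero,
      Finset.sum_const_zero, add_zero, Finset.sum_const, Finset.card_univ,
      ← Nat.cast_smul_eq_nsmul ℂ, smul_smul] at h1
    rcases smul_eq_zero.1 h1.symm with h2 | h2
    · rcases mul_eq_zero.1 h2 with h3 | h3
      · exact hμne _ h3
      · exact Fintype.card_ne_zero (Nat.cast_eq_zero.1 h3)
    · exact hv0 h2
  -- the components of `e`
  let A : AddChar F ℂ → V →ₗ[ℂ] V := fun ψ => ∑ r : F, ψ (-r) • ρ (x r)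
  have hAv : ∀ ψ : AddChar F ℂ, ψ ≠ 1 → A ψ v = 0 := by
    intro ψ hψ
    simp only [A, LinearMap.sum_apply, LinearMap.smul_apply, hv.1 _ (hxm _), ← Finset.sum_smul]
    have hneg : ∑ r : F, ψ (-r) = ∑ r : F, ψ r :=
      Fintype.sum_equiv (Equiv.neg F) _ _ fun r => rfl
    rw [hneg, AddChar.sum_eq_zero_of_ne_one hψ, zero_smul]
  have hAx : ∀ (ψ : AddChar F ℂ) (s : F), A ψ (ρ (x s) e) = ψ s • A ψ e := by
    intro ψ s
    simp only [A, LinearMap.sum_apply, LinearMap.smul_apply, Finset.smul_sum, smul_smul]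
    refine Fintype.sum_equiv (Equiv.addRight s) _ _ fun r => ?_
    rw [Equiv.coe_addRight, ← rho_mul, hxadd, ← AddChar.map_add_eq_mul]
    congr 2
    ring
  have hAne : ∀ ψ : AddChar F ℂ, ψ ≠ 1 → A ψ e ≠ 0 := by
    intro ψ hψ h0
    -- the pattern of the transvection carried to the top cell
    set τ : Equiv.Perm (Fin n) := Fin.revPerm * (Equiv.swap i j)⁻¹
    have hτi : τ i = Fin.rev j := by simp [τ]
    have hτj : τ j = Fin.rev i := by simp [τ]
    have hlt : Fin.rev j < Fin.rev i := Fin.rev_lt_rev.2 hij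
    have hnext : (Fin.rev i).val = (Fin.rev j).val + 1 := by
      simp only [Fin.val_rev]
      omega
    obtain ⟨m1, hm1, -⟩ := exists_top hρ hirr hψ hv0 hv
    set k := m1 * w⁻¹ with hk
    have hwinv : Mono (Equiv.swap i j)⁻¹ w⁻¹ := by
      intro a b hab
      obtain ⟨b', rfl⟩ := (Equiv.swap i j).surjective b
      have h1 := mul_mono hwm w⁻¹.1 a b'
      rw [← Matrix.SpecialLinearGroup.coe_mul, inv_mul_cancel, Matrix.SpecialLinearGroup.coe_one,
        Matrix.one_apply_ne (by simpa using hab)] at h1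
      exact (mul_eq_zero.1 h1.symm).resolve_right (mono_ne_zero hwm b')
    have hkm : Mono τ k := mono_mul_mono hm1 hwinv
    set κ : F := k.1 (τ i) i / k.1 (τ j) j
    have hκ : κ ≠ 0 := div_ne_zero (mono_ne_zero hkm i) (mono_ne_zero hkm j)
    -- the character adapted to it
    set ψ' : AddChar F ℂ := AddChar.mulShift ψ κ⁻¹ with hψ'
    have hψ'1 : ψ' ≠ 1 := fun h => hψ (DFunLike.ext _ _ fun r => by
      have h2 := congrArg (fun φ : AddChar F ℂ => φ (κ * r)) h
      simpa [hψ', AddChar.mulShift_apply, inv_mul_cancel_left₀ hκ] using h2)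
    obtain ⟨m0, hm0, hne⟩ := exists_top hρ hirr hψ'1 hv0 hv
    obtain ⟨d, hd⟩ := hv.2 _ (mono_div hm1 hm0)
    have hne1 : proj ρ (bigPsi ψ') (ρ k e) ≠ 0 := by
      intro h1
      refine hne ?_
      rw [show m0 = m1 * (m1⁻¹ * m0) by group, rho_mul, hd, map_smul, map_smul,
        show ρ m1 v = ρ k e by rw [he, ← rho_mul, hk]; congr 2; group, h1, smul_zero]
    have hmove : ∀ r : F, proj ρ (bigPsi ψ') (ρ k (ρ (x r) e)) =
        ψ r • proj ρ (bigPsi ψ') (ρ k e) := by
      intro r
      rw [← rho_mul ρ k, mono_tr hkm hij.ne, rho_mul,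
        proj_act ρ (bigPsi ψ') ⟨_, by simp only [hτi, hτj]; exact tr_mem hlt _⟩]
      congr 1
      simp only [hτi, hτj]
      rw [bigPsi_tr ψ' hnext hlt, hψ', AddChar.mulShift_apply]
      congr 1
      have := mono_ne_zero hkm i
      have := mono_ne_zero hkm j
      simp only [κ, hτi, hτj] at *
      field_simp
    have h1 := congrArg (fun z => proj ρ (bigPsi ψ') (ρ k z)) h0
    simp only [A, LinearMap.sum_apply, LinearMap.smul_apply, map_sum, map_smul, map_zero, hmove,
      smul_smul, ← AddChar.map_add_eq_mul, neg_add_cancel, AddChar.map_zero_eq_one, one_smul,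
      Finset.sum_const, Finset.card_univ, ← Nat.cast_smul_eq_nsmul ℂ] at h1
    rcases smul_eq_zero.1 h1 with h2 | h2
    · exact Fintype.card_ne_zero (Nat.cast_eq_zero.1 h2)
    · exact hne1 h2
  have hG : ∀ ψ : AddChar F ℂ, ψ ≠ 1 → ∑ s : Fˣ, ν s * ψ (s : F) = c := by
    intro ψ hψ
    have h1 := congrArg (A ψ) heq
    simp only [map_smul, map_add, map_sum, hAv ψ hψ, smul_zero, zero_add, hAx, smul_smul,
      ← Finset.sum_smul] at h1
    exact (smul_left_injective ℂ (hAne ψ hψ) h1).symm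
  obtain ⟨ψ, hψ⟩ := exists_psi (F := F)
  have hψb : AddChar.mulShift ψ (b : F) ≠ 1 := fun h => hψ (DFunLike.ext _ _ fun r => by
    have h2 := congrArg (fun φ : AddChar F ℂ => φ (((b⁻¹ : Fˣ) : F) * r)) h
    simpa [AddChar.mulShift_apply, ← mul_assoc] using h2)
  have h1 : μ b * ∑ s : Fˣ, ν s * ψ (s : F) =
      ∑ s : Fˣ, ν s * AddChar.mulShift ψ (b : F) (s : F) := by
    rw [Finset.mul_sum]
    refine Fintype.sum_equiv (Equiv.mulRight b⁻¹) _ _ fun s => ?_
    simp only [Equiv.coe_mulRight, hν, AddChar.mulShift_apply, _root_.mul_inv_rev, inv_inv,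
      hμmul, Units.val_mul]
    rw [mul_comm ((s : Fˣ) : F), ← mul_assoc (b : F), Units.mul_inv, one_mul, mul_assoc]
  rw [hG ψ hψ, hG _ hψb] at h1
  rw [hμ, show μ b = 1 from mul_right_cancel₀ hc0 (h1.trans (one_mul c).symm), one_smul]

/-- The line is fixed pointwise by the triangular group. -/
theorem up_fix (hρ : Vanish ρ) (hirr : Irr ρ) {v : V} (hv0 : v ≠ 0) (hv : BLine ρ v) {b : SLn}
    (hb : IsUp b) : ρ b v = v := by
  classical
  have hdiag : ∀ (k : ℕ) (g : SLn) (t : Fin n → F), g.1 = Matrix.diagonal t →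
      (∀ l : Fin n, k ≤ l.val → t l = 1) → ρ g v = v := by
    intro k
    induction k using Nat.strong_induction_on with
    | _ k ih =>
      intro g t hg ht
      have hprod : ∏ l, t l = 1 := by rw [← Matrix.det_diagonal, ← hg, g.2]
      rcases Nat.lt_or_ge k 2 with hk | hk
      · have ht1 : ∀ l : Fin n, t l = 1 := by
          intro l
          rcases Nat.lt_or_ge l.val k with hl | hl
          · rw [Finset.prod_eq_single l (fun l' _ hl' => ht l' (by
              rcases Nat.lt_or_ge l'.val k with h | h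
              · exact absurd (Fin.ext (by omega)) hl'
              · exact h)) (fun h => absurd (Finset.mem_univ _) h)] at hprod
            exact hprod
          · exact ht l hl
        have hg1 : g = 1 := Subtype.ext (by
          rw [hg, Matrix.SpecialLinearGroup.coe_one, show t = fun _ => (1 : F) from funext ht1,
            Matrix.diagonal_one])
        rw [hg1, map_one, Module.End.one_apply]
      · rcases Nat.lt_or_ge (k - 1) n with hkn | hkn
        · set j : Fin n := ⟨k - 1, hkn⟩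
          set i : Fin n := ⟨k - 2, by omega⟩
          have hij : i < j := by simp only [i, j, Fin.lt_def]; omega
          have hj : j.val = i.val + 1 := by simp only [i, j]; omega
          have htj : t j ≠ 0 := fun h =>
            one_ne_zero (hprod.symm.trans (Finset.prod_eq_zero (Finset.mem_univ j) h))
          set a : Fˣ := Units.mk0 (t j) htj
          set g' := g * emb hij.ne (dd a) with hg'
          have hfix : ρ g' v = ρ g v := by
            rw [hg', rho_mul, root_torus_fix hρ hirr hv0 hv hij hj]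
          rw [← hfix]
          refine ih (k - 1) (by omega) g' (fun l => t l *
            (if l = i then (a : F) else if l = j then ((a⁻¹ : Fˣ) : F) else 1)) ?_ fun l hl => ?_
          · rw [hg', Matrix.SpecialLinearGroup.coe_mul, hg, emb_dd, Matrix.diagonal_mul_diagonal]
          · have hli : l ≠ i := fun e => by
              have := congrArg Fin.val e
              simp only [i] at this
              omega
            rw [if_neg hli]
            by_cases hlj : l = j
            · rw [if_pos hlj, hlj]; simp [a, mul_inv_cancel₀ htj]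
            · rw [if_neg hlj, mul_one]
              refine ht l ?_
              have : l.val ≠ k - 1 := fun e => hlj (Fin.ext e)
              omega
        · exact ih (k - 1) (by omega) g t hg fun l hl => absurd l.2 (by omega)
  set t : Fin n → F := fun l => b.1 l l
  let d : SLn := ⟨Matrix.diagonal t, by
    rw [Matrix.det_diagonal, ← Matrix.det_of_isUpperTriangular (fun i j h => hb i j h), b.2]⟩
  have hd : IsUp d := fun i j h => Matrix.diagonal_apply_ne _ h.ne'
  have hu : d⁻¹ * b ∈ UTg n F := by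
    have h1 := diag_mul (inv_up hd) hb
    refine mem_UTg.2 ⟨fun l => ?_, fun i j h => h1.1 i j h⟩
    rw [h1.2, show b.1 l l = d.1 l l from (Matrix.diagonal_apply_eq t l).symm,
      ← (diag_mul (inv_up hd) hd).2, inv_mul_cancel, Matrix.SpecialLinearGroup.coe_one,
      Matrix.one_apply_eq]
  rw [show b = d * (d⁻¹ * b) by group, rho_mul, hv.1 _ hu]
  exact hdiag n d t rfl fun l hl => absurd l.2 (by omega)

/-- An irreducible module with regular restriction has a vector fixed by the triangular group. -/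
theorem exists_up_fixed (hρ : Vanish ρ) (hirr : Irr ρ) [Nontrivial V] :
    ∃ v : V, v ≠ 0 ∧ ∀ b : SLn, IsUp b → ρ b v = v := by
  obtain ⟨v, hv0, hv⟩ := exists_bline hρ
  exact ⟨v, hv0, fun b hb => up_fix hρ hirr hv0 hv hb⟩

/-- Uniqueness. -/
theorem character_eq {V' : Type*} [AddCommGroup V'] [Module ℂ V'] [FiniteDimensional ℂ V']
    [Nontrivial V] [Nontrivial V'] {ρ' : Representation ℂ (Matrix.SpecialLinearGroup (Fin n) F) V'}
    (hρ : Vanish ρ) (hirr : Irr ρ) (hρ' : Vanish ρ') (hirr' : Irr ρ') :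
    ρ.character = ρ'.character := by
  classical
  obtain ⟨ψ, hψ⟩ := exists_psi (F := F)
  obtain ⟨v, hv0, hvB⟩ := exists_up_fixed hρ hirr
  obtain ⟨v', hv0', hvB'⟩ := exists_up_fixed hρ' hirr'
  have hv : BLine ρ v := ⟨fun u hu => hvB u (ut_isUp hu), fun b hb => ⟨1, by rw [hvB b hb, one_smul]⟩⟩
  have hv' : BLine ρ' v' :=
    ⟨fun u hu => hvB' u (ut_isUp hu), fun b hb => ⟨1, by rw [hvB' b hb, one_smul]⟩⟩
  obtain ⟨m0, hm0, hne⟩ := exists_top hρ hirr hψ hv0 hv
  obtain ⟨m0', hm0', hne'⟩ := exists_top hρ' hirr' hψ hv0' hv'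
  have hne' : proj ρ' (bigPsi ψ) (ρ' m0 v') ≠ 0 := by
    have h1 : ρ' m0' v' = ρ' m0 v' := by
      conv_lhs => rw [show m0' = m0 * (m0⁻¹ * m0') by group, rho_mul, hvB' _ (mono_div hm0 hm0')]
    rwa [h1] at hne'
  set π : Representation ℂ (Matrix.SpecialLinearGroup (Fin n) F) (V × V') := ρ.prod ρ' with hπ
  have hπa : ∀ g a, π g a = (ρ g a.1, ρ' g a.2) := fun g a => rfl
  have hπB : ∀ b : SLn, IsUp b → π b (v, v') = (v, v') := fun b hb => by
    rw [hπa, hvB b hb, hvB' b hb]
  have hproj : ∀ a, proj π (bigPsi ψ) a = (proj ρ (bigPsi ψ) a.1, proj ρ' (bigPsi ψ) a.2) := by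
    intro a
    refine Prod.ext ?_ ?_ <;>
      simp only [proj, LinearMap.sum_apply, LinearMap.smul_apply, Prod.fst_sum, Prod.snd_sum,
        Prod.smul_fst, Prod.smul_snd, hπa]
  set S := orbitSpan π (v, v')
  have himg : ∀ a ∈ S, ∃ c : ℂ, proj ρ (bigPsi ψ) a.1 = c • proj ρ (bigPsi ψ) (ρ m0 v) ∧
      proj ρ' (bigPsi ψ) a.2 = c • proj ρ' (bigPsi ψ) (ρ' m0 v') := by
    intro a ha
    obtain ⟨c, hc⟩ := proj_orbitSpan (ρ := π) hψ
      ⟨fun u hu => hπB u (ut_isUp hu), fun b hb => ⟨1, by rw [hπB b hb, one_smul]⟩⟩ hm0 ha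
    rw [hproj, hproj, hπa] at hc
    exact ⟨c, congrArg Prod.fst hc, congrArg Prod.snd hc⟩
  have hinv := fun g a ha => orbitSpan_invariant (ρ := π) (v, v') g (x := a) ha
  -- the span is the graph of an isomorphism
  have hK1 : ∀ a ∈ S, a.2 = 0 → a.1 = 0 := by
    let K : Submodule ℂ V := S.comap (LinearMap.inl ℂ V V')
    rcases hirr K (fun g x hx => by
      have := hinv g _ hx
      simpa [hπa, K] using this) with h | h
    · intro a ha h2
      have : a.1 ∈ K := by
        show (a.1, (0 : V')) ∈ S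
        rwa [← h2]
      rwa [h, Submodule.mem_bot] at this
    · exfalso
      have : ρ m0 v ∈ K := by rw [h]; trivial
      obtain ⟨c, h1, h2⟩ := himg _ this
      simp only [LinearMap.inl_apply, map_zero] at h1 h2
      rcases smul_eq_zero.1 h2.symm with h3 | h3
      · exact hne (by rw [h1, h3, zero_smul])
      · exact hne' h3
  have hK2 : ∀ a ∈ S, a.1 = 0 → a.2 = 0 := by
    let K : Submodule ℂ V' := S.comap (LinearMap.inr ℂ V V')
    rcases hirr' K (fun g x hx => by
      have := hinv g _ hx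
      simpa [hπa, K] using this) with h | h
    · intro a ha h2
      have : a.2 ∈ K := by
        show ((0 : V), a.2) ∈ S
        rwa [← h2]
      rwa [h, Submodule.mem_bot] at this
    · exfalso
      have : ρ' m0 v' ∈ K := by rw [h]; trivial
      obtain ⟨c, h1, h2⟩ := himg _ this
      simp only [LinearMap.inr_apply, map_zero] at h1 h2
      rcases smul_eq_zero.1 h1.symm with h3 | h3
      · exact hne' (by rw [h2, h3, zero_smul])
      · exact hne h3
  let p1 : ↥S →ₗ[ℂ] V := (LinearMap.fst ℂ V V').comp S.subtype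
  let p2 : ↥S →ₗ[ℂ] V' := (LinearMap.snd ℂ V V').comp S.subtype
  have hp1 : Function.Bijective p1 := by
    refine ⟨(injective_iff_map_eq_zero p1).2 fun a h =>
      Subtype.ext (Prod.ext h (hK2 _ a.2 h)), LinearMap.range_eq_top.1 ?_⟩
    refine (hirr _ fun g x hx => ?_).resolve_left fun h => hv0 ?_
    · obtain ⟨a, rfl⟩ := hx
      exact ⟨⟨π g a, hinv g _ a.2⟩, rfl⟩
    · have : v ∈ LinearMap.range p1 := ⟨⟨_, orbitSpan_self (ρ := π) (v, v')⟩, rfl⟩
      rwa [h, Submodule.mem_bot] at this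
  have hp2 : Function.Bijective p2 := by
    refine ⟨(injective_iff_map_eq_zero p2).2 fun a h =>
      Subtype.ext (Prod.ext (hK1 _ a.2 h) h), LinearMap.range_eq_top.1 ?_⟩
    refine (hirr' _ fun g x hx => ?_).resolve_left fun h => hv0' ?_
    · obtain ⟨a, rfl⟩ := hx
      exact ⟨⟨π g a, hinv g _ a.2⟩, rfl⟩
    · have : v' ∈ LinearMap.range p2 := ⟨⟨_, orbitSpan_self (ρ := π) (v, v')⟩, rfl⟩
      rwa [h, Submodule.mem_bot] at this
  let L : V ≃ₗ[ℂ] V' := (LinearEquiv.ofBijective p1 hp1).symm.trans (LinearEquiv.ofBijective p2 hp2)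
  funext g
  have hL : ∀ a, L (ρ g a) = ρ' g (L a) := by
    intro a
    set e1 := LinearEquiv.ofBijective p1 hp1
    have hs : e1.symm (ρ g a) = ⟨π g (e1.symm a).1, hinv g _ (e1.symm a).2⟩ := by
      rw [LinearEquiv.symm_apply_eq]
      show ρ g a = ρ g ((e1.symm a).1.1)
      congr 1
      exact (e1.apply_symm_apply a).symm
    show p2 (e1.symm (ρ g a)) = ρ' g (p2 (e1.symm a))
    rw [hs]
    rfl
  show LinearMap.trace ℂ V (ρ g) = LinearMap.trace ℂ V' (ρ' g)
  rw [← LinearMap.trace_conj' (ρ g) L]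
  congr 1
  refine LinearMap.ext fun a => ?_
  rw [LinearEquiv.conj_apply_apply, hL, LinearEquiv.apply_symm_apply]

end Cfsg.Agent.Small.SLnSt
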