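import Mathlib

/-!
# Lifts in central extensions

Commutators of lifts do not depend on the lifts; bimultiplicative commutator pairings of lifted
root subgroups and their invariance under the torus.
-/

set_option autoImplicit false
set_option linter.unusedSectionVars false

namespace Cfsg.Agent.Small.SchurLifts

open scoped commutatorElement

/-- A surjection with central kernel. -/
structure Central (Γ Q : Type*) [Group Γ] [Group Q] where
  π : Γ →* Q
  surj : Function.Surjective π
  central : π.ker ≤ Subgroup.center Γ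

variable {Γ Q : Type*} [Group Γ] [Group Q] (C : Central Γ Q)

namespace Central

/-- A chosen lift. -/
noncomputable def L (q : Q) : Γ := Function.surjInv C.surj q

theorem π_L (q : Q) : C.π (C.L q) = q := Function.surjInv_eq C.surj q

theorem div_mem {a a' : Γ} (h : C.π a = C.π a') : a'⁻¹ * a ∈ Subgroup.center Γ :=
  C.central (by rw [MonoidHom.mem_ker, map_mul, map_inv, h, inv_mul_cancel])

theorem comm_left {a a' : Γ} (h : C.π a = C.π a') (b : Γ) : ⁅a, b⁆ = ⁅a', b⁆ := by
  obtain ⟨z, hz, rfl⟩ : ∃ z ∈ Subgroup.center Γ, a = a' * z := ⟨_, C.div_mem h, (mul_inv_cancel_left a' a).symm⟩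
  rw [commutatorElement_def, commutatorElement_def, mul_assoc a' z b, ← Subgroup.mem_center_iff.1 hz b]
  group

theorem comm_right (a : Γ) {b b' : Γ} (h : C.π b = C.π b') : ⁅a, b⁆ = ⁅a, b'⁆ := by
  rw [← commutatorElement_inv b a, C.comm_left h, commutatorElement_inv]

theorem comm_indep {a a' b b' : Γ} (h : C.π a = C.π a') (h' : C.π b = C.π b') : ⁅a, b⁆ = ⁅a', b'⁆ :=
  (C.comm_left h b).trans (C.comm_right a' h')

theorem conj_comm {g a b a' b' : Γ} (h : C.π (g * a * g⁻¹) = C.π a') (h' : C.π (g * b * g⁻¹) = C.π b') :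
    g * ⁅a, b⁆ * g⁻¹ = ⁅a', b'⁆ := by
  rw [← C.comm_indep h h', commutatorElement_def, commutatorElement_def]
  group

/-- An element commuting with two others lifts to one commuting with their commutator. -/
theorem commute_comm {a c d : Γ} (hc : Commute (C.π a) (C.π c)) (hd : Commute (C.π a) (C.π d)) :
    Commute a ⁅c, d⁆ := by
  have := C.conj_comm (g := a) (a := c) (b := d) (a' := c) (b' := d)
    (by rw [map_mul, map_mul, map_inv, hc.eq, mul_inv_cancel_right])
    (by rw [map_mul, map_mul, map_inv, hd.eq, mul_inv_cancel_right])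
  exact mul_inv_eq_iff_eq_mul.1 this

theorem commute_indep {a a' b b' : Γ} (h : C.π a = C.π a') (h' : C.π b = C.π b') (hab : Commute a' b') :
    Commute a b :=
  commutatorElement_eq_one_iff_mul_comm.1
    ((C.comm_indep h h').trans (commutatorElement_eq_one_iff_mul_comm.2 hab))

theorem comm_central {a b : Γ} (h : Commute (C.π a) (C.π b)) : ⁅a, b⁆ ∈ Subgroup.center Γ :=
  C.central (by rw [MonoidHom.mem_ker, map_commutatorElement, commutatorElement_eq_one_iff_mul_comm.2 h])

variable {A : Type*} [AddGroup A]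

theorem add_right {a : Γ} (g : A → Q) (hg : ∀ u u', g u * g u' = g (u + u')) (u u' : A)
    (h : Commute (C.L (g u)) ⁅a, C.L (g u')⁆) :
    ⁅a, C.L (g (u + u'))⁆ = ⁅a, C.L (g u)⁆ * ⁅a, C.L (g u')⁆ := by
  rw [C.comm_right a (b' := C.L (g u) * C.L (g u')) (by rw [map_mul, π_L, π_L, π_L, hg])]
  have e : ⁅a, C.L (g u) * C.L (g u')⁆ = ⁅a, C.L (g u)⁆ * (C.L (g u) * ⁅a, C.L (g u')⁆ * (C.L (g u))⁻¹) := by
    simp only [commutatorElement_def]; group
  rw [e, h.eq, mul_inv_cancel_right]

theorem add_left {b : Γ} (f : A → Q) (hf : ∀ t t', f t * f t' = f (t + t')) (t t' : A)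
    (h : Commute (C.L (f t)) ⁅C.L (f t'), b⁆) :
    ⁅C.L (f (t + t')), b⁆ = ⁅C.L (f t'), b⁆ * ⁅C.L (f t), b⁆ := by
  rw [C.comm_left (a' := C.L (f t) * C.L (f t')) (by rw [map_mul, π_L, π_L, π_L, hf]) b]
  have e : ⁅C.L (f t) * C.L (f t'), b⁆ = (C.L (f t) * ⁅C.L (f t'), b⁆ * (C.L (f t))⁻¹) * ⁅C.L (f t), b⁆ := by
    simp only [commutatorElement_def]; group
  rw [e, h.eq, mul_inv_cancel_right]

variable {K : Type*} [Field K]

/-- The pairing of two commuting root subgroups. -/
noncomputable def pair (f g : K → Q) (t u : K) : Γ := ⁅C.L (f t), C.L (g u)⁆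

variable {f g : K → Q}

theorem pair_central (hfg : ∀ t u, Commute (f t) (g u)) (t u : K) : C.pair f g t u ∈ Subgroup.center Γ :=
  C.comm_central (by rw [π_L, π_L]; exact hfg t u)

theorem pair_add_right (hfg : ∀ t u, Commute (f t) (g u)) (hg : ∀ u u', g u * g u' = g (u + u')) (t u u' : K) :
    C.pair f g t (u + u') = C.pair f g t u * C.pair f g t u' :=
  C.add_right g hg u u' (Subgroup.mem_center_iff.1 (C.pair_central hfg t u') _)

theorem pair_add_left (hfg : ∀ t u, Commute (f t) (g u)) (hf : ∀ t t', f t * f t' = f (t + t')) (t t' u : K) :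
    C.pair f g (t + t') u = C.pair f g t' u * C.pair f g t u :=
  C.add_left f hf t t' (Subgroup.mem_center_iff.1 (C.pair_central hfg t' u) _)

theorem pair_invariant (hfg : ∀ t u, Commute (f t) (g u)) {d : Q} {f' g' : K → Q} {t t' u u' : K}
    (hft : d * f t * d⁻¹ = f' t') (hgu : d * g u * d⁻¹ = g' u') : C.pair f' g' t' u' = C.pair f g t u := by
  have := C.conj_comm (g := C.L d) (a := C.L (f t)) (b := C.L (g u)) (a' := C.L (f' t')) (b' := C.L (g' u'))
    (by rw [map_mul, map_mul, map_inv, π_L, π_L, π_L, hft]) (by rw [map_mul, map_mul, map_inv, π_L, π_L, π_L, hgu])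
  rw [Subgroup.mem_center_iff.1 (C.comm_central (by rw [π_L, π_L]; exact hfg t u)) (C.L d),
    mul_inv_cancel_right] at this
  exact this.symm

/-- A pairing invariant under a torus fixing the first argument and moving the second vanishes. -/
theorem pair_eq_one (hfg : ∀ t u, Commute (f t) (g u)) (hg : ∀ u u', g u * g u' = g (u + u'))
    (d : Q) (β : K) (hβ : β ≠ 1) (hf' : ∀ t, d * f t * d⁻¹ = f t) (hg' : ∀ u, d * g u * d⁻¹ = g (β * u))
    (t u : K) : C.pair f g t u = 1 := by
  obtain ⟨v, rfl⟩ : ∃ v, u = β * v - v := ⟨u / (β - 1), by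
    rw [← sub_one_mul, mul_div_cancel₀ u (sub_ne_zero.2 hβ)]⟩
  have h1 := C.pair_invariant hfg (hf' t) (hg' v)
  have h2 := C.pair_add_right hfg hg t (β * v - v) v
  rw [sub_add_cancel, h1, right_eq_mul] at h2
  exact h2

end Central

end Cfsg.Agent.Small.SchurLifts
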