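import Cfsg.Agent.Lib.Small.InvolutionsO
import Cfsg.Agent.Lib.Small.Orth.Standard
import Cfsg.Agent.Lib.Small.Orth.Bridge
import Cfsg.Agent.Lib.Classical.OrthIndex

/-!
# Involutions of orthogonal matrix groups in characteristic two
-/

set_option autoImplicit false
set_option linter.unusedSectionVars false

namespace Cfsg.Agent.Small.OInvolMatrix

open Module QuadraticMap Matrix Cfsg.Agent.Classical Cfsg.Agent.Classical.SpCount Cfsg.Agent.Small.InvolutionsSp
  Cfsg.Agent.Small.ArfTwo Cfsg.Agent.Small.InvolutionsO Cfsg.Agent.Small.Orth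
  Cfsg.Agent.Small.SymFormsTwo Cfsg.Agent.Classical.ORefl Cfsg.Agent.Classical.OOmega

variable {F : Type*} [Field F] {ι : Type} [Fintype ι] [DecidableEq ι] {Q : QuadraticForm F (ι → F)}

/-- The nilpotent part. -/
noncomputable def nil (g : ↥(Cfsg.isometryGroup F ⇑Q)) : (ι → F) →ₗ[F] (ι → F) :=
  Matrix.toLin' ((g.1.1 : Matrix ι ι F) - 1)

theorem nil_apply (g : ↥(Cfsg.isometryGroup F ⇑Q)) (v : ι → F) : nil g v = (g.1.1 : Matrix ι ι F) *ᵥ v - v := by
  rw [nil, Matrix.toLin'_apply, Matrix.sub_mulVec, Matrix.one_mulVec]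

theorem finrank_nil (g : ↥(Cfsg.isometryGroup F ⇑Q)) :
    finrank F (LinearMap.range (nil g)) = ((g.1.1 : Matrix ι ι F) - 1).rank := by
  rw [nil, Matrix.toLin'_apply', Matrix.rank]

theorem q_mulVec (g : ↥(Cfsg.isometryGroup F ⇑Q)) (x : ι → F) : Q ((g.1.1 : Matrix ι ι F) *ᵥ x) = Q x := g.2 x x

theorem mat_ext {g h : ↥(Cfsg.isometryGroup F ⇑Q)}
    (e : ∀ x, (g.1.1 : Matrix ι ι F) *ᵥ x = (h.1.1 : Matrix ι ι F) *ᵥ x) : g = h :=
  Subtype.ext (Units.ext (Matrix.ext_of_mulVec_single fun i => e _))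

theorem mul_mulVec (g h : ↥(Cfsg.isometryGroup F ⇑Q)) (x : ι → F) :
    ((g * h).1.1 : Matrix ι ι F) *ᵥ x = (g.1.1 : Matrix ι ι F) *ᵥ ((h.1.1 : Matrix ι ι F) *ᵥ x) := by
  rw [Subgroup.coe_mul, Units.val_mul, Matrix.mulVec_mulVec]

theorem symm_apply (g : ↥(Cfsg.isometryGroup F ⇑Q)) (x : ι → F) :
    ((toMat Q).symm g).1 x = (g.1.1 : Matrix ι ι F) *ᵥ x := by
  rw [← toMat_apply, MulEquiv.apply_symm_apply]

/-- Conjugating elements are intertwining isometries. -/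
noncomputable def interEquiv (a b : ↥(Cfsg.isometryGroup F ⇑Q)) :
    {g : ↥(Cfsg.isometryGroup F ⇑Q) // g * a = b * g} ≃ OInter Q (nil a) Q (nil b) where
  toFun g := ⟨((toMat Q).symm g.1).1, fun x => ((toMat Q).symm g.1).2 x, fun x => by
    rw [nil_apply, nil_apply, map_sub, symm_apply, symm_apply, ← mul_mulVec, g.2, mul_mulVec]⟩
  invFun φ := ⟨toMat Q ⟨φ.1, φ.2.1⟩, mat_ext fun x => by
    have h := φ.2.2 x
    rw [nil_apply, nil_apply, map_sub, sub_left_inj] at h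
    rw [mul_mulVec, mul_mulVec, toMat_apply, toMat_apply]
    exact h⟩
  left_inv g := Subtype.ext ((toMat Q).apply_symm_apply g.1)
  right_inv φ := by
    refine Subtype.ext ?_
    change ((toMat Q).symm (toMat Q ⟨φ.1, φ.2.1⟩)).1 = φ.1
    rw [MulEquiv.symm_apply_apply]

theorem isConj_iff_OInter (a b : ↥(Cfsg.isometryGroup F ⇑Q)) :
    IsConj a b ↔ Nonempty (OInter Q (nil a) Q (nil b)) := by
  rw [isConj_iff, ← (interEquiv a b).nonempty_congr, nonempty_subtype]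
  simp only [mul_inv_eq_iff_eq_mul]

variable [Fintype F] [CharP F 2]

theorem oinvol {t : ↥(Cfsg.isometryGroup F ⇑Q)} (hQ : OCount.PND Q) (ht : t ^ 2 = 1) : OInvol Q (nil t) := by
  have h2 : ∀ v, (t.1.1 : Matrix ι ι F) *ᵥ ((t.1.1 : Matrix ι ι F) *ᵥ v) = v := fun v => by
    rw [← mul_mulVec, ← pow_two, ht, Subgroup.coe_one, Units.val_one, Matrix.one_mulVec]
  have hp : ∀ x y, polar Q ((t.1.1 : Matrix ι ι F) *ᵥ x) ((t.1.1 : Matrix ι ι F) *ᵥ y) = polar Q x y := fun x y => by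
    simp only [polar, ← Matrix.mulVec_add, q_mulVec]
  refine ⟨⟨isAltND Q hQ, fun x => ?_, fun x y => ?_⟩, inv_iff.2 fun x => ?_⟩
  · rw [nil_apply, nil_apply, Matrix.mulVec_sub, h2]
    funext i
    simp only [Pi.sub_apply, Pi.zero_apply, CharTwo.sub_eq_add]
    linear_combination CharTwo.add_self_eq_zero (x i) +
      CharTwo.add_self_eq_zero (((t.1.1 : Matrix ι ι F) *ᵥ x) i)
  · rw [polarBilin_apply_apply, polarBilin_apply_apply, nil_apply, nil_apply, polar_sub_left, polar_sub_right,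
      sub_left_inj, ← hp x ((t.1.1 : Matrix ι ι F) *ᵥ y), h2]
  · rw [nil_apply, add_sub_cancel, q_mulVec]

theorem exists_elem {N : (ι → F) →ₗ[F] (ι → F)} (h : OInvol Q N) :
    ∃ t : ↥(Cfsg.isometryGroup F ⇑Q), t ^ 2 = 1 ∧ nil t = N := by
  have hinv : Function.Involutive (LinearMap.id + N : (ι → F) →ₗ[F] (ι → F)) := fun x => by
    simp only [LinearMap.add_apply, LinearMap.id_apply, map_add, h.invol.sq, add_zero, add_assoc]
    funext i
    simp only [Pi.add_apply]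
    rw [CharTwo.add_self_eq_zero, add_zero]
  obtain ⟨T, hT⟩ : ∃ T : ↥(ORefl.Iso Q), ∀ x, T.1 x = x + N x :=
    ⟨⟨LinearEquiv.ofInvolutive (LinearMap.id + N) hinv, fun x => inv_iff.1 h.inv x⟩, fun x => rfl⟩
  refine ⟨toMat Q T, mat_ext fun x => ?_, LinearMap.ext fun x => ?_⟩
  · rw [pow_two, mul_mulVec, toMat_apply, toMat_apply, hT, hT, map_add, h.invol.sq, add_zero, Subgroup.coe_one,
      Units.val_one, Matrix.one_mulVec, add_assoc]
    funext i
    simp only [Pi.add_apply]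
    rw [CharTwo.add_self_eq_zero, add_zero]
  · rw [nil_apply, toMat_apply, hT, add_sub_cancel_left]

/-- The type: totally isotropic image. -/
def Alt (g : ↥(Cfsg.isometryGroup F ⇑Q)) : Prop := ∀ v, Q (((g.1.1 : Matrix ι ι F) - 1) *ᵥ v) = 0

theorem alt_iff {t : ↥(Cfsg.isometryGroup F ⇑Q)} (hQ : OCount.PND Q) (ht : t ^ 2 = 1) :
    Alt t ↔ ∀ v, polar Q v (nil t v) = 0 := by
  rw [← (oinvol hQ ht).alt_iff]
  rfl

theorem orderOf_two_iff (t : ↥(Cfsg.isometryGroup F ⇑Q)) :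
    orderOf t = 2 ↔ t ^ 2 = 1 ∧ 0 < ((t.1.1 : Matrix ι ι F) - 1).rank := by
  haveI : Fact (Nat.Prime 2) := ⟨Nat.prime_two⟩
  constructor
  · intro h
    refine ⟨by rw [← h]; exact pow_orderOf_eq_one t, Nat.pos_of_ne_zero fun h0 => ?_⟩
    have hn : finrank F (LinearMap.range (nil t)) = 0 := by rw [finrank_nil, h0]
    rw [Submodule.finrank_eq_zero, LinearMap.range_eq_bot] at hn
    have h1 : t = 1 := mat_ext fun x => by
      rw [Subgroup.coe_one, Units.val_one, Matrix.one_mulVec]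
      exact sub_eq_zero.1 ((nil_apply t x).symm.trans (LinearMap.congr_fun hn x))
    rw [h1, orderOf_one] at h
    omega
  · rintro ⟨h, h0⟩
    refine orderOf_eq_prime h fun h1 => ?_
    rw [h1, Subgroup.coe_one, Units.val_one, sub_self, Matrix.rank_zero] at h0
    omega

theorem alt_rank_even {N : (ι → F) →ₗ[F] (ι → F)} {f : (ι → F) →ₗ[F] (ι → F) →ₗ[F] F} (h : Invol f N)
    (ha : ∀ v, f v (N v) = 0) : Even (finrank F (LinearMap.range N)) := by
  obtain ⟨D, hD1, hD2, hD3, -⟩ := exists_reduced h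
  obtain ⟨k, hk⟩ := SymplecticSemisimple.exists_even (B := (beta f N).compl₁₂ D.subtype D.subtype) _
    ⟨hD3.2 ha, hD2⟩ rfl
  exact ⟨k, by omega⟩

variable (hQ : OCount.PND Q) {m : ℕ} (hι : Fintype.card ι = 2 * m)

include hι in
theorem hdim : finrank F (ι → F) = 2 * m := by rw [finrank_fintype_fun_eq_card, hι]

include hQ hι in
theorem rank_le {t : ↥(Cfsg.isometryGroup F ⇑Q)} (ht : t ^ 2 = 1) :
    ((t.1.1 : Matrix ι ι F) - 1).rank ≤ m := by
  have := two_rank_le (oinvol hQ ht).invol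
  rw [hdim hι, finrank_nil] at this
  omega

include hQ in
theorem alt_even {t : ↥(Cfsg.isometryGroup F ⇑Q)} (ht : t ^ 2 = 1) (ha : Alt t) :
    Even ((t.1.1 : Matrix ι ι F) - 1).rank := by
  rw [← finrank_nil]
  exact alt_rank_even (oinvol hQ ht).invol ((alt_iff hQ ht).1 ha)

include hQ hι in
theorem conj_iff {a b : ↥(Cfsg.isometryGroup F ⇑Q)} (ha : a ^ 2 = 1) (hb : b ^ 2 = 1) :
    IsConj a b ↔ ((a.1.1 : Matrix ι ι F) - 1).rank = ((b.1.1 : Matrix ι ι F) - 1).rank ∧ (Alt a ↔ Alt b) := by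
  classical
  rw [isConj_iff_OInter, alt_iff hQ ha, alt_iff hQ hb, ← finrank_nil, ← finrank_nil]
  constructor
  · rintro ⟨φ⟩
    exact inter_facts (⟨φ.1, inter_nonempty_of_O φ, φ.2.2⟩ : Inter (polarBilin Q) (nil a) (polarBilin Q) (nil b))
  · rintro ⟨h1, h2⟩
    obtain ⟨φ⟩ := exists_conj (oinvol hQ ha).invol (oinvol hQ hb).invol rfl (hdim (F := F) hι) h1.symm h2.symm
    exact nonempty_OInter hQ (oinvol hQ ha) (oinvol hQ hb) φ

include hQ hι in
/-- Every possible type occurs. -/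
theorem exists_type {s : ℕ} (hs : s ≤ m) (alt : Bool) (halt : alt = true → Even s) (hna : alt = false → 0 < s)
    (hex : alt = true → s = m → arf Q = (Fintype.card F : ℤ) ^ m) :
    ∃ t : ↥(Cfsg.isometryGroup F ⇑Q), t ^ 2 = 1 ∧ ((t.1.1 : Matrix ι ι F) - 1).rank = s ∧
      (Alt t ↔ alt = true) := by
  obtain ⟨N, hN, hr, ha⟩ := exists_O_type hQ (hdim (F := F) hι) hs alt halt hna hex
  obtain ⟨t, ht, htN⟩ := exists_elem hN
  refine ⟨t, ht, ?_, ?_⟩
  · rw [← finrank_nil, htN, hr]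
  · rw [alt_iff hQ ht, htN, ha]

include hQ hι in
theorem arf_of_alt {t : ↥(Cfsg.isometryGroup F ⇑Q)} (ht : t ^ 2 = 1) (ha : Alt t)
    (hs : ((t.1.1 : Matrix ι ι F) - 1).rank = m) : arf Q = (Fintype.card F : ℤ) ^ m :=
  arf_of_alt_max hQ (hdim hι) (oinvol hQ ht) ((alt_iff hQ ht).1 ha) ((finrank_nil t).trans hs)

include hQ hι in
/-- The classes of involutions of the orthogonal group. -/
theorem card_classes (e : ℕ) (he : ∀ j, j < e ↔ 2 * j + 2 ≤ m ∧ (2 * j + 2 = m → arf Q = (Fintype.card F : ℤ) ^ m)) :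
    Nat.card {C : ConjClasses ↥(Cfsg.isometryGroup F ⇑Q) //
      ∃ g : ↥(Cfsg.isometryGroup F ⇑Q), ConjClasses.mk g = C ∧ orderOf g = 2} = m + e := by
  classical
  have hA : ∀ i : Fin m, ∃ t : ↥(Cfsg.isometryGroup F ⇑Q), t ^ 2 = 1 ∧
      ((t.1.1 : Matrix ι ι F) - 1).rank = (i : ℕ) + 1 ∧ (Alt t ↔ false = true) := fun i =>
    exists_type hQ hι (by omega) false (by simp) (fun _ => by omega) (by simp)
  have hB : ∀ j : Fin e, ∃ t : ↥(Cfsg.isometryGroup F ⇑Q), t ^ 2 = 1 ∧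
      ((t.1.1 : Matrix ι ι F) - 1).rank = 2 * (j : ℕ) + 2 ∧ (Alt t ↔ true = true) := fun j =>
    exists_type hQ hι ((he j).1 j.2).1 true (fun _ => ⟨(j : ℕ) + 1, by omega⟩) (by simp)
      (fun _ => ((he j).1 j.2).2)
  choose a ha1 ha2 ha3 using hA
  choose b hb1 hb2 hb3 using hB
  obtain ⟨r, hr⟩ : ∃ r : Fin m ⊕ Fin e → ↥(Cfsg.isometryGroup F ⇑Q), r = Sum.elim a b := ⟨_, rfl⟩
  have hrsq : ∀ i, r i ^ 2 = 1 := fun i => by rw [hr]; rcases i with i | i; exacts [ha1 i, hb1 i]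
  have hrord : ∀ i, orderOf (r i) = 2 := fun i => (orderOf_two_iff _).2 ⟨hrsq i, by
    rw [hr]; rcases i with i | i
    · change 0 < (((a i).1.1 : Matrix ι ι F) - 1).rank; rw [ha2]; omega
    · change 0 < (((b i).1.1 : Matrix ι ι F) - 1).rank; rw [hb2]; omega⟩
  have eqv : Fin m ⊕ Fin e ≃ {C : ConjClasses ↥(Cfsg.isometryGroup F ⇑Q) //
      ∃ g : ↥(Cfsg.isometryGroup F ⇑Q), ConjClasses.mk g = C ∧ orderOf g = 2} := by
    refine Equiv.ofBijective (fun i => ⟨ConjClasses.mk (r i), r i, rfl, hrord i⟩) ⟨?_, ?_⟩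
    · intro x y h
      obtain ⟨h1, h2⟩ := (conj_iff hQ hι (hrsq x) (hrsq y)).1
        (ConjClasses.mk_eq_mk_iff_isConj.1 (congrArg Subtype.val h))
      rw [hr] at h1 h2
      rcases x with x | x <;> rcases y with y | y <;>
        simp only [Sum.elim_inl, Sum.elim_inr, ha2, ha3, hb2, hb3, Bool.false_eq_true, iff_true, iff_false,
          not_true_eq_false] at h1 h2
      · exact congrArg Sum.inl (Fin.ext (by omega))
      · exact congrArg Sum.inr (Fin.ext (by omega))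
    · rintro ⟨C, g, rfl, hg⟩
      obtain ⟨hg2, hs0⟩ := (orderOf_two_iff g).1 hg
      obtain ⟨s, hs⟩ : ∃ s, ((g.1.1 : Matrix ι ι F) - 1).rank = s := ⟨_, rfl⟩
      have hsm := rank_le hQ hι hg2
      rw [hs] at hs0 hsm
      by_cases halt : Alt g
      · obtain ⟨j, hj⟩ := alt_even hQ hg2 halt
        rw [hs] at hj
        have hje : j - 1 < e := (he (j - 1)).2 ⟨by omega, fun h => arf_of_alt hQ hι hg2 halt (by omega)⟩
        refine ⟨.inr ⟨j - 1, hje⟩, Subtype.ext (ConjClasses.mk_eq_mk_iff_isConj.2 ?_)⟩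
        refine (conj_iff hQ hι (hrsq _) hg2).2 ?_
        rw [hr]
        refine ⟨?_, by simp only [Sum.elim_inr, hb3, true_iff]; exact halt⟩
        simp only [Sum.elim_inr, hb2, hs]
        omega
      · refine ⟨.inl ⟨s - 1, by omega⟩, Subtype.ext (ConjClasses.mk_eq_mk_iff_isConj.2 ?_)⟩
        refine (conj_iff hQ hι (hrsq _) hg2).2 ?_
        rw [hr]
        refine ⟨?_, by simp only [Sum.elim_inl, ha3, Bool.false_eq_true, false_iff]; exact halt⟩
        simp only [Sum.elim_inl, ha2, hs]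
        omega
  rw [← Nat.card_congr eqv, Nat.card_sum, Nat.card_fin, Nat.card_fin]

include hQ hι in
/-- Conjugacy of involutions under the symplectic group is conjugacy in the orthogonal group. -/
theorem conj_iff_preserving {t s : ↥(Cfsg.isometryGroup F ⇑Q)} (ht : orderOf t = 2) (hs : orderOf s = 2) :
    IsConj t s ↔ ∃ g ∈ Cfsg.preserving (Units.coeHom (Matrix ι ι F)) (fun u v => Q (u + v) - Q u - Q v),
      g * (t : GL ι F) * g⁻¹ = (s : GL ι F) := by
  constructor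
  · intro h
    obtain ⟨c, hc⟩ := isConj_iff.1 h
    refine ⟨c.1, fun u v => ?_, congrArg Subtype.val hc⟩
    change Q ((c.1.1 : Matrix ι ι F) *ᵥ u + (c.1.1 : Matrix ι ι F) *ᵥ v) - Q ((c.1.1 : Matrix ι ι F) *ᵥ u) -
      Q ((c.1.1 : Matrix ι ι F) *ᵥ v) = Q (u + v) - Q u - Q v
    rw [← Matrix.mulVec_add, q_mulVec, q_mulVec, q_mulVec]
  · rintro ⟨g, hg, hgs⟩
    obtain ⟨ht2, -⟩ := (orderOf_two_iff t).1 ht
    obtain ⟨hs2, -⟩ := (orderOf_two_iff s).1 hs
    rw [mul_inv_eq_iff_eq_mul] at hgs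
    have hgs' : ∀ x, (g.1 : Matrix ι ι F) *ᵥ ((t.1.1 : Matrix ι ι F) *ᵥ x) =
        (s.1.1 : Matrix ι ι F) *ᵥ ((g.1 : Matrix ι ι F) *ᵥ x) := fun x => by
      rw [Matrix.mulVec_mulVec, Matrix.mulVec_mulVec, ← Units.val_mul, ← Units.val_mul, hgs]
    obtain ⟨φ, hφ⟩ : ∃ φ : (ι → F) ≃ₗ[F] (ι → F), ∀ x, φ x = (g.1 : Matrix ι ι F) *ᵥ x :=
      ⟨LinearEquiv.ofLinear (Matrix.toLin' g.1) (Matrix.toLin' (g⁻¹).1)
        (by rw [← Matrix.toLin'_mul, ← Units.val_mul, mul_inv_cancel, Units.val_one, Matrix.toLin'_one])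
        (by rw [← Matrix.toLin'_mul, ← Units.val_mul, inv_mul_cancel, Units.val_one, Matrix.toLin'_one]),
        fun x => rfl⟩
    obtain ⟨ψ⟩ := nonempty_OInter hQ (oinvol hQ ht2) (oinvol hQ hs2)
      ⟨φ, fun x y => by rw [hφ, hφ]; exact hg x y,
        fun x => by rw [nil_apply, nil_apply, map_sub, hφ, hφ, hgs']⟩
    exact (isConj_iff_OInter t s).2 ⟨ψ⟩

/-- Generation by reflections. -/
def Gen (Q : QuadraticForm F (ι → F)) : Prop := ∀ g : ↥(Cfsg.isometryGroup F ⇑Q),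
  ∃ vs : List (ι → F), (∀ v ∈ vs, Q v ≠ 0) ∧ ∀ x, (g.1.1 : Matrix ι ι F) *ᵥ x = (prodRf Q vs).1 x

variable (hG : Gen Q)

include hQ in
theorem mem_omega_word (g : ↥(Cfsg.isometryGroup F ⇑Q)) (vs : List (ι → F)) (hvs : ∀ v ∈ vs, Q v ≠ 0)
    (hM : ∀ x, (g.1.1 : Matrix ι ι F) *ᵥ x = (prodRf Q vs).1 x) :
    g ∈ Cfsg.Omega F ⇑Q ↔ Even vs.length := by
  rw [Orth.mem_omega rfl hQ g vs hvs hM, and_iff_left (isSquare_all CharTwo.two_eq_zero _)]

include hQ hG in
theorem mem_omega_rank (g : ↥(Cfsg.isometryGroup F ⇑Q)) :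
    g ∈ Cfsg.Omega F ⇑Q ↔ Even ((g.1.1 : Matrix ι ι F) - 1).rank := by
  obtain ⟨vs, hvs, hM⟩ := hG g
  rw [mem_omega_word hQ g vs hvs hM, Orth.even_rank_mat hQ vs hvs hM]

include hQ hG in
theorem mem_mul (g h : ↥(Cfsg.isometryGroup F ⇑Q)) :
    g * h ∈ Cfsg.Omega F ⇑Q ↔ (g ∈ Cfsg.Omega F ⇑Q ↔ h ∈ Cfsg.Omega F ⇑Q) := by
  obtain ⟨vs, hvs, hM⟩ := hG g
  obtain ⟨ws, hws, hM'⟩ := hG h
  rw [mem_omega_word hQ g vs hvs hM, mem_omega_word hQ h ws hws hM',
    mem_omega_word hQ (g * h) (vs ++ ws)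
      (fun v hv => (List.mem_append.1 hv).elim (hvs v) (hws v))
      (fun x => by rw [mul_mulVec, hM', hM, prodRf_append]; rfl),
    List.length_append, Nat.even_add]

include hQ hι in
/-- Outside the exceptional type some reflection commutes with the involution. -/
theorem exists_refl {t : ↥(Cfsg.isometryGroup F ⇑Q)} (ht : t ^ 2 = 1)
    (hns : ¬ (((t.1.1 : Matrix ι ι F) - 1).rank = m ∧ Alt t)) :
    ∃ r : ↥(Cfsg.isometryGroup F ⇑Q), r * t = t * r ∧ r ∉ Cfsg.Omega F ⇑Q := by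
  obtain ⟨b, hb, hb'⟩ := exists_ker_ne hQ (hdim hι) (oinvol hQ ht)
    (fun h => hns ⟨(finrank_nil t).symm.trans h.2, (alt_iff hQ ht).2 h.1⟩)
  obtain ⟨r, hr⟩ := exists_word_mat (Q := Q) rfl [b]
  have hrx : ∀ x, (r.1.1 : Matrix ι ι F) *ᵥ x = refl Q b x := fun x => by
    rw [hr, prodRf_cons, prodRf_nil, mul_one]; rfl
  refine ⟨r, mat_ext fun x => ?_, fun hmem => ?_⟩
  · have e := refl_comm (oinvol hQ ht) hb x
    rw [nil_apply, nil_apply, map_sub, sub_left_inj] at e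
    rw [mul_mulVec, mul_mulVec, hrx, hrx, e]
  · exact Nat.not_even_one ((mem_omega_word hQ r [b] (by simp [hb']) hr).1 hmem)

include hQ hι hG in
/-- The parity of a conjugator in the exceptional type. -/
theorem mem_omega_conjugator {t s g : ↥(Cfsg.isometryGroup F ⇑Q)} (ht : t ^ 2 = 1)
    (hrk : ((t.1.1 : Matrix ι ι F) - 1).rank = m) (ha : Alt t) (hg : g * t = s * g) :
    g ∈ Cfsg.Omega F ⇑Q ↔ Even (m - finrank F ↥(LinearMap.range (nil t) ⊓ LinearMap.range (nil s))) := by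
  obtain ⟨vs, hvs, hM⟩ := hG g
  rw [mem_omega_word hQ g vs hvs hM]
  have hmap : (LinearMap.range (nil t)).map ((prodRf Q vs).1 : (ι → F) →ₗ[F] ι → F) = LinearMap.range (nil s) := by
    have e : ((prodRf Q vs).1 : (ι → F) →ₗ[F] ι → F).comp (nil t) =
        (nil s).comp ((prodRf Q vs).1 : (ι → F) →ₗ[F] ι → F) := LinearMap.ext fun x => by
      rw [LinearMap.comp_apply, LinearMap.comp_apply, LinearEquiv.coe_coe, nil_apply, nil_apply, map_sub, ← hM,
        ← hM, ← mul_mulVec, hg, mul_mulVec]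
    rw [← LinearMap.range_comp, e, LinearMap.range_comp, LinearEquiv.range, Submodule.map_top]
  have h := even_inter_iff hQ (hdim (F := F) hι) (U := LinearMap.range (nil t))
    (by rintro _ ⟨x, rfl⟩; exact ha x) ((finrank_nil t).trans hrk) vs hvs
  rw [hmap] at h
  exact h.symm

include hQ hι hG in
theorem cent_le_omega {t g : ↥(Cfsg.isometryGroup F ⇑Q)} (ht : t ^ 2 = 1)
    (hrk : ((t.1.1 : Matrix ι ι F) - 1).rank = m) (ha : Alt t) (hg : g * t = t * g) :
    g ∈ Cfsg.Omega F ⇑Q := by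
  rw [mem_omega_conjugator hQ hι hG ht hrk ha hg, inf_idem, finrank_nil, hrk, Nat.sub_self]
  exact Even.zero

include hQ hι hG in
/-- Conjugacy under `Ω` outside the exceptional type. -/
theorem conj_omega {t s : ↥(Cfsg.isometryGroup F ⇑Q)} (ht : t ^ 2 = 1) (hconj : IsConj t s)
    (hns : ¬ (((t.1.1 : Matrix ι ι F) - 1).rank = m ∧ Alt t)) :
    ∃ g ∈ Cfsg.Omega F ⇑Q, g * t * g⁻¹ = s := by
  obtain ⟨g, hg⟩ := isConj_iff.1 hconj
  by_cases hgO : g ∈ Cfsg.Omega F ⇑Q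
  · exact ⟨g, hgO, hg⟩
  obtain ⟨r, hr, hrO⟩ := exists_refl hQ hι ht hns
  refine ⟨g * r, (mem_mul hQ hG g r).2 (iff_of_false hgO hrO), ?_⟩
  rw [_root_.mul_inv_rev, mul_assoc g r t, hr, mul_assoc g (t * r), mul_assoc t r, mul_inv_cancel_left, ← mul_assoc, hg]

include hQ hι hG in
/-- Conjugacy under `Ω` in the exceptional type. -/
theorem conj_omega_iff {t s : ↥(Cfsg.isometryGroup F ⇑Q)} (ht : t ^ 2 = 1) (htO : t ∈ Cfsg.Omega F ⇑Q)
    (hconj : IsConj t s) (hrk : ((t.1.1 : Matrix ι ι F) - 1).rank = m) (ha : Alt t) :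
    (∃ g ∈ Cfsg.Omega F ⇑Q, g * t * g⁻¹ = s) ↔
      Even (finrank F ↥(LinearMap.range (nil t) ⊓ LinearMap.range (nil s))) := by
  have hm : Even m := by
    have := (mem_omega_rank hQ hG t).1 htO
    rwa [hrk] at this
  have hle : finrank F ↥(LinearMap.range (nil t) ⊓ LinearMap.range (nil s)) ≤ m :=
    ((Submodule.finrank_mono inf_le_left).trans (finrank_nil t).le).trans hrk.le
  have key : ∀ g, g * t * g⁻¹ = s → (g ∈ Cfsg.Omega F ⇑Q ↔
      Even (finrank F ↥(LinearMap.range (nil t) ⊓ LinearMap.range (nil s)))) := fun g hg => by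
    rw [mem_omega_conjugator hQ hι hG ht hrk ha (mul_inv_eq_iff_eq_mul.1 hg), Nat.even_sub hle]
    simp [hm]
  refine ⟨fun ⟨g, hgO, hg⟩ => (key g hg).1 hgO, fun he => ?_⟩
  obtain ⟨g, hg⟩ := isConj_iff.1 hconj
  exact ⟨g, (key g hg).2 he, hg⟩

/-- Elements of `Ω` commuting with an element. -/
abbrev CentOmega (x : ↥(Cfsg.isometryGroup F ⇑Q)) :=
  {g : ↥(Cfsg.Omega F ⇑Q) // (g : ↥(Cfsg.isometryGroup F ⇑Q)) * x = x * (g : ↥(Cfsg.isometryGroup F ⇑Q))}

include hQ hι hG in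
theorem card_cent_omega {t : ↥(Cfsg.isometryGroup F ⇑Q)} (ht : t ^ 2 = 1) :
    (¬ (((t.1.1 : Matrix ι ι F) - 1).rank = m ∧ Alt t) →
      Nat.card (OInter Q (nil t) Q (nil t)) = 2 * Nat.card (CentOmega t)) ∧
    (((t.1.1 : Matrix ι ι F) - 1).rank = m ∧ Alt t →
      Nat.card (OInter Q (nil t) Q (nil t)) = Nat.card (CentOmega t)) := by
  classical
  refine ⟨fun hns => ?_, fun hs => ?_⟩
  · obtain ⟨r, hr, hrO⟩ := exists_refl hQ hι ht hns
    rw [← Nat.card_congr (interEquiv t t), show 2 * Nat.card (CentOmega t) = Nat.card (Bool × CentOmega t) by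
      rw [Nat.card_prod]; simp]
    refine (Nat.card_congr (Equiv.ofBijective (fun p : Bool × CentOmega t =>
      if p.1 then (⟨r * p.2.1.1, by rw [mul_assoc, p.2.2, ← mul_assoc, hr, mul_assoc]⟩ :
          {g : ↥(Cfsg.isometryGroup F ⇑Q) // g * t = t * g})
        else ⟨p.2.1.1, p.2.2⟩) ⟨?_, ?_⟩)).symm
    · rintro ⟨b, ⟨g, hg⟩, hg'⟩ ⟨b', ⟨h, hh⟩, hh'⟩ e
      rcases b <;> rcases b' <;> simp only [if_true, if_false, Subtype.mk.injEq, Bool.false_eq_true] at e
      · subst e; rfl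
      · exact absurd ((mem_mul hQ hG r h).1 (e ▸ hg) |>.2 hh) hrO
      · exact absurd ((mem_mul hQ hG r g).1 (e ▸ hh) |>.2 hg) hrO
      · obtain rfl := mul_left_cancel e
        rfl
    · rintro ⟨g, hg⟩
      by_cases hgO : g ∈ Cfsg.Omega F ⇑Q
      · exact ⟨(false, ⟨⟨g, hgO⟩, hg⟩), rfl⟩
      · have hr' : r⁻¹ * t = t * r⁻¹ := by
          rw [inv_mul_eq_iff_eq_mul, ← mul_assoc, hr, mul_inv_cancel_right]
        have hrg : r⁻¹ * g ∈ Cfsg.Omega F ⇑Q :=
          (mem_mul hQ hG _ g).2 (iff_of_false (fun h => hrO (inv_mem_iff.1 h)) hgO)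
        exact ⟨(true, ⟨⟨r⁻¹ * g, hrg⟩, by
          change r⁻¹ * g * t = t * (r⁻¹ * g)
          rw [mul_assoc, hg, ← mul_assoc, hr', mul_assoc]⟩), Subtype.ext (mul_inv_cancel_left r g)⟩
  · rw [← Nat.card_congr (interEquiv t t)]
    exact Nat.card_congr
      { toFun := fun g => ⟨⟨g.1, cent_le_omega hQ hι hG ht hs.1 hs.2 g.2⟩, g.2⟩
        invFun := fun g => ⟨g.1.1, g.2⟩
        left_inv := fun g => rfl
        right_inv := fun g => rfl }

include hQ hι hG in
/-- The classes of involutions of `Ω`. -/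
theorem card_omega_classes (e : ℕ) (x : ℕ)
    (he : ∀ j, j < e ↔ 2 * j + 2 ≤ m ∧ (2 * j + 2 = m → arf Q = (Fintype.card F : ℤ) ^ m))
    (hx : x = if Even m ∧ 0 < m ∧ arf Q = (Fintype.card F : ℤ) ^ m then 1 else 0) :
    Nat.card {C : ConjClasses ↥(Cfsg.Omega F ⇑Q) //
      ∃ g : ↥(Cfsg.Omega F ⇑Q), ConjClasses.mk g = C ∧ orderOf g = 2} = m / 2 + e + x := by
  classical
  have hA : ∀ i : Fin (m / 2), ∃ t : ↥(Cfsg.isometryGroup F ⇑Q), t ^ 2 = 1 ∧
      ((t.1.1 : Matrix ι ι F) - 1).rank = 2 * (i : ℕ) + 2 ∧ (Alt t ↔ false = true) := fun i =>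
    exists_type hQ hι (by omega) false (by simp) (fun _ => by omega) (by simp)
  have hB : ∀ j : Fin e, ∃ t : ↥(Cfsg.isometryGroup F ⇑Q), t ^ 2 = 1 ∧
      ((t.1.1 : Matrix ι ι F) - 1).rank = 2 * (j : ℕ) + 2 ∧ (Alt t ↔ true = true) := fun j =>
    exists_type hQ hι ((he j).1 j.2).1 true (fun _ => ⟨(j : ℕ) + 1, by omega⟩) (by simp)
      (fun _ => ((he j).1 j.2).2)
  have hC : ∀ _ : Fin x, ∃ t v : ↥(Cfsg.isometryGroup F ⇑Q), t ^ 2 = 1 ∧
      ((t.1.1 : Matrix ι ι F) - 1).rank = m ∧ Alt t ∧ v ∉ Cfsg.Omega F ⇑Q := fun i => by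
    have h0 := i.2
    split_ifs at hx with hc
    swap
    · omega
    obtain ⟨t, h1, h2, h3⟩ := exists_type hQ hι (le_refl m) true (fun _ => hc.1) (by simp) (fun _ _ => hc.2.2)
    obtain ⟨v, hv⟩ := exists_nonsing' hQ (by omega)
    obtain ⟨r, hr⟩ := exists_word_mat (Q := Q) rfl [v]
    exact ⟨t, r, h1, h2, h3.2 rfl, fun hmem =>
      Nat.not_even_one ((mem_omega_word hQ r [v] (by simp [hv]) hr).1 hmem)⟩
  choose a ha1 ha2 ha3 using hA
  choose b hb1 hb2 hb3 using hB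
  choose c v hc1 hc2 hc3 hv using hC
  -- the third family is a reflected copy of the member of type `a` and rank `m`
  have hjm : ∀ i : Fin x, m / 2 - 1 < e := fun i => by
    have h0 := i.2
    split_ifs at hx with hc
    swap
    · omega
    obtain ⟨k, hk⟩ := hc.1
    exact (he _).2 ⟨by omega, fun _ => hc.2.2⟩
  have hm2 : ∀ i : Fin x, 2 * (m / 2 - 1) + 2 = m := fun i => by
    have h0 := i.2
    split_ifs at hx with hc
    swap
    · omega
    obtain ⟨k, hk⟩ := hc.1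
    omega
  obtain ⟨r, hr⟩ : ∃ r : (Fin (m / 2) ⊕ Fin e) ⊕ Fin x → ↥(Cfsg.isometryGroup F ⇑Q),
      r = Sum.elim (Sum.elim a b) fun i => v i * b ⟨m / 2 - 1, hjm i⟩ * (v i)⁻¹ := ⟨_, rfl⟩
  have hrsq : ∀ i, r i ^ 2 = 1 := fun i => by
    rw [hr]; rcases i with (i | i) | i
    · exact ha1 i
    · exact hb1 i
    · simp [conj_pow, hb1]
  obtain ⟨ty, hty⟩ : ∃ ty : (Fin (m / 2) ⊕ Fin e) ⊕ Fin x → ℕ × Bool, ty = Sum.elim
      (Sum.elim (fun i : Fin (m / 2) => (2 * (i : ℕ) + 2, false)) (fun j : Fin e => (2 * (j : ℕ) + 2, true)))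
      (fun _ => (m, true)) :=
    ⟨_, rfl⟩
  have hrty : ∀ i, ((((r i).1.1 : Matrix ι ι F) - 1).rank = (ty i).1) ∧ (Alt (r i) ↔ (ty i).2 = true) := fun i => by
    rw [hty]
    rcases i with (i | i) | i
    · rw [hr]; exact ⟨ha2 i, ha3 i⟩
    · rw [hr]; exact ⟨hb2 i, hb3 i⟩
    · have hcj : IsConj (b ⟨m / 2 - 1, hjm i⟩) (r (.inr i)) := by
        rw [hr]; exact isConj_iff.2 ⟨v i, rfl⟩
      obtain ⟨h1, h2⟩ := (conj_iff hQ hι (hb1 _) (hrsq _)).1 hcj
      refine ⟨?_, ?_⟩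
      · rw [← h1, hb2]; exact hm2 i
      · rw [← h2, hb3]; simp
  have hmemO : ∀ i, r i ∈ Cfsg.Omega F ⇑Q := fun i => by
    rw [mem_omega_rank hQ hG, (hrty i).1, hty]
    rcases i with (i | i) | i
    · exact ⟨(i : ℕ) + 1, by simp; ring⟩
    · exact ⟨(i : ℕ) + 1, by simp; ring⟩
    · exact ⟨m / 2, by have := hm2 i; simp; omega⟩
  have hpow : ∀ g : ↥(Cfsg.Omega F ⇑Q), orderOf g = 2 ↔ orderOf (g : ↥(Cfsg.isometryGroup F ⇑Q)) = 2 := fun g => by
    rw [Subgroup.orderOf_coe]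
  have hrord : ∀ i, orderOf (⟨r i, hmemO i⟩ : ↥(Cfsg.Omega F ⇑Q)) = 2 := fun i => by
    rw [hpow, orderOf_two_iff, (hrty i).1, hty]
    refine ⟨hrsq i, ?_⟩
    rcases i with (i | i) | i
    · simp
    · simp
    · have := hm2 i; simp; omega
  have eqv : (Fin (m / 2) ⊕ Fin e) ⊕ Fin x ≃ {C : ConjClasses ↥(Cfsg.Omega F ⇑Q) //
      ∃ g : ↥(Cfsg.Omega F ⇑Q), ConjClasses.mk g = C ∧ orderOf g = 2} := by
    refine Equiv.ofBijective (fun i => ⟨ConjClasses.mk ⟨r i, hmemO i⟩, ⟨r i, hmemO i⟩, rfl, hrord i⟩) ⟨?_, ?_⟩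
    · -- injectivity
      have key : ∀ (i : Fin x) (j : Fin e), (j : ℕ) = m / 2 - 1 → ¬ ∃ g ∈ Cfsg.Omega F ⇑Q,
          g * r (.inl (.inr j)) * g⁻¹ = r (.inr i) := by
        rintro i j hj ⟨g, hgO, hg⟩
        have hj' : j = ⟨m / 2 - 1, hjm i⟩ := Fin.ext hj
        subst hj'
        rw [hr] at hg
        simp only [Sum.elim_inl, Sum.elim_inr] at hg
        have hcent : ((v i)⁻¹ * g) * b ⟨m / 2 - 1, hjm i⟩ = b ⟨m / 2 - 1, hjm i⟩ * ((v i)⁻¹ * g) := by
          rw [mul_inv_eq_iff_eq_mul] at hg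
          rw [mul_assoc, hg]
          group
        have := cent_le_omega hQ hι hG (hb1 _) ((hb2 _).trans (hm2 i)) ((hb3 _).2 rfl) hcent
        exact hv i (inv_mem_iff.1 (((mem_mul hQ hG _ g).1 this).2 hgO))
      intro p p' h
      have hcj := ConjClasses.mk_eq_mk_iff_isConj.1 (congrArg Subtype.val h)
      obtain ⟨g, hg⟩ := isConj_iff.1 hcj
      have hg' : (g : ↥(Cfsg.isometryGroup F ⇑Q)) * r p * (g : ↥(Cfsg.isometryGroup F ⇑Q))⁻¹ = r p' :=
        congrArg Subtype.val hg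
      obtain ⟨h1, h2⟩ := (conj_iff hQ hι (hrsq p) (hrsq p')).1 (isConj_iff.2 ⟨_, hg'⟩)
      rw [(hrty p).1, (hrty p').1] at h1
      rw [(hrty p).2, (hrty p').2] at h2
      rw [hty] at h1 h2
      rcases p with (p | p) | p <;> rcases p' with (p' | p') | p' <;>
        simp only [Sum.elim_inl, Sum.elim_inr, Bool.false_eq_true, iff_true, iff_false, not_true_eq_false] at h1 h2
      · exact congrArg (Sum.inl ∘ Sum.inl) (Fin.ext (by omega))
      · exact congrArg (Sum.inl ∘ Sum.inr) (Fin.ext (by omega))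
      · exact (key p' p (by have := hm2 p'; omega) ⟨_, g.2, hg'⟩).elim
      · refine (key p p' (by have := hm2 p; omega) ⟨_, inv_mem g.2, ?_⟩).elim
        rw [← hg']
        group
      · exact congrArg Sum.inr (Fin.ext (by have := p.2; have := p'.2; split_ifs at hx <;> omega))
    · -- surjectivity
      rintro ⟨C, g, rfl, hg⟩
      obtain ⟨hg2, hs0⟩ := (orderOf_two_iff g.1).1 ((hpow g).1 hg)
      obtain ⟨k, hk⟩ := (mem_omega_rank hQ hG g.1).1 g.2
      have hsm := rank_le hQ hι hg2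
      rw [hk] at hs0 hsm
      have main : ∀ p, (ty p).1 = k + k → ((ty p).2 = true ↔ Alt g.1) →
          (∃ h ∈ Cfsg.Omega F ⇑Q, h * r p * h⁻¹ = g.1) →
          ∃ i, (⟨ConjClasses.mk (⟨r i, hmemO i⟩ : ↥(Cfsg.Omega F ⇑Q)), ⟨r i, hmemO i⟩, rfl, hrord i⟩ :
            {C : ConjClasses ↥(Cfsg.Omega F ⇑Q) // ∃ g : ↥(Cfsg.Omega F ⇑Q), ConjClasses.mk g = C ∧ orderOf g = 2}) =
            ⟨ConjClasses.mk g, g, rfl, hg⟩ := fun p _ _ ⟨h, hhO, hh⟩ =>
        ⟨p, Subtype.ext (ConjClasses.mk_eq_mk_iff_isConj.2 (isConj_iff.2 ⟨⟨h, hhO⟩, Subtype.ext hh⟩))⟩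
      have conjO : ∀ p, (ty p).1 = k + k → ((ty p).2 = true ↔ Alt g.1) → IsConj (r p) g.1 := fun p e1 e2 =>
        (conj_iff hQ hι (hrsq p) hg2).2 ⟨by rw [(hrty p).1, e1, hk], (hrty p).2.trans e2⟩
      by_cases halt : Alt g.1
      · have hje : k - 1 < e := (he (k - 1)).2 ⟨by omega, fun h => arf_of_alt hQ hι hg2 halt (by omega)⟩
        have e1 : (ty (.inl (.inr ⟨k - 1, hje⟩))).1 = k + k := by rw [hty]; simp; omega
        have e2 : (ty (.inl (.inr ⟨k - 1, hje⟩))).2 = true ↔ Alt g.1 := by rw [hty]; simpa using halt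
        by_cases hspl : k + k = m
        · have hx1 : 0 < x := by
            rw [hx, if_pos ⟨⟨k, hspl.symm⟩, by omega, arf_of_alt hQ hι hg2 halt (hk.trans hspl)⟩]; exact one_pos
          obtain ⟨h, hh⟩ := isConj_iff.1 (conjO _ e1 e2)
          by_cases hhO : h ∈ Cfsg.Omega F ⇑Q
          · exact main _ e1 e2 ⟨h, hhO, hh⟩
          · refine main (.inr ⟨0, hx1⟩) (by rw [hty]; simp; omega) (by rw [hty]; simpa using halt)
              ⟨h * (v ⟨0, hx1⟩)⁻¹, (mem_mul hQ hG _ _).2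
                (iff_of_false hhO fun hmem => hv _ (inv_mem_iff.1 hmem)), ?_⟩
            have hkj : (⟨m / 2 - 1, hjm ⟨0, hx1⟩⟩ : Fin e) = ⟨k - 1, hje⟩ := Fin.ext (by simp; omega)
            rw [hr] at hh ⊢
            simp only [Sum.elim_inl, Sum.elim_inr, hkj] at hh ⊢
            rw [← hh]
            group
        · exact main _ e1 e2 (conj_omega hQ hι hG (hrsq _) (conjO _ e1 e2)
            (fun hh => hspl (((hrty _).1.trans e1).symm.trans hh.1)))
      · have hkm : k - 1 < m / 2 := by omega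
        have e1 : (ty (.inl (.inl ⟨k - 1, hkm⟩))).1 = k + k := by rw [hty]; simp; omega
        have e2 : (ty (.inl (.inl ⟨k - 1, hkm⟩))).2 = true ↔ Alt g.1 := by rw [hty]; simpa using halt
        exact main _ e1 e2 (conj_omega hQ hι hG (hrsq _) (conjO _ e1 e2)
          (fun hh => halt (e2.1 ((hrty _).2.1 hh.2))))
  rw [← Nat.card_congr eqv, Nat.card_sum, Nat.card_sum, Nat.card_fin, Nat.card_fin, Nat.card_fin]

section Orders

include hQ hι hG in
theorem cent_omega_nonalt {x : ↥(Cfsg.isometryGroup F ⇑Q)} (hx : x ^ 2 = 1) {s : ℕ}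
    (hs : ((x.1.1 : Matrix ι ι F) - 1).rank = s) (hna : ¬ Alt x) :
    ∃ O, Nat.card (CentOmega x) * Fintype.card F ^ (2 * m - s) =
      Fintype.card F ^ (2 * m * s - (3 * s ^ 2 - s) / 2) * O * sp (Fintype.card F) (m - s) ∧
      (Odd s → O = sp (Fintype.card F) ((s - 1) / 2)) ∧
      (Even s → O = Fintype.card F ^ (s - 1) * sp (Fintype.card F) ((s - 2) / 2)) := by
  have h := oinvol hQ hx
  obtain ⟨O, hO, -, o2, o3⟩ := card_cent h.invol (hdim (F := F) hι) ((finrank_nil x).trans hs)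
  have hna' : ¬ ∀ v, polar Q v (nil x v) = 0 := fun e => hna ((alt_iff hQ hx).2 e)
  refine ⟨O, ?_, o2, fun he => o3 he hna'⟩
  rw [← hO, card_inter_eq hQ h, (card_cent_omega hQ hι hG hx).1 fun e => hna e.2]
  have hA := two_card_kerWp Q (nil x)
  rw [kerSum_nonalt h hna', hdim hι, finrank_nil, hs, add_zero] at hA
  rw [show Fintype.card F ^ (2 * m - s) = 2 * Nat.card (KerWp Q (nil x)) by exact_mod_cast hA.symm]
  ring

include hQ hι hG in
theorem cent_omega_alt {x : ↥(Cfsg.isometryGroup F ⇑Q)} (hx : x ^ 2 = 1) {s : ℕ}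
    (hs : ((x.1.1 : Matrix ι ι F) - 1).rank = s) (ha : Alt x) (harf : arf Q = (Fintype.card F : ℤ) ^ m) :
    Nat.card (CentOmega x) * (Fintype.card F ^ m * (if s = m then 1 else Fintype.card F ^ (m - s) + 1)) =
      Fintype.card F ^ (2 * m * s - (3 * s ^ 2 - s) / 2) * sp (Fintype.card F) (s / 2) *
        sp (Fintype.card F) (m - s) := by
  have h := oinvol hQ hx
  obtain ⟨O, hO, o1, -, -⟩ := card_cent h.invol (hdim (F := F) hι) ((finrank_nil x).trans hs)
  rw [o1 ((alt_iff hQ hx).1 ha)] at hO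
  rw [← hO, card_inter_eq hQ h]
  have hsm : s ≤ m := hs ▸ rank_le hQ hι hx
  have hA := two_card_kerWp Q (nil x)
  rw [kerSum_alt h ((alt_iff hQ hx).1 ha), harf, hdim hι, finrank_nil, hs] at hA
  have hA' : 2 * Nat.card (KerWp Q (nil x)) = Fintype.card F ^ (2 * m - s) + Fintype.card F ^ m := by
    exact_mod_cast hA
  have hsplit : Fintype.card F ^ (2 * m - s) = Fintype.card F ^ m * Fintype.card F ^ (m - s) := by
    rw [← pow_add]; congr 1; omega
  rw [hsplit] at hA'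
  split_ifs with hm'
  · subst hm'
    rw [Nat.sub_self, pow_zero, mul_one] at hA'
    rw [(card_cent_omega hQ hι hG hx).2 ⟨hs, ha⟩, mul_one,
      show Nat.card (KerWp Q (nil x)) = Fintype.card F ^ s by omega]
  · rw [(card_cent_omega hQ hι hG hx).1 fun e => hm' (hs.symm.trans e.1),
      show Fintype.card F ^ m * (Fintype.card F ^ (m - s) + 1) = 2 * Nat.card (KerWp Q (nil x)) by
        rw [hA']; ring]
    ring

end Orders

/-- Generation, away from the plus type in dimension four over two elements. -/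
theorem gen (hQ : OCount.PND Q) (h : Nat.card F ≠ 2 ∨ Fintype.card ι ≠ 4) : Gen Q :=
  fun g => exists_list_mat rfl hQ h g

/-- Generation when there is no totally singular plane. -/
theorem gen_of_anisotropic (hQ : OCount.PND Q)
    (hno : ∀ e v : ι → F, Q e = 0 → Q v = 0 → polar Q e v = 0 → e ≠ 0 → ∃ c : F, v = c • e) : Gen Q := by
  have hgen : ∀ g ∈ ORefl.Iso Q, g ∈ reflGroup Q :=
    mem_of_refl_siegel hQ (reflGroup Q) (fun _ => refl_mem_reflGroup) fun e v he hv hQv => by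
      have h1 : siegel he hv = 1 := LinearEquiv.ext fun x => by
        rw [siegel_apply, LinearEquiv.coe_one, id, hQv]
        by_cases he0 : e = 0
        · subst he0; simp
        · obtain ⟨c, rfl⟩ := hno e v he hQv hv he0
          rw [polar_smul_left, smul_eq_mul]; module
      rw [h1]; exact one_mem _
  suffices H : ∀ y ∈ reflGroup Q, ∀ hy : y ∈ ORefl.Iso Q,
      ∃ vs : List (ι → F), (∀ v ∈ vs, Q v ≠ 0) ∧ prodRf Q vs = ⟨y, hy⟩ by
    intro g
    obtain ⟨vs, hvs, hp⟩ := H _ (hgen _ ((toMat Q).symm g).2) ((toMat Q).symm g).2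
    exact ⟨vs, hvs, fun x => by rw [hp]; exact (symm_apply g x).symm⟩
  intro y hy
  induction hy using Subgroup.closure_induction_left with
  | one => exact fun _ => ⟨[], by simp, rfl⟩
  | mul_left z hz y hy ih =>
    obtain ⟨v, hv, rfl⟩ := hz
    intro h'
    have hyI : y ∈ ORefl.Iso Q := (Subgroup.mul_mem_cancel_left _ (refl_mem v)).1 h'
    obtain ⟨vs, hvs, hp⟩ := ih hyI
    exact ⟨v :: vs, by simpa using ⟨hv, hvs⟩, by rw [prodRf_cons, hp]; rfl⟩
  | inv_mul_cancel z hz y hy ih =>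
    obtain ⟨v, hv, rfl⟩ := hz
    intro h'
    have hyI : y ∈ ORefl.Iso Q := (Subgroup.mul_mem_cancel_left _ (inv_mem (refl_mem v))).1 h'
    obtain ⟨vs, hvs, hp⟩ := ih hyI
    refine ⟨v :: vs, by simpa using ⟨hv, hvs⟩, ?_⟩
    rw [prodRf_cons, hp]
    exact Subtype.ext (show refl Q v * y = (refl Q v)⁻¹ * y by rw [refl_inv])

section Plus

theorem arf_plus (n : ℕ) : arf (qPlus F n) = (Fintype.card F : ℤ) ^ n :=
  arf_of_ts _ (qPlus_pnd F n) (by simp [Module.finrank_fintype_fun_eq_card]; omega) (zeroRight F n)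
    (zeroRight_singular F) (finrank_zeroRight F n)

end Plus

section Minus

variable {k : ℕ} {a b : F} (hab : ∀ z₁ z₂ : F, z₁ ^ 2 + a * z₁ * z₂ + b * z₂ ^ 2 = 0 → z₁ = 0 ∧ z₂ = 0)

/-- The minus form as a quadratic form. -/
noncomputable abbrev qMinus (F : Type*) [Field F] [Fintype F] (k : ℕ) (a b : F) :
    QuadraticForm F ((Fin k ⊕ Fin k) ⊕ Fin 2 → F) :=
  formOf k (Equiv.refl ((Fin k ⊕ Fin k) ⊕ Fin 2)) (OCount.planeForm a b)

include hab in
theorem qMinus_pnd : OCount.PND (qMinus F k a b) := formOf_pnd (pnd_plane hab)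

include hab in
theorem minus_ts_le {W : Submodule F ((Fin k ⊕ Fin k) ⊕ Fin 2 → F)} (hW : ∀ w ∈ W, qMinus F k a b w = 0) :
    finrank F W ≤ k := by
  classical
  obtain ⟨E, hE⟩ : ∃ E : (Fin k → F) →ₗ[F] ((Fin k ⊕ Fin k) ⊕ Fin 2 → F),
      ∀ x, E x = Sum.elim (Sum.elim x 0) 0 :=
    ⟨(LinearEquiv.sumArrowLequivProdArrow _ _ F F).symm.toLinearMap.comp
      ((LinearMap.inl F _ _).comp ((LinearEquiv.sumArrowLequivProdArrow _ _ F F).symm.toLinearMap.comp
        (LinearMap.inl F _ _))), fun x => by funext i; rcases i with (i | i) | i <;> simp⟩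
  have hinj : Function.Injective E := fun x y h => funext fun i => by
    rw [hE, hE] at h
    exact congrFun h (.inl (.inl i))
  have hq : ∀ w, qMinus F k a b w = Cfsg.quadFormMinus k F a b w := fun w => congrFun (coe_minus k a b) w
  have hUs : ∀ u ∈ LinearMap.range E, qMinus F k a b u = 0 := by
    rintro _ ⟨x, rfl⟩
    rw [hq, hE]
    simp [Cfsg.quadFormMinus]
  have hmax : ∀ W' : Submodule F ((Fin k ⊕ Fin k) ⊕ Fin 2 → F), LinearMap.range E ≤ W' →
      (∀ w ∈ W', qMinus F k a b w = 0) → W' = LinearMap.range E := by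
    intro W' hle hW'
    refine le_antisymm (fun w hw => ?_) hle
    have hy : ∀ i, w (.inl (.inr i)) = 0 := fun i => by
      have h0 : polar (qMinus F k a b) (E (Pi.single i 1)) w = 0 := by
        rw [polar, hW' _ (add_mem (hle (LinearMap.mem_range_self E _)) hw), hW' _ hw,
          hUs _ (LinearMap.mem_range_self E _)]
        ring
      rw [polar, hq, hq, hq, hE] at h0
      simpa [Cfsg.quadFormMinus, add_mul, Finset.sum_add_distrib, Pi.single_apply] using h0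
    have hz := hW' w hw
    rw [hq] at hz
    simp [Cfsg.quadFormMinus, hy] at hz
    obtain ⟨h0, h1⟩ := hab _ _ hz
    refine ⟨fun i => w (.inl (.inl i)), ?_⟩
    rw [hE]
    funext i
    rcases i with (i | i) | i
    · rfl
    · simp [hy]
    · fin_cases i <;> simp [h0, h1]
  have h := Witt.finrank_eq_of_maximal (qMinus F k a b) (ORefl.nondeg (qMinus_pnd hab)) hUs hW hmax
  rwa [LinearMap.finrank_range_of_inj hinj, finrank_fintype_fun_eq_card, Fintype.card_fin] at h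

include hab in
theorem arf_minus : arf (qMinus F k a b) = -(Fintype.card F : ℤ) ^ (k + 1) := by
  classical
  have hd : finrank F ((Fin k ⊕ Fin k) ⊕ Fin 2 → F) = 2 * (k + 1) := by
    simp [Module.finrank_fintype_fun_eq_card]; ring
  refine (arf_eq_or _ (qMinus_pnd hab) hd).resolve_left fun h => ?_
  obtain ⟨fam⟩ := exists_fam (k + 1) (isAltND _ (qMinus_pnd (k := k) hab)) hd
  obtain ⟨L, hLdef⟩ : ∃ L, L = (famBasis (isAltND _ (qMinus_pnd (k := k) hab)) hd fam).equivFun.symm := ⟨_, rfl⟩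
  have hL : ∀ x y, polar (qMinus F k a b) (L x) (L y) = polar (qPlus F (k + 1)) x y := by
    have e : (polarBilin (qMinus F k a b)).compl₁₂ (L : _ →ₗ[F] _) (L : _ →ₗ[F] _) =
        polarBilin (qPlus F (k + 1)) := by
      refine LinearMap.ext_basis (Pi.basisFun F _) (Pi.basisFun F _) fun i j => ?_
      rw [LinearMap.compl₁₂_apply, Pi.basisFun_apply, Pi.basisFun_apply, LinearEquiv.coe_coe]
      have hfam := fam.2 i j
      rw [hLdef]
      simp only [Module.Basis.equivFun_symm_apply, famBasis, Basis.mk_apply, Pi.single_apply, ite_smul, one_smul,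
        zero_smul, Finset.sum_ite_eq', Finset.mem_univ, if_true]
      rw [hfam, polarBilin_apply_apply, polar, coe_plus]
      rcases i with i | i <;> rcases j with j | j <;> by_cases hij : i = j <;>
        simp [Cfsg.quadFormPlus, SpCount.J_apply, add_mul, mul_add, Finset.sum_add_distrib, Pi.single_apply, hij, Ne.symm,
          CharTwo.neg_eq, eq_comm (a := j)]
    exact fun x y => LinearMap.congr_fun (LinearMap.congr_fun e x) y
  have hsum : ∑ x, psi (qMinus F k a b (L x)) = arf (qPlus F (k + 1)) := by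
    rw [arf_plus, ← h]
    exact Equiv.sum_comp L.toEquiv fun x => psi (qMinus F k a b x)
  obtain ⟨T, -, hT⟩ := exists_iso (qPlus F (k + 1)) (qPlus_pnd F _) (fun x => qMinus F k a b (L x))
    (fun x y => by rw [map_add, q_add (qMinus F k a b), hL]) (fun c x => by rw [map_smul, q_smul (qMinus F k a b)])
    hsum
  have hts : ∀ w ∈ (zeroRight F (k + 1)).map ((T.symm.trans L : _ ≃ₗ[F] _) : _ →ₗ[F] _),
      qMinus F k a b w = 0 := by
    rintro _ ⟨z, hz, rfl⟩
    rw [LinearEquiv.coe_coe, LinearEquiv.trans_apply, ← hT, T.apply_symm_apply]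
    exact zeroRight_singular F z hz
  have := minus_ts_le hab hts
  rw [LinearEquiv.finrank_map_eq, finrank_zeroRight] at this
  omega

include hab in
theorem gen_minus : Gen (qMinus F k a b) := by
  by_cases hk : k = 1
  · subst hk
    refine gen_of_anisotropic (qMinus_pnd hab) fun e v he hv hev he0 => ?_
    by_contra! hc
    have hli : LinearIndependent F ![e, v] := (LinearIndependent.pair_iff' he0).2 fun c h => hc c h.symm
    have := minus_ts_le hab (W := Submodule.span F (Set.range ![e, v])) fun w hw => by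
      obtain ⟨c, hc'⟩ := (Submodule.mem_span_range_iff_exists_fun F).1 hw
      rw [← hc', Fin.sum_univ_two, q_add (qMinus F 1 a b), q_smul (qMinus F 1 a b), q_smul (qMinus F 1 a b),
        polar_smul_left, polar_smul_right]
      simp [he, hv, hev]
    rw [finrank_span_eq_card hli, Fintype.card_fin] at this
    omega
  · exact gen (qMinus_pnd hab) (Or.inr (by simp; omega))

end Minus

end Cfsg.Agent.Small.OInvolMatrix
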