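import Mathlib

/-!
Groups `⟨X⟩ ∪ ⟨X⟩Y` with a cyclic subgroup of index two: embeddings from relations.
-/

set_option autoImplicit false

namespace Cfsg.Agent.Small.IndexTwo

/-- The relations. -/
structure Rel {S : Type*} [Group S] (X Y : S) (m : ℕ) (c r : ℤ) : Prop where
  ord : orderOf X = m
  notMem : ∀ i : ℤ, Y ≠ X ^ i
  sq : Y * Y = X ^ c
  conj : Y * X * Y⁻¹ = X ^ r

variable {S : Type*} [Group S] {G : Type*} [Group G] {X Y : S} {x y : G} {m : ℕ} {c r : ℤ}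

theorem Rel.mul_rule (h : Rel X Y m c r) (i j : ℤ) :
    (X ^ i * X ^ j = X ^ (i + j)) ∧ (X ^ i * (X ^ j * Y) = X ^ (i + j) * Y) ∧
    (X ^ i * Y * X ^ j = X ^ (i + r * j) * Y) ∧ (X ^ i * Y * (X ^ j * Y) = X ^ (i + r * j + c)) := by
  have hc : Y * X ^ j * Y⁻¹ = X ^ (r * j) := by rw [← conj_zpow, h.conj, ← zpow_mul]
  have hc' : Y * X ^ j = X ^ (r * j) * Y := by rw [← hc, inv_mul_cancel_right]
  refine ⟨(zpow_add _ _ _).symm, by rw [← mul_assoc, ← zpow_add], ?_, ?_⟩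
  · rw [mul_assoc, hc', ← mul_assoc, ← zpow_add]
  · rw [show X ^ i * Y * (X ^ j * Y) = X ^ i * (Y * X ^ j) * Y by group, hc', zpow_add, zpow_add, ← h.sq]
    group

theorem Rel.zpow_iff (h : Rel X Y m c r) (i j : ℤ) : X ^ i = X ^ j ↔ i ≡ j [ZMOD m] := by
  rw [zpow_eq_zpow_iff_modEq, h.ord]

theorem Rel.not_mem (h : Rel X Y m c r) (i : ℤ) : X ^ i * Y ∉ Subgroup.zpowers X := fun hm => by
  obtain ⟨j, hj⟩ := Subgroup.mem_zpowers_iff.1 hm
  exact h.notMem (-i + j) (by rw [zpow_add, hj, zpow_neg, inv_mul_cancel_left])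

theorem exists_form [Finite S] (h : Rel X Y m c r) (hcard : Nat.card S = 2 * m) (s : S) :
    ∃ i : ℤ, s = X ^ i ∨ s = X ^ i * Y := by
  have hidx : (Subgroup.zpowers X).index = 2 := by
    have h1 := (Subgroup.zpowers X).card_mul_index
    rw [Nat.card_zpowers, h.ord, hcard, mul_comm 2 m] at h1
    have hm : 0 < m := h.ord ▸ orderOf_pos X
    exact Nat.eq_of_mul_eq_mul_left hm h1
  by_cases hs : s ∈ Subgroup.zpowers X
  · obtain ⟨i, hi⟩ := Subgroup.mem_zpowers_iff.1 hs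
    exact ⟨i, Or.inl hi.symm⟩
  · have hY : Y⁻¹ ∉ Subgroup.zpowers X := fun hm => by
      obtain ⟨i, hi⟩ := Subgroup.mem_zpowers_iff.1 hm
      exact h.notMem (-i) (by rw [zpow_neg, hi, inv_inv])
    have : s * Y⁻¹ ∈ Subgroup.zpowers X := (Subgroup.mul_mem_iff_of_index_two hidx).2 (iff_of_false hs hY)
    obtain ⟨i, hi⟩ := Subgroup.mem_zpowers_iff.1 this
    exact ⟨i, Or.inr (by rw [hi, inv_mul_cancel_right])⟩

theorem exists_hom [Finite S] (h : Rel X Y m c r) (hcard : Nat.card S = 2 * m) (h' : Rel x y m c r) :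
    ∃ f : S →* G, Function.Injective f ∧ f X = x ∧ f Y = y := by
  classical
  choose i hi using exists_form h hcard
  let f : S → G := fun s => if s = X ^ i s then x ^ i s else x ^ i s * y
  have hX : ∀ a : ℤ, f (X ^ a) = x ^ a := by
    intro a
    rcases hi (X ^ a) with e | e
    · simp only [f, if_pos e]
      exact (h'.zpow_iff _ _).2 ((h.zpow_iff _ _).1 e.symm)
    · exact absurd ⟨a, e⟩ (h.not_mem _)
  have hY : ∀ a : ℤ, f (X ^ a * Y) = x ^ a * y := by
    intro a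
    rcases hi (X ^ a * Y) with e | e
    · exact absurd ⟨_, e.symm⟩ (h.not_mem _)
    · have hne : ¬ X ^ a * Y = X ^ i (X ^ a * Y) := fun e' => h.not_mem a ⟨_, e'.symm⟩
      simp only [f, if_neg hne]
      congr 1
      exact (h'.zpow_iff _ _).2 ((h.zpow_iff _ _).1 (mul_right_cancel e.symm))
  have hmul : ∀ s t, f (s * t) = f s * f t := by
    intro s t
    obtain ⟨a, ha⟩ := exists_form h hcard s
    obtain ⟨b, hb⟩ := exists_form h hcard t
    obtain ⟨r1, r2, r3, r4⟩ := h.mul_rule a b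
    obtain ⟨q1, q2, q3, q4⟩ := h'.mul_rule a b
    rcases ha with rfl | rfl <;> rcases hb with rfl | rfl
    · rw [r1, hX, hX, hX, q1]
    · rw [r2, hY, hX, hY, q2]
    · rw [r3, hY, hY, hX, q3]
    · rw [r4, hX, hY, hY, q4]
  refine ⟨MonoidHom.mk' f hmul, (injective_iff_map_eq_one _).2 fun s hs => ?_, ?_, ?_⟩
  · obtain ⟨a, rfl | rfl⟩ := exists_form h hcard s
    · rw [MonoidHom.mk'_apply, hX, ← zpow_zero x] at hs
      rw [← zpow_zero X]
      exact (h.zpow_iff _ _).2 ((h'.zpow_iff _ _).1 hs)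
    · rw [MonoidHom.mk'_apply, hY] at hs
      exact absurd (hs ▸ one_mem _) (h'.not_mem a)
  · simpa using hX 1
  · simpa using hY 0

end Cfsg.Agent.Small.IndexTwo
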