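import Mathlib

/-!
`GL₂(q)` for a prime `q ≡ 2 ^ (n - 1) - 1 (mod 2 ^ n)`: a semidihedral Sylow `2`-subgroup and the fusion of its
elements of order four.
-/

set_option autoImplicit false

namespace Cfsg.Agent.Small.SDModel

open Matrix

variable {q : ℕ} [hq : Fact q.Prime]

/-- The model. -/
structure Model (n : ℕ) (G : Type) [Group G] where
  x : G
  y : G
  G₁ : Subgroup G
  ox : orderOf x = 2 ^ n
  yy : y * y = 1
  yx : y * x * y⁻¹ = x ^ (2 ^ (n - 1) - 1)
  yne : ∀ i : ℤ, y ≠ x ^ i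
  zcen : ∀ g : G, g * x ^ 2 ^ (n - 1) = x ^ 2 ^ (n - 1) * g
  fac : (Nat.card G).factorization 2 = n + 1
  norm₁ : G₁.Normal
  index₁ : G₁.index = 2
  xmem : x ∉ G₁
  ymem : y ∉ G₁
  fused : ∀ j : ℕ, Odd j → ∃ g ∈ G₁,
    g * x ^ 2 ^ (n - 2) * g⁻¹ = x ^ j * y ∨ g * x ^ 2 ^ (n - 2) * g⁻¹ = (x ^ j * y)⁻¹

/-- The embedding matrix of `c + d ι`. -/
def mat (c d : ZMod q) : Matrix (Fin 2) (Fin 2) (ZMod q) := !![c, -d; d, c]

theorem mat_mul (a b c d : ZMod q) : mat a b * mat c d = mat (a * c - b * d) (a * d + b * c) := by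
  ext i j; fin_cases i <;> fin_cases j <;>
    simp [mat, Matrix.mul_apply, Fin.sum_univ_two] <;> ring

theorem mat_one : mat (1 : ZMod q) 0 = 1 := by
  ext i j; fin_cases i <;> fin_cases j <;> simp [mat]

set_option maxHeartbeats 2000000 in
theorem exists_model {n : ℕ} (hn : 3 ≤ n) : ∃ (G : Type) (_ : Group G) (_ : Finite G), Nonempty (Model n G) := by
  classical
  obtain ⟨h, hh⟩ : ∃ h, h = 2 ^ (n - 1) := ⟨_, rfl⟩
  have hh2 : 2 * h = 2 ^ n := by rw [hh, ← pow_succ', Nat.sub_add_cancel (by omega)]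
  have hh4 : h = 2 * 2 ^ (n - 2) := by rw [hh, ← pow_succ']; congr 1; omega
  have hk2 : 2 ≤ 2 ^ (n - 2) := Nat.le_self_pow (by omega) 2
  obtain ⟨q, -, hq, hmod⟩ := Nat.forall_exists_prime_gt_and_modEq 0 (q := 2 ^ n) (a := h - 1)
    (pow_ne_zero _ two_ne_zero) (Nat.Coprime.pow_right n (Nat.coprime_two_right.2 ⟨2 ^ (n - 2) - 1, by omega⟩))
  haveI := Fact.mk hq
  obtain ⟨r, hr⟩ : ∃ r, q + 1 = h * (2 * r + 1) := by
    refine ⟨q / 2 ^ n, ?_⟩
    have h1 : q % 2 ^ n = h - 1 := by rw [hmod, Nat.mod_eq_of_lt (by omega)]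
    have h2 := Nat.div_add_mod q (2 ^ n)
    rw [h1] at h2
    nlinarith [h2, hh2, show h - 1 + 1 = h by omega]
  have hq4 : q % 4 = 3 := by
    obtain ⟨e, he⟩ : 4 ∣ q + 1 := ⟨2 ^ (n - 3) * (2 * r + 1), by
      rw [hr, hh, ← mul_assoc, show (4 : ℕ) = 2 ^ 2 by norm_num, ← pow_add]; congr 2; omega⟩
    omega
  -- the field of `q ^ 2` elements
  let K := GaloisField q 2
  haveI : Fintype K := Fintype.ofFinite K
  have hK : Nat.card K = q ^ 2 := GaloisField.card q 2 two_ne_zero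
  have hKu : Nat.card Kˣ = (q - 1) * (q + 1) := by
    rw [Nat.card_units, hK, sq]
    exact ((Nat.mul_self_sub_mul_self_eq q 1).trans (mul_comm _ _))
  have hdvd : 2 ^ n ∣ Nat.card Kˣ := by
    obtain ⟨e, he⟩ : 2 ∣ q - 1 := by omega
    exact ⟨e * (2 * r + 1), by rw [hKu, he, hr, ← hh2]; ring⟩
  obtain ⟨ξ, hξ⟩ : ∃ ξ : Kˣ, orderOf ξ = 2 ^ n :=
    IsCyclic.exists_ofOrder_eq_natCard (α := Kˣ) |>.elim fun g hg => ⟨g ^ (Nat.card Kˣ / 2 ^ n), by
      rw [orderOf_pow' g (Nat.div_pos (Nat.le_of_dvd Nat.card_pos hdvd) (pow_pos two_pos n)).ne', hg,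
        Nat.gcd_eq_right (Nat.div_dvd_of_dvd hdvd), Nat.div_div_self hdvd Nat.card_pos.ne']⟩
  have hξh : ((ξ : K)) ^ h = -1 := by
    have h1 : ((ξ : K) ^ h) * ((ξ : K) ^ h) = 1 := by
      rw [← pow_add, ← two_mul, hh2, ← Units.val_pow_eq_pow_val, ← hξ, pow_orderOf_eq_one, Units.val_one]
    rcases mul_self_eq_one_iff.1 h1 with h2 | h2
    · exfalso
      rw [← Units.val_pow_eq_pow_val, Units.val_eq_one] at h2
      have := Nat.le_of_dvd (by omega) (hξ ▸ orderOf_dvd_of_pow_eq_one h2)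
      omega
    · exact h2
  obtain ⟨ι, hι⟩ : ∃ ι : K, ι = (ξ : K) ^ 2 ^ (n - 2) := ⟨_, rfl⟩
  have hι2 : ι * ι = -1 := by rw [hι, ← pow_add, ← two_mul, ← hh4, hξh]
  let emb : ZMod q × ZMod q → K := fun v => algebraMap (ZMod q) K v.1 + algebraMap (ZMod q) K v.2 * ι
  have hnosq : ∀ c : ZMod q, c * c ≠ -1 := fun c hc =>
    absurd (ZMod.exists_sq_eq_neg_one_iff.1 ⟨c, hc.symm⟩) (by omega)
  have hembinj : Function.Injective emb := by
    rintro ⟨a, b⟩ ⟨c, d⟩ heq
    simp only [emb] at heq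
    by_cases hbd : b = d
    · subst hbd
      simp only [add_left_inj] at heq
      rw [(algebraMap (ZMod q) K).injective heq]
    · exfalso
      have hne : algebraMap (ZMod q) K (b - d) ≠ 0 := fun e =>
        hbd (sub_eq_zero.1 ((map_eq_zero_iff _ (algebraMap (ZMod q) K).injective).1 e))
      have he : algebraMap (ZMod q) K ((c - a) / (b - d)) = ι := by
        rw [map_div₀, div_eq_iff hne, map_sub, map_sub]
        linear_combination -heq
      refine hnosq ((c - a) / (b - d)) ((algebraMap (ZMod q) K).injective ?_)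
      rw [map_mul, he, hι2, map_neg, map_one]
  have hembbij : Function.Bijective emb := hembinj.bijective_of_nat_card_le (by
    rw [hK, Nat.card_prod, Nat.card_zmod, sq])
  let e := Equiv.ofBijective emb hembbij
  have he : ∀ v, e v = emb v := fun v => rfl
  let M : K → Matrix (Fin 2) (Fin 2) (ZMod q) := fun z => mat (e.symm z).1 (e.symm z).2
  have hMemb : ∀ v : ZMod q × ZMod q, M (emb v) = mat v.1 v.2 := fun v => by
    show mat (e.symm (emb v)).1 (e.symm (emb v)).2 = _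
    rw [← he, Equiv.symm_apply_apply]
  have hsurj : ∀ z : K, ∃ v, emb v = z := hembbij.2
  let Mh : K →* Matrix (Fin 2) (Fin 2) (ZMod q) :=
    { toFun := M
      map_one' := by
        rw [show (1 : K) = emb (1, 0) by simp [emb], hMemb, mat_one]
      map_mul' := fun z w => by
        obtain ⟨⟨a, b⟩, rfl⟩ := hsurj z
        obtain ⟨⟨c, d⟩, rfl⟩ := hsurj w
        rw [hMemb, hMemb, mat_mul, show emb (a, b) * emb (c, d) = emb (a * c - b * d, a * d + b * c) by
          simp only [emb, map_sub, map_add, map_mul]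
          linear_combination (algebraMap (ZMod q) K b * algebraMap (ZMod q) K d) * hι2, hMemb] }
  have hMinj : Function.Injective Mh := by
    intro z w hzw
    obtain ⟨⟨a, b⟩, rfl⟩ := hsurj z
    obtain ⟨⟨c, d⟩, rfl⟩ := hsurj w
    have h1 : mat a b = mat c d := by rw [← hMemb (a, b), ← hMemb (c, d)]; exact hzw
    have h2 := congrFun (congrFun h1 0) 0
    have h3 := congrFun (congrFun h1 1) 0
    simp [mat] at h2 h3
    rw [h2, h3]
  -- Frobenius
  have hfrob : ∀ a b : ZMod q, emb (a, b) ^ q = emb (a, -b) := by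
    intro a b
    have hιq : ι ^ q = -ι := by
      obtain ⟨s, hs⟩ : ∃ s, q = 4 * s + 3 := ⟨q / 4, by omega⟩
      rw [show ι ^ q = ι ^ (4 * s + 3) from congrArg _ hs, pow_add, pow_mul, show ι ^ 4 = 1 by rw [show ι ^ 4 = (ι * ι) * (ι * ι) by ring, hι2]; ring,
        one_pow, one_mul, show ι ^ 3 = (ι * ι) * ι by ring, hι2]
      ring
    simp only [emb, add_pow_char, mul_pow, ← map_pow, ZMod.pow_card, hιq, map_neg]
    ring
  have hnorm : ∀ a b : ZMod q, emb (a, b) ^ (q + 1) = algebraMap (ZMod q) K (a * a + b * b) := by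
    intro a b
    rw [pow_succ, hfrob]
    simp only [emb, map_add, map_mul, map_neg]
    linear_combination (-(algebraMap (ZMod q) K b) * (algebraMap (ZMod q) K b)) * hι2
  have hdet : ∀ a b : ZMod q, (mat a b).det = a * a + b * b := fun a b => by
    rw [mat, Matrix.det_fin_two_of]; ring
  have hoddnorm : ∀ j : ℕ, Odd j → ∀ a b : ZMod q, emb (a, b) = (ξ : K) ^ j → a * a + b * b = -1 := by
    intro j hj a b hab
    apply (algebraMap (ZMod q) K).injective
    rw [← hnorm, hab, map_neg, map_one, ← pow_mul, Nat.mul_comm, hr, mul_assoc, pow_mul, hξh]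
    exact Odd.neg_one_pow (Odd.mul ⟨r, rfl⟩ hj)
  -- the elements
  let G := GL (Fin 2) (ZMod q)
  let Φ : Kˣ →* G := Units.map Mh
  have hΦ : ∀ z : Kˣ, ((Φ z : G) : Matrix (Fin 2) (Fin 2) (ZMod q)) = M z := fun z => rfl
  have hΦinj : Function.Injective Φ := fun z w hzw => Units.ext (hMinj (congrArg Units.val hzw))
  let Y : G :=
    { val := !![1, 0; 0, -1]
      inv := !![1, 0; 0, -1]
      val_inv := by ext i j; fin_cases i <;> fin_cases j <;> simp [Matrix.mul_apply, Fin.sum_univ_two]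
      inv_val := by ext i j; fin_cases i <;> fin_cases j <;> simp [Matrix.mul_apply, Fin.sum_univ_two] }
  let sgn : G →* (ZMod q)ˣ := (powMonoidHom ((q - 1) / 2)).comp Matrix.GeneralLinearGroup.det
  have hsgn : ∀ g : G, ((sgn g : (ZMod q)ˣ) : ZMod q) = (g : Matrix (Fin 2) (Fin 2) (ZMod q)).det ^ ((q - 1) / 2) :=
    fun g => rfl
  have hhalf : Odd ((q - 1) / 2) := ⟨(q - 1) / 4, by omega⟩
  have hneg : ((-1 : ZMod q)) ^ ((q - 1) / 2) = -1 := hhalf.neg_one_pow
  have hne1 : (-1 : ZMod q) ≠ 1 := fun e => hnosq 1 (by rw [one_mul]; exact e.symm)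
  have hxdet : ∀ j : ℕ, Odd j → (M ((ξ : K) ^ j)).det = -1 := by
    intro j hj
    obtain ⟨⟨a, b⟩, hab⟩ := hsurj ((ξ : K) ^ j)
    rw [← hab, hMemb, hdet]
    exact hoddnorm j hj a b hab
  have hxmem : Φ ξ ∉ sgn.ker := by
    intro hm
    have h1 := congrArg Units.val (MonoidHom.mem_ker.1 hm)
    rw [hsgn, hΦ, ← pow_one (ξ : K), hxdet 1 odd_one, hneg] at h1
    exact hne1 h1
  refine ⟨G, inferInstance, inferInstance, ⟨⟨Φ ξ, Y, sgn.ker, ?_, ?_, ?_, ?_, ?_, ?_, inferInstance, ?_, hxmem, ?_, ?_⟩⟩⟩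
  · rw [orderOf_injective Φ hΦinj, hξ]
  · exact Units.ext Y.val_inv
  · have hq1 : (Φ ξ) ^ q = (Φ ξ) ^ (h - 1) := by
      rw [pow_eq_pow_iff_modEq, orderOf_injective Φ hΦinj, hξ]; exact hmod
    rw [← hh, ← hq1, ← map_pow]
    refine Units.ext ?_
    obtain ⟨⟨a, b⟩, hab⟩ := hsurj (ξ : K)
    rw [Units.val_mul, Units.val_mul, hΦ, hΦ, Units.val_pow_eq_pow_val, ← hab, hfrob, hMemb, hMemb]
    show !![(1 : ZMod q), 0; 0, -1] * mat a b * !![1, 0; 0, -1] = mat a (-b)
    ext i j; fin_cases i <;> fin_cases j <;> simp [mat, Matrix.mul_apply, Fin.sum_univ_two]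
  · intro i hi
    rw [← map_zpow] at hi
    have h1 := congrArg Units.val hi
    obtain ⟨⟨a, b⟩, hab⟩ := hsurj (((ξ ^ i : Kˣ)) : K)
    rw [hΦ, ← hab, hMemb] at h1
    have h2 := congrFun (congrFun h1 0) 0
    have h3 := congrFun (congrFun h1 1) 1
    simp [Y, mat] at h2 h3
    exact hne1 (h3.trans h2.symm)
  · intro g
    rw [← map_pow, ← hh]
    have h1 : (Φ (ξ ^ h) : Matrix (Fin 2) (Fin 2) (ZMod q)) = -1 := by
      rw [hΦ, Units.val_pow_eq_pow_val, hξh, show (-1 : K) = emb (-1, 0) by simp [emb], hMemb]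
      ext i j; fin_cases i <;> fin_cases j <;> simp [mat]
    exact Units.ext (by rw [Units.val_mul, Units.val_mul, h1]; simp)
  · have hG : Nat.card G = (q ^ 2 - 1) * (q ^ 2 - q) := by
      rw [Matrix.card_GL_field, Fin.prod_univ_two]
      simp [ZMod.card]
    obtain ⟨s, hs⟩ : ∃ s, q - 1 = 2 * (2 * s + 1) := ⟨(q - 3) / 4, by omega⟩
    have e : Nat.card G = 2 ^ (n + 1) * ((2 * s + 1) * (2 * r + 1) * (q * (2 * s + 1))) := by
      rw [hG, sq, show q * q - q = q * (q - 1) by rw [Nat.mul_sub, mul_one],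
        show q * q - 1 = (q - 1) * (q + 1) from (Nat.mul_self_sub_mul_self_eq q 1).trans (mul_comm _ _), hs, hr,
        pow_succ, ← hh2]
      ring
    rw [e, Nat.factorization_mul (pow_ne_zero _ two_ne_zero) (Nat.mul_ne_zero (Nat.mul_ne_zero (Nat.succ_ne_zero _) (Nat.succ_ne_zero _)) (Nat.mul_ne_zero hq.ne_zero (Nat.succ_ne_zero _))), Finsupp.add_apply,
      Nat.prime_two.factorization_pow, Finsupp.single_eq_same, Nat.factorization_eq_zero_of_not_dvd, add_zero]
    intro hd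
    have hqodd : Odd q := ⟨(q - 1) / 2, by omega⟩
    have hodd : Odd ((2 * s + 1) * (2 * r + 1) * (q * (2 * s + 1))) :=
      ((odd_two_mul_add_one s).mul (odd_two_mul_add_one r)).mul (hqodd.mul (odd_two_mul_add_one s))
    exact Nat.not_even_iff_odd.2 hodd (even_iff_two_dvd.2 hd)
  · rw [Subgroup.index_ker]
    have hrange : sgn.range = Subgroup.zpowers (sgn (Φ ξ)) := by
      refine le_antisymm ?_ (Subgroup.zpowers_le.2 ⟨_, rfl⟩)
      rintro _ ⟨g, rfl⟩
      have hsq : ((sgn g : (ZMod q)ˣ) : ZMod q) * ((sgn g : (ZMod q)ˣ) : ZMod q) = 1 := by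
        rw [hsgn, ← pow_add, show (q - 1) / 2 + (q - 1) / 2 = q - 1 by omega]
        exact ZMod.pow_card_sub_one_eq_one ((Matrix.GeneralLinearGroup.det g).ne_zero)
      rcases mul_self_eq_one_iff.1 hsq with h1 | h1
      · rw [show sgn g = 1 from Units.ext h1]; exact one_mem _
      · have h2 : sgn g = sgn (Φ ξ) := Units.ext (by
          rw [h1, hsgn, hΦ, ← pow_one (ξ : K), hxdet 1 odd_one, hneg])
        rw [h2]; exact Subgroup.mem_zpowers _
    rw [hrange, Nat.card_zpowers]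
    haveI : Fact (Nat.Prime 2) := ⟨Nat.prime_two⟩
    refine orderOf_eq_prime (Units.ext ?_) fun e => hxmem (MonoidHom.mem_ker.2 e)
    rw [Units.val_pow_eq_pow_val, hsgn, hΦ, ← pow_one (ξ : K), hxdet 1 odd_one, hneg, neg_one_sq, Units.val_one]
  · intro hm
    have h1 := congrArg Units.val (MonoidHom.mem_ker.1 hm)
    rw [hsgn] at h1
    have h2 : (Y : Matrix (Fin 2) (Fin 2) (ZMod q)).det = -1 := by simp [Y, Matrix.det_fin_two_of]
    rw [h2, hneg] at h1
    exact hne1 h1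
  · intro j hj
    obtain ⟨⟨c, d⟩, hcd⟩ := hsurj ((ξ : K) ^ j)
    have hn1 := hoddnorm j hj c d hcd
    have hd0 : d ≠ 0 := fun e => hnosq c (by rw [e, mul_zero, add_zero] at hn1; exact hn1)
    -- the image of `ι`
    have hI : ((Φ (ξ ^ 2 ^ (n - 2)) : G) : Matrix (Fin 2) (Fin 2) (ZMod q)) = mat 0 1 := by
      rw [hΦ, Units.val_pow_eq_pow_val, ← hι, show ι = emb (0, 1) by simp [emb], hMemb]
    obtain ⟨J, hJ⟩ : ∃ J : G, J = Φ ξ ^ j * Y := ⟨_, rfl⟩
    have hJm : (J : Matrix (Fin 2) (Fin 2) (ZMod q)) = !![c, d; d, -c] := by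
      rw [hJ, ← map_pow, Units.val_mul, hΦ, Units.val_pow_eq_pow_val, ← hcd, hMemb]
      show mat c d * !![(1 : ZMod q), 0; 0, -1] = _
      ext i j; fin_cases i <;> fin_cases j <;> simp [mat, Matrix.mul_apply, Fin.sum_univ_two]
    let T : G := Matrix.GeneralLinearGroup.mkOfDetNeZero !![1, c; 0, d] (by simpa [Matrix.det_fin_two_of] using hd0)
    have hTm : (T : Matrix (Fin 2) (Fin 2) (ZMod q)) = !![1, c; 0, d] := rfl
    have hTI : T * Φ (ξ ^ 2 ^ (n - 2)) = J * T := Units.ext (by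
      rw [Units.val_mul, Units.val_mul, hI, hJm, hTm]
      ext i j; fin_cases i <;> fin_cases j <;> simp [mat, Matrix.mul_apply, Fin.sum_univ_two]
      · linear_combination -hn1
      · ring)
    rw [← hJ, ← map_pow]
    by_cases hT : T ∈ sgn.ker
    · exact ⟨T, hT, Or.inl (by rw [hTI, mul_inv_cancel_right])⟩
    · refine ⟨T * Φ ξ, ?_, Or.inl ?_⟩
      · rw [MonoidHom.mem_ker]
        refine Units.ext ?_
        rw [map_mul, Units.val_mul, Units.val_one, hsgn, hsgn, hΦ, ← pow_one (ξ : K), hxdet 1 odd_one, hneg]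
        have hsq : (T : Matrix (Fin 2) (Fin 2) (ZMod q)).det ^ ((q - 1) / 2) *
            (T : Matrix (Fin 2) (Fin 2) (ZMod q)).det ^ ((q - 1) / 2) = 1 := by
          rw [← pow_add, show (q - 1) / 2 + (q - 1) / 2 = q - 1 by omega]
          exact ZMod.pow_card_sub_one_eq_one ((Matrix.GeneralLinearGroup.det T).ne_zero)
        rcases mul_self_eq_one_iff.1 hsq with h1 | h1
        · exact absurd (MonoidHom.mem_ker.2 (Units.ext (by rw [hsgn, h1, Units.val_one]))) hT
        · rw [h1]; ring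
      · have hc : Commute (Φ ξ) (Φ (ξ ^ 2 ^ (n - 2))) := (Commute.self_pow ξ _).map Φ
        rw [mul_assoc T, hc.eq, ← mul_assoc T, hTI]; group

end Cfsg.Agent.Small.SDModel
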