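import Mathlib
import Cfsg.Agent.Lib.Solv.Cores

/-!
Group-theoretic skeleton of the local balance criteria for automorphisms of field type, and the
Galois lemma they use.
-/

set_option autoImplicit false
set_option linter.unusedSectionVars false

namespace Cfsg.Agent.Small.LocalBalance

/-- A field automorphism fixing the fixed field of `σ` is a power of `σ`. -/
theorem mem_zpowers_of_fixes {F : Type*} [Field F] [Finite F] (σ τ : F ≃+* F)
    (h : ∀ y, σ y = y → τ y = y) : τ ∈ Subgroup.zpowers σ := by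
  classical
  have : Finite (F ≃+* F) := Finite.of_injective (fun e => ⇑e) DFunLike.coe_injective
  let G := Subgroup.zpowers σ
  let τ' : F →ₐ[FixedPoints.subfield G F] F :=
    { τ.toRingHom with
      commutes' := fun c => h c.1 (c.2 ⟨σ, Subgroup.mem_zpowers σ⟩) }
  obtain ⟨g, hg⟩ := (FixedPoints.toAlgHom_bijective G F).2 τ'
  have hgτ : (g : F ≃+* F) = τ := RingEquiv.ext fun y => DFunLike.congr_fun hg y
  exact hgτ ▸ g.2

variable {K : Type*} [Group K] [Finite K]

/-- The fixed points of `y` act trivially on a coprime subgroup of the centralizer of `y`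
normalised by them, provided they contain a suitable big subgroup `Φ.range`: each normal subgroup
of the big subgroup is trivial or contains an element of order `p`. -/
theorem core_trivial' {G₀ : Type*} [Group G₀] {p : ℕ} [Fact p.Prime]
    (y : MulAut K) (hy : orderOf y = p) (hinj : Function.Injective (MulAut.conj : K → MulAut K))
    (Φ : G₀ →* K) (hΦ : ∀ x, y (Φ x) = Φ x)
    (hnorm : ∀ n, y n = n → ∀ x, n * Φ x * n⁻¹ ∈ Φ.range)
    (hG : ∀ N : Subgroup G₀, N.Normal → N ≤ Φ.ker ∨ ∃ x ∈ N, orderOf (Φ x) = p)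
    (hcent : ∀ β : MulAut K, Commute β y → (∀ x, β (Φ x) = Φ x) → β ∈ Subgroup.zpowers y)
    (L : Subgroup (MulAut K)) (hL : ∀ l ∈ L, Commute l y)
    (hn : ∀ k, y k = k → ∀ l ∈ L, MulAut.conj k * l * (MulAut.conj k)⁻¹ ∈ L)
    (hcop : (Nat.card L).Coprime p) : L = ⊥ := by
  let K₀ : Subgroup K := MonoidHom.eqLocus y.toMonoidHom (MonoidHom.id K)
  let M : Subgroup K := L.comap MulAut.conj ⊓ K₀
  have hK₀ : ∀ k, k ∈ K₀ ↔ y k = k := fun k => Iff.rfl
  have hMn : ∀ k, y k = k → ∀ n ∈ M, k * n * k⁻¹ ∈ M := by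
    intro k hk n hn'
    obtain ⟨h1, h2⟩ := Subgroup.mem_inf.mp hn'
    refine Subgroup.mem_inf.mpr ⟨?_, K₀.mul_mem (K₀.mul_mem hk h2) (K₀.inv_mem hk)⟩
    rw [Subgroup.mem_comap] at h1 ⊢
    rw [map_mul, map_mul, map_inv]
    exact hn k hk _ h1
  have hMcard : (Nat.card M).Coprime p := by
    refine hcop.coprime_dvd_left ?_
    exact Subgroup.card_dvd_of_injective
      ((MulAut.conj.comp M.subtype).codRestrict L fun n => (Subgroup.mem_inf.mp n.2).1)
      (fun a b h => Subtype.ext (hinj (congrArg Subtype.val h)))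
  have hp : p.Prime := Fact.out
  -- a coprime element of the centralizer lying in `zpowers y` is trivial
  have hsmall : ∀ β : MulAut K, β ∈ Subgroup.zpowers y → (orderOf β).Coprime p → β = 1 := by
    intro β hβ hc
    have h1 : orderOf β ∣ p := hy ▸ orderOf_dvd_of_mem_zpowers hβ
    exact orderOf_eq_one_iff.mp (Nat.dvd_one.mp (hc ▸ Nat.dvd_gcd dvd_rfl h1))
  -- `M` meets the range trivially
  have hM₀ : ∀ x, Φ x ∈ M → Φ x = 1 := by
    have hnormal : (M.comap Φ).Normal := ⟨fun n hn' x => by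
      rw [Subgroup.mem_comap] at hn' ⊢
      rw [map_mul, map_mul, map_inv]
      exact hMn _ (hΦ x) _ hn'⟩
    rcases hG _ hnormal with h | h
    · exact fun x hx => h hx
    · exfalso
      obtain ⟨x₀, hx₀N, hx₀⟩ := h
      have h3 : p ∣ Nat.card M := hx₀ ▸ Subgroup.orderOf_dvd_natCard M hx₀N
      exact hp.ne_one (Nat.eq_one_of_dvd_coprimes hMcard h3 dvd_rfl)
  have hMfix : ∀ n ∈ M, n = 1 := by
    intro n hn'
    have hfix : ∀ x, MulAut.conj n (Φ x) = Φ x := by
      intro x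
      obtain ⟨x', hx'⟩ := hnorm n (Subgroup.mem_inf.mp hn').2 x
      have h1 : Φ (x' * x⁻¹) ∈ M := by
        rw [map_mul, map_inv, hx', show n * Φ x * n⁻¹ * (Φ x)⁻¹ =
          n * (Φ x * n⁻¹ * (Φ x)⁻¹) by group]
        exact M.mul_mem hn' (hMn _ (hΦ x) _ (M.inv_mem hn'))
      have h2 := hM₀ _ h1
      rw [map_mul, map_inv, hx', mul_inv_eq_one] at h2
      exact h2
    refine hinj (.trans ?_ (map_one MulAut.conj).symm)
    refine hsmall _ (hcent _ (hL _ (Subgroup.mem_inf.mp hn').1) hfix) ?_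
    exact hMcard.coprime_dvd_left
      ((orderOf_map_dvd MulAut.conj n).trans (Subgroup.orderOf_dvd_natCard M hn'))
  rw [eq_bot_iff]
  intro l hl
  refine hsmall l (hcent l (hL l hl) fun x => ?_)
    (hcop.coprime_dvd_left (Subgroup.orderOf_dvd_natCard L hl))
  set k := Φ x
  have hk : y k = k := hΦ x
  have hlk : y (l k⁻¹) = l k⁻¹ := by
    rw [← MulAut.mul_apply, ← (hL l hl).eq, MulAut.mul_apply, map_inv y, hk]
  have hcomm : MulAut.conj (k * l k⁻¹) = MulAut.conj k * l * (MulAut.conj k)⁻¹ * l⁻¹ := by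
    ext z
    simp [mul_assoc]
  have h1 : k * l k⁻¹ ∈ M := by
    refine Subgroup.mem_inf.mpr ⟨?_, K₀.mul_mem hk hlk⟩
    rw [Subgroup.mem_comap]
    rw [hcomm]
    exact L.mul_mem (hn k hk l hl) (L.inv_mem hl)
  have h2 := hMfix _ h1
  rw [map_inv, mul_inv_eq_one] at h2
  exact h2.symm

/-- The fixed points of `y` act trivially on a coprime subgroup of the centralizer of `y`
normalised by them, provided they contain a suitable big subgroup `Φ.range`. -/
theorem core_trivial {G₀ : Type*} [Group G₀] {p r : ℕ} [Fact p.Prime] (hrp : r.Coprime p)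
    (y : MulAut K) (hy : orderOf y = p) (hinj : Function.Injective (MulAut.conj : K → MulAut K))
    (Φ : G₀ →* K) (hΦ : ∀ x, y (Φ x) = Φ x)
    (hnorm : ∀ n, y n = n → ∀ x, n * Φ x * n⁻¹ ∈ Φ.range)
    (hG : ∀ N : Subgroup G₀, N.Normal → N ≤ Φ.ker ∨ ∀ x, x ^ r ∈ N)
    (hel : ∃ x₀, orderOf (Φ x₀) = p)
    (hcent : ∀ β : MulAut K, Commute β y → (∀ x, β (Φ x) = Φ x) → β ∈ Subgroup.zpowers y)
    (L : Subgroup (MulAut K)) (hL : ∀ l ∈ L, Commute l y)
    (hn : ∀ k, y k = k → ∀ l ∈ L, MulAut.conj k * l * (MulAut.conj k)⁻¹ ∈ L)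
    (hcop : (Nat.card L).Coprime p) : L = ⊥ :=
  core_trivial' y hy hinj Φ hΦ hnorm
    (fun N hN => (hG N hN).imp_right fun h => by
      obtain ⟨x₀, hx₀⟩ := hel
      refine ⟨_, h x₀, ?_⟩
      rw [map_pow, orderOf_pow, hx₀, Nat.gcd_comm, hrp.gcd_eq_one, Nat.div_one])
    hcent L hL hn hcop

/-- If `p` does not divide the fixed points, the core is non-trivial. -/
theorem core_ne_bot (A : Subgroup (MulAut K)) (hinn : ∀ k, MulAut.conj k ∈ A) {p : ℕ}
    (x : MulAut K) (hinj : Function.Injective (MulAut.conj : K → MulAut K))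
    (hfix : ∃ k, x k = k ∧ k ≠ 1)
    (hcop : p.Coprime (Nat.card (MonoidHom.eqLocus x.toMonoidHom (MonoidHom.id K)))) :
    Cfsg.pPrimeCore p ↥(A ⊓ Subgroup.centralizer {x}) ≠ ⊥ := by
  set K₀ := MonoidHom.eqLocus x.toMonoidHom (MonoidHom.id K)
  set C := A ⊓ Subgroup.centralizer {x}
  have hmem : ∀ k ∈ K₀, MulAut.conj k ∈ C := by
    intro k hk
    refine Subgroup.mem_inf.mpr ⟨hinn k, Subgroup.mem_centralizer_singleton_iff.mpr ?_⟩
    replace hk : x k = k := hk
    ext z
    simp [hk]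
  let f : K₀ →* C := (MulAut.conj.comp K₀.subtype).codRestrict C fun k => hmem k.1 k.2
  have hnormal : f.range.Normal := by
    constructor
    rintro _ ⟨⟨k, hk⟩, rfl⟩ ⟨a, ha⟩
    have hax := Subgroup.mem_centralizer_singleton_iff.mp (Subgroup.mem_inf.mp ha).2
    refine ⟨⟨a k, ?_⟩, Subtype.ext ?_⟩
    · change x (a k) = a k
      rw [← MulAut.mul_apply, ← hax, MulAut.mul_apply]
      exact congrArg a hk
    · ext z
      change a k * z * (a k)⁻¹ = a (k * a⁻¹ z * k⁻¹)
      simp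
  intro hbot
  obtain ⟨k, hk, hk1⟩ := hfix
  have hc : (Nat.card f.range).Coprime p :=
    hcop.symm.coprime_dvd_left (Subgroup.card_range_dvd f)
  have h1 : f ⟨k, hk⟩ ∈ Cfsg.pPrimeCore p C :=
    Cfsg.Agent.Solv.normal_le_pPrimeCore hc ⟨_, rfl⟩
  rw [hbot, Subgroup.mem_bot] at h1
  exact hk1 (hinj ((congrArg Subtype.val h1).trans (map_one MulAut.conj).symm))

/-- The core is trivial as soon as this holds for one conjugate of `x`. -/
theorem core_eq_bot (A : Subgroup (MulAut K)) (hinn : ∀ k, MulAut.conj k ∈ A) {p : ℕ}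
    (x α y : MulAut K) (hy : α * x * α⁻¹ = y)
    (core : ∀ L : Subgroup (MulAut K), (∀ l ∈ L, Commute l y) →
      (∀ k, y k = k → ∀ l ∈ L, MulAut.conj k * l * (MulAut.conj k)⁻¹ ∈ L) →
      (Nat.card L).Coprime p → L = ⊥) :
    Cfsg.pPrimeCore p ↥(A ⊓ Subgroup.centralizer {x}) = ⊥ := by
  set C := A ⊓ Subgroup.centralizer {x}
  set O := Cfsg.pPrimeCore p C
  let f : C →* MulAut K := (MulAut.conj α).toMonoidHom.comp C.subtype
  have hf : Function.Injective f := (MulAut.conj α).injective.comp C.subtype_injective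
  have key := core (O.map f) ?_ ?_ ?_
  · rwa [Subgroup.map_eq_bot_iff_of_injective _ hf] at key
  · rintro _ ⟨⟨c, hc⟩, -, rfl⟩
    have hcx : Commute c x :=
      Subgroup.mem_centralizer_singleton_iff.mp (Subgroup.mem_inf.mp hc).2
    rw [← hy]
    exact hcx.map (MulAut.conj α).toMonoidHom
  · rintro k hk _ ⟨⟨c, hc⟩, hcO, rfl⟩
    have hk' : x (α⁻¹ k) = α⁻¹ k := by
      apply α.injective
      calc α (x (α⁻¹ k)) = (α * x * α⁻¹) k := rfl
        _ = α (α⁻¹ k) := by rw [hy, hk, MulAut.apply_inv_self]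
    have hkC : MulAut.conj (α⁻¹ k) ∈ C := by
      refine Subgroup.mem_inf.mpr ⟨hinn _, Subgroup.mem_centralizer_singleton_iff.mpr ?_⟩
      ext z
      simp only [MulAut.mul_apply, MulAut.conj_apply, map_mul, map_inv, hk']
    have h1 := (Cfsg.Agent.Solv.pPrimeCore_normal p).conj_mem _ hcO
      (⟨_, hkC⟩ : C)
    refine ⟨_, h1, ?_⟩
    have hαk : MulAut.conj α (MulAut.conj (α⁻¹ k)) = MulAut.conj k := by
      ext z
      simp
    change MulAut.conj α (MulAut.conj (α⁻¹ k) * c * (MulAut.conj (α⁻¹ k))⁻¹) = _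
    rw [map_mul, map_mul, map_inv, hαk]
    rfl
  · rw [Subgroup.card_map_of_injective hf]
    exact Cfsg.Agent.Solv.pPrimeCore_coprime p

/-- The `p'`-core is invariant under automorphisms. -/
theorem pPrimeCore_invariant {G : Type*} [Group G] [Finite G] (p : ℕ) (e : G ≃* G) {g : G}
    (hg : g ∈ Cfsg.pPrimeCore p G) : e g ∈ Cfsg.pPrimeCore p G := by
  have := Cfsg.Agent.Solv.pPrimeCore_normal (G := G) p
  have : ((Cfsg.pPrimeCore p G).map e.toMonoidHom).Normal := this.map _ e.surjective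
  have h : (Cfsg.pPrimeCore p G).map e.toMonoidHom ≤ Cfsg.pPrimeCore p G := by
    refine Cfsg.Agent.Solv.normal_le_pPrimeCore ?_
    rw [Subgroup.card_map_of_injective e.injective]
    exact Cfsg.Agent.Solv.pPrimeCore_coprime p
  exact h (Subgroup.mem_map_of_mem _ hg)

/-- The skeleton for involutions of graph type: the isometry group `G` of a form acts on the fixed
points, squares of fixed points come from `G`, and a normal subgroup of `G` which acts non-trivially
contains an element of order two acting non-trivially. -/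
theorem graph_core_trivial' {G : Type*} [Group G] (y : MulAut K)
    (hinj : Function.Injective (MulAut.conj : K → MulAut K))
    (π : G →* MulAut K) (hπ : ∀ a, Commute (π a) y)
    (hsq : ∀ k, y k = k → ∃ a, π a = MulAut.conj (k * k))
    (hinv : ∀ N : Subgroup G, N.Normal → ∀ m ∈ N, π m ≠ 1 → ∃ d ∈ N, d * d = 1 ∧ π d ≠ 1)
    (hcent : ∀ l : MulAut K, Commute l y → Odd (orderOf l) → (∀ k, y k = k → l k = k) → l = 1)
    (L : Subgroup (MulAut K)) (hL : ∀ l ∈ L, Commute l y)
    (hn : ∀ k, y k = k → ∀ l ∈ L, MulAut.conj k * l * (MulAut.conj k)⁻¹ ∈ L)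
    (hcop : (Nat.card L).Coprime 2) : L = ⊥ := by
  let K₀ : Subgroup K := MonoidHom.eqLocus y.toMonoidHom (MonoidHom.id K)
  let O : Subgroup K₀ := Cfsg.pPrimeCore 2 K₀
  have hO : (Nat.card O).Coprime 2 := Cfsg.Agent.Solv.pPrimeCore_coprime 2
  have hOn := Cfsg.Agent.Solv.pPrimeCore_normal (G := K₀) 2
  have hOinv : ∀ a : G, ∀ k : K₀, k ∈ O → ∀ hk' : π a k.1 ∈ K₀, (⟨π a k.1, hk'⟩ : K₀) ∈ O := by
    intro a k hk hk'
    have hmem : ∀ b : G, ∀ x ∈ K₀, π b x ∈ K₀ := fun b x (hx : y x = x) => by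
      change y (π b x) = π b x
      rw [← MulAut.mul_apply, ← (hπ b).eq, MulAut.mul_apply, hx]
    let e : K₀ ≃* K₀ :=
      { toFun := fun x => ⟨π a x.1, hmem a x.1 x.2⟩
        invFun := fun x => ⟨π a⁻¹ x.1, hmem a⁻¹ x.1 x.2⟩
        left_inv := fun x => Subtype.ext (by simp)
        right_inv := fun x => Subtype.ext (by simp)
        map_mul' := fun x z => Subtype.ext (map_mul (π a) x.1 z.1) }
    exact pPrimeCore_invariant 2 e hk
  have hodd : ∀ k ∈ O, Odd (orderOf (k : K)) := fun k hk => by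
    rw [Subgroup.orderOf_coe]
    exact Nat.coprime_two_right.mp (hO.coprime_dvd_left (Subgroup.orderOf_dvd_natCard O hk))
  have hObot : O = ⊥ := by
    rw [eq_bot_iff]
    intro k hk
    -- the elements of `G` acting like elements of `O`
    let N : Subgroup G := ((O.map K₀.subtype).map MulAut.conj).comap π
    have hNn : N.Normal := by
      refine ⟨fun m hm a => ?_⟩
      obtain ⟨_, ⟨k', hk', rfl⟩, hm⟩ := hm
      have hk'' : π a k'.1 ∈ K₀ := by
        change y (π a k'.1) = π a k'.1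
        rw [← MulAut.mul_apply, ← (hπ a).eq, MulAut.mul_apply]
        exact congrArg (π a) k'.2
      refine ⟨_, ⟨_, hOinv a k' hk' hk'', rfl⟩, ?_⟩
      rw [map_mul, map_mul, map_inv, ← hm]
      ext z
      simp
    by_contra hk1
    obtain ⟨a, ha⟩ := hsq k.1 k.2
    have haN : a ∈ N := ⟨_, ⟨k * k, O.mul_mem hk hk, rfl⟩, ha.symm⟩
    have ha1 : π a ≠ 1 := by
      rw [ha, ← map_one MulAut.conj]
      refine fun h => hk1 (Subgroup.mem_bot.mpr (Subtype.ext ?_))
      obtain ⟨j, hj⟩ := hodd k hk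
      have h2 : (k : K) ^ 2 = 1 := by rw [pow_two]; exact hinj h
      have h3 := pow_orderOf_eq_one (k : K)
      rw [hj, pow_succ, pow_mul, h2, one_pow, one_mul] at h3
      exact h3
    obtain ⟨d, ⟨_, ⟨k', hk', rfl⟩, hd⟩, hd2, hd1⟩ := hinv N hNn a haN ha1
    apply hd1
    rw [← hd]
    have h2 : (k' : K) ^ 2 = 1 := hinj (by
      rw [map_pow, map_one, show MulAut.conj (k' : K) = π d from hd, ← map_pow, pow_two, hd2,
        map_one])
    obtain ⟨j, hj⟩ := hodd k' hk'
    have h3 := pow_orderOf_eq_one (k' : K)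
    rw [hj, pow_succ, pow_mul, h2, one_pow, one_mul] at h3
    change MulAut.conj (k' : K) = 1
    rw [h3, map_one]
  have hM : ∀ k : K₀, MulAut.conj (k : K) ∈ L → k = 1 := by
    intro k hk
    let M : Subgroup K₀ := L.comap (MulAut.conj.comp K₀.subtype)
    have : M.Normal := ⟨fun m hm x => by
      change MulAut.conj ((x * m * x⁻¹ : K₀) : K) ∈ L
      rw [Subgroup.coe_mul, Subgroup.coe_mul, Subgroup.coe_inv, map_mul, map_mul, map_inv]
      exact hn _ x.2 _ hm⟩
    have hle : M ≤ O := Cfsg.Agent.Solv.normal_le_pPrimeCore (hcop.coprime_dvd_left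
      (Subgroup.card_dvd_of_injective (((MulAut.conj.comp K₀.subtype).comp M.subtype).codRestrict L
        fun m => m.2) fun a b h => Subtype.ext (Subtype.ext (hinj (congrArg Subtype.val h)))))
    have := hle (show k ∈ M from hk)
    rwa [hObot, Subgroup.mem_bot] at this
  rw [eq_bot_iff]
  intro l hl
  refine hcent l (hL l hl) (Nat.coprime_two_right.mp
    (hcop.coprime_dvd_left (Subgroup.orderOf_dvd_natCard L hl))) fun k hk => ?_
  have hlk : y (l k⁻¹) = l k⁻¹ := by
    rw [← MulAut.mul_apply, ← (hL l hl).eq, MulAut.mul_apply, map_inv y, hk]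
  have hcomm : MulAut.conj (k * l k⁻¹) = MulAut.conj k * l * (MulAut.conj k)⁻¹ * l⁻¹ := by
    ext z
    simp [mul_assoc]
  have h1 := hM ⟨k * l k⁻¹, K₀.mul_mem hk hlk⟩ (by
    rw [hcomm]; exact L.mul_mem (hn k hk l hl) (L.inv_mem hl))
  have h2 := congrArg Subtype.val h1
  change k * l k⁻¹ = 1 at h2
  rw [map_inv, mul_inv_eq_one] at h2
  exact h2.symm

/-- The skeleton for involutions of graph type, with a centraliser hypothesis that does not use
commutation. -/
theorem graph_core_trivial {G : Type*} [Group G] (y : MulAut K)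
    (hinj : Function.Injective (MulAut.conj : K → MulAut K))
    (π : G →* MulAut K) (hπ : ∀ a, Commute (π a) y)
    (hsq : ∀ k, y k = k → ∃ a, π a = MulAut.conj (k * k))
    (hinv : ∀ N : Subgroup G, N.Normal → ∀ m ∈ N, π m ≠ 1 → ∃ d ∈ N, d * d = 1 ∧ π d ≠ 1)
    (hcent : ∀ l : MulAut K, Odd (orderOf l) → (∀ k, y k = k → l k = k) → l = 1)
    (L : Subgroup (MulAut K)) (hL : ∀ l ∈ L, Commute l y)
    (hn : ∀ k, y k = k → ∀ l ∈ L, MulAut.conj k * l * (MulAut.conj k)⁻¹ ∈ L)
    (hcop : (Nat.card L).Coprime 2) : L = ⊥ :=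
  graph_core_trivial' y hinj π hπ hsq hinv (fun l _ => hcent l) L hL hn hcop

end Cfsg.Agent.Small.LocalBalance
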