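import Mathlib

/-!
# Element orders of A₅ and of its direct powers
-/

set_option autoImplicit false

namespace Cfsg.Agent.Small.A5Orders

theorem a5_pow_cases :
    ∀ g : alternatingGroup (Fin 5), g ^ 2 = 1 ∨ g ^ 3 = 1 ∨ g ^ 5 = 1 := by
  decide +kernel

theorem a5_witness :
    (∃ g : alternatingGroup (Fin 5), g ^ 2 = 1 ∧ g ≠ 1) ∧
    (∃ g : alternatingGroup (Fin 5), g ^ 3 = 1 ∧ g ≠ 1) ∧
    ∃ g : alternatingGroup (Fin 5), g ^ 5 = 1 ∧ g ≠ 1 := by
  decide +kernel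

theorem range_orderOf_a5 :
    Set.range (orderOf : alternatingGroup (Fin 5) → ℕ) = {1, 2, 3, 5} := by
  obtain ⟨⟨a, ha, ha1⟩, ⟨b, hb, hb1⟩, ⟨c, hc, hc1⟩⟩ := a5_witness
  have : Fact (Nat.Prime 2) := ⟨Nat.prime_two⟩
  have : Fact (Nat.Prime 3) := ⟨Nat.prime_three⟩
  have : Fact (Nat.Prime 5) := ⟨by norm_num⟩
  ext n
  constructor
  · rintro ⟨g, rfl⟩
    by_cases hg : g = 1
    · simp [hg]
    rcases a5_pow_cases g with h | h | h <;> simp [orderOf_eq_prime h hg]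
  · rintro (rfl | rfl | rfl | rfl)
    · exact ⟨1, orderOf_one⟩
    · exact ⟨a, orderOf_eq_prime ha ha1⟩
    · exact ⟨b, orderOf_eq_prime hb hb1⟩
    · exact ⟨c, orderOf_eq_prime hc hc1⟩

theorem range_orderOf_prod {G H : Type*} [Monoid G] [Monoid H] :
    Set.range (orderOf : G × H → ℕ) =
      Set.image2 Nat.lcm (Set.range (orderOf : G → ℕ)) (Set.range (orderOf : H → ℕ)) := by
  ext n
  simp only [Set.mem_range, Set.mem_image2, Prod.exists, Prod.orderOf_mk, exists_exists_eq_and]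

theorem range_orderOf_a5_sq :
    Set.range (orderOf : alternatingGroup (Fin 5) × alternatingGroup (Fin 5) → ℕ) =
      {1, 2, 3, 5, 6, 10, 15} := by
  rw [range_orderOf_prod, range_orderOf_a5]
  ext n
  simp only [Set.mem_image2, Set.mem_insert_iff, Set.mem_singleton_iff]
  constructor
  · rintro ⟨a, (rfl | rfl | rfl | rfl), b, (rfl | rfl | rfl | rfl), rfl⟩ <;> norm_num
  · rintro (rfl | rfl | rfl | rfl | rfl | rfl | rfl)
    · exact ⟨1, by simp, 1, by simp, rfl⟩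
    · exact ⟨2, by simp, 1, by simp, rfl⟩
    · exact ⟨3, by simp, 1, by simp, rfl⟩
    · exact ⟨5, by simp, 1, by simp, rfl⟩
    · exact ⟨2, by simp, 3, by simp, rfl⟩
    · exact ⟨2, by simp, 5, by simp, rfl⟩
    · exact ⟨3, by simp, 5, by simp, rfl⟩

end Cfsg.Agent.Small.A5Orders
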