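import Mathlib

/-!
# Additive endomorphisms of a finite field of characteristic 2
-/

set_option autoImplicit false

namespace Cfsg.Agent.Small.AdditiveEndo

variable {F : Type*} [Field F] [Fintype F] [CharP F 2]

theorem auts_linearIndependent :
    LinearIndependent F (fun σ : F ≃+* F => ((σ : F →+* F) : F → F)) := by
  refine (linearIndependent_monoidHom F F).comp (fun σ : F ≃+* F => ((σ : F →+* F) : F →* F)) ?_
  intro σ τ h
  exact RingEquiv.ext fun x => congrArg (fun f : F →* F => f x) h

theorem endo_expansion :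
    ∀ f : F →+ F, ∃ c : (F ≃+* F) → F, ∀ x : F, f x = ∑ᶠ σ : F ≃+* F, c σ * σ x := by
  classical
  letI : Algebra (ZMod 2) F := ZMod.algebra F 2
  have : Fact (Nat.Prime 2) := ⟨Nat.prime_two⟩
  have : Finite (F ≃+* F) := Finite.of_injective (fun σ => (σ : F → F)) DFunLike.coe_injective
  have := Fintype.ofFinite (F ≃+* F)
  have : Finite (F →+ F) := Finite.of_injective (fun σ => (σ : F → F)) DFunLike.coe_injective
  let toAlg : (F ≃+* F) ≃ (F ≃ₐ[ZMod 2] F) :=
    { toFun := fun σ => AlgEquiv.ofRingEquiv (f := σ) fun x => RingHom.congr_fun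
        (Subsingleton.elim ((σ : F →+* F).comp (algebraMap (ZMod 2) F)) (algebraMap (ZMod 2) F)) x
      invFun := fun e => e.toRingEquiv
      left_inv := fun σ => RingEquiv.ext fun x => rfl
      right_inv := fun e => AlgEquiv.ext fun x => rfl }
  have hn : Nat.card (F ≃+* F) = Module.finrank (ZMod 2) F := by
    rw [Nat.card_congr toAlg]
    exact IsGalois.card_aut_eq_finrank (ZMod 2) F
  let Φ : ((F ≃+* F) → F) → (F →+ F) := fun c =>
    AddMonoidHom.mk' (fun x => ∑ σ : F ≃+* F, c σ * σ x) fun x y => by
      simp [mul_add, Finset.sum_add_distrib]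
  have hinj : Function.Injective Φ := by
    intro c d h
    funext σ
    have hli := Fintype.linearIndependent_iff.1 (auts_linearIndependent (F := F)) (fun τ => c τ - d τ) ?_ σ
    · exact sub_eq_zero.1 hli
    · funext x
      simp only [Finset.sum_apply, Pi.smul_apply, smul_eq_mul, sub_mul, Finset.sum_sub_distrib, Pi.zero_apply]
      rw [sub_eq_zero]
      exact congrArg (fun g : F →+ F => g x) h
  let b := Module.finBasis (ZMod 2) F
  have hle : Nat.card (F →+ F) ≤ Nat.card ((F ≃+* F) → F) := by
    rw [Nat.card_fun, hn, ← Nat.card_fin (Module.finrank (ZMod 2) F), ← Nat.card_fun]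
    refine Nat.card_le_card_of_injective (fun f i => f (b i)) fun f g h => ?_
    have : f.toZModLinearMap 2 = g.toZModLinearMap 2 := b.ext fun i => congrFun h i
    exact AddMonoidHom.ext fun x => LinearMap.congr_fun this x
  intro f
  obtain ⟨c, rfl⟩ := (hinj.bijective_of_nat_card_le hle).2 f
  exact ⟨c, fun x => by rw [finsum_eq_sum_of_fintype]; rfl⟩

theorem endo_sum :
    ∀ f : F →+ F, ∃ (s : Finset (F ≃+* F)) (c : (F ≃+* F) → F), ∀ x : F, f x = ∑ σ ∈ s, c σ * σ x := by
  intro f
  have : Finite (F ≃+* F) := Finite.of_injective (fun σ => (σ : F → F)) DFunLike.coe_injective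
  have := Fintype.ofFinite (F ≃+* F)
  obtain ⟨c, hc⟩ := endo_expansion f
  exact ⟨Finset.univ, c, fun x => by rw [hc, finsum_eq_sum_of_fintype]⟩

theorem biadditive_sum (B : F →+ F →+ F) :
    ∃ (s : Finset ((F ≃+* F) × (F ≃+* F))) (c : (F ≃+* F) × (F ≃+* F) → F),
      ∀ x y : F, B x y = ∑ p ∈ s, c p * (p.1 x * p.2 y) := by
  classical
  have : Finite (F ≃+* F) := Finite.of_injective (fun σ => (σ : F → F)) DFunLike.coe_injective
  have := Fintype.ofFinite (F ≃+* F)
  have hex : ∀ f : F →+ F, ∃ c : (F ≃+* F) → F, ∀ x : F, f x = ∑ σ : F ≃+* F, c σ * σ x := fun f => by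
    obtain ⟨c, hc⟩ := endo_expansion f
    exact ⟨c, fun x => by rw [hc, finsum_eq_sum_of_fintype]⟩
  choose c hc using hex
  have huniq : ∀ (f : F →+ F) (d : (F ≃+* F) → F), (∀ x, f x = ∑ σ : F ≃+* F, d σ * σ x) → c f = d := by
    intro f d hd
    funext σ
    refine sub_eq_zero.1 (Fintype.linearIndependent_iff.1 (auts_linearIndependent (F := F))
      (fun τ => c f τ - d τ) ?_ σ)
    funext x
    simp only [Finset.sum_apply, Pi.smul_apply, smul_eq_mul, sub_mul, Finset.sum_sub_distrib, Pi.zero_apply]
    rw [sub_eq_zero]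
    exact (hc f x).symm.trans (hd x)
  let g : (F ≃+* F) → (F →+ F) := fun σ => AddMonoidHom.mk' (fun x => c (B x) σ) fun x y => by
    show c (B (x + y)) σ = c (B x) σ + c (B y) σ
    rw [huniq (B (x + y)) (c (B x) + c (B y)) fun z => ?_]
    · rfl
    · rw [map_add, AddMonoidHom.add_apply, hc, hc]
      simp [add_mul, Finset.sum_add_distrib]
  refine ⟨Finset.univ, fun p => c (g p.2) p.1, fun x y => ?_⟩
  rw [hc (B x) y, Fintype.sum_prod_type, Finset.sum_comm]
  refine Finset.sum_congr rfl fun τ _ => ?_
  show g τ x * τ y = _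
  rw [hc (g τ) x, Finset.sum_mul]
  exact Finset.sum_congr rfl fun σ _ => mul_assoc _ _ _

theorem quadratic_sum (q : F → F)
    (hq : ∀ x y z : F, q (x + y + z) + q (x + y) + q (x + z) + q (y + z) + q x + q y + q z = 0) :
    ∃ (s : Finset ((F ≃+* F) × (F ≃+* F))) (c : (F ≃+* F) × (F ≃+* F) → F),
      ∀ x : F, q x = ∑ p ∈ s, c p * (p.1 x * p.2 x) := by
  classical
  letI : Algebra (ZMod 2) F := ZMod.algebra F 2
  have : Fact (Nat.Prime 2) := ⟨Nat.prime_two⟩
  have h2 : ∀ a : F, a + a = 0 := fun a => CharTwo.add_self_eq_zero a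
  let b := Module.finBasis (ZMod 2) F
  let co : ∀ i, F →+ F := fun i =>
    (algebraMap (ZMod 2) F).toAddMonoidHom.comp (b.coord i).toAddMonoidHom
  have hco : ∀ i j, co i (b j) = if i = j then (1 : F) else 0 := by
    intro i j
    show algebraMap (ZMod 2) F (b.coord i (b j)) = _
    rw [Module.Basis.coord_apply, b.repr_self, Finsupp.single_apply]
    by_cases h : i = j
    · rw [if_pos h, if_pos h.symm, map_one]
    · rw [if_neg h, if_neg (Ne.symm h), map_zero]
  let w : Fin (Module.finrank (ZMod 2) F) → Fin (Module.finrank (ZMod 2) F) → F := fun i j =>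
    if i = j then q (b i) else if i < j then q (b i + b j) + q (b i) + q (b j) else 0
  let B : F →+ F →+ F := AddMonoidHom.mk'
    (fun x => AddMonoidHom.mk' (fun y => ∑ i, ∑ j, w i j * (co i x * co j y))
      fun y y' => by simp [mul_add, Finset.sum_add_distrib])
    fun x x' => AddMonoidHom.ext fun y => by simp [add_mul, mul_add, Finset.sum_add_distrib]
  have hB : ∀ i j, B (b i) (b j) = w i j := by
    intro i j
    show ∑ k, ∑ l, w k l * (co k (b i) * co l (b j)) = _
    rw [Finset.sum_eq_single i, Finset.sum_eq_single j]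
    · rw [hco, hco, if_pos rfl, if_pos rfl, mul_one, mul_one]
    · intro l _ hl; rw [hco l j, if_neg hl, mul_zero, mul_zero]
    · intro h; exact absurd (Finset.mem_univ j) h
    · intro k _ hk
      exact Finset.sum_eq_zero fun l _ => by rw [hco k i, if_neg hk, zero_mul, mul_zero]
    · intro h; exact absurd (Finset.mem_univ i) h
  have q0 : q 0 = 0 := by
    have := hq 0 0 0
    simp only [add_zero] at this
    rwa [h2, zero_add, h2, zero_add, h2, zero_add] at this
  let d : F → F := fun x => q x + B x x
  let D : F → F → F := fun x y => d (x + y) + d x + d y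
  have hD : ∀ x y, D x y = (q (x + y) + q x + q y) + (B x y + B y x) := by
    intro x y
    simp only [D, d, map_add, AddMonoidHom.add_apply]
    linear_combination (h2 (B x x)) + (h2 (B y y))
  have hDadd : ∀ x x' y, D (x + x') y = D x y + D x' y := by
    intro x x' y
    simp only [hD, map_add, AddMonoidHom.add_apply]
    have := hq x x' y
    linear_combination this - h2 (q (x + y)) - h2 (q x) - h2 (q (x' + y)) - h2 (q x') - h2 (q y)
      + 0 * h2 (q (x + x'))
  have hDsym : ∀ x y, D x y = D y x := fun x y => by simp only [D, add_comm x y]; abel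
  have hdiag : ∀ i, d (b i) = 0 := by
    intro i
    show q (b i) + B (b i) (b i) = 0
    rw [hB, show w i i = q (b i) from if_pos rfl]
    exact h2 _
  have hpair : ∀ i j, D (b i) (b j) = 0 := by
    intro i j
    rw [hD, hB, hB]
    rcases lt_trichotomy i j with h | rfl | h
    · rw [show w i j = q (b i + b j) + q (b i) + q (b j) from by simp [w, h, h.ne],
        show w j i = 0 from by simp [w, h.ne', h.le.not_gt], add_zero]
      exact h2 _
    · rw [h2, h2 (w i i), add_zero, q0, zero_add, h2]
    · rw [show w j i = q (b j + b i) + q (b j) + q (b i) from by simp [w, h, h.ne],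
        show w i j = 0 from by simp [w, h.ne', h.le.not_gt], zero_add, add_comm (b j) (b i)]
      linear_combination h2 (q (b i + b j)) + h2 (q (b i)) + h2 (q (b j))
  let Dh : F → (F →+ F) := fun y => AddMonoidHom.mk' (fun x => D x y) fun x x' => hDadd x x' y
  have hD0 : ∀ x y, D x y = 0 := by
    have h1 : ∀ j x, D x (b j) = 0 := fun j x => by
      have : (Dh (b j)).toZModLinearMap 2 = 0 := b.ext fun i => hpair i j
      exact LinearMap.congr_fun this x
    intro x y
    rw [hDsym]
    have : (Dh x).toZModLinearMap 2 = 0 := b.ext fun j => by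
      show D (b j) x = 0
      rw [hDsym]; exact h1 j x
    exact LinearMap.congr_fun this y
  have hdadd : ∀ x y, d (x + y) = d x + d y := by
    intro x y
    have h : d (x + y) + d x + d y = 0 := hD0 x y
    linear_combination h - h2 (d x) - h2 (d y)
  have hd0 : ∀ x, d x = 0 := by
    have : (AddMonoidHom.mk' d hdadd).toZModLinearMap 2 = 0 := b.ext fun i => hdiag i
    exact fun x => LinearMap.congr_fun this x
  obtain ⟨s, c, hc⟩ := biadditive_sum B
  refine ⟨s, c, fun x => ?_⟩
  rw [← hc]
  have h : q x + B x x = 0 := hd0 x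
  linear_combination h - h2 (B x x)

end Cfsg.Agent.Small.AdditiveEndo
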