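import Mathlib

/-!
In a large alternating group every small subgroup centralises a copy of a given alternating group.
-/

set_option autoImplicit false

namespace Cfsg.Agent.Small.AltCentralised

open MulAction

theorem exists_points {H X : Type*} [Group H] [Finite H] [MulAction H X] [Fintype X] (r : ℕ)
    (h : 2 ^ Nat.card H * (r * Nat.card H) ≤ Fintype.card X) :
    ∃ (S : Subgroup H) (x : Fin r → X), (∀ i, stabilizer H (x i) = S) ∧
      ∀ i j, x i ∈ orbit H (x j) → i = j := by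
  classical
  have := Fintype.ofFinite H
  have hsub : Fintype.card (Subgroup H) ≤ 2 ^ Nat.card H := by
    rw [Nat.card_eq_fintype_card, ← Fintype.card_set]
    exact Fintype.card_le_of_injective _ SetLike.coe_injective
  obtain ⟨S, hS⟩ := Fintype.exists_le_card_fiber_of_mul_le_card (f := fun x : X => stabilizer H x)
    (n := r * Nat.card H) ((Nat.mul_le_mul_right _ hsub).trans h)
  obtain ⟨s, hs⟩ : ∃ s, s = Finset.univ.filter (fun x : X => stabilizer H x = S) := ⟨_, rfl⟩
  rw [← hs] at hS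
  obtain ⟨q, hq⟩ : ∃ q : X → Quotient (orbitRel H X), q = Quotient.mk _ := ⟨_, rfl⟩
  have hle : s.card ≤ Nat.card H * (s.image q).card := by
    refine Finset.card_le_mul_card_image s _ fun b hb => ?_
    obtain ⟨a, -, rfl⟩ := Finset.mem_image.mp hb
    refine (Finset.card_le_card (t := (Finset.univ : Finset H).image (fun g => g • a)) fun y hy => ?_).trans
      (Finset.card_image_le.trans (by rw [Finset.card_univ, Nat.card_eq_fintype_card]))
    rw [Finset.mem_filter, hq] at hy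
    obtain ⟨g, hg⟩ := mem_orbit_iff.mp (orbitRel_apply.mp (Quotient.exact hy.2))
    exact Finset.mem_image.mpr ⟨g, Finset.mem_univ _, hg⟩
  have hr : r ≤ (s.image q).card := by
    have hpos : 0 < Nat.card H := Nat.card_pos
    refine Nat.le_of_mul_le_mul_left ?_ hpos
    rw [mul_comm]
    exact hS.trans hle
  obtain ⟨emb⟩ : Nonempty (Fin r ↪ (s.image q : Finset _)) :=
    Function.Embedding.nonempty_of_card_le (by rwa [Fintype.card_coe, Fintype.card_fin])
  choose x hx hxq using fun i => Finset.mem_image.mp (emb i).2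
  refine ⟨S, x, fun i => ?_, fun i j hij => emb.injective (Subtype.ext ?_)⟩
  · have := hx i
    rw [hs, Finset.mem_filter] at this
    exact this.2
  · rw [← hxq i, ← hxq j, hq]
    exact Quotient.sound (orbitRel_apply.mpr hij)

theorem result :
    ∃ f : ℕ → ℕ → ℕ, ∀ (m r : ℕ) (H : Subgroup ↥(alternatingGroup (Fin m))), f (Nat.card H) r ≤ m →
      ∃ K : Subgroup ↥(alternatingGroup (Fin m)), Nonempty (↥K ≃* ↥(alternatingGroup (Fin r))) ∧
        K ≤ Subgroup.centralizer (H : Set ↥(alternatingGroup (Fin m))) := by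
  classical
  refine ⟨fun n r => 2 ^ n * (r * n), fun m r H hf => ?_⟩
  have := Fintype.ofFinite H
  obtain ⟨S, x, hS, hx⟩ := exists_points (H := H) (X := Fin m) r (by simpa using hf)
  let ι₀ : Fin r × (H ⧸ S) → Fin m := fun p => Quotient.liftOn' p.2 (fun g => g • x p.1) fun a b hab => by
    have hab' : a⁻¹ * b ∈ stabilizer H (x p.1) := by
      rw [hS]
      exact QuotientGroup.leftRel_apply.mp hab
    rw [mem_stabilizer_iff, mul_smul, inv_smul_eq_iff] at hab'
    exact hab'.symm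
  have hι₀ : ∀ i (g : H), ι₀ (i, (g : H ⧸ S)) = g • x i := fun i g => rfl
  have hinj : Function.Injective ι₀ := by
    rintro ⟨i, c⟩ ⟨j, d⟩ hcd
    obtain ⟨g, rfl⟩ := QuotientGroup.mk_surjective c
    obtain ⟨k, rfl⟩ := QuotientGroup.mk_surjective d
    rw [hι₀, hι₀] at hcd
    obtain rfl : i = j := hx i j ⟨g⁻¹ * k, by
      show (g⁻¹ * k) • x j = x i
      rw [mul_smul, ← hcd, inv_smul_smul]⟩
    refine Prod.ext rfl (QuotientGroup.eq.mpr ?_)
    rw [← hS i, mem_stabilizer_iff, mul_smul, ← hcd, inv_smul_smul]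
  let ι : (Fin r × (H ⧸ S)) ↪ Fin m := ⟨ι₀, hinj⟩
  have := Fintype.ofFinite (H ⧸ S)
  let D : Equiv.Perm (Fin r) →* Equiv.Perm (Fin r × (H ⧸ S)) :=
    MonoidHom.mk' (fun σ => Equiv.prodCongrLeft fun _ : H ⧸ S => σ) fun a b => Equiv.ext fun p => rfl
  have hsign : ∀ σ : alternatingGroup (Fin r), Equiv.Perm.viaEmbeddingHom ι (D σ.1) ∈ alternatingGroup (Fin m) := by
    intro σ
    rw [Equiv.Perm.mem_alternatingGroup, Equiv.Perm.viaEmbeddingHom_apply, Equiv.Perm.viaEmbedding,
      Equiv.Perm.sign_extendDomain]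
    show Equiv.Perm.sign (Equiv.prodCongrLeft fun _ : H ⧸ S => σ.1) = 1
    rw [Equiv.Perm.sign_prodCongrLeft]
    exact Finset.prod_eq_one fun _ _ => Equiv.Perm.mem_alternatingGroup.mp σ.2
  let ψ : alternatingGroup (Fin r) →* alternatingGroup (Fin m) :=
    ((Equiv.Perm.viaEmbeddingHom ι).comp (D.comp (alternatingGroup (Fin r)).subtype)).codRestrict _ hsign
  rcases Nat.eq_zero_or_pos (Nat.card (H ⧸ S)) with h0 | hpos
  · exact absurd h0 Nat.card_pos.ne'
  have hψ : Function.Injective ψ := by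
    intro a b hab
    have h1 : D a.1 = D b.1 := Equiv.Perm.viaEmbeddingHom_injective ι (congrArg Subtype.val hab)
    refine Subtype.ext (Equiv.ext fun i => ?_)
    exact congrArg (fun e : Equiv.Perm (Fin r × (H ⧸ S)) => (e (i, ((1 : H) : H ⧸ S))).1) h1
  refine ⟨ψ.range, ⟨(MonoidHom.ofInjective hψ).symm⟩, ?_⟩
  rintro _ ⟨σ, rfl⟩
  rw [Subgroup.mem_centralizer_iff]
  intro h hh
  refine Subtype.ext (Equiv.ext fun z => ?_)
  show h.1 ((ψ σ).1 z) = (ψ σ).1 (h.1 z)
  have hact : ∀ y : Fin m, (⟨h, hh⟩ : H) • y = h.1 y := fun y => rfl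
  have hψv : ∀ y, (ψ σ).1 y = Equiv.Perm.viaEmbedding (D σ.1) ι y := fun y => rfl
  rw [hψv, hψv]
  by_cases hz : z ∈ Set.range ι
  · obtain ⟨⟨i, c⟩, rfl⟩ := hz
    obtain ⟨g, rfl⟩ := QuotientGroup.mk_surjective c
    have h1 : ∀ j, h.1 (ι (j, (g : H ⧸ S))) = ι (j, ((⟨h, hh⟩ * g : H) : H ⧸ S)) := fun j => by
      show h.1 (g • x j) = ((⟨h, hh⟩ : H) * g) • x j
      rw [mul_smul, hact]
    rw [Equiv.Perm.viaEmbedding_apply, h1 i, Equiv.Perm.viaEmbedding_apply]
    exact h1 _
  · have hz' : h.1 z ∉ Set.range ι := by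
      rintro ⟨⟨i, c⟩, hic⟩
      obtain ⟨g, rfl⟩ := QuotientGroup.mk_surjective c
      refine hz ⟨(i, (((⟨h, hh⟩ : H)⁻¹ * g : H) : H ⧸ S)), ?_⟩
      show ((⟨h, hh⟩ : H)⁻¹ * g) • x i = z
      rw [mul_smul, show g • x i = h.1 z from hic, ← hact, inv_smul_smul]
    rw [Equiv.Perm.viaEmbedding_apply_of_notMem _ _ _ hz, Equiv.Perm.viaEmbedding_apply_of_notMem _ _ _ hz']

end Cfsg.Agent.Small.AltCentralised
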