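import Cfsg.Agent.Lib.Small.AltCoverData

/-!
A perfect central extension of the alternating group of degree seven with kernel of order six, as a group of
permutations of 2520 * 6 points commuting with a transitive set of maps, and its restriction to degree six.
-/

set_option autoImplicit false
set_option maxRecDepth 100000

open scoped commutatorElement

namespace Cfsg.Agent.Small.AltCover

/-- A row of the table. -/
def row (e : ℕ) : ℕ := (((tbl.getD (e / 256) []).getD (e % 256 / 16) []).getD (e % 16) 0)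

/-- A field of a row. -/
def fld (e off w : ℕ) : ℕ := row e / 2 ^ off % 2 ^ w

/-- Left multiplication by a generator. -/
def lN (j e : ℕ) : ℕ := fld e (12 * j) 12

/-- Its inverse. -/
def iN (j e : ℕ) : ℕ := fld e (24 + 12 * j) 12

/-- Right multiplication by a generator. -/
def rN (j e : ℕ) : ℕ := fld e (48 + 12 * j) 12

/-- The predecessor, with the generator leading from it. -/
def parN (e : ℕ) : ℕ := fld e 72 13

/-- The left cocycle. -/
def cN (j e : ℕ) : ℕ := fld e (85 + 3 * j) 3

/-- The right cocycle. -/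
def dN (j e : ℕ) : ℕ := fld e (91 + 3 * j) 3

/-- The code of a permutation of seven points. -/
def code (e : ℕ) : ℕ := fld e 97 21

/-- A digit of the code. -/
def dgt (e i : ℕ) : ℕ := code e / 8 ^ i % 8

/-- An ordering of the rows by their code. -/
def srt (e : ℕ) : ℕ := fld e 118 12

/-- The images under the two generators of degree seven. -/
def genN (j i : ℕ) : ℕ := ([[1, 2, 0, 3, 4, 5, 6], [0, 1, 3, 4, 5, 6, 2]].getD j []).getD i 0

/-- All the conditions on a row. -/
def rowOK (e : ℕ) : Bool :=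
  ([0, 1].all fun j =>
    Nat.blt (lN j e) 2520 && Nat.blt (iN j e) 2520 && Nat.blt (rN j e) 2520 &&
    Nat.beq (iN j (lN j e)) e && Nat.beq (lN j (iN j e)) e &&
    ([0, 1].all fun g =>
      Nat.beq (lN g (rN j e)) (rN j (lN g e)) &&
      Nat.beq ((dN j e + cN g (rN j e)) % 6) ((cN g e + dN j (lN g e)) % 6)) &&
    ((List.range 7).all fun i => Nat.beq (dgt (lN j e) i) (genN j (dgt e i)))) &&
  ((List.range 7).all fun i => Nat.blt (dgt e i) 7) &&
  Nat.blt (srt e) 2520 &&
  (Nat.beq e 0 || (Nat.blt (parN e / 2) e && Nat.beq (rN (parN e % 2) (parN e / 2)) e)) &&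
  (Nat.beq e 2519 || Nat.blt (code (srt e)) (code (srt (e + 1))))

theorem rows_ok : (List.range 2520).all rowOK = true := by decide +kernel

theorem origin_ok : (([0, 1].all fun j => Nat.beq (rN j 0) (lN j 0) && Nat.beq (dN j 0) (cN j 0)) &&
    ((List.range 7).all fun i => Nat.beq (dgt 0 i) i)) = true := by decide +kernel

theorem row_facts (e : ℕ) (he : e < 2520) :
    (∀ j, j < 2 → lN j e < 2520 ∧ iN j e < 2520 ∧ rN j e < 2520 ∧ iN j (lN j e) = e ∧ lN j (iN j e) = e ∧
      (∀ g, g < 2 → lN g (rN j e) = rN j (lN g e) ∧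
        (dN j e + cN g (rN j e)) % 6 = (cN g e + dN j (lN g e)) % 6) ∧
      (∀ i, i < 7 → dgt (lN j e) i = genN j (dgt e i))) ∧
    (∀ i, i < 7 → dgt e i < 7) ∧ srt e < 2520 ∧
    (e = 0 ∨ (parN e / 2 < e ∧ rN (parN e % 2) (parN e / 2) = e)) ∧
    (e = 2519 ∨ code (srt e) < code (srt (e + 1))) := by
  have h := List.all_eq_true.1 rows_ok e (List.mem_range.2 he)
  simp only [rowOK, Bool.and_eq_true, Bool.or_eq_true, List.all_eq_true, List.mem_range, Nat.beq_eq,
    Nat.blt_eq] at h
  obtain ⟨⟨⟨⟨h1, h2⟩, h3⟩, h4⟩, h5⟩ := h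
  refine ⟨fun j hj => ?_, h2, h3, h4, h5⟩
  obtain ⟨⟨⟨⟨⟨⟨a1, a2⟩, a3⟩, a4⟩, a5⟩, a6⟩, a7⟩ := h1 j (by
    obtain rfl | rfl : j = 0 ∨ j = 1 := by omega
    · simp
    · simp)
  exact ⟨a1, a2, a3, a4, a5, fun g hg => a6 g (by
    obtain rfl | rfl : g = 0 ∨ g = 1 := by omega
    · simp
    · simp), a7⟩

theorem origin_facts : (∀ j, j < 2 → rN j 0 = lN j 0 ∧ dN j 0 = cN j 0) ∧ ∀ i, i < 7 → dgt 0 i = i := by
  have h := origin_ok
  simp only [Bool.and_eq_true, List.all_eq_true, List.mem_range, Nat.beq_eq] at h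
  exact ⟨fun j hj => h.1 j (by
    obtain rfl | rfl : j = 0 ∨ j = 1 := by omega
    · simp
    · simp), h.2⟩

/-- The points. -/
abbrev Pt := Fin 2520 × ZMod 6

/-- Left multiplication as a map of points. -/
def lMap (j : Fin 2) (q : Pt) : Pt :=
  (⟨lN j q.1, ((row_facts q.1 q.1.2).1 j j.2).1⟩, q.2 + (cN j q.1 : ZMod 6))

/-- Its inverse. -/
def iMap (j : Fin 2) (q : Pt) : Pt :=
  (⟨iN j q.1, ((row_facts q.1 q.1.2).1 j j.2).2.1⟩, q.2 - (cN j (iN j q.1) : ZMod 6))

/-- Right multiplication as a map of points. -/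
def rMap (j : Fin 2) (q : Pt) : Pt :=
  (⟨rN j q.1, ((row_facts q.1 q.1.2).1 j j.2).2.2.1⟩, q.2 + (dN j q.1 : ZMod 6))

/-- Left multiplication by a generator as a permutation. -/
def lPerm (j : Fin 2) : Equiv.Perm Pt where
  toFun := lMap j
  invFun := iMap j
  left_inv q := by
    have h := ((row_facts q.1 q.1.2).1 j j.2).2.2.2.1
    refine Prod.ext (Fin.ext ?_) ?_
    · exact h
    · show q.2 + _ - (cN j (iN j (lN j q.1)) : ZMod 6) = q.2
      rw [h, add_sub_cancel_right]
  right_inv q := by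
    have h := ((row_facts q.1 q.1.2).1 j j.2).2.2.2.2.1
    refine Prod.ext (Fin.ext ?_) ?_
    · exact h
    · show q.2 - _ + (cN j (iN j q.1) : ZMod 6) = q.2
      rw [sub_add_cancel]

/-- The covering group. -/
abbrev P : Subgroup (Equiv.Perm Pt) := Subgroup.closure (Set.range lPerm)

/-- The base point. -/
def base : Pt := (⟨0, by norm_num⟩, 0)

/-- The permutation of seven points attached to a row, as a map. -/
def img (e : Fin 2520) (i : Fin 7) : Fin 7 := ⟨dgt e i, (row_facts e e.2).2.1 i i.2⟩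

/-- A property of all elements of the covering group from the two generators. -/
theorem induct {Q : Equiv.Perm Pt → Prop} (h1 : Q 1) (hg : ∀ j, Q (lPerm j))
    (hm : ∀ g h, Q g → Q h → Q (g * h)) {g : Equiv.Perm Pt} (hP : g ∈ P) : Q g := by
  have hmem : g ∈ Submonoid.closure (Set.range lPerm) := by
    rw [← Subgroup.closure_toSubmonoid_of_finite]
    exact hP
  clear hP
  induction hmem using Submonoid.closure_induction with
  | mem x hx => obtain ⟨j, rfl⟩ := hx; exact hg j
  | one => exact h1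
  | mul x y _ _ hx hy => exact hm x y hx hy

/-- Shifting the second coordinate. -/
def shift (k : ZMod 6) : Equiv.Perm Pt := (Equiv.refl _).prodCongr (Equiv.addRight k)

theorem shift_apply (k : ZMod 6) (q : Pt) : shift k q = (q.1, q.2 + k) := rfl

theorem comm_shift {g : Equiv.Perm Pt} (hg : g ∈ P) : ∀ k q, g (shift k q) = shift k (g q) := by
  refine induct (Q := fun g => ∀ k q, g (shift k q) = shift k (g q)) (fun _ _ => rfl) (fun j k q => ?_) (fun g h hg hh k q => ?_) hg
  · show lMap j _ = shift k (lMap j q)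
    simp only [shift_apply, lMap]
    exact Prod.ext rfl (by simp only; abel)
  · rw [Equiv.Perm.mul_apply, Equiv.Perm.mul_apply, hh, hg]

theorem comm_right {g : Equiv.Perm Pt} (hg : g ∈ P) : ∀ j q, g (rMap j q) = rMap j (g q) := by
  refine induct (Q := fun g => ∀ j q, g (rMap j q) = rMap j (g q)) (fun _ _ => rfl) (fun g j q => ?_) (fun g h hg hh j q => ?_) hg
  · show lMap g _ = rMap j (lMap g q)
    obtain ⟨e1, e2⟩ := ((row_facts q.1 q.1.2).1 j j.2).2.2.2.2.2.1 g g.2
    refine Prod.ext (Fin.ext e1) ?_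
    show q.2 + _ + (cN g (rN j q.1) : ZMod 6) = q.2 + _ + (dN j (lN g q.1) : ZMod 6)
    rw [add_assoc, add_assoc, ← Nat.cast_add, ← Nat.cast_add, (ZMod.natCast_eq_natCast_iff' _ _ _).2 e2]
  · rw [Equiv.Perm.mul_apply, Equiv.Perm.mul_apply, hh, hg]

/-- An element of the group is determined by the image of the base point. -/
theorem semiregular {g h : Equiv.Perm Pt} (hg : g ∈ P) (hh : h ∈ P) (e : g base = h base) : g = h := by
  have key : ∀ n, ∀ hn : n < 2520, ∀ k : ZMod 6, g (⟨n, hn⟩, k) = h (⟨n, hn⟩, k) := by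
    intro n
    induction n using Nat.strong_induction_on with
    | _ n ih =>
      intro hn k
      rcases (row_facts n hn).2.2.2.1 with rfl | ⟨hlt, hpar⟩
      · have : ((⟨0, hn⟩, k) : Pt) = shift k base := by simp [shift_apply, base]
        rw [this, comm_shift hg, comm_shift hh, e]
      · obtain ⟨j, hj⟩ : ∃ j : Fin 2, (j : ℕ) = parN n % 2 := ⟨⟨_, Nat.mod_lt _ two_pos⟩, rfl⟩
        have hn' : parN n / 2 < 2520 := by omega
        have : ((⟨n, hn⟩, k) : Pt) = rMap j (⟨parN n / 2, hn'⟩, k - (dN j (parN n / 2) : ZMod 6)) := by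
          refine Prod.ext (Fin.ext ?_) ?_
          · show n = rN j (parN n / 2)
            rw [hj, hpar]
          · show k = k - _ + (dN j (parN n / 2) : ZMod 6)
            rw [sub_add_cancel]
        rw [this, comm_right hg, comm_right hh, ih _ hlt hn']
  exact Equiv.ext fun q => key q.1 q.1.2 q.2

/-- Every row is met by the orbit of the base point. -/
theorem orbit (n : ℕ) (hn : n < 2520) : ∃ g ∈ P, (g base).1 = ⟨n, hn⟩ := by
  induction n using Nat.strong_induction_on with
  | _ n ih =>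
    rcases (row_facts n hn).2.2.2.1 with rfl | ⟨hlt, hpar⟩
    · exact ⟨1, one_mem _, rfl⟩
    · obtain ⟨j, hj⟩ : ∃ j : Fin 2, (j : ℕ) = parN n % 2 := ⟨⟨_, Nat.mod_lt _ two_pos⟩, rfl⟩
      obtain ⟨g, hg, e⟩ := ih _ hlt (by omega)
      refine ⟨g * lPerm j, mul_mem hg (Subgroup.subset_closure ⟨j, rfl⟩), Fin.ext ?_⟩
      have e0 : lPerm j base = rMap j base := by
        obtain ⟨a1, a2⟩ := origin_facts.1 j j.2
        show lMap j base = rMap j base
        refine Prod.ext (Fin.ext a1.symm) ?_
        show (0 : ZMod 6) + (cN j 0 : ZMod 6) = 0 + (dN j 0 : ZMod 6)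
        rw [a2]
      rw [Equiv.Perm.mul_apply, e0, comm_right hg]
      show rN j ((g base).1 : ℕ) = n
      rw [congrArg Fin.val e, hj]
      exact hpar

/-- The first generator of degree seven. -/
def genP : Fin 2 → Equiv.Perm (Fin 7) :=
  ![Equiv.swap 0 1 * Equiv.swap 1 2, Equiv.swap 2 3 * Equiv.swap 3 4 * Equiv.swap 4 5 * Equiv.swap 5 6]

theorem genP_spec : ∀ j : Fin 2, Equiv.Perm.sign (genP j) = 1 ∧ ∀ i : Fin 7, (genP j i : ℕ) = genN j i := by
  decide +kernel

theorem exists_image {g : Equiv.Perm Pt} (hg : g ∈ P) :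
    ∃ σ : alternatingGroup (Fin 7), ∀ q i, img (g q).1 i = (σ : Equiv.Perm (Fin 7)) (img q.1 i) := by
  refine induct (Q := fun g => ∃ σ : alternatingGroup (Fin 7), ∀ q i, img (g q).1 i = (σ : Equiv.Perm (Fin 7)) (img q.1 i))
    ⟨1, fun _ _ => rfl⟩ (fun j => ⟨⟨genP j, (genP_spec j).1⟩, fun q i => Fin.ext ?_⟩)
    (fun g h ⟨σ, hσ⟩ ⟨τ, hτ⟩ => ⟨σ * τ, fun q i => ?_⟩) hg
  · show dgt (lN j q.1) i = (genP j (img q.1 i) : ℕ)
    rw [((row_facts q.1 q.1.2).1 j j.2).2.2.2.2.2.2 i i.2, (genP_spec j).2]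
    rfl
  · rw [Equiv.Perm.mul_apply, hσ, hτ]
    rfl

theorem img_zero (i : Fin 7) : img base.1 i = i := Fin.ext (origin_facts.2 i i.2)

/-- The map to the alternating group. -/
noncomputable def phi : P →* alternatingGroup (Fin 7) :=
  MonoidHom.mk' (fun g => (exists_image g.2).choose) fun g h => by
    refine Subtype.ext (Equiv.ext fun i => ?_)
    have e := (exists_image (g * h).2).choose_spec base i
    rw [img_zero] at e
    rw [← e, Subgroup.coe_mul, Subgroup.coe_mul, Equiv.Perm.mul_apply, Equiv.Perm.mul_apply,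
      (exists_image g.2).choose_spec, (exists_image h.2).choose_spec, img_zero]

theorem phi_apply (g : P) (i : Fin 7) : (phi g : Equiv.Perm (Fin 7)) i = img ((g : Equiv.Perm Pt) base).1 i := by
  have e := (exists_image g.2).choose_spec base i
  rw [img_zero] at e
  exact e.symm

theorem code_sum (e : Fin 2520) :
    code e = (img e 0 : ℕ) + 8 * (img e 1 : ℕ) + 64 * (img e 2 : ℕ) + 512 * (img e 3 : ℕ) + 4096 * (img e 4 : ℕ) +
      32768 * (img e 5 : ℕ) + 262144 * (img e 6 : ℕ) := by
  have h : code e < 2 ^ 21 := Nat.mod_lt _ (Nat.two_pow_pos 21)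
  show code e = dgt e 0 + 8 * dgt e 1 + 64 * dgt e 2 + 512 * dgt e 3 + 4096 * dgt e 4 + 32768 * dgt e 5 +
    262144 * dgt e 6
  simp only [dgt]
  norm_num at h ⊢
  omega

theorem img_injective : Function.Injective img := by
  have hmono : StrictMono fun i : Fin 2520 => code (srt i) := by
    refine Fin.strictMono_iff_lt_succ.2 fun i => ?_
    rcases (row_facts i (by omega)).2.2.2.2 with h | h
    · exact absurd i.2 (by omega)
    · simpa using h
  have hs : Function.Injective fun i : Fin 2520 => (⟨srt i, (row_facts i i.2).2.2.1⟩ : Fin 2520) :=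
    fun a b h => hmono.injective (congrArg (fun x : Fin 2520 => code x) h)
  have hb := hs.bijective_of_finite
  intro x y hxy
  obtain ⟨a, rfl⟩ := hb.2 x
  obtain ⟨b, rfl⟩ := hb.2 y
  have := code_sum (⟨srt a, (row_facts a a.2).2.2.1⟩ : Fin 2520)
  rw [hxy, ← code_sum] at this
  rw [hmono.injective this]

theorem card_alt_seven : Nat.card (alternatingGroup (Fin 7)) = 2520 := by
  rw [nat_card_alternatingGroup, Nat.card_fin]; rfl

theorem phi_surjective : Function.Surjective phi := by
  rw [← MonoidHom.range_eq_top]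
  refine Subgroup.eq_top_of_card_eq _ (le_antisymm (Subgroup.card_le_card_group _) ?_)
  rw [card_alt_seven]
  choose g hg e using fun n : Fin 2520 => orbit n n.2
  have hinj : Function.Injective fun n : Fin 2520 =>
      (⟨phi ⟨g n, hg n⟩, ⟨_, rfl⟩⟩ : phi.range) := by
    intro a b h
    refine img_injective (funext fun i => ?_)
    have h' := congrArg (fun x : phi.range => ((x : alternatingGroup (Fin 7)) : Equiv.Perm (Fin 7)) i) h
    simp only [phi_apply, e] at h'
    simpa using h'
  simpa using Nat.card_le_card_of_injective _ hinj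

theorem phi_ker (g : P) : g ∈ phi.ker ↔ ∃ k, (g : Equiv.Perm Pt) = shift k := by
  constructor
  · intro h
    have h0 : ((g : Equiv.Perm Pt) base).1 = base.1 := img_injective (funext fun i => by
      rw [← phi_apply, MonoidHom.mem_ker.1 h, img_zero]; rfl)
    refine ⟨((g : Equiv.Perm Pt) base).2, Equiv.ext fun q => ?_⟩
    have key : ∀ n, ∀ hn : n < 2520, ∀ k : ZMod 6, (g : Equiv.Perm Pt) (⟨n, hn⟩, k) =
        shift ((g : Equiv.Perm Pt) base).2 (⟨n, hn⟩, k) := by
      intro n
      induction n using Nat.strong_induction_on with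
      | _ n ih =>
        intro hn k
        rcases (row_facts n hn).2.2.2.1 with rfl | ⟨hlt, hpar⟩
        · have : ((⟨0, hn⟩, k) : Pt) = shift k base := by simp [shift_apply, base]
          rw [this, comm_shift g.2]
          simp only [shift_apply, h0]
          exact Prod.ext rfl (by simp [base, add_comm])
        · obtain ⟨j, hj⟩ : ∃ j : Fin 2, (j : ℕ) = parN n % 2 := ⟨⟨_, Nat.mod_lt _ two_pos⟩, rfl⟩
          have hn' : parN n / 2 < 2520 := by omega
          have : ((⟨n, hn⟩, k) : Pt) = rMap j (⟨parN n / 2, hn'⟩, k - (dN j (parN n / 2) : ZMod 6)) := by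
            refine Prod.ext (Fin.ext ?_) ?_
            · show n = rN j (parN n / 2)
              rw [hj, hpar]
            · show k = k - _ + (dN j (parN n / 2) : ZMod 6)
              rw [sub_add_cancel]
          rw [this, comm_right g.2, ih _ hlt hn']
          simp only [shift_apply, rMap]
          exact Prod.ext rfl (by simp only; abel)
    exact key q.1 q.1.2 q.2
  · rintro ⟨k, hk⟩
    refine Subtype.ext (Equiv.ext fun i => ?_)
    rw [phi_apply, hk]
    exact img_zero i

theorem phi_ker_center : phi.ker ≤ Subgroup.center P := by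
  intro g hg
  obtain ⟨k, hk⟩ := (phi_ker g).1 hg
  rw [Subgroup.mem_center_iff]
  refine fun h => Subtype.ext (Equiv.ext fun q => ?_)
  rw [Subgroup.coe_mul, Subgroup.coe_mul, hk, Equiv.Perm.mul_apply, Equiv.Perm.mul_apply, comm_shift h.2]

end Cfsg.Agent.Small.AltCover
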