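import Mathlib
import Cfsg.Prelude.Def_KGroupFacts
import Cfsg.Agent.Lib.Solv.SchurSmall
import Cfsg.Agent.Lib.Solv.StemSylowLocal

/-!
The kernel of a stem extension of a group of order dividing 2^3 3^2 5 7 with dihedral Sylow 2 subgroups and
elementary abelian Sylow 3 subgroups is cyclic of order dividing six.
-/

set_option autoImplicit false

open scoped commutatorElement

namespace Cfsg.Agent.Small.AltMult

variable {Γ Q : Type*} [Group Γ] [Group Q] [Finite Γ]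

/-- The central elements of p-power order lying in the derived group lie in every derived Sylow subgroup. -/
theorem mem_derived_sylow {p : ℕ} [Fact p.Prime] (P : Sylow p Γ) {z : Γ} (hz : z ∈ Subgroup.center Γ)
    (hd : z ∈ commutator Γ) {m : ℕ} (hm : z ^ p ^ m = 1) :
    ∃ h : z ∈ (P : Subgroup Γ), (⟨z, h⟩ : (P : Subgroup Γ)) ∈ commutator (P : Subgroup Γ) := by
  have hzc : ∀ g : Γ, g * z = z * g := Subgroup.mem_center_iff.1 hz
  haveI : (Subgroup.zpowers z).Normal := ⟨fun x hx g => by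
    have hx' := Subgroup.zpowers_le.2 hz hx
    rwa [Subgroup.mem_center_iff.1 hx' g, mul_inv_cancel_right]⟩
  have hpg : IsPGroup p (Subgroup.zpowers z) := by
    intro x
    obtain ⟨i, hi⟩ := Subgroup.mem_zpowers_iff.1 x.2
    refine ⟨m, Subtype.ext ?_⟩
    rw [SubmonoidClass.coe_pow, OneMemClass.coe_one, ← hi, ← zpow_natCast, ← zpow_mul, mul_comm, zpow_mul,
      zpow_natCast, hm, one_zpow]
  have hzP : z ∈ (P : Subgroup Γ) := by
    obtain ⟨Q', hQ⟩ := hpg.exists_le_sylow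
    obtain ⟨g, hg⟩ := MulAction.exists_smul_eq Γ Q' P
    rw [← hg, Sylow.coe_subgroup_smul]
    refine ⟨z, hQ (Subgroup.mem_zpowers _), ?_⟩
    show g * z * g⁻¹ = z
    rw [hzc, mul_inv_cancel_right]
  refine ⟨hzP, ?_⟩
  haveI : (P : Subgroup Γ).FiniteIndex := inferInstance
  have ht := MonoidHom.transfer_eq_pow (Abelianization.of (G := (P : Subgroup Γ))) z (fun k g _ => by
    rw [mul_assoc, ← (Commute.pow_right (show Commute g z from hzc g) k).eq, inv_mul_cancel_left])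
  have hker : z ∈ (MonoidHom.transfer (Abelianization.of (G := (P : Subgroup Γ)))).ker :=
    Abelianization.commutator_subset_ker _ hd
  rw [MonoidHom.mem_ker, ht] at hker
  have hmem := (QuotientGroup.eq_one_iff _).mp hker
  have hcop : (orderOf (⟨z, hzP⟩ : (P : Subgroup Γ))).Coprime (P : Subgroup Γ).index := by
    refine Nat.Coprime.coprime_dvd_left (?_ : _ ∣ p ^ m) ?_
    · rw [← Subgroup.orderOf_coe]
      exact orderOf_dvd_of_pow_eq_one hm
    · exact ((Nat.Prime.coprime_iff_not_dvd (Fact.out : p.Prime)).2 P.not_dvd_index).pow_left m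
  obtain ⟨k, hk⟩ := exists_pow_eq_self_of_coprime (x := (⟨z, hzP⟩ : (P : Subgroup Γ))) hcop.symm
  rw [← hk]
  exact pow_mem hmem k

/-- The derived group of a two-generated preimage. -/
theorem comm_le_zpowers (σ : Γ →* Q) (hc : σ.ker ≤ Subgroup.center Γ) (R S w : Γ) (hw : w = S * R * S⁻¹ * R⁻¹)
    (hR : R * w * R⁻¹ ∈ Subgroup.zpowers w) (hS : S * w * S⁻¹ ∈ Subgroup.zpowers w) :
    ⁅Subgroup.closure ({R, S} : Set Γ) ⊔ σ.ker, Subgroup.closure ({R, S} : Set Γ) ⊔ σ.ker⁆ ≤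
      Subgroup.zpowers w := by
  obtain ⟨D, hD⟩ : ∃ D : Subgroup Γ, D = Subgroup.closure {R, S} ⊔ σ.ker := ⟨_, rfl⟩
  rw [← hD]
  have hRD : R ∈ D := hD ▸ Subgroup.mem_sup_left (Subgroup.subset_closure (Or.inl rfl))
  have hSD : S ∈ D := hD ▸ Subgroup.mem_sup_left (Subgroup.subset_closure (Or.inr rfl))
  have hnorm : D ≤ Subgroup.normalizer ((Subgroup.zpowers w : Subgroup Γ) : Set Γ) := by
    have hfix : ∀ g, g * w * g⁻¹ ∈ Subgroup.zpowers w →
        g ∈ Subgroup.normalizer ((Subgroup.zpowers w : Subgroup Γ) : Set Γ) := by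
      intro g hg
      have hle : (Subgroup.zpowers w).map (MulAut.conj g).toMonoidHom ≤ Subgroup.zpowers w := by
        rw [MonoidHom.map_zpowers, Subgroup.zpowers_le]
        exact hg
      have heq := Subgroup.eq_of_le_of_card_ge hle (le_of_eq
        (Nat.card_congr (Subgroup.equivMapOfInjective _ _ (MulAut.conj g).injective).toEquiv))
      refine Subgroup.mem_normalizer_iff.2 fun x => ⟨fun hx => ?_, fun hx => ?_⟩
      · exact hle ⟨x, hx, rfl⟩
      · obtain ⟨y, hy, e⟩ := heq.ge hx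
        rwa [← show y = x from (MulAut.conj g).injective e]
    rw [hD, sup_le_iff, Subgroup.closure_le]
    refine ⟨?_, fun k hk => hfix k ?_⟩
    · rintro g (rfl | rfl)
      · exact hfix _ hR
      · exact hfix _ hS
    · rw [← Subgroup.mem_center_iff.1 (hc hk) w, mul_inv_cancel_right]
      exact Subgroup.mem_zpowers w
  haveI hN : ((Subgroup.zpowers w).subgroupOf D).Normal :=
    ⟨fun v hv g => (Subgroup.mem_normalizer_iff.mp (hnorm g.2) v.1).mp hv⟩
  have hcD : commutator D ≤ (Subgroup.zpowers w).subgroupOf D := by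
    refine Cfsg.Agent.Solv.commutator_le_of_gen _ {u : D | (u : Γ) = R ∨ (u : Γ) = S} ?_ ?_
    · refine top_le_iff.mp fun u _ => ?_
      obtain ⟨K, hK⟩ : ∃ K, K = (Subgroup.closure {u : D | (u : Γ) = R ∨ (u : Γ) = S} ⊔
          Subgroup.center D).map D.subtype := ⟨_, rfl⟩
      have : D ≤ K := by
        conv_lhs => rw [hD]
        rw [sup_le_iff, Subgroup.closure_le]
        refine ⟨?_, fun k hk => ?_⟩
        · rintro g (rfl | rfl)
          · exact hK ▸ ⟨⟨g, hRD⟩, Subgroup.mem_sup_left (Subgroup.subset_closure (Or.inl rfl)), rfl⟩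
          · exact hK ▸ ⟨⟨g, hSD⟩, Subgroup.mem_sup_left (Subgroup.subset_closure (Or.inr rfl)), rfl⟩
        · exact hK ▸ ⟨⟨k, hD ▸ Subgroup.mem_sup_right hk⟩, Subgroup.mem_sup_right
            (Subgroup.mem_center_iff.mpr fun v => Subtype.ext (Subgroup.mem_center_iff.1 (hc hk) v)), rfl⟩
      obtain ⟨v, hv, e⟩ := hK ▸ this u.2
      exact Subtype.ext e ▸ hv
    · intro u hu v hv
      rw [Subgroup.mem_subgroupOf]
      rcases hu with hu | hu <;> rcases hv with hv | hv <;>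
        simp only [commutatorElement_def, Subgroup.coe_mul, Subgroup.coe_inv, hu, hv]
      · simp
      · rw [show R * S * R⁻¹ * S⁻¹ = w⁻¹ by rw [hw]; group]
        exact inv_mem (Subgroup.mem_zpowers w)
      · rw [← hw]; exact Subgroup.mem_zpowers w
      · simp
  rw [← Subgroup.map_subtype_commutator]
  exact (Subgroup.map_mono hcD).trans (Subgroup.map_le_iff_le_comap.2 le_rfl)

variable [Finite Q]

/-- Kernel elements of p-power order lie in the derived group of the preimage of a Sylow subgroup. -/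
theorem ker_mem (σ : Γ →* Q) (hσ : Cfsg.IsStemExtension σ) {p : ℕ} [Fact p.Prime] (r s : Q) (R S : Γ)
    (hR : σ R = r) (hS : σ S = s) (K : Subgroup Q) (hK : IsPGroup p K) (hidx : ¬ p ∣ K.index)
    (hKle : K ≤ Subgroup.closure {r, s}) {z : Γ} (hz : z ∈ σ.ker) {m : ℕ} (hm : z ^ p ^ m = 1) :
    z ∈ ⁅Subgroup.closure ({R, S} : Set Γ) ⊔ σ.ker, Subgroup.closure ({R, S} : Set Γ) ⊔ σ.ker⁆ := by
  obtain ⟨hs, hc, hd⟩ := hσ
  subst hR; subst hS
  obtain ⟨P⟩ := (inferInstance : Nonempty (Sylow p Γ))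
  obtain ⟨γ, hγ⟩ := Cfsg.Agent.Solv.StemLocal.image_conj σ hs hc P K hK hidx
  obtain ⟨D, hD⟩ : ∃ D : Subgroup Γ, D = Subgroup.closure {R, S} ⊔ σ.ker := ⟨_, rfl⟩
  rw [← hD]
  have hin : (P : Subgroup Γ).map (MulAut.conj γ).toMonoidHom ≤ D := by
    rintro _ ⟨u, hu, rfl⟩
    have := hKle (hγ u hu)
    rw [← Set.image_pair, ← MonoidHom.map_closure] at this
    obtain ⟨v, hv, e⟩ := this
    show γ * u * γ⁻¹ ∈ D
    rw [hD, show γ * u * γ⁻¹ = v * (v⁻¹ * (γ * u * γ⁻¹)) by group]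
    refine mul_mem (Subgroup.mem_sup_left hv) (Subgroup.mem_sup_right ?_)
    rw [MonoidHom.mem_ker, map_mul, map_inv, e, inv_mul_cancel]
  obtain ⟨hzP, hzc⟩ := mem_derived_sylow P (hc hz) (hd hz) hm
  have h1 : z ∈ ⁅(P : Subgroup Γ), (P : Subgroup Γ)⁆ := by
    rw [← Subgroup.map_subtype_commutator]
    exact ⟨_, hzc, rfl⟩
  have h2 : γ * z * γ⁻¹ ∈ ⁅(P : Subgroup Γ).map (MulAut.conj γ).toMonoidHom,
      (P : Subgroup Γ).map (MulAut.conj γ).toMonoidHom⁆ := by
    rw [← Subgroup.map_commutator]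
    exact ⟨z, h1, rfl⟩
  rw [Subgroup.mem_center_iff.1 (hc hz) γ, mul_inv_cancel_right] at h2
  exact Subgroup.commutator_mono hin hin h2

/-- The dihedral case. -/
theorem two_part (σ : Γ →* Q) (hσ : Cfsg.IsStemExtension σ) {r s : Q} (hr : orderOf r = 4) (hs2 : s * s = 1)
    (hrs : s * r = r ^ 3 * s) (K : Subgroup Q) (hK : IsPGroup 2 K) (hidx : ¬ 2 ∣ K.index)
    (hKle : K ≤ Subgroup.closure {r, s}) :
    ∃ v : Γ, v ^ 2 = 1 ∧ ∀ z ∈ σ.ker, ∀ m : ℕ, z ^ 2 ^ m = 1 → z ∈ Subgroup.zpowers v := by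
  obtain ⟨hs, hc, hd⟩ := id hσ
  obtain ⟨R, rfl⟩ := hs r
  obtain ⟨S, rfl⟩ := hs s
  have cen : ∀ k, σ k = 1 → ∀ u : Γ, Commute k u := fun k hk u => (Subgroup.mem_center_iff.1 (hc hk) u).symm
  obtain ⟨z, hz, ez⟩ : ∃ z, σ z = 1 ∧ S * R * S⁻¹ = R ^ 3 * z :=
    ⟨(R ^ 3)⁻¹ * (S * R * S⁻¹), by simp [hrs], (mul_inv_cancel_left _ _).symm⟩
  obtain ⟨w, hw⟩ : ∃ w, w = S * R * S⁻¹ * R⁻¹ := ⟨_, rfl⟩
  have hw' : w = R ^ 2 * z := by rw [hw, ez, mul_assoc, (cen z hz R⁻¹).eq]; group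
  have hRw : R * w * R⁻¹ = w := by
    rw [hw', ← mul_assoc, ← pow_succ', pow_succ, mul_assoc, mul_assoc, ← mul_assoc R z, ← (cen z hz R).eq,
      mul_inv_cancel_right]
  have hSw : S * w * S⁻¹ = w ^ 3 := by
    rw [hw', show S * (R ^ 2 * z) * S⁻¹ = (S * R * S⁻¹) ^ 2 * (S * z * S⁻¹) by rw [conj_pow]; group,
      ← (cen z hz S).eq, mul_inv_cancel_right, ez, (cen z hz _).symm.mul_pow, (cen z hz _).symm.mul_pow,
      ← pow_mul, ← pow_mul, mul_assoc, ← pow_succ]
  have hw4 : w ^ 4 = 1 := by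
    have e : S * S * R * (S * S)⁻¹ = R := by
      rw [(cen (S * S) (by rw [map_mul, hs2]) R).eq, mul_inv_cancel_right]
    rw [show S * S * R * (S * S)⁻¹ = S * (S * R * S⁻¹) * S⁻¹ by group, ez,
      show S * (R ^ 3 * z) * S⁻¹ = (S * R * S⁻¹) ^ 3 * (S * z * S⁻¹) by rw [conj_pow]; group,
      ← (cen z hz S).eq, mul_inv_cancel_right, ez, (cen z hz _).symm.mul_pow, ← pow_mul, mul_assoc, ← pow_succ,
      show R ^ (3 * 3) = R * R ^ 8 by rw [← pow_succ'], mul_assoc] at e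
    rw [hw', (cen z hz _).symm.mul_pow, ← pow_mul]
    exact mul_eq_left.mp e
  refine ⟨w ^ 2, by rw [← pow_mul]; exact hw4, fun x hx m hm => ?_⟩
  have hin := comm_le_zpowers σ hc R S w hw (by rw [hRw]; exact Subgroup.mem_zpowers w)
    (by rw [hSw]; exact pow_mem (Subgroup.mem_zpowers w) 3) (ker_mem σ hσ _ _ R S rfl rfl K hK hidx hKle hx hm)
  obtain ⟨k, hk⟩ := Subgroup.mem_zpowers_iff.mp hin
  have e := congrArg σ hk
  rw [map_zpow, hw', map_mul, hz, mul_one, map_pow, MonoidHom.mem_ker.1 hx, ← zpow_natCast (σ R),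
    ← zpow_mul] at e
  have h4 := orderOf_dvd_iff_zpow_eq_one.mpr e
  rw [hr] at h4
  obtain ⟨j, rfl⟩ : (2 : ℤ) ∣ k := by omega
  rw [← hk, zpow_mul, zpow_ofNat]
  exact Subgroup.mem_zpowers_iff.2 ⟨j, rfl⟩

/-- The case of commuting elements of order three. -/
theorem three_part (σ : Γ →* Q) (hσ : Cfsg.IsStemExtension σ) {a b : Q} (ha : a ^ 3 = 1) (hab : a * b = b * a)
    (K : Subgroup Q) (hK : IsPGroup 3 K) (hidx : ¬ 3 ∣ K.index) (hKle : K ≤ Subgroup.closure {a, b}) :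
    ∃ v : Γ, v ^ 3 = 1 ∧ ∀ z ∈ σ.ker, ∀ m : ℕ, z ^ 3 ^ m = 1 → z ∈ Subgroup.zpowers v := by
  obtain ⟨hs, hc, hd⟩ := id hσ
  obtain ⟨A, rfl⟩ := hs a
  obtain ⟨B, rfl⟩ := hs b
  obtain ⟨c, hcdef⟩ : ∃ c, c = B * A * B⁻¹ * A⁻¹ := ⟨_, rfl⟩
  have hc1 : σ c = 1 := by rw [hcdef]; simp [← hab]
  have hcc : ∀ u : Γ, u * c = c * u := Subgroup.mem_center_iff.1 (hc hc1)
  have hA3 : ∀ u : Γ, u * A ^ 3 = A ^ 3 * u := Subgroup.mem_center_iff.1 (hc (by
    rw [MonoidHom.mem_ker, map_pow, ha]))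
  have hc3 : c ^ 3 = 1 := by
    have e : B * A * B⁻¹ = c * A := by rw [hcdef]; group
    have e3 : (B * A * B⁻¹) ^ 3 = A ^ 3 := by rw [conj_pow, hA3, mul_inv_cancel_right]
    rw [e, (show Commute c A from (hcc A).symm).mul_pow] at e3
    exact mul_eq_right.mp e3
  refine ⟨c, hc3, fun x hx m hm => ?_⟩
  have hfix : ∀ u : Γ, u * c * u⁻¹ ∈ Subgroup.zpowers c := fun u => by
    rw [hcc, mul_inv_cancel_right]; exact Subgroup.mem_zpowers c
  exact comm_le_zpowers σ hc A B c hcdef (hfix A) (hfix B) (ker_mem σ hσ _ _ A B rfl rfl K hK hidx hKle hx hm)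

/-- The remaining primes. -/
theorem cyclic_part (σ : Γ →* Q) (hσ : Cfsg.IsStemExtension σ) {p : ℕ} [Fact p.Prime]
    (hp : ¬ p ^ 2 ∣ Nat.card Q) {z : Γ} (hz : z ∈ σ.ker) {m : ℕ} (hm : z ^ p ^ m = 1) : z = 1 := by
  obtain ⟨hs, hc, hd⟩ := hσ
  obtain ⟨P⟩ := (inferInstance : Nonempty (Sylow p Γ))
  have hcyc : IsCyclic ((P : Subgroup Γ).map σ) := by
    obtain ⟨k, hk⟩ := (P.isPGroup'.map σ).exists_card_eq
    have hk2 : k < 2 := by
      by_contra h
      exact hp ((pow_dvd_pow p (not_lt.1 h)).trans (hk ▸ Subgroup.card_subgroup_dvd_card _))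
    obtain rfl | rfl : k = 0 ∨ k = 1 := by omega
    · rw [pow_zero] at hk
      haveI : Subsingleton ((P : Subgroup Γ).map σ) := (Nat.card_eq_one_iff_unique.1 hk).1
      infer_instance
    · exact isCyclic_of_prime_card (p := p) (by rw [hk, pow_one])
  haveI := Cfsg.Agent.Lie.StemSylow.comm_of_cyclic_image σ hc (P : Subgroup Γ) hcyc
  obtain ⟨hzP, hzc⟩ := mem_derived_sylow P (hc hz) (hd hz) hm
  have hbot : commutator (P : Subgroup Γ) = ⊥ := by
    rw [commutator_def, Subgroup.commutator_eq_bot_iff_le_centralizer]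
    intro x _
    exact fun y _ => mul_comm' y x
  rw [hbot, Subgroup.mem_bot] at hzc
  exact congrArg Subtype.val hzc

/-- The kernel is cyclic of order dividing six. -/
theorem kernel_six (σ : Γ →* Q) (hσ : Cfsg.IsStemExtension σ) (hcard : Nat.card Q ∣ 2520)
    {r s : Q} (hr : orderOf r = 4) (hs2 : s * s = 1) (hrs : s * r = r ^ 3 * s)
    (K : Subgroup Q) (hK : IsPGroup 2 K) (hidx : ¬ 2 ∣ K.index) (hKle : K ≤ Subgroup.closure {r, s})
    {a b : Q} (ha : a ^ 3 = 1) (hab : a * b = b * a)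
    (L : Subgroup Q) (hL : IsPGroup 3 L) (hidx3 : ¬ 3 ∣ L.index) (hLle : L ≤ Subgroup.closure {a, b}) :
    ∃ g : σ.ker, g ^ 6 = 1 ∧ ∀ k : σ.ker, k ∈ Subgroup.zpowers g := by
  obtain ⟨v, hv, hvz⟩ := two_part σ hσ hr hs2 hrs K hK hidx hKle
  obtain ⟨t, ht, htz⟩ := three_part σ hσ ha hab L hL hidx3 hLle
  have hbound : ∀ (p : ℕ) [Fact p.Prime] (x : Γ) (_ : ∀ z ∈ σ.ker, ∀ m : ℕ, z ^ p ^ m = 1 → z ∈ Subgroup.zpowers x)
      (T : Sylow p σ.ker), Nat.card (T : Subgroup σ.ker) ∣ orderOf x := by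
    intro p _ x hx T
    have hle : (T : Subgroup σ.ker).map σ.ker.subtype ≤ Subgroup.zpowers x := by
      rintro _ ⟨u, hu, rfl⟩
      obtain ⟨m, hm⟩ := T.isPGroup' ⟨u, hu⟩
      exact hx u u.2 m (by simpa using congrArg (fun y : (T : Subgroup σ.ker) => ((y : σ.ker) : Γ)) hm)
    have := Subgroup.card_dvd_of_le hle
    rwa [Subgroup.card_map_of_injective σ.ker.subtype_injective, Nat.card_zpowers] at this
  have hdvd : Nat.card σ.ker ∣ 6 := by
    refine (Nat.dvd_iff_prime_pow_dvd_dvd _ _).2 fun p k hp hk => ?_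
    haveI := Fact.mk hp
    obtain ⟨T⟩ := (inferInstance : Nonempty (Sylow p σ.ker))
    have hT : p ^ k ∣ Nat.card (T : Subgroup σ.ker) := by
      rw [T.card_eq_multiplicity]
      exact pow_dvd_pow p ((hp.pow_dvd_iff_le_factorization Nat.card_pos.ne').1 hk)
    refine hT.trans ?_
    by_cases h2 : p = 2
    · subst h2
      exact ((hbound 2 v hvz T).trans (orderOf_dvd_of_pow_eq_one hv)).trans (by norm_num)
    by_cases h3 : p = 3
    · subst h3
      exact ((hbound 3 t htz T).trans (orderOf_dvd_of_pow_eq_one ht)).trans (by norm_num)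
    have hp2 : ¬ p ^ 2 ∣ Nat.card Q := by
      intro h
      have h' : p ^ 2 ∣ 2520 := h.trans hcard
      have hdp : p ∣ 2 * 2 * 2 * 3 * 3 * 5 * 7 := (dvd_pow_self p two_ne_zero).trans h'
      simp only [hp.dvd_mul, Nat.prime_dvd_prime_iff_eq hp Nat.prime_two, Nat.prime_dvd_prime_iff_eq hp
        Nat.prime_three, Nat.prime_dvd_prime_iff_eq hp Nat.prime_five,
        Nat.prime_dvd_prime_iff_eq hp (by norm_num : Nat.Prime 7)] at hdp
      simp only [h2, h3, false_or] at hdp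
      rcases hdp with rfl | rfl <;> norm_num at h'
    exact ((hbound p 1 (fun z hz m hm => (cyclic_part σ hσ hp2 hz hm).symm ▸ one_mem _) T).trans
      (orderOf_one (G := Γ)).dvd).trans (one_dvd _)
  haveI hcyc : IsCyclic σ.ker := by
    letI : CommGroup σ.ker := { (inferInstance : Group σ.ker) with
      mul_comm := fun x y => Subtype.ext (Subgroup.mem_center_iff.1 (hσ.2.1 y.2) x) }
    refine IsCyclic.of_exponent_eq_card (Nat.dvd_antisymm Group.exponent_dvd_nat_card ?_)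
    refine (Nat.dvd_iff_prime_pow_dvd_dvd _ _).2 fun p k hp hk => ?_
    haveI := Fact.mk hp
    have hk1 : k ≤ 1 := by
      by_contra h
      have h' : p ^ 2 ∣ 6 := ((pow_dvd_pow p (not_le.1 h)).trans hk).trans hdvd
      have := Nat.le_of_dvd (by norm_num) h'
      have := hp.two_le
      obtain rfl : p = 2 := by nlinarith
      norm_num at h'
    interval_cases k
    · simp
    · rw [pow_one] at hk ⊢
      obtain ⟨x, hx⟩ := exists_prime_orderOf_dvd_card' p hk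
      exact hx ▸ Monoid.order_dvd_exponent x
  obtain ⟨g, hg⟩ := hcyc.exists_generator
  exact ⟨g, orderOf_dvd_iff_pow_eq_one.1 ((orderOf_dvd_natCard g).trans hdvd), hg⟩

end Cfsg.Agent.Small.AltMult
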