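import Cfsg.Agent.Lib.Small.AltCover
import Cfsg.Agent.Lib.Small.AltMultBound

/-!
The Schur multipliers of the alternating groups of degree six and seven have order six.
-/

set_option autoImplicit false
set_option maxRecDepth 100000
set_option synthInstance.maxHeartbeats 1000000

open scoped commutatorElement

namespace Cfsg.Agent.Small.AltMultiplier

open Cfsg.Agent.Small.AltCover

universe u v

/-- A finite set closed under products containing the identity is a subgroup. -/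
theorem exists_sub {Q : Type*} [Group Q] [Finite Q] [DecidableEq Q] (S : Finset Q) (h1 : 1 ∈ S)
    (hm : ∀ x ∈ S, ∀ y ∈ S, x * y ∈ S) : ∃ K : Subgroup Q, (∀ x, x ∈ K ↔ x ∈ S) ∧ Nat.card K = S.card := by
  have hpow : ∀ x ∈ S, ∀ n : ℕ, x ^ n ∈ S := fun x hx n => by
    induction n with
    | zero => simpa using h1
    | succ n ih => rw [pow_succ]; exact hm _ ih _ hx
  obtain ⟨K, hK⟩ : ∃ K : Subgroup Q, ∀ x, x ∈ K ↔ x ∈ S :=
    ⟨{ carrier := (S : Set Q)
       mul_mem' := fun hx hy => hm _ hx _ hy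
       one_mem' := h1
       inv_mem' := fun {x} hx => by
        obtain ⟨n, hn⟩ := Nat.exists_eq_add_of_lt (isOfFinOrder_of_finite x).orderOf_pos
        have e : x ^ n * x = 1 := by rw [← pow_succ, ← pow_orderOf_eq_one x, hn, zero_add]
        rw [← eq_inv_of_mul_eq_one_left e]
        exact hpow x hx n }, fun _ => Iff.rfl⟩
  refine ⟨K, hK, ?_⟩
  rw [show Nat.card K = Nat.card {x // x ∈ S} from Nat.card_congr (Equiv.subtypeEquivRight hK)]
  simp

/-- Data for the upper bound inside a group. -/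
theorem bound_of_data {Γ : Type*} {Q : Type*} [Group Γ] [Finite Γ] [Group Q] [Finite Q] [DecidableEq Q]
    (σ : Γ →* Q) (hσ : Cfsg.IsStemExtension σ) (o : ℕ) (ho : Nat.card Q = 72 * o) (ho' : o ∣ 35) (r s a b : Q)
    (hr : r ^ 4 = 1 ∧ r ^ 2 ≠ 1 ∧ s * s = 1 ∧ s * r = r ^ 3 * s ∧ a ^ 3 = 1 ∧ a * b = b * a)
    (hS : (∀ x ∈ ((Finset.univ : Finset (Fin 4 × Fin 2)).image fun ij => r ^ (ij.1 : ℕ) * s ^ (ij.2 : ℕ)), ∀ y ∈
      ((Finset.univ : Finset (Fin 4 × Fin 2)).image fun ij => r ^ (ij.1 : ℕ) * s ^ (ij.2 : ℕ)), x * y ∈ ((Finset.univ : Finset (Fin 4 × Fin 2)).image fun ij => r ^ (ij.1 : ℕ) * s ^ (ij.2 : ℕ))) ∧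
      ((Finset.univ : Finset (Fin 4 × Fin 2)).image fun ij => r ^ (ij.1 : ℕ) * s ^ (ij.2 : ℕ)).card = 8)
    (hT : (∀ x ∈ ((Finset.univ : Finset (Fin 3 × Fin 3)).image fun ij => a ^ (ij.1 : ℕ) * b ^ (ij.2 : ℕ)), ∀ y ∈
      ((Finset.univ : Finset (Fin 3 × Fin 3)).image fun ij => a ^ (ij.1 : ℕ) * b ^ (ij.2 : ℕ)), x * y ∈ ((Finset.univ : Finset (Fin 3 × Fin 3)).image fun ij => a ^ (ij.1 : ℕ) * b ^ (ij.2 : ℕ))) ∧
      ((Finset.univ : Finset (Fin 3 × Fin 3)).image fun ij => a ^ (ij.1 : ℕ) * b ^ (ij.2 : ℕ)).card = 9) :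
    ∃ g : σ.ker, g ^ 6 = 1 ∧ ∀ k : σ.ker, k ∈ Subgroup.zpowers g := by
  obtain ⟨hr4, hr2, hs2, hrs, ha, hab⟩ := hr
  obtain ⟨K, hK, hKc⟩ := exists_sub _ (Finset.mem_image.2 ⟨((0 : Fin 4), (0 : Fin 2)), Finset.mem_univ _, by simp⟩)
    hS.1
  obtain ⟨L, hL, hLc⟩ := exists_sub _ (Finset.mem_image.2 ⟨((0 : Fin 3), (0 : Fin 3)), Finset.mem_univ _, by simp⟩)
    hT.1
  rw [hS.2] at hKc
  rw [hT.2] at hLc
  have hord : orderOf r = 4 :=
    orderOf_eq_prime_pow (p := 2) (n := 1) (by simpa using hr2) (by simpa using hr4)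
  have hidx : K.index = 9 * o := by
    have := K.card_mul_index
    rw [hKc, ho] at this
    omega
  have hidx3 : L.index = 8 * o := by
    have := L.card_mul_index
    rw [hLc, ho] at this
    omega
  refine AltMult.kernel_six σ hσ ?_ hord hs2 hrs K (IsPGroup.of_card (n := 3) (by rw [hKc]; norm_num)) ?_ ?_
    ha hab L (IsPGroup.of_card (n := 2) (by rw [hLc]; norm_num)) ?_ ?_
  · rw [ho, show 2520 = 72 * 35 by norm_num]; exact Nat.mul_dvd_mul_left 72 ho'
  · rw [hidx]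
    intro h
    rcases (Nat.Prime.dvd_mul Nat.prime_two).1 h with h | h
    · norm_num at h
    · have := h.trans ho'; norm_num at this
  · intro x hx
    obtain ⟨ij, -, rfl⟩ := Finset.mem_image.1 ((hK x).1 hx)
    exact mul_mem (pow_mem (show r ∈ Subgroup.closure ({r, s} : Set Q) from Subgroup.subset_closure (Or.inl rfl)) _)
      (pow_mem (show s ∈ Subgroup.closure ({r, s} : Set Q) from Subgroup.subset_closure (Or.inr rfl)) _)
  · rw [hidx3]
    intro h
    rcases (Nat.Prime.dvd_mul Nat.prime_three).1 h with h | h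
    · norm_num at h
    · have := h.trans ho'; norm_num at this
  · intro x hx
    obtain ⟨ij, -, rfl⟩ := Finset.mem_image.1 ((hL x).1 hx)
    exact mul_mem (pow_mem (show a ∈ Subgroup.closure ({a, b} : Set Q) from Subgroup.subset_closure (Or.inl rfl)) _)
      (pow_mem (show b ∈ Subgroup.closure ({a, b} : Set Q) from Subgroup.subset_closure (Or.inr rfl)) _)

/-- Elements of order four, two, three, three in degree six. -/
def six (i : Fin 4) : alternatingGroup (Fin 6) :=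
  ![⟨Equiv.swap 0 1 * Equiv.swap 1 2 * Equiv.swap 2 3 * Equiv.swap 4 5, Equiv.Perm.mem_alternatingGroup.2 (by decide +kernel)⟩,
    ⟨Equiv.swap 0 2 * Equiv.swap 4 5, Equiv.Perm.mem_alternatingGroup.2 (by decide +kernel)⟩,
    ⟨Equiv.swap 0 1 * Equiv.swap 1 2, Equiv.Perm.mem_alternatingGroup.2 (by decide +kernel)⟩,
    ⟨Equiv.swap 3 4 * Equiv.swap 4 5, Equiv.Perm.mem_alternatingGroup.2 (by decide +kernel)⟩] i

/-- Elements of order four, two, three, three in degree seven. -/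
def seven (i : Fin 4) : alternatingGroup (Fin 7) :=
  ![⟨Equiv.swap 0 1 * Equiv.swap 1 2 * Equiv.swap 2 3 * Equiv.swap 4 5, Equiv.Perm.mem_alternatingGroup.2 (by decide +kernel)⟩,
    ⟨Equiv.swap 0 2 * Equiv.swap 4 5, Equiv.Perm.mem_alternatingGroup.2 (by decide +kernel)⟩,
    ⟨Equiv.swap 0 1 * Equiv.swap 1 2, Equiv.Perm.mem_alternatingGroup.2 (by decide +kernel)⟩,
    ⟨Equiv.swap 3 4 * Equiv.swap 4 5, Equiv.Perm.mem_alternatingGroup.2 (by decide +kernel)⟩] i

theorem card_alt_six : Nat.card (alternatingGroup (Fin 6)) = 360 := by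
  rw [nat_card_alternatingGroup, Nat.card_fin]; rfl

theorem bound_six {Γ : Type*} [Group Γ] [Finite Γ] (σ : Γ →* alternatingGroup (Fin 6))
    (hσ : Cfsg.IsStemExtension σ) : ∃ g : σ.ker, g ^ 6 = 1 ∧ ∀ k : σ.ker, k ∈ Subgroup.zpowers g :=
  bound_of_data σ hσ 5 card_alt_six (by norm_num) (six 0) (six 1) (six 2) (six 3) (by decide +kernel)
    ⟨by decide +kernel, by decide +kernel⟩ ⟨by decide +kernel, by decide +kernel⟩

theorem bound_seven {Γ : Type*} [Group Γ] [Finite Γ] (σ : Γ →* alternatingGroup (Fin 7))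
    (hσ : Cfsg.IsStemExtension σ) : ∃ g : σ.ker, g ^ 6 = 1 ∧ ∀ k : σ.ker, k ∈ Subgroup.zpowers g :=
  bound_of_data σ hσ 35 card_alt_seven (dvd_refl _) (seven 0) (seven 1) (seven 2) (seven 3) (by decide +kernel)
    ⟨by decide +kernel, by decide +kernel⟩ ⟨by decide +kernel, by decide +kernel⟩

/-- Evaluation of a word in the covering group. -/
def wordEl : List (Fin 2) → P
  | [] => 1
  | j :: w => ⟨lPerm j, Subgroup.subset_closure ⟨j, rfl⟩⟩ * wordEl w

theorem wordEl_base : ∀ w : List (Fin 2), (wordEl w : Equiv.Perm Pt) base = w.foldr lMap base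
  | [] => rfl
  | j :: w => by
    rw [wordEl, Subgroup.coe_mul, Equiv.Perm.mul_apply, wordEl_base w]
    rfl

theorem wordEl_append : ∀ u w : List (Fin 2), wordEl (u ++ w) = wordEl u * wordEl w
  | [], w => (one_mul _).symm
  | j :: u, w => by rw [List.cons_append, wordEl, wordEl, wordEl_append u w, mul_assoc]

theorem wordEl_inv {u w : List (Fin 2)} (h : (u ++ w).foldr lMap base = base) : wordEl w = (wordEl u)⁻¹ := by
  refine eq_inv_of_mul_eq_one_right ?_
  rw [← wordEl_append]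
  exact Subtype.ext (semiregular (wordEl _).2 (one_mem _) (by rw [wordEl_base, h]; rfl))

/-- The four pairs of words. -/
def wd (i : Fin 4) : List (Fin 2) × List (Fin 2) :=
  ![([1, 1, 1, 0, 1, 1, 0], [0, 0, 1, 1, 1, 0, 0, 1, 1]),
    ([0, 1, 1, 1, 0, 1, 1], [1, 1, 1, 0, 0, 1, 1, 0, 0]),
    ([0], [0, 0]),
    ([1, 0, 1, 0, 1, 1, 0, 1, 0, 1, 0, 1], [1, 0, 1, 1, 1, 0, 0, 1, 0, 1])] i

/-- A word for a commutator. -/
def cw (i j : Fin 4) : List (Fin 2) := (wd i).1 ++ (wd j).1 ++ (wd i).2 ++ (wd j).2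

theorem wd_inv : ∀ i, ((wd i).1 ++ (wd i).2).foldr lMap base = base := by decide +kernel

theorem wd_fix : ∀ i, img ((wd i).1.foldr lMap base).1 6 = 6 := by decide +kernel

theorem central_word : (cw 0 1 ++ cw 2 3 ++ cw 2 3).foldr lMap base = (base.1, 1) := by decide +kernel

theorem cw_eq (i j : Fin 4) : wordEl (cw i j) = ⁅wordEl (wd i).1, wordEl (wd j).1⁆ := by
  rw [cw, wordEl_append, wordEl_append, wordEl_append, wordEl_inv (wd_inv i), wordEl_inv (wd_inv j),
    commutatorElement_def]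

/-- The generator of the kernel. -/
def zEl : P := wordEl (cw 0 1 ++ cw 2 3 ++ cw 2 3)

theorem zEl_eq : (zEl : Equiv.Perm Pt) = shift 1 := by
  have hb : (zEl : Equiv.Perm Pt) base = (base.1, 1) := by rw [zEl, wordEl_base, central_word]
  have hk : zEl ∈ phi.ker := by
    refine Subtype.ext (Equiv.ext fun i => ?_)
    rw [phi_apply, hb]
    exact img_zero i
  obtain ⟨k, hk⟩ := (phi_ker _).1 hk
  rw [hk] at hb
  have := congrArg Prod.snd hb
  simp only [shift_apply, base, zero_add] at this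
  rw [hk, this]

theorem shift_mem (k : ZMod 6) : shift k ∈ P := by
  have h : ∀ n : ℕ, shift (n : ZMod 6) ∈ P := by
    intro n
    induction n with
    | zero =>
      have : shift ((0 : ℕ) : ZMod 6) = 1 := Equiv.ext fun q => Prod.ext rfl (by simp [shift_apply])
      rw [this]; exact one_mem _
    | succ n ih =>
      have : shift ((n + 1 : ℕ) : ZMod 6) = shift (n : ZMod 6) * shift 1 := Equiv.ext fun q => Prod.ext rfl (by
        simp [shift_apply, Equiv.Perm.mul_apply]; abel)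
      rw [this, ← zEl_eq]
      exact mul_mem ih zEl.2
  simpa using h k.val

/-- The kernel as a cyclic group. -/
noncomputable def kerEquiv : Multiplicative (ZMod 6) ≃* phi.ker := by
  refine MulEquiv.ofBijective (MonoidHom.mk'
    (fun k => (⟨⟨shift k.toAdd, shift_mem _⟩, (phi_ker _).2 ⟨_, rfl⟩⟩ : phi.ker)) fun k l => ?_) ⟨?_, ?_⟩
  · refine Subtype.ext (Subtype.ext (Equiv.ext fun q => Prod.ext rfl ?_))
    show q.2 + (k.toAdd + l.toAdd) = q.2 + l.toAdd + k.toAdd
    abel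
  · intro k l h
    have h2 := congrArg (fun g : phi.ker => (((g : P) : Equiv.Perm Pt) base).2) h
    simpa [shift_apply, base] using h2
  · rintro ⟨g, hg⟩
    obtain ⟨k, hk⟩ := (phi_ker g).1 hg
    exact ⟨Multiplicative.ofAdd k, Subtype.ext (Subtype.ext hk.symm)⟩

/-- The subgroup above the stabiliser of the last point. -/
noncomputable abbrev H6 : Subgroup P := (MulAction.stabilizer (alternatingGroup (Fin 7)) (6 : Fin 7)).comap phi

theorem wd_mem (i : Fin 4) : wordEl (wd i).1 ∈ H6 := by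
  show phi _ • (6 : Fin 7) = 6
  show (phi (wordEl (wd i).1) : Equiv.Perm (Fin 7)) 6 = 6
  rw [phi_apply, wordEl_base]
  exact wd_fix i

/-- The generator of the kernel is a commutator product in every group containing the words. -/
theorem zEl_mem (H : Subgroup P) (hH : ∀ i, wordEl (wd i).1 ∈ H) :
    ∃ h : zEl ∈ H, (⟨zEl, h⟩ : H) ∈ commutator H := by
  obtain ⟨x, hx⟩ : ∃ x : Fin 4 → H, ∀ i, (x i : P) = wordEl (wd i).1 := ⟨fun i => ⟨_, hH i⟩, fun _ => rfl⟩
  have e : ((⁅x 0, x 1⁆ * ⁅x 2, x 3⁆ * ⁅x 2, x 3⁆ : H) : P) = zEl := by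
    rw [zEl, wordEl_append, wordEl_append, cw_eq, cw_eq]
    simp [commutatorElement_def, hx]
  refine ⟨e ▸ (⁅x 0, x 1⁆ * ⁅x 2, x 3⁆ * ⁅x 2, x 3⁆ : H).2, ?_⟩
  rw [show (⟨zEl, _⟩ : H) = ⁅x 0, x 1⁆ * ⁅x 2, x 3⁆ * ⁅x 2, x 3⁆ from Subtype.ext e.symm]
  have hc : ∀ a b : H, ⁅a, b⁆ ∈ commutator H := fun a b =>
    Subgroup.commutator_mem_commutator (Subgroup.mem_top a) (Subgroup.mem_top b)
  exact mul_mem (mul_mem (hc _ _) (hc _ _)) (hc _ _)

theorem ker_eq_zEl {g : P} (hg : g ∈ phi.ker) : ∃ n : ℕ, g = zEl ^ n := by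
  obtain ⟨k, hk⟩ := (phi_ker g).1 hg
  refine ⟨k.val, Subtype.ext ?_⟩
  have h : ∀ n : ℕ, (shift 1) ^ n = shift (n : ZMod 6) := by
    intro n
    induction n with
    | zero => exact Equiv.ext fun q => Prod.ext rfl (by simp [shift_apply])
    | succ n ih =>
      rw [pow_succ, ih]
      exact Equiv.ext fun q => Prod.ext rfl (by simp [shift_apply, Equiv.Perm.mul_apply]; abel)
  rw [SubmonoidClass.coe_pow, zEl_eq, h, hk, ZMod.natCast_zmod_val]

/-- Covers in both degrees, in every universe. -/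
theorem cover_seven : Cfsg.IsStemExtension phi ∧ Nonempty (phi.ker ≃* Multiplicative (ZMod 6)) := by
  refine ⟨⟨phi_surjective, phi_ker_center, fun g hg => ?_⟩, ⟨kerEquiv.symm⟩⟩
  obtain ⟨n, rfl⟩ := ker_eq_zEl hg
  obtain ⟨h, hz⟩ := zEl_mem ⊤ fun _ => Subgroup.mem_top _
  refine pow_mem ?_ n
  have := Subgroup.mem_map_of_mem (⊤ : Subgroup P).subtype hz
  rw [Subgroup.map_subtype_commutator] at this
  exact this

theorem cover_six : ∃ (Γ : Type) (_ : Group Γ) (_ : Finite Γ) (σ : Γ →* alternatingGroup (Fin 6)),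
    Cfsg.IsStemExtension σ ∧ Nonempty (σ.ker ≃* Multiplicative (ZMod 6)) := by
  obtain ⟨f, -⟩ : ∃ f : Fin 6 ≃ {x : Fin 7 // x ≠ 6}, True := ⟨finSuccAboveEquiv (6 : Fin 7), trivial⟩
  obtain ⟨ι, hι⟩ : ∃ ι : alternatingGroup (Fin 6) →* alternatingGroup (Fin 7),
      ∀ σ, (ι σ : Equiv.Perm (Fin 7)) = (σ : Equiv.Perm (Fin 6)).extendDomain f :=
    ⟨((Equiv.Perm.extendDomainHom f).comp (alternatingGroup (Fin 6)).subtype).codRestrict _ fun σ => by
      rw [Equiv.Perm.mem_alternatingGroup]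
      show Equiv.Perm.sign ((σ : Equiv.Perm (Fin 6)).extendDomain f) = 1
      rw [Equiv.Perm.sign_extendDomain]
      exact σ.2, fun _ => rfl⟩
  have hinj : Function.Injective ι := fun a b h => Subtype.ext (Equiv.Perm.extendDomainHom_injective f (by
    show (a : Equiv.Perm (Fin 6)).extendDomain f = (b : Equiv.Perm (Fin 6)).extendDomain f
    rw [← hι, ← hι, h]))
  obtain ⟨St, hSt⟩ : ∃ St, St = MulAction.stabilizer (alternatingGroup (Fin 7)) (6 : Fin 7) := ⟨_, rfl⟩
  have hle : ι.range ≤ St := by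
    rintro _ ⟨σ, rfl⟩
    rw [hSt]
    show (ι σ : Equiv.Perm (Fin 7)) 6 = 6
    rw [hι, Equiv.Perm.extendDomain_apply_not_subtype]
    simp
  have horb : MulAction.orbit (alternatingGroup (Fin 7)) (6 : Fin 7) = Set.univ := by
    refine Set.eq_univ_of_forall fun x => ?_
    obtain ⟨e, he⟩ : ∃ e : Fin 2520, img e 6 = x := by revert x; decide +kernel
    obtain ⟨g, hg, heg⟩ := orbit e e.2
    refine ⟨phi ⟨g, hg⟩, ?_⟩
    show (phi ⟨g, hg⟩ : Equiv.Perm (Fin 7)) 6 = x
    rw [phi_apply]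
    show img (g base).1 6 = x
    rw [heg, ← he]
  have hrange : ι.range = St := by
    refine Subgroup.eq_of_le_of_card_ge hle (le_of_eq ?_)
    have h1 : Nat.card ι.range = 360 :=
      (Nat.card_congr (MonoidHom.ofInjective hinj).toEquiv).symm.trans card_alt_six
    have h2 : St.index = 7 := by
      rw [hSt, MulAction.index_stabilizer, horb, Set.ncard_univ, Nat.card_fin]
    have := St.card_mul_index
    rw [h2, card_alt_seven] at this
    omega
  obtain ⟨e, -⟩ : ∃ e : St ≃* alternatingGroup (Fin 6), True :=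
    ⟨((MonoidHom.ofInjective hinj).trans (MulEquiv.subgroupCongr hrange)).symm, trivial⟩
  subst hSt
  obtain ⟨τ, hτ⟩ : ∃ τ : H6 →* alternatingGroup (Fin 6), τ = e.toMonoidHom.comp (phi.subgroupComap _) := ⟨_, rfl⟩
  have hker : ∀ h : H6, h ∈ τ.ker ↔ (h : P) ∈ phi.ker := fun h => by
    rw [hτ, MonoidHom.mem_ker, MonoidHom.mem_ker, MonoidHom.comp_apply, MulEquiv.coe_toMonoidHom,
      EmbeddingLike.map_eq_one_iff, ← Subtype.coe_inj]
    rfl
  have hkH : ∀ g ∈ phi.ker, g ∈ H6 := fun g hg => by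
    show phi g • (6 : Fin 7) = 6
    rw [MonoidHom.mem_ker.1 hg, one_smul]
  refine ⟨H6, inferInstance, inferInstance, τ, ⟨?_, fun h hh => ?_, fun h hh => ?_⟩, ⟨?_⟩⟩
  · rw [hτ]
    refine e.surjective.comp fun y => ?_
    obtain ⟨g, hg⟩ := phi_surjective y
    exact ⟨⟨g, show phi g ∈ MulAction.stabilizer (alternatingGroup (Fin 7)) (6 : Fin 7) from hg ▸ y.2⟩,
      Subtype.ext hg⟩
  · exact Subgroup.mem_center_iff.2 fun x =>
      Subtype.ext (Subgroup.mem_center_iff.1 (phi_ker_center ((hker h).1 hh)) x)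
  · obtain ⟨n, hn⟩ := ker_eq_zEl ((hker h).1 hh)
    obtain ⟨hz, hzc⟩ := zEl_mem H6 wd_mem
    have : h = (⟨zEl, hz⟩ : H6) ^ n := Subtype.ext (by simpa using hn)
    rw [this]
    exact pow_mem hzc n
  · exact (MulEquiv.mk'
      { toFun := fun h : τ.ker => (⟨((h : H6) : P), (hker h).1 h.2⟩ : phi.ker)
        invFun := fun g => (⟨⟨g, hkH g g.2⟩, (hker _).2 g.2⟩ : τ.ker)
        left_inv := fun _ => rfl
        right_inv := fun _ => rfl } fun _ _ => rfl).trans kerEquiv.symm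

end Cfsg.Agent.Small.AltMultiplier
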