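import Cfsg.Agent.Lib.Small.FoldFix
import Cfsg.Agent.Lib.Lie.TwistD4

/-!
Fixed points of the graph automorphism of D4: the group of type G2.
-/

set_option autoImplicit false
set_option maxRecDepth 100000

namespace Cfsg.Agent.Small.FoldG2

open Cfsg.Lie Cfsg.Agent.Lie Cfsg.Agent.Small.Fold
open scoped MatrixGroups

/-- The folding table. -/
def tab : List (List (ℕ × ℤ)) :=
  [[(0, -1)], [(1, -1)], [(6, 1), (3, -1), (2, -1)], [(4, 1), (7, -1), (8, -1)], [
  (5, 1), (10, 1), (11, 1)], [(9, 1)],   [(14, 1)], [(18, 1), (13, 1), (12, 1)], [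
  (19, 1), (16, -1), (15, -1)], [(17, 1), (20, -1), (21, -1)], [(22, -1)],   [(23, -1)]]

/-- The orbits in the order of the small diagram. -/
def Os : List (List (Fin chevD4.rank)) := ([[0, 2, 3], [1]] : List (List ℕ)).map (fnodes chevD4)

/-- The orbit of a node. -/
def pj (j : Fin chevD4.rank) : ℕ := ([0, 1, 0, 0] : List ℕ).getD j.val 0

theorem okShape' : okShape chevG2 chevD4 tab = true := by decide +kernel

theorem okWeyl' : okWeyl chevG2 chevD4 tab Os = true := by decide +kernel

theorem okEta' : okEta chevG2 chevD4 tab Os certG2.eta certD4.eta = true := by decide +kernel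

theorem okN1 : ∀ i, i < chevG2.rank → nCheck chevG2 (certG2.eta i) i = true := by
  intro i hi
  have hi' : i < 2 := hi
  interval_cases i
  · exact certG2_okN0
  · exact certG2_okN1

theorem okN2 : ∀ i, i < chevD4.rank → nCheck chevD4 (certD4.eta i) i = true := by
  intro i hi
  have hi' : i < 4 := hi
  interval_cases i
  · exact certD4_okN0
  · exact certD4_okN1
  · exact certD4_okN2
  · exact certD4_okN3

theorem commRows : ((List.range 12).all fun r => commRow chevG2 chevD4 tab r) = true := by
  decide +kernel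

theorem okFix' : okFix chevG2 chevD4 tab Os graphD4a pj = true := by decide +kernel

theorem okOrbits' : okOrbits chevD4 graphD4a Cfsg.Agent.Lie.D4.σ Os = true := by decide +kernel

theorem σ_pow : ∀ j, (⇑Cfsg.Agent.Lie.D4.σ.symm)^[3] j = j := by decide +kernel

/-- A multiple of the inverse Cartan matrix. -/
def W (i s : Fin chevD4.rank) : ℤ := (([[2, 2, 1, 1], [2, 4, 2, 2], [1, 2, 2, 1], [1, 2, 1, 2]] : List (List ℤ)).getD i.val []).getD s.val 0

theorem W_spec : ∀ i k : Fin chevD4.rank,
    ∑ s : Fin chevD4.rank, W i s * chevD4.cartan k.val (chevD4.simple s.val) = if k = i then 2 else 0 := by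
  decide +kernel

theorem row {r : ℕ} (hr : r < chevG2.nroots) : commRow chevG2 chevD4 tab r = true :=
  List.all_eq_true.1 commRows r (List.mem_range.2 hr)

variable {F : Type*} [Field F]

theorem main [Fintype F] (T : Twist factsD4 F) (hR : T.R = graphD4a) (hs : T.σ = Cfsg.Agent.Lie.D4.σ) (hfr : ∀ t, T.fr t = t) :
    Nonempty (↥T.fix ≃* ↥(chevG2.group F)) := by
  obtain ⟨hF'⟩ := facts_of_mem (D := chevG2) (by simp)
  have hH : StHyp chevG2 := stHyp_of_mem (by simp)
  have hd : Data chevG2 chevD4 tab Os := data_of_ok okShape' (fun r hr => row hr) okWeyl'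
    (facts_of_mem (D := chevG2) (by simp)) okEta' okN1 okN2
  have hx : FixData chevG2 chevD4 tab Os T.R pj := by rw [hR]; exact fixData_of_ok okFix'
  have hOs : okOrbits chevD4 T.R T.σ Os = true := by rw [hR, hs]; exact okOrbits'
  have hker : ∀ z : Fin chevD4.rank → Fˣ, (∀ i : Fin chevD4.rank, torChar chevD4 z (chevD4.simple i.val) = 1) → z ^ 2 = 1 := by
    intro z hz
    funext i
    have key : ∀ (u : Fˣ) (S : Finset (Fin chevD4.rank)) (e : Fin chevD4.rank → ℤ),
        ∏ s ∈ S, u ^ e s = u ^ ∑ s ∈ S, e s := by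
      intro u S e
      induction S using Finset.induction_on with
      | empty => simp
      | insert a S ha ih => rw [Finset.prod_insert ha, Finset.sum_insert ha, ih, zpow_add]
    have h1 : ∏ s, torChar chevD4 z (chevD4.simple s.val) ^ W i s = z i ^ (2 : ℤ) := by
      simp only [torChar, ← Finset.prod_zpow, ← zpow_mul]
      rw [Finset.prod_comm]
      simp only [key, mul_comm (chevD4.cartan _ _), W_spec]
      rw [Finset.prod_eq_single i]
      · simp
      · intro k _ hk
        simp [hk]
      · simp
    simp only [hz, one_zpow, Finset.prod_const_one] at h1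
    exact_mod_cast h1.symm
  rw [fix_eq_range T hd hx hOs hfr hF' hH (N := 3) (m := 2) (by rw [hs]; exact σ_pow) (by decide) hker]
  obtain ⟨e⟩ := iso_range (F := F) (hF := factsD4) hd hF' hH (hF'.torus_injective kerCertG2)
  exact ⟨e.symm⟩

end Cfsg.Agent.Small.FoldG2
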