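import Cfsg.Agent.Lib.Small.AltSevenThree

/-!
# Simple groups of order 2520: the four-groups attached to elements of order three
-/

set_option autoImplicit false

namespace Cfsg.Agent.Small.AltSeven

open Subgroup

universe u

theorem d8_center_two : ∀ x y : DihedralGroup 4, x ≠ 1 → y ≠ 1 → (∀ z, x * z = z * x) →
    (∀ z, y * z = z * y) → x = y := by decide

variable {G : Type u} [Group G] [Finite G] [IsSimpleGroup G] (h : Nat.card G = 2520)

omit [Finite G] [IsSimpleGroup G] in
theorem commute_of_sq {V : Subgroup G} (hV : ∀ g ∈ V, g * g = 1) {a b : G} (ha : a ∈ V) (hb : b ∈ V) :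
    a * b = b * a := by
  have e := hV _ (mul_mem ha hb)
  calc a * b = a * (a * b * (a * b)) * b := by rw [e, mul_one]
    _ = a * a * (b * a) * (b * b) := by group
    _ = b * a := by rw [hV a ha, hV b hb, one_mul, mul_one]

omit [IsSimpleGroup G] in
/-- A cyclic subgroup has at most one involution. -/
theorem eq_of_cyclic {x i j : G} (hi : orderOf i = 2) (hj : orderOf j = 2) (hix : i ∈ zpowers x)
    (hjx : j ∈ zpowers x) : i = j := by
  classical
  haveI := Fintype.ofFinite (zpowers x)
  by_contra hne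
  have h2 := IsCyclic.card_pow_eq_one_le (α := zpowers x) (n := 2) (by norm_num)
  have hsub : ({1, ⟨i, hix⟩, ⟨j, hjx⟩} : Finset (zpowers x)) ⊆
      Finset.univ.filter fun a : zpowers x => a ^ 2 = 1 := by
    intro a ha
    simp only [Finset.mem_insert, Finset.mem_singleton] at ha
    refine Finset.mem_filter.2 ⟨Finset.mem_univ _, ?_⟩
    rcases ha with rfl | rfl | rfl
    · exact one_pow 2
    · exact Subtype.ext (by rw [Subgroup.coe_pow, ← hi, pow_orderOf_eq_one]; rfl)
    · exact Subtype.ext (by rw [Subgroup.coe_pow, ← hj, pow_orderOf_eq_one]; rfl)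
  have hne1 : ∀ {k : G} (hk : k ∈ zpowers x), orderOf k = 2 → (1 : zpowers x) ≠ ⟨k, hk⟩ := by
    intro k hk ho e
    rw [← show (1 : G) = k from congrArg Subtype.val e, orderOf_one] at ho
    norm_num at ho
  have h3 : ({1, ⟨i, hix⟩, ⟨j, hjx⟩} : Finset (zpowers x)).card = 3 := by
    rw [Finset.card_eq_three]
    exact ⟨1, ⟨i, hix⟩, ⟨j, hjx⟩, hne1 hix hi, hne1 hjx hj,
      fun e => hne (congrArg Subtype.val e), rfl⟩
  have := (h3 ▸ Finset.card_le_card hsub).trans h2
  omega

include h

theorem four {u t : G} (hut : Cen u t) : ∃ V : Subgroup G, Nat.card V = 4 ∧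
    V ≤ centralizer ({u} : Set G) ∧ (∀ g ∈ V, g * g = 1) ∧
      ∀ i : G, orderOf i = 2 → u * i = i * u → i ∈ V := by
  classical
  haveI : Fact (Nat.Prime 2) := ⟨by norm_num⟩
  obtain ⟨hC, -, -, hI⟩ := cent_three h hut
  set C := centralizer ({u} : Set G)
  -- no element of order four
  have h4 : ∀ a ∈ C, orderOf a ≠ 4 := by
    intro a ha h4a
    have hau : a * u = u * a := mem_centralizer_singleton_iff.1 ha
    set t' := a * a
    have ht' : orderOf t' = 2 := by
      show orderOf (a * a) = 2
      rw [← pow_two, orderOf_pow, h4a]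
      norm_num
    have hc' : Cen u t' := ⟨hut.1, ht', by
      show u * (a * a) = a * a * u
      rw [← mul_assoc, ← hau, mul_assoc, ← hau, ← mul_assoc]⟩
    obtain ⟨-, h12, -, -⟩ := cent_three h hc'
    set X := centralizer ({u} : Set G) ⊓ centralizer ({t'} : Set G)
    have hord : orderOf (a * u) = 12 := by
      rw [Commute.orderOf_mul_eq_mul_orderOf_of_coprime hau (by rw [h4a, hut.1]; norm_num), h4a, hut.1]
    have hcyc : zpowers (a * u) = X := by
      refine eq_of_le_of_card_ge (zpowers_le.2 ⟨mul_mem ha (mem_centralizer_singleton_iff.2 rfl),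
        mul_mem (mem_centralizer_singleton_iff.2 (mul_assoc a a a).symm)
          (mem_centralizer_singleton_iff.2 hc'.2.2)⟩) ?_
      rw [Nat.card_zpowers, hord, h12]
    have hone : ∀ s : G, orderOf s = 2 → u * s = s * u → t' * s = s * t' → s = t' := fun s hs hus hts => by
      refine eq_of_cyclic (x := a * u) hs ht' ?_ ?_ <;> rw [hcyc]
      · exact ⟨mem_centralizer_singleton_iff.2 hus.symm, mem_centralizer_singleton_iff.2 hts.symm⟩
      · exact ⟨mem_centralizer_singleton_iff.2 hc'.2.2.symm, mem_centralizer_singleton_iff.2 rfl⟩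
    have ht'C : ¬ C ≤ centralizer ({t'} : Set G) := fun hle => by
      have := card_le_of_le hle
      rw [hC, cent_two h ht'] at this
      omega
    obtain ⟨g, hgC, hg⟩ := SetLike.not_le_iff_exists.1 ht'C
    have hgu : g * u = u * g := mem_centralizer_singleton_iff.1 hgC
    set s := g * t' * g⁻¹
    have hs : orderOf s = 2 := by rw [order_conj]; exact ht'
    have hus : u * s = s * u := by
      show u * (g * t' * g⁻¹) = g * t' * g⁻¹ * u
      have e := congrArg (fun x => g * x * g⁻¹) hc'.2.2
      simp only [← conj_mul] at e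
      rwa [show g * u * g⁻¹ = u by rw [hgu, mul_inv_cancel_right]] at e
    have hst : s ≠ t' := fun e => hg (mem_centralizer_singleton_iff.2 (mul_inv_eq_iff_eq_mul.1 e))
    have hmem : ∀ r : G, orderOf r = 2 → u * r = r * u → orderOf (a * r * a⁻¹) = 2 ∧
        u * (a * r * a⁻¹) = a * r * a⁻¹ * u := fun r hr hur => ⟨by rw [order_conj]; exact hr, by
      have e := congrArg (fun x => a * x * a⁻¹) hur
      simp only [← conj_mul] at e
      rwa [show a * u * a⁻¹ = u by rw [hau, mul_inv_cancel_right]] at e⟩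
    have hat : a * t' * a⁻¹ = t' := by show a * (a * a) * a⁻¹ = a * a; group
    set s₁ := a * s * a⁻¹
    set s₂ := a * s₁ * a⁻¹
    obtain ⟨o1, c1⟩ := hmem s hs hus
    obtain ⟨o2, c2⟩ := hmem s₁ o1 c1
    have hne1 : s₁ ≠ t' := fun e => hst (mul_left_cancel (mul_right_cancel (e.trans hat.symm)))
    have hne2 : s₂ ≠ t' := fun e => hne1 (mul_left_cancel (mul_right_cancel (e.trans hat.symm)))
    have hfix : s₂ = s := by
      by_contra hne
      haveI := Fintype.ofFinite (InvolIn u)
      by_cases h1 : s₁ = s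
      · refine hne ?_
        show a * s₁ * a⁻¹ = s
        rw [h1]; exact h1
      have h12' : s₁ ≠ s₂ := fun e => h1 (mul_left_cancel (mul_right_cancel (e.symm : a * s₁ * a⁻¹ = a * s * a⁻¹)))
      let w : InvolIn u := ⟨t', ht', hc'.2.2⟩
      let w0 : InvolIn u := ⟨s, hs, hus⟩
      let w1 : InvolIn u := ⟨s₁, o1, c1⟩
      let w2 : InvolIn u := ⟨s₂, o2, c2⟩
      have h4' : ({w, w0, w1, w2} : Finset (InvolIn u)).card = 4 := by
        rw [Finset.card_insert_of_notMem, Finset.card_insert_of_notMem, Finset.card_pair]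
        · exact fun e => h12' (congrArg Subtype.val e)
        · simp only [Finset.mem_insert, Finset.mem_singleton, not_or]
          exact ⟨fun e => h1 (congrArg Subtype.val e).symm, fun e => hne (congrArg Subtype.val e).symm⟩
        · simp only [Finset.mem_insert, Finset.mem_singleton, not_or]
          exact ⟨fun e => hst (congrArg Subtype.val e).symm, fun e => hne1 (congrArg Subtype.val e).symm,
            fun e => hne2 (congrArg Subtype.val e).symm⟩
      have := Finset.card_le_univ ({w, w0, w1, w2} : Finset (InvolIn u))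
      rw [h4', ← Nat.card_eq_fintype_card] at this
      omega
    refine hst (hone s hs hus ?_)
    show a * a * s = s * (a * a)
    have e : a * (a * s * a⁻¹) * a⁻¹ = s := hfix
    calc a * a * s = a * (a * s * a⁻¹) * a⁻¹ * (a * a) := by group
      _ = _ := by rw [e]
  obtain ⟨T⟩ : Nonempty (Sylow 2 C) := inferInstance
  have hT : Nat.card T = 4 := by
    have := SmallOrders.sylow_card_eq (k := 2) (m := 9) (by rw [hC]; norm_num) (by norm_num) T
    simpa using this
  set V := (T : Subgroup C).map C.subtype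
  have hV : Nat.card V = 4 := by
    rw [← Nat.card_congr ((T : Subgroup C).equivMapOfInjective _ C.subtype_injective).toEquiv]; exact hT
  have hVC : V ≤ C := map_subtype_le _
  have hsq : ∀ g ∈ V, g * g = 1 := by
    intro g hg
    have hd := Subgroup.orderOf_dvd_natCard V hg
    rw [hV, show (4 : ℕ) = 2 ^ 2 by norm_num] at hd
    obtain ⟨k, hk, e⟩ := (Nat.dvd_prime_pow Nat.prime_two).1 hd
    interval_cases k
    · have e1 : g = 1 := orderOf_eq_one_iff.1 (by simpa using e)
      rw [e1, mul_one]
    · exact sq_eq (by simpa using e)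
    · exact absurd (by simpa using e) (h4 g (hVC hg))
  refine ⟨V, hV, hVC, hsq, fun i hi hui => ?_⟩
  let f : {v : V // v ≠ 1} → InvolIn u := fun v =>
    ⟨(v.1 : G), order_two_of (fun e => v.2 (Subtype.ext e)) (hsq _ v.1.2),
      (mem_centralizer_singleton_iff.1 (hVC v.1.2)).symm⟩
  have hf : Function.Injective f := fun a b e =>
    Subtype.ext (Subtype.ext (congrArg (fun x : InvolIn u => x.1) e))
  have hc3 : Nat.card {v : V // v ≠ 1} = 3 := by
    haveI := Fintype.ofFinite V
    rw [Nat.card_eq_fintype_card, Fintype.card_subtype_compl, Fintype.card_subtype_eq,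
      ← Nat.card_eq_fintype_card, hV]
  obtain ⟨v, hv⟩ := ((Nat.bijective_iff_injective_and_card f).2
    ⟨hf, le_antisymm (Nat.card_le_card_of_injective f hf) (hc3.symm ▸ hI)⟩).2 ⟨i, hi, hui⟩
  have e := congrArg (fun x : InvolIn u => x.1) hv
  change ((v.1 : V) : G) = i at e
  rw [← e]
  exact v.1.2

/-- The common centralizer of `u` and an involution of its four-group. -/
theorem inter_struct {u t g : G} {V : Subgroup G} (hut : Cen u t) (hV : Nat.card V = 4)
    (hVC : V ≤ centralizer ({u} : Set G)) (hsq : ∀ g ∈ V, g * g = 1) (htV : t ∈ V)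
    (hgu : g * u = u * g) (hgt : g * t = t * g) :
    g ^ 6 = 1 ∧ ∀ w ∈ V, g * w = w * g := by
  obtain ⟨-, h12, -, -⟩ := cent_three h hut
  set X : Subgroup G := centralizer ({u} : Set G) ⊓ centralizer ({t} : Set G)
  let f : V × zpowers u → X := fun a => ⟨(a.1 : G) * (a.2 : G), by
    obtain ⟨k, hk⟩ := mem_zpowers_iff.1 a.2.2
    refine mul_mem ⟨hVC a.1.2, mem_centralizer_singleton_iff.2 (commute_of_sq hsq a.1.2 htV)⟩ ?_
    rw [← hk]
    exact zpow_mem (show u ∈ X from ⟨mem_centralizer_singleton_iff.2 rfl,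
      mem_centralizer_singleton_iff.2 hut.2.2⟩) k⟩
  have hf : Function.Injective f := by
    rintro ⟨a, b⟩ ⟨a', b'⟩ e
    have e' : (a : G) * b = a' * b' := congrArg Subtype.val e
    have hm : (a' : G)⁻¹ * a ∈ V ⊓ zpowers u := by
      refine ⟨mul_mem (V.inv_mem a'.2) a.2, ?_⟩
      rw [show (a' : G)⁻¹ * a = (b' : G) * (b : G)⁻¹ by
        rw [inv_mul_eq_iff_eq_mul, ← mul_assoc, ← e', mul_inv_cancel_right]]
      exact mul_mem b'.2 ((zpowers u).inv_mem b.2)
    have h1 : (a' : G)⁻¹ * a = 1 := by
      rw [← orderOf_eq_one_iff]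
      refine Nat.eq_one_of_dvd_coprimes (by norm_num : Nat.Coprime 4 3) ?_ ?_
      · have := Subgroup.orderOf_dvd_natCard V hm.1
        rwa [hV] at this
      · have := Subgroup.orderOf_dvd_natCard (zpowers u) hm.2
        rwa [Nat.card_zpowers, hut.1] at this
    obtain rfl : a = a' := Subtype.ext (inv_mul_eq_one.1 h1).symm
    exact Prod.ext rfl (Subtype.ext (mul_left_cancel e'))
  have hcard : Nat.card (V × zpowers u) = Nat.card X := by
    rw [Nat.card_prod, hV, Nat.card_zpowers, hut.1, h12]
  obtain ⟨⟨⟨v, hv⟩, ⟨w, hw⟩⟩, he⟩ := ((Nat.bijective_iff_injective_and_card f).2 ⟨hf, hcard⟩).2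
    ⟨g, mem_centralizer_singleton_iff.2 hgu, mem_centralizer_singleton_iff.2 hgt⟩
  have e : v * w = g := congrArg Subtype.val he
  obtain ⟨k, rfl⟩ := mem_zpowers_iff.1 hw
  have hcu : ∀ x ∈ V, Commute x (u ^ k) := fun x hx =>
    (show Commute x u from mem_centralizer_singleton_iff.1 (hVC hx)).zpow_right k
  refine ⟨?_, fun x hx => ?_⟩
  · rw [← e, (hcu v hv).mul_pow]
    have h3 : u ^ 3 = 1 := by rw [← hut.1, pow_orderOf_eq_one]
    rw [show (6 : ℕ) = 2 * 3 by norm_num, pow_mul, pow_two, hsq v hv, one_pow, one_mul, ← zpow_natCast,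
      ← zpow_mul, mul_comm, zpow_mul, zpow_natCast, show (2 * 3 : ℕ) = 3 * 2 by norm_num, pow_mul, h3,
      one_pow, one_zpow]
  · rw [← e]
    exact ((show Commute v x from commute_of_sq hsq hv hx).mul_left (hcu x hx).symm).eq

/-- Two commuting involutions one of which inverts the element of order three of the other. -/
theorem two_inter {u z s g : G} (hz : Cen u z) (hs : orderOf s = 2) (hzs : z * s = s * z)
    (hus : u * s ≠ s * u) (hgz : g * z = z * g) (hgs : g * s = s * g) :
    g = 1 ∨ g = z ∨ g = s ∨ g = z * s := by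
  classical
  haveI : Fact (Nat.Prime 3) := ⟨by norm_num⟩
  set X : Subgroup G := centralizer ({z} : Set G) ⊓ centralizer ({s} : Set G)
  have hz24 := cent_two h hz.2.1
  have hd : Nat.card X ∣ 24 := hz24 ▸ card_dvd_of_le inf_le_left
  have h3 : ¬ 3 ∣ Nat.card X := by
    intro hdvd
    obtain ⟨⟨e, he⟩, heo⟩ := exists_prime_orderOf_dvd_card' 3 hdvd
    rw [Subgroup.orderOf_mk] at heo
    have hu' : Cen e z := ⟨heo, hz.2.1, mem_centralizer_singleton_iff.1 he.1⟩
    have hm : u ∈ zpowers e := three_unique h hz hu' ▸ mem_zpowers u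
    obtain ⟨k, rfl⟩ := mem_zpowers_iff.1 hm
    exact hus ((show Commute e s from mem_centralizer_singleton_iff.1 he.2).zpow_left k).eq
  have h8 : Nat.card X ∣ 8 :=
    ((Nat.Prime.coprime_iff_not_dvd (by norm_num)).2 h3).symm.dvd_of_dvd_mul_right
      (show Nat.card X ∣ 8 * 3 from hd)
  have hzX : z ∈ X := ⟨mem_centralizer_singleton_iff.2 rfl, mem_centralizer_singleton_iff.2 hzs⟩
  have hsX : s ∈ X := ⟨mem_centralizer_singleton_iff.2 hzs.symm, mem_centralizer_singleton_iff.2 rfl⟩
  have hne : z ≠ s := fun e => hus (e ▸ hz.2.2)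
  have hz1 : z ≠ 1 := fun e => by
    have := hz.2.1
    rw [e, orderOf_one] at this
    norm_num at this
  have hs1 : s ≠ 1 := fun e => by
    rw [e, orderOf_one] at hs
    norm_num at hs
  have hlt : Nat.card X ≠ 8 := by
    intro h8'
    obtain ⟨e⟩ := d8_of_card h h8'
    have hc : ∀ a : X, (a : G) = z ∨ (a : G) = s → ∀ d, e a * d = d * e a := by
      intro a ha d
      rw [← e.apply_symm_apply d, ← map_mul, ← map_mul]
      refine congrArg e (Subtype.ext ?_)
      rcases ha with ha | ha <;> simp only [Subgroup.coe_mul, ha]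
      · exact (mem_centralizer_singleton_iff.1 (e.symm d).2.1).symm
      · exact (mem_centralizer_singleton_iff.1 (e.symm d).2.2).symm
    refine hne (congrArg Subtype.val (e.injective (d8_center_two (e ⟨z, hzX⟩) (e ⟨s, hsX⟩)
      (fun e' => hz1 (congrArg Subtype.val (e.map_eq_one_iff.1 e')))
      (fun e' => hs1 (congrArg Subtype.val (e.map_eq_one_iff.1 e')))
      (hc _ (Or.inl rfl)) (hc _ (Or.inr rfl)))))
  have h4 : Nat.card X ≤ 4 := by
    have := Nat.le_of_dvd (by norm_num) h8
    rcases Nat.lt_or_ge 4 (Nat.card X) with h' | h'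
    · exfalso
      interval_cases (Nat.card X) <;> omega
    · exact h'
  haveI := Fintype.ofFinite X
  have hzs1 : z * s ≠ 1 := fun e => hne (by
    rw [← inv_eq_of_mul_eq_one_right e, inv_eq hz.2.1])
  let F : Finset X := {1, ⟨z, hzX⟩, ⟨s, hsX⟩, ⟨z * s, mul_mem hzX hsX⟩}
  have hF : F.card = 4 := by
    show ({_, _, _, _} : Finset X).card = 4
    rw [Finset.card_insert_of_notMem, Finset.card_insert_of_notMem, Finset.card_pair]
    · exact fun e => hz1 (mul_eq_right.1 (congrArg Subtype.val e).symm)
    · simp only [Finset.mem_insert, Finset.mem_singleton, not_or]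
      exact ⟨fun e => hne (congrArg Subtype.val e),
        fun e => hs1 (mul_eq_left.1 (congrArg Subtype.val e).symm)⟩
    · simp only [Finset.mem_insert, Finset.mem_singleton, not_or]
      exact ⟨fun e => hz1 (congrArg Subtype.val e).symm, fun e => hs1 (congrArg Subtype.val e).symm,
        fun e => hzs1 (congrArg Subtype.val e).symm⟩
  have hFu : F = Finset.univ := Finset.eq_univ_of_card _ (by
    have := Finset.card_le_univ F
    rw [← Nat.card_eq_fintype_card] at *
    omega)
  have hg : (⟨g, mem_centralizer_singleton_iff.2 hgz, mem_centralizer_singleton_iff.2 hgs⟩ : X) ∈ F :=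
    hFu ▸ Finset.mem_univ _
  simp only [F, Finset.mem_insert, Finset.mem_singleton] at hg
  rcases hg with e | e | e | e
  · exact Or.inl (congrArg Subtype.val e)
  · exact Or.inr (Or.inl (congrArg Subtype.val e))
  · exact Or.inr (Or.inr (Or.inl (congrArg Subtype.val e)))
  · exact Or.inr (Or.inr (Or.inr (congrArg Subtype.val e)))

end Cfsg.Agent.Small.AltSeven
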