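import Cfsg.Agent.Lib.Small.AltSevenFour

/-!
# Simple groups of order 2520: generators of a subgroup of index seven

We exhibit `x, v, a, b` satisfying the relations of the standard presentation of `A₆` by
`(1 2 3), (1 2)(3 4), (1 2)(4 5), (1 2)(5 6)`.
-/

set_option autoImplicit false

namespace Cfsg.Agent.Small.AltSeven

open Subgroup

universe u

/-- The relations on the four generators. -/
structure Gens {G : Type u} [Group G] (x v a b : G) : Prop where
  hx : orderOf x = 3
  hv : v * v = 1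
  ha : a * a = 1
  hb : b * b = 1
  vxv : v * x * v = x⁻¹ * v * x⁻¹
  ax : a * x = x⁻¹ * a
  bx : b * x = x⁻¹ * b
  bv : b * v = v * b
  ava : a * v * a = v * a * v
  bab : b * a * b = a * b * a
  hvx : v ∉ zpowers x
  hav : a ∉ closure ({x, v} : Set G)
  hbv : b ∉ closure ({x, v} : Set G)

variable {G : Type u} [Group G] [Finite G] [IsSimpleGroup G] (h : Nat.card G = 2520)

omit [Finite G] [IsSimpleGroup G] in
theorem mem_three {x g : G} (hx : orderOf x = 3) (hg : g ∈ zpowers x) : g = 1 ∨ g = x ∨ g = x⁻¹ := by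
  obtain ⟨k, rfl⟩ := mem_zpowers_iff.1 hg
  have h3 : x ^ 3 = 1 := by rw [← hx, pow_orderOf_eq_one]
  rw [← zpow_mod_orderOf x k, hx]
  have h1 := Int.emod_nonneg k (show ((3 : ℕ) : ℤ) ≠ 0 by norm_num)
  have h2 := Int.emod_lt_of_pos k (show (0 : ℤ) < ((3 : ℕ) : ℤ) by norm_num)
  generalize k % ((3 : ℕ) : ℤ) = j at *
  interval_cases j
  · exact Or.inl (zpow_zero x)
  · exact Or.inr (Or.inl (zpow_one x))
  · refine Or.inr (Or.inr (eq_inv_of_mul_eq_one_left ?_))
    rw [zpow_two, ← h3, pow_succ, pow_two]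

omit [Finite G] [IsSimpleGroup G] in
theorem ne_inv_self {x : G} (hx : orderOf x = 3) : x ≠ x⁻¹ := fun e => by
  have h2 : x ^ 2 = 1 := by rw [pow_two]; exact mul_eq_one_iff_eq_inv.2 e
  have := orderOf_dvd_of_pow_eq_one h2
  rw [hx] at this
  norm_num at this

omit [Finite G] [IsSimpleGroup G] in
theorem mul_self_eq_inv {x : G} (hx : orderOf x = 3) : x * x = x⁻¹ := by
  refine eq_inv_of_mul_eq_one_left ?_
  rw [← pow_two, ← pow_succ, show 2 + 1 = orderOf x from hx.symm, pow_orderOf_eq_one]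

omit [Finite G] [IsSimpleGroup G] in
/-- If `b` inverts `x` then it preserves the centralizer of `x`. -/
theorem commute_conj_of_inverts {b x w : G} (hb : b * x * b⁻¹ = x⁻¹) (hw : x * w = w * x) :
    x * (b * w * b⁻¹) = b * w * b⁻¹ * x := by
  have e := congrArg (fun g => b * g * b⁻¹) hw
  simp only [← conj_mul, hb] at e
  exact (Commute.inv_left_iff.1 (show Commute x⁻¹ (b * w * b⁻¹) from e)).eq

omit [Finite G] [IsSimpleGroup G] in
theorem commute_conj_of_commute {b x w : G} (hb : b * x = x * b) (hw : x * w = w * x) :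
    x * (b * w * b⁻¹) = b * w * b⁻¹ * x :=
  (((show Commute x b from hb.symm).mul_right (show Commute x w from hw)).mul_right
    (show Commute x b from hb.symm).inv_right).eq

omit [IsSimpleGroup G] in
theorem four_cases {V : Subgroup G} (hV : Nat.card V = 4) {p q : G} (hp : p ∈ V) (hq : q ∈ V)
    (hp1 : p ≠ 1) (hq1 : q ≠ 1) (hpq : p ≠ q) (hp2 : p * p = 1) {r : G} (hr : r ∈ V) :
    r = 1 ∨ r = p ∨ r = q ∨ r = p * q := by
  classical
  haveI := Fintype.ofFinite V
  have hpq1 : p * q ≠ 1 := fun e => hpq (mul_left_cancel (a := p) (hp2.trans e.symm))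
  have hF : ({1, ⟨p, hp⟩, ⟨q, hq⟩, ⟨p * q, mul_mem hp hq⟩} : Finset V).card = 4 := by
    rw [Finset.card_insert_of_notMem, Finset.card_insert_of_notMem, Finset.card_pair]
    · exact fun e => hp1 (mul_eq_right.1 (congrArg Subtype.val e).symm)
    · simp only [Finset.mem_insert, Finset.mem_singleton, not_or]
      exact ⟨fun e => hpq (congrArg Subtype.val e),
        fun e => hq1 (mul_eq_left.1 (congrArg Subtype.val e).symm)⟩
    · simp only [Finset.mem_insert, Finset.mem_singleton, not_or]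
      exact ⟨fun e => hp1 (congrArg Subtype.val e).symm, fun e => hq1 (congrArg Subtype.val e).symm,
        fun e => hpq1 (congrArg Subtype.val e).symm⟩
  have hu := Finset.eq_univ_of_card _ (hF.trans (hV.symm.trans Nat.card_eq_fintype_card))
  have hm : (⟨r, hr⟩ : V) ∈ ({1, ⟨p, hp⟩, ⟨q, hq⟩, ⟨p * q, mul_mem hp hq⟩} : Finset V) :=
    hu ▸ Finset.mem_univ _
  simp only [Finset.mem_insert, Finset.mem_singleton] at hm
  rcases hm with e | e | e | e
  · exact Or.inl (congrArg Subtype.val e)
  · exact Or.inr (Or.inl (congrArg Subtype.val e))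
  · exact Or.inr (Or.inr (Or.inl (congrArg Subtype.val e)))
  · exact Or.inr (Or.inr (Or.inr (congrArg Subtype.val e)))

omit [IsSimpleGroup G] in
theorem braid {V : Subgroup G} (hV : Nat.card V = 4) (hsq : ∀ g ∈ V, g * g = 1) {k w : G}
    (hk : orderOf k = 3) (hw : w ∈ V) (hn : ∀ g ∈ V, k * g * k⁻¹ ∈ V) (hkw : k * w ≠ w * k) :
    w * k * w = k⁻¹ * w * k⁻¹ := by
  have hw1 : w ≠ 1 := fun e => hkw (by rw [e, mul_one, one_mul])
  set q := k * w * k⁻¹
  have hq : q ∈ V := hn w hw
  have hr : k * q * k⁻¹ ∈ V := hn q hq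
  have hqw : w ≠ q := fun e => hkw (mul_inv_eq_iff_eq_mul.1 e.symm)
  have hq1 : q ≠ 1 := fun e => hw1 (by
    have := mul_inv_eq_iff_eq_mul.1 e
    rwa [one_mul, mul_eq_left] at this)
  have h2 := mul_self_eq_inv hk
  have er : k * q * k⁻¹ = k⁻¹ * w * k := by
    show k * (k * w * k⁻¹) * k⁻¹ = _
    calc _ = (k * k) * w * (k * k)⁻¹ := by group
      _ = _ := by rw [h2, inv_inv]
  rcases four_cases hV hw hq hw1 hq1 hqw (hsq w hw) hr with e | e | e | e
  · exact absurd (by simpa using e) hq1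
  · exfalso
    rw [er, mul_assoc, inv_mul_eq_iff_eq_mul] at e
    exact hkw e.symm
  · exfalso
    exact hqw (mul_left_cancel (mul_right_cancel e)).symm
  · rw [er] at e
    calc w * k * w = w * (k * w * k⁻¹) * k := by group
      _ = k⁻¹ * w * k * k := by rw [e]
      _ = _ := by rw [mul_assoc _ k k, h2]

omit [IsSimpleGroup G] in
theorem exists_fix {V : Subgroup G} (hV : Nat.card V = 4) (hsq : ∀ g ∈ V, g * g = 1) {b : G}
    (hb : b * b = 1) (hn : ∀ w ∈ V, b * w * b⁻¹ ∈ V) : ∃ w ∈ V, w ≠ 1 ∧ b * w = w * b := by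
  haveI : Nontrivial V := Finite.one_lt_card_iff_nontrivial.1 (by rw [hV]; norm_num)
  obtain ⟨⟨p, hp⟩, hp1⟩ := exists_ne (1 : V)
  replace hp1 : p ≠ 1 := fun e => hp1 (Subtype.ext e)
  by_cases hc : b * p * b⁻¹ = p
  · exact ⟨p, hp, hp1, mul_inv_eq_iff_eq_mul.1 hc⟩
  · refine ⟨p * (b * p * b⁻¹), mul_mem hp (hn p hp), fun e => hc ?_, mul_inv_eq_iff_eq_mul.1 ?_⟩
    · exact (mul_left_cancel (a := p) ((hsq p hp).trans e.symm)).symm
    · have e' : b * (b * p * b⁻¹) * b⁻¹ = p := by
        calc _ = (b * b) * p * (b * b)⁻¹ := by group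
          _ = p := by rw [hb, one_mul, inv_one, mul_one]
      rw [← conj_mul, e', commute_of_sq hsq (hn p hp) hp]

include h

theorem fpf {x e w : G} (hxw : Cen x w) (he : orderOf e = 3) (hne : e ∉ zpowers x) :
    e * w ≠ w * e := fun hc =>
  hne (three_unique h (⟨he, hxw.2.1, hc⟩ : Cen e w) hxw ▸ mem_zpowers e)

/-- An involution inverting `x` centralizes at most one involution of the four-group of `x`. -/
theorem two_fix {x b w w' : G} (hw : Cen x w) (hw' : Cen x w') (hne : w ≠ w')
    (hww : w * w' = w' * w) (hb : orderOf b = 2) (hxb : x * b ≠ b * x) (hbw : b * w = w * b)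
    (hbw' : b * w' = w' * b) : False := by
  rcases two_inter h hw hb hbw.symm hxb hww.symm hbw'.symm with e | e | e | e
  · have := hw'.2.1
    rw [e, orderOf_one] at this
    norm_num at this
  · exact hne e.symm
  · exact hxb (e ▸ hw'.2.2)
  · refine hxb ?_
    have eb : b = w⁻¹ * w' := by rw [e, inv_mul_cancel_left]
    rw [eb]
    exact ((show Commute x w from hw.2.2).inv_right.mul_right hw'.2.2).eq

/-- The configuration: two independent elements of order three with their four-groups, and an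
involution inverting both. -/
theorem config : ∃ (x k b : G) (V V' : Subgroup G), orderOf x = 3 ∧ orderOf k = 3 ∧ orderOf b = 2 ∧
    k ∉ zpowers x ∧ x ∉ zpowers k ∧ x * k = k * x ∧ b * x * b⁻¹ = x⁻¹ ∧ b * k * b⁻¹ = k⁻¹ ∧
    Nat.card V = 4 ∧ Nat.card V' = 4 ∧ (∀ g ∈ V, g * g = 1) ∧ (∀ g ∈ V', g * g = 1) ∧
    (∀ g ∈ V, x * g = g * x) ∧ (∀ g ∈ V', k * g = g * k) ∧
    (∀ i : G, orderOf i = 2 → x * i = i * x → i ∈ V) ∧
    (∀ i : G, orderOf i = 2 → k * i = i * k → i ∈ V') := by
  classical
  haveI : Fact (Nat.Prime 2) := ⟨by norm_num⟩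
  haveI : Fact (Nat.Prime 3) := ⟨by norm_num⟩
  obtain ⟨t, ht⟩ := exists_prime_orderOf_dvd_card' (G := G) 2 (by rw [h]; norm_num)
  obtain ⟨⟨x, hxt⟩, hxo⟩ := exists_prime_orderOf_dvd_card' (G := centralizer ({t} : Set G)) 3
    (by rw [cent_two h ht]; norm_num)
  rw [Subgroup.orderOf_mk] at hxo
  have hut : Cen x t := ⟨hxo, ht, mem_centralizer_singleton_iff.1 hxt⟩
  obtain ⟨V, hV, hVC, hVsq, hVI⟩ := four h hut
  have hVx : ∀ g ∈ V, x * g = g * x := fun g hg => (mem_centralizer_singleton_iff.1 (hVC hg)).symm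
  obtain ⟨E, hle⟩ := (IsPGroup.of_card (p := 3) (n := 1) (G := zpowers x)
    (by rw [Nat.card_zpowers, hxo]; norm_num)).exists_le_sylow
  have hE : Nat.card E = 3 ^ 2 :=
    SmallOrders.sylow_card_eq (k := 2) (m := 280) (by rw [h]; norm_num) (by norm_num) E
  have hab := IsPGroup.commutative_of_card_eq_prime_sq hE
  have hEc : ∀ p ∈ (E : Subgroup G), ∀ q ∈ (E : Subgroup G), p * q = q * p := fun p hp q hq =>
    congrArg Subtype.val (hab ⟨p, hp⟩ ⟨q, hq⟩)
  have hxE : x ∈ (E : Subgroup G) := hle (mem_zpowers x)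
  have hEx : ∀ e ∈ (E : Subgroup G), x * e = e * x := fun e he => hEc x hxE e he
  have hEord : ∀ e ∈ (E : Subgroup G), e ≠ 1 → e ∉ zpowers x → orderOf e ∣ 9 ∧ orderOf e ≠ 1 :=
    fun e he h1 _ => ⟨by
      have := Subgroup.orderOf_dvd_natCard (E : Subgroup G) he
      rwa [show Nat.card (E : Subgroup G) = 3 ^ 2 from hE] at this, fun e1 => h1 (orderOf_eq_one_iff.1 e1)⟩
  have hEV : ∀ e ∈ (E : Subgroup G), ∀ w ∈ V, e * w * e⁻¹ ∈ V := by
    intro e he w hw
    rcases eq_or_ne w 1 with rfl | hw1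
    · rw [mul_one, mul_inv_cancel]; exact V.one_mem
    · exact hVI _ (by rw [order_conj]; exact order_two_of hw1 (hVsq w hw))
        (commute_conj_of_commute (hEx e he).symm (hVx w hw))
  have hEcap : ∀ g : G, g ∈ V → g ∈ (E : Subgroup G) → g = 1 := by
    intro g hgV hgE
    rw [← orderOf_eq_one_iff]
    refine Nat.eq_one_of_dvd_coprimes (by norm_num : Nat.Coprime 4 9) ?_ ?_
    · have := Subgroup.orderOf_dvd_natCard V hgV
      rwa [hV] at this
    · have := Subgroup.orderOf_dvd_natCard (E : Subgroup G) hgE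
      rwa [show Nat.card (E : Subgroup G) = 3 ^ 2 from hE] at this
  -- no involution of `V` normalises `E`
  have hnn : ∀ w ∈ V, w ≠ 1 → ¬ ∀ e ∈ (E : Subgroup G), w * e * w⁻¹ ∈ (E : Subgroup G) := by
    intro w hw hw1 hn
    have hwo := order_two_of hw1 (hVsq w hw)
    have hcom : ∀ e ∈ (E : Subgroup G), e * w = w * e := by
      intro e he
      have h1 : w * e * w⁻¹ * e⁻¹ = 1 := hEcap _
        (by rw [mul_assoc w e, mul_assoc w]
            exact mul_mem hw (hEV e he _ (V.inv_mem hw)))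
        (mul_mem (hn e he) ((E : Subgroup G).inv_mem he))
      exact (mul_inv_eq_iff_eq_mul.1 (mul_inv_eq_one.1 h1)).symm
    have hsub : (E : Subgroup G) ≤ zpowers x := by
      intro e he
      by_contra hne
      have h1 : e ≠ 1 := fun e1 => hne (e1 ▸ one_mem _)
      obtain ⟨hd, hn1⟩ := hEord e he h1 hne
      obtain ⟨j, hj, ej⟩ := (Nat.dvd_prime_pow (by norm_num : Nat.Prime 3)).1
        (show orderOf e ∣ 3 ^ 2 from hd)
      interval_cases j
      · exact hn1 (by simpa using ej)
      · exact fpf h ⟨hxo, hwo, hVx w hw⟩ (by simpa using ej) hne (hcom e he)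
      · obtain ⟨-, h12, -, -⟩ := cent_three h (⟨hxo, hwo, hVx w hw⟩ : Cen x w)
        have := Subgroup.orderOf_dvd_natCard
          (centralizer ({x} : Set G) ⊓ centralizer ({w} : Set G))
          (x := e) ⟨mem_centralizer_singleton_iff.2 (hEx e he).symm,
            mem_centralizer_singleton_iff.2 (hcom e he)⟩
        rw [h12, ej] at this
        norm_num at this
    have := card_le_of_le hsub
    rw [Nat.card_zpowers, hxo, show Nat.card (E : Subgroup G) = 3 ^ 2 from hE] at this
    norm_num at this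
  -- the normaliser of `E` in the normaliser of `⟨x⟩`
  set N := normalizer ((zpowers x : Subgroup G) : Set G)
  have hN : Nat.card N = 72 := (cent_three h hut).2.2.1
  have hEN : (E : Subgroup G) ≤ N := fun e he => centralizer_le_normalizer _ (by
    rw [centralizer_zpowers']; exact mem_centralizer_singleton_iff.2 (hEx e he).symm)
  have hVN : V ≤ N := fun g hg => centralizer_le_normalizer _ (by
    rw [centralizer_zpowers']; exact hVC hg)
  set E' : Sylow 3 N := E.subtype hEN
  set M := normalizer ((E' : Subgroup N) : Set N)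
  have hM : Nat.card M = 18 := by
    have hprod : Nat.card (Sylow 3 N) * Nat.card M = 72 := hN ▸ SmallOrders.card_normalizer E'
    have hidx : (E' : Subgroup N).index = 8 := by
      have h3 := (E' : Subgroup N).index_mul_card
      rw [hN, show Nat.card (E' : Subgroup N) = 3 ^ 2 from
        SmallOrders.sylow_card_eq (k := 2) (m := 8) (by rw [hN]; norm_num) (by norm_num) E'] at h3
      omega
    have hn := SylowTricks.card_sylow_cases E'
    rw [hidx] at hn
    obtain ⟨hd, hm⟩ := hn
    have hle8 := Nat.le_of_dvd (by norm_num) hd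
    have hne1 : Nat.card (Sylow 3 N) ≠ 1 := by
      intro h1
      rw [h1, one_mul] at hprod
      have htop : M = ⊤ := eq_top_of_card_eq _ (hprod.trans hN.symm)
      refine hnn t (hVI t ht hut.2.2) (fun e => by rw [e, orderOf_one] at ht; norm_num at ht) ?_
      intro e he
      have hmem : (⟨t, hVN (hVI t ht hut.2.2)⟩ : N) ∈ M := htop ▸ mem_top _
      exact (mem_normalizer_iff.1 hmem ⟨e, hEN he⟩).1 he
    have hpos : 0 < Nat.card (Sylow 3 N) := Nat.card_pos
    have h4 : Nat.card (Sylow 3 N) = 4 := by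
      interval_cases (Nat.card (Sylow 3 N)) <;> omega
    rw [h4] at hprod
    omega
  have hnorm : ∀ g : N, g ∈ M → ∀ e ∈ (E : Subgroup G), (g : G) * e * (g : G)⁻¹ ∈ (E : Subgroup G) :=
    fun g hg e he => (mem_normalizer_iff.1 hg ⟨e, hEN he⟩).1 he
  -- the involution inverting `x`
  obtain ⟨⟨⟨b, hbN⟩, hbM⟩, hbo⟩ := exists_prime_orderOf_dvd_card' (G := M) 2 (by rw [hM]; norm_num)
  rw [Subgroup.orderOf_mk, Subgroup.orderOf_mk] at hbo
  have hbE : ∀ e ∈ (E : Subgroup G), b * e * b⁻¹ ∈ (E : Subgroup G) := hnorm _ hbM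
  have hb1 : b ≠ 1 := fun e => by rw [e, orderOf_one] at hbo; norm_num at hbo
  have hbxc : b * x * b⁻¹ ≠ x := fun e =>
    hnn b (hVI b hbo (mul_inv_eq_iff_eq_mul.1 e).symm) hb1 hbE
  have hbx : b * x * b⁻¹ = x⁻¹ := by
    have hm : b * x * b⁻¹ ∈ zpowers x := (mem_normalizer_iff.1 hbN x).1 (mem_zpowers x)
    rcases mem_three hxo hm with e | e | e
    · exfalso
      have := order_conj (x := x) b
      rw [e, orderOf_one, hxo] at this
      norm_num at this
    · exact absurd e hbxc
    · exact e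
  -- the second element of order three
  obtain ⟨n, hn, hnx⟩ : ∃ n ∈ normalizer ((E : Subgroup G) : Set G), n * x * n⁻¹ ∉ zpowers x := by
    by_contra hcon
    push_neg at hcon
    set NE := normalizer ((E : Subgroup G) : Set G)
    have hNEN : NE ≤ N := fun n hn => Fusion.mem_normalizer_of_cj_le (by
      show (zpowers x).map (MulAut.conj n).toMonoidHom ≤ _
      rw [MonoidHom.map_zpowers, zpowers_le]
      exact hcon n hn)
    have heq : NE.subgroupOf N = M := by
      refine le_antisymm (fun g hg => mem_normalizer_iff.2 fun e => ?_) (fun g hg => ?_)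
      · exact mem_normalizer_iff.1 (show (g : G) ∈ NE from hg) (e : G)
      · exact Fusion.mem_normalizer_of_cj_le (by
          rintro _ ⟨e, he, rfl⟩
          exact hnorm g hg e he)
    have hNE : Nat.card NE = 18 := by
      rw [← Nat.card_congr (subgroupOfEquivOfLe hNEN).toEquiv, heq]; exact hM
    have hprod := h ▸ SmallOrders.card_normalizer E
    have hmod := card_sylow_modEq_one 3 G
    rw [show Nat.card (normalizer ((E : Subgroup G) : Set G)) = 18 from hNE] at hprod
    have : Nat.card (Sylow 3 G) = 140 := by omega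
    rw [this] at hmod
    exact absurd hmod (by decide)
  set k := n * x * n⁻¹
  have hkE : k ∈ (E : Subgroup G) := (mem_normalizer_iff.1 hn x).1 hxE
  have hko : orderOf k = 3 := by rw [order_conj]; exact hxo
  have hkt : Cen k (n * t * n⁻¹) := ⟨hko, by rw [order_conj]; exact ht, by
    rw [conj_mul, conj_mul, hut.2.2]⟩
  obtain ⟨V', hV', hV'C, hV'sq, hV'I⟩ := four h hkt
  have hxk : x ∉ zpowers k := fun hx => hnx (by
    have e : zpowers x = zpowers k := eq_of_le_of_card_ge (zpowers_le.2 hx) (by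
      rw [Nat.card_zpowers, Nat.card_zpowers, hxo, hko])
    exact e ▸ mem_zpowers k)
  refine ⟨x, k, b, V, V', hxo, hko, hbo, hnx, hxk, hEx k hkE, hbx, ?_, hV, hV', hVsq, hV'sq, hVx,
    fun g hg => (mem_centralizer_singleton_iff.1 (hV'C hg)).symm, hVI, hV'I⟩
  -- `b` inverts `k`
  set k' := b * k * b⁻¹
  have hk'E : k' ∈ (E : Subgroup G) := hbE k hkE
  have hbb := sq_eq hbo
  set g := k * k'
  have hgE : g ∈ (E : Subgroup G) := mul_mem hkE hk'E
  have hgb : b * g * b⁻¹ = g := by
    have e : b * k' * b⁻¹ = k := by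
      show b * (b * k * b⁻¹) * b⁻¹ = k
      calc _ = (b * b) * k * (b * b)⁻¹ := by group
        _ = k := by rw [hbb, one_mul, inv_one, mul_one]
    show b * (k * k') * b⁻¹ = k * k'
    rw [← conj_mul, e, hEc k' hk'E k hkE]
  suffices hg1 : g = 1 by exact eq_inv_of_mul_eq_one_right hg1
  by_contra hg1
  have hgord : orderOf g = 3 := by
    refine orderOf_eq_prime ?_ hg1
    have e3 : k ^ 3 = 1 := by rw [← hko, pow_orderOf_eq_one]
    have hc : Commute k k' := hEc k hkE k' hk'E
    rw [hc.mul_pow, e3, one_mul]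
    show (b * k * b⁻¹) ^ 3 = 1
    rw [conj_pow, e3, mul_one, mul_inv_cancel]
  have hgx : g ∉ zpowers x := by
    intro hm
    rcases mem_three hxo hm with e | e | e
    · exact hg1 e
    · rw [e] at hgb; exact hbxc hgb
    · rw [e] at hgb
      refine hbxc ?_
      have := congrArg Inv.inv hgb
      rwa [conj_inv, inv_inv] at this
  have hbV : ∀ w ∈ V, b * w * b⁻¹ ∈ V := by
    intro w hw
    rcases eq_or_ne w 1 with rfl | hw1
    · rw [mul_one, mul_inv_cancel]; exact V.one_mem
    · exact hVI _ (by rw [order_conj]; exact order_two_of hw1 (hVsq w hw))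
        (commute_conj_of_inverts hbx (hVx w hw))
  obtain ⟨w, hw, hw1, hbw⟩ := exists_fix hV hVsq hbb hbV
  have hw' : g * w * g⁻¹ ∈ V := hEV g hgE w hw
  have hwo := order_two_of hw1 (hVsq w hw)
  refine two_fix h (x := x) (b := b) (w := w) (w' := g * w * g⁻¹) ⟨hxo, hwo, hVx w hw⟩
    ⟨hxo, by rw [order_conj]; exact hwo, hVx _ hw'⟩
    (fun e => fpf h ⟨hxo, hwo, hVx w hw⟩ hgord hgx (mul_inv_eq_iff_eq_mul.1 e.symm))
    (commute_of_sq hVsq hw hw') hbo (fun e => hbxc (mul_inv_eq_iff_eq_mul.2 e.symm)) hbw ?_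
  have hbg : Commute b g := mul_inv_eq_iff_eq_mul.1 hgb
  exact ((hbg.mul_right hbw).mul_right hbg.inv_right).eq

theorem gens : ∃ x v a b : G, Gens x v a b := by
  classical
  haveI : Fact (Nat.Prime 3) := ⟨by norm_num⟩
  obtain ⟨x, k, b, V, V', hx, hk, hb, hkx, hxk, hcomm, hbx, hbk, hV, hV', hsq, hsq', hVx, hVk, hVI,
    hVI'⟩ := config h
  have hbb := sq_eq hb
  have hbi := inv_eq hb
  let c := b * k
  have hc2 : c * c = 1 := by
    show b * k * (b * k) = 1
    calc b * k * (b * k) = b * k * b⁻¹ * k := by rw [hbi]; group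
      _ = 1 := by rw [hbk, inv_mul_cancel]
  have hc1 : c ≠ 1 := fun e => by
    have h1 : orderOf b⁻¹ = 3 := by rw [inv_eq_of_mul_eq_one_right e]; exact hk
    rw [orderOf_inv, hb] at h1
    norm_num at h1
  have hco := order_two_of hc1 hc2
  have hcx : c * x * c⁻¹ = x⁻¹ := by
    show b * k * x * (b * k)⁻¹ = _
    rw [← hbx, mul_assoc b k x, ← hcomm]
    group
  have hck : c * k * c⁻¹ = k⁻¹ := by
    show b * k * k * (b * k)⁻¹ = _
    rw [← hbk]; group
  have hnV : ∀ d : G, d * x * d⁻¹ = x⁻¹ → ∀ w ∈ V, d * w * d⁻¹ ∈ V := by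
    intro d hd w hw
    rcases eq_or_ne w 1 with rfl | hw1
    · rw [mul_one, mul_inv_cancel]; exact V.one_mem
    · exact hVI _ (by rw [order_conj]; exact order_two_of hw1 (hsq w hw))
        (commute_conj_of_inverts hd (hVx w hw))
  have hnV' : ∀ d : G, d * k * d⁻¹ = k⁻¹ → ∀ w ∈ V', d * w * d⁻¹ ∈ V' := by
    intro d hd w hw
    rcases eq_or_ne w 1 with rfl | hw1
    · rw [mul_one, mul_inv_cancel]; exact V'.one_mem
    · exact hVI' _ (by rw [order_conj]; exact order_two_of hw1 (hsq' w hw))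
        (commute_conj_of_inverts hd (hVk w hw))
  have hkV : ∀ w ∈ V, k * w * k⁻¹ ∈ V := by
    intro w hw
    rcases eq_or_ne w 1 with rfl | hw1
    · rw [mul_one, mul_inv_cancel]; exact V.one_mem
    · exact hVI _ (by rw [order_conj]; exact order_two_of hw1 (hsq w hw))
        (commute_conj_of_commute hcomm.symm (hVx w hw))
  have hxV' : ∀ w ∈ V', x * w * x⁻¹ ∈ V' := by
    intro w hw
    rcases eq_or_ne w 1 with rfl | hw1
    · rw [mul_one, mul_inv_cancel]; exact V'.one_mem
    · exact hVI' _ (by rw [order_conj]; exact order_two_of hw1 (hsq' w hw))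
        (commute_conj_of_commute hcomm (hVk w hw))
  obtain ⟨v, hv, hv1, hbv⟩ := exists_fix hV' hsq' hbb (hnV' b hbk)
  obtain ⟨z, hz, hz1, hcz⟩ := exists_fix hV hsq hc2 (hnV c hcx)
  have hvo := order_two_of hv1 (hsq' v hv)
  have hzo := order_two_of hz1 (hsq z hz)
  have hkv : Cen k v := ⟨hk, hvo, hVk v hv⟩
  have hxz : Cen x z := ⟨hx, hzo, hVx z hz⟩
  have hxv := fpf h hkv hx hxk
  have hkz := fpf h hxz hk hkx
  have hcv : c * v = v * c := ((show Commute b v from hbv).mul_left hkv.2.2).eq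
  let a := c * z
  have hci := inv_eq hco
  have ha2 : a * a = 1 := by
    show c * z * (c * z) = 1
    calc c * z * (c * z) = c * z * (z * c) := by rw [hcz]
      _ = c * (z * z) * c := by group
      _ = 1 := by rw [hsq z hz, mul_one, hc2]
  have hax : a * x * a⁻¹ = x⁻¹ := by
    show c * z * x * (c * z)⁻¹ = _
    rw [mul_assoc c z x, ← hVx z hz, ← hcx]; group
  have hca : c * a = a * c := by
    show c * (c * z) = c * z * c
    rw [mul_assoc c z c, ← hcz]
  have hvxv := braid hV' hsq' hx hv hxV' hxv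
  have hzkz := braid hV hsq hk hz hkV hkz
  have hbab : b * a * b = a * b * a := by
    have e0 : b * (a * b) * b⁻¹ = k * z := by
      show b * (b * k * z * b) * b⁻¹ = _
      calc b * (b * k * z * b) * b⁻¹ = (b * b) * (k * z) := by group
        _ = _ := by rw [hbb, one_mul]
    have e3 : (k * z) ^ 3 = 1 := by
      calc (k * z) ^ 3 = k * (z * k * z) * (k * z) := by
            simp only [pow_succ, pow_zero, one_mul, mul_assoc]
        _ = z * z := by rw [hzkz]; group
        _ = 1 := hsq z hz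
    rw [← e0, conj_pow, mul_inv_eq_one, mul_eq_left] at e3
    have ha' : a⁻¹ = a := inv_eq_of_mul_eq_one_right ha2
    calc b * a * b = a⁻¹ * (a * b) ^ 3 * b⁻¹ * a⁻¹ := by
          simp only [pow_succ, pow_zero, one_mul, mul_assoc]; group
      _ = a * b * a := by rw [e3, mul_one, hbi, ha']
  have hzb : b * z ≠ z * b := by
    intro e
    refine hkz ?_
    have h1 : c * z * c⁻¹ = z := mul_inv_eq_iff_eq_mul.2 hcz
    have h2 : b * z * b⁻¹ = z := mul_inv_eq_iff_eq_mul.2 e
    have h3 : b * (k * z * k⁻¹) * b⁻¹ = b * z * b⁻¹ := by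
      rw [h2]
      exact Eq.trans (by show _ = b * k * z * (b * k)⁻¹; group) h1
    exact mul_inv_eq_iff_eq_mul.1 (mul_left_cancel (mul_right_cancel h3))
  -- the order of `v * a`
  obtain ⟨⟨r, hrc⟩, hro⟩ := exists_prime_orderOf_dvd_card' (G := centralizer ({c} : Set G)) 3
    (by rw [cent_two h hco]; norm_num)
  rw [Subgroup.orderOf_mk] at hro
  have hr : Cen r c := ⟨hro, hco, mem_centralizer_singleton_iff.1 hrc⟩
  have hnotc : ∀ y : G, orderOf y = 3 → c * y * c⁻¹ = y⁻¹ → y ∉ zpowers r := by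
    intro y hy hi hm
    obtain ⟨j, rfl⟩ := mem_zpowers_iff.1 hm
    refine ne_inv_self hy ?_
    rw [← hi]
    exact (mul_inv_eq_iff_eq_mul.2 ((show Commute r c from hr.2.2).zpow_left j).symm.eq).symm
  have hinv : ∀ d : G, c * d = d * c → d * r ≠ r * d → d * r * d⁻¹ = r⁻¹ := by
    intro d hd hne
    have hdr : Cen (d * r * d⁻¹) c := ⟨by rw [order_conj]; exact hro, hco,
      (commute_conj_of_commute (x := c) hd.symm hr.2.2.symm).symm⟩
    have hm : d * r * d⁻¹ ∈ zpowers r := three_unique h hdr hr ▸ mem_zpowers _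
    rcases mem_three hro hm with e | e | e
    · exfalso
      have := order_conj (x := r) d
      rw [e, orderOf_one, hro] at this
      norm_num at this
    · exact absurd (mul_inv_eq_iff_eq_mul.1 e) hne
    · exact e
  have hvr : v * r ≠ r * v := fun e =>
    hnotc k hk hck (three_unique h (⟨hro, hvo, e.symm⟩ : Cen r v) hkv ▸ mem_zpowers k)
  have har : a * r ≠ r * a := fun e => by
    refine hnotc x hx hcx (three_unique h (⟨hro, hzo, ?_⟩ : Cen r z) hxz ▸ mem_zpowers x)
    have ez : z = c⁻¹ * a := (inv_mul_cancel_left c z).symm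
    rw [ez]
    exact ((show Commute r c from hr.2.2).inv_right.mul_right e.symm).eq
  have hvr' := hinv v hcv hvr
  have har' := hinv a hca har
  have hgr : v * a * r = r * (v * a) := mul_inv_eq_iff_eq_mul.1 (by
    calc v * a * r * (v * a)⁻¹ = v * (a * r * a⁻¹) * v⁻¹ := by group
      _ = _ := by rw [har', ← conj_inv, hvr', inv_inv])
  have hgc : v * a * c = c * (v * a) := ((show Commute v c from hcv.symm).mul_left hca.symm).eq
  obtain ⟨W, hW, hWC, hWsq, hWI⟩ := four h hr
  obtain ⟨hg6, -⟩ := inter_struct h hr hW hWC hWsq (hWI c hco hr.2.2) hgr hgc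
  set w := (v * a) ^ 3
  have hw2 : w * w = 1 := by rw [← pow_add]; exact hg6
  have hwc : w * c = c * w := ((show Commute (v * a) c from hgc).pow_left 3).eq
  have hwr : w * r = r * w := ((show Commute (v * a) r from hgr).pow_left 3).eq
  have hvi := inv_eq hvo
  have hai : a⁻¹ = a := inv_eq_of_mul_eq_one_right ha2
  have hwv : w * v = v * w := by
    have e : v * (v * a) * v⁻¹ = (v * a)⁻¹ := by rw [mul_inv_rev, hvi, hai, ← mul_assoc, hsq' v hv, one_mul]
    have e' := conj_pow (a := v) (b := v * a) (i := 3)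
    rw [e, inv_pow] at e'
    have e2 : v * w * v⁻¹ = w := e'.symm.trans (inv_eq_of_mul_eq_one_right hw2)
    exact (mul_inv_eq_iff_eq_mul.1 e2).symm
  have hkc : k * c ≠ c * k := fun e => ne_inv_self hk (by
    rw [← hck]; exact (mul_inv_eq_iff_eq_mul.2 e.symm).symm)
  have hw1 : w = 1 := by
    rcases two_inter h hkv hco hcv.symm hkc hwv hwc with e | e | e | e
    · exact e
    · exact absurd (e ▸ hwr) hvr
    · exfalso
      have hbv' : b * v = v * b := hbv
      have e1 : (a * v * a * b) ^ 3 = a * b * w * (a * b)⁻¹ := by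
        rw [show (a * b * w * (a * b)⁻¹ : G) = (a * b * (v * a) * (a * b)⁻¹) ^ 3 from conj_pow.symm]
        congr 1
        have e4 : b * a * b⁻¹ = a * b * a := by rw [hbi, hbab]
        calc a * v * a * b = a * v * (a * b * a) * a⁻¹ := by group
          _ = a * (v * b) * a * b⁻¹ * a⁻¹ := by rw [← e4]; group
          _ = _ := by rw [← hbv']; group
      have e2 : a * v * a * b = v * (z * b) * v⁻¹ := by
        have e5 : v * (a * v * a) * (v * a) = c := by
          rw [← e]
          show v * (a * v * a) * (v * a) = (v * a) ^ 3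
          simp only [pow_succ, pow_zero, one_mul, mul_assoc]
        have e6 : a * v * a = v * (c * a) * v := by
          calc a * v * a = v⁻¹ * (v * (a * v * a) * (v * a)) * (v * a)⁻¹ := by group
            _ = v * c * (a * v) := by rw [e5, mul_inv_rev, hvi, hai]
            _ = _ := by group
        calc a * v * a * b = v * (c * a) * (v * b) := by rw [e6]; group
          _ = v * (c * c) * z * (b * v⁻¹) := by rw [← hbv', hvi]; simp only [a, mul_assoc]
          _ = _ := by rw [hc2, mul_one]; group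
      have e7 : v * ((z * b) ^ 3 * (z * b) ^ 3) * v⁻¹ = 1 := by
        rw [← conj_mul, ← conj_pow, ← e2, e1, conj_mul, hw2, mul_one, mul_inv_cancel]
      have e8 : (z * b) ^ 6 = 1 := by
        rw [show (z * b) ^ 6 = (z * b) ^ 3 * (z * b) ^ 3 from pow_add _ 3 3]
        rwa [mul_inv_eq_one, mul_eq_left] at e7
      set q := z * (b * z * b⁻¹)
      have hq : q ∈ V := mul_mem hz (hnV b hbx z hz)
      have e9 : (z * b) ^ 2 = q := by
        show (z * b) ^ 2 = z * (b * z * b⁻¹)
        rw [hbi, pow_two]; simp only [mul_assoc]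
      rw [pow_mul _ 2 3, e9, show (3 : ℕ) = 2 + 1 from rfl, pow_succ, pow_two, hsq q hq, one_mul] at e8
      exact hzb (mul_inv_eq_iff_eq_mul.1 ((inv_eq_of_mul_eq_one_right e8).symm.trans (inv_eq hzo)))
    · refine absurd ?_ hvr
      have ev : v = w * c⁻¹ := eq_mul_inv_of_mul_eq (show v * c = w from e.symm)
      rw [ev]
      exact ((show Commute w r from hwr).mul_left (show Commute c r from hr.2.2.symm).inv_left).eq
  have hava : a * v * a = v * a * v := by
    calc a * v * a = v⁻¹ * (v * a) ^ 3 * (v * a)⁻¹ := by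
          simp only [pow_succ, pow_zero, one_mul, mul_assoc]; group
      _ = v * a * v := by rw [show (v * a) ^ 3 = 1 from hw1, mul_one, mul_inv_rev, hvi, hai, ← mul_assoc]
  have hcl : closure ({x, v} : Set G) ≤ centralizer ({k} : Set G) := by
    rw [closure_le]
    rintro y (rfl | rfl)
    · exact mem_centralizer_singleton_iff.2 hcomm
    · exact mem_centralizer_singleton_iff.2 hkv.2.2.symm
  have hbk' : b * k ≠ k * b := fun e => ne_inv_self hk (by
    rw [← hbk]; exact (mul_inv_eq_iff_eq_mul.2 e).symm)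
  have hak : a * k ≠ k * a := by
    intro e
    have e1 : k * c = c * k⁻¹ := by
      rw [← hck, hci]
      calc k * c = (c * c) * k * c := by rw [hc2, one_mul]
        _ = _ := by group
    have e2 : z * k = k⁻¹ * z := by
      refine mul_left_cancel (a := c) ?_
      rw [← mul_assoc, ← mul_assoc, ← e1, mul_assoc k c z]
      exact e
    have e3 : z * k * z = k⁻¹ := by rw [e2, mul_assoc, hsq z hz, mul_one]
    rw [e3, mul_assoc, left_eq_mul] at hzkz
    exact hkz (by rw [mul_inv_eq_one.1 hzkz])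
  refine ⟨x, v, a, b, ⟨hx, hsq' v hv, ha2, hbb, hvxv, mul_inv_eq_iff_eq_mul.1 hax,
    mul_inv_eq_iff_eq_mul.1 hbx, hbv, hava, hbab, ?_,
    fun hm => hak (mem_centralizer_singleton_iff.1 (hcl hm)),
    fun hm => hbk' (mem_centralizer_singleton_iff.1 (hcl hm))⟩⟩
  intro hm
  have := Subgroup.orderOf_dvd_natCard (zpowers x) hm
  rw [Nat.card_zpowers, hx, hvo] at this
  norm_num at this

end Cfsg.Agent.Small.AltSeven
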