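import Cfsg.Agent.Lib.Small.AltSevenLocal

/-!
# Simple groups of order 2520: all involutions are conjugate, with centralizer of order 24
-/

set_option autoImplicit false

namespace Cfsg.Agent.Small.AltSeven

open Subgroup Cfsg.Agent.Lead.BlockDeg

universe u

variable {G : Type u} [Group G] [Finite G] [IsSimpleGroup G] (h : Nat.card G = 2520)

include h

theorem sylow_of_five {y : G} (hy : orderOf y = 5) :
    Nat.card (centralizer ({y} : Set G)) = 5 ∧ Nat.card (normalizer ((zpowers y : Subgroup G) : Set G)) = 20 := by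
  haveI : Fact (Nat.Prime 5) := ⟨by norm_num⟩
  obtain ⟨-, hall⟩ := sylow_five h
  obtain ⟨P, hP⟩ := OrderFortyEighty.exists_sylow_zpowers (fun P => (hall P).1) hy
  obtain ⟨-, h1, h2⟩ := hall P
  rw [hP] at h1 h2
  rw [OrderFortyEighty.centralizer_zpowers] at h1
  exact ⟨h1, h2⟩

theorem card_cent_dvd {x : G} (hx : orderOf x = 2 ∨ orderOf x = 3) :
    Nat.card (centralizer ({x} : Set G)) ∣ 72 := by
  have hd : Nat.card (centralizer ({x} : Set G)) ∣ 72 * 35 := by
    have := card_subgroup_dvd_card (centralizer ({x} : Set G))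
    rwa [h] at this
  have hp : ∀ p : ℕ, p.Prime → (p = 5 ∨ p = 7) → ¬ p ∣ Nat.card (centralizer ({x} : Set G)) := by
    intro p hp hp' hdiv
    haveI := Fact.mk hp
    obtain ⟨⟨y, hy⟩, hyo⟩ := exists_prime_orderOf_dvd_card' p hdiv
    rw [Subgroup.orderOf_mk] at hyo
    have hxy : x ∈ centralizer ({y} : Set G) :=
      mem_centralizer_singleton_iff.2 (mem_centralizer_singleton_iff.1 hy).symm
    have hd := Subgroup.orderOf_dvd_natCard (centralizer ({y} : Set G)) hxy
    rcases hp' with rfl | rfl
    · rw [(sylow_of_five h hyo).1] at hd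
      rcases hx with e | e <;> rw [e] at hd <;> norm_num at hd
    · rw [cent_seven h y hyo] at hd
      rcases hx with e | e <;> rw [e] at hd <;> norm_num at hd
  refine Nat.Coprime.dvd_of_dvd_mul_right ?_ hd
  refine Nat.Coprime.mul_right (k := Nat.card (centralizer ({x} : Set G))) (m := 5) (n := 7) ?_ ?_
  · exact ((Nat.Prime.coprime_iff_not_dvd (by norm_num)).2 (hp 5 (by norm_num) (Or.inl rfl))).symm
  · exact ((Nat.Prime.coprime_iff_not_dvd (by norm_num)).2 (hp 7 (by norm_num) (Or.inr rfl))).symm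

theorem not_commute_five {i y : G} (hi : orderOf i = 2) (hy : orderOf y = 5) : i * y ≠ y * i := by
  intro hc
  have hd := Subgroup.orderOf_dvd_natCard (centralizer ({y} : Set G))
    (mem_centralizer_singleton_iff.2 hc)
  rw [(sylow_of_five h hy).1, hi] at hd
  norm_num at hd

theorem inverts_five {i y : G} (hi : orderOf i = 2) (hy : orderOf y = 5)
    (hN : i ∈ normalizer ((zpowers y : Subgroup G) : Set G)) : i * y * i⁻¹ = y⁻¹ := by
  have h2 : i * i = 1 := by rw [← pow_two, ← hi, pow_orderOf_eq_one]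
  exact OrderFortyEighty.inverts (by norm_num) hy
    ((mem_normalizer_iff.1 hN y).1 (mem_zpowers y)) (not_commute_five h hi hy)
    (by rw [h2, one_mul, mul_one])

theorem exists_invert {y : G} (hy : orderOf y = 5) : ∃ i : G, orderOf i = 2 ∧ i * y * i⁻¹ = y⁻¹ := by
  haveI : Fact (Nat.Prime 2) := ⟨by norm_num⟩
  obtain ⟨⟨i, hi⟩, ho⟩ := exists_prime_orderOf_dvd_card' (G := normalizer ((zpowers y : Subgroup G) : Set G)) 2
    (by rw [(sylow_of_five h hy).2]; norm_num)
  rw [Subgroup.orderOf_mk] at ho
  exact ⟨i, ho, inverts_five h ho hy hi⟩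

theorem card_five : 504 ≤ Nat.card {y : G // orderOf y = 5} := by
  haveI : Fact (Nat.Prime 5) := ⟨by norm_num⟩
  obtain ⟨hn, hall⟩ := sylow_five h
  have h1 := SimpleOrderTools.count_ti (G := G) (p := 5) (m := 5) (fun P => (hall P).1)
    (fun P Q x hx hxP hxQ => Sylow.ext (by
      have hz : ∀ R : Sylow 5 G, x ∈ (R : Subgroup G) → (R : Subgroup G) = zpowers x := fun R hxR => by
        refine (eq_of_le_of_card_ge (zpowers_le.2 hxR) ?_).symm
        have hd := Subgroup.orderOf_dvd_natCard ((R : Subgroup G)) hxR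
        rw [(hall R).1] at hd
        rcases (Nat.dvd_prime (by norm_num)).1 hd with e | e
        · exact absurd (orderOf_eq_one_iff.1 e) hx
        · rw [Nat.card_zpowers, e, (hall R).1]
      rw [hz P hxP, hz Q hxQ]))
  rw [hn] at h1
  refine le_trans h1 (Nat.card_le_card_of_injective
    (fun g => (⟨g.1, ?_⟩ : {y : G // orderOf y = 5})) fun a b e => Subtype.ext (congrArg (fun x : {y : G // orderOf y = 5} => x.1) e))
  obtain ⟨g, hg1, k, hk⟩ := g
  have hd := orderOf_dvd_natCard g
  rw [hk, h] at hd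
  rcases k with _ | _ | k
  · exact absurd (orderOf_eq_one_iff.1 (by simpa using hk)) hg1
  · simpa using hk
  · exfalso
    have : 25 ∣ 2520 := (Dvd.intro_left (5 ^ k) (by rw [pow_succ, pow_succ]; ring)).trans hd
    norm_num at this

/-- Each of the elements of order five is a product of two involutions in five ways. -/
theorem involution_bound : 2520 ≤ Nat.card {i : G // orderOf i = 2} * Nat.card {i : G // orderOf i = 2} := by
  classical
  choose i hi hinv using fun y : {y : G // orderOf y = 5} => exists_invert h y.2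
  have hinvol : ∀ (y : {y : G // orderOf y = 5}) (k : ℕ), orderOf (i y * (y : G) ^ k) = 2 := by
    intro y k
    refine orderOf_eq_prime ?_ ?_
    · have h1 : i y * (y : G) ^ k * (i y)⁻¹ = ((y : G) ^ k)⁻¹ := by
        rw [← conj_pow, hinv y, inv_pow]
      have h2 : (i y)⁻¹ = i y := inv_eq_of_mul_eq_one_right (by rw [← pow_two, ← hi y, pow_orderOf_eq_one])
      rw [h2] at h1
      rw [pow_two, ← mul_assoc, h1, inv_mul_cancel]
    · intro e
      have hmem : i y ∈ zpowers (y : G) := by
        rw [eq_inv_of_mul_eq_one_left e]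
        exact inv_mem (pow_mem (mem_zpowers _) k)
      have hd := Subgroup.orderOf_dvd_natCard (zpowers (y : G)) hmem
      rw [Nat.card_zpowers, y.2, hi y] at hd
      norm_num at hd
  let f : {y : G // orderOf y = 5} × Fin 5 → {i : G // orderOf i = 2} × {i : G // orderOf i = 2} :=
    fun a => (⟨_, hinvol a.1 a.2⟩, ⟨_, hinvol a.1 (a.2 + 1)⟩)
  have hf : Function.Injective f := by
    rintro ⟨y, k⟩ ⟨y', k'⟩ e
    have e1 : i y * (y : G) ^ (k : ℕ) = i y' * (y' : G) ^ (k' : ℕ) := congrArg (fun p => (p.1 : G)) e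
    have e2 : i y * (y : G) ^ ((k : ℕ) + 1) = i y' * (y' : G) ^ ((k' : ℕ) + 1) :=
      congrArg (fun p => (p.2 : G)) e
    rw [pow_succ, pow_succ, ← mul_assoc, ← mul_assoc, e1] at e2
    obtain rfl : y = y' := Subtype.ext (mul_left_cancel e2)
    have e3 := pow_inj_mod.1 (mul_left_cancel e1)
    rw [y.2, Nat.mod_eq_of_lt k.2, Nat.mod_eq_of_lt k'.2] at e3
    rw [Fin.ext e3]
  have h1 := Nat.card_le_card_of_injective f hf
  rw [Nat.card_prod, Nat.card_prod, Nat.card_fin] at h1
  have := card_five h
  omega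

theorem exists_order_four : ∃ g : G, orderOf g = 4 := by
  classical
  haveI : Fact (Nat.Prime 5) := ⟨by norm_num⟩
  haveI : Fact (Nat.Prime 2) := ⟨by norm_num⟩
  obtain ⟨y, hy⟩ := exists_prime_orderOf_dvd_card' (G := G) 5 (by rw [h]; norm_num)
  set N := normalizer ((zpowers y : Subgroup G) : Set G)
  have hN : Nat.card N = 20 := (sylow_of_five h hy).2
  obtain ⟨T⟩ : Nonempty (Sylow 2 N) := inferInstance
  have hT : Nat.card T = 4 := by
    have := SmallOrders.sylow_card_eq (k := 2) (m := 5) (by rw [hN]; norm_num) (by norm_num) T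
    simpa using this
  by_contra hcon
  push Not at hcon
  have hinv : ∀ t : (T : Subgroup N), t ≠ 1 → orderOf ((t : N) : G) = 2 := by
    intro t ht
    have hd := _root_.orderOf_dvd_natCard t
    rw [show Nat.card (T : Subgroup N) = 2 ^ 2 by rw [hT]; rfl] at hd
    obtain ⟨k, hk, e⟩ := (Nat.dvd_prime_pow Nat.prime_two).1 hd
    rw [← Subgroup.orderOf_coe, ← Subgroup.orderOf_coe] at e
    interval_cases k
    · exact absurd (Subtype.ext (Subtype.ext (orderOf_eq_one_iff.1 (by simpa using e)))) ht
    · simpa using e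
    · exact absurd (by simpa using e) (hcon ((t : N) : G))
  haveI : Fintype (T : Subgroup N) := Fintype.ofFinite _
  have hc4 : Fintype.card (T : Subgroup N) = 4 := by rw [← Nat.card_eq_fintype_card]; exact hT
  obtain ⟨a, -, ha⟩ := Finset.exists_mem_notMem_of_card_lt_card
    (s := ({1} : Finset (T : Subgroup N))) (t := Finset.univ) (by simp [Finset.card_univ, hc4])
  obtain ⟨b, -, hb⟩ := Finset.exists_mem_notMem_of_card_lt_card
    (s := ({1, a} : Finset (T : Subgroup N))) (t := Finset.univ) (by
      rw [Finset.card_univ, hc4]; exact lt_of_le_of_lt Finset.card_le_two (by norm_num))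
  rw [Finset.mem_singleton] at ha
  simp only [Finset.mem_insert, Finset.mem_singleton, not_or] at hb
  have hab : a * b ≠ 1 := fun e => by
    refine hb.2 ?_
    have h2 : a * a = 1 := by
      refine Subtype.ext (Subtype.ext ?_)
      show ((a : N) : G) * ((a : N) : G) = 1
      exact (pow_two _).symm.trans (orderOf_dvd_iff_pow_eq_one.1 (hinv a ha).dvd)
    exact mul_left_cancel (e.trans h2.symm)
  have i1 := inverts_five h (hinv a ha) hy (a : N).2
  have i2 := inverts_five h (hinv b hb.1) hy (b : N).2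
  refine not_commute_five h (hinv _ hab) hy ?_
  show ((a : N) : G) * ((b : N) : G) * y = y * (((a : N) : G) * ((b : N) : G))
  have e1 : ((b : N) : G) * y = y⁻¹ * ((b : N) : G) := by
    rw [← i2, inv_mul_cancel_right]
  have e2 : ((a : N) : G) * y⁻¹ = y * ((a : N) : G) := by
    rw [← mul_inv_eq_iff_eq_mul, ← conj_inv, i1, inv_inv]
  rw [mul_assoc, e1, ← mul_assoc, e2, mul_assoc]

theorem exists_dihedral_sylow :
    ∃ S : Sylow 2 G, Nat.card S = 8 ∧ Nonempty ((S : Subgroup G) ≃* DihedralGroup 4) := by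
  classical
  haveI : Fact (Nat.Prime 2) := ⟨by norm_num⟩
  obtain ⟨g, hg⟩ := exists_order_four h
  obtain ⟨S, hle⟩ := (IsPGroup.of_card (p := 2) (n := 2) (G := zpowers g)
    (by rw [Nat.card_zpowers, hg]; norm_num)).exists_le_sylow
  have hgS : g ∈ (S : Subgroup G) := hle (mem_zpowers g)
  have hS : Nat.card S = 8 := by
    have := SmallOrders.sylow_card_eq (k := 3) (m := 315) (by rw [h]; norm_num) (by norm_num) S
    simpa using this
  refine ⟨S, hS, ?_⟩
  by_cases hna : ∃ x y : (S : Subgroup G), x * y ≠ y * x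
  · rcases Lie.OrderEight.dihedral_or_quaternion (G := (S : Subgroup G)) hS hna with e | e
    · exact e
    exfalso
    have hO : ∀ N : Subgroup G, N.Normal → Odd (Nat.card N) → N = ⊥ := fun N hN hodd =>
      (IsSimpleGroup.eq_bot_or_eq_top_of_normal N hN).resolve_right fun e => by
        rw [e, card_top, h] at hodd
        norm_num at hodd
    obtain ⟨e'⟩ := e
    have h2 := Char.card_center_of_quaternion S 0 (e' : (S : Subgroup G) ≃* QuaternionGroup (2 ^ (0 + 1))) hO
    rw [SmallOrders.center_eq_bot (not_comm h), card_bot] at h2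
    norm_num at h2
  exfalso
  push Not at hna
  haveI : IsMulCommutative (S : Subgroup G) := ⟨⟨hna⟩⟩
  set R := {x : G | (∃ s ∈ (S : Subgroup G), x = s * s) ∧ x * x = 1}
  have hw : g * g ≠ 1 := fun e => by
    have := Nat.le_of_dvd (by norm_num) (orderOf_dvd_of_pow_eq_one ((pow_two g).trans e))
    omega
  let sq : (S : Subgroup G) →* (S : Subgroup G) :=
    { toFun := fun s => s * s, map_one' := mul_one 1
      map_mul' := fun a b => by
        calc a * b * (a * b) = a * (b * a) * b := by group
          _ = a * (a * b) * b := by rw [hna b a]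
          _ = a * a * (b * b) := by group }
  have hprod : Nat.card sq.ker * Nat.card sq.range = 8 := by
    rw [← index_ker, card_mul_index]; exact hS
  set I := sq.range ⊓ sq.ker
  have hI : Nat.card I ≤ 2 := by
    have h1 : Nat.card I ≤ Nat.card sq.range := card_le_of_le inf_le_left
    have h2 : Nat.card I ≤ Nat.card sq.ker := card_le_of_le inf_le_right
    have h3 : Nat.card I * Nat.card I ≤ 8 := hprod ▸ Nat.mul_le_mul h2 h1
    nlinarith
  have hw4 : (⟨g, hgS⟩ * ⟨g, hgS⟩ : (S : Subgroup G)) ∈ I := by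
    refine ⟨⟨⟨g, hgS⟩, rfl⟩, ?_⟩
    refine MonoidHom.mem_ker.2 (Subtype.ext ?_)
    show g * g * (g * g) = 1
    rw [← pow_two, ← pow_two, ← pow_mul, show 2 * 2 = orderOf g by rw [hg]]
    exact pow_orderOf_eq_one g
  refine hw (SimpleOrderTools.eq_one_of_fixed S (by rw [hS, h]; norm_num) (mul_mem hgS hgS) fun n hn => ?_)
  have hgn : n * g * n⁻¹ ∈ (S : Subgroup G) := (mem_normalizer_iff.1 hn g).1 hgS
  by_contra hne
  let a : I := ⟨_, hw4⟩
  let b : I := ⟨⟨n * g * n⁻¹, hgn⟩ * ⟨n * g * n⁻¹, hgn⟩, ⟨⟨_, rfl⟩, MonoidHom.mem_ker.2 (Subtype.ext (by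
    show n * g * n⁻¹ * (n * g * n⁻¹) * (n * g * n⁻¹ * (n * g * n⁻¹)) = 1
    have e : g * g * (g * g) = 1 := congrArg Subtype.val (MonoidHom.mem_ker.1 hw4.2)
    calc _ = n * (g * g * (g * g)) * n⁻¹ := by group
      _ = 1 := by rw [e]; group))⟩⟩
  haveI : Fintype I := Fintype.ofFinite _
  have h3 : ({1, a, b} : Finset I).card = 3 := by
    have e1 : (1 : I) ≠ a := fun e => hw (congrArg (fun x : I => ((x : (S : Subgroup G)) : G)) e).symm
    have e2 : (1 : I) ≠ b := fun e => by
      have := congrArg (fun x : I => ((x : (S : Subgroup G)) : G)) e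
      refine hw ?_
      have e' : n * (g * g) * n⁻¹ = 1 := by
        calc n * (g * g) * n⁻¹ = n * g * n⁻¹ * (n * g * n⁻¹) := by group
          _ = 1 := this.symm
      exact conj_eq_one_iff.1 e'
    have e3 : a ≠ b := fun e => by
      have := congrArg (fun x : I => ((x : (S : Subgroup G)) : G)) e
      refine hne ?_
      have e' : n * (g * g) * n⁻¹ = g * g := by
        calc n * (g * g) * n⁻¹ = n * g * n⁻¹ * (n * g * n⁻¹) := by group
          _ = g * g := this.symm
      exact mul_inv_eq_iff_eq_mul.1 e'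
    simp [e1, e2, e3]
  have := Finset.card_le_univ ({1, a, b} : Finset I)
  rw [h3, ← Nat.card_eq_fintype_card] at this
  omega

theorem conj_involutions {u v : G} (hu : orderOf u = 2) (hv : orderOf v = 2) : IsConj u v := by
  classical
  haveI := Fintype.ofFinite G
  haveI : Fact (Nat.Prime 2) := ⟨by norm_num⟩
  obtain ⟨S, hS, ⟨e⟩⟩ := exists_dihedral_sylow h
  rcases Solv.DihedralClasses.main S (m := 4) dvd_rfl ((S : Subgroup G).subtype.comp e.symm.toMonoidHom)
    ((S : Subgroup G).subtype_injective.comp e.symm.injective)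
    (by rw [MonoidHom.range_comp, MonoidHom.range_eq_top.2 e.symm.surjective, ← MonoidHom.range_eq_map,
      Subgroup.range_subtype]) with ⟨h1, -⟩ | ⟨-, ⟨N, hN, hidx⟩, -⟩ | ⟨-, P, N, hN, hcompl⟩
  · exact Char.CentD8.isConj_of_one_class h1 hu hv
  · exfalso
    rcases IsSimpleGroup.eq_bot_or_eq_top_of_normal N hN with rfl | rfl
    · rw [index_bot, h] at hidx; norm_num at hidx
    · rw [index_top] at hidx; norm_num at hidx
  · exfalso
    have hc := hcompl.card_mul
    have hP : Nat.card P = 8 := by
      have := SmallOrders.sylow_card_eq (k := 3) (m := 315) (by rw [h]; norm_num) (by norm_num) P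
      simpa using this
    rw [hP, h] at hc
    rcases IsSimpleGroup.eq_bot_or_eq_top_of_normal N hN with rfl | rfl
    · rw [card_bot] at hc; norm_num at hc
    · rw [card_top, h] at hc; norm_num at hc

theorem cent_two {t : G} (ht : orderOf t = 2) : Nat.card (centralizer ({t} : Set G)) = 24 := by
  classical
  haveI := Fintype.ofFinite G
  haveI : Fact (Nat.Prime 2) := ⟨by norm_num⟩
  obtain ⟨S, hS, ⟨e⟩⟩ := exists_dihedral_sylow h
  set z : G := ((e.symm (DihedralGroup.r 2) : (S : Subgroup G)) : G)
  have hzo : orderOf z = 2 := by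
    rw [Subgroup.orderOf_coe, e.symm.orderOf_eq]
    exact orderOf_eq_prime (by decide) (by decide)
  have hSC : (S : Subgroup G) ≤ centralizer ({z} : Set G) := fun s hs => by
    refine mem_centralizer_singleton_iff.2 ?_
    have hc : ∀ y : DihedralGroup 4, y * DihedralGroup.r 2 = DihedralGroup.r 2 * y := by decide
    have := congrArg (fun x => ((e.symm x : (S : Subgroup G)) : G)) (hc (e ⟨s, hs⟩))
    simpa [z] using this
  have h8 : 8 ∣ Nat.card (centralizer ({z} : Set G)) := hS ▸ card_dvd_of_le hSC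
  have h72 := card_cent_dvd h (x := z) (Or.inl hzo)
  have hI : Nat.card {i : G // orderOf i = 2} * Nat.card (centralizer ({z} : Set G)) = 2520 := by
    rw [← h, ← SimpleOrderTools.card_conjugates z]
    congr 1
    exact Nat.card_congr (Equiv.subtypeEquivRight fun g =>
      ⟨fun hg => conj_involutions h hzo hg, fun hg => by
        obtain ⟨c, rfl⟩ := isConj_iff.1 hg
        rw [← MulAut.conj_apply, MulEquiv.orderOf_eq]; exact hzo⟩)
  have hb := involution_bound h
  obtain ⟨d, hd⟩ := h8
  rw [hd] at h72 hI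
  have hd9 : d ∣ 9 := Nat.dvd_of_mul_dvd_mul_left (by norm_num : 0 < 8) h72
  have hd3 : d = 3 := by
    have hmem : d ∈ ({1, 3, 9} : Finset ℕ) := by
      rw [show ({1, 3, 9} : Finset ℕ) = Nat.divisors 9 by decide, Nat.mem_divisors]
      exact ⟨hd9, by norm_num⟩
    simp only [Finset.mem_insert, Finset.mem_singleton] at hmem
    rcases hmem with rfl | rfl | rfl
    · exfalso
      have hC : centralizer ({z} : Set G) = (S : Subgroup G) :=
        (eq_of_le_of_card_ge hSC (by rw [hd, hS])).symm
      have hperf : commutator G = ⊤ :=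
        (IsSimpleGroup.eq_bot_or_eq_top_of_normal (commutator G) inferInstance).resolve_left fun e' => by
          refine not_comm h ⟨⟨fun x y => commutatorElement_eq_one_iff_mul_comm.1 ?_⟩⟩
          have hm := Subgroup.commutator_mem_commutator (mem_top x) (mem_top y)
          rw [← commutator_def, e', mem_bot] at hm
          exact hm
      rcases Char.CentD8.main hperf z hzo
        ((MulEquiv.subgroupCongr hC).trans e) with e' | e' <;> rw [h] at e' <;> norm_num at e'
    · rfl
    · nlinarith
  have hz24 : Nat.card (centralizer ({z} : Set G)) = 24 := by rw [hd, hd3]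
  obtain ⟨c, rfl⟩ := isConj_iff.1 (conj_involutions h hzo ht)
  have h1 := SimpleOrderTools.card_conjugates (c * z * c⁻¹)
  have h2 := SimpleOrderTools.card_conjugates z
  have e1 : Nat.card {g : G // IsConj (c * z * c⁻¹) g} = Nat.card {g : G // IsConj z g} :=
    Nat.card_congr (Equiv.subtypeEquivRight fun g =>
      ⟨fun hg => (isConj_iff.2 ⟨c, rfl⟩).trans hg, fun hg => (isConj_iff.2 ⟨c, rfl⟩).symm.trans hg⟩)
  rw [e1, ← h2] at h1
  rw [← hz24]
  refine Nat.eq_of_mul_eq_mul_left ?_ h1
  exact Nat.pos_of_ne_zero fun e0 => by rw [e0, zero_mul, h] at h2; norm_num at h2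

end Cfsg.Agent.Small.AltSeven
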