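import Cfsg.Agent.Lib.Small.TopAutomiser
import Cfsg.Agent.Lib.Small.OrderFortyEighty
import Cfsg.Agent.Lib.Fusion.Basic
import Cfsg.Agent.Lib.Small.SimpleOrderTools
import Cfsg.Agent.Lib.Small.SmallOrders
import Cfsg.Agent.Lib.Solv.DihedralSylowClasses
import Cfsg.Agent.Lib.Char.BrauerSuzuki
import Cfsg.Agent.Lib.Char.CentralizerDEight
import Cfsg.Agent.Lib.Lie.OrderEightTypes

/-!
# Simple groups of order 2520: centralizers of elements of order two and five
-/

set_option autoImplicit false
set_option synthInstance.maxSize 100000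
set_option synthInstance.maxHeartbeats 400000
set_option maxSynthPendingDepth 10

namespace Cfsg.Agent.Small.AltSeven

open Subgroup DegreeSearch Cfsg.Agent.Lead.BlockDeg

theorem pairs_five : ∀ n ∈ (divs 504).filter (fun n => decide (n % 5 = 1 ∧ n ≠ 1)),
    (n < 14 ∧ n.factorial % 2520 ≠ 0) ∨ ∀ e < 5, e ≠ 1 → 4 % e = 0 → 504 % (n * e) = 0 →
      (n = 126 ∧ e = 4) ∨ (n = 21 ∧ e = 4) ∨ check 2520 5 n e = true := by decide +kernel

theorem top_five :
    search 2520 (fun S _ => decide (S ≠ -1)) (cands 2520 5 21 4 (2 * 5 - 1)) 4 0 1 = true := by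
  decide +kernel

theorem pairs_seven : ∀ n ∈ (divs 360).filter (fun n => decide (n % 7 = 1 ∧ n ≠ 1)),
    ∀ e < 7, e ≠ 1 → 6 % e = 0 → 360 % (n * e) = 0 →
      (n = 120 ∧ e = 3) ∨ check 2520 7 n e = true := by decide +kernel

theorem d8_center : ∀ x : DihedralGroup 4, x ≠ 1 → (∀ y : DihedralGroup 4, x * y = y * x) →
    x = DihedralGroup.r 2 := by decide

theorem d8_facts : ∀ x : DihedralGroup 4, x ≠ 1 → x * x = 1 →
    x = DihedralGroup.r 2 ∨ ∃ i, x = DihedralGroup.sr i := by decide

universe u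

variable {G : Type u} [Group G] [Finite G] [IsSimpleGroup G] (h : Nat.card G = 2520)

include h

theorem not_comm : ¬ IsMulCommutative G :=
  SmallOrders.not_comm_of_card (by rw [h]; norm_num)

theorem sylow_five : Nat.card (Sylow 5 G) = 126 ∧ ∀ P : Sylow 5 G, Nat.card P = 5 ∧
    Nat.card (centralizer ((P : Subgroup G) : Set G)) = 5 ∧
    Nat.card (normalizer ((P : Subgroup G) : Set G)) = 20 := by
  haveI := Fintype.ofFinite G
  haveI : Fact (Nat.Prime 5) := ⟨by norm_num⟩
  have hG' : Nat.card G = 5 * 504 := by rw [h]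
  obtain ⟨P₀, e, hP₀, ⟨hn1, hn2, hn3⟩, he, he1, he2, he3⟩ :=
    sylow_data hG' (by norm_num) (by norm_num)
  have hna := not_comm h
  have hidx : (normalizer ((P₀ : Subgroup G) : Set G)).index = Nat.card (Sylow 5 G) :=
    (Sylow.card_eq_index_normalizer P₀).symm
  have he5 : e < 5 := by have := Nat.le_of_dvd (by norm_num) he1; omega
  have hcard : ∀ P : Sylow 5 G, Nat.card P = 5 := fun P => by
    have := SmallOrders.sylow_card_eq (k := 1) (by rw [pow_one, h]) (by norm_num : ¬ 5 ∣ 504) P
    rwa [pow_one] at this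
  have hC : Nat.card (centralizer ((P₀ : Subgroup G) : Set G)) * e =
      Nat.card (normalizer ((P₀ : Subgroup G) : Set G)) := by
    rw [← he, relIndex, ← Nat.card_congr (subgroupOfEquivOfLe (centralizer_le_normalizer _)).toEquiv]
    exact card_mul_index _
  have hN := SmallOrders.card_normalizer P₀
  rw [h] at hN
  suffices hne : Nat.card (Sylow 5 G) = 126 ∧ e = 4 by
    refine ⟨hne.1, fun P => ?_⟩
    obtain ⟨g, rfl⟩ := MulAction.exists_smul_eq G P₀ P
    rw [hne.1] at hN
    rw [hne.2] at hC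
    have hN20 : Nat.card (normalizer ((P₀ : Subgroup G) : Set G)) = 20 := by omega
    refine ⟨hcard _, ?_, ?_⟩
    · have e1 : centralizer (((g • P₀ : Sylow 5 G) : Subgroup G) : Set G) =
          (centralizer ((P₀ : Subgroup G) : Set G)).map (MulAut.conj g).toMonoidHom := by
        exact (Fusion.cj_centralizer _ g).symm
      rw [e1, ← Nat.card_congr (equivMapOfInjective _ (MulAut.conj g).toMonoidHom
        (MulAut.conj g).injective).toEquiv]
      omega
    · have h2 := SmallOrders.card_normalizer (g • P₀)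
      rw [h, hne.1] at h2
      omega
  rcases pairs_five (Nat.card (Sylow 5 G)) (by
    simp only [List.mem_filter, decide_eq_true_eq]
    exact ⟨mem_divs (by norm_num) hn1, hn2, hn3⟩) with ⟨h1, h2⟩ | hh
  · refine absurd (Nat.mod_eq_zero_of_dvd ?_) h2
    have hne : normalizer ((P₀ : Subgroup G) : Set G) ≠ ⊤ := fun e => hn3 (by
      rw [← hidx, e, index_top])
    have h3 := SmallOrders.card_dvd_index_factorial _ hne
    rwa [hidx, h] at h3
  rcases hh e he5 he2 (Nat.mod_eq_zero_of_dvd he1) (Nat.mod_eq_zero_of_dvd he3) with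
    hh | ⟨hn, rfl⟩ | hh
  · exact hh
  · exfalso
    refine TopAutomiser.false_of_top hna (by norm_num) P₀ hP₀ he rfl ?_ h hn top_five
    intro hp
    rw [hn] at hN
    obtain ⟨k, hk⟩ := hp.exists_card_eq
    rw [hk] at hC
    have h30 : 5 ^ k = 30 := by omega
    rcases k with _ | k
    · norm_num at h30
    · have : 5 ∣ 30 ∧ 30 % 5 = 0 := ⟨by norm_num, by norm_num⟩
      rcases k with _ | k
      · norm_num at h30
      · rw [pow_succ, pow_succ] at h30
        omega
  · exact absurd hh fun hh => false_of_check hna (by norm_num) P₀ hP₀ he he1 he2 h rfl hh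

theorem cent_seven : ∀ y : G, orderOf y = 7 → Nat.card (centralizer ({y} : Set G)) = 7 := by
  haveI := Fintype.ofFinite G
  haveI : Fact (Nat.Prime 7) := ⟨by norm_num⟩
  have hG' : Nat.card G = 7 * 360 := by rw [h]
  obtain ⟨P₀, e, hP₀, ⟨hn1, hn2, hn3⟩, he, he1, he2, he3⟩ :=
    sylow_data hG' (by norm_num) (by norm_num)
  have hna := not_comm h
  have he7 : e < 7 := by have := Nat.le_of_dvd (by norm_num) he1; omega
  rcases pairs_seven (Nat.card (Sylow 7 G)) (by
    simp only [List.mem_filter, decide_eq_true_eq]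
    exact ⟨mem_divs (by norm_num) hn1, hn2, hn3⟩) e he7 he2 (Nat.mod_eq_zero_of_dvd he1)
      (Nat.mod_eq_zero_of_dvd he3) with ⟨hn, rfl⟩ | hh
  swap
  · exact absurd hh fun hh => false_of_check hna (by norm_num) P₀ hP₀ he he1 he2 h rfl hh
  intro y hy
  have hN := SmallOrders.card_normalizer P₀
  rw [h, hn] at hN
  have hC : Nat.card (centralizer ((P₀ : Subgroup G) : Set G)) * 3 =
      Nat.card (normalizer ((P₀ : Subgroup G) : Set G)) := by
    rw [← he, relIndex, ← Nat.card_congr (subgroupOfEquivOfLe (centralizer_le_normalizer _)).toEquiv]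
    exact card_mul_index _
  obtain ⟨Q, hQ⟩ := OrderFortyEighty.exists_sylow_zpowers (fun P => by
    have := SmallOrders.sylow_card_eq (k := 1) (by rw [pow_one, h]) (by norm_num : ¬ 7 ∣ 360) P
    rwa [pow_one] at this) hy
  obtain ⟨g, rfl⟩ := MulAction.exists_smul_eq G P₀ Q
  rw [← OrderFortyEighty.centralizer_zpowers, ← hQ]
  have e1 : centralizer (((g • P₀ : Sylow 7 G) : Subgroup G) : Set G) =
      (centralizer ((P₀ : Subgroup G) : Set G)).map (MulAut.conj g).toMonoidHom :=
    (Fusion.cj_centralizer _ g).symm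
  rw [e1, ← Nat.card_congr (equivMapOfInjective _ (MulAut.conj g).toMonoidHom
    (MulAut.conj g).injective).toEquiv]
  omega

end Cfsg.Agent.Small.AltSeven
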