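import Cfsg.Agent.Lib.Small.AltSevenInvolution
import Cfsg.Agent.Lib.Small.SylowTricks

/-!
# Simple groups of order 2520: elements of order three commuting with involutions
-/

set_option autoImplicit false

namespace Cfsg.Agent.Small.AltSeven

open Subgroup DihedralGroup

/-- The map of `D₈` given by the images of the standard generators. -/
def d8Map (a b : DihedralGroup 4) : DihedralGroup 4 → DihedralGroup 4
  | .r i => a ^ i.val
  | .sr i => b * a ^ i.val

theorem d8_rigid : ∀ a b : DihedralGroup 4, a * a ≠ 1 → b * b = 1 →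
    d8Map a b (d8Map a b a) = r 1 → d8Map a b (d8Map a b b) = sr 0 → a = r 1 ∧ b = sr 0 := by
  decide

theorem d8_invol_card : Fintype.card {x : DihedralGroup 4 // x ≠ 1 ∧ x * x = 1} = 5 := by decide

universe u

variable {G : Type u} [Group G] [Finite G] [IsSimpleGroup G] (h : Nat.card G = 2520)

/-- An element of order three commuting with an involution. -/
def Cen (u t : G) : Prop := orderOf u = 3 ∧ orderOf t = 2 ∧ u * t = t * u

omit [Finite G] [IsSimpleGroup G] in
theorem sq_eq {t : G} (ht : orderOf t = 2) : t * t = 1 := by rw [← pow_two, ← ht, pow_orderOf_eq_one]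

omit [Finite G] [IsSimpleGroup G] in
theorem inv_eq {t : G} (ht : orderOf t = 2) : t⁻¹ = t := inv_eq_of_mul_eq_one_right (sq_eq ht)

omit [Finite G] [IsSimpleGroup G] in
theorem order_two_of {t : G} (h1 : t ≠ 1) (h2 : t * t = 1) : orderOf t = 2 :=
  orderOf_eq_prime ((pow_two t).trans h2) h1

omit [Finite G] [IsSimpleGroup G] in
theorem order_conj {x : G} (c : G) : orderOf (c * x * c⁻¹) = orderOf x := by
  rw [← MulAut.conj_apply, MulEquiv.orderOf_eq]

omit [Finite G] [IsSimpleGroup G] in
theorem centralizer_zpowers' {X : Type*} [Group X] (y : X) :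
    centralizer ((zpowers y : Subgroup X) : Set X) = centralizer ({y} : Set X) := by
  rw [zpowers_eq_closure, centralizer_closure]

omit [IsSimpleGroup G] in
theorem exists_sylow_zpowers' {X : Type*} [Group X] [Finite X] {p : ℕ} [Fact p.Prime]
    (hP : ∀ P : Sylow p X, Nat.card P = p) {y : X} (hy : orderOf y = p) :
    ∃ P : Sylow p X, (P : Subgroup X) = zpowers y := by
  obtain ⟨P, hle⟩ := (IsPGroup.of_card (n := 1) (G := zpowers y) (by rw [Nat.card_zpowers, hy, pow_one])).exists_le_sylow
  exact ⟨P, (eq_of_le_of_card_ge hle (by rw [Nat.card_zpowers, hy]; exact (hP P).le)).symm⟩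

include h

theorem d8_of_card {K : Subgroup G} (hK : Nat.card K = 8) : Nonempty (K ≃* DihedralGroup 4) := by
  haveI : Fact (Nat.Prime 2) := ⟨by norm_num⟩
  obtain ⟨S, hS, ⟨e⟩⟩ := exists_dihedral_sylow h
  obtain ⟨T, hT⟩ := (IsPGroup.of_card (p := 2) (n := 3) (G := K) (by rw [hK]; norm_num)).exists_le_sylow
  have hT8 : Nat.card T = 8 := by
    have := SmallOrders.sylow_card_eq (k := 3) (m := 315) (by rw [h]; norm_num) (by norm_num) T
    simpa using this
  have heq : K = (T : Subgroup G) := eq_of_le_of_card_ge hT (by rw [hK]; exact hT8.le)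
  exact ⟨(MulEquiv.subgroupCongr heq).trans ((Sylow.equiv T S).trans e)⟩

theorem commute_d8 {K : Subgroup G} (hK : Nat.card K = 8) {u : G}
    (hn : ∀ x ∈ K, u * x * u⁻¹ ∈ K) (hu : u ^ 3 = 1) : ∀ x ∈ K, u * x = x * u := by
  obtain ⟨e⟩ := d8_of_card h hK
  let f : DihedralGroup 4 →* DihedralGroup 4 :=
    { toFun := fun d => e ⟨u * (e.symm d : G) * u⁻¹, hn _ (e.symm d).2⟩
      map_one' := by
        rw [← map_one e]
        exact congrArg e (Subtype.ext (by simp))
      map_mul' := fun a b => by
        rw [← map_mul e]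
        refine congrArg e (Subtype.ext ?_)
        show u * ((e.symm (a * b) : K) : G) * u⁻¹ =
          u * (e.symm a : G) * u⁻¹ * (u * (e.symm b : G) * u⁻¹)
        rw [map_mul, Subgroup.coe_mul]
        group }
  have hf : ∀ d, (e.symm (f d) : G) = u * (e.symm d : G) * u⁻¹ := fun d => by
    show ((e.symm (e _) : K) : G) = _
    rw [MulEquiv.symm_apply_apply]
  have hf3 : ∀ d, f (f (f d)) = d := fun d => e.symm.injective (Subtype.ext (by
    rw [hf, hf, hf]
    have e3 : u * (u * (u * (e.symm d : G) * u⁻¹) * u⁻¹) * u⁻¹ = u ^ 3 * (e.symm d : G) * (u ^ 3)⁻¹ := by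
      simp only [pow_succ, pow_zero, one_mul, mul_inv_rev, mul_assoc]
    rw [e3, hu, inv_one, mul_one, one_mul]))
  have hmap : ∀ d, f d = d8Map (f (r 1)) (f (sr 0)) d := by
    intro d
    have hr : ∀ i : ZMod 4, f (r i) = f (r 1) ^ i.val := fun i => by
      rw [← map_pow, DihedralGroup.r_one_pow, ZMod.natCast_zmod_val]
    cases d with
    | r i => exact hr i
    | sr i =>
      show f (sr i) = f (sr 0) * f (r 1) ^ i.val
      rw [← hr, ← map_mul, DihedralGroup.sr_mul_r, zero_add]
  have hinj : Function.Injective f := fun a b e' => by rw [← hf3 a, e', hf3]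
  obtain ⟨ha, hb⟩ := d8_rigid (f (r 1)) (f (sr 0))
    (by rw [← map_mul]; intro e'; exact absurd (hinj (e'.trans (map_one f).symm)) (by decide))
    (by rw [← map_mul, DihedralGroup.sr_mul_self, map_one])
    (by rw [← hmap, ← hmap]; exact hf3 _) (by rw [← hmap, ← hmap]; exact hf3 _)
  intro x hx
  have hid : ∀ d : DihedralGroup 4, d8Map (r 1) (sr 0) d = d := by decide
  have h1 := hf (e ⟨x, hx⟩)
  rw [hmap, ha, hb, hid, MulEquiv.symm_apply_apply] at h1
  exact (mul_inv_eq_iff_eq_mul.1 h1.symm)

theorem three_unique {u u' t : G} (hu : Cen u t) (hu' : Cen u' t) : zpowers u = zpowers u' := by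
  classical
  haveI : Fact (Nat.Prime 3) := ⟨by norm_num⟩
  obtain ⟨hu3, ht, huc⟩ := hu
  obtain ⟨hu3', -, huc'⟩ := hu'
  set C := centralizer ({t} : Set G)
  have hC : Nat.card C = 24 := cent_two h ht
  set a : C := ⟨u, mem_centralizer_singleton_iff.2 huc⟩
  set a' : C := ⟨u', mem_centralizer_singleton_iff.2 huc'⟩
  set τ : C := ⟨t, mem_centralizer_singleton_iff.2 rfl⟩
  have hP : ∀ P : Sylow 3 C, Nat.card P = 3 := fun P => by
    have := SmallOrders.sylow_card_eq (k := 1) (m := 8) (by rw [hC]; norm_num) (by norm_num) P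
    simpa using this
  have ha : orderOf a = 3 := by rw [Subgroup.orderOf_mk]; exact hu3
  have ha' : orderOf a' = 3 := by rw [Subgroup.orderOf_mk]; exact hu3'
  obtain ⟨P, hPa⟩ := exists_sylow_zpowers' hP ha
  obtain ⟨P', hPa'⟩ := exists_sylow_zpowers' hP ha'
  suffices hone : P = P' by
    have e : zpowers a = zpowers a' := by rw [← hPa, ← hPa', hone]
    have e1 := congrArg (Subgroup.map C.subtype) e
    rw [MonoidHom.map_zpowers, MonoidHom.map_zpowers] at e1
    exact e1
  by_contra hne
  set N := normalizer ((P : Subgroup C) : Set C)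
  have hn := SylowTricks.card_sylow_cases P
  have hN : Nat.card (Sylow 3 C) * Nat.card N = 24 := hC ▸ SmallOrders.card_normalizer P
  have hidx : (P : Subgroup C).index = 8 := by
    have h3 := (P : Subgroup C).index_mul_card
    rw [hC, show Nat.card (P : Subgroup C) = 3 from hP P] at h3
    omega
  rw [hidx] at hn
  have hn4 : Nat.card (Sylow 3 C) = 4 := by
    have h1 : 1 < Nat.card (Sylow 3 C) :=
      Finite.one_lt_card_iff_nontrivial.2 ⟨⟨P, P', hne⟩⟩
    have h2 := Nat.le_of_dvd (by norm_num) hn.1
    obtain ⟨hd, hm⟩ := hn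
    interval_cases (Nat.card (Sylow 3 C)) <;> omega
  have hN6 : Nat.card N = 6 := by rw [hn4] at hN; omega
  have hτ : τ ∈ centralizer ((P : Subgroup C) : Set C) := by
    rw [hPa, centralizer_zpowers', mem_centralizer_singleton_iff]
    exact Subtype.ext huc.symm
  have hab : a ∈ centralizer ((P : Subgroup C) : Set C) := by
    rw [hPa, centralizer_zpowers', mem_centralizer_singleton_iff]
  have hle : N ≤ centralizer ((P : Subgroup C) : Set C) := by
    have h3 := Subgroup.orderOf_dvd_natCard _ hab
    have h2 := Subgroup.orderOf_dvd_natCard _ hτ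
    rw [ha] at h3
    rw [Subgroup.orderOf_mk, ht] at h2
    have h6 : 6 ≤ Nat.card (centralizer ((P : Subgroup C) : Set C)) :=
      Nat.le_of_dvd Nat.card_pos (Nat.Coprime.mul_dvd_of_dvd_of_dvd (by norm_num : Nat.Coprime 2 3) h2 h3)
    exact (eq_of_le_of_card_ge (centralizer_le_normalizer _) (by rw [hN6]; exact h6)).ge
  have hK := MonoidHom.ker_transferSylow_isComplement' P hle
  set K := (MonoidHom.transferSylow P hle).ker
  haveI : K.Normal := inferInstance
  have hK8 : Nat.card K = 8 := by
    have := hK.card_mul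
    rw [hP, hC] at this
    omega
  set K' := K.map C.subtype
  have hK' : Nat.card K' = 8 := by
    rw [← Nat.card_congr (K.equivMapOfInjective _ C.subtype_injective).toEquiv]; exact hK8
  have hcomm := commute_d8 h hK' (u := u) (by
    rintro x ⟨k, hk, rfl⟩
    exact ⟨a * k * a⁻¹, (inferInstance : K.Normal).conj_mem k hk a, rfl⟩)
    (by rw [← hu3, pow_orderOf_eq_one])
  have hKN : K ≤ N := fun k hk => centralizer_le_normalizer _ (by
    rw [hPa, centralizer_zpowers', mem_centralizer_singleton_iff]
    exact Subtype.ext (hcomm _ ⟨k, hk, rfl⟩).symm)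
  have := card_dvd_of_le hKN
  rw [hK8, hN6] at this
  norm_num at this

/-- The involutions centralizing an element. -/
abbrev InvolIn (u : G) := {i : G // orderOf i = 2 ∧ u * i = i * u}

theorem card_involutions : Nat.card {i : G // orderOf i = 2} = 105 := by
  haveI : Fact (Nat.Prime 2) := ⟨by norm_num⟩
  obtain ⟨t, ht⟩ := exists_prime_orderOf_dvd_card' (G := G) 2 (by rw [h]; norm_num)
  have h1 := SimpleOrderTools.card_conjugates t
  have e : Nat.card {g : G // IsConj t g} = Nat.card {i : G // orderOf i = 2} :=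
    Nat.card_congr (Equiv.subtypeEquivRight fun g =>
      ⟨fun hg => by
        obtain ⟨c, rfl⟩ := isConj_iff.1 hg
        rw [order_conj]; exact ht, fun hg => conj_involutions h ht hg⟩)
  rw [e, cent_two h ht, h] at h1
  omega

theorem cent_three {u t : G} (hut : Cen u t) :
    Nat.card (centralizer ({u} : Set G)) = 36 ∧
      Nat.card (centralizer ({u} : Set G) ⊓ centralizer ({t} : Set G) : Subgroup G) = 12 ∧
      Nat.card (normalizer ((zpowers u : Subgroup G) : Set G)) = 72 ∧ Nat.card (InvolIn u) ≤ 3 := by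
  classical
  haveI : Fact (Nat.Prime 3) := ⟨by norm_num⟩
  haveI : Fact (Nat.Prime 2) := ⟨by norm_num⟩
  have hu := hut.1
  have ht := hut.2.1
  have huc := hut.2.2
  set C := centralizer ({u} : Set G)
  set D := centralizer ({t} : Set G)
  set N := normalizer ((zpowers u : Subgroup G) : Set G)
  have hD : Nat.card D = 24 := cent_two h ht
  have hu1 : Nat.card (zpowers u) = 3 := by rw [Nat.card_zpowers, hu]
  have hDN : D ≤ N := by
    intro g hg
    have hg' := mem_centralizer_singleton_iff.1 hg
    have hc : Cen (g * u * g⁻¹) t := by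
      refine ⟨by rw [order_conj, hu], ht, ?_⟩
      have e := congrArg (fun x => g * x * g⁻¹) huc
      simp only [← conj_mul] at e
      rwa [show g * t * g⁻¹ = t by rw [hg', mul_inv_cancel_right]] at e
    have he := three_unique h hc hut
    refine Fusion.mem_normalizer_of_cj_le ?_
    show (zpowers u).map (MulAut.conj g).toMonoidHom ≤ _
    rw [MonoidHom.map_zpowers, ← he]
    exact le_rfl
  obtain ⟨e, he, hNe⟩ := OrderFortyEighty.exists_mul_eq (by norm_num : Nat.Prime 3) hu1
  rw [centralizer_zpowers'] at hNe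
  replace hNe : Nat.card N = Nat.card C * e := hNe
  have hC72 : Nat.card C ∣ 72 := card_cent_dvd h (Or.inr hu)
  have h9 : 9 ∣ Nat.card C := by
    obtain ⟨E, hle⟩ := (IsPGroup.of_card (p := 3) (n := 1) (G := zpowers u) (by rw [hu1]; norm_num)).exists_le_sylow
    have hE : Nat.card E = 3 ^ 2 :=
      SmallOrders.sylow_card_eq (k := 2) (m := 280) (by rw [h]; norm_num) (by norm_num) E
    have hab := IsPGroup.commutative_of_card_eq_prime_sq hE
    have hEC : (E : Subgroup G) ≤ C := fun x hx => mem_centralizer_singleton_iff.2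
      (congrArg Subtype.val (hab ⟨x, hx⟩ ⟨u, hle (mem_zpowers u)⟩))
    have := card_dvd_of_le hEC
    rwa [show Nat.card (E : Subgroup G) = 9 from hE] at this
  have he2 : e = 1 ∨ e = 2 := (Nat.dvd_prime Nat.prime_two).1 (by simpa using he)
  have h24 : 24 ∣ Nat.card N := hD ▸ card_dvd_of_le hDN
  have hN2520 : Nat.card N ∣ 2520 := h ▸ card_subgroup_dvd_card N
  have hN : Nat.card N = 72 := by
    have h8 : Nat.card N ∣ 144 := by
      rw [hNe]
      exact (show 144 = 72 * 2 by norm_num) ▸ Nat.mul_dvd_mul hC72 (show e ∣ 2 by simpa using he)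
    have h72 : Nat.card N ∣ 72 := by
      have := Nat.dvd_gcd h8 hN2520
      norm_num at this
      exact this
    have h9N : 9 ∣ Nat.card N := h9.trans (by rw [hNe]; exact dvd_mul_right _ _)
    exact Nat.dvd_antisymm h72 (Nat.Coprime.mul_dvd_of_dvd_of_dvd (by norm_num : Nat.Coprime 8 9)
      ((by norm_num : 8 ∣ 24).trans h24) h9N)
  have hIu : Nat.card (InvolIn u) ≤ 3 := by
    let f : (G ⧸ N) × InvolIn u → {i : G // orderOf i = 2} :=
      fun a => ⟨a.1.out * a.2.1 * a.1.out⁻¹, by rw [order_conj]; exact a.2.2.1⟩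
    have hf : Function.Injective f := by
      rintro ⟨q, i⟩ ⟨q', i'⟩ e
      have e' : q.out * i.1 * q.out⁻¹ = q'.out * i'.1 * q'.out⁻¹ := congrArg Subtype.val e
      have hc : Cen (q.out * u * q.out⁻¹) (q.out * i.1 * q.out⁻¹) :=
        ⟨by rw [order_conj]; exact hu, by rw [order_conj]; exact i.2.1, by
          rw [conj_mul, conj_mul, i.2.2]⟩
      have hc' : Cen (q'.out * u * q'.out⁻¹) (q.out * i.1 * q.out⁻¹) :=
        ⟨by rw [order_conj]; exact hu, by rw [order_conj]; exact i.2.1, by
          rw [e', conj_mul, conj_mul, i'.2.2]⟩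
      have hz := three_unique h hc hc'
      have hmem : q'.out⁻¹ * q.out ∈ N := by
        refine Fusion.mem_normalizer_of_cj_le ?_
        show (zpowers u).map (MulAut.conj (q'.out⁻¹ * q.out)).toMonoidHom ≤ _
        rw [MonoidHom.map_zpowers, zpowers_le]
        have hm : q.out * u * q.out⁻¹ ∈ zpowers (q'.out * u * q'.out⁻¹) := hz ▸ mem_zpowers _
        obtain ⟨k, hk⟩ := mem_zpowers_iff.1 hm
        rw [conj_zpow] at hk
        refine mem_zpowers_iff.2 ⟨k, ?_⟩
        show u ^ k = q'.out⁻¹ * q.out * u * (q'.out⁻¹ * q.out)⁻¹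
        calc u ^ k = q'.out⁻¹ * (q'.out * u ^ k * q'.out⁻¹) * q'.out := by group
          _ = _ := by rw [hk]; group
      have hq : q = q' := by
        rw [← QuotientGroup.out_eq' q, ← QuotientGroup.out_eq' q']
        exact (QuotientGroup.eq.2 hmem).symm
      subst hq
      exact Prod.ext rfl (Subtype.ext (mul_left_cancel (mul_right_cancel e')))
    have h1 := Nat.card_le_card_of_injective f hf
    rw [Nat.card_prod, ← index_eq_card, card_involutions h] at h1
    have h2 := N.index_mul_card
    rw [hN, h] at h2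
    have : N.index = 35 := by omega
    rw [this] at h1
    omega
  have hC36 : Nat.card C = 36 := by
    rw [hN] at hNe
    rcases he2 with rfl | rfl
    · exfalso
      have hC : Nat.card C = 72 := by omega
      obtain ⟨T⟩ : Nonempty (Sylow 2 C) := inferInstance
      have hT : Nat.card T = 8 := by
        have := SmallOrders.sylow_card_eq (k := 3) (m := 9) (by rw [hC]; norm_num) (by norm_num) T
        simpa using this
      obtain ⟨ed⟩ := d8_of_card h (K := (T : Subgroup C).map C.subtype) (by
        rw [← Nat.card_congr ((T : Subgroup C).equivMapOfInjective _ C.subtype_injective).toEquiv]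
        exact hT)
      let g : {x : DihedralGroup 4 // x ≠ 1 ∧ x * x = 1} → InvolIn u := fun x =>
        ⟨(ed.symm x.1 : G), order_two_of
          (fun e' => x.2.1 (ed.symm.injective (by rw [map_one]; exact Subtype.ext e')))
          (by rw [← Subgroup.coe_mul, ← map_mul, x.2.2, map_one, Subgroup.coe_one]),
          by
            obtain ⟨c, -, hc⟩ := (ed.symm x.1).2
            rw [← hc]
            exact (mem_centralizer_singleton_iff.1 c.2).symm⟩
      have hg : Function.Injective g := fun a b e' =>
        Subtype.ext (ed.symm.injective (Subtype.ext (congrArg (fun x : InvolIn u => x.1) e')))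
      have h1 := Nat.card_le_card_of_injective g hg
      rw [Nat.card_eq_fintype_card, d8_invol_card] at h1
      omega
    · omega
  refine ⟨hC36, ?_, hN, hIu⟩
  set X : Subgroup G := C ⊓ D
  have hXC : Nat.card X ∣ 36 := hC36 ▸ card_dvd_of_le inf_le_left
  have hXD : Nat.card X ∣ 24 := hD ▸ card_dvd_of_le inf_le_right
  obtain ⟨e', he', hNe'⟩ := OrderFortyEighty.exists_mul_eq (G := D) (by norm_num : Nat.Prime 3)
    (P := (zpowers u).subgroupOf D) (by
      rw [Nat.card_congr (subgroupOfEquivOfLe (zpowers_le.2 (mem_centralizer_singleton_iff.2 huc))).toEquiv]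
      exact hu1)
  have hcen : Nat.card (centralizer (((zpowers u).subgroupOf D : Subgroup D) : Set D)) ∣ Nat.card X := by
    rw [Nat.card_congr ((centralizer (((zpowers u).subgroupOf D : Subgroup D) : Set D)).equivMapOfInjective
      _ D.subtype_injective).toEquiv]
    refine card_dvd_of_le ?_
    rintro _ ⟨g, hg, rfl⟩
    refine ⟨mem_centralizer_singleton_iff.2 ?_, g.2⟩
    exact (congrArg Subtype.val (mem_centralizer_iff.1 hg ⟨u, mem_centralizer_singleton_iff.2 huc⟩
      (mem_zpowers u))).symm
  have hnorm : Nat.card (normalizer (((zpowers u).subgroupOf D : Subgroup D) : Set D)) = 24 := by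
    haveI : ((zpowers u).subgroupOf D).Normal :=
      (normal_subgroupOf_iff_le_normalizer (zpowers_le.2 (mem_centralizer_singleton_iff.2 huc))).2 hDN
    rw [normalizer_eq_top, card_top]
    exact hD
  rw [hnorm] at hNe'
  have h12 : Nat.card X ∣ 12 := by
    have := Nat.dvd_gcd hXC hXD
    norm_num at this
    exact this
  refine Nat.dvd_antisymm h12 (dvd_trans ?_ hcen)
  rcases (Nat.dvd_prime Nat.prime_two).1 (show e' ∣ 2 by simpa using he') with rfl | rfl
  · exact Dvd.intro 2 (by omega)
  · exact dvd_of_eq (by omega)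

end Cfsg.Agent.Small.AltSeven
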