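import Mathlib

/-!
# Automorphism groups of 2-groups with a characteristic cyclic maximal subgroup
-/

set_option autoImplicit false

namespace Cfsg.Agent.Small.AutTwoGroup

theorem pow_orderOf_odd_fixed {G : Type*} [Group G] {u : G} {d : ℕ} (hd : Odd d) (hu : u ^ d = 1)
    {k : ℕ} (hu2 : u ^ (2 ^ k) = 1) : u = 1 := by
  have h := pow_gcd_eq_one.2 (And.intro hu hu2)
  have hc : Nat.gcd d (2 ^ k) = 1 := (Nat.Coprime.pow_right k (Nat.coprime_two_right.2 hd))
  rwa [hc, pow_one] at h

/-- If the elements of order `2 ^ k` all lie in `⟨c⟩` of index 2, `k ≥ 1`, then `Aut X` is a 2-group. -/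
theorem isPGroup_mulAut {X : Type*} [Group X] [Finite X] (c : X) {k : ℕ} (hk : 1 ≤ k)
    (hc : orderOf c = 2 ^ k) (hX : Nat.card X = 2 ^ (k + 1))
    (huniq : ∀ x : X, orderOf x = 2 ^ k → x ∈ Subgroup.zpowers c) : IsPGroup 2 (MulAut X) := by
  have key : ∀ (β : MulAut X) (d : ℕ), Odd d → β ^ d = 1 → β = 1 := by
    intro β d hd hβ
    obtain ⟨a, ha⟩ := mem_powers_iff_mem_zpowers.2 (huniq (β c) (by rw [MulEquiv.orderOf_eq, hc]))
    simp only at ha
    have hiter : ∀ j : ℕ, (β ^ j) c = c ^ (a ^ j) := by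
      intro j
      induction j with
      | zero => simp
      | succ j ih => rw [pow_succ', MulAut.mul_apply, ih, map_pow, ← ha, ← pow_mul, pow_succ']
    have h1 : c ^ (a ^ d) = c ^ 1 := by rw [← hiter, hβ, MulAut.one_apply, pow_one]
    have h1' : ((a : ZMod (2 ^ k))) ^ d = 1 := by
      have := pow_eq_pow_iff_modEq.1 h1
      rw [hc, ← ZMod.natCast_eq_natCast_iff] at this
      simpa using this
    have hu : IsUnit (a : ZMod (2 ^ k)) :=
      IsUnit.of_pow_eq_one h1' hd.pos.ne'
    have hcard : Nat.card (ZMod (2 ^ k))ˣ = 2 ^ (k - 1) := by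
      have : NeZero (2 ^ k) := ⟨by positivity⟩
      rw [Nat.card_eq_fintype_card, ZMod.card_units_eq_totient, Nat.totient_prime_pow Nat.prime_two hk]
      simp
    have hu1 : hu.unit = 1 := by
      refine pow_orderOf_odd_fixed hd (Units.ext ?_) (k := k - 1) ?_
      · simpa using h1'
      · rw [← hcard]; exact pow_card_eq_one'
    have hfixc : β c = c := by
      have hz : (a : ZMod (2 ^ k)) = 1 := by
        have := congrArg Units.val hu1
        simpa using this
      rw [← ha]
      show c ^ a = c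
      conv_rhs => rw [← pow_one c]
      rw [pow_eq_pow_iff_modEq, hc, ← ZMod.natCast_eq_natCast_iff, hz, Nat.cast_one]
    have hfix : ∀ y ∈ Subgroup.zpowers c, β y = y := by
      rintro _ ⟨j, rfl⟩
      simp only [map_zpow, hfixc]
    have hidx : (Subgroup.zpowers c).index = 2 := by
      have h := (Subgroup.zpowers c).card_mul_index
      rw [Nat.card_zpowers, hc, hX, pow_succ] at h
      exact Nat.eq_of_mul_eq_mul_left (by positivity) h
    refine MulEquiv.ext fun x => ?_
    by_cases hx : x ∈ Subgroup.zpowers c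
    · exact hfix x hx
    have hβx : β x ∉ Subgroup.zpowers c := fun h => hx (by
      have h' := hfix _ h
      rw [β.injective h'] at h
      exact h)
    have hmem : x⁻¹ * β x ∈ Subgroup.zpowers c := by
      rw [Subgroup.mul_mem_iff_of_index_two hidx, inv_mem_iff]
      exact ⟨fun h => absurd h hx, fun h => absurd h hβx⟩
    have hiter' : ∀ j : ℕ, (β ^ j) x = x * (x⁻¹ * β x) ^ j := by
      intro j
      induction j with
      | zero => simp
      | succ j ih =>
        rw [pow_succ', MulAut.mul_apply, ih, map_mul, map_pow, hfix _ hmem, pow_succ', ← mul_assoc,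
          mul_inv_cancel_left]
    have hd1 : (x⁻¹ * β x) ^ d = 1 := by
      have := hiter' d
      rw [hβ, MulAut.one_apply] at this
      exact mul_left_cancel (a := x) (this.symm.trans (mul_one x).symm)
    have h2 : (x⁻¹ * β x) ^ (2 ^ (k + 1)) = 1 := by rw [← hX]; exact pow_card_eq_one'
    have := pow_orderOf_odd_fixed hd hd1 h2
    rw [inv_mul_eq_one] at this
    exact this.symm
  intro α
  obtain ⟨e, d, hd, he⟩ := Nat.exists_eq_pow_mul_and_not_dvd (orderOf_pos α).ne' 2 (by norm_num)
  refine ⟨e, key _ d (Nat.odd_iff.2 (Nat.two_dvd_ne_zero.1 hd)) ?_⟩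
  rw [← pow_mul, ← he, pow_orderOf_eq_one]

end Cfsg.Agent.Small.AutTwoGroup
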