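import Cfsg.Agent.Lib.Small.SchurLifts
import Cfsg.Agent.Lib.Small.SteinbergSLn

/-!
# Central extensions of quotients of `SL_n`, `n ≥ 3`, lift to `SL_n`
-/

set_option autoImplicit false
set_option linter.unusedSectionVars false

namespace Cfsg.Agent.Small.SchurSLn

open Matrix SchurLifts
open scoped commutatorElement

variable {n : ℕ} {K : Type*} [Field K]

/-- A diagonal element of `SL_n` from exponents summing to zero. -/
def torus (a : Kˣ) (z : Fin n → ℤ) (hz : ∑ i, z i = 0) : SpecialLinearGroup (Fin n) K :=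
  ⟨Matrix.diagonal fun i => ((a ^ z i : Kˣ) : K), by
    rw [Matrix.det_diagonal, ← Units.coe_prod]
    have : ∀ s : Finset (Fin n), ∏ i ∈ s, a ^ z i = a ^ ∑ i ∈ s, z i := fun s => by
      induction s using Finset.induction with
      | empty => simp
      | insert i s hi ih => rw [Finset.prod_insert hi, Finset.sum_insert hi, ih, _root_.zpow_add]
    rw [this, hz, zpow_zero, Units.val_one]⟩

theorem torus_conj (a : Kˣ) (z : Fin n → ℤ) (hz : ∑ i, z i = 0) {i j : Fin n} (h : i ≠ j) (t : K) :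
    torus a z hz * SpecialLinearGroup.transvection h t * (torus a z hz)⁻¹ =
      SpecialLinearGroup.transvection h (((a ^ (z i - z j) : Kˣ) : K) * t) := by
  rw [mul_inv_eq_iff_eq_mul]
  refine Subtype.ext ?_
  show (torus a z hz).1 * (SpecialLinearGroup.transvection h t).1 =
    (SpecialLinearGroup.transvection h (((a ^ (z i - z j) : Kˣ) : K) * t)).1 * (torus a z hz).1
  ext k l
  simp only [torus, SpecialLinearGroup.transvection_coe, Matrix.diagonal_mul, Matrix.mul_diagonal,
    Matrix.add_apply, Matrix.single_apply, Matrix.one_apply]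
  by_cases hk : i = k ∧ j = l
  · obtain ⟨rfl, rfl⟩ := hk
    simp only [if_neg h, and_self, if_true, zero_add, _root_.zpow_sub, Units.val_mul, Units.val_inv_eq_inv_val]
    field_simp
  · simp only [if_neg hk, add_zero]
    split_ifs with hkl
    · subst hkl; ring
    · ring

theorem exists_swap_elem {i j k l : Fin n} (hij : i ≠ j) (hik : i ≠ k) (hil : i ≠ l) (hjk : j ≠ k) (hjl : j ≠ l)
    (hkl : k ≠ l) : ∃ P : SpecialLinearGroup (Fin n) K, ∀ t,
      P * SpecialLinearGroup.transvection hij t * P⁻¹ = SpecialLinearGroup.transvection hkl t ∧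
        P * SpecialLinearGroup.transvection hkl t * P⁻¹ = SpecialLinearGroup.transvection hij t := by
  obtain ⟨σ, hσdef⟩ : ∃ σ, σ = Equiv.swap i k * Equiv.swap j l := ⟨_, rfl⟩
  have hσ : ∀ x, σ (σ x) = x := by
    intro x
    simp only [hσdef, Equiv.Perm.mul_apply, Equiv.swap_apply_def]
    split_ifs <;> simp_all
  have e1 : σ i = k := by simp [hσdef, Equiv.swap_apply_of_ne_of_ne hij hil]
  have e2 : σ j = l := by simp [hσdef, Equiv.swap_apply_of_ne_of_ne hil.symm hkl.symm]
  have e3 : σ k = i := by rw [← e1, hσ]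
  have e4 : σ l = j := by rw [← e2, hσ]
  refine ⟨⟨σ.permMatrix K, ?_⟩, fun t => ⟨?_, ?_⟩⟩
  · rw [Matrix.det_permutation, hσdef, Equiv.Perm.sign_mul, Equiv.Perm.sign_swap hik, Equiv.Perm.sign_swap hjl]
    simp
  all_goals
    refine mul_inv_eq_iff_eq_mul.2 ?_
    refine Subtype.ext ?_
    show σ.permMatrix K * (SpecialLinearGroup.transvection _ t).1 =
      (SpecialLinearGroup.transvection _ t).1 * σ.permMatrix K
    ext r c
    rw [Equiv.Perm.permMatrix, PEquiv.toMatrix_toPEquiv_mul, PEquiv.mul_toMatrix_toPEquiv]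
    simp only [Matrix.submatrix_apply, id_eq, SpecialLinearGroup.transvection_coe, Matrix.add_apply,
      Matrix.one_apply, Matrix.single_apply]
    have hσinj : ∀ x y, σ x = y ↔ x = σ y := fun x y => ⟨fun h => by rw [← h, hσ], fun h => by rw [h, hσ]⟩
    have hsymm : σ.symm c = σ c := by rw [Equiv.symm_apply_eq, hσ]
    rw [hsymm]
    congr 1
    · simp [hσinj]
    · have hh : ∀ a b : Fin n, a = σ b ↔ σ a = b := fun a b => (hσinj a b).symm
      simp [hh, e1, e2, e3, e4]

theorem exists_unit_pow_ne (m : ℕ) [Fintype K] (h : ¬ (Fintype.card K - 1) ∣ m) :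
    ∃ a : Kˣ, a ^ m ≠ 1 := by
  classical
  obtain ⟨a, ha⟩ := IsCyclic.exists_generator (α := Kˣ)
  refine ⟨a, fun he => h ?_⟩
  rw [← Fintype.card_units, ← Nat.card_eq_fintype_card, ← orderOf_eq_card_of_forall_mem_zpowers ha]
  exact orderOf_dvd_of_pow_eq_one he

section Lift

variable [Fintype K] {Γ Q : Type*} [Group Γ] [Group Q] (C : Central Γ Q)
  (ι : SpecialLinearGroup (Fin n) K →* Q) (S : SteinbergSLn.St n K (SpecialLinearGroup (Fin n) K))
  (hφ : ∀ g, S.φ g = g)

/-- Root elements of the quotient. -/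
def T (i j : Fin n) (t : K) : Q := ι (S.x i j t)

/-- Their lifts. -/
noncomputable def E (i j : Fin n) (t : K) : Γ := C.L (T ι S i j t)

/-- Lifts of two root subgroups commute. -/
def CommLift (i j k l : Fin n) : Prop := ∀ t u, Commute (E C ι S i j t) (E C ι S k l u)

theorem T_comm {i j k l : Fin n} (h1 : i ≠ j) (h2 : k ≠ l) (h3 : i ≠ l) (h4 : j ≠ k) (t u : K) :
    Commute (T ι S i j t) (T ι S k l u) := (S.comm i j k l h1 h2 h3 h4 t u).map ι

theorem T_add {i j : Fin n} (h : i ≠ j) (t u : K) : T ι S i j t * T ι S i j u = T ι S i j (t + u) := by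
  rw [T, T, T, ← map_mul, S.xadd i j h]

theorem π_E (i j : Fin n) (t : K) : C.π (E C ι S i j t) = T ι S i j t := C.π_L _

theorem π_comm {i j l : Fin n} (h1 : i ≠ j) (h2 : j ≠ l) (h3 : i ≠ l) (t u : K) :
    C.π ⁅E C ι S i j t, E C ι S j l u⁆ = T ι S i l (t * u) := by
  rw [map_commutatorElement, π_E, π_E, T, T, T, S.comm3_conj h1 h2 h3, commutatorElement_def]
  simp only [map_mul, map_inv]

theorem π_E_eq {i j l : Fin n} (h1 : i ≠ j) (h2 : j ≠ l) (h3 : i ≠ l) (u : K) :
    C.π (E C ι S i l u) = C.π ⁅E C ι S i j u, E C ι S j l 1⁆ := by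
  rw [π_comm C ι S h1 h2 h3, mul_one, π_E]

include hφ in
theorem torus_T (a : Kˣ) (z : Fin n → ℤ) (hz : ∑ i, z i = 0) {i j : Fin n} (h : i ≠ j) (t : K) :
    ι (torus a z hz) * T ι S i j t * (ι (torus a z hz))⁻¹ =
      T ι S i j (((a ^ (z i - z j) : Kˣ) : K) * t) := by
  have hx : ∀ v, S.x i j v = SpecialLinearGroup.transvection h v := fun v => by rw [← hφ (S.x i j v), S.φx i j h]
  rw [T, T, hx, hx, ← map_inv, ← map_mul, ← map_mul, torus_conj]

variable (hsmall : 5 ≤ n ∨ (n = 4 ∧ Fintype.card K ≠ 2) ∨ (n = 3 ∧ Fintype.card K ≠ 2 ∧ Fintype.card K ≠ 4))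

include S in
theorem three_le : 3 ≤ n := S.three

include hsmall hφ in
/-- Lifts of commuting root subgroups commute. -/
theorem commLift {i j k l : Fin n} (h1 : i ≠ j) (h2 : k ≠ l) (h3 : i ≠ l) (h4 : j ≠ k) :
    CommLift C ι S i j k l := by
  classical
  intro t u
  by_cases hh : ∃ h, i ≠ h ∧ j ≠ h ∧ k ≠ h ∧ l ≠ h
  · obtain ⟨h, hi, hj, hk, hl⟩ := hh
    refine C.commute_indep rfl (π_E_eq C ι S hk hl.symm h2 u) (C.commute_comm ?_ ?_)
    · rw [π_E, π_E]; exact T_comm ι S h1 hk hi h4 _ _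
    · rw [π_E, π_E]; exact T_comm ι S h1 hl.symm h3 hj _ _
  push Not at hh
  have hcover : ∀ x, x ∈ ({i, j, k, l} : Finset (Fin n)) := by
    intro x
    simp only [Finset.mem_insert, Finset.mem_singleton]
    by_contra hx
    simp only [not_or] at hx
    exact hx.2.2.2 (hh x (Ne.symm hx.1) (Ne.symm hx.2.1) (Ne.symm hx.2.2.1)).symm
  have hn4 : n ≤ 4 := by
    have := (Finset.card_le_card (s := Finset.univ) (fun x _ => hcover x)).trans Finset.card_le_four
    simpa using this
  have hfg : ∀ a b, Commute (T ι S i j a) (T ι S k l b) := T_comm ι S h1 h2 h3 h4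
  refine commutatorElement_eq_one_iff_mul_comm.1 ?_
  show C.pair (T ι S i j) (T ι S k l) t u = 1
  by_cases hki : k = i
  · subst hki
    by_cases hlj : l = j
    · subst hlj
      exfalso
      have := Finset.card_le_card (s := Finset.univ) (fun x _ => hcover x)
      simp at this
      have := three_le S
      have h5 : ({k, l, k, l} : Finset (Fin n)) = {k, l} := by ext x; simp
      rw [h5] at *
      have := Finset.card_le_two (a := k) (b := l)
      omega
    have hn3 : n = 3 := by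
      have h5 : ({k, j, k, l} : Finset (Fin n)) = {k, j, l} := by ext x; simp; tauto
      rw [h5] at hcover
      have := (Finset.card_le_card (s := Finset.univ) (fun x _ => hcover x)).trans Finset.card_le_three
      simp at this
      have := three_le S
      omega
    obtain ⟨a, ha⟩ := exists_unit_pow_ne (K := K) 3 (by
      rcases hsmall with h | ⟨h, -⟩ | ⟨-, h2q, h4q⟩
      · omega
      · omega
      · intro hd
        rcases (Nat.dvd_prime Nat.prime_three).1 hd with h | h <;> omega)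
    subst hn3
    refine C.pair_eq_one hfg (T_add ι S h2) (ι (torus a (fun x => if x = l then -2 else 1) ?_)) ((a : K) ^ 3) ?_
      (fun v => ?_) (fun v => ?_) t u
    · rw [Finset.sum_ite, Finset.sum_const, Finset.sum_const, Finset.filter_eq', if_pos (Finset.mem_univ _),
        Finset.filter_ne', Finset.card_erase_of_mem (Finset.mem_univ _)]
      simp
    · exact fun he => ha (Units.ext (by simpa using he))
    · rw [torus_T ι S hφ _ _ _ h1, if_neg h3, if_neg (Ne.symm hlj)]
      simp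
    · rw [torus_T ι S hφ _ _ _ h2, if_neg h2, if_pos rfl]
      simp
  by_cases hlj : l = j
  · subst hlj
    have hn3 : n = 3 := by
      have h5 : ({i, l, k, l} : Finset (Fin n)) = {i, l, k} := by ext x; simp; tauto
      rw [h5] at hcover
      have := (Finset.card_le_card (s := Finset.univ) (fun x _ => hcover x)).trans Finset.card_le_three
      simp at this
      have := three_le S
      omega
    obtain ⟨a, ha⟩ := exists_unit_pow_ne (K := K) 3 (by
      rcases hsmall with h | ⟨h, -⟩ | ⟨-, h2q, h4q⟩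
      · omega
      · omega
      · intro hd
        rcases (Nat.dvd_prime Nat.prime_three).1 hd with h | h <;> omega)
    subst hn3
    refine C.pair_eq_one hfg (T_add ι S h2) (ι (torus a (fun x => if x = k then -2 else 1) ?_)) (((a : K) ^ 3)⁻¹) ?_
      (fun v => ?_) (fun v => ?_) t u
    · rw [Finset.sum_ite, Finset.sum_const, Finset.sum_const, Finset.filter_eq', if_pos (Finset.mem_univ _),
        Finset.filter_ne', Finset.card_erase_of_mem (Finset.mem_univ _)]
      simp
    · exact fun he => ha (Units.ext (by simpa using he))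
    · rw [torus_T ι S hφ _ _ _ h1, if_neg (fun h => hki h.symm), if_neg h2.symm]
      simp
    · rw [torus_T ι S hφ _ _ _ h2, if_neg h2.symm, if_pos rfl]
      simp [_root_.zpow_neg, zpow_ofNat]
  -- four distinct indices
  by_cases hq : Fintype.card K ≤ 3
  · have hn : n = 4 := by
      rcases hsmall with h | ⟨h, -⟩ | ⟨h, -⟩
      · omega
      · exact h
      · exfalso
        subst h
        have : ({i, j, k, l} : Finset (Fin 3)).card = 4 := by
          simp [h1, h2, h3, h4, Ne.symm hki, Ne.symm hlj]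
        have := Finset.card_le_univ ({i, j, k, l} : Finset (Fin 3))
        simp at this
        omega
    have hq3 : Fintype.card K = 3 := by
      have := Fintype.one_lt_card (α := K)
      rcases hsmall with h | ⟨-, h⟩ | ⟨h, -⟩ <;> omega
    have h3K : (3 : K) = 0 := by
      have := FiniteField.cast_card_eq_zero K
      rw [hq3] at this
      exact_mod_cast this
    obtain ⟨P, hP⟩ := exists_swap_elem (K := K) h1 (Ne.symm hki) h3 h4 (Ne.symm hlj) h2
    have hx1 : ∀ v, S.x i j v = SpecialLinearGroup.transvection h1 v := fun v => by rw [← hφ (S.x i j v), S.φx i j h1]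
    have hx2 : ∀ v, S.x k l v = SpecialLinearGroup.transvection h2 v := fun v => by rw [← hφ (S.x k l v), S.φx k l h2]
    have hsw : C.pair (T ι S k l) (T ι S i j) t u = C.pair (T ι S i j) (T ι S k l) t u :=
      C.pair_invariant (d := ι P) hfg
        (by rw [T, T, hx1, hx2, ← map_inv, ← map_mul, ← map_mul, (hP t).1])
        (by rw [T, T, hx1, hx2, ← map_inv, ← map_mul, ← map_mul, (hP u).2])
    have hinv : C.pair (T ι S k l) (T ι S i j) t u = (C.pair (T ι S i j) (T ι S k l) u t)⁻¹ :=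
      (commutatorElement_inv _ _).symm
    obtain ⟨c, hc⟩ : ∃ c : K → K → Γ, ∀ a b, C.pair (T ι S i j) (T ι S k l) a b = c a b := ⟨_, fun _ _ => rfl⟩
    simp only [hc] at hinv hsw ⊢
    have addr : ∀ a b b', c a (b + b') = c a b * c a b' := fun a b b' => by
      rw [← hc, ← hc, ← hc]; exact C.pair_add_right hfg (T_add ι S h2) a b b'
    have addl : ∀ a a' b, c (a + a') b = c a' b * c a b := fun a a' b => by
      rw [← hc, ← hc, ← hc]; exact C.pair_add_left hfg (T_add ι S h1) a a' b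
    have c0r : ∀ a, c a 0 = 1 := fun a => by
      have := addr a 0 0; rwa [add_zero, left_eq_mul] at this
    have c0l : ∀ b, c 0 b = 1 := fun b => by
      have := addl 0 0 b; rwa [add_zero, left_eq_mul] at this
    have cnr : ∀ a b, c a (-b) = (c a b)⁻¹ := fun a b =>
      eq_inv_of_mul_eq_one_left (by rw [← addr, neg_add_cancel, c0r])
    have cnl : ∀ a b, c (-a) b = (c a b)⁻¹ := fun a b =>
      eq_inv_of_mul_eq_one_left (by rw [← addl, add_neg_cancel, c0l])
    have h10 : (1 : K) ≠ 0 := one_ne_zero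
    have h12 : (1 : K) ≠ -1 := fun h => h10 (by linear_combination h3K - h)
    have hall : ∀ x : K, x = 0 ∨ x = 1 ∨ x = -1 := by
      intro x
      have huniv : ({0, 1, -1} : Finset K) = Finset.univ := Finset.eq_univ_of_card _ (by
        rw [hq3]; simp [h10.symm, h12])
      have := huniv ▸ Finset.mem_univ x
      simpa using this
    have hsym : c t u = c u t := by
      rcases hall t with rfl | rfl | rfl <;> rcases hall u with rfl | rfl | rfl <;>
        simp [c0r, c0l, cnr, cnl]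
    have h2' : c t u * c t u = 1 := mul_eq_one_iff_eq_inv.2 ((hsw.symm.trans hinv).trans (by rw [hsym]))
    have h3' : c t u * c t u * c t u = 1 := by
      rw [← addr, ← addr, show u + u + u = 3 * u by ring, h3K, zero_mul, c0r]
    rwa [h2', one_mul] at h3'
  obtain ⟨a, ha⟩ := exists_unit_pow_ne (K := K) 2 (fun hd => by
    have := Nat.le_of_dvd (by norm_num) hd; omega)
  refine C.pair_eq_one hfg (T_add ι S h2)
    (ι (torus a (fun x => if x = k then 1 else if x = l then -1 else 0) ?_)) ((a : K) ^ 2) ?_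
    (fun v => ?_) (fun v => ?_) t u
  · rw [Fintype.sum_eq_add k l h2 (fun x hx => by rw [if_neg hx.1, if_neg hx.2]), if_pos rfl,
      if_neg h2.symm, if_pos rfl]
    rfl
  · exact fun he => ha (Units.ext (by simpa using he))
  · rw [torus_T ι S hφ _ _ _ h1, if_neg (Ne.symm hki), if_neg h3, if_neg h4, if_neg (Ne.symm hlj)]
    simp
  · rw [torus_T ι S hφ _ _ _ h2, if_pos rfl, if_neg h2.symm, if_pos rfl]
    simp

include hsmall hφ in
theorem move {i j l m : Fin n} (hij : i ≠ j) (hjl : j ≠ l) (hil : i ≠ l) (him : i ≠ m) (hjm : j ≠ m) (hml : m ≠ l)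
    (t u : K) : ⁅E C ι S i j t, E C ι S j l u⁆ = ⁅E C ι S i m (t * u), E C ι S m l 1⁆ := by
  obtain ⟨b, hb⟩ : ∃ b, b = E C ι S j m u := ⟨_, rfl⟩
  obtain ⟨c, hc⟩ : ∃ c, c = E C ι S m l 1 := ⟨_, rfl⟩
  obtain ⟨b', hb'⟩ : ∃ b', b' = E C ι S i m (t * u) := ⟨_, rfl⟩
  have hy : C.π (E C ι S j l u) = C.π ⁅b, c⁆ := by rw [hb, hc]; exact π_E_eq C ι S hjm hml hjl u
  rw [C.comm_right _ hy, ← hb', ← hc]
  have hbπ : C.π (E C ι S i j t * b * (E C ι S i j t)⁻¹) = C.π (b' * b) := by
    rw [hb, hb', map_mul, map_mul, map_mul, map_inv, π_E, π_E, π_E, T, T, T, S.comm3_conj hij hjm him t u,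
      ← map_inv, ← map_mul, ← map_mul, ← map_mul]
    congr 1
    group
  have hcπ : C.π (E C ι S i j t * c * (E C ι S i j t)⁻¹) = C.π c := by
    rw [hc, map_mul, map_mul, map_inv, π_E, π_E, (T_comm ι S hij hml hil hjm t 1).eq, mul_inv_cancel_right]
  have key := C.conj_comm hbπ hcπ
  have hb'y : Commute b' ⁅b, c⁆ := by
    refine C.commute_indep rfl hy.symm ?_
    rw [hb']
    exact commLift C ι S hφ hsmall him hjl hil hjm.symm _ _
  have hey : Commute ⁅b', c⁆ ⁅b, c⁆ := by
    refine C.commute_indep (a' := E C ι S i l (t * u)) ?_ hy.symm (commLift C ι S hφ hsmall hil hjl hil hjl.symm _ _)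
    rw [hb', hc, π_comm C ι S him hml hil, π_E, mul_one]
  have e : ⁅b' * b, c⁆ = (b' * ⁅b, c⁆ * b'⁻¹) * ⁅b', c⁆ := by simp only [commutatorElement_def]; group
  rw [e, hb'y.eq, mul_inv_cancel_right] at key
  rw [commutatorElement_def (E C ι S i j t) ⁅b, c⁆, key, ← hey.eq, mul_inv_cancel_right]

include hsmall hφ in
theorem indep {i j l m : Fin n} (hij : i ≠ j) (hjl : j ≠ l) (hil : i ≠ l) (him : i ≠ m) (hml : m ≠ l)
    (t u : K) : ⁅E C ι S i j t, E C ι S j l u⁆ = ⁅E C ι S i m (t * u), E C ι S m l 1⁆ := by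
  classical
  by_cases hjm : j = m
  swap
  · exact move C ι S hφ hsmall hij hjl hil him hjm hml t u
  subst hjm
  by_cases hn3 : n = 3
  · subst hn3
    obtain ⟨h2q, h4q⟩ : Fintype.card K ≠ 2 ∧ Fintype.card K ≠ 4 := by
      rcases hsmall with h | ⟨h, -⟩ | ⟨-, h⟩
      · omega
      · omega
      · exact h
    obtain ⟨a, ha⟩ := exists_unit_pow_ne (K := K) 3 (fun hd => by
      rcases (Nat.dvd_prime Nat.prime_three).1 hd with h | h <;> omega)
    obtain ⟨D, hD⟩ : ∃ D, D = torus a (fun x : Fin 3 => if x = i then -2 else 1) (by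
      rw [Finset.sum_ite, Finset.sum_const, Finset.sum_const, Finset.filter_eq', if_pos (Finset.mem_univ _),
        Finset.filter_ne', Finset.card_erase_of_mem (Finset.mem_univ _)]
      simp) := ⟨_, rfl⟩
    obtain ⟨α, hα⟩ : ∃ α : K, α = ((a ^ (-3 : ℤ) : Kˣ) : K) := ⟨_, rfl⟩
    have hα1 : α ≠ 1 := by
      intro h
      rw [hα, Units.val_eq_one, _root_.zpow_neg, inv_eq_one] at h
      exact ha (by rw [← zpow_natCast]; exact_mod_cast h)
    have hTij : ∀ v, ι D * T ι S i j v * (ι D)⁻¹ = T ι S i j (α * v) := fun v => by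
      rw [hD, torus_T ι S hφ _ _ _ hij, if_pos rfl, if_neg hij.symm, hα]
      norm_num
    have hTjl : ∀ v, ι D * T ι S j l v * (ι D)⁻¹ = T ι S j l v := fun v => by
      rw [hD, torus_T ι S hφ _ _ _ hjl, if_neg hij.symm, if_neg hil.symm]
      simp
    have hconj : ∀ v w, C.L (ι D) * ⁅E C ι S i j v, E C ι S j l w⁆ * (C.L (ι D))⁻¹ =
        ⁅E C ι S i j (α * v), E C ι S j l w⁆ := fun v w => by
      refine C.conj_comm ?_ ?_
      · rw [map_mul, map_mul, map_inv, C.π_L, π_E, π_E, hTij]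
      · rw [map_mul, map_mul, map_inv, C.π_L, π_E, hTjl]
    obtain ⟨Φ, hΦ⟩ : ∃ Φ : K → K → Γ, ∀ v w, Φ v w = ⁅E C ι S i j v, E C ι S j l w⁆ := ⟨_, fun _ _ => rfl⟩
    have hπΦ : ∀ v w, C.π (Φ v w) = T ι S i l (v * w) := fun v w => by rw [hΦ]; exact π_comm C ι S hij hjl hil v w
    have hcom : ∀ v w, ∀ b, C.π b = T ι S i l w → Commute (E C ι S i j v) b := fun v w b hb =>
      C.commute_indep rfl (hb.trans (π_E C ι S i l w).symm) (commLift C ι S hφ hsmall hij hil hil hij.symm v w)
    have hadd : ∀ v v' w, Φ (v + v') w = Φ v' w * Φ v w := fun v v' w => by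
      simp only [hΦ]
      exact C.add_left (T ι S i j) (T_add ι S hij) v v' (hcom v _ _ (π_comm C ι S hij hjl hil v' w))
    obtain ⟨Ψ, hΨ⟩ : ∃ Ψ : K → Γ, ∀ v, Ψ v = (Φ (v * u) 1)⁻¹ * Φ v u := ⟨_, fun _ => rfl⟩
    have hΨc : ∀ v, Ψ v ∈ Subgroup.center Γ := fun v => by
      rw [hΨ]
      exact C.div_mem (by rw [hπΦ, hπΦ, mul_one])
    have hΨinv : ∀ v, Ψ (α * v) = Ψ v := fun v => by
      have e1 : C.L (ι D) * Ψ v * (C.L (ι D))⁻¹ = Ψ (α * v) := by
        rw [hΨ, hΨ, hΦ, hΦ, hΦ, hΦ]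
        rw [show α * v * u = α * (v * u) by ring, ← hconj, ← hconj]
        group
      rw [← e1, Subgroup.mem_center_iff.1 (hΨc v) (C.L (ι D)), mul_inv_cancel_right]
    have hΨadd : ∀ v v', Ψ (v + v') = Ψ v' * Ψ v := fun v v' => by
      have hh := Subgroup.mem_center_iff.1 (hΨc v')
      rw [hΨ v] at *
      rw [hΨ (v + v'), add_mul, hadd, hadd, _root_.mul_inv_rev]
      calc (Φ (v * u) 1)⁻¹ * (Φ (v' * u) 1)⁻¹ * (Φ v' u * Φ v u)
          = (Φ (v * u) 1)⁻¹ * ((Φ (v' * u) 1)⁻¹ * Φ v' u) * Φ v u := by group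
        _ = _ := by rw [← hΨ v', hh (Φ (v * u) 1)⁻¹, mul_assoc]
    obtain ⟨w, rfl⟩ : ∃ w, t = α * w - w := ⟨t / (α - 1), by
      rw [← sub_one_mul, mul_div_cancel₀ t (sub_ne_zero.2 hα1)]⟩
    have h2 := hΨadd (α * w - w) w
    rw [sub_add_cancel, hΨinv, left_eq_mul] at h2
    rw [hΨ, inv_mul_eq_one] at h2
    rw [← hΦ, ← hΦ]
    exact h2.symm
  obtain ⟨m, -, hm⟩ := Finset.exists_mem_notMem_of_card_lt_card (s := ({i, j, l} : Finset (Fin n)))
    (t := Finset.univ) (lt_of_le_of_lt Finset.card_le_three (by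
      have := three_le S; simp; omega))
  simp only [Finset.mem_insert, Finset.mem_singleton, not_or] at hm
  rw [move C ι S hφ hsmall hij hjl hil (Ne.symm hm.1) (Ne.symm hm.2.1) hm.2.2 t u,
    move C ι S hφ hsmall hij hjl hil (Ne.symm hm.1) (Ne.symm hm.2.1) hm.2.2 (t * u) 1, mul_one]

include hsmall hφ in
/-- The lift to `SL_n`. -/
theorem exists_hom : ∃ θ : SpecialLinearGroup (Fin n) K →* Γ, C.π.comp θ = ι := by
  classical
  have hn := three_le S
  obtain ⟨th, hth⟩ : ∃ th : Fin n → Fin n → Fin n, ∀ i j, i ≠ th i j ∧ j ≠ th i j :=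
    ⟨fun i j => (S.exists_third i j).choose, fun i j => (S.exists_third i j).choose_spec⟩
  obtain ⟨Y, hY⟩ : ∃ Y : Fin n → Fin n → K → Γ, ∀ i j t,
      Y i j t = ⁅E C ι S i (th i j) t, E C ι S (th i j) j 1⁆ := ⟨_, fun _ _ _ => rfl⟩
  have hπY : ∀ i j, i ≠ j → ∀ t, C.π (Y i j t) = T ι S i j t := fun i j h t => by
    rw [hY, π_comm C ι S (hth i j).1 (hth i j).2.symm h, mul_one]
  have hYE : ∀ i j, i ≠ j → ∀ t, C.π (Y i j t) = C.π (E C ι S i j t) := fun i j h t => by
    rw [hπY i j h, π_E]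
  have hrel : ∀ r ∈ SteinbergSLn.rels n K,
      FreeGroup.lift (fun p : {ij : Fin n × Fin n // ij.1 ≠ ij.2} × K => Y p.1.1.1 p.1.1.2 p.2) r = 1 := by
    rintro r ((⟨⟨⟨i, j⟩, hij⟩, t, u, rfl⟩ | ⟨⟨⟨i, j⟩, hij⟩, ⟨⟨k, l⟩, hkl⟩, t, u, h1, h2, rfl⟩) |
      ⟨⟨⟨i, j⟩, hij⟩, ⟨⟨j', l⟩, hjl⟩, h, t, u, h2, rfl⟩)
    · simp only [map_mul, map_inv, FreeGroup.lift_apply_of]
      obtain ⟨h1, h2⟩ := hth i j
      have hc : ∀ a b : K, Commute (E C ι S i (th i j) a) ⁅E C ι S i (th i j) b, E C ι S (th i j) j 1⁆ :=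
        fun a b => C.commute_indep rfl (by rw [π_comm C ι S h1 h2.symm hij, mul_one]; exact (π_E C ι S i j b).symm)
          (commLift C ι S hφ hsmall h1 hij hij h1.symm a b)
      rw [mul_inv_eq_one, hY, hY, hY, add_comm t u]
      exact (C.add_left (T ι S i (th i j)) (T_add ι S h1) u t (hc u t)).symm
    · simp only [map_mul, map_inv, FreeGroup.lift_apply_of]
      rw [mul_inv_eq_one, mul_inv_eq_iff_eq_mul]
      exact C.commute_indep (hYE i j hij t) (hYE k l hkl u) (commLift C ι S hφ hsmall hij hkl h1 h2 t u)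
    · simp only at h2 h
      subst h2
      simp only [map_mul, map_inv, FreeGroup.lift_apply_of]
      rw [mul_inv_eq_one, ← commutatorElement_def, C.comm_indep (hYE i j hij t) (hYE j l hjl u),
        indep C ι S hφ hsmall hij hjl h (hth i l).1 (hth i l).2.symm, hY]
  obtain ⟨e, he⟩ := SteinbergSLn.main (K := K) n hn
  refine ⟨(PresentedGroup.toGroup hrel).comp e.symm.toMonoidHom, ?_⟩
  suffices h : C.π.comp (PresentedGroup.toGroup hrel) = ι.comp e.toMonoidHom by
    ext g
    have := DFunLike.congr_fun h (e.symm g)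
    simpa using this
  refine PresentedGroup.ext fun p => ?_
  obtain ⟨⟨⟨i, j⟩, hij⟩, t⟩ := p
  show C.π (PresentedGroup.toGroup hrel _) = ι (e (PresentedGroup.of _))
  rw [PresentedGroup.toGroup.of, hπY i j hij, T]
  congr 1
  rw [← hφ (S.x i j t), S.φx i j hij]
  exact Subtype.ext (he ⟨(i, j), hij⟩ t).symm

end Lift

/-- Steinberg's relations inside `SL_n` itself. -/
theorem exists_St [Finite K] (hn : 3 ≤ n) :
    ∃ S : SteinbergSLn.St n K (SpecialLinearGroup (Fin n) K), ∀ g, S.φ g = g := by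
  classical
  obtain ⟨e, he⟩ := SteinbergSLn.main (K := K) n hn
  have hof : ∀ i j (h : i ≠ j) (t : K), e (PresentedGroup.of (⟨(i, j), h⟩, t)) = SpecialLinearGroup.transvection h t :=
    fun i j h t => Subtype.ext (he ⟨(i, j), h⟩ t)
  have hrel : ∀ r ∈ SteinbergSLn.rels n K, e (PresentedGroup.mk (SteinbergSLn.rels n K) r) = 1 := fun r hr => by
    rw [PresentedGroup.one_of_mem hr, map_one]
  refine ⟨{
    x := fun i j t => if h : i ≠ j then SpecialLinearGroup.transvection h t else 1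
    φ := MonoidHom.id _
    φx := fun i j h t => by rw [dif_pos h]; rfl
    xadd := fun i j h t u => by rw [dif_pos h, dif_pos h, dif_pos h, SpecialLinearGroup.transvection_add]
    comm := fun i j k l h1 h2 h3 h4 t u => by
      rw [dif_pos h1, dif_pos h2, ← hof _ _ h1, ← hof _ _ h2, commute_iff_eq, ← mul_inv_eq_iff_eq_mul,
        ← mul_inv_eq_one, ← map_inv, ← map_inv, ← map_mul, ← map_mul, ← map_mul]
      exact hrel _ (Or.inl (Or.inr ⟨⟨(i, j), h1⟩, ⟨(k, l), h2⟩, t, u, h3, h4, rfl⟩))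
    comm3 := fun i j l h1 h2 h3 t u => by
      rw [dif_pos h1, dif_pos h2, dif_pos h3, ← hof _ _ h1, ← hof _ _ h2, ← hof _ _ h3, ← mul_inv_eq_iff_eq_mul,
        ← mul_inv_eq_iff_eq_mul, ← mul_inv_eq_one]
      simp only [← map_inv, ← map_mul]
      exact hrel _ (Or.inr ⟨⟨(i, j), h1⟩, ⟨(j, l), h2⟩, h3, t, u, rfl, rfl⟩)
    three := hn }, fun _ => rfl⟩

end Cfsg.Agent.Small.SchurSLn
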