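import Cfsg.Agent.Lib.Small.SLThreeGen

/-!
# Explicit generating pairs of conjugate regular unipotent elements of the special linear group of degree three
-/

set_option autoImplicit false
set_option linter.unusedSectionVars false

namespace Cfsg.Agent.Small.SLThreeGen

open Matrix
open scoped MatrixGroups

variable {F : Type*} [Field F]

local notation "S3" => Matrix.SpecialLinearGroup (Fin 3) F

theorem mem_of_comm {H : Subgroup S3} {P Q R : S3} (hP : P ∈ H) (hQ : Q ∈ H) (h : P * Q = R * (Q * P)) :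
    R ∈ H := by
  have : R = P * Q * (Q * P)⁻¹ := eq_mul_inv_of_mul_eq h.symm
  rw [this]
  exact mul_mem (mul_mem hP hQ) (inv_mem (mul_mem hQ hP))

theorem conj_eq_of_mul_eq {g u v : S3} (h : g * u = v * g) : g * u * g⁻¹ = v := by
  rw [h, mul_inv_cancel_right]

theorem exists_gen [Fintype F] :
    ∃ g : F, g ≠ 0 ∧ (∀ a : F, a ≠ 0 → ∃ k : ℕ, g ^ k = a) ∧ ∀ K : Subring F, g ∈ K → K = ⊤ := by
  classical
  obtain ⟨g, hg⟩ := IsCyclic.exists_generator (α := Fˣ)
  have hpow : ∀ a : F, a ≠ 0 → ∃ k : ℕ, (g : F) ^ k = a := by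
    intro a ha
    obtain ⟨k, hk⟩ := (Submonoid.mem_powers_iff _ _).1 (mem_powers_iff_mem_zpowers.2 (hg (Units.mk0 a ha)))
    exact ⟨k, by simpa using congrArg Units.val hk⟩
  refine ⟨g, g.ne_zero, hpow, fun K hK => eq_top_iff.2 fun a _ => ?_⟩
  by_cases ha : a = 0
  · rw [ha]; exact zero_mem K
  · obtain ⟨k, rfl⟩ := hpow a ha
    exact pow_mem hK k

theorem two_zero_card_four_or_gen [Fintype F] (h2 : (2 : F) = 0) :
    Fintype.card F = 4 ∨ ∃ b : F, b ≠ 0 ∧ ∀ K : Subring F, b ^ 6 ∈ K → K = ⊤ := by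
  classical
  obtain ⟨g, hg0, hpow, hgen⟩ := exists_gen (F := F)
  by_cases h4 : Fintype.card F = 4
  · exact Or.inl h4
  refine Or.inr ⟨g, hg0, fun K hK => hgen K ?_⟩
  by_contra hgK
  letI : Field K := (Fintype.fieldOfDomain K)
  have hk2 : 2 ≤ Fintype.card K := Fintype.one_lt_card
  -- the subring squared fits into the field
  have hsq : Fintype.card K * Fintype.card K ≤ Fintype.card F := by
    rw [← Fintype.card_prod]
    refine Fintype.card_le_of_injective (fun ab : K × K => (ab.1 : F) + (ab.2 : F) * g) ?_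
    rintro ⟨a, b⟩ ⟨a', b'⟩ h
    simp only at h
    by_cases hb : b = b'
    · subst hb
      simp only [add_left_inj] at h
      exact Prod.ext (Subtype.ext h) rfl
    · exfalso
      apply hgK
      have hne : ((b : K) - b' : K) ≠ 0 := sub_ne_zero.2 hb
      obtain ⟨c, hc⟩ : ∃ c : K, ((b : K) - b') * c = 1 := ⟨_, mul_inv_cancel₀ hne⟩
      have hc' : ((b : F) - b') * (c : F) = 1 := by exact_mod_cast congrArg (fun z : K => (z : F)) hc
      have : g = ((c : K) * (a' - a) : K) := by
        have e : ((b : F) - b') * g = (a' : F) - a := by linear_combination h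
        have : g = (c : F) * ((a' : F) - a) := by
          rw [← e]; linear_combination -g * hc'
        simpa using this
      rw [this]
      exact SetLike.coe_mem _
  -- the multiplicative order of the generator
  have hpk : (g ^ 6) ^ (Fintype.card K - 1) = 1 := by
    have hne : (⟨g ^ 6, hK⟩ : K) ≠ 0 := fun h => pow_ne_zero 6 hg0 (congrArg Subtype.val h)
    have := FiniteField.pow_card_sub_one_eq_one (⟨g ^ 6, hK⟩ : K) hne
    have h' := congrArg (fun z : K => (z : F)) this
    simpa using h'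
  haveI : CharP F 2 := CharTwo.of_one_ne_zero_of_two_eq_zero one_ne_zero h2
  have h3 : g ^ (3 * (Fintype.card K - 1)) = 1 := by
    have : (g ^ (3 * (Fintype.card K - 1))) ^ 2 = 1 := by
      rw [← pow_mul, ← hpk, ← pow_mul]; congr 1; ring
    have h' : (g ^ (3 * (Fintype.card K - 1)) - 1) ^ 2 = 0 := by
      linear_combination this - (g ^ (3 * (Fintype.card K - 1)) - 1) * h2
    exact sub_eq_zero.1 (sq_eq_zero_iff.1 h')
  have hle : Fintype.card F - 1 ≤ 3 * (Fintype.card K - 1) := by
    have hN : 0 < 3 * (Fintype.card K - 1) := by omega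
    have hsub : (Finset.univ.filter fun a : F => a ≠ 0) ⊆
        (Finset.range (3 * (Fintype.card K - 1))).image (fun k => g ^ k) := by
      intro a ha
      obtain ⟨k, rfl⟩ := hpow a (Finset.mem_filter.1 ha).2
      refine Finset.mem_image.2 ⟨k % (3 * (Fintype.card K - 1)), Finset.mem_range.2 (Nat.mod_lt _ hN), ?_⟩
      conv_rhs => rw [← Nat.div_add_mod k (3 * (Fintype.card K - 1)), pow_add, pow_mul, h3, one_pow, one_mul]
    have := (Finset.card_le_card hsub).trans Finset.card_image_le
    rw [Finset.card_range, Finset.filter_ne', Finset.card_erase_of_mem (Finset.mem_univ _), Finset.card_univ] at this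
    exact this
  have hK2 : Fintype.card K = 2 := by
    by_contra hne
    obtain ⟨m, hm⟩ : ∃ m, Fintype.card K = m + 3 := ⟨Fintype.card K - 3, by omega⟩
    rw [hm] at hsq hle
    have h9 : (m + 3) * (m + 3) ≤ 3 * (m + 2) + 1 := by omega
    nlinarith
  have hle4 : Fintype.card F ≤ 4 := by rw [hK2] at hle; omega
  have hge4 : 4 ≤ Fintype.card F := by rw [hK2] at hsq; omega
  omega

/-- Generation in characteristic two away from the field with four elements. -/
theorem gen_even (h2 : (2 : F) = 0) {b : F} (hb : b ≠ 0) (hgen : ∀ K : Subring F, b ^ 6 ∈ K → K = ⊤) :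
    ∃ g : S3, Subgroup.closure ({uni (b ^ 2), g * uni (b ^ 2) * g⁻¹} : Set S3) = ⊤ := by
  let g : S3 := mk !![0, 0, 1; b⁻¹, b, 0; 0, b, 0] (det_one_three (by field_simp; ring))
  let v : S3 := mk !![1, 0, 0; b, 1, 1; b, 0, 1] (det_one_three (by ring))
  let U : S3 := mk !![1, b ^ 2, b ^ 2; 0, 1, 1; 0, 0, 1] (det_one_three (by ring))
  have hv : g * uni (b ^ 2) * g⁻¹ = v := by
    refine conj_eq_of_mul_eq ?_
    (refine ext3 ?_; simp +zetaDelta [vmul, vone, vmk, vuni, v01, v02, v10, v12, v20, v21, Matrix.mul_fin_three, Matrix.one_fin_three]) <;> grind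
  refine ⟨g, ?_⟩
  rw [hv]
  set H := Subgroup.closure ({uni (b ^ 2), v} : Set S3) with hH
  have hu : uni (b ^ 2) ∈ H := Subgroup.subset_closure (by simp)
  have hvm : v ∈ H := Subgroup.subset_closure (by simp)
  have hU : U ∈ H := by
    have : uni (b ^ 2) * U = 1 := by (refine ext3 ?_; simp +zetaDelta [vmul, vone, vmk, vuni, v01, v02, v10, v12, v20, v21, Matrix.mul_fin_three, Matrix.one_fin_three]) <;> grind
    rw [eq_inv_of_mul_eq_one_right this]
    exact inv_mem hu
  have e1 : uni (b ^ 2) * uni (b ^ 2) = x 0 2 (by decide) (b ^ 2) := by (refine ext3 ?_; simp +zetaDelta [vmul, vone, vmk, vuni, v01, v02, v10, v12, v20, v21, Matrix.mul_fin_three, Matrix.one_fin_three]) <;> grind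
  have e2 : v * v = x 1 0 (by decide) b := by (refine ext3 ?_; simp +zetaDelta [vmul, vone, vmk, vuni, v01, v02, v10, v12, v20, v21, Matrix.mul_fin_three, Matrix.one_fin_three]) <;> grind
  have e3 : U * v * (U * v) = x 2 1 (by decide) (b ^ 3) := by (refine ext3 ?_; simp +zetaDelta [vmul, vone, vmk, vuni, v01, v02, v10, v12, v20, v21, Matrix.mul_fin_three, Matrix.one_fin_three]) <;> grind
  refine eq_top_of_three (A := b ^ 2) (B := b) (C := b ^ 3) ?_ ?_ ?_ (by simp [hb]) ?_
  · rw [← e1]; exact mul_mem hu hu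
  · rw [← e2]; exact mul_mem hvm hvm
  · rw [← e3]; exact mul_mem (mul_mem hU hvm) (mul_mem hU hvm)
  · intro K hK; exact hgen K (by convert hK using 1; ring)

/-- Generation over the field with four elements. -/
theorem gen_four {t : F} (h2 : (2 : F) = 0) (ht : t * t = t + 1) (hgen : ∀ K : Subring F, t ∈ K → K = ⊤) :
    ∃ g : S3, Subgroup.closure ({uni 1, g * uni 1 * g⁻¹} : Set S3) = ⊤ := by
  let g : S3 := mk !![0, 1, 1; t, 0, 0; 0, 1, t] (det_one_three (by grind))
  let v : S3 := mk !![t + 1, 0, t; 1, 1, t + 1; t, 0, t + 1] (det_one_three (by grind))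
  let U : S3 := mk !![1, 1, 1; 0, 1, 1; 0, 0, 1] (det_one_three (by ring))
  let V : S3 := mk !![t + 1, 0, t; t, 1, 0; t, 0, t + 1] (det_one_three (by grind))
  have hv : g * uni 1 * g⁻¹ = v := by
    refine conj_eq_of_mul_eq ?_
    (refine ext3 ?_; simp +zetaDelta [vmul, vone, vmk, vuni, v01, v02, v10, v12, v20, v21, Matrix.mul_fin_three, Matrix.one_fin_three]) <;> grind
  refine ⟨g, ?_⟩
  rw [hv]
  set H := Subgroup.closure ({uni 1, v} : Set S3) with hH
  have hu : uni 1 ∈ H := Subgroup.subset_closure (by simp)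
  have hvm : v ∈ H := Subgroup.subset_closure (by simp)
  have hU : U ∈ H := by
    have : uni 1 * U = (1 : S3) := by (refine ext3 ?_; simp +zetaDelta [vmul, vone, vmk, vuni, v01, v02, v10, v12, v20, v21, Matrix.mul_fin_three, Matrix.one_fin_three]) <;> grind
    rw [eq_inv_of_mul_eq_one_right this]
    exact inv_mem hu
  have hV : V ∈ H := by
    have : v * V = 1 := by (refine ext3 ?_; simp +zetaDelta [vmul, vone, vmk, vuni, v01, v02, v10, v12, v20, v21, Matrix.mul_fin_three, Matrix.one_fin_three]) <;> grind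
    rw [eq_inv_of_mul_eq_one_right this]
    exact inv_mem hvm
  have eX : uni 1 * uni 1 = (x 0 2 (by decide) 1 : S3) := by (refine ext3 ?_; simp +zetaDelta [vmul, vone, vmk, vuni, v01, v02, v10, v12, v20, v21, Matrix.mul_fin_three, Matrix.one_fin_three]) <;> grind
  have hX : (x 0 2 (by decide) 1 : S3) ∈ H := eX ▸ mul_mem hu hu
  let M1 : S3 := mk !![1, 0, 0; t + 1, 1, t + 1; 0, 0, 1] (det_one_three (by ring))
  let M2 : S3 := mk !![1, 0, 1; t + 1, 1, t + 1; 0, 0, 1] (det_one_three (by grind))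
  have p1 : v * v = M1 := by (refine ext3 ?_; simp +zetaDelta [vmul, vone, vmk, vuni, v01, v02, v10, v12, v20, v21, Matrix.mul_fin_three, Matrix.one_fin_three]) <;> grind
  have p2 : x 0 2 (by decide) 1 * M1 = M2 := by (refine ext3 ?_; simp +zetaDelta [vmul, vone, vmk, vuni, v01, v02, v10, v12, v20, v21, Matrix.mul_fin_three, Matrix.one_fin_three]) <;> grind
  have p3 : M2 * x 0 2 (by decide) 1 = x 1 0 (by decide) (t + 1) := by (refine ext3 ?_; simp +zetaDelta [vmul, vone, vmk, vuni, v01, v02, v10, v12, v20, v21, Matrix.mul_fin_three, Matrix.one_fin_three]) <;> grind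
  let N1 : S3 := mk !![t + 1, t + 1, t; 1, 0, t; t, t, t + 1] (det_one_three (by grind))
  let N2 : S3 := mk !![0, t + 1, 0; 0, 0, t + 1; t + 1, t, 1] (det_one_three (by grind))
  let N3 : S3 := mk !![0, t + 1, 0; 0, 0, t + 1; t + 1, t, t] (det_one_three (by grind))
  let N4 : S3 := mk !![t + 1, t + 1, t; 1, 0, t; t + 1, t, 1] (det_one_three (by grind))
  let N5 : S3 := mk !![t + 1, 0, t; 1, 1, t + 1; t + 1, 1, 0] (det_one_three (by grind))
  have q1 : v * uni 1 = N1 := by (refine ext3 ?_; simp +zetaDelta [vmul, vone, vmk, vuni, v01, v02, v10, v12, v20, v21, Matrix.mul_fin_three, Matrix.one_fin_three]) <;> grind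
  have q2 : N1 * V = N2 := by (refine ext3 ?_; simp +zetaDelta [vmul, vone, vmk, vuni, v01, v02, v10, v12, v20, v21, Matrix.mul_fin_three, Matrix.one_fin_three]) <;> grind
  have q3 : N2 * x 0 2 (by decide) 1 = N3 := by (refine ext3 ?_; simp +zetaDelta [vmul, vone, vmk, vuni, v01, v02, v10, v12, v20, v21, Matrix.mul_fin_three, Matrix.one_fin_three]) <;> grind
  have q4 : N3 * v = N4 := by (refine ext3 ?_; simp +zetaDelta [vmul, vone, vmk, vuni, v01, v02, v10, v12, v20, v21, Matrix.mul_fin_three, Matrix.one_fin_three]) <;> grind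
  have q5 : N4 * U = N5 := by (refine ext3 ?_; simp +zetaDelta [vmul, vone, vmk, vuni, v01, v02, v10, v12, v20, v21, Matrix.mul_fin_three, Matrix.one_fin_three]) <;> grind
  have q6 : N5 * V = x 2 1 (by decide) 1 := by (refine ext3 ?_; simp +zetaDelta [vmul, vone, vmk, vuni, v01, v02, v10, v12, v20, v21, Matrix.mul_fin_three, Matrix.one_fin_three]) <;> grind
  refine eq_top_of_three (A := 1) (B := t + 1) (C := 1) hX ?_ ?_ ?_ ?_
  · rw [← p3, ← p2, ← p1]
    exact mul_mem (mul_mem hX (mul_mem hvm hvm)) hX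
  · rw [← q6, ← q5, ← q4, ← q3, ← q2, ← q1]
    exact mul_mem (mul_mem (mul_mem (mul_mem (mul_mem (mul_mem hvm hu) hV) hX) hvm) hU) hV
  · intro h
    have : t = 1 := by grind
    grind
  · intro K hK
    refine hgen K ?_
    have := sub_mem hK (one_mem K)
    simpa using this

/-- Generation in odd characteristic. -/
theorem gen_odd [Fintype F] (h2 : (2 : F) ≠ 0) {d : F} (hd : d ≠ 0) (hT : d ^ 2 + 12 ≠ 0)
    (hgen : ∀ K : Subring F, d ∈ K → K = ⊤) :
    ∃ g : S3, Subgroup.closure ({uni 1, g * uni 1 * g⁻¹} : Set S3) = ⊤ := by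
  let g : S3 := mk !![-1, -1, 0; 2, 1, 0; -2 - d, -2, 1] (det_one_three (by ring))
  let v : S3 := mk !![5 - d, 1 - d, -1; d - 6, d - 1, 1; 8, 2 - d, -1] (det_one_three (by ring))
  let W : S3 := mk !![-1, 0, 0; 2 + d, 1, 0; 8, 2 - d, -1] (det_one_three (by ring))
  let A : F → S3 := fun r => mk !![1, 0, 0; r, 1, 0; r, 0, 1] (det_one_three (by ring))
  let B : F → S3 := fun r => mk !![1, 0, 0; 0, 1, 0; r, r, 1] (det_one_three (by ring))
  let C : F → S3 := fun s => mk !![1, 0, 0; s, 1 - s, s; s, -s, 1 + s] (det_one_three (by ring))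
  let D : F → S3 := fun s => mk !![1 + s, s, 0; -s, 1 - s, 0; s, s, 1] (det_one_three (by ring))
  have hv : g * uni 1 * g⁻¹ = v := by
    refine conj_eq_of_mul_eq ?_
    (refine ext3 ?_; simp +zetaDelta [vmul, vone, vmk, vuni, v01, v02, v10, v12, v20, v21, Matrix.mul_fin_three, Matrix.one_fin_three]) <;> grind
  refine ⟨g, ?_⟩
  rw [hv]
  set H := Subgroup.closure ({uni 1, v} : Set S3) with hH
  have hu : uni 1 ∈ H := Subgroup.subset_closure (by simp)
  have hvm : v ∈ H := Subgroup.subset_closure (by simp)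
  have hW : W ∈ H := by
    have : uni 1 * v = W := by (refine ext3 ?_; simp +zetaDelta [vmul, vone, vmk, vuni, v01, v02, v10, v12, v20, v21, Matrix.mul_fin_three, Matrix.one_fin_three]) <;> grind
    exact this ▸ mul_mem hu hvm
  have e1 : W * W = x 2 0 (by decide) (-d ^ 2 - 12) := by (refine ext3 ?_; simp +zetaDelta [vmul, vone, vmk, vuni, v01, v02, v10, v12, v20, v21, Matrix.mul_fin_three, Matrix.one_fin_three]) <;> grind
  let S := params H (x 2 0 (by decide)) (x_add 2 0 (by decide))
  have hTS : -d ^ 2 - 12 ∈ S := by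
    change x 2 0 _ _ ∈ H
    rw [← e1]; exact mul_mem hW hW
  have hC : ∀ s ∈ S, C s ∈ H := fun s hs => by
    have : C s * uni 1 = uni 1 * x 2 0 (by decide) s := by (refine ext3 ?_; simp +zetaDelta [vmul, vone, vmk, vuni, v01, v02, v10, v12, v20, v21, Matrix.mul_fin_three, Matrix.one_fin_three]) <;> grind
    rw [eq_mul_inv_of_mul_eq this]
    exact mul_mem (mul_mem hu hs) (inv_mem hu)
  have hD : ∀ s ∈ S, D s ∈ H := fun s hs => by
    have : uni 1 * D s = x 2 0 (by decide) s * uni 1 := by (refine ext3 ?_; simp +zetaDelta [vmul, vone, vmk, vuni, v01, v02, v10, v12, v20, v21, Matrix.mul_fin_three, Matrix.one_fin_three]) <;> grind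
    rw [eq_inv_mul_of_mul_eq this]
    exact mul_mem (inv_mem hu) (mul_mem hs hu)
  have hA : ∀ s ∈ S, ∀ s' ∈ S, A (s * s') ∈ H := fun s hs s' hs' =>
    mem_of_comm (hC s' hs') hs (by (refine ext3 ?_; simp +zetaDelta [vmul, vone, vmk, vuni, v01, v02, v10, v12, v20, v21, Matrix.mul_fin_three, Matrix.one_fin_three]) <;> grind)
  have hB : ∀ s ∈ S, ∀ s' ∈ S, B (s * s') ∈ H := fun s hs s' hs' =>
    mem_of_comm hs (hD s' hs') (by (refine ext3 ?_; simp +zetaDelta [vmul, vone, vmk, vuni, v01, v02, v10, v12, v20, v21, Matrix.mul_fin_three, Matrix.one_fin_three]) <;> grind)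
  have hd3 : ∀ r, A r ∈ H → d * r ∈ S := fun r hr => by
    have : A r * W * A r = x 2 0 (by decide) (d * r) * W := by (refine ext3 ?_; simp +zetaDelta [vmul, vone, vmk, vuni, v01, v02, v10, v12, v20, v21, Matrix.mul_fin_three, Matrix.one_fin_three]) <;> grind
    change x 2 0 _ (d * r) ∈ H
    rw [eq_mul_inv_of_mul_eq this.symm]
    exact mul_mem (mul_mem (mul_mem hr hW) hr) (inv_mem hW)
  have hAB : ∀ r r', A r ∈ H → B r' ∈ H → r * r' ∈ S := fun r r' hr hr' =>
    mem_of_comm hr' hr (by (refine ext3 ?_; simp +zetaDelta [vmul, vone, vmk, vuni, v01, v02, v10, v12, v20, v21, Matrix.mul_fin_three, Matrix.one_fin_three]) <;> grind)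
  have hT0 : -d ^ 2 - 12 ≠ 0 := fun h => hT (by linear_combination -h)
  -- the ring of multipliers is everything
  have hR : multRing S = ⊤ := by
    set R := multRing S with hRdef
    set T := -d ^ 2 - 12 with hTdef
    have hdT : d * T ∈ R := fun s hs => by
      rw [mul_assoc]; exact hd3 _ (hA _ hTS _ hs)
    have hT3 : T * T * T ∈ R := fun s hs => by
      have : T * T * T * s = (T * s) * (T * T) := by ring
      rw [this]; exact hAB _ _ (hA _ hTS _ hs) (hB _ hTS _ hTS)
    have hinv : ∀ a : F, a ≠ 0 → a ∈ R → a⁻¹ ∈ R := by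
      intro a ha haR
      classical
      have h1 := FiniteField.pow_card_sub_one_eq_one a ha
      have h2 : a⁻¹ = a ^ (Fintype.card F - 2) := by
        refine inv_eq_of_mul_eq_one_left ?_
        rw [← pow_succ, ← h1]
        congr 1
        have : 1 < Fintype.card F := Fintype.one_lt_card
        omega
      rw [h2]
      exact pow_mem haR _
    have hk : d * T * (d * T) * (T * T * T)⁻¹ ∈ R :=
      mul_mem (mul_mem hdT hdT) (hinv _ (by simp [hT0]) hT3)
    apply hgen
    by_cases h3 : (3 : F) = 0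
    · have hcube : d ^ 3 ∈ R := by
        have : d ^ 3 = -(d * T) := by rw [hTdef]; linear_combination (-4 * d) * h3
        rw [this]; exact neg_mem hdT
      haveI : CharP F 3 := by
        obtain ⟨p, hp⟩ := CharP.exists F
        haveI := Fact.mk (CharP.char_is_prime F p)
        have : p ∣ 3 := (CharP.cast_eq_zero_iff F p 3).1 (by exact_mod_cast h3)
        exact ((Nat.prime_dvd_prime_iff_eq Fact.out Nat.prime_three).1 this) ▸ hp
      obtain ⟨n, -, hn⟩ := FiniteField.card F 3
      have hq : d = (d ^ 3) ^ (3 ^ ((n : ℕ) - 1)) := by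
        rw [← pow_mul, ← pow_succ']
        conv_lhs => rw [← FiniteField.pow_card d, hn]
        congr 2
        have := n.pos
        omega
      rw [hq]
      exact pow_mem hcube _
    · set k := d * T * (d * T) * (T * T * T)⁻¹ with hkdef
      have hkT : k * T = d ^ 2 := by rw [hkdef]; field_simp
      have h1k : (1 + k) * T = -12 := by linear_combination hkT
      have h12 : (12 : F) ≠ 0 := by
        rw [show (12 : F) = 3 * (2 * 2) by norm_num]
        exact mul_ne_zero h3 (mul_ne_zero h2 h2)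
      have hTR : T ∈ R := by
        have h1 : 1 + k ≠ 0 := fun h' => h12 (by linear_combination h1k - T * h')
        have : T = -12 * (1 + k)⁻¹ := by
          rw [← h1k, mul_comm, ← mul_assoc, inv_mul_cancel₀ h1, one_mul]
        rw [this]
        exact mul_mem (neg_mem (ofNat_mem R 12)) (hinv _ h1 (add_mem (one_mem R) hk))
      have : d = d * T * T⁻¹ := by field_simp
      rw [this]
      exact mul_mem hdT (hinv _ hT0 hTR)
  have hS : ∀ r, r ∈ S := eq_univ_of_multRing hR hTS hT0
  have hA' : ∀ r, A r ∈ H := fun r => by simpa using hA r (hS r) 1 (hS 1)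
  have hB' : ∀ r, B r ∈ H := fun r => by simpa using hB r (hS r) 1 (hS 1)
  have k10 : ∀ r, x 1 0 (by decide) r ∈ H := fun r => by
    have : x 1 0 (by decide) r = A r * x 2 0 (by decide) (-r) := by (refine ext3 ?_; simp +zetaDelta [vmul, vone, vmk, vuni, v01, v02, v10, v12, v20, v21, Matrix.mul_fin_three, Matrix.one_fin_three]) <;> grind
    rw [this]; exact mul_mem (hA' r) (hS _)
  have k21 : ∀ r, x 2 1 (by decide) r ∈ H := fun r => by
    have : x 2 1 (by decide) r = B r * x 2 0 (by decide) (-r) := by (refine ext3 ?_; simp +zetaDelta [vmul, vone, vmk, vuni, v01, v02, v10, v12, v20, v21, Matrix.mul_fin_three, Matrix.one_fin_three]) <;> grind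
    rw [this]; exact mul_mem (hB' r) (hS _)
  have k01 : ∀ r, x 0 1 (by decide) r ∈ H := fun r => by
    have hn : x 1 0 (by decide) 1 * x 2 0 (by decide) (-1) ∈ H := mul_mem (k10 1) (hS _)
    have : x 1 0 (by decide) 1 * x 2 0 (by decide) (-1) * D r =
        x 0 1 (by decide) r * (x 1 0 (by decide) 1 * x 2 0 (by decide) (-1)) := by (refine ext3 ?_; simp +zetaDelta [vmul, vone, vmk, vuni, v01, v02, v10, v12, v20, v21, Matrix.mul_fin_three, Matrix.one_fin_three]) <;> grind
    rw [eq_mul_inv_of_mul_eq this.symm]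
    exact mul_mem (mul_mem hn (hD r (hS r))) (inv_mem hn)
  let u' : S3 := mk !![1, 0, -1; 0, 1, 1; 0, 0, 1] (det_one_three (by ring))
  have hu' : u' ∈ H := by
    have : x 0 1 (by decide) (-1) * uni 1 = u' := by (refine ext3 ?_; simp +zetaDelta [vmul, vone, vmk, vuni, v01, v02, v10, v12, v20, v21, Matrix.mul_fin_three, Matrix.one_fin_three]) <;> grind
    exact this ▸ mul_mem (k01 _) hu
  have k02 : ∀ r, x 0 2 (by decide) r ∈ H := fun r =>
    mem_of_comm (k01 r) hu' (by (refine ext3 ?_; simp +zetaDelta [vmul, vone, vmk, vuni, v01, v02, v10, v12, v20, v21, Matrix.mul_fin_three, Matrix.one_fin_three]) <;> grind)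
  have k12 : ∀ r, x 1 2 (by decide) r ∈ H := fun r => by
    simpa using x_comm_mem 1 0 2 (by decide) (by decide) (by decide) (k10 r) (k02 1)
  exact eq_top_of_six k01 k12 k02 k10 k21 hS

end Cfsg.Agent.Small.SLThreeGen
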