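import Mathlib

/-!
# A group of order `2p³` with trivial centralizer in `PSL(2m+1, p)`

`H = (F_p)³ ⋊ {±1}` acts on `F_p^(m+1) ⊕ F_p^m` through three maps whose first two form the
Kronecker brick, so that only scalars commute with the image, even up to scalars.
-/

set_option autoImplicit false
set_option linter.unusedSectionVars false

namespace Cfsg.Agent.Small.BrickPSL

open Matrix

variable (p : ℕ) [Fact p.Prime]

/-- The action of `±1` on `(F_p)³`. -/
def act : ℤˣ →* MulAut (Multiplicative (Fin 3 → ZMod p)) where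
  toFun s :=
    { toFun := fun v => v ^ (s : ℤ)
      invFun := fun v => v ^ (s : ℤ)
      left_inv := fun v => by
        show (v ^ (s : ℤ)) ^ (s : ℤ) = v
        rw [← _root_.zpow_mul, ← Units.val_mul, Int.units_mul_self, Units.val_one, zpow_one]
      right_inv := fun v => by
        show (v ^ (s : ℤ)) ^ (s : ℤ) = v
        rw [← _root_.zpow_mul, ← Units.val_mul, Int.units_mul_self, Units.val_one, zpow_one]
      map_mul' := fun a b => mul_zpow a b _ }
  map_one' := MulEquiv.ext fun v => zpow_one v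
  map_mul' s t := MulEquiv.ext fun v => by
    show v ^ ((s * t : ℤˣ) : ℤ) = (v ^ (t : ℤ)) ^ (s : ℤ)
    rw [← _root_.zpow_mul, Units.val_mul, mul_comm]

/-- The group of order `2p³`. -/
abbrev H : Type := SemidirectProduct (Multiplicative (Fin 3 → ZMod p)) ℤˣ (act p)

theorem card_H : Nat.card (H p) = 2 * p ^ 3 := by
  rw [SemidirectProduct.card, Nat.card_congr Multiplicative.toAdd, Nat.card_fun, Nat.card_fin, Nat.card_zmod,
    Nat.card_eq_fintype_card, Fintype.card_units_int, mul_comm]

variable (m : ℕ)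

def mA : Matrix (Fin (m + 1)) (Fin m) (ZMod p) := Matrix.of fun i j => if i.val = j.val then 1 else 0
def mB : Matrix (Fin (m + 1)) (Fin m) (ZMod p) := Matrix.of fun i j => if i.val = j.val + 1 then 1 else 0
def mC : Matrix (Fin (m + 1)) (Fin m) (ZMod p) := Matrix.of fun i j => if i.val = 0 ∧ j.val = 1 then 1 else 0

def mX (v : Fin 3 → ZMod p) : Matrix (Fin (m + 1)) (Fin m) (ZMod p) :=
  v 0 • mA p m + v 1 • mB p m + v 2 • mC p m

theorem mX_add (v w : Fin 3 → ZMod p) : mX p m (v + w) = mX p m v + mX p m w := by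
  simp only [mX, Pi.add_apply, add_smul]; abel

theorem mX_smul (c : ZMod p) (v : Fin 3 → ZMod p) : mX p m (c • v) = c • mX p m v := by
  simp only [mX, Pi.smul_apply, smul_eq_mul, smul_add, smul_smul]

theorem mX_zero : mX p m 0 = 0 := by simp [mX]

def sg (s : ℤˣ) : ZMod p := ((s : ℤ) : ZMod p)

theorem sg_mul (s t : ℤˣ) : sg p (s * t) = sg p s * sg p t := by simp [sg]

theorem sg_self (s : ℤˣ) : sg p s * sg p s = 1 := by
  rw [← sg_mul, Int.units_mul_self]; simp [sg]

def rM (h : H p) : Matrix (Fin (m + 1) ⊕ Fin m) (Fin (m + 1) ⊕ Fin m) (ZMod p) :=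
  Matrix.fromBlocks 1 (sg p h.right • mX p m (Multiplicative.toAdd h.left)) 0 (sg p h.right • 1)

theorem rM_one : rM p m 1 = 1 := by
  simp [rM, sg, mX_zero]

theorem rM_mul (a b : H p) : rM p m (a * b) = rM p m a * rM p m b := by
  have hl : Multiplicative.toAdd (a * b).left =
      Multiplicative.toAdd a.left + sg p a.right • Multiplicative.toAdd b.left := by
    rw [SemidirectProduct.mul_left, toAdd_mul]
    congr 1
    show Multiplicative.toAdd (b.left ^ (a.right : ℤ)) = _
    rw [toAdd_zpow, sg]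
    funext i
    simp [zsmul_eq_mul]
  unfold rM
  rw [Matrix.fromBlocks_multiply, hl, SemidirectProduct.mul_right, sg_mul, mX_add, mX_smul]
  congr 1
  · simp
  · rw [Matrix.one_mul, Matrix.smul_mul, Matrix.mul_smul, Matrix.mul_one, smul_add, smul_smul, smul_smul,
      mul_right_comm (sg p a.right) (sg p b.right) (sg p a.right), sg_self, one_mul]
    exact add_comm _ _
  · simp
  · simp [smul_smul, mul_comm]

theorem rM_det (hm : Even m) (h : H p) : (rM p m h).det = 1 := by
  rw [rM, Matrix.det_fromBlocks_zero₂₁, Matrix.det_one, one_mul, Matrix.det_smul, Matrix.det_one, mul_one,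
    Fintype.card_fin]
  obtain ⟨k, rfl⟩ := hm
  rw [← two_mul, pow_mul, pow_two, sg_self, one_pow]

def rep (hm : Even m) : H p →* SpecialLinearGroup (Fin (m + 1) ⊕ Fin m) (ZMod p) where
  toFun h := ⟨rM p m h, rM_det p m hm h⟩
  map_one' := Subtype.ext (rM_one p m)
  map_mul' a b := Subtype.ext (rM_mul p m a b)

theorem mA_mul (T : Matrix (Fin m) (Fin m) (ZMod p)) (i j : Fin m) :
    (mA p m * T) i.castSucc j = T i j ∧ (mA p m * T) (Fin.last m) j = 0 := by
  constructor
  · rw [Matrix.mul_apply, Finset.sum_eq_single i]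
    · simp [mA]
    · intro k _ hk; simp [mA, Fin.val_ne_of_ne (Ne.symm hk)]
    · simp
  · rw [Matrix.mul_apply]
    refine Finset.sum_eq_zero fun k _ => ?_
    have : m ≠ k.val := by omega
    simp [mA, this]

theorem mul_mA (P : Matrix (Fin (m + 1)) (Fin (m + 1)) (ZMod p)) (i : Fin (m + 1)) (j : Fin m) :
    (P * mA p m) i j = P i j.castSucc := by
  rw [Matrix.mul_apply, Finset.sum_eq_single j.castSucc]
  · simp [mA]
  · intro k _ hk
    have : k.val ≠ j.val := fun h => hk (Fin.ext h)
    simp [mA, this]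
  · simp

theorem mB_mul (T : Matrix (Fin m) (Fin m) (ZMod p)) (i j : Fin m) :
    (mB p m * T) i.succ j = T i j ∧ (mB p m * T) 0 j = 0 := by
  constructor
  · rw [Matrix.mul_apply, Finset.sum_eq_single i]
    · simp [mB]
    · intro k _ hk; simp [mB, Fin.val_ne_of_ne (Ne.symm hk)]
    · simp
  · rw [Matrix.mul_apply]
    refine Finset.sum_eq_zero fun k _ => ?_
    simp [mB]

theorem mul_mB (P : Matrix (Fin (m + 1)) (Fin (m + 1)) (ZMod p)) (i : Fin (m + 1)) (j : Fin m) :
    (P * mB p m) i j = P i j.succ := by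
  rw [Matrix.mul_apply, Finset.sum_eq_single j.succ]
  · simp [mB]
  · intro k _ hk
    have : k.val ≠ j.val + 1 := fun h => hk (Fin.ext (by simp [h]))
    simp [mB, this]
  · simp

/-- The pair of shift maps is a brick. -/
theorem brick {P : Matrix (Fin (m + 1)) (Fin (m + 1)) (ZMod p)} {T : Matrix (Fin m) (Fin m) (ZMod p)}
    (hA : P * mA p m = mA p m * T) (hB : P * mB p m = mB p m * T) :
    ∃ c : ZMod p, P = c • 1 ∧ T = c • 1 := by
  obtain ⟨f, hf⟩ : ∃ f : ℕ → ℕ → ZMod p, ∀ a b : Fin (m + 1), f a b = P a b :=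
    ⟨fun a b => if h : a < m + 1 ∧ b < m + 1 then P ⟨a, h.1⟩ ⟨b, h.2⟩ else 0, fun a b => by simp [a.2, b.2]⟩
  have r1 : ∀ i j : Fin m, f i j = T i j := fun i j => by
    rw [← (mA_mul p m T i j).1, ← hA, mul_mA, ← hf]; rfl
  have r2 : ∀ j : Fin m, f m j = 0 := fun j => by
    have := (mA_mul p m T j j).2
    rw [← hA, mul_mA, ← hf] at this
    simpa using this
  have r3 : ∀ i j : Fin m, f (i + 1) (j + 1) = T i j := fun i j => by
    rw [← (mB_mul p m T i j).1, ← hB, mul_mB, ← hf]; simp
  have r4 : ∀ j : Fin m, f 0 (j + 1) = 0 := fun j => by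
    have := (mB_mul p m T j j).2
    rw [← hB, mul_mB, ← hf] at this
    simpa using this
  have step : ∀ a b : ℕ, a < m → b < m → f (a + 1) (b + 1) = f a b := fun a b ha hb =>
    (r3 ⟨a, ha⟩ ⟨b, hb⟩).trans (r1 ⟨a, ha⟩ ⟨b, hb⟩).symm
  have upper : ∀ a b : ℕ, a < b → b ≤ m → f a b = 0 := by
    intro a
    induction a with
    | zero =>
      intro b hab hb
      obtain ⟨c, rfl⟩ := Nat.exists_eq_succ_of_ne_zero (by omega : b ≠ 0)
      exact r4 ⟨c, by omega⟩
    | succ a ih =>
      intro b hab hb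
      obtain ⟨c, rfl⟩ := Nat.exists_eq_succ_of_ne_zero (by omega : b ≠ 0)
      rw [step a c (by omega) (by omega)]
      exact ih c (by omega) (by omega)
  have lower : ∀ k a b : ℕ, a + k = m → b < a → f a b = 0 := by
    intro k
    induction k with
    | zero =>
      intro a b hk hab
      obtain rfl : a = m := by omega
      exact r2 ⟨b, hab⟩
    | succ k ih =>
      intro a b hk hab
      rw [← step a b (by omega) (by omega)]
      exact ih (a + 1) (b + 1) (by omega) (by omega)
  have diag : ∀ a : ℕ, a ≤ m → f a a = f 0 0 := by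
    intro a
    induction a with
    | zero => intro _; rfl
    | succ a ih => intro ha; rw [step a a (by omega) (by omega)]; exact ih (by omega)
  have hall : ∀ a b : ℕ, a ≤ m → b ≤ m → f a b = if a = b then f 0 0 else 0 := by
    intro a b ha hb
    rcases lt_trichotomy a b with h | h | h
    · rw [upper a b h hb, if_neg (by omega)]
    · rw [if_pos h, h, diag b hb]
    · rw [lower (m - a) a b (by omega) h, if_neg (by omega)]
  refine ⟨f 0 0, ?_, ?_⟩
  · ext i j
    rw [← hf, hall i j (by omega) (by omega)]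
    simp [Matrix.one_apply, Fin.ext_iff]
  · ext i j
    rw [← r1, hall i j (by omega) (by omega)]
    simp [Matrix.one_apply, Fin.ext_iff]

theorem not_det_zero {P : Matrix (Fin (m + 1)) (Fin (m + 1)) (ZMod p)} {Q : Matrix (Fin (m + 1)) (Fin m) (ZMod p)}
    {S : Matrix (Fin m) (Fin (m + 1)) (ZMod p)} {T : Matrix (Fin m) (Fin m) (ZMod p)} (hP : P = 0)
    (hdet : (Matrix.fromBlocks P Q S T).det = 1) : False := by
  obtain ⟨w, hw0, hw⟩ : ∃ w : Fin (m + 1) → ZMod p, w ≠ 0 ∧ S *ᵥ w = 0 := by
    by_contra! hcon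
    have hinj : Function.Injective S.mulVecLin := by
      rw [injective_iff_map_eq_zero]
      intro w hw
      by_contra h
      exact hcon w h hw
    have := LinearMap.finrank_le_finrank_of_injective hinj
    simp at this
  have hz : Matrix.fromBlocks P Q S T *ᵥ (Sum.elim w 0) = 0 := by
    rw [Matrix.fromBlocks_mulVec]
    subst hP
    funext x
    rcases x with x | x <;> simp [hw]
  have := Matrix.eq_zero_of_mulVec_eq_zero (by rw [hdet]; exact one_ne_zero) hz
  exact hw0 (funext fun i => congrFun this (Sum.inl i))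

theorem scalar_of_comm (hp : p ≠ 2) (hm : Even m) (g : SpecialLinearGroup (Fin (m + 1) ⊕ Fin m) (ZMod p))
    (hg : ∀ h : H p, ∃ c : ZMod p, rM p m h * g.1 = c • (g.1 * rM p m h)) :
    g ∈ Subgroup.center (SpecialLinearGroup (Fin (m + 1) ⊕ Fin m) (ZMod p)) := by
  haveI : Fact (2 < p) := ⟨lt_of_le_of_ne (Fact.out : p.Prime).two_le (Ne.symm hp)⟩
  obtain ⟨P, Q, S, T, hblk⟩ : ∃ P Q S T, g.1 = Matrix.fromBlocks P Q S T :=
    ⟨_, _, _, _, (Matrix.fromBlocks_toBlocks g.1).symm⟩
  have hdet : (Matrix.fromBlocks P Q S T).det = 1 := hblk ▸ g.2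
  have hPne : P ≠ 0 := fun h => not_det_zero p m h hdet
  obtain ⟨c, hc⟩ := hg ⟨1, -1⟩
  simp [rM, sg, hblk, Matrix.fromBlocks_multiply, mX_zero, Matrix.fromBlocks_smul, Matrix.fromBlocks_inj] at hc
  obtain ⟨hc1, hc2, hc3, hc4⟩ := hc
  have hc : c = 1 := by
    by_contra hne
    refine hPne ?_
    ext i j
    have := congrFun (congrFun hc1 i) j
    rw [Matrix.smul_apply, smul_eq_mul] at this
    rw [Matrix.zero_apply]
    by_contra h
    exact hne (mul_right_cancel₀ h (by rw [one_mul]; exact this.symm))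
  subst hc
  have h2 : (-1 : ZMod p) ≠ 1 := ZMod.neg_one_ne_one
  have hQ : Q = 0 := by
    ext i j
    have := congrFun (congrFun hc2 i) j
    simp at this
    by_contra h
    exact h2 (mul_right_cancel₀ h (by rw [one_mul, neg_one_mul]; exact this.symm))
  have hS : S = 0 := by
    ext i j
    have := congrFun (congrFun hc3 i) j
    simp at this
    by_contra h
    exact h2 (mul_right_cancel₀ h (by rw [one_mul, neg_one_mul]; exact this))
  have key : ∀ v : Fin 3 → ZMod p, P * mX p m v = mX p m v * T := by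
    intro v
    obtain ⟨c, hc⟩ := hg ⟨Multiplicative.ofAdd v, 1⟩
    simp [rM, sg, hblk, hQ, hS, Matrix.fromBlocks_multiply, Matrix.fromBlocks_smul, Matrix.fromBlocks_inj] at hc
    have hc' : c = 1 := by
      by_contra hne
      refine hPne ?_
      ext i j
      have := congrFun (congrFun hc.1 i) j
      rw [Matrix.smul_apply, smul_eq_mul] at this
      rw [Matrix.zero_apply]
      by_contra h
      exact hne (mul_right_cancel₀ h (by rw [one_mul]; exact this.symm))
    simp [hc'] at hc
    exact hc.symm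
  obtain ⟨c, hPc, hTc⟩ := brick p m (P := P) (T := T)
    (by simpa [mX] using key ![1, 0, 0]) (by simpa [mX] using key ![0, 1, 0])
  rw [Matrix.SpecialLinearGroup.mem_center_iff]
  have hgc : g.1 = c • 1 := by
    rw [hblk, hPc, hQ, hS, hTc, ← Matrix.fromBlocks_one, Matrix.fromBlocks_smul, smul_zero, smul_zero]
  refine ⟨c, ?_, ?_⟩
  · have := g.2
    rwa [hgc, Matrix.det_smul, Matrix.det_one, mul_one] at this
  · rw [hgc, Matrix.scalar_apply, ← Matrix.smul_one_eq_diagonal]

theorem rep_scalar (hm : Even m) (hm2 : 2 ≤ m) (h : H p)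
    (hh : rep p m hm h ∈ Subgroup.center (SpecialLinearGroup (Fin (m + 1) ⊕ Fin m) (ZMod p))) (hp : p ≠ 2) :
    h = 1 := by
  haveI : Fact (2 < p) := ⟨lt_of_le_of_ne (Fact.out : p.Prime).two_le (Ne.symm hp)⟩
  obtain ⟨c, -, hc⟩ := Matrix.SpecialLinearGroup.mem_center_iff.1 hh
  replace hc : Matrix.scalar (Fin (m + 1) ⊕ Fin m) c = rM p m h := hc
  have e1 := congrFun (congrFun hc (Sum.inl 0)) (Sum.inl 0)
  have e2 := congrFun (congrFun hc (Sum.inr ⟨0, by omega⟩)) (Sum.inr ⟨0, by omega⟩)
  have eA := congrFun (congrFun hc (Sum.inl 0)) (Sum.inr ⟨0, by omega⟩)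
  have eB := congrFun (congrFun hc (Sum.inl ⟨1, by omega⟩)) (Sum.inr ⟨0, by omega⟩)
  have eC := congrFun (congrFun hc (Sum.inl 0)) (Sum.inr ⟨1, by omega⟩)
  simp [rM] at e1 e2 eA eB eC
  have hs : sg p h.right = 1 := by rw [← e2, e1]
  have hr : h.right = 1 := by
    rcases Int.units_eq_one_or h.right with h1 | h1
    · exact h1
    · exfalso
      rw [h1] at hs
      simp [sg] at hs
      exact ZMod.neg_one_ne_one hs
  rw [hs] at eA eB eC
  simp [mX, mA, mB, mC] at eA eB eC
  refine SemidirectProduct.ext ?_ hr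
  refine Multiplicative.toAdd.injective (funext fun i => ?_)
  fin_cases i <;> simp [eA, eB, eC]

theorem main (hp : p ≠ 2) :
    ∃ (G : Type) (_ : Group G) (_ : Finite G), Nat.card G = 2 * p ^ 3 ∧
      ∀ N : ℕ, ∃ n, N ≤ n ∧ ∃ φ : G →* Matrix.ProjectiveSpecialLinearGroup (Fin n) (ZMod p),
        Function.Injective φ ∧
          Subgroup.centralizer (φ.range : Set (Matrix.ProjectiveSpecialLinearGroup (Fin n) (ZMod p))) = ⊥ := by
  haveI : Finite (H p) := Nat.finite_of_card_ne_zero (by
    rw [card_H]; exact Nat.mul_ne_zero two_ne_zero (pow_ne_zero _ (Fact.out : p.Prime).ne_zero))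
  refine ⟨H p, inferInstance, inferInstance, card_H p, fun N => ?_⟩
  obtain ⟨k, hk⟩ : ∃ k, k = 2 * N + 2 := ⟨_, rfl⟩
  have hke : Even k := ⟨N + 1, by omega⟩
  refine ⟨k + 1 + k, by omega, ?_⟩
  let e : SpecialLinearGroup (Fin (k + 1) ⊕ Fin k) (ZMod p) ≃* SpecialLinearGroup (Fin (k + 1 + k)) (ZMod p) :=
    { toFun := fun A => ⟨Matrix.reindex finSumFinEquiv finSumFinEquiv A.1, by rw [Matrix.det_reindex_self, A.2]⟩
      invFun := fun A => ⟨Matrix.reindex finSumFinEquiv.symm finSumFinEquiv.symm A.1, by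
        rw [Matrix.det_reindex_self, A.2]⟩
      left_inv := fun A => Subtype.ext (by simp)
      right_inv := fun A => Subtype.ext (by simp)
      map_mul' := fun A B => Subtype.ext (by
        show (A.1 * B.1).submatrix finSumFinEquiv.symm finSumFinEquiv.symm =
          A.1.submatrix finSumFinEquiv.symm finSumFinEquiv.symm * B.1.submatrix finSumFinEquiv.symm finSumFinEquiv.symm
        exact (Matrix.submatrix_mul_equiv _ _ _ _ _).symm) }
  let π := QuotientGroup.mk' (Subgroup.center (SpecialLinearGroup (Fin (k + 1 + k)) (ZMod p)))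
  have hcen : ∀ A, e A ∈ Subgroup.center (SpecialLinearGroup (Fin (k + 1 + k)) (ZMod p)) →
      A ∈ Subgroup.center (SpecialLinearGroup (Fin (k + 1) ⊕ Fin k) (ZMod p)) := by
    intro A hA
    rw [Subgroup.mem_center_iff] at hA ⊢
    intro B
    exact e.injective (by rw [map_mul, map_mul]; exact hA (e B))
  refine ⟨π.comp (e.toMonoidHom.comp (rep p k hke)), ?_, ?_⟩
  · rw [injective_iff_map_eq_one]
    intro h hh
    exact rep_scalar p k hke (by omega) h (hcen _ ((QuotientGroup.eq_one_iff _).1 hh)) hp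
  · rw [eq_bot_iff]
    intro x hx
    obtain ⟨a, rfl⟩ := QuotientGroup.mk'_surjective _ x
    obtain ⟨g, rfl⟩ := e.surjective a
    rw [Subgroup.mem_bot]
    refine (QuotientGroup.eq_one_iff _).2 ?_
    have hg := scalar_of_comm p k hp hke g fun h => by
      have h1 := Subgroup.mem_centralizer_iff.1 hx _ ⟨h, rfl⟩
      change ((e (rep p k hke h) * e g : SpecialLinearGroup (Fin (k + 1 + k)) (ZMod p)) :
          SpecialLinearGroup (Fin (k + 1 + k)) (ZMod p) ⧸ Subgroup.center _) =
        ((e g * e (rep p k hke h) : SpecialLinearGroup (Fin (k + 1 + k)) (ZMod p)) :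
          SpecialLinearGroup (Fin (k + 1 + k)) (ZMod p) ⧸ Subgroup.center _) at h1
      rw [QuotientGroup.eq, ← map_mul, ← map_mul, ← map_inv, ← map_mul] at h1
      obtain ⟨c, hc, hz⟩ := Matrix.SpecialLinearGroup.mem_center_iff.1 (hcen _ h1)
      have hc0 : c ≠ 0 := fun h0 => by rw [h0, zero_pow (by simp)] at hc; exact zero_ne_one hc
      refine ⟨c⁻¹, ?_⟩
      have := congrArg (fun M => ((rep p k hke h * g : SpecialLinearGroup (Fin (k + 1) ⊕ Fin k) (ZMod p)) :
        Matrix (Fin (k + 1) ⊕ Fin k) (Fin (k + 1) ⊕ Fin k) (ZMod p)) * M) hz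
      rw [← Matrix.SpecialLinearGroup.coe_mul, mul_inv_cancel_left, Matrix.SpecialLinearGroup.coe_mul,
        Matrix.SpecialLinearGroup.coe_mul, Matrix.scalar_apply, ← Matrix.smul_one_eq_diagonal,
        Matrix.mul_smul, Matrix.mul_one] at this
      show (rep p k hke h).1 * g.1 = c⁻¹ • (g.1 * (rep p k hke h).1)
      rw [← this, smul_smul, inv_mul_cancel₀ hc0, one_smul]
    rw [Subgroup.mem_center_iff] at hg ⊢
    intro B
    obtain ⟨B', rfl⟩ := e.surjective B
    rw [← map_mul, ← map_mul, hg B']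

end Cfsg.Agent.Small.BrickPSL
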