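import Cfsg.Agent.Lib.Small.ChevDominantCent

/-!
Centralizers of the highest long and highest short root involutions.
-/

set_option autoImplicit false

namespace Cfsg.Agent.Small.ChevF4RootCent

open Cfsg.Lie Cfsg.Agent.Lie Cfsg.Agent.Small.ChevDomCent

theorem ok47 : okDom chevF4 [47] [14, 20, 22] = true := by decide +kernel
theorem ok44 : okDom chevF4 [44] [20, 22, 23] = true := by decide +kernel

theorem single {D : ChevalleyDatum} {F : Type*} [Field F] [CharP F 2] (hF : Facts D) {h : ℕ} {L : List ℕ}
    (hok : okDom D [h] L = true) (t : GL D.Idx F) (ht : (t : Matrix D.Idx D.Idx F) = D.x F h 1) :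
    D.group F ⊓ Subgroup.centralizer {t} = cand L := by
  have hd := data_of_ok hok
  have h0 := hd.rs h (List.mem_singleton_self h)
  have he : t = zElt hF (F := F) [h] := by
    rw [zElt, List.map_singleton, List.prod_singleton]
    exact Units.ext (ht.trans (Facts.coe_xg hF _ _).symm)
  rw [he]
  refine le_antisymm (cent_le_cand hF hd fun w β c hc hβ heq r hr => ?_) (cand_le_cent hF hd)
  rw [List.mem_singleton] at hr
  subst hr
  rw [List.map_singleton, List.prod_singleton, List.map_singleton, List.prod_singleton] at heq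
  have hlt : β r < D.nroots := by
    rw [hβ r (List.mem_singleton_self r) h0.2]
    exact Fin.isLt _
  obtain ⟨a, b⟩ := root_eq hF hlt h0.1 h0.2 one_ne_zero (hc r) heq
  exact ⟨a, b.symm⟩

theorem cand_three {D : ChevalleyDatum} {F : Type*} [Field F] (a b c : ℕ) :
    cand (F := F) (D := D) [a, b, c] =
      D.posUnipotent F ⊔ D.rootSubgroup F a ⊔ D.rootSubgroup F b ⊔ D.rootSubgroup F c := by
  unfold cand ChevalleyDatum.rootSubgroup
  rw [sup_assoc, sup_assoc, ← Subgroup.closure_union, ← Subgroup.closure_union]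
  congr 2
  ext g
  simp [or_and_right, exists_or]

theorem result {F : Type*} [Field F] [CharP F 2] (t u : GL chevF4.Idx F)
    (ht : (t : Matrix chevF4.Idx chevF4.Idx F) = chevF4.x F 47 1)
    (hu : (u : Matrix chevF4.Idx chevF4.Idx F) = chevF4.x F 44 1) :
    chevF4.group F ⊓ Subgroup.centralizer {t} = chevF4.posUnipotent F ⊔ chevF4.rootSubgroup F 14 ⊔
        chevF4.rootSubgroup F 20 ⊔ chevF4.rootSubgroup F 22 ∧
    chevF4.group F ⊓ Subgroup.centralizer {u} = chevF4.posUnipotent F ⊔ chevF4.rootSubgroup F 20 ⊔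
        chevF4.rootSubgroup F 22 ⊔ chevF4.rootSubgroup F 23 := by
  obtain ⟨hF⟩ := nonempty_factsF4
  exact ⟨(single hF ok47 t ht).trans (cand_three _ _ _), (single hF ok44 u hu).trans (cand_three _ _ _)⟩

end Cfsg.Agent.Small.ChevF4RootCent
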