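import Cfsg.Agent.Lib.Small.RootCharacter
import Cfsg.Agent.Lib.Lie.Parabolic
import Cfsg.Agent.Lib.Lie.Steinberg

/-!
A diagonal character element of the Chevalley group lies in the diagonal subgroup.
-/

set_option autoImplicit false

namespace Cfsg.Agent.Small.CharDiagInGroup

open Cfsg.Lie Cfsg.Agent.Lie Matrix
open scoped MatrixGroups

theorem mem_diagonal {F : Type*} [Field F] (D : ChevalleyDatum)
    (hD : D ∈ [chevG2, chevB2, chevD4, chevF4, chevE6, chevE7, chevE8]) (χ : ℕ → Fˣ)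
    (hχ : D.IsRootCharacter χ) (g : GL D.Idx F) (hg : g ∈ D.group F)
    (hgχ : (g : Matrix D.Idx D.Idx F) = D.charDiag F χ) : g ∈ D.diagonalSubgroup F := by
  obtain ⟨hF⟩ := facts_of_mem hD
  obtain ⟨l, hl⟩ := coeff_of_mem hD
  have hconj : ∀ r, r < D.nroots → ∀ t : F, g * hF.xg r t * g⁻¹ = hF.xg r ((χ r : F) * t) := by
    intro r hr t
    rw [mul_inv_eq_iff_eq_mul]
    ext1
    rw [Units.val_mul, Units.val_mul, Facts.coe_xg, Facts.coe_xg, hgχ,
      Cfsg.Agent.Small.RootCharacter.charDiag_eq_diagM]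
    exact hF.diag_x (Cfsg.Agent.Small.RootCharacter.isChar_of_rootCharacter hF
      (Cfsg.Agent.Small.RootCharacter.okSteps_of_mem hD) hχ) r hr t
  have hN : g ∈ Subgroup.normalizer (D.unipotentRadical F ∅ : Set (GL D.Idx F)) := by
    have hle : ∀ h : GL D.Idx F, (∀ r, r < D.nroots → ∀ t, ∃ u, h * hF.xg r t * h⁻¹ = hF.xg r u) →
        ∀ y ∈ D.unipotentRadical F ∅, h * y * h⁻¹ ∈ D.unipotentRadical F ∅ := by
      intro h hh y hy
      rw [hF.unipotentRadical_eq] at hy ⊢
      induction hy using Subgroup.closure_induction with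
      | mem z hz =>
        obtain ⟨r, hr, t, rfl⟩ := hz
        obtain ⟨u, hu⟩ := hh r ((Facts.mem_radL ∅).1 hr).2.1 t
        rw [Facts.tsys_x, hu]
        exact CommSys.x_mem_US _ hr u
      | one => simp
      | mul a b _ _ ha hb =>
        rw [show h * (a * b) * h⁻¹ = (h * a * h⁻¹) * (h * b * h⁻¹) by group]
        exact mul_mem ha hb
      | inv a _ ha =>
        rw [show h * a⁻¹ * h⁻¹ = (h * a * h⁻¹)⁻¹ by group]
        exact inv_mem ha
    refine Subgroup.mem_normalizer_iff.2 fun y => ⟨hle g (fun r hr t => ⟨_, hconj r hr t⟩) y, fun hy => ?_⟩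
    have := hle g⁻¹ (fun r hr t => ⟨((χ r)⁻¹ : Fˣ) * t, ?_⟩) _ hy
    · rwa [inv_inv, mul_assoc, mul_assoc, inv_mul_cancel, mul_one, ← mul_assoc, inv_mul_cancel, one_mul] at this
    · have e := hconj r hr (((χ r)⁻¹ : Fˣ) * t)
      rw [← mul_assoc, ← Units.val_mul, mul_inv_cancel, Units.val_one, one_mul] at e
      rw [← e]
      group
  have hB : g ∈ (hF.tsys F).B := by
    have h := (hF.normalizer_rad hl (F := F) ∅).le ⟨hN, hg⟩
    rw [show D.parabolicSubgroup F ∅ = D.borelSubgroup F by simp [ChevalleyDatum.parabolicSubgroup]] at h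
    rwa [hF.tsys_B]
  obtain ⟨u, hu, a, ha, he⟩ := (hF.tsys F).mem_B.1 hB
  rw [hF.tsys_H] at ha
  obtain ⟨d, hd⟩ := hF.diagonal_entry ha
  have hraise := (hF.U_mem_raise hu).1
  have hval : (u : Matrix D.Idx D.Idx F) * Matrix.diagonal d = D.charDiag F χ := by
    rw [← hgχ, he, Units.val_mul, hd]
  have hu1 : u = 1 := by
    have hd0 : ∀ q, d q ≠ 0 := by
      intro q h0
      have hdet : IsUnit ((a : Matrix D.Idx D.Idx F)).det := (Matrix.isUnit_iff_isUnit_det _).1 a.isUnit
      rw [hd, Matrix.det_diagonal] at hdet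
      exact hdet.ne_zero (Finset.prod_eq_zero (Finset.mem_univ q) h0)
    refine Units.ext ?_
    ext p q
    by_contra hne
    have hlt := hraise p q (by rwa [Matrix.sub_apply, Units.val_one, sub_ne_zero] at *)
    have hpq : p ≠ q := by rintro rfl; omega
    have h := congrFun (congrFun hval p) q
    rw [Matrix.mul_diagonal, ChevalleyDatum.charDiag, Matrix.diagonal_apply_ne _ hpq] at h
    rw [Units.val_one, Matrix.one_apply_ne hpq] at hne
    exact hne ((mul_eq_zero.1 h).resolve_right (hd0 q))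
  rw [he, hu1, one_mul]
  exact ha

end Cfsg.Agent.Small.CharDiagInGroup
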