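import Mathlib

/-!
Orthonormal bases for non-alternating symmetric bilinear forms over finite fields of characteristic two.
-/

set_option autoImplicit false

namespace Cfsg.Agent.Small.CharTwoOrthonormal

variable {F V : Type*} [Field F] [Finite F] [CharP F 2] [AddCommGroup V] [Module F V] [FiniteDimensional F V]

omit [FiniteDimensional F V] in
theorem exists_unit_vector (B : LinearMap.BilinForm F V) (W : Submodule F V) {v : V} (hv : v ∈ W) (h : B v v ≠ 0) :
    ∃ v' ∈ W, B v' v' = 1 := by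
  refine ⟨((frobeniusEquiv F 2).symm (B v v))⁻¹ • v, W.smul_mem _ hv, ?_⟩
  simp only [map_smul, LinearMap.smul_apply, smul_eq_mul]
  rw [← mul_assoc, ← mul_inv]
  rw [← pow_two, frobeniusEquiv_symm_pow_p F 2, inv_mul_cancel₀ h]

theorem exists_orthonormal (B : LinearMap.BilinForm F V) (hS : ∀ x y, B x y = B y x) :
    ∀ (n : ℕ) (W : Submodule F V), Module.finrank F W = n → (∀ x ∈ W, (∀ y ∈ W, B x y = 0) → x = 0) →
      (n ≠ 0 → ∃ v ∈ W, B v v ≠ 0) →
      ∃ f : Fin n → V, (∀ i, f i ∈ W) ∧ ∀ i j, B (f i) (f j) = if i = j then 1 else 0 := by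
  intro n
  induction n with
  | zero => exact fun W _ _ _ => ⟨Fin.elim0, fun i => i.elim0, fun i => i.elim0⟩
  | succ n ih =>
    intro W hW hnd hna
    obtain ⟨v₀, hv₀, hv₀'⟩ := hna (Nat.succ_ne_zero n)
    obtain ⟨v₁, hv₁, hv₁'⟩ := exists_unit_vector B W hv₀ hv₀'
    obtain ⟨v, hv, hvv, hna'⟩ : ∃ v ∈ W, B v v = 1 ∧ (n ≠ 0 → ∃ u ∈ W, B v u = 0 ∧ B u u ≠ 0) := by
      by_cases hc : ∃ u ∈ W, B v₁ u = 0 ∧ B u u ≠ 0
      · exact ⟨v₁, hv₁, hv₁', fun _ => hc⟩
      · push Not at hc
        by_cases hn : n = 0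
        · exact ⟨v₁, hv₁, hv₁', fun h => absurd hn h⟩
        obtain ⟨w, hw, hw0, hwne⟩ : ∃ w ∈ W, B v₁ w = 0 ∧ w ≠ 0 := by
          have h := (((B v₁).domRestrict W)).finrank_range_add_finrank_ker
          have h1 : Module.finrank F (LinearMap.range ((B v₁).domRestrict W)) ≤ 1 :=
            (Submodule.finrank_le _).trans (Module.finrank_self F).le
          have h2 : LinearMap.ker ((B v₁).domRestrict W) ≠ ⊥ := fun h0 => by
            rw [h0, finrank_bot] at h
            omega
          obtain ⟨x, hx, hx0⟩ := Submodule.exists_mem_ne_zero_of_ne_bot h2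
          exact ⟨x, x.2, LinearMap.mem_ker.mp hx, fun h => hx0 (Subtype.ext h)⟩
        obtain ⟨y, hy, hy'⟩ : ∃ y ∈ W, B w y ≠ 0 := by
          by_contra h
          push Not at h
          exact hwne (hnd w hw h)
        obtain ⟨z, hz, hz0, hwz⟩ : ∃ z ∈ W, B v₁ z = 0 ∧ B w z = 1 := by
          refine ⟨(B w y)⁻¹ • (y - (B v₁ y) • v₁), W.smul_mem _ (W.sub_mem hy (W.smul_mem _ hv₁)), ?_, ?_⟩
          · simp [map_sub, hv₁']
          · simp [map_sub, hS w v₁, hw0, inv_mul_cancel₀ hy']
        refine ⟨v₁ + w, W.add_mem hv₁ hw, ?_, fun _ => ⟨v₁ + z, W.add_mem hv₁ hz, ?_, ?_⟩⟩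
        · simp [hS w v₁, hw0, hv₁', hc w hw hw0]
        · simp [hS w v₁, hw0, hv₁', hz0, hwz, CharTwo.add_self_eq_zero]
        · simp [hS z v₁, hz0, hv₁', hc z hz hz0]
    obtain ⟨W', hW'⟩ : ∃ W', W' = W ⊓ LinearMap.ker (B v) := ⟨_, rfl⟩
    have hmem : ∀ x, x ∈ W' ↔ x ∈ W ∧ B v x = 0 := fun x => by
      rw [hW', Submodule.mem_inf, LinearMap.mem_ker]
    have hrank : Module.finrank F W' = n := by
      have h := (((B v).domRestrict W)).finrank_range_add_finrank_ker
      have hsurj : LinearMap.range ((B v).domRestrict W) = ⊤ :=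
        LinearMap.range_eq_top.mpr fun c => ⟨c • ⟨v, hv⟩, by simp [hvv]⟩
      rw [hsurj, finrank_top, Module.finrank_self, hW] at h
      have hm : (LinearMap.ker ((B v).domRestrict W)).map W.subtype = W' := by
        ext x
        rw [hmem]
        constructor
        · rintro ⟨y, hy, rfl⟩
          exact ⟨y.2, LinearMap.mem_ker.mp hy⟩
        · rintro ⟨h1, h2⟩
          exact ⟨⟨x, h1⟩, LinearMap.mem_ker.mpr h2, rfl⟩
      rw [← hm, Submodule.finrank_map_subtype_eq]
      omega
    obtain ⟨g, hg, hgg⟩ := ih W' hrank (fun x hx hxo => hnd x ((hmem x).mp hx).1 fun y hy => by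
        have h1 := hxo (y - (B v y) • v) ((hmem _).mpr ⟨W.sub_mem hy (W.smul_mem _ hv), by simp [hvv]⟩)
        rw [map_sub, map_smul, hS x v, ((hmem x).mp hx).2, smul_zero, sub_zero] at h1
        exact h1)
      fun hn => by
        obtain ⟨u, hu, hu0, huu⟩ := hna' hn
        exact ⟨u, (hmem u).mpr ⟨hu, hu0⟩, huu⟩
    refine ⟨Fin.cons v g, fun i => ?_, fun i j => ?_⟩
    · induction i using Fin.cases with
      | zero => exact hv
      | succ i => exact ((hmem _).mp (hg i)).1
    · induction i using Fin.cases with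
      | zero =>
        induction j using Fin.cases with
        | zero => simpa using hvv
        | succ j => simpa [(Fin.succ_ne_zero j).symm] using ((hmem _).mp (hg j)).2
      | succ i =>
        induction j using Fin.cases with
        | zero => simpa [Fin.succ_ne_zero i, hS (g i) v] using ((hmem _).mp (hg i)).2
        | succ j => simpa [Fin.succ_inj] using hgg i j

theorem exists_orthonormal_basis {n : ℕ} (hV : Module.finrank F V = n) (B : LinearMap.BilinForm F V)
    (hS : B.IsSymm) (hB : B.Nondegenerate) (hna : ∃ v : V, B v v ≠ 0) :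
    ∃ b : Module.Basis (Fin n) F V, ∀ i j, B (b i) (b j) = if i = j then 1 else 0 := by
  obtain ⟨v, hv⟩ := hna
  obtain ⟨f, -, hf⟩ := exists_orthonormal B (fun x y => hS.eq x y) n ⊤ (by rw [finrank_top, hV])
    (fun x _ h => hB.1 x fun y => h y Submodule.mem_top) (fun _ => ⟨v, Submodule.mem_top, hv⟩)
  have hli : LinearIndependent F f := Fintype.linearIndependent_iff.mpr fun c hc i => by
    have := congrArg (B (f i)) hc
    simpa [map_sum, hf] using this
  rcases Nat.eq_zero_or_pos n with h0 | hn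
  · subst h0
    exact ⟨Module.finBasisOfFinrankEq F V hV, fun i => i.elim0⟩
  have : Nonempty (Fin n) := ⟨⟨0, hn⟩⟩
  exact ⟨basisOfLinearIndependentOfCardEqFinrank hli (by simp [hV]), fun i j => by
    simpa using hf i j⟩

end Cfsg.Agent.Small.CharTwoOrthonormal
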