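import Cfsg.Agent.Lib.Lie.AllFacts
import Cfsg.Agent.Lib.Lie.Torus

/-!
Root characters act on the chain table multiplicatively, so their diagonal matrices rescale root
elements.
-/

set_option autoImplicit false

namespace Cfsg.Agent.Small.RootCharacter

open Cfsg.Lie Cfsg.Agent.Lie

/-- Consecutive entries of every chain are one step apart. -/
def okStep (D : ChevalleyDatum) (s : ℕ) : List (ℕ × ℤ) → Bool
  | a :: b :: L => decide (D.chainRoot s a.1 1 = some b.1) && okStep D s (b :: L)
  | _ => true

/-- The check over the whole table. -/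
def okSteps (D : ChevalleyDatum) : Bool :=
  (List.range D.nroots).all fun s => (D.chain.getD s #[]).toList.all fun e => okStep D s e.2.toList

theorem okStep_getElem {D : ChevalleyDatum} {s : ℕ} : ∀ {L : List (ℕ × ℤ)}, okStep D s L = true →
    ∀ (k : ℕ) (hk : k + 1 < L.length), D.chainRoot s (L[k]'(by omega)).1 1 = some (L[k+1]).1
  | [], _, k, hk => by simp at hk
  | [a], _, k, hk => by simp at hk
  | a :: b :: L, h, k, hk => by
    simp only [okStep, Bool.and_eq_true, decide_eq_true_eq] at h
    cases k with
    | zero => simpa using h.1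
    | succ k =>
      have := okStep_getElem h.2 k (by simpa using hk)
      simpa using this

theorem okSteps_spec {D : ChevalleyDatum} (h : okSteps D = true) {s : ℕ} (hs : s < D.nroots) (v : ℕ) :
    okStep D s (D.chainEntry s v) = true := by
  unfold okSteps at h
  rw [List.all_eq_true] at h
  have h' := h s (List.mem_range.2 hs)
  rw [List.all_eq_true] at h'
  unfold ChevalleyDatum.chainEntry
  split
  · rfl
  · rename_i e he
    exact h' e (List.mem_of_find?_eq_some he)

theorem okSteps_G2 : okSteps chevG2 = true := by decide +kernel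
theorem okSteps_B2 : okSteps chevB2 = true := by decide +kernel
theorem okSteps_D4 : okSteps chevD4 = true := by decide +kernel
theorem okSteps_F4 : okSteps chevF4 = true := by decide +kernel
theorem okSteps_E6 : okSteps chevE6 = true := by decide +kernel
theorem okSteps_E7 : okSteps chevE7 = true := by decide +kernel
theorem okSteps_E8 : okSteps chevE8 = true := by decide +kernel

theorem okSteps_of_mem {D : ChevalleyDatum}
    (hD : D ∈ [chevG2, chevB2, chevD4, chevF4, chevE6, chevE7, chevE8]) : okSteps D = true := by
  simp only [List.mem_cons, List.not_mem_nil, or_false] at hD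
  rcases hD with rfl | rfl | rfl | rfl | rfl | rfl | rfl
  exacts [okSteps_G2, okSteps_B2, okSteps_D4, okSteps_F4, okSteps_E6, okSteps_E7, okSteps_E8]

variable {D : ChevalleyDatum} {F : Type*} [Field F]

/-- A root character is multiplicative along the chains. -/
theorem isChar_of_rootCharacter (hF : Facts D) (hok : okSteps D = true) {χ : ℕ → Fˣ}
    (hχ : D.IsRootCharacter χ) : Facts.IsChar (D := D) fun s => (χ s : F) := by
  refine ⟨fun s hs => ?_, fun s hs v hv q hq => ?_⟩
  · rw [hχ.1 s hs, ← Units.val_mul, inv_mul_cancel, Units.val_one]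
  · obtain ⟨e, k⟩ := q
    rw [List.mem_zipIdx_iff_getElem?] at hq
    simp only at hq ⊢
    obtain ⟨hk, he⟩ := List.getElem?_eq_some_iff.1 hq
    rw [← Units.val_pow_eq_pow_val, ← Units.val_mul]
    congr 1
    have hstep := okStep_getElem (okSteps_spec hok hs v)
    clear hq
    induction k generalizing e with
    | zero =>
      have : D.chainRoot s v 1 = some e.1 := by
        simp [ChevalleyDatum.chainRoot, List.getElem?_eq_getElem hk, he]
      rw [hχ.2 s v e.1 hs hv this, zero_add, pow_one, mul_comm]
    | succ k ih =>
      have h1 := hstep k hk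
      rw [he] at h1
      have hlt := hF.chain_lt s hs v _ (List.getElem_mem (show k < (D.chainEntry s v).length by omega))
      rw [hχ.2 s _ e.1 hs hlt h1, ih (D.chainEntry s v)[k] (by omega) rfl, pow_succ _ (k + 1)]
      exact mul_left_comm _ _ _ |>.trans (by rw [mul_comm (χ s) (χ s ^ (k + 1))])

theorem charDiag_eq_diagM (χ : ℕ → Fˣ) : D.charDiag F χ = diagM D fun s => (χ s : F) := rfl

theorem charDiag_conj_x (hD : D ∈ [chevG2, chevB2, chevD4, chevF4, chevE6, chevE7, chevE8])
    (χ : ℕ → Fˣ) (hχ : D.IsRootCharacter χ) (r : ℕ) (hr : r < D.nroots) (t : F) :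
    D.charDiag F χ * D.x F r t * D.charDiag F (fun s => (χ s)⁻¹) = D.x F r ((χ r : F) * t) := by
  obtain ⟨hF⟩ := facts_of_mem hD
  rw [charDiag_eq_diagM, charDiag_eq_diagM,
    hF.diag_x (isChar_of_rootCharacter hF (okSteps_of_mem hD) hχ) r hr t, Matrix.mul_assoc,
    diagM, diagM, Matrix.diagonal_mul_diagonal]
  convert Matrix.mul_one (D.x F r ((χ r : F) * t)) using 2
  rw [← Matrix.diagonal_one]
  congr 1
  funext p
  cases p <;> simp

end Cfsg.Agent.Small.RootCharacter
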