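import Cfsg.Agent.Lib.Lie.AllFacts
import Cfsg.Agent.Lib.Lie.Diagonal
import Cfsg.Agent.Lib.Lie.Group
import Cfsg.Prelude.Def_ChevAutomorphisms

/-!
Field automorphisms commute with graph automorphisms.
-/

set_option autoImplicit false

namespace Cfsg.Agent.Small.FieldGraph

open Cfsg.Lie Cfsg.Agent.Lie
open scoped MatrixGroups

variable {D : ChevalleyDatum} {F : Type*} [Field F]

/-- A subgroup containing the root elements of the fundamental roots and their negatives contains the group. -/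
theorem group_le_of_simple (hF : Facts D) (K : Subgroup (GL D.Idx F))
    (h : ∀ i, i < D.rank → ∀ t : F, hF.xg (D.simple i) t ∈ K ∧ hF.xg (D.neg (D.simple i)) t ∈ K) :
    D.group F ≤ K := by
  have hn : ∀ i, i < D.rank → hF.ng (D.simple i) (1 : F) ∈ K := by
    intro i hi
    rw [hF.ng_eq]
    exact mul_mem (mul_mem (h i hi _).1 (h i hi _).2) (h i hi _).1
  have hall : ∀ r, r < D.nroots → ∀ t : F, hF.xg r t ∈ K := by
    refine hF.simple_induction _ (fun i hi t => (h i hi t).1) fun i hi r hr ih t => ?_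
    have h1 := hF.ng_conj (F := F) i hi r hr (hF.sgn F i r * t)
    rw [← mul_assoc, hF.sgn_mul_self hi hr, one_mul] at h1
    rw [← h1]
    exact mul_mem (mul_mem (hn i hi) (ih _)) (inv_mem (hn i hi))
  rw [hF.group_eq]
  refine (Subgroup.closure_le _).2 ?_
  rintro _ ⟨⟨r, t⟩, rfl⟩
  by_cases hr : r < D.nroots
  · exact hall r hr t
  · simp only [hF.xg_out (not_lt.1 hr), SetLike.mem_coe, one_mem]

theorem field_graph_comm (hD : D ∈ [chevG2, chevB2, chevD4, chevF4, chevE6, chevE7, chevE8])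
    (f g : ↥(D.group F) ≃* ↥(D.group F)) (hf : D.IsFieldAut f) (hg : D.IsGraphAut g)
    (y : ↥(D.group F)) : f (g y) = g (f y) := by
  obtain ⟨hF⟩ := facts_of_mem hD
  obtain ⟨σ, hσ⟩ := hf
  obtain ⟨π, -, hπ⟩ := hg
  let E : Subgroup ↥(D.group F) :=
    MonoidHom.eqLocus (f.toMonoidHom.comp g.toMonoidHom) (g.toMonoidHom.comp f.toMonoidHom)
  have hE : D.group F ≤ E.map (D.group F).subtype := by
    refine group_le_of_simple hF _ fun i hi t => ⟨?_, ?_⟩
    · refine ⟨⟨hF.xg (D.simple i) t, hF.xg_mem_group _ _⟩, ?_, rfl⟩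
      show f (g _) = g (f _)
      refine Subtype.ext (Units.ext ?_)
      set z : ↥(D.group F) := ⟨hF.xg (D.simple i) t, hF.xg_mem_group _ _⟩ with hz
      have h1 := (hπ z ⟨i, hi⟩ t).1 rfl
      have h2 := hσ z _ t (hF.simple_lt i hi) rfl
      rw [hσ (g z) _ _ (hF.simple_lt _ (π ⟨i, hi⟩).isLt) h1, (hπ (f z) ⟨i, hi⟩ (σ t)).1 h2, map_pow]
    · refine ⟨⟨hF.xg (D.neg (D.simple i)) t, hF.xg_mem_group _ _⟩, ?_, rfl⟩
      show f (g _) = g (f _)
      refine Subtype.ext (Units.ext ?_)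
      set z : ↥(D.group F) := ⟨hF.xg (D.neg (D.simple i)) t, hF.xg_mem_group _ _⟩ with hz
      have h1 := (hπ z ⟨i, hi⟩ t).2 rfl
      have h2 := hσ z _ t (hF.neg_lt (hF.simple_lt i hi)) rfl
      rw [hσ (g z) _ _ (hF.neg_lt (hF.simple_lt _ (π ⟨i, hi⟩).isLt)) h1,
        (hπ (f z) ⟨i, hi⟩ (σ t)).2 h2, map_pow]
  obtain ⟨z, hz, hzy⟩ := hE y.2
  have : z = y := Subtype.ext hzy
  subst this
  exact hz

end Cfsg.Agent.Small.FieldGraph
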