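import Cfsg.Agent.Lib.Small.ChevRootPairs
import Mathlib.Algebra.Group.Subgroup.Finite

/-!
Centralizers in characteristic two of products of root elements for dominant roots.
-/

set_option autoImplicit false

namespace Cfsg.Agent.Small.ChevDomCent

open Cfsg.Lie Cfsg.Agent.Lie
open scoped MatrixGroups

/-- The combinatorial facts needed, as a Boolean. -/
def okDom (D : ChevalleyDatum) (Rs L : List ℕ) : Bool :=
  (Rs.all fun h => decide (D.nroots / 2 ≤ h) && decide (h < D.nroots) &&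
    ((List.range D.nroots).all fun r => decide (r < D.nroots / 2) || r == h ||
      (D.commTerms h r).all fun c => decide (c.2.1 % 2 = 0)) &&
    ((List.range D.rank).all fun i => decide (0 ≤ D.cartan i h)) &&
    ((List.range (D.nroots / 2)).all fun r => decide (D.pairing r h ≤ 0))) &&
  (L.all fun s => decide (s < D.nroots) && Rs.all fun h => !(s == h) && !(s == D.neg h) &&
    (D.commTerms h s).all fun c => decide (c.2.1 % 2 = 0)) &&
  ((List.range D.rank).all fun i =>
    ((Rs.all fun h => decide (D.cartan i h = 0)) && L.contains (D.neg (D.simple i)) &&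
      Rs.all fun h => D.reflectRoot i h == h) ||
    Rs.any fun h => decide (D.cartan i h = 1) &&
      (List.range D.rank).all fun j => j == i || decide (D.cartan j h = 0))

structure Data (D : ChevalleyDatum) (Rs L : List ℕ) : Prop where
  rs : ∀ h ∈ Rs, D.nroots / 2 ≤ h ∧ h < D.nroots
  posc : ∀ h ∈ Rs, ∀ r, D.nroots / 2 ≤ r → r < D.nroots → r ≠ h → ∀ c ∈ D.commTerms h r, c.2.1 % 2 = 0
  cart : ∀ h ∈ Rs, ∀ i, i < D.rank → 0 ≤ D.cartan i h
  pairing : ∀ h ∈ Rs, ∀ r, r < D.nroots / 2 → D.pairing r h ≤ 0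
  mem : ∀ s ∈ L, s < D.nroots ∧ ∀ h ∈ Rs, s ≠ h ∧ s ≠ D.neg h ∧ ∀ c ∈ D.commTerms h s, c.2.1 % 2 = 0
  simple : ∀ i, i < D.rank →
    ((∀ h ∈ Rs, D.cartan i h = 0) ∧ D.neg (D.simple i) ∈ L ∧ ∀ h ∈ Rs, D.reflectRoot i h = h) ∨
    ∃ h ∈ Rs, D.cartan i h = 1 ∧ ∀ j, j < D.rank → j ≠ i → D.cartan j h = 0

theorem data_of_ok {D : ChevalleyDatum} {Rs L : List ℕ} (hok : okDom D Rs L = true) : Data D Rs L := by
  simp only [okDom, Bool.and_eq_true, Bool.or_eq_true, List.all_eq_true, List.any_eq_true, List.mem_range,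
    decide_eq_true_eq, beq_iff_eq, Bool.not_eq_true', beq_eq_false_iff_ne,
    List.contains_iff_mem] at hok
  obtain ⟨⟨hR, hL⟩, hS⟩ := hok
  refine ⟨fun h hh => (hR h hh).1.1.1, fun h hh r h1 h2 hne c hc => ?_, fun h hh => (hR h hh).1.2,
    fun h hh => (hR h hh).2, fun s hs => ⟨(hL s hs).1, fun h hh => ?_⟩, fun i hi => ?_⟩
  · rcases (hR h hh).1.1.2 r h2 with (h' | h') | h'
    · omega
    · exact absurd h' hne
    · exact h' c hc
  · obtain ⟨⟨a, b⟩, c⟩ := (hL s hs).2 h hh
    exact ⟨a, b, c⟩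
  · rcases hS i hi with ⟨⟨a, b⟩, c⟩ | ⟨h, hh, a, b⟩
    · exact Or.inl ⟨a, b, c⟩
    · refine Or.inr ⟨h, hh, a, fun j hj hne => ?_⟩
      rcases b j hj with b' | b'
      · exact absurd b' hne
      · exact b'

variable {D : ChevalleyDatum} {F : Type*} [Field F] (hF : Facts D)

theorem commute_of_even [CharP F 2] {r s : ℕ} (hr : r < D.nroots) (hs : s < D.nroots) (h1 : s ≠ r)
    (h2 : s ≠ D.neg r) (h : ∀ c ∈ D.commTerms r s, c.2.1 % 2 = 0) (t u : F) :
    Commute (hF.xg r t) (hF.xg s u) := by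
  have key := (hF.tsys F).x_comm r s hr hs h1 h2 t u
  rw [List.prod_eq_one, mul_one] at key
  · exact key.symm
  intro g hg
  obtain ⟨p, hp, rfl⟩ := List.mem_map.1 hg
  obtain ⟨c, hc, rfl⟩ := List.mem_map.1 hp
  show hF.xg c.1 ((c.2.1 : F) * (-t) ^ c.2.2.1 * u ^ c.2.2.2) = 1
  obtain ⟨k, hk⟩ : (2 : ℤ) ∣ c.2.1 := Int.dvd_of_emod_eq_zero (h c hc)
  rw [hk, Int.cast_mul, Int.cast_ofNat, CharTwo.two_eq_zero, zero_mul, zero_mul, zero_mul, hF.xg_zero]

theorem xg_ne_one {r : ℕ} (hr : r < D.nroots) {t : F} (ht : t ≠ 0) : hF.xg r t ≠ 1 := by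
  intro h
  have h4 := congrArg Units.val h
  rw [Facts.coe_xg, Units.val_one, hF.x_eq_one _ hr] at h4
  exact ht h4

/-- Root elements for different roots differ. -/
theorem root_eq {β h : ℕ} (hβ : β < D.nroots) (h1 : D.nroots / 2 ≤ h) (h2 : h < D.nroots)
    {s t : F} (hs : s ≠ 0) (ht : t ≠ 0) (he : hF.xg β s = hF.xg h t) : β = h ∧ s = t := by
  rcases lt_or_ge β (D.nroots / 2) with hl | hl
  · refine absurd (hF.B_inter_V ?_ (hF.x_mem_negUnipotent hl s)) (xg_ne_one hF hβ hs)
    rw [he]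
    exact (hF.tsys F).U_le_B ((hF.tsys F).x_mem_U h1 h2 t)
  rcases lt_trichotomy β h with hlt | rfl | hgt
  · exact absurd (hF.xg_eq_zero_of_mem_raise hβ hl (he ▸ hF.xg_mem_raise_succ hβ hl hlt h2 t)) hs
  · refine ⟨rfl, ?_⟩
    have h3 : hF.xg β (s - t) = 1 := by
      rw [sub_eq_add_neg, hF.xg_add, hF.xg_neg, he, mul_inv_cancel]
    by_contra hne
    exact xg_ne_one hF hβ (sub_ne_zero.2 hne) h3
  · exact absurd (hF.xg_eq_zero_of_mem_raise h2 h1 (he ▸ hF.xg_mem_raise_succ h2 h1 hgt hβ s)) ht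

/-- The candidate for the centralizer. -/
noncomputable def cand (L : List ℕ) : Subgroup (GL D.Idx F) :=
  D.posUnipotent F ⊔ Subgroup.closure
    {g : GL D.Idx F | ∃ s ∈ L, ∃ c : F, (g : Matrix D.Idx D.Idx F) = D.x F s c}

/-- The product of the root elements with parameter 1. -/
noncomputable def zElt (Rs : List ℕ) : GL D.Idx F := (Rs.map fun h => hF.xg h 1).prod

include hF in
theorem xg_mem_cand {L : List ℕ} {s : ℕ} (hs : s ∈ L) (c : F) : hF.xg s c ∈ cand (F := F) (D := D) L :=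
  Subgroup.mem_sup_right (Subgroup.subset_closure ⟨s, hs, c, Facts.coe_xg hF s c⟩)

include hF in
theorem U_le_cand {L : List ℕ} : (hF.tsys F).U ≤ cand (F := F) (D := D) L := by
  rw [hF.tsys_U]
  exact le_sup_left

include hF in
theorem cand_le {L : List ℕ} {K : Subgroup (GL D.Idx F)}
    (hpos : ∀ r, D.nroots / 2 ≤ r → r < D.nroots → ∀ c : F, hF.xg r c ∈ K)
    (hL : ∀ s ∈ L, ∀ c : F, hF.xg s c ∈ K) : cand L ≤ K := by
  refine sup_le ?_ ((Subgroup.closure_le _).2 ?_)
  · rw [← hF.tsys_U]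
    exact CommSys.US_le _ fun r hr t => hpos r (Facts.mem_posL.1 hr).1 (Facts.mem_posL.1 hr).2 t
  · rintro g ⟨s, hs, c, hc⟩
    have : g = hF.xg s c := Units.ext (hc.trans (Facts.coe_xg hF s c).symm)
    exact this ▸ hL s hs c

include hF in
theorem cand_comm [CharP F 2] {Rs L : List ℕ} (hd : Data D Rs L) {h : ℕ} (hh : h ∈ Rs)
    {g : GL D.Idx F} (hg : g ∈ cand (F := F) (D := D) L) (t : F) : Commute (hF.xg h t) g := by
  have h0 := hd.rs h hh
  suffices cand L ≤ Subgroup.centralizer ({hF.xg h t} : Set (GL D.Idx F)) from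
    (Subgroup.mem_centralizer_singleton_iff.1 (this hg)).symm
  refine cand_le hF (fun r h1 h2 c => ?_) fun s hs c => ?_
  · refine Subgroup.mem_centralizer_singleton_iff.2 ?_
    by_cases he : r = h
    · rw [he, ← hF.xg_add, ← hF.xg_add, add_comm]
    exact (commute_of_even hF h0.2 h2 he (by rw [hF.neg_eq h h0.2]; omega)
      (hd.posc h hh r h1 h2 he) t c).eq.symm
  · refine Subgroup.mem_centralizer_singleton_iff.2 ?_
    obtain ⟨h1, h2⟩ := hd.mem s hs
    obtain ⟨a, b, e⟩ := h2 h hh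
    exact (commute_of_even hF h0.2 h1 a b e t c).eq.symm

include hF in
theorem cand_le_cent [CharP F 2] {Rs L : List ℕ} (hd : Data D Rs L) :
    cand L ≤ D.group F ⊓ Subgroup.centralizer ({zElt hF Rs} : Set (GL D.Idx F)) := by
  refine le_inf (cand_le hF (fun r _ _ c => hF.xg_mem_group r c) fun s _ c => hF.xg_mem_group s c) ?_
  intro g hg
  refine Subgroup.mem_centralizer_singleton_iff.2 ?_
  refine (Commute.list_prod_left _ _ fun x hx => ?_).eq.symm
  obtain ⟨h, hh, rfl⟩ := List.mem_map.1 hx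
  exact cand_comm hF hd hh hg 1

include hF in
theorem fix_word {Rs L : List ℕ} (hd : Data D Rs L) :
    ∀ n (w : hF.weyl), hF.refSys.len w = n →
      (∀ h ∈ Rs, ∀ hh : h < D.nroots, w • (⟨h, hh⟩ : Fin D.nroots) = ⟨h, hh⟩) →
      ∃ ω : List (Fin D.rank), hF.refSys.pr ω = w ∧ ∀ i ∈ ω, ∀ h ∈ Rs, D.cartan i.val h = 0 := by
  intro n
  induction n using Nat.strong_induction_on with
  | _ n ih =>
    intro w hn hfix
    obtain ⟨ω, hω, hlen⟩ := hF.refSys.exists_reduced w
    rcases List.eq_nil_or_concat' ω with rfl | ⟨ω', i, rfl⟩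
    · exact ⟨[], hω, by simp⟩
    rw [RefSystem.pr_append, RefSystem.pr_singleton] at hω
    rw [List.length_append, List.length_singleton] at hlen
    have h3 : w * hF.refSys.s i = hF.refSys.pr ω' := by
      rw [← hω, mul_assoc, hF.refSys.sq, mul_one]
    have hlt : hF.refSys.len (w * hF.refSys.s i) < n := by
      rw [h3]
      have := hF.refSys.len_pr_le ω'
      omega
    have hneg : w • hF.refSys.α i ∉ hF.refSys.P := by
      intro hP
      have h1 := hF.refSys.len_mul_s_of_mem hP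
      omega
    have hi0 : ∀ h ∈ Rs, D.cartan i.val h = 0 := by
      intro h hh
      have hlt' := (hd.rs h hh).2
      have h1 := hF.weyl_pairing w (hF.refSys.α i) ⟨h, hlt'⟩
      rw [hfix h hh hlt'] at h1
      have h2 : (w • hF.refSys.α i : Fin D.nroots).val < D.nroots / 2 := by
        simpa [Facts.refSys] using hneg
      have h4 := hd.pairing h hh _ h2
      have h5 : D.pairing (D.simple i.val) h = D.cartan i.val h := by
        rw [pairing_eq, Finset.sum_eq_single i.val]
        · rw [hF.co_simple i.val i.isLt i.val i.isLt, if_pos rfl, one_mul]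
        · intro j hj hne
          rw [hF.co_simple i.val i.isLt j (Finset.mem_range.1 hj), if_neg hne, zero_mul]
        · exact fun hni => absurd (Finset.mem_range.2 i.isLt) hni
      rw [h1, show (hF.refSys.α i).val = D.simple i.val from rfl, h5] at h4
      exact le_antisymm h4 (hd.cart h hh _ i.isLt)
    have hfix' : ∀ h ∈ Rs, ∀ hh : h < D.nroots,
        (w * hF.refSys.s i) • (⟨h, hh⟩ : Fin D.nroots) = ⟨h, hh⟩ := by
      intro h hh hlt'
      rw [mul_smul]
      have : hF.refSys.s i • (⟨h, hlt'⟩ : Fin D.nroots) = ⟨h, hlt'⟩ := by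
        rcases hd.simple _ i.isLt with ⟨-, -, e⟩ | ⟨h', hh', e, -⟩
        · exact Fin.ext (e h hh)
        · rw [hi0 h' hh'] at e
          exact absurd e (by norm_num)
      rw [this, hfix h hh hlt']
    obtain ⟨ω₀, h6, h7⟩ := ih _ hlt _ rfl hfix'
    refine ⟨ω₀ ++ [i], ?_, ?_⟩
    · rw [RefSystem.pr_append, RefSystem.pr_singleton, h6, mul_assoc, hF.refSys.sq, mul_one]
    · simp only [List.mem_append, List.mem_singleton]
      rintro j (hj | rfl)
      · exact h7 j hj
      · exact hi0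

include hF in
theorem cent_le_cand [CharP F 2] {Rs L : List ℕ} (hd : Data D Rs L)
    (hsep : ∀ (w : hF.weyl) (β : ℕ → ℕ) (c : ℕ → F), (∀ h, c h ≠ 0) →
      (∀ h ∈ Rs, ∀ hh : h < D.nroots, β h = (w • (⟨h, hh⟩ : Fin D.nroots) : Fin D.nroots).val) →
      (Rs.map fun h => hF.xg (β h) (1 : F)).prod = (Rs.map fun h => hF.xg h (c h)).prod →
      ∀ h ∈ Rs, β h = h ∧ c h = 1) :
    D.group F ⊓ Subgroup.centralizer ({zElt hF Rs} : Set (GL D.Idx F)) ≤ cand L := by
  classical
  set T := hF.tsys F with hT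
  set z := zElt hF (F := F) Rs with hz
  set C := Subgroup.centralizer ({z} : Set (GL D.Idx F)) with hC
  have hcand : ∀ y ∈ cand (F := F) (D := D) L, y ∈ C := fun y hy => (Subgroup.mem_inf.1 (cand_le_cent hF hd hy)).2
  intro g hg
  obtain ⟨b, hb, w, u, hu, rfl⟩ := hF.mem_bnu (Subgroup.mem_inf.1 hg).1
  have huU : u ∈ cand (F := F) (D := D) L :=
    U_le_cand hF (CommSys.US_mono _ (fun r hr => Facts.mem_posL.2 ((TorusSys.closed_invList w).mem_pos r hr)) hu)
  obtain ⟨v, hv, a, ha, rfl⟩ := T.mem_B.1 hb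
  have hvc : v ∈ cand (F := F) (D := D) L := U_le_cand hF hv
  have han : a * T.nW w ∈ C := by
    have := mul_mem (mul_mem (inv_mem (hcand v hvc)) (Subgroup.mem_inf.1 hg).2) (inv_mem (hcand u huU))
    rwa [show v⁻¹ * (v * a * T.nW w * u) * u⁻¹ = a * T.nW w by group] at this
  have ha' := ha
  rw [hT, hF.tsys_H, hF.diagonalSubgroup_eq F] at ha'
  obtain ⟨c, rfl⟩ := ha'
  let β : ℕ → ℕ := fun h => if hh : h < D.nroots then (w • (⟨h, hh⟩ : Fin D.nroots) : Fin D.nroots).val else h
  have hn : ∀ h ∈ Rs, T.nW w * hF.xg h (1 : F) * (T.nW w)⁻¹ = hF.xg (β h) 1 := by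
    intro h hh
    have hlt := (hd.rs h hh).2
    obtain ⟨e, he, heq⟩ := hF.nW_conj (F := F) w ⟨h, hlt⟩
    have he1 : e = 1 := by
      rcases mul_self_eq_one_iff.1 he with h' | h'
      · exact h'
      · rw [h', CharTwo.neg_eq]
    have h2 := heq 1
    rw [he1, one_mul] at h2
    simp only [β, dif_pos hlt]
    exact h2
  have hprod : (Rs.map fun h => hF.xg (β h) (1 : F)).prod =
      (Rs.map fun h => hF.xg h ((torChar D c⁻¹ h : Fˣ) : F)).prod := by
    have h1 : MulAut.conj (T.nW w) z = MulAut.conj ((torus D F c)⁻¹) z := by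
      have h' := Subgroup.mem_centralizer_singleton_iff.1 han
      simp only [MulAut.conj_apply, inv_inv]
      calc T.nW w * z * (T.nW w)⁻¹
          = (torus D F c)⁻¹ * (torus D F c * T.nW w * z) * (T.nW w)⁻¹ := by group
        _ = (torus D F c)⁻¹ * (z * (torus D F c * T.nW w)) * (T.nW w)⁻¹ := by rw [h']
        _ = (torus D F c)⁻¹ * z * torus D F c := by group
    rw [hz, zElt, map_list_prod, map_list_prod, List.map_map, List.map_map] at h1
    refine Eq.trans ?_ (h1.trans ?_) <;> congr 1 <;> refine List.map_congr_left fun h hh => ?_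
    · exact (hn h hh).symm
    · show MulAut.conj ((torus D F c)⁻¹) (hF.xg h 1) = _
      rw [MulAut.conj_apply, ← map_inv, hF.torus_conj _ (hd.rs h hh).2, mul_one]
  have hs := hsep w β (fun h => ((torChar D c⁻¹ h : Fˣ) : F)) (fun h => Units.ne_zero _)
    (fun h _ hh => dif_pos hh) hprod
  have hfix : ∀ h ∈ Rs, ∀ hh : h < D.nroots, w • (⟨h, hh⟩ : Fin D.nroots) = ⟨h, hh⟩ := by
    intro h hh hlt
    have := (hs h hh).1
    simp only [β, dif_pos hlt] at this
    exact Fin.ext this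
  obtain ⟨ω, hω, hω0⟩ := fix_word hF hd _ w rfl hfix
  have hng : ∀ i : Fin D.rank, (∀ h ∈ Rs, D.cartan i.val h = 0) → ∀ c : F, ∀ p ∈ D.nWord (D.simple i.val) c,
      hF.xg p.1 p.2 ∈ cand (F := F) (D := D) L := by
    intro i hi c p hp
    have hL : D.neg (D.simple i.val) ∈ L := by
      rcases hd.simple _ i.isLt with ⟨-, e, -⟩ | ⟨h', hh', e, -⟩
      · exact e
      · rw [hi h' hh'] at e
        exact absurd e (by norm_num)
    have hp' : ∀ y, hF.xg (D.simple i.val) y ∈ cand (F := F) (D := D) L := fun y =>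
      U_le_cand hF ((hF.tsys F).x_mem_U (hF.simple_ge _ i.isLt) (hF.simple_lt _ i.isLt) y)
    simp only [ChevalleyDatum.nWord, List.mem_cons, List.not_mem_nil, or_false] at hp
    rcases hp with rfl | rfl | rfl
    exacts [hp' _, xg_mem_cand hF hL _, hp' _]
  have hnw : T.nw ω ∈ cand (F := F) (D := D) L := by
    refine Subgroup.list_prod_mem _ fun y hy => ?_
    obtain ⟨i, hi, rfl⟩ := List.mem_map.1 hy
    rw [hT, hF.tsys_nS]
    exact hF.wg_mem (hng i (hω0 i hi) 1)
  obtain ⟨d, hd', hdeq⟩ := T.nw_eq (ω := ω) (w := w) hω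
  have had : torus D F c * d⁻¹ ∈ cand (F := F) (D := D) L := by
    have hH := mul_mem ha (inv_mem hd')
    rw [hT, hF.tsys_H, hF.diagonalSubgroup_eq F] at hH
    obtain ⟨c', hc'⟩ := hH
    have hone : ∀ h ∈ Rs, torChar D c' h = 1 := by
      intro h hh
      have hlt := (hd.rs h hh).2
      have e1 : d⁻¹ * hF.xg h (1 : F) * d = hF.xg h 1 := by
        have e2 := (cand_comm hF hd hh hnw (1 : F)).eq
        have e3 := hn h hh
        rw [(hs h hh).1] at e3
        rw [hdeq] at e2
        calc d⁻¹ * hF.xg h (1 : F) * d = d⁻¹ * (hF.xg h (1 : F) * (d * T.nW w)) * (T.nW w)⁻¹ := by group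
          _ = d⁻¹ * ((d * T.nW w) * hF.xg h (1 : F)) * (T.nW w)⁻¹ := by rw [e2]
          _ = T.nW w * hF.xg h (1 : F) * (T.nW w)⁻¹ := by group
          _ = _ := e3
      have e4 : torus D F c * hF.xg h (1 : F) * (torus D F c)⁻¹ = hF.xg h 1 := by
        have e5 := hF.torus_conj c⁻¹ hlt (1 : F)
        rw [(hs h hh).2, mul_one, map_inv, inv_inv] at e5
        calc torus D F c * hF.xg h (1 : F) * (torus D F c)⁻¹
            = torus D F c * ((torus D F c)⁻¹ * hF.xg h (1 : F) * torus D F c) * (torus D F c)⁻¹ := by rw [e5]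
          _ = _ := by group
      have e6 := hF.torus_conj c' hlt (1 : F)
      rw [hc', mul_one] at e6
      have e7 : hF.xg h ((torChar D c' h : Fˣ) : F) = hF.xg h 1 := by
        rw [← e6]
        calc torus D F c * d⁻¹ * hF.xg h (1 : F) * (torus D F c * d⁻¹)⁻¹
            = torus D F c * (d⁻¹ * hF.xg h (1 : F) * d) * (torus D F c)⁻¹ := by group
          _ = _ := by rw [e1, e4]
      exact Units.ext (root_eq hF hlt (hd.rs h hh).1 hlt (Units.ne_zero _) one_ne_zero e7).2
    rw [← hc']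
    refine Subgroup.pi_mem_of_mulSingle_mem (H := (cand (F := F) (D := D) L).comap (torus D F)) c' fun i => ?_
    rw [Subgroup.mem_comap]
    rcases hd.simple _ i.isLt with ⟨hi, -, -⟩ | ⟨h, hh, e, e'⟩
    · rw [hF.torus_single]
      refine hF.wg_mem fun p hp => ?_
      rcases List.mem_append.1 hp with h' | h'
      · exact hng i hi _ p h'
      · exact hng i hi _ p h'
    · have h3 : c' i = 1 := by
        have h2 := hone h hh
        rw [torChar, Finset.prod_eq_single i] at h2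
        · rwa [e, zpow_one] at h2
        · intro j _ hj
          rw [e' j.val j.isLt fun h'' => hj (Fin.ext h''), zpow_zero]
        · simp
      rw [h3, Pi.mulSingle_one, map_one]
      exact one_mem _
  have : v * torus D F c * T.nW w * u = v * (torus D F c * d⁻¹) * T.nw ω * u := by rw [hdeq]; group
  rw [this]
  exact mul_mem (mul_mem (mul_mem hvc had) hnw) huU

end Cfsg.Agent.Small.ChevDomCent
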