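import Cfsg.Agent.Lib.Small.ChevRootPairs
import Mathlib.Algebra.Group.Subgroup.Finite

/-!
Centralizer of a long root involution x_h(1) when the highest root pairs with one fundamental root only.
-/

set_option autoImplicit false

namespace Cfsg.Agent.Small.ChevRootCent

open Cfsg.Lie Cfsg.Agent.Lie
open scoped MatrixGroups

/-- The combinatorial facts needed. -/
def okCent (D : ChevalleyDatum) (i0 : ℕ) (L : List ℕ) : Bool :=
  let h := D.nroots - 1
  decide (0 < D.nroots) &&
  (L.all fun s => decide (s < D.nroots) && !(s == h) && !(s == 0) && (D.commTerms h s).isEmpty) &&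
  ((List.range D.rank).all fun i => (i == i0 && decide (D.cartan i h = 1)) ||
    (!(i == i0) && decide (D.cartan i h = 0) && L.contains (D.neg (D.simple i)) && D.reflectRoot i h == h)) &&
  ((List.range (D.nroots / 2)).all fun r => decide (D.pairing r h ≤ 0))

theorem okE6 : okCent chevE6 1 [15, 29, 32, 34, 35] = true := by decide +kernel
theorem okE7 : okCent chevE7 0 [47, 52, 56, 59, 61, 62] = true := by decide +kernel
theorem okE8 : okCent chevE8 7 [77, 98, 104, 109, 113, 116, 118] = true := by decide +kernel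

variable {D : ChevalleyDatum} {F : Type*} [Field F] (hF : Facts D)

structure Data (D : ChevalleyDatum) (i0 : ℕ) (L : List ℕ) : Prop where
  pos : 0 < D.nroots
  mem : ∀ s ∈ L, s < D.nroots ∧ s ≠ D.nroots - 1 ∧ s ≠ 0 ∧ D.commTerms (D.nroots - 1) s = []
  simple : ∀ i, i < D.rank → i ≠ i0 → D.cartan i (D.nroots - 1) = 0 ∧ D.neg (D.simple i) ∈ L ∧
    D.reflectRoot i (D.nroots - 1) = D.nroots - 1
  special : ∀ i, i < D.rank → i = i0 → D.cartan i (D.nroots - 1) = 1
  pairing : ∀ r, r < D.nroots / 2 → D.pairing r (D.nroots - 1) ≤ 0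

theorem data_of_ok {i0 : ℕ} {L : List ℕ} (h : okCent D i0 L = true) : Data D i0 L := by
  simp only [okCent, Bool.and_eq_true, Bool.or_eq_true, List.all_eq_true, List.mem_range,
    decide_eq_true_eq, beq_iff_eq, Bool.not_eq_true', beq_eq_false_iff_ne, List.isEmpty_iff,
    List.contains_iff_mem] at h
  obtain ⟨⟨⟨h0, h1⟩, h2⟩, h3⟩ := h
  refine ⟨h0, fun s hs => ?_, fun i hi hne => ?_, fun i hi he => ?_, h3⟩
  · obtain ⟨⟨⟨a, b⟩, c⟩, d⟩ := h1 s hs
    exact ⟨a, b, c, d⟩
  · rcases h2 i hi with ⟨a, -⟩ | ⟨⟨⟨-, b⟩, c⟩, d⟩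
    · exact absurd a hne
    · exact ⟨b, c, d⟩
  · rcases h2 i hi with ⟨-, b⟩ | ⟨⟨⟨a, -⟩, -⟩, -⟩
    · exact b
    · exact absurd he a

/-- The candidate for the centralizer. -/
noncomputable def cand (L : List ℕ) : Subgroup (GL D.Idx F) :=
  D.posUnipotent F ⊔ Subgroup.closure
    {g : GL D.Idx F | ∃ s ∈ L, ∃ c : F, (g : Matrix D.Idx D.Idx F) = D.x F s c}

include hF in
theorem xg_mem_cand {L : List ℕ} {s : ℕ} (hs : s ∈ L) (c : F) : hF.xg s c ∈ cand (F := F) (D := D) L :=
  Subgroup.mem_sup_right (Subgroup.subset_closure ⟨s, hs, c, Facts.coe_xg hF s c⟩)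

include hF in
theorem pos_mem_cand {L : List ℕ} {r : ℕ} (h1 : D.nroots / 2 ≤ r) (h2 : r < D.nroots) (c : F) :
    hF.xg r c ∈ cand (F := F) (D := D) L := by
  refine Subgroup.mem_sup_left ?_
  rw [← hF.tsys_U]
  exact (hF.tsys F).x_mem_U h1 h2 c

include hF in
theorem cand_le {L : List ℕ} {K : Subgroup (GL D.Idx F)}
    (hpos : ∀ r, D.nroots / 2 ≤ r → r < D.nroots → ∀ c : F, hF.xg r c ∈ K)
    (hL : ∀ s ∈ L, ∀ c : F, hF.xg s c ∈ K) : cand L ≤ K := by
  refine sup_le ?_ ((Subgroup.closure_le _).2 ?_)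
  · rw [← hF.tsys_U]
    exact CommSys.US_le _ fun r hr t => hpos r (Facts.mem_posL.1 hr).1 (Facts.mem_posL.1 hr).2 t
  · rintro g ⟨s, hs, c, hc⟩
    have : g = hF.xg s c := Units.ext (hc.trans (Facts.coe_xg hF s c).symm)
    exact this ▸ hL s hs c

include hF in
theorem fix_word {i0 : ℕ} {L : List ℕ} (hd : Data D i0 L) (hh : D.nroots - 1 < D.nroots) :
    ∀ n (w : hF.weyl), hF.refSys.len w = n → w • (⟨D.nroots - 1, hh⟩ : Fin D.nroots) = ⟨D.nroots - 1, hh⟩ →
      ∃ ω : List (Fin D.rank), hF.refSys.pr ω = w ∧ ∀ i ∈ ω, i.val ≠ i0 := by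
  intro n
  induction n using Nat.strong_induction_on with
  | _ n ih =>
    intro w hn hfix
    obtain ⟨ω, hω, hlen⟩ := hF.refSys.exists_reduced w
    rcases List.eq_nil_or_concat' ω with rfl | ⟨ω', i, rfl⟩
    · exact ⟨[], hω, by simp⟩
    rw [RefSystem.pr_append, RefSystem.pr_singleton] at hω
    rw [List.length_append, List.length_singleton] at hlen
    have h3 : w * hF.refSys.s i = hF.refSys.pr ω' := by
      rw [← hω, mul_assoc, hF.refSys.sq, mul_one]
    have hlt : hF.refSys.len (w * hF.refSys.s i) < n := by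
      rw [h3]
      have := hF.refSys.len_pr_le ω'
      omega
    have hneg : w • hF.refSys.α i ∉ hF.refSys.P := by
      intro hP
      have h1 := hF.refSys.len_mul_s_of_mem hP
      omega
    have hi0 : i.val ≠ i0 := by
      intro hi
      have h1 := hF.weyl_pairing w (hF.refSys.α i) ⟨D.nroots - 1, hh⟩
      rw [hfix] at h1
      have h2 : (w • hF.refSys.α i : Fin D.nroots).val < D.nroots / 2 := by
        simpa [Facts.refSys] using hneg
      have h4 := hd.pairing _ h2
      have h5 : D.pairing (D.simple i.val) (D.nroots - 1) = D.cartan i.val (D.nroots - 1) := by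
        rw [pairing_eq, Finset.sum_eq_single i.val]
        · rw [hF.co_simple i.val i.isLt i.val i.isLt, if_pos rfl, one_mul]
        · intro j hj hne
          rw [hF.co_simple i.val i.isLt j (Finset.mem_range.1 hj), if_neg hne, zero_mul]
        · exact fun hni => absurd (Finset.mem_range.2 i.isLt) hni
      rw [h1, show (hF.refSys.α i).val = D.simple i.val from rfl, h5, hd.special _ i.isLt hi] at h4
      omega
    have hfix' : (w * hF.refSys.s i) • (⟨D.nroots - 1, hh⟩ : Fin D.nroots) = ⟨D.nroots - 1, hh⟩ := by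
      rw [mul_smul]
      have : hF.refSys.s i • (⟨D.nroots - 1, hh⟩ : Fin D.nroots) = ⟨D.nroots - 1, hh⟩ :=
        Fin.ext (hd.simple _ i.isLt hi0).2.2
      rw [this, hfix]
    obtain ⟨ω₀, h6, h7⟩ := ih _ hlt _ rfl hfix'
    refine ⟨ω₀ ++ [i], ?_, ?_⟩
    · rw [RefSystem.pr_append, RefSystem.pr_singleton, h6, mul_assoc, hF.refSys.sq, mul_one]
    · simp only [List.mem_append, List.mem_singleton]
      rintro j (hj | rfl)
      · exact h7 j hj
      · exact hi0

include hF in
theorem cand_le_cent {i0 : ℕ} {L : List ℕ} (hd : Data D i0 L) :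
    cand L ≤ D.group F ⊓ Subgroup.centralizer ({hF.xg (D.nroots - 1) 1} : Set (GL D.Idx F)) := by
  have hh : D.nroots - 1 < D.nroots := by have := hd.pos; omega
  refine cand_le hF (fun r h1 h2 c => ⟨hF.xg_mem_group r c, ?_⟩) (fun s hs c => ⟨hF.xg_mem_group s c, ?_⟩)
  · refine Subgroup.mem_centralizer_singleton_iff.2 ?_
    by_cases he : r = D.nroots - 1
    · subst he
      rw [← hF.xg_add, ← hF.xg_add, add_comm]
    have := ChevRootPairs.commute_of_empty hF h2 hh (Ne.symm he)
      (by rw [hF.neg_eq r h2]; omega)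
      (List.eq_nil_iff_forall_not_mem.2 fun e he' => by
        have := hF.commTerms_gt h2 hh h1 (by have := hF.even; omega) he'
        omega) c (1 : F)
    exact this.eq
  · refine Subgroup.mem_centralizer_singleton_iff.2 ?_
    obtain ⟨h1, h2, h3, h4⟩ := hd.mem s hs
    exact (ChevRootPairs.commute_of_empty hF hh h1 h2 (by rw [hF.neg_eq _ hh]; omega) h4 (1 : F) c).eq.symm

include hF in
theorem cent_le_cand [CharP F 2] {i0 : ℕ} {L : List ℕ} (hd : Data D i0 L) :
    D.group F ⊓ Subgroup.centralizer ({hF.xg (D.nroots - 1) 1} : Set (GL D.Idx F)) ≤ cand L := by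
  have hh : D.nroots - 1 < D.nroots := by have := hd.pos; omega
  have hp : D.nroots / 2 ≤ D.nroots - 1 := by have := hF.even; omega
  set T := hF.tsys F with hT
  set X := hF.xg (D.nroots - 1) (1 : F) with hX
  set C := Subgroup.centralizer ({X} : Set (GL D.Idx F)) with hC
  have hcand : ∀ y ∈ cand (F := F) (D := D) L, y ∈ C := fun y hy => (Subgroup.mem_inf.1 (cand_le_cent hF hd hy)).2
  intro g hg
  obtain ⟨b, hb, w, u, hu, rfl⟩ := hF.mem_bnu hg.1
  have huU : u ∈ cand (F := F) (D := D) L := by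
    refine Subgroup.mem_sup_left ?_
    rw [← hF.tsys_U]
    exact CommSys.US_mono _ (fun r hr => Facts.mem_posL.2 ((TorusSys.closed_invList w).mem_pos r hr)) hu
  have hbn : b * T.nW w ∈ C := by
    have := mul_mem (Subgroup.mem_inf.1 hg).2 (inv_mem (hcand u huU))
    rwa [mul_inv_cancel_right] at this
  obtain ⟨e, he, heq⟩ := hF.nW_conj (F := F) w ⟨D.nroots - 1, hh⟩
  set β := (w • (⟨D.nroots - 1, hh⟩ : Fin D.nroots) : Fin D.nroots) with hβ
  have he1 : e = 1 := by
    rcases mul_self_eq_one_iff.1 he with h | h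
    · exact h
    · rw [h, CharTwo.neg_eq]
  have hbx : b * hF.xg β.val 1 * b⁻¹ = X := by
    have h1 := Subgroup.mem_centralizer_singleton_iff.1 hbn
    have h2 := heq 1
    rw [he1, one_mul] at h2
    rw [← h2]
    calc b * (T.nW w * X * (T.nW w)⁻¹) * b⁻¹ = b * T.nW w * X * (b * T.nW w)⁻¹ := by group
      _ = X := by rw [h1, mul_inv_cancel_right]
  have hmem : hF.xg β.val (1 : F) ∈ D.rootSubgroup F (D.nroots - 1) := by
    rw [← ChevRootPairs.conj_highest hF (inv_mem hb)]
    refine ⟨X, ?_, ?_⟩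
    · rw [SetLike.mem_coe, ChevRootPairs.rootSubgroup_eq hF]
      exact CommSys.x_mem_X _ _ _
    · show b⁻¹ * X * b⁻¹⁻¹ = _
      rw [← hbx]; group
  rw [ChevRootPairs.rootSubgroup_eq hF] at hmem
  obtain ⟨t, ht⟩ := CommSys.mem_X _ |>.1 hmem
  change hF.xg (D.nroots - 1) t = hF.xg β.val (1 : F) at ht
  have hβh : β = ⟨D.nroots - 1, hh⟩ := by
    by_contra hne
    have hne' : β.val ≠ D.nroots - 1 := fun h => hne (Fin.ext h)
    have h1 : hF.xg β.val (1 : F) ≠ 1 := by
      intro h
      have h4 := congrArg Units.val h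
      rw [Facts.coe_xg, Units.val_one, hF.x_eq_one _ β.isLt] at h4
      exact one_ne_zero h4
    rcases lt_or_ge β.val (D.nroots / 2) with hl | hl
    · refine h1 (hF.B_inter_V ?_ (hF.x_mem_negUnipotent hl _))
      rw [← ht]
      exact T.U_le_B (T.x_mem_U hp hh t)
    · have h2 : hF.xg β.val (1 : F) ∈ hF.raiseSubgroup ((hF.psi β.val).toNat + 1) := by
        rw [← ht]
        exact hF.xg_mem_raise_succ β.isLt hl (by have := β.isLt; omega) hh t
      exact one_ne_zero (hF.xg_eq_zero_of_mem_raise β.isLt hl h2)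
  obtain ⟨ω, hω, hω0⟩ := fix_word hF hd hh _ w rfl hβh
  have hsimple : ∀ i : Fin D.rank, i.val ≠ i0 → ∀ c : F,
      hF.xg (D.simple i.val) c ∈ cand (F := F) (D := D) L ∧
        hF.xg (D.neg (D.simple i.val)) c ∈ cand (F := F) (D := D) L := fun i hi c =>
    ⟨pos_mem_cand hF (hF.simple_ge _ i.isLt) (hF.simple_lt _ i.isLt) c,
      xg_mem_cand hF (hd.simple _ i.isLt hi).2.1 c⟩
  have hng : ∀ i : Fin D.rank, i.val ≠ i0 → ∀ c : F, ∀ p ∈ D.nWord (D.simple i.val) c,
      hF.xg p.1 p.2 ∈ cand (F := F) (D := D) L := by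
    intro i hi c p hp
    simp only [ChevalleyDatum.nWord, List.mem_cons, List.not_mem_nil, or_false] at hp
    rcases hp with rfl | rfl | rfl
    exacts [(hsimple i hi _).1, (hsimple i hi _).2, (hsimple i hi _).1]
  have hnw : T.nw ω ∈ cand (F := F) (D := D) L := by
    refine Subgroup.list_prod_mem _ fun y hy => ?_
    obtain ⟨i, hi, rfl⟩ := List.mem_map.1 hy
    rw [hT, hF.tsys_nS]
    exact hF.wg_mem (hng i (hω0 i hi) 1)
  obtain ⟨d, hd', hdeq⟩ := T.nw_eq (ω := ω) (w := w) hω
  obtain ⟨v, hv, a, ha, rfl⟩ := T.mem_B.1 hb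
  have hvc : v ∈ cand (F := F) (D := D) L := by
    refine Subgroup.mem_sup_left ?_
    rw [← hF.tsys_U]
    exact hv
  have key : ∀ y ∈ T.H, y ∈ C → y ∈ cand (F := F) (D := D) L := by
    intro y hy hyC
    rw [hT, hF.tsys_H, hF.diagonalSubgroup_eq F] at hy
    obtain ⟨c, rfl⟩ := hy
    have h1 := Subgroup.mem_centralizer_singleton_iff.1 hyC
    rw [hX, ← mul_inv_eq_iff_eq_mul, hF.torus_conj c hh 1, mul_one] at h1
    have h2 : torChar D c (D.nroots - 1) = 1 := by
      ext
      have h3 : hF.xg (D.nroots - 1) ((torChar D c (D.nroots - 1) : F) - 1) = 1 := by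
        rw [sub_eq_add_neg, hF.xg_add, hF.xg_neg, h1, mul_inv_cancel]
      have h4 := congrArg Units.val h3
      rw [Facts.coe_xg, Units.val_one, hF.x_eq_one _ hh, sub_eq_zero] at h4
      simpa using h4
    refine Subgroup.pi_mem_of_mulSingle_mem (H := (cand (F := F) (D := D) L).comap (torus D F)) c fun i => ?_
    rw [Subgroup.mem_comap]
    by_cases hi : i.val = i0
    · have h3 : c i = 1 := by
        rw [torChar, Finset.prod_eq_single i] at h2
        · rwa [hd.special _ i.isLt hi, zpow_one] at h2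
        · intro j _ hj
          rw [(hd.simple _ j.isLt fun h => hj (Fin.ext (h.trans hi.symm))).1, zpow_zero]
        · simp
      rw [h3, Pi.mulSingle_one, map_one]
      exact one_mem _
    · rw [hF.torus_single]
      refine hF.wg_mem fun p hp => ?_
      rcases List.mem_append.1 hp with h | h
      · exact hng i hi _ p h
      · exact hng i hi _ p h
  have had : a * d⁻¹ ∈ cand (F := F) (D := D) L := by
    refine key _ (mul_mem ha (inv_mem hd')) ?_
    have : a * d⁻¹ = v⁻¹ * (v * a * T.nW w) * (T.nw ω)⁻¹ := by rw [hdeq]; group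
    rw [this]
    exact mul_mem (mul_mem (inv_mem (hcand v hvc)) hbn) (inv_mem (hcand _ hnw))
  have : v * a * T.nW w * u = v * (a * d⁻¹) * T.nw ω * u := by rw [hdeq]; group
  rw [this]
  exact mul_mem (mul_mem (mul_mem hvc had) hnw) huU

end Cfsg.Agent.Small.ChevRootCent
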