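import Cfsg.Agent.Lib.Lie.BruhatAux
import Cfsg.Agent.Lib.Lie.AllFacts
import Mathlib.GroupTheory.PGroup

/-!
The subgroup generated by two conjugates of the highest root subgroup in characteristic two.
-/

set_option autoImplicit false

namespace Cfsg.Agent.Small.ChevRootPairs

open Cfsg.Lie Cfsg.Agent.Lie
open scoped MatrixGroups

/-- The long roots (a union of Weyl orbits containing the highest root). -/
def longL (D : ChevalleyDatum) : List ℕ :=
  if D.rank = 2 then (List.range D.nroots).filter fun s =>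
    (List.range D.nroots).all fun r => r == s || r == D.neg s || decide ((D.pairing s r).natAbs ≤ 1)
  else List.range D.nroots

/-- The commutator of the highest root and s has at most one root, commuting with both. -/
def okPair (D : ChevalleyDatum) (s : ℕ) : Bool :=
  let h := D.nroots - 1
  let L := D.commTerms h s
  s == h || s == 0 || L.all fun c =>
    decide (c.1 = (L.map Prod.fst).headD h) && decide (c.1 < D.nroots) && !(c.1 == 0) && !(c.1 == h) &&
      !(c.1 == s) && !(c.1 == D.neg s) && (D.commTerms h c.1).isEmpty && (D.commTerms s c.1).isEmpty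

/-- The long roots are closed under reflections and every one is good. -/
def okLong (D : ChevalleyDatum) : Bool :=
  (longL D).contains (D.nroots - 1) &&
    (longL D).all fun s => okPair D s &&
      (List.range D.rank).all fun i => (longL D).contains (D.reflectRoot i s)

theorem okLongG2 : okLong chevG2 = true := by decide +kernel
theorem okLongD4 : okLong chevD4 = true := by decide +kernel
theorem okLongE6 : okLong chevE6 = true := by decide +kernel
theorem okLongE7 : okLong chevE7 = true := by decide +kernel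
theorem okLongE8 : okLong chevE8 = true := by decide +kernel

/-- Three elementary abelian 2-subgroups, the third central, with [B, A] inside the third. -/
theorem isPGroup_sup {Γ : Type*} [Group Γ] (A B C : Subgroup Γ) (hA : ∀ a ∈ A, a * a = 1)
    (hB : ∀ b ∈ B, b * b = 1) (hC : ∀ c ∈ C, c * c = 1) (hAC : ∀ a ∈ A, ∀ c ∈ C, Commute a c)
    (hBC : ∀ b ∈ B, ∀ c ∈ C, Commute b c) (hBA : ∀ b ∈ B, ∀ a ∈ A, ∃ c ∈ C, b * a * b⁻¹ = a * c) :
    IsPGroup 2 ↥(A ⊔ B) := by
  have two : ∀ S : Subgroup Γ, (∀ a ∈ S, a * a = 1) → IsPGroup 2 S := fun S hS a =>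
    ⟨1, Subtype.ext (by rw [pow_one, pow_two]; simpa using hS a.1 a.2)⟩
  have hN : A ≤ Subgroup.normalizer (C : Set Γ) := by
    rw [Subgroup.le_normalizer_iff]
    intro a ha c hc
    rwa [(hAC a ha c hc).eq, mul_inv_cancel_right]
  have hAC2 : IsPGroup 2 ↥(A ⊔ C) := IsPGroup.to_sup_of_normal_right' (two A hA) (two C hC) hN
  have hconj : ∀ b ∈ B, ∀ y ∈ A ⊔ C, b * y * b⁻¹ ∈ A ⊔ C := by
    intro b hb y hy
    suffices A ⊔ C ≤ (A ⊔ C).comap (MulAut.conj b).toMonoidHom from this hy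
    refine sup_le (fun a ha => ?_) (fun c hc => ?_)
    · obtain ⟨c, hc, he⟩ := hBA b hb a ha
      show b * a * b⁻¹ ∈ A ⊔ C
      rw [he]
      exact mul_mem (Subgroup.mem_sup_left ha) (Subgroup.mem_sup_right hc)
    · show b * c * b⁻¹ ∈ A ⊔ C
      rw [(hBC b hb c hc).eq, mul_inv_cancel_right]
      exact Subgroup.mem_sup_right hc
  have hN2 : B ≤ Subgroup.normalizer ((A ⊔ C : Subgroup Γ) : Set Γ) :=
    Subgroup.le_normalizer_iff.2 hconj
  have h3 : IsPGroup 2 ↥(B ⊔ (A ⊔ C)) := IsPGroup.to_sup_of_normal_right' (two B hB) hAC2 hN2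
  exact h3.to_le (sup_le (le_sup_left.trans le_sup_right) le_sup_left)

variable {D : ChevalleyDatum} {F : Type*} [Field F] (hF : Facts D)

theorem mem_long (hok : okLong D = true) (w : hF.weyl) (s : Fin D.nroots) (hs : s.val ∈ longL D) :
    (w • s : Fin D.nroots).val ∈ longL D := by
  obtain ⟨ω, rfl⟩ := hF.refSys.exists_word w
  induction ω with
  | nil => simpa [RefSystem.pr] using hs
  | cons i ω ih =>
    rw [RefSystem.pr_cons, mul_smul]
    show (hF.wS i • _ : Fin D.nroots).val ∈ _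
    rw [Facts.wS_smul]
    simp only [okLong, Bool.and_eq_true, List.all_eq_true, List.mem_range, List.contains_iff_mem] at hok
    exact (hok.2 _ ih).2 i.val i.isLt

theorem commute_of_empty {r s : ℕ} (hr : r < D.nroots) (hs : s < D.nroots) (h1 : s ≠ r)
    (h2 : s ≠ D.neg r) (h : D.commTerms r s = []) (t u : F) :
    Commute (hF.xg r t) (hF.xg s u) := by
  have := (hF.tsys F).x_comm r s hr hs h1 h2 t u
  simp only [ChevalleyDatum.commWord, h, List.map_nil, List.prod_nil, mul_one] at this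
  exact this.symm

theorem rootSubgroup_eq (r : ℕ) : D.rootSubgroup F r = (hF.tsys F).X r := by
  unfold ChevalleyDatum.rootSubgroup CommSys.X
  congr 1
  ext g
  constructor
  · rintro ⟨t, ht⟩
    exact ⟨t, Units.ext ((Facts.coe_xg hF r t).trans ht.symm)⟩
  · rintro ⟨t, rfl⟩
    exact ⟨t, Facts.coe_xg hF r t⟩

include hF in
theorem sq_eq_one [CharP F 2] (r : ℕ) : ∀ g ∈ D.rootSubgroup F r, g * g = 1 := by
  intro g hg
  rw [rootSubgroup_eq hF] at hg
  obtain ⟨t, rfl⟩ := CommSys.mem_X _ |>.1 hg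
  show hF.xg r t * hF.xg r t = 1
  rw [← hF.xg_add, CharTwo.add_self_eq_zero, hF.xg_zero]

include hF in
theorem isPGroup_pair [CharP F 2] (hok : okLong D = true) {s : ℕ} (hs : s < D.nroots) (hsL : s ∈ longL D)
    (hne : s ≠ 0) :
    IsPGroup 2 ↥(D.rootSubgroup F (D.nroots - 1) ⊔ D.rootSubgroup F s) := by
  have two : IsPGroup 2 (D.rootSubgroup F (D.nroots - 1)) := fun a =>
    ⟨1, Subtype.ext (by rw [pow_one, pow_two]; simpa using sq_eq_one hF _ a.1 a.2)⟩
  by_cases hsh : s = D.nroots - 1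
  · subst hsh
    rwa [sup_idem]
  simp only [okLong, Bool.and_eq_true, List.all_eq_true] at hok
  have hp := (hok.2 s hsL).1
  simp only [okPair, Bool.or_eq_true, beq_iff_eq, hsh, hne, false_or, List.all_eq_true,
    Bool.and_eq_true, Bool.not_eq_true', beq_eq_false_iff_ne, decide_eq_true_eq,
    List.isEmpty_iff] at hp
  have hh : D.nroots - 1 < D.nroots := by omega
  have hsneg : s ≠ D.neg (D.nroots - 1) := by rw [hF.neg_eq _ hh]; omega
  set h := D.nroots - 1 with hdef
  set γ := ((D.commTerms h s).map Prod.fst).headD h with hγ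
  have hγc : D.commTerms h s = [] ∧ γ = h ∨ ∃ c ∈ D.commTerms h s, c.1 = γ := by
    rcases hL : D.commTerms h s with _ | ⟨c, L⟩
    · exact Or.inl ⟨rfl, by rw [hγ, hL]; rfl⟩
    · exact Or.inr ⟨c, List.mem_cons_self .., by rw [hγ, hL]; rfl⟩
  have hAC : ∀ t u : F, Commute (hF.xg h t) (hF.xg γ u) := by
    intro t u
    rcases hγc with ⟨-, e⟩ | ⟨c, hc, e⟩
    · rw [e]
      show hF.xg h t * hF.xg h u = hF.xg h u * hF.xg h t
      rw [← hF.xg_add, ← hF.xg_add, add_comm]
    · obtain ⟨⟨⟨⟨⟨⟨⟨-, h1⟩, h2⟩, h3⟩, -⟩, -⟩, h6⟩, -⟩ := hp c hc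
      rw [← e]
      exact commute_of_empty hF hh h1 h3 (by rw [hF.neg_eq _ hh]; omega) h6 t u
  have hBC : ∀ t u : F, Commute (hF.xg s t) (hF.xg γ u) := by
    intro t u
    rcases hγc with ⟨e0, e⟩ | ⟨c, hc, e⟩
    · rw [e]
      exact (commute_of_empty hF hh hs hsh hsneg e0 u t).symm
    · obtain ⟨⟨⟨⟨⟨⟨⟨-, h1⟩, -⟩, -⟩, h4⟩, h5⟩, -⟩, h7⟩ := hp c hc
      rw [← e]
      exact commute_of_empty hF hs h1 h4 h5 h7 t u
  refine isPGroup_sup _ _ (D.rootSubgroup F γ) (sq_eq_one hF h) (sq_eq_one hF s) (sq_eq_one hF γ)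
    ?_ ?_ ?_ <;> simp only [rootSubgroup_eq hF, CommSys.mem_X]
  · rintro _ ⟨t, rfl⟩ _ ⟨u, rfl⟩
    exact hAC t u
  · rintro _ ⟨t, rfl⟩ _ ⟨u, rfl⟩
    exact hBC t u
  · rintro _ ⟨u, rfl⟩ _ ⟨t, rfl⟩
    have key := (hF.tsys F).x_comm h s hh hs hsh hsneg t u
    have hprod : ((D.commWord F h s t u).map fun p => (hF.tsys F).x p.1 p.2).prod ∈ (hF.tsys F).X γ := by
      refine Subgroup.list_prod_mem _ fun g hg => ?_
      obtain ⟨p, hp', rfl⟩ := List.mem_map.1 hg
      obtain ⟨c, hc, rfl⟩ := List.mem_map.1 hp'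
      rw [show c.1 = γ from (hp c hc).1.1.1.1.1.1.1]
      exact CommSys.x_mem_X _ γ _
    obtain ⟨v, hv⟩ := CommSys.mem_X _ |>.1 hprod
    refine ⟨_, ⟨v, rfl⟩, ?_⟩
    rw [hv.symm] at key
    show hF.xg s u * hF.xg h t * (hF.xg s u)⁻¹ = hF.xg h t * hF.xg γ v
    rw [mul_inv_eq_iff_eq_mul]
    rw [mul_assoc (hF.xg h t), ← (hBC u v).eq, ← mul_assoc]
    exact key

include hF in
theorem conj_highest {b : GL D.Idx F} (hb : b ∈ (hF.tsys F).B) :
    (D.rootSubgroup F (D.nroots - 1)).map (MulAut.conj b).toMonoidHom = D.rootSubgroup F (D.nroots - 1) := by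
  rcases Nat.eq_zero_or_pos D.nroots with h0 | h0
  · have hbot : D.rootSubgroup F (D.nroots - 1) = ⊥ := by
      rw [rootSubgroup_eq hF, Subgroup.eq_bot_iff_forall]
      intro g hg
      obtain ⟨t, rfl⟩ := CommSys.mem_X _ |>.1 hg
      exact hF.xg_out (by omega) t
    rw [hbot, Subgroup.map_bot]
  have hh : D.nroots - 1 < D.nroots := by omega
  have hmem : ∀ y ∈ (hF.tsys F).B, ∀ t : F,
      y * hF.xg (D.nroots - 1) t * y⁻¹ ∈ D.rootSubgroup F (D.nroots - 1) := by
    intro y hy t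
    obtain ⟨u, hu, a, ha, rfl⟩ := (hF.tsys F).mem_B.1 hy
    obtain ⟨t', ht'⟩ := ((hF.tsys F).H_conj_X ha hh t).1
    have hc : Commute u (hF.xg (D.nroots - 1) t') := by
      clear hy ha ht'
      induction hu using Subgroup.closure_induction with
      | mem g hg =>
        obtain ⟨r, hr, v, rfl⟩ := hg
        obtain ⟨h1, h2⟩ := Facts.mem_posL.1 hr
        by_cases he : r = D.nroots - 1
        · subst he
          show hF.xg _ v * hF.xg _ t' = hF.xg _ t' * hF.xg _ v
          rw [← hF.xg_add, ← hF.xg_add, add_comm]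
        refine commute_of_empty hF h2 hh (Ne.symm he) (by rw [hF.neg_eq r h2]; omega) ?_ v t'
        refine List.eq_nil_iff_forall_not_mem.2 fun c hc => ?_
        have := hF.commTerms_gt h2 hh h1 (by have := hF.even; omega) hc
        omega
      | one => exact Commute.one_left _
      | mul a b _ _ ha hb => exact ha.mul_left hb
      | inv a _ ha => exact ha.inv_left
    rw [rootSubgroup_eq hF]
    have e : u * a * hF.xg (D.nroots - 1) t * (u * a)⁻¹ = u * (a * hF.xg (D.nroots - 1) t * a⁻¹) * u⁻¹ := by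
      group
    rw [e]
    change a * hF.xg (D.nroots - 1) t * a⁻¹ = hF.xg (D.nroots - 1) t' at ht'
    rw [ht', hc.eq, mul_inv_cancel_right]
    exact CommSys.x_mem_X _ _ t'
  refine le_antisymm ?_ ?_
  · rintro _ ⟨g, hg, rfl⟩
    rw [SetLike.mem_coe, rootSubgroup_eq hF] at hg
    obtain ⟨t, rfl⟩ := CommSys.mem_X _ |>.1 hg
    exact hmem b hb t
  · intro g hg
    rw [rootSubgroup_eq hF] at hg
    obtain ⟨t, rfl⟩ := CommSys.mem_X _ |>.1 hg
    refine ⟨_, hmem b⁻¹ (inv_mem hb) t, ?_⟩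
    show b * (b⁻¹ * hF.xg (D.nroots - 1) t * b⁻¹⁻¹) * b⁻¹ = hF.xg (D.nroots - 1) t
    group

include hF in
theorem pairs [CharP F 2] (hok : okLong D = true) (hpos : 0 < D.nroots) {g : GL D.Idx F}
    (hg : g ∈ D.group F) :
    IsPGroup 2 ↥(D.rootSubgroup F (D.nroots - 1) ⊔
        (D.rootSubgroup F (D.nroots - 1)).map (MulAut.conj g).toMonoidHom) ∨
    ∃ h ∈ D.group F, (D.rootSubgroup F (D.nroots - 1) ⊔
        (D.rootSubgroup F (D.nroots - 1)).map (MulAut.conj g).toMonoidHom).map (MulAut.conj h).toMonoidHom =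
      D.rootSubgroup F (D.nroots - 1) ⊔ D.rootSubgroup F 0 := by
  obtain ⟨b, hb, w, u, hu, rfl⟩ := hF.mem_bnu hg
  have hh : D.nroots - 1 < D.nroots := by omega
  have huB : u ∈ (hF.tsys F).B := (hF.tsys F).U_le_B
    (CommSys.US_mono _ (fun r hr => Facts.mem_posL.2 ((TorusSys.closed_invList w).mem_pos r hr)) hu)
  set β := (w • (⟨D.nroots - 1, hh⟩ : Fin D.nroots) : Fin D.nroots) with hβ
  have hn : (D.rootSubgroup F (D.nroots - 1)).map (MulAut.conj ((hF.tsys F).nW w)).toMonoidHom =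
      D.rootSubgroup F β.val := by
    rw [rootSubgroup_eq hF, rootSubgroup_eq hF]
    refine le_antisymm ?_ ?_
    · rintro _ ⟨y, hy, rfl⟩
      obtain ⟨t, rfl⟩ := CommSys.mem_X _ |>.1 hy
      obtain ⟨e, -, he⟩ := hF.nW_conj (F := F) w ⟨D.nroots - 1, hh⟩
      show (hF.tsys F).nW w * hF.xg _ t * _ ∈ _
      rw [he]
      exact CommSys.x_mem_X _ _ _
    · intro y hy
      obtain ⟨t, rfl⟩ := CommSys.mem_X _ |>.1 hy
      obtain ⟨v, hv⟩ := hF.nW_conj' (F := F) w ⟨D.nroots - 1, hh⟩ t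
      exact ⟨hF.xg _ v, CommSys.x_mem_X _ _ _, hv.symm⟩
  have hcomp : ∀ (x y : GL D.Idx F) (S : Subgroup (GL D.Idx F)),
      S.map (MulAut.conj (x * y)).toMonoidHom =
        (S.map (MulAut.conj y).toMonoidHom).map (MulAut.conj x).toMonoidHom := by
    intro x y S
    rw [Subgroup.map_map]
    congr 1
    ext z
    simp [mul_assoc]
  rw [hcomp, hcomp, conj_highest hF huB, hn]
  have hjoin : D.rootSubgroup F (D.nroots - 1) ⊔ (D.rootSubgroup F β.val).map (MulAut.conj b).toMonoidHom =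
      (D.rootSubgroup F (D.nroots - 1) ⊔ D.rootSubgroup F β.val).map (MulAut.conj b).toMonoidHom := by
    rw [Subgroup.map_sup, conj_highest hF hb]
  have hL : β.val ∈ longL D := mem_long hF hok w _ (by
    simp only [okLong, Bool.and_eq_true, List.contains_iff_mem] at hok
    exact hok.1)
  by_cases h0 : β.val = 0
  · refine Or.inr ⟨b⁻¹, inv_mem ?_, ?_⟩
    · rw [hF.tsys_B] at hb
      exact hF.borel_le_group hb
    · rw [hjoin, ← hcomp, inv_mul_cancel, h0, map_one]
      exact Subgroup.map_id _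
  · exact Or.inl (((isPGroup_pair hF hok β.isLt hL h0).map _).to_le hjoin.le)

end Cfsg.Agent.Small.ChevRootPairs
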