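import Mathlib

/-!
Endomorphisms `N` with `N ^ n = 0` and corank one in dimension `n`: invariant subspaces and commutant.
-/

set_option autoImplicit false

namespace Cfsg.Agent.Small.RegularUnipotent

open Matrix Polynomial

variable {F V : Type*} [Field F] [AddCommGroup V] [Module F V] [FiniteDimensional F V]

theorem finrank_ker_pow_le (N : Module.End F V) (h1 : Module.finrank F (LinearMap.ker N) ≤ 1) (k : ℕ) :
    Module.finrank F (LinearMap.ker (N ^ k)) ≤ k := by
  induction k with
  | zero => rw [pow_zero, Module.End.one_eq_id, LinearMap.ker_id, finrank_bot]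
  | succ k ih =>
    let r : LinearMap.ker (N ^ (k + 1)) →ₗ[F] LinearMap.ker (N ^ k) :=
      N.restrict fun x hx => by
        rw [LinearMap.mem_ker] at hx ⊢
        rwa [pow_succ, Module.End.mul_apply] at hx
    have h := LinearMap.finrank_range_add_finrank_ker r
    have hr : Module.finrank F (LinearMap.range r) ≤ k := (Submodule.finrank_le _).trans ih
    have hk : Module.finrank F (LinearMap.ker r) ≤ 1 := by
      refine le_trans ?_ h1
      have hm : ∀ x : LinearMap.ker r, (x.1.1 : V) ∈ LinearMap.ker N := fun x => by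
        have := congrArg Subtype.val (LinearMap.mem_ker.mp x.2)
        exact LinearMap.mem_ker.mpr this
      exact LinearMap.finrank_le_finrank_of_injective
        (f := LinearMap.codRestrict (LinearMap.ker N)
          ((LinearMap.ker (N ^ (k + 1))).subtype.comp (LinearMap.ker r).subtype) hm)
        (fun a b hab => Subtype.ext (Subtype.ext (congrArg Subtype.val hab :)))
    omega

theorem invariant_eq {n : ℕ} (N : Module.End F V) (hnil : N ^ n = 0)
    (h1 : Module.finrank F (LinearMap.ker N) ≤ 1) (W : Submodule F V) (hW : ∀ v ∈ W, N v ∈ W) :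
    W = LinearMap.ker (N ^ Module.finrank F W) := by
  have hres : IsNilpotent (N.restrict hW) := ⟨n, LinearMap.ext fun x => Subtype.ext (by
    rw [Module.End.pow_restrict]
    simp [LinearMap.restrict_apply, hnil])⟩
  have hch := (LinearMap.charpoly_nilpotent_tfae (N.restrict hW)).out 0 1 |>.mp hres
  have hzero : (N.restrict hW) ^ Module.finrank F W = 0 := by
    have := LinearMap.aeval_self_charpoly (N.restrict hW)
    rwa [hch, map_pow, Polynomial.aeval_X] at this
  refine Submodule.eq_of_le_of_finrank_le (fun x hx => ?_) (finrank_ker_pow_le N h1 _)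
  rw [LinearMap.mem_ker]
  have := congrArg (fun f : Module.End F W => (f ⟨x, hx⟩).1) hzero
  rw [Module.End.pow_restrict] at this
  simpa [LinearMap.restrict_apply] using this

theorem finrank_ker_le {n : ℕ} (N : Module.End F V) (hdim : Module.finrank F V = n)
    (hreg : Module.finrank F (LinearMap.range N) = n - 1) : Module.finrank F (LinearMap.ker N) ≤ 1 := by
  have := N.finrank_range_add_finrank_ker
  omega

theorem mulVecLin_pow {ι : Type} [Fintype ι] [DecidableEq ι] (M : Matrix ι ι F) (k : ℕ) :
    (M ^ k).mulVecLin = M.mulVecLin ^ k := by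
  rw [← Matrix.toLin'_apply', ← Matrix.toLin'_apply', Matrix.toLin'_pow]

theorem matrix_invariant_eq {n : ℕ} (u : Matrix (Fin n) (Fin n) F) (hnil : (u - 1) ^ n = 0)
    (hreg : (u - 1).rank = n - 1) (W : Submodule F (Fin n → F)) (hW : ∀ v ∈ W, u.mulVec v ∈ W) :
    W = LinearMap.ker (Matrix.mulVecLin ((u - 1) ^ Module.finrank F W)) := by
  rw [mulVecLin_pow]
  refine invariant_eq (n := n) _ ?_ (finrank_ker_le (n := n) _ (by simp) hreg) W fun v hv => ?_
  · rw [← mulVecLin_pow, hnil, Matrix.mulVecLin_zero]
  · rw [Matrix.mulVecLin_apply, Matrix.sub_mulVec, Matrix.one_mulVec]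
    exact sub_mem (hW v hv) hv

theorem card_commutant {F V : Type*} [Field F] [Fintype F] [AddCommGroup V] [Module F V]
    [FiniteDimensional F V] {n : ℕ} (hn : 1 ≤ n) (hdim : Module.finrank F V = n) (N : Module.End F V)
    (hnil : N ^ n = 0) (hreg : Module.finrank F (LinearMap.range N) = n - 1) :
    Nat.card {g : (Module.End F V)ˣ // g.1 * N = N * g.1} =
      Fintype.card F ^ n - Fintype.card F ^ (n - 1) := by
  classical
  have : Finite V := Module.finite_of_finite F
  have h1 := finrank_ker_le N hdim hreg
  have hR : LinearMap.range N = LinearMap.ker (N ^ (n - 1)) := by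
    have := invariant_eq N hnil h1 (LinearMap.range N) fun v _ => ⟨v, rfl⟩
    rwa [hreg] at this
  obtain ⟨v, hv⟩ : ∃ v, v ∉ LinearMap.range N := by
    by_contra h
    push Not at h
    rw [Submodule.eq_top_iff'.mpr h, finrank_top] at hreg
    omega
  have htop : ∀ W : Submodule F V, (∀ x ∈ W, N x ∈ W) → v ∈ W → W = ⊤ := by
    intro W hW hvW
    refine Submodule.eq_top_of_finrank_eq ?_
    by_contra hne
    have hle := Submodule.finrank_le W
    have h2 : W ≤ LinearMap.ker (N ^ (n - 1)) := by
      rw [invariant_eq N hnil h1 W hW, show n - 1 = (n - 1 - Module.finrank F W) + Module.finrank F W by omega,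
        pow_add]
      exact LinearMap.ker_le_ker_comp _ _
    exact hv (hR ▸ h2 hvW)
  have hinj : ∀ X Y : Module.End F V, X * N = N * X → Y * N = N * Y → X v = Y v → X = Y := by
    intro X Y hX hY hXY
    have h := htop (LinearMap.ker (X - Y)) (fun x hx => by
      rw [LinearMap.mem_ker, LinearMap.sub_apply, ← Module.End.mul_apply, ← Module.End.mul_apply, hX, hY,
        Module.End.mul_apply, Module.End.mul_apply, ← map_sub, ← LinearMap.sub_apply, LinearMap.mem_ker.mp hx,
        map_zero]) (by simp [hXY])
    exact sub_eq_zero.mp (LinearMap.ker_eq_top.mp h)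
  let ev : F[X] →ₗ[F] V := (LinearMap.applyₗ v).comp (aeval N).toLinearMap
  have hsur : LinearMap.range ev = ⊤ := by
    refine htop _ ?_ ⟨1, by simp [ev]⟩
    rintro x ⟨f, rfl⟩
    exact ⟨X * f, by simp [ev]⟩
  have he : ∀ g : {g : (Module.End F V)ˣ // g.1 * N = N * g.1}, g.1.1 v ∉ LinearMap.range N := by
    rintro ⟨g, hg⟩ ⟨y, hy⟩
    apply hv
    have hinv : Commute (g⁻¹).1 N := (show Commute g.1 N from hg).units_inv_left
    refine ⟨(g⁻¹).1 y, ?_⟩
    rw [← Module.End.mul_apply, ← hinv.eq, Module.End.mul_apply, hy, ← Module.End.mul_apply, ← Units.val_mul,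
      inv_mul_cancel, Units.val_one, Module.End.one_apply]
  let e : {g : (Module.End F V)ˣ // g.1 * N = N * g.1} → {w : V // w ∉ LinearMap.range N} :=
    fun g => ⟨g.1.1 v, he g⟩
  have hbij : Function.Bijective e := by
    constructor
    · intro a b hab
      exact Subtype.ext (Units.ext (hinj _ _ a.2 b.2 (congrArg Subtype.val hab)))
    · rintro ⟨w, hw⟩
      obtain ⟨f, hf⟩ : w ∈ LinearMap.range ev := hsur ▸ Submodule.mem_top
      have hcomm : aeval N f * N = N * aeval N f := by
        have := ((Commute.all f (X : F[X])).map (aeval N)).eq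
        rwa [aeval_X] at this
      have hker : LinearMap.ker (aeval N f) = ⊥ := by
        have hi := invariant_eq N hnil h1 (LinearMap.ker (aeval N f)) fun x hx => by
          rw [LinearMap.mem_ker, ← Module.End.mul_apply, hcomm, Module.End.mul_apply, LinearMap.mem_ker.mp hx,
            map_zero]
        by_contra hne
        have hd : Module.finrank F (LinearMap.ker (aeval N f)) ≠ 0 := fun h0 => hne (Submodule.finrank_eq_zero.mp h0)
        have hmem : (N ^ (n - 1)) v ∈ LinearMap.ker (aeval N f) := by
          rw [hi, LinearMap.mem_ker, ← Module.End.mul_apply, ← pow_add,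
            pow_eq_zero_of_le (by omega) hnil, LinearMap.zero_apply]
        rw [LinearMap.mem_ker, ← Module.End.mul_apply,
          ((show Commute (aeval N f) N from hcomm).pow_right (n - 1)).eq, Module.End.mul_apply,
          ← LinearMap.mem_ker, ← hR] at hmem
        exact hw (by rw [← hf]; exact hmem)
      have hu : IsUnit (aeval N f) := (LinearMap.isUnit_iff_ker_eq_bot _).mpr hker
      exact ⟨⟨hu.unit, hcomm⟩, Subtype.ext hf⟩
  have := Fintype.ofFinite V
  rw [Nat.card_congr (Equiv.ofBijective e hbij), Nat.card_eq_fintype_card, Fintype.card_subtype_compl,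
    ← Nat.card_eq_fintype_card, ← Nat.card_eq_fintype_card]
  rw [Module.natCard_eq_pow_finrank (K := F) (V := V), hdim,
    show Nat.card {w : V // w ∈ LinearMap.range N} = Nat.card (LinearMap.range N) from rfl,
    Module.natCard_eq_pow_finrank (K := F) (V := LinearMap.range N), hreg, Nat.card_eq_fintype_card]

theorem matrix_card_centralizer {F : Type*} [Field F] [Fintype F] {q n : ℕ} (hF : Fintype.card F = q) (hn : 1 ≤ n)
    (u : GL (Fin n) F) (hnil : ((u : Matrix (Fin n) (Fin n) F) - 1) ^ n = 0)
    (hreg : ((u : Matrix (Fin n) (Fin n) F) - 1).rank = n - 1) :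
    Nat.card ↥(Subgroup.centralizer ({u} : Set (GL (Fin n) F))) = (q - 1) * q ^ (n - 1) := by
  classical
  obtain ⟨N, hN⟩ : ∃ N, N = Matrix.mulVecLin ((u : Matrix (Fin n) (Fin n) F) - 1) := ⟨_, rfl⟩
  have h := card_commutant (F := F) (V := Fin n → F) hn (by simp) N
    (by rw [hN, ← mulVecLin_pow, hnil, Matrix.mulVecLin_zero]) (by rw [hN]; exact hreg)
  let e : GL (Fin n) F ≃* (Module.End F (Fin n → F))ˣ := Matrix.GeneralLinearGroup.toLin
  have heN : ((e u : (Module.End F (Fin n → F))ˣ) : Module.End F (Fin n → F)) = N + 1 := by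
    refine LinearMap.ext fun x => ?_
    simp [e, hN, Matrix.GeneralLinearGroup.toLin]
  have hequiv : ∀ g : GL (Fin n) F,
      g ∈ Subgroup.centralizer ({u} : Set (GL (Fin n) F)) ↔ (e g).1 * N = N * (e g).1 := by
    intro g
    rw [Subgroup.mem_centralizer_singleton_iff, ← e.injective.eq_iff, map_mul, map_mul, Units.ext_iff,
      Units.val_mul, Units.val_mul, heN, mul_add, add_mul, mul_one, one_mul]
    exact ⟨fun h => (add_right_cancel h), fun h => by rw [h]⟩
  rw [Nat.card_congr (e.toEquiv.subtypeEquiv hequiv : ↥(Subgroup.centralizer ({u} : Set (GL (Fin n) F))) ≃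
    {g : (Module.End F (Fin n → F))ˣ // g.1 * N = N * g.1}), h, hF]
  obtain ⟨k, rfl⟩ : ∃ k, n = k + 1 := ⟨n - 1, by omega⟩
  rw [pow_succ', Nat.add_sub_cancel, Nat.sub_one_mul]

end Cfsg.Agent.Small.RegularUnipotent
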