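import Cfsg.Agent.Lib.Small.JordanType
import Cfsg.Agent.Lib.Small.RegularUnipotent

/-!
# Regular unipotent classes of the special linear group
-/

set_option autoImplicit false
set_option linter.unusedSectionVars false

namespace Cfsg.Agent.Small.RegularClassesSL

open Matrix Cfsg.Agent.Small.JordanType
open scoped MatrixGroups

variable {F : Type*} [Field F] {n : ℕ}

/-- A regular unipotent element. -/
def IsReg (g : GL (Fin n) F) : Prop := (g.1 - 1) ^ n = 0 ∧ (g.1 - 1).rank = n - 1

theorem nil_eq (g : GL (Fin n) F) : nil g = (g.1 - 1).mulVecLin := by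
  refine LinearMap.ext fun v => ?_
  rw [nil, LinearMap.sub_apply, Matrix.mulVecLin_apply, Matrix.sub_mulVec, Matrix.one_mulVec]
  rfl

theorem isReg_type (hn : 2 ≤ n) {g : GL (Fin n) F} (hg : IsReg g) : HasType g (Nat.Partition.indiscrete n) := by
  obtain ⟨h1, h2⟩ := hg
  have hnil : nil g ^ n = 0 := by rw [nil_eq, ← RegularUnipotent.mulVecLin_pow, h1, Matrix.mulVecLin_zero]
  obtain ⟨t, k, b, hb⟩ := exists_chain (nil g) ⟨n, hnil⟩
  refine ⟨t, k, b, hb, ?_⟩
  have hr := hb.finrank_range 1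
  rw [pow_one, nil_eq, ← Matrix.rank, h2] at hr
  have hs := hb.sum_eq
  rw [Module.finrank_fintype_fun_eq_card, Fintype.card_fin] at hs
  have hle := (hb.pow_eq_zero_iff n).1 hnil
  -- exactly one non-zero part
  obtain ⟨i₀, hi₀⟩ : ∃ i, k i ≠ 0 := by
    by_contra h
    push Not at h
    simp [h] at hs
    omega
  have hone : ∀ i, i ≠ i₀ → k i = 0 := by
    intro i hi
    by_contra hne
    have h3 : ∑ j, k j = (∑ j, (k j - 1)) + ∑ j, (if k j = 0 then 0 else 1) := by
      rw [← Finset.sum_add_distrib]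
      exact Finset.sum_congr rfl fun j _ => by split_ifs <;> omega
    have h4 : ∑ j ∈ ({i, i₀} : Finset (Fin t)), (if k j = 0 then 0 else 1) ≤ ∑ j, (if k j = 0 then 0 else 1) :=
      Finset.sum_le_univ_sum_of_nonneg fun _ => Nat.zero_le _
    rw [Finset.sum_pair hi, if_neg hne, if_neg hi₀] at h4
    omega
  have hk : k i₀ = n := by rw [← hs, Finset.sum_eq_single i₀ (fun i _ hi => hone i hi) (by simp)]
  rw [Nat.Partition.indiscrete_parts (by omega), parts]
  have hu : (Finset.univ : Finset (Fin t)) = {i₀} ∪ (Finset.univ.erase i₀) := by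
    ext i; simp [em]
  refine Multiset.ext.mpr fun s => ?_
  rcases eq_or_ne s 0 with rfl | hs0
  · rw [Multiset.count_singleton, if_neg (by omega), Multiset.count_eq_zero]
    exact fun h => (Multiset.mem_filter.mp h).2 rfl
  rw [← parts, count_parts k hs0, Multiset.count_singleton]
  split_ifs with h
  · rw [h, Nat.card_eq_one_iff_unique]
    exact ⟨⟨fun a c => Subtype.ext (by
      have ha : (a : Fin t) = i₀ := by_contra fun hne => by have := hone _ hne; have := a.2; omega
      have hc : (c : Fin t) = i₀ := by_contra fun hne => by have := hone _ hne; have := c.2; omega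
      rw [ha, hc])⟩, ⟨⟨i₀, hk⟩⟩⟩
  · rw [Nat.card_eq_zero]
    refine Or.inl ⟨fun a => h ?_⟩
    rcases eq_or_ne (a : Fin t) i₀ with e | e
    · rw [← a.2, e, hk]
    · have := hone _ e; have := a.2; omega

theorem isReg_conj {u : GL (Fin n) F} (hu : IsReg u) (g : GL (Fin n) F) : IsReg (g * u * g⁻¹) := by
  obtain ⟨h1, h2⟩ := hu
  have e : (g * u * g⁻¹).1 - 1 = g.1 * (u.1 - 1) * (g⁻¹).1 := by
    rw [Units.val_mul, Units.val_mul, mul_sub, sub_mul, mul_one, ← Units.val_mul g g⁻¹, mul_inv_cancel, Units.val_one]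
  have hd : ∀ x : GL (Fin n) F, IsUnit x.1.det := fun x => (Matrix.isUnit_iff_isUnit_det _).1 x.isUnit
  refine ⟨?_, ?_⟩
  · rw [e, Units.conj_pow, h1, mul_zero, zero_mul]
  · rw [e, Matrix.rank_mul_eq_left_of_isUnit_det _ _ (hd g⁻¹), Matrix.rank_mul_eq_right_of_isUnit_det _ _ (hd g), h2]

/-- An element commuting with a regular unipotent element is a scalar plus a nilpotent. -/
theorem scalar_part [Fintype F] (hn : 2 ≤ n) {u g : GL (Fin n) F} (hu : IsReg u) (h : g * u = u * g) :
    ∃ a : F, (g.1 - a • (1 : Matrix (Fin n) (Fin n) F)) ^ n = 0 := by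
  classical
  obtain ⟨h1, h2⟩ := hu
  obtain ⟨N, hN⟩ : ∃ N, N = u.1 - 1 := ⟨_, rfl⟩
  have hgN : g.1 * N = N * g.1 := by
    rw [hN, mul_sub, sub_mul, mul_one, one_mul, ← Units.val_mul, ← Units.val_mul, h]
  obtain ⟨W, hW⟩ : ∃ W, W = LinearMap.range N.mulVecLin := ⟨_, rfl⟩
  have hWd : Module.finrank F W = n - 1 := by rw [hW, ← h2, hN]; rfl
  have hg : ∀ w ∈ W, g.1 *ᵥ w ∈ W := by
    rw [hW]
    rintro _ ⟨y, rfl⟩
    exact ⟨g.1 *ᵥ y, by
      rw [Matrix.mulVecLin_apply, Matrix.mulVecLin_apply, Matrix.mulVec_mulVec, Matrix.mulVec_mulVec, hgN]⟩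
  obtain ⟨v, hv⟩ : ∃ v, v ∉ W := by
    by_contra hc
    push Not at hc
    rw [Submodule.eq_top_iff'.mpr hc, finrank_top, Module.finrank_fintype_fun_eq_card, Fintype.card_fin] at hWd
    omega
  have htop : W ⊔ Submodule.span F {v} = ⊤ := by
    refine Submodule.eq_top_of_finrank_eq (le_antisymm (Submodule.finrank_le _) ?_)
    have hlt : W < W ⊔ Submodule.span F {v} := lt_of_le_not_ge le_sup_left fun hle =>
      hv (hle (Submodule.mem_sup_right (Submodule.mem_span_singleton_self v)))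
    have := Submodule.finrank_lt_finrank_of_lt hlt
    rw [Module.finrank_fintype_fun_eq_card, Fintype.card_fin]
    omega
  obtain ⟨w₀, hw₀, z, hz, e⟩ := Submodule.mem_sup.1 (htop.symm ▸ Submodule.mem_top (x := g.1 *ᵥ v))
  obtain ⟨a, rfl⟩ := Submodule.mem_span_singleton.1 hz
  obtain ⟨M, hM⟩ : ∃ M, M = g.1 - a • (1 : Matrix (Fin n) (Fin n) F) := ⟨_, rfl⟩
  have hMW : ∀ x, M *ᵥ x ∈ W := by
    intro x
    obtain ⟨w, hw, z', hz', rfl⟩ := Submodule.mem_sup.1 (htop.symm ▸ Submodule.mem_top (x := x))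
    obtain ⟨c, rfl⟩ := Submodule.mem_span_singleton.1 hz'
    rw [Matrix.mulVec_add, Matrix.mulVec_smul]
    refine add_mem ?_ (Submodule.smul_mem _ _ ?_)
    · rw [hM, Matrix.sub_mulVec, Matrix.smul_mulVec, Matrix.one_mulVec]
      exact sub_mem (hg w hw) (Submodule.smul_mem _ _ hw)
    · rw [hM, Matrix.sub_mulVec, Matrix.smul_mulVec, Matrix.one_mulVec, ← e, add_sub_cancel_right]
      exact hw₀
  have hMN : Commute M N := by
    rw [hM]
    exact Commute.sub_left hgN ((Commute.one_left N).smul_left a)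
  have hstep : ∀ i x, ∃ y, (M ^ i) *ᵥ x = (N ^ i) *ᵥ y := by
    intro i
    induction i with
    | zero => intro x; exact ⟨x, rfl⟩
    | succ i ih =>
      intro x
      obtain ⟨y, hy⟩ := ih x
      have hy' : M *ᵥ y ∈ LinearMap.range N.mulVecLin := hW ▸ hMW y
      obtain ⟨y', hy'⟩ := hy'
      refine ⟨y', ?_⟩
      rw [pow_succ' M, ← Matrix.mulVec_mulVec, hy, Matrix.mulVec_mulVec, (hMN.pow_right i).eq, ← Matrix.mulVec_mulVec,
        ← hy', Matrix.mulVecLin_apply, Matrix.mulVec_mulVec, ← pow_succ]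
  have hMnil : M ^ n = 0 := Matrix.ext_of_mulVec_single fun i => by
    obtain ⟨y, hy⟩ := hstep n (Pi.single i 1)
    rw [hy, hN, h1, Matrix.zero_mulVec, Matrix.zero_mulVec]
  exact ⟨a, hM ▸ hMnil⟩

/-- The determinant of a scalar plus a nilpotent. -/
theorem det_of_nilpotent {g : Matrix (Fin n) (Fin n) F} {a : F}
    (h : (g - a • (1 : Matrix (Fin n) (Fin n) F)) ^ n = 0) : g.det = a ^ n := by
  obtain ⟨M, hM⟩ : ∃ M, M = g - a • (1 : Matrix (Fin n) (Fin n) F) := ⟨_, rfl⟩
  have hMnil : M ^ n = 0 := hM ▸ h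
  have hch : M.charpoly = Polynomial.X ^ n := by
    have := Matrix.isNilpotent_charpoly_sub_pow_of_isNilpotent (M := M) ⟨n, hMnil⟩
    rw [Fintype.card_fin] at this
    exact sub_eq_zero.mp this.eq_zero
  have hev := Matrix.eval_charpoly M (-a)
  rw [hch, Polynomial.eval_pow, Polynomial.eval_X] at hev
  have h3 : Matrix.scalar (Fin n) (-a) - M = -g := by
    rw [hM, Matrix.scalar_apply, ← Matrix.smul_one_eq_diagonal, neg_smul]
    abel
  rw [h3, Matrix.det_neg, Fintype.card_fin, neg_pow] at hev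
  exact (mul_left_cancel₀ (pow_ne_zero _ (neg_ne_zero.mpr one_ne_zero)) hev).symm

/-- Elements commuting with a regular unipotent element have `n`th powers as determinants. -/
theorem det_commute [Fintype F] (hn : 2 ≤ n) {u g : GL (Fin n) F} (hu : IsReg u) (h : g * u = u * g) :
    ∃ a : F, g.1.det = a ^ n := by
  obtain ⟨a, ha⟩ := scalar_part hn hu h
  exact ⟨a, det_of_nilpotent ha⟩

/-- There is a regular unipotent element. -/
theorem exists_reg [Fintype F] (hn : 2 ≤ n) : ∃ u : GL (Fin n) F, IsReg u := by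
  obtain ⟨g, t, k, b, hb, hk⟩ := exists_of_type (F := F) (Nat.Partition.indiscrete n)
  rw [Nat.Partition.indiscrete_parts (by omega)] at hk
  refine ⟨g, ?_, ?_⟩
  · have h0 : nil g ^ n = 0 := (hb.pow_eq_zero_iff n).mpr ((forall_parts k n).mp fun a ha => by
      rw [hk, Multiset.mem_singleton] at ha
      omega)
    rw [nil_eq, ← RegularUnipotent.mulVecLin_pow] at h0
    refine Matrix.ext_of_mulVec_single fun i => ?_
    rw [Matrix.zero_mulVec]
    exact LinearMap.congr_fun h0 (Pi.single i 1)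
  · have hr := hb.finrank_range 1
    rw [pow_one, nil_eq] at hr
    change (g.1 - 1).rank = _ at hr
    rw [hr]
    have hc : ∀ (s : Multiset ℕ), ((s.filter (· ≠ 0)).map fun a => a - 1).sum = (s.map fun a => a - 1).sum := fun s => by
      induction s using Multiset.induction_on with
      | empty => simp
      | cons a s ih => by_cases ha : a = 0 <;> simp [ha, ih]
    have h1 := hc (Finset.univ.val.map k)
    rw [← parts, hk, Multiset.map_map] at h1
    simpa [List.sum_ofFn] using h1.symm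

/-- The number of regular unipotent classes of `SL`. -/
theorem card_classes [Fintype F] (hn : 2 ≤ n) :
    Nat.card {C : ConjClasses (Matrix.SpecialLinearGroup (Fin n) F) // ∃ u : Matrix.SpecialLinearGroup (Fin n) F,
      ConjClasses.mk u = C ∧ ((u : Matrix (Fin n) (Fin n) F) - 1) ^ n = 0 ∧
        ((u : Matrix (Fin n) (Fin n) F) - 1).rank = n - 1} = Nat.gcd n (Fintype.card F - 1) := by
  classical
  let ι : Matrix.SpecialLinearGroup (Fin n) F →* GL (Fin n) F := Matrix.SpecialLinearGroup.toGL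
  have hι : ∀ s, (ι s).1 = (s : Matrix (Fin n) (Fin n) F) := fun s => rfl
  obtain ⟨u₀, hu₀⟩ := exists_reg (F := F) hn
  have hdu : u₀.1.det = 1 := by
    rw [det_of_nilpotent (a := 1) (by rw [one_smul]; exact hu₀.1), one_pow]
  let conjS : GL (Fin n) F → Matrix.SpecialLinearGroup (Fin n) F := fun g => ⟨(g * u₀ * g⁻¹).1, by
    rw [Units.val_mul, Units.val_mul, Matrix.det_units_conj, hdu]⟩
  have hconjS : ∀ g, ι (conjS g) = g * u₀ * g⁻¹ := fun g => Units.ext rfl
  obtain ⟨T, hT⟩ : ∃ T, T = {C : ConjClasses (Matrix.SpecialLinearGroup (Fin n) F) //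
      ∃ u : Matrix.SpecialLinearGroup (Fin n) F, ConjClasses.mk u = C ∧ ((u : Matrix (Fin n) (Fin n) F) - 1) ^ n = 0 ∧
        ((u : Matrix (Fin n) (Fin n) F) - 1).rank = n - 1} := ⟨_, rfl⟩
  let P : Subgroup Fˣ := (powMonoidHom n : Fˣ →* Fˣ).range
  let detu : GL (Fin n) F →* Fˣ := Matrix.GeneralLinearGroup.det
  have hdetu : ∀ g : GL (Fin n) F, (detu g : F) = g.1.det := fun g => rfl
  have hsurjd : ∀ c : Fˣ, ∃ g : GL (Fin n) F, detu g = c := fun c => by
    refine ⟨GeneralLinearGroup.mkOfDetNeZero (Matrix.diagonal (Function.update (fun _ => (1 : F)) ⟨0, by omega⟩ (c : F)))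
      (by rw [Matrix.det_diagonal, Finset.prod_update_of_mem (Finset.mem_univ _)]; simp), Units.ext ?_⟩
    show (Matrix.diagonal _).det = _
    rw [Matrix.det_diagonal, Finset.prod_update_of_mem (Finset.mem_univ _)]
    simp
  have key : ∀ g h : GL (Fin n) F, IsConj (conjS g) (conjS h) ↔ (detu h)⁻¹ * detu g ∈ P := by
    intro g h
    rw [isConj_iff]
    constructor
    · rintro ⟨s, hs⟩
      have h1 := congrArg ι hs
      rw [map_mul, map_mul, map_inv, hconjS, hconjS] at h1
      have hc : h⁻¹ * ι s * g * u₀ = u₀ * (h⁻¹ * ι s * g) := by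
        calc h⁻¹ * ι s * g * u₀ = h⁻¹ * (ι s * (g * u₀ * g⁻¹) * (ι s)⁻¹) * (ι s * g) := by group
          _ = u₀ * (h⁻¹ * ι s * g) := by rw [h1]; group
      obtain ⟨a, ha⟩ := det_commute hn hu₀ hc
      have hds : detu (ι s) = 1 := Units.ext s.2
      have hval : (detu h)⁻¹ * detu g = detu (h⁻¹ * ι s * g) := by rw [map_mul, map_mul, map_inv, hds, mul_one]
      have ha0 : a ≠ 0 := fun e => by
        rw [e, zero_pow (by omega)] at ha
        exact (Units.ne_zero (detu (h⁻¹ * ι s * g))) ha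
      refine ⟨Units.mk0 a ha0, Units.ext ?_⟩
      rw [hval, hdetu, ha]
      simp
    · rintro ⟨a, ha⟩
      let c : GL (Fin n) F := Units.map (Matrix.scalar (Fin n)).toMonoidHom a
      have hcc : ∀ x : GL (Fin n) F, c * x = x * c := fun x =>
        Units.ext ((Matrix.scalar_commute (a : F) (fun r => Commute.all _ _) x.1).eq)
      have hdc : detu c = a ^ n := Units.ext (by
        show (Matrix.scalar (Fin n) (a : F)).det = _
        rw [Matrix.scalar_apply, Matrix.det_diagonal]
        simp)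
      have hs : (h * c * g⁻¹).1.det = 1 := by
        rw [← hdetu, map_mul, map_mul, map_inv, hdc, show a ^ n = (detu h)⁻¹ * detu g from ha]
        simp
      obtain ⟨s, hs'⟩ : ∃ s : Matrix.SpecialLinearGroup (Fin n) F, ι s = h * c * g⁻¹ :=
        ⟨(⟨_, hs⟩ : Matrix.SpecialLinearGroup (Fin n) F), Units.ext rfl⟩
      refine ⟨s, Matrix.SpecialLinearGroup.toGL_injective ?_⟩
      show ι (s * conjS g * s⁻¹) = ι (conjS h)
      rw [map_mul, map_mul, map_inv, hconjS, hconjS, hs']
      calc h * c * g⁻¹ * (g * u₀ * g⁻¹) * (h * c * g⁻¹)⁻¹ = h * (c * u₀) * c⁻¹ * h⁻¹ := by group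
        _ = h * u₀ * h⁻¹ := by rw [hcc]; group
  choose rep hrep using hsurjd
  let f : Fˣ ⧸ P → T := Quotient.lift (fun c => hT ▸ ⟨ConjClasses.mk (conjS (rep c)), conjS (rep c), rfl,
      (isReg_conj hu₀ (rep c)).1, (isReg_conj hu₀ (rep c)).2⟩) (by
    intro c d hcd
    subst hT
    refine Subtype.ext (ConjClasses.mk_eq_mk_iff_isConj.mpr ((key _ _).mpr ?_))
    rw [hrep, hrep]
    have := P.inv_mem (QuotientGroup.leftRel_apply.mp hcd)
    rwa [_root_.mul_inv_rev, inv_inv] at this)
  subst hT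
  rw [← Nat.card_eq_of_bijective f ⟨?_, ?_⟩, ← Subgroup.index_eq_card]
  · show (powMonoidHom n : Fˣ →* Fˣ).range.index = _
    rw [IsCyclic.index_powMonoidHom_range, Nat.card_units, Nat.card_eq_fintype_card, Nat.gcd_comm]
  · intro a b
    induction a using QuotientGroup.induction_on with
    | H c =>
      induction b using QuotientGroup.induction_on with
      | H d =>
        intro h
        have h1 := (key _ _).mp (ConjClasses.mk_eq_mk_iff_isConj.mp (congrArg Subtype.val h))
        rw [hrep, hrep] at h1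
        refine QuotientGroup.eq.mpr ?_
        have := P.inv_mem h1
        rwa [_root_.mul_inv_rev, inv_inv] at this
  · rintro ⟨_, u, rfl, hu1, hu2⟩
    obtain ⟨g, hg⟩ := isConj_iff.mp
      (conj_of_type (isReg_type hn hu₀) (isReg_type hn (g := ι u) ⟨hu1, hu2⟩))
    refine ⟨QuotientGroup.mk (detu g), Subtype.ext ?_⟩
    show ConjClasses.mk (conjS (rep (detu g))) = ConjClasses.mk u
    rw [ConjClasses.mk_eq_mk_iff_isConj]
    have hu : u = conjS g := Matrix.SpecialLinearGroup.toGL_injective (show ι u = ι (conjS g) by rw [hconjS, hg])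
    rw [hu, key, hrep, inv_mul_cancel]
    exact one_mem _

end Cfsg.Agent.Small.RegularClassesSL
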