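import Cfsg.Agent.Lib.Small.UnitaryTypes
import Cfsg.Agent.Lib.Small.RegularClassesSL

/-!
# Regular unipotent classes of the special unitary group
-/

set_option autoImplicit false
set_option linter.unusedSectionVars false

namespace Cfsg.Agent.Small.UnitaryRegular

open Matrix Cfsg.Agent.Small

open scoped MatrixGroups

variable {F : Type*} [Field F] [Fintype F] [StarRing F] {n q : ℕ}

/-- A commuting unitary element is a norm-one scalar plus a nilpotent. -/
theorem det_commute (hstar : ∀ x : F, star x = x ^ q) (hn : 2 ≤ n) {u g : GL (Fin n) F}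
    (hu : RegularClassesSL.IsReg u) (hg : g ∈ Cfsg.GU n F q) (h : g * u = u * g) :
    ∃ a : F, star a * a = 1 ∧ g.1.det = a ^ n := by
  obtain ⟨a, ha⟩ := RegularClassesSL.scalar_part hn hu h
  refine ⟨a, ?_, RegularClassesSL.det_of_nilpotent ha⟩
  have h1 := (PSUn.mem_GU_iff_star hstar g).1 hg
  obtain ⟨M, hM⟩ : ∃ M, M = g.1 - a • (1 : Matrix (Fin n) (Fin n) F) := ⟨_, rfl⟩
  have hMs : Mᴴ = (g.1)ᴴ - star a • (1 : Matrix (Fin n) (Fin n) F) := by
    rw [hM, Matrix.conjTranspose_sub, Matrix.conjTranspose_smul, Matrix.conjTranspose_one]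
  have hcomm : Commute (g.1)ᴴ g.1 := h1.trans (mul_eq_one_comm.1 h1).symm
  have hc2 : Commute M Mᴴ := by
    rw [hMs, hM]
    exact (hcomm.symm.sub_right ((Commute.one_right _).smul_right _)).sub_left
      (((Commute.one_left _).smul_left _))
  have hn0 : IsNilpotent M := ⟨n, hM ▸ ha⟩
  have hn1 : IsNilpotent Mᴴ := ⟨n, by rw [← Matrix.conjTranspose_pow, hM, ha, Matrix.conjTranspose_zero]⟩
  have key : IsNilpotent ((1 - star a * a) • (1 : Matrix (Fin n) (Fin n) F)) := by
    have e : (1 - star a * a) • (1 : Matrix (Fin n) (Fin n) F) = Mᴴ * M + (star a • M + a • Mᴴ) := by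
      rw [hMs, hM, sub_mul, mul_sub, mul_sub, h1, Matrix.mul_smul, Matrix.smul_mul, Matrix.smul_mul, mul_one,
        one_mul, one_mul, smul_sub, smul_sub, smul_smul, smul_smul, sub_smul, one_smul, mul_comm (star a) a]
      abel
    rw [e]
    have c1 : Commute (star a • M) (a • Mᴴ) := (hc2.smul_left _).smul_right _
    have hB : IsNilpotent (star a • M + a • Mᴴ) := c1.isNilpotent_add (hn0.smul _) (hn1.smul _)
    refine Commute.isNilpotent_add ?_ (hc2.symm.isNilpotent_mul_left hn0) hB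
    exact (((hc2.symm.mul_left (Commute.refl M)).smul_right _).add_right
      (((Commute.refl Mᴴ).mul_left hc2).smul_right _))
  obtain ⟨k, hk⟩ := key
  have h2 := congrFun (congrFun hk ⟨0, by omega⟩) ⟨0, by omega⟩
  rw [smul_pow, one_pow, Matrix.smul_apply, Matrix.one_apply_eq, smul_eq_mul, mul_one, Matrix.zero_apply] at h2
  exact (sub_eq_zero.1 (eq_zero_of_pow_eq_zero h2)).symm

/-- A unitary element of determinant one as an element of `SU`. -/
def lift (hstar : ∀ x : F, star x = x ^ q) (x : ↥(Cfsg.GU n F q)) (hd : x.1.1.det = 1) : ↥(Cfsg.SU n F q) :=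
  Unitary.mkSU hstar x.1.1 ((PSUn.mem_GU_iff_star hstar x.1).1 x.2) hd

theorem toU_lift (hstar : ∀ x : F, star x = x ^ q) (x : ↥(Cfsg.GU n F q)) (hd : x.1.1.det = 1) :
    PSUn.toU (lift hstar x hd) = x := Subtype.ext (Units.ext rfl)

/-- The number of regular unipotent classes of `SU`. -/
theorem card_classes (hstar : ∀ x : F, star x = x ^ q) (hF : Fintype.card F = q ^ 2) (hn : 2 ≤ n) :
    Nat.card {C : ConjClasses ↥(Cfsg.SU n F q) // ∃ u : ↥(Cfsg.SU n F q), ConjClasses.mk u = C ∧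
      (u.1.1 - 1) ^ n = 0 ∧ (u.1.1 - 1).rank = n - 1} = Nat.gcd n (q + 1) := by
  classical
  obtain ⟨U1, hU1⟩ : ∃ U1 : Subgroup Fˣ, U1 = (powMonoidHom (q + 1) : Fˣ →* Fˣ).ker := ⟨_, rfl⟩
  have memU : ∀ a : Fˣ, a ∈ U1 ↔ star (a : F) * a = 1 := fun a => by
    rw [hU1, MonoidHom.mem_ker, powMonoidHom_apply, Units.ext_iff, Units.val_pow_eq_pow_val, pow_succ, ← hstar,
      Units.val_one]
  have hcardU : Nat.card U1 = q + 1 := by
    rw [hU1, IsCyclic.card_powMonoidHom_ker, Nat.card_units, Nat.card_eq_fintype_card, hF, Hermitian.sq_sub_one,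
      Nat.gcd_eq_right (dvd_mul_right _ _)]
  -- a regular unitary element
  obtain ⟨r, hr⟩ := RegularClassesSL.exists_reg (F := F) hn
  obtain ⟨B, hB⟩ := UnitaryTypes.exists_GU hstar hF (RegularClassesSL.isReg_type hn hr)
  obtain ⟨c, hc⟩ := isConj_iff.1 hB
  have hu₀ : RegularClassesSL.IsReg (B : GL (Fin n) F) := hc ▸ RegularClassesSL.isReg_conj hr c
  have hdu : B.1.1.det = 1 := by
    rw [RegularClassesSL.det_of_nilpotent (a := 1) (by rw [one_smul]; exact hu₀.1), one_pow]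
  let detu : ↥(Cfsg.GU n F q) →* Fˣ := Matrix.GeneralLinearGroup.det.comp (Cfsg.GU n F q).subtype
  have hdetu : ∀ g, (detu g : F) = g.1.1.det := fun g => rfl
  have hdetmem : ∀ g, detu g ∈ U1 := fun g => by
    rw [memU, hdetu, ← Matrix.det_conjTranspose, ← Matrix.det_mul, (PSUn.mem_GU_iff_star hstar _).1 g.2, Matrix.det_one]
  have hsurjd : ∀ c : U1, ∃ g, detu g = (c : Fˣ) := fun c => by
    obtain ⟨D, hD⟩ : ∃ D, D = Matrix.diagonal (Function.update (fun _ : Fin n => (1 : F)) ⟨0, by omega⟩ ((c : Fˣ) : F)) :=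
      ⟨_, rfl⟩
    have hdd : D.det = ((c : Fˣ) : F) := by
      rw [hD, Matrix.det_diagonal, Finset.prod_update_of_mem (Finset.mem_univ _)]
      simp
    let g : GL (Fin n) F := GeneralLinearGroup.mkOfDetNeZero D (by rw [hdd]; exact Units.ne_zero _)
    have hg : g ∈ Cfsg.GU n F q := by
      rw [PSUn.mem_GU_iff_star hstar]
      show Dᴴ * D = 1
      rw [hD, Matrix.diagonal_conjTranspose, Matrix.diagonal_mul_diagonal, ← Matrix.diagonal_one]
      congr 1
      funext i
      simp only [Pi.star_apply]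
      rcases eq_or_ne i ⟨0, by omega⟩ with rfl | hi
      · rw [Function.update_self]
        exact (memU _).1 c.2
      · rw [Function.update_of_ne hi, star_one, one_mul]
    exact ⟨⟨g, hg⟩, Units.ext hdd⟩
  have hd1 : ∀ g, (g * B * g⁻¹ : ↥(Cfsg.GU n F q)).1.1.det = 1 := fun g => by
    rw [← hdetu, map_mul, map_mul, map_inv, mul_inv_cancel_comm, hdetu, hdu]
  obtain ⟨conjS, hconjS⟩ : ∃ conjS : ↥(Cfsg.GU n F q) → ↥(Cfsg.SU n F q), ∀ g, PSUn.toU (conjS g) = g * B * g⁻¹ :=
    ⟨fun g => lift hstar _ (hd1 g), fun g => toU_lift hstar _ _⟩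
  have hinj : Function.Injective (PSUn.toU : ↥(Cfsg.SU n F q) →* ↥(Cfsg.GU n F q)) := fun x y h =>
    Subtype.ext (Subtype.ext (congrArg (fun z : ↥(Cfsg.GU n F q) => z.1.1) h))
  have hds : ∀ s, detu (PSUn.toU s) = 1 := fun s => Units.ext s.1.2
  have key : ∀ g h, IsConj (conjS g) (conjS h) ↔
      ∃ a : F, star a * a = 1 ∧ ((detu h)⁻¹ * detu g : Fˣ) = a ^ n := by
    intro g h
    rw [isConj_iff]
    constructor
    · rintro ⟨s, hs⟩
      have h1 := congrArg PSUn.toU hs
      rw [map_mul, map_mul, map_inv, hconjS, hconjS] at h1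
      have hc : h⁻¹ * PSUn.toU s * g * B = B * (h⁻¹ * PSUn.toU s * g) := by
        calc h⁻¹ * PSUn.toU s * g * B =
            h⁻¹ * (PSUn.toU s * (g * B * g⁻¹) * (PSUn.toU s)⁻¹) * (PSUn.toU s * g) := by group
          _ = B * (h⁻¹ * PSUn.toU s * g) := by rw [h1]; group
      obtain ⟨a, ha, hd⟩ := det_commute hstar hn hu₀ (h⁻¹ * PSUn.toU s * g).2
        (by exact congrArg (fun z : ↥(Cfsg.GU n F q) => (z : GL (Fin n) F)) hc)
      exact ⟨a, ha, by rw [← hd, ← hdetu, map_mul, map_mul, map_inv, hds, mul_one]⟩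
    · rintro ⟨a, ha, hd⟩
      have ha0 : a ≠ 0 := fun e => by simp [e] at ha
      obtain ⟨z, hz⟩ : ∃ z : ↥(Cfsg.GU n F q), z.1.1 = Matrix.scalar (Fin n) a :=
        ⟨⟨Units.map (Matrix.scalar (Fin n)).toMonoidHom (Units.mk0 a ha0), by
          rw [PSUn.mem_GU_iff_star hstar]
          show (Matrix.scalar (Fin n) a)ᴴ * Matrix.scalar (Fin n) a = 1
          rw [UnitaryConj.conjTranspose_scalar, ← map_mul, ha, map_one]⟩, rfl⟩
      have hcc : ∀ x : ↥(Cfsg.GU n F q), z * x = x * z := fun x =>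
        Subtype.ext (Units.ext (by
          show z.1.1 * x.1.1 = x.1.1 * z.1.1
          rw [hz]
          exact (Matrix.scalar_commute a (fun r => Commute.all _ _) x.1.1).eq))
      have hdc : (detu z : F) = a ^ n := by
        rw [hdetu, hz]
        simp
      obtain ⟨w, hw⟩ : ∃ w, w = h * z * g⁻¹ := ⟨_, rfl⟩
      have hs : w.1.1.det = 1 := by
        rw [← hdetu, hw, map_mul, map_mul, map_inv, Units.val_mul, Units.val_mul, hdc, ← hd, ← Units.val_mul,
          ← Units.val_mul, mul_inv_cancel_left, mul_inv_cancel, Units.val_one]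
      refine ⟨lift hstar w hs, hinj ?_⟩
      rw [map_mul, map_mul, map_inv, hconjS, hconjS, toU_lift, hw]
      calc h * z * g⁻¹ * (g * B * g⁻¹) * (h * z * g⁻¹)⁻¹ = h * (z * B) * z⁻¹ * h⁻¹ := by group
        _ = h * B * h⁻¹ := by rw [hcc]; group
  let P : Subgroup U1 := (powMonoidHom n : U1 →* U1).range
  have hP : ∀ x : U1, x ∈ P ↔ ∃ a : F, star a * a = 1 ∧ ((x : Fˣ) : F) = a ^ n := by
    intro x
    constructor
    · rintro ⟨a, rfl⟩
      exact ⟨((a : Fˣ) : F), (memU _).1 a.2, by simp⟩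
    · rintro ⟨a, ha, hx⟩
      exact ⟨⟨Units.mk0 a fun e => by simp [e] at ha, (memU _).2 ha⟩, Subtype.ext (Units.ext (by simp [hx]))⟩
  choose rep hrep using hsurjd
  obtain ⟨T, hT⟩ : ∃ T, T = {C : ConjClasses ↥(Cfsg.SU n F q) // ∃ u : ↥(Cfsg.SU n F q), ConjClasses.mk u = C ∧
      (u.1.1 - 1) ^ n = 0 ∧ (u.1.1 - 1).rank = n - 1} := ⟨_, rfl⟩
  have hmem : ∀ g, ((conjS g).1.1 - 1) ^ n = 0 ∧ ((conjS g).1.1 - 1).rank = n - 1 := fun g => by
    have e : (conjS g).1.1 = ((g : GL (Fin n) F) * B * (g : GL (Fin n) F)⁻¹).1 :=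
      congrArg (fun x : ↥(Cfsg.GU n F q) => (x : GL (Fin n) F).1) (hconjS g)
    rw [e]
    exact RegularClassesSL.isReg_conj hu₀ g.1
  have keyP : ∀ c d : U1, IsConj (conjS (rep c)) (conjS (rep d)) ↔ d⁻¹ * c ∈ P := fun c d => by
    rw [key, hrep, hrep, hP]
    rfl
  let f : U1 ⧸ P → T := Quotient.lift (fun c => hT ▸ ⟨ConjClasses.mk (conjS (rep c)), conjS (rep c), rfl, hmem _⟩) (by
    intro c d hcd
    subst hT
    refine Subtype.ext (ConjClasses.mk_eq_mk_iff_isConj.mpr ((keyP c d).mpr ?_))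
    have := P.inv_mem (QuotientGroup.leftRel_apply.mp hcd)
    rwa [_root_.mul_inv_rev, inv_inv] at this)
  subst hT
  rw [← Nat.card_eq_of_bijective f ⟨?_, ?_⟩, ← Subgroup.index_eq_card]
  · show (powMonoidHom n : U1 →* U1).range.index = _
    rw [IsCyclic.index_powMonoidHom_range, hcardU, Nat.gcd_comm]
  · intro a b
    induction a using QuotientGroup.induction_on with
    | H c =>
      induction b using QuotientGroup.induction_on with
      | H d =>
        intro h
        have h1 := (keyP c d).mp (ConjClasses.mk_eq_mk_iff_isConj.mp (congrArg Subtype.val h))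
        refine QuotientGroup.eq.mpr ?_
        have := P.inv_mem h1
        rwa [_root_.mul_inv_rev, inv_inv] at this
  · rintro ⟨_, u, rfl, hu⟩
    have hcu : IsConj B (PSUn.toU u) := (UnitaryConj.conj_GU hstar hF _ _).2
      (JordanType.conj_of_type (RegularClassesSL.isReg_type hn hu₀)
        (RegularClassesSL.isReg_type hn (g := (PSUn.toU u : GL (Fin n) F)) hu))
    obtain ⟨g, hg⟩ := isConj_iff.1 hcu
    refine ⟨QuotientGroup.mk ⟨detu g, hdetmem g⟩, Subtype.ext ?_⟩
    show ConjClasses.mk (conjS (rep ⟨detu g, hdetmem g⟩)) = ConjClasses.mk u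
    rw [ConjClasses.mk_eq_mk_iff_isConj, hinj (show PSUn.toU u = PSUn.toU (conjS g) by rw [hconjS, hg]), key, hrep]
    exact ⟨1, by simp, by simp⟩

end Cfsg.Agent.Small.UnitaryRegular
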