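import Cfsg.Agent.Lib.Small.UnitarySemisimple
import Cfsg.Agent.Lib.Small.SemisimpleCount
import Cfsg.Agent.Lib.Small.UnitaryRegular

/-!
# The number of semisimple classes of the special unitary group
-/

set_option autoImplicit false
set_option linter.unusedSectionVars false

namespace Cfsg.Agent.Small.UnitarySemisimpleCount

open Matrix Cfsg.Agent.Small

open scoped MatrixGroups

variable {F : Type*} [Field F] [Fintype F] [StarRing F] {q : ℕ}

/-- Coefficients of the characteristic polynomial of an inverse. -/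
theorem inv_coeff {n : ℕ} (A : Matrix (Fin n) (Fin n) F) (hd : A.det = 1) {i : ℕ} (hi : i ≤ n) :
    A⁻¹.charpoly.coeff i = (-1) ^ n * A.charpoly.coeff (n - i) := by
  have hdeg : A.charpoly.natDegree = n := by rw [Matrix.charpoly_natDegree_eq_dim, Fintype.card_fin]
  rw [Matrix.charpoly_inv A ((Matrix.isUnit_iff_isUnit_det A).2 (by rw [hd]; exact isUnit_one)),
    ← Matrix.reverse_charpoly, hd, Ring.inverse_one, map_one, mul_one, Fintype.card_fin,
    show ((-1 : Polynomial F)) ^ n = Polynomial.C ((-1) ^ n) by rw [map_pow, map_neg, map_one],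
    Polynomial.coeff_C_mul, Polynomial.coeff_reverse, hdeg, Polynomial.revAt_le hi]

theorem star_coeff {n : ℕ} (A : Matrix (Fin n) (Fin n) F) (i : ℕ) :
    Aᴴ.charpoly.coeff i = star (A.charpoly.coeff i) := by
  rw [show Aᴴ = (A.map (starRingEnd F))ᵀ from rfl, Matrix.charpoly_transpose, Matrix.charpoly_map, Polynomial.coeff_map]
  rfl

theorem neg_one_sq (n : ℕ) : ((-1 : F) ^ n) * (-1) ^ n = 1 := by
  rw [← pow_add, Even.neg_one_pow ⟨n, rfl⟩]

/-- Characteristic polynomials of unitary elements of determinant one. -/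
theorem selfdual {n : ℕ} (A : Matrix (Fin n) (Fin n) F) (hA : Aᴴ * A = 1) (hd : A.det = 1) {i : ℕ} (hi : i ≤ n) :
    star (A.charpoly.coeff i) = (-1) ^ n * A.charpoly.coeff (n - i) := by
  rw [← star_coeff, ← inv_coeff A hd hi, Matrix.inv_eq_left_inv hA]

/-- Every self-dual polynomial occurs. -/
theorem exists_element (hstar : ∀ x : F, star x = x ^ q) (hF : Fintype.card F = q ^ 2) {p : ℕ} [Fact p.Prime]
    [CharP F p] {m : ℕ} (a : Fin (m + 1) → F) (ha : a 0 = (-1) ^ (m + 1))
    (hs : ∀ i ≤ m + 1, star ((Semisimple.polyOf a).coeff i) = (-1) ^ (m + 1) * (Semisimple.polyOf a).coeff (m + 1 - i)) :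
    ∃ g : ↥(Cfsg.SU (m + 1) F q), g.1.1.charpoly = Semisimple.polyOf a ∧ (orderOf g).Coprime p := by
  have hne : a 0 ≠ 0 := by rw [ha]; exact pow_ne_zero _ (neg_ne_zero.2 one_ne_zero)
  obtain ⟨g, hgc, hgo⟩ := Semisimple.exists_GL_element p a hne
  have hd : g.1.det = 1 := by
    have h0 := (Semisimple.polyOf_spec a).2.2 0
    rw [Fin.val_zero] at h0
    rw [Matrix.det_eq_sign_charpoly_coeff, hgc, h0, ha, Fintype.card_fin, neg_one_sq]
  obtain ⟨h, hh⟩ : ∃ h : GL (Fin (m + 1)) F, h.1 = ((↑g⁻¹ : Matrix (Fin (m + 1)) (Fin (m + 1)) F))ᴴ :=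
    ⟨⟨((↑g⁻¹ : Matrix (Fin (m + 1)) (Fin (m + 1)) F))ᴴ, (g.1)ᴴ, by rw [← Matrix.conjTranspose_mul, Units.mul_inv, Matrix.conjTranspose_one],
      by rw [← Matrix.conjTranspose_mul, Units.inv_mul, Matrix.conjTranspose_one]⟩, rfl⟩
  have hho : (orderOf h).Coprime p := by
    refine Nat.Coprime.coprime_dvd_left (orderOf_dvd_of_pow_eq_one (Units.ext ?_)) hgo
    rw [Units.val_pow_eq_pow_val, hh, ← Matrix.conjTranspose_pow, ← Units.val_pow_eq_pow_val, inv_pow,
      pow_orderOf_eq_one, inv_one, Units.val_one, Matrix.conjTranspose_one]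
  have hch : h.1.charpoly = g.1.charpoly := by
    refine Polynomial.ext fun i => ?_
    rcases le_or_gt i (m + 1) with hi | hi
    · rw [hh, star_coeff, Matrix.coe_units_inv, inv_coeff _ hd hi, hgc, star_mul', star_pow, star_neg, star_one,
        hs _ (Nat.sub_le _ _), Nat.sub_sub_self hi, ← mul_assoc, neg_one_sq, one_mul]
    · rw [Polynomial.coeff_eq_zero_of_natDegree_lt, Polynomial.coeff_eq_zero_of_natDegree_lt] <;>
        rw [Matrix.charpoly_natDegree_eq_dim, Fintype.card_fin] <;> exact hi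
  obtain ⟨B, hB⟩ := (UnitaryConj.exists_GU_iff hstar hF g).2 (by
    have hc := (Units.coeHom (Matrix (Fin (m + 1)) (Fin (m + 1)) F)).map_isConj
      (Semisimple.isConj_of_charpoly p g h hgo hho hch.symm)
    simp only [Units.coeHom_apply] at hc
    rwa [hh, Matrix.coe_units_inv, Matrix.conjTranspose_nonsing_inv] at hc)
  have hBc := Semisimple.charpoly_eq_of_isConj_GL hB
  have hBd : B.1.1.det = 1 := by
    rw [Matrix.det_eq_sign_charpoly_coeff, ← hBc, ← Matrix.det_eq_sign_charpoly_coeff, hd]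
  refine ⟨UnitaryRegular.lift hstar B hBd, (show B.1.1.charpoly = _ from hBc ▸ hgc), ?_⟩
  obtain ⟨c, hc⟩ := isConj_iff.1 hB
  have ho : orderOf (UnitaryRegular.lift hstar B hBd) = orderOf g := by
    rw [← Subgroup.orderOf_coe, ← orderOf_injective Matrix.SpecialLinearGroup.toGL Matrix.SpecialLinearGroup.toGL_injective,
      show Matrix.SpecialLinearGroup.toGL (UnitaryRegular.lift hstar B hBd).1 = B.1 from Units.ext rfl, ← hc,
      ← MulAut.conj_apply, MulEquiv.orderOf_eq]
  rw [ho]
  exact hgo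

/-- Fixed vectors of a semilinear involution. -/
theorem card_fixed (hstar : ∀ x : F, star x = x ^ q) (hF : Fintype.card F = q ^ 2) (m n : ℕ) :
    Nat.card {b : Fin m → F // ∀ i, star (b i) = (-1) ^ n * b i.rev} = q ^ m := by
  obtain ⟨w, hw⟩ := Hermitian.exists_star_ne hstar hF
  have hw' : w - star w ≠ 0 := sub_ne_zero.2 (Ne.symm hw)
  have hw'' : star (w - star w) = -(w - star w) := by rw [star_sub, star_star, neg_sub]
  let τ : (Fin m → F) → Fin m → F := fun b i => (-1) ^ n * star (b i.rev)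
  have hττ : ∀ b i, (-1 : F) ^ n * star (τ b (Fin.rev i)) = b i := fun b i => by
    simp only [τ, star_mul', star_pow, star_neg, star_one, star_star, Fin.rev_rev]
    rw [← mul_assoc, neg_one_sq, one_mul]
  have hfix : ∀ b : Fin m → F, (∀ i, star (b i) = (-1) ^ n * b i.rev) → ∀ i, (-1 : F) ^ n * star (b i.rev) = b i :=
    fun b hb i => by rw [hb, Fin.rev_rev, ← mul_assoc, neg_one_sq, one_mul]
  have hof : ∀ b : Fin m → F, (∀ i, (-1 : F) ^ n * star (b i.rev) = b i) → ∀ i, star (b i) = (-1) ^ n * b i.rev :=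
    fun b hb i => by
      have := hb i.rev
      rw [Fin.rev_rev] at this
      rw [← this, ← mul_assoc, neg_one_sq, one_mul]
  let e : {b : Fin m → F // ∀ i, star (b i) = (-1) ^ n * b i.rev} ×
      {b : Fin m → F // ∀ i, star (b i) = (-1) ^ n * b i.rev} ≃ (Fin m → F) :=
    { toFun := fun x i => x.1.1 i + w * x.2.1 i
      invFun := fun y => (⟨fun i => y i - w * ((y i - τ y i) / (w - star w)), hof _ fun i => by
          simp only [τ, Fin.rev_rev, star_sub, star_mul', star_div₀, star_star, star_pow, star_neg, star_one]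
          have h1 := neg_one_sq (F := F) n
          rw [show (star w - w : F) = -(w - star w) by ring]
          field_simp
          linear_combination (-(star w * y i)) * h1⟩,
        ⟨fun i => (y i - τ y i) / (w - star w), hof _ fun i => by
          simp only [τ, Fin.rev_rev, star_sub, star_mul', star_div₀, star_star, star_pow, star_neg, star_one]
          have h1 := neg_one_sq (F := F) n
          rw [show (star w - w : F) = -(w - star w) by ring]
          field_simp
          linear_combination (y i) * h1⟩)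
      left_inv := fun x => by
        have h1 := hfix _ x.1.2
        have h2 := hfix _ x.2.2
        have key : ∀ i, ((x.1.1 i + w * x.2.1 i) - τ (fun j => x.1.1 j + w * x.2.1 j) i) / (w - star w) = x.2.1 i :=
          fun i => by
            rw [div_eq_iff hw']
            simp only [τ, star_add, star_mul']
            linear_combination (-1 : F) * h1 i - star w * h2 i
        refine Prod.ext (Subtype.ext (funext fun i => ?_)) (Subtype.ext (funext fun i => key i))
        show (x.1.1 i + w * x.2.1 i) - w * (((x.1.1 i + w * x.2.1 i) - τ (fun j => x.1.1 j + w * x.2.1 j) i) / (w - star w)) = _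
        rw [key, add_sub_cancel_right]
      right_inv := fun y => funext fun i => sub_add_cancel _ _ }
  have h := Nat.card_congr e
  rw [Nat.card_prod, Nat.card_fun, Nat.card_eq_fintype_card (α := F), hF, Nat.card_fin, ← pow_mul, mul_comm 2, pow_mul,
    ← pow_two] at h
  exact Nat.pow_left_injective two_ne_zero h

/-- The number of semisimple classes. -/
theorem card_classes (hstar : ∀ x : F, star x = x ^ q) (hF : Fintype.card F = q ^ 2) (p : ℕ) [Fact p.Prime]
    [CharP F p] (m : ℕ) :
    Nat.card {c : ConjClasses ↥(Cfsg.SU (m + 1) F q) //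
      ∃ g : ↥(Cfsg.SU (m + 1) F q), ConjClasses.mk g = c ∧ (orderOf g).Coprime p} = q ^ m := by
  rw [← card_fixed hstar hF m (m + 1)]
  symm
  have hcoef : ∀ (b : Fin m → F), (∀ i, star (b i) = (-1) ^ (m + 1) * b i.rev) → ∀ i ≤ m + 1,
      star ((Semisimple.polyOf (Fin.cons ((-1) ^ (m + 1)) b)).coeff i) =
        (-1) ^ (m + 1) * (Semisimple.polyOf (Fin.cons ((-1) ^ (m + 1)) b)).coeff (m + 1 - i) := by
    intro b hb i hi
    obtain ⟨hm, hdeg, hc⟩ := Semisimple.polyOf_spec (Fin.cons ((-1 : F) ^ (m + 1)) b)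
    have htop := hm.coeff_natDegree
    rw [hdeg] at htop
    have h0 := hc 0
    rw [Fin.val_zero, Fin.cons_zero] at h0
    rcases Nat.eq_zero_or_pos i with rfl | hi0
    · rw [Nat.sub_zero, htop, h0, star_pow, star_neg, star_one, mul_one]
    rcases eq_or_lt_of_le hi with rfl | hlt
    · rw [Nat.sub_self, htop, h0, star_one, neg_one_sq]
    obtain ⟨j, rfl⟩ : ∃ j, i = j + 1 := ⟨i - 1, by omega⟩
    have hj : j < m := by omega
    have e1 := hc (⟨j, hj⟩ : Fin m).succ
    have e2 := hc (Fin.rev ⟨j, hj⟩ : Fin m).succ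
    rw [Fin.val_succ, Fin.cons_succ] at e1 e2
    rw [show m + 1 - (j + 1) = ((Fin.rev ⟨j, hj⟩ : Fin m) : ℕ) + 1 by rw [Fin.val_rev]; simp only; omega, e1, e2, hb]
  choose f hfc hfo using fun b : {b : Fin m → F // ∀ i, star (b i) = (-1) ^ (m + 1) * b i.rev} =>
    exists_element (p := p) hstar hF (Fin.cons ((-1) ^ (m + 1)) b.1) (Fin.cons_zero _ _) (hcoef b.1 b.2)
  refine Nat.card_eq_of_bijective (fun b => ⟨ConjClasses.mk (f b), f b, rfl, hfo b⟩) ⟨?_, ?_⟩
  · intro b b' e
    have h1 := Semisimple.charpoly_eq_of_isConj_GL (Matrix.SpecialLinearGroup.toGL.map_isConj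
      ((Cfsg.SU (m + 1) F q).subtype.map_isConj (ConjClasses.mk_eq_mk_iff_isConj.1 (congrArg Subtype.val e))))
    exact Subtype.ext (Fin.cons_right_injective (α := fun _ => F) _ (Semisimple.polyOf_injective
      ((hfc b).symm.trans (h1.trans (hfc b')))))
  · rintro ⟨c, g, rfl, hg⟩
    have hsd := fun {i : ℕ} (hi : i ≤ m + 1) => selfdual g.1.1 (Unitary.conjTranspose_mul_self hstar g) g.1.2 hi
    refine ⟨⟨fun i => g.1.1.charpoly.coeff (i + 1), fun i => ?_⟩, Subtype.ext ?_⟩
    · rw [hsd (by omega)]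
      simp only [Fin.val_rev]
      congr 2
      omega
    rw [ConjClasses.mk_eq_mk_iff_isConj]
    refine UnitarySemisimple.conj_of_charpoly hstar hF _ g (hfo _) hg ((hfc _).trans ?_)
    have h0 : g.1.1.charpoly.coeff 0 = (-1) ^ (m + 1) := by
      have h := Matrix.det_eq_sign_charpoly_coeff g.1.1
      rw [g.1.2, Fintype.card_fin] at h
      calc g.1.1.charpoly.coeff 0 = ((-1) ^ (m + 1) * (-1) ^ (m + 1)) * g.1.1.charpoly.coeff 0 := by rw [neg_one_sq, one_mul]
        _ = (-1) ^ (m + 1) := by rw [mul_assoc, ← h, mul_one]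
    refine Eq.trans (congrArg Semisimple.polyOf (funext fun i => ?_)) (Semisimple.coeffs_of_charpoly g.1.1)
    refine Fin.cases ?_ (fun j => ?_) i
    · rw [Fin.cons_zero, Fin.val_zero, h0]
    · rw [Fin.cons_succ, Fin.val_succ]

end Cfsg.Agent.Small.UnitarySemisimpleCount
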