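import Mathlib

/-!
A square matrix over a field is similar to its transpose; a symplectic matrix is similar to its inverse.
-/

set_option autoImplicit false

namespace Cfsg.Agent.Small.TransposeSimilar

open Matrix Polynomial

universe u

variable {F : Type u} [Field F]

/-- A linear functional on `F[X]/(f)` inducing a nondegenerate pairing by multiplication. -/
theorem exists_functional (f : F[X]) (hf : f ≠ 0) :
    ∃ lam : (F[X] ⧸ (Submodule.span F[X] {f} : Ideal F[X])) →ₗ[F] F,
      ∀ x : F[X] ⧸ (Submodule.span F[X] {f} : Ideal F[X]), x ≠ 0 → ∃ y, lam (x * y) ≠ 0 := by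
  classical
  obtain ⟨g, hg⟩ : ∃ g, g = f * C f.leadingCoeff⁻¹ := ⟨_, rfl⟩
  have hgm : g.Monic := hg ▸ monic_mul_leadingCoeff_inv hf
  have hspan : (Submodule.span F[X] {f} : Ideal F[X]) = Ideal.span {g} := by
    rw [hg, Ideal.span_singleton_eq_span_singleton.mpr]
    exact (associated_mul_unit_right f _ (isUnit_C.mpr (Ne.isUnit (inv_ne_zero (leadingCoeff_ne_zero.mpr hf))))).symm
  rw [hspan]
  let l0 : F[X] →ₗ[F] F := (lcoeff F (g.natDegree - 1)).comp (modByMonicHom g)
  have hl0 : ((Ideal.span {g} : Ideal F[X]).restrictScalars F : Submodule F F[X]) ≤ LinearMap.ker l0 := by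
    intro a ha
    have ha' : g ∣ a := Ideal.mem_span_singleton.mp (Submodule.restrictScalars_mem _ _ _ |>.mp ha)
    have h0 : a %ₘ g = 0 := (modByMonic_eq_zero_iff_dvd hgm).mpr ha'
    simp [l0, h0]
  let lam : (F[X] ⧸ (Ideal.span {g} : Ideal F[X])) →ₗ[F] F :=
    (((Ideal.span {g} : Ideal F[X]).restrictScalars F).liftQ l0 hl0).comp
      (Submodule.Quotient.restrictScalarsEquiv F (Ideal.span {g} : Ideal F[X])).symm.toLinearMap
  have hlam : ∀ a : F[X], lam (Ideal.Quotient.mk _ a) = (a %ₘ g).coeff (g.natDegree - 1) := fun a => rfl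
  refine ⟨lam, fun x hx => ?_⟩
  obtain ⟨a, rfl⟩ := Ideal.Quotient.mk_surjective x
  obtain ⟨r, hr⟩ : ∃ r, r = a %ₘ g := ⟨_, rfl⟩
  have hr0 : r ≠ 0 := by
    intro h
    apply hx
    rw [Ideal.Quotient.eq_zero_iff_mem, Ideal.mem_span_singleton, ← modByMonic_eq_zero_iff_dvd hgm, ← hr, h]
  have hg1 : g ≠ 1 := fun h => hr0 (by rw [hr, h, modByMonic_one])
  have hdeg : r.natDegree < g.natDegree := hr ▸ natDegree_modByMonic_lt a hgm hg1
  refine ⟨Ideal.Quotient.mk _ (X ^ (g.natDegree - 1 - r.natDegree)), ?_⟩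
  rw [← map_mul, hlam]
  have hsmall : (r * X ^ (g.natDegree - 1 - r.natDegree)) %ₘ g = r * X ^ (g.natDegree - 1 - r.natDegree) := by
    refine (modByMonic_eq_self_iff hgm).mpr ?_
    rw [degree_eq_natDegree (mul_ne_zero hr0 (pow_ne_zero _ X_ne_zero)), degree_eq_natDegree hgm.ne_zero,
      natDegree_mul_X_pow _ hr0]
    exact_mod_cast (show r.natDegree + (g.natDegree - 1 - r.natDegree) < g.natDegree by omega)
  have hcong : (a * X ^ (g.natDegree - 1 - r.natDegree)) %ₘ g = r * X ^ (g.natDegree - 1 - r.natDegree) := by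
    refine (modByMonic_eq_of_dvd_sub hgm ?_).trans hsmall
    rw [← sub_mul]
    refine dvd_mul_of_dvd_left ?_ _
    rw [hr, modByMonic_eq_sub_mul_div, sub_sub_cancel]
    exact dvd_mul_right _ _
  rw [hcong, show g.natDegree - 1 = r.natDegree + (g.natDegree - 1 - r.natDegree) by omega, coeff_mul_X_pow']
  rw [if_pos (by omega)]
  simp only [add_tsub_cancel_right, add_tsub_cancel_left]
  exact leadingCoeff_ne_zero.mpr hr0

theorem isConj_transpose {ι : Type} [Fintype ι] [DecidableEq ι] (A : Matrix ι ι F) :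
    IsConj A A.transpose := by
  classical
  let T : Module.End F (ι → F) := A.mulVecLin
  obtain ⟨κ, _, p, hp, e, ⟨Φ⟩⟩ := Module.equiv_directSum_of_isTorsion (R := F[X]) (M := Module.AEval' T)
    (Module.AEval.isTorsion_of_finiteDimensional F (ι → F) T)
  choose lam hlam using fun i => exists_functional (p i ^ e i) (pow_ne_zero _ (hp i).ne_zero)
  let φ : ∀ i, (ι → F) →ₗ[F] F[X] ⧸ (Submodule.span F[X] {p i ^ e i} : Ideal F[X]) := fun i =>
    (((DirectSum.component F[X] κ _ i).comp Φ.toLinearMap).restrictScalars F).comp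
      (Module.AEval'.of T).toLinearMap
  have hφT : ∀ i v, φ i (T v) = (X : F[X]) • φ i v := by
    intro i v
    simp only [φ, LinearMap.comp_apply, LinearMap.restrictScalars_apply, LinearEquiv.coe_toLinearMap,
      ← Module.AEval'.X_smul_of, map_smul]
  let B : (ι → F) →ₗ[F] (ι → F) →ₗ[F] F :=
    ∑ i, ((LinearMap.mul F _).compl₁₂ (φ i) (φ i)).compr₂ (lam i)
  have hB : ∀ u v, B u v = ∑ i, lam i (φ i u * φ i v) := fun u v => by
    simp [B, LinearMap.sum_apply, LinearMap.compl₁₂_apply, LinearMap.compr₂_apply]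
  have hBT : ∀ u v, B (T u) v = B u (T v) := fun u v => by
    rw [hB, hB]
    exact Finset.sum_congr rfl fun i _ => by rw [hφT, hφT, smul_mul_assoc, mul_smul_comm]
  have hBsep : B.SeparatingLeft := by
    intro u hu
    by_contra hne
    obtain ⟨i, hi⟩ : ∃ i, φ i u ≠ 0 := by
      by_contra h
      push Not at h
      refine hne ((Module.AEval'.of T).injective (Φ.injective ?_))
      rw [map_zero, map_zero]
      exact DirectSum.ext_component F[X] fun i => by
        rw [map_zero]
        exact h i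
    obtain ⟨z, hz⟩ := hlam i (φ i u) hi
    refine hz ?_
    have hw := hu ((Module.AEval'.of T).symm (Φ.symm (DirectSum.lof F[X] κ _ i z)))
    rw [hB, Finset.sum_eq_single i] at hw
    · simpa [φ, DirectSum.component.of] using hw
    · intro j _ hj
      simp [φ, DirectSum.component.of, Ne.symm hj]
    · simp
  let P : Matrix ι ι F := LinearMap.toMatrix₂' F B
  have hP : P.det ≠ 0 := by
    rw [← LinearMap.separatingLeft_toLinearMap₂'_iff_det_ne_zero]
    simpa [P] using hBsep
  have hcomm : P * A = A.transpose * P := by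
    have h1 : LinearMap.toMatrix₂' F (B.compl₁₂ LinearMap.id T) = P * A := by
      rw [LinearMap.toMatrix₂'_compl₁₂]
      simp [P, T, ← Matrix.toLin'_apply']
    have h2 : LinearMap.toMatrix₂' F (B.compl₁₂ T LinearMap.id) = A.transpose * P := by
      rw [LinearMap.toMatrix₂'_compl₁₂]
      simp [P, T, ← Matrix.toLin'_apply']
    rw [← h1, ← h2]
    congr 1
    exact LinearMap.ext₂ fun u v => (hBT u v).symm
  exact ⟨(Matrix.isUnit_iff_isUnit_det P |>.mpr hP.isUnit).unit, hcomm⟩

theorem isConj_inv_symplectic {m : ℕ} (A : Matrix.symplecticGroup (Fin m) F) :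
    IsConj (A : Matrix (Fin m ⊕ Fin m) (Fin m ⊕ Fin m) F)
      ((A⁻¹ : Matrix.symplecticGroup (Fin m) F) : Matrix (Fin m ⊕ Fin m) (Fin m ⊕ Fin m) F) := by
  refine (isConj_transpose _).trans ?_
  have hu : IsUnit (Matrix.J (Fin m) F) := (Matrix.isUnit_iff_isUnit_det _).mpr (Matrix.isUnit_det_J (Fin m) F)
  refine ⟨hu.unit, ?_⟩
  show Matrix.J (Fin m) F * _ = _ * Matrix.J (Fin m) F
  simp only [SymplecticGroup.coe_inv, Matrix.neg_mul, Matrix.mul_assoc, Matrix.J_squared, Matrix.mul_neg, Matrix.mul_one,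
    neg_neg]

end Cfsg.Agent.Small.TransposeSimilar
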