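import Mathlib

/-!
# Fixed points of products of conjugates of two permutations

For `n ≥ 5` and non-identity permutations `a`, `b` of `n` points, the number of fixed points of
`g⁻¹ a g b` is not constant as `g` runs through the even permutations: a first moment computation
determines the constant, and explicit arrangements contradict it.
-/

set_option autoImplicit false
set_option linter.unusedSectionVars false
set_option maxHeartbeats 800000

namespace Cfsg.Agent.Small.ClassProductFixed

open Finset Equiv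

variable {n : ℕ}

/-- The even permutations. -/
def evens (n : ℕ) : Finset (Perm (Fin n)) := Finset.univ.filter fun g => Perm.sign g = 1

/-- Number of fixed points of `g⁻¹ a g b`. -/
def phi (a b g : Perm (Fin n)) : ℕ := (Finset.univ.filter fun i => a (g (b i)) = g i).card

theorem exists_extend {k : ℕ} (x y : Fin k ↪ Fin n) : ∃ σ : Perm (Fin n), ∀ t, σ (x t) = y t := by
  classical
  let e : {z // z ∈ Set.range x} ≃ {z // z ∈ Set.range y} :=
    (Equiv.ofInjective x x.injective).symm.trans (Equiv.ofInjective y y.injective)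
  refine ⟨e.extendSubtype, fun t => ?_⟩
  rw [Equiv.extendSubtype_apply_of_mem e (x t) ⟨t, rfl⟩]
  simp [e]

theorem sign_cases (σ : Perm (Fin n)) : Perm.sign σ = 1 ∨ Perm.sign σ = -1 :=
  Int.units_eq_one_or _

theorem exists_even {k : ℕ} (hk : k + 2 ≤ n) (x y : Fin k ↪ Fin n) :
    ∃ σ ∈ evens n, ∀ t, σ (x t) = y t := by
  obtain ⟨σ, hσ⟩ := exists_extend x y
  rcases sign_cases σ with h | h
  · exact ⟨σ, by simp [evens, h], hσ⟩
  obtain ⟨u, hu, v, hv, huv⟩ : ∃ u, u ∈ (Finset.univ.map y)ᶜ ∧ ∃ v, v ∈ (Finset.univ.map y)ᶜ ∧ u ≠ v :=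
    Finset.one_lt_card.1 (by
      rw [Finset.card_compl, Finset.card_map, Finset.card_univ, Fintype.card_fin, Fintype.card_fin]
      omega)
  refine ⟨Equiv.swap u v * σ, by simp [evens, h, Perm.sign_swap huv], fun t => ?_⟩
  simp only [Finset.mem_compl, Finset.mem_map, Finset.mem_univ, true_and, not_exists] at hu hv
  rw [Perm.mul_apply, hσ, Equiv.swap_apply_of_ne_of_ne (hu t) (hv t)]

theorem card_fiber {k : ℕ} (hk : k + 2 ≤ n) (x y : Fin k ↪ Fin n) :
    n.descFactorial k * ((evens n).filter fun g => ∀ t, g (x t) = y t).card = (evens n).card := by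
  classical
  have h := Finset.card_eq_sum_card_fiberwise (f := fun g : Perm (Fin n) => x.trans g.toEmbedding)
    (s := evens n) (t := Finset.univ) (fun g _ => Finset.mem_univ _)
  rw [h]
  have hfib : ∀ z : Fin k ↪ Fin n, ((evens n).filter fun g : Perm (Fin n) => x.trans g.toEmbedding = z).card =
      ((evens n).filter fun g => ∀ t, g (x t) = y t).card := by
    intro z
    obtain ⟨σ, hσm, hσ⟩ := exists_even hk z y
    simp only [evens, Finset.mem_filter, Finset.mem_univ, true_and] at hσm
    refine Finset.card_bij' (fun g _ => σ * g) (fun g _ => σ⁻¹ * g) ?_ ?_ (by simp) (by simp)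
    · intro g hg
      simp only [evens, Finset.mem_filter, Finset.mem_univ, true_and] at hg ⊢
      refine ⟨by simp [hσm, hg.1], fun t => ?_⟩
      have := DFunLike.congr_fun hg.2 t
      simp only [Function.Embedding.trans_apply, Equiv.coe_toEmbedding] at this
      rw [Perm.mul_apply, this, hσ]
    · intro g hg
      simp only [evens, Finset.mem_filter, Finset.mem_univ, true_and] at hg ⊢
      refine ⟨by simp [hσm, hg.1], ?_⟩
      ext t
      simp only [Function.Embedding.trans_apply, Equiv.coe_toEmbedding, Perm.mul_apply, hg.2, ← hσ]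
      simp
  rw [Finset.sum_congr rfl fun z _ => hfib z, Finset.sum_const, Finset.card_univ, Fintype.card_embedding_eq,
    Fintype.card_fin, Fintype.card_fin, smul_eq_mul]

def pair {x y : Fin n} (h : x ≠ y) : Fin 2 ↪ Fin n :=
  ⟨![x, y], fun i j => by fin_cases i <;> fin_cases j <;> simp [h, Ne.symm h]⟩

def single (x : Fin n) : Fin 1 ↪ Fin n := ⟨fun _ => x, fun i j _ => Subsingleton.elim i j⟩

theorem count_fixed (hn : 5 ≤ n) (a b : Perm (Fin n)) {i : Fin n} (hi : b i = i) :
    n * ((evens n).filter fun g => a (g (b i)) = g i).card =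
      (evens n).card * (Finset.univ.filter fun y => a y = y).card := by
  classical
  rw [Finset.card_eq_sum_card_fiberwise (f := fun g : Perm (Fin n) => g i)
    (t := Finset.univ.filter fun y => a y = y) (fun g hg => by
      simp only [Finset.coe_filter, Set.mem_setOf_eq] at hg ⊢
      exact ⟨Finset.mem_univ _, by simpa [hi] using hg.2⟩), Finset.mul_sum,
    Finset.sum_congr rfl (g := fun _ => (evens n).card) ?_, Finset.sum_const, smul_eq_mul, mul_comm]
  intro y hy
  simp only [Finset.mem_filter, Finset.mem_univ, true_and] at hy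
  rw [← card_fiber (by omega) (single i) (single y), Nat.descFactorial_one]
  congr 2
  ext g
  simp only [Finset.mem_filter]
  constructor
  · rintro ⟨⟨h1, -⟩, h2⟩
    exact ⟨h1, fun _ => h2⟩
  · rintro ⟨h1, h2⟩
    have e : g i = y := h2 0
    exact ⟨⟨h1, by rw [hi, e, hy]⟩, e⟩

theorem count_moved (hn : 5 ≤ n) (a b : Perm (Fin n)) {i : Fin n} (hi : b i ≠ i) :
    n * (n - 1) * ((evens n).filter fun g => a (g (b i)) = g i).card =
      (evens n).card * (Finset.univ.filter fun y => a y ≠ y).card := by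
  classical
  rw [Finset.card_eq_sum_card_fiberwise (f := fun g : Perm (Fin n) => g (b i))
    (t := Finset.univ.filter fun y => a y ≠ y) (fun g hg => by
      simp only [Finset.coe_filter, Set.mem_setOf_eq] at hg ⊢
      exact ⟨Finset.mem_univ _, fun h => hi (g.injective (h.symm.trans hg.2))⟩), Finset.mul_sum,
    Finset.sum_congr rfl (g := fun _ => (evens n).card) ?_, Finset.sum_const, smul_eq_mul, mul_comm]
  intro y hy
  simp only [Finset.mem_filter, Finset.mem_univ, true_and] at hy
  rw [← card_fiber (by omega) (pair hi) (pair (Ne.symm hy)),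
    show n.descFactorial 2 = n * (n - 1) by simp [Nat.descFactorial, mul_comm]]
  congr 2
  ext g
  simp only [Finset.mem_filter]
  constructor
  · rintro ⟨⟨h1, h2⟩, h3⟩
    refine ⟨h1, fun t => ?_⟩
    fin_cases t
    · exact h3
    · show g i = a y
      rw [← h2, h3]
  · rintro ⟨h1, h2⟩
    have e0 : g (b i) = y := h2 0
    have e1 : g i = a y := h2 1
    exact ⟨⟨h1, by rw [e0, e1]⟩, e0⟩

/-- The first moment. -/
theorem moment (hn : 5 ≤ n) (a b : Perm (Fin n)) {c : ℕ} (hc : ∀ g ∈ evens n, phi a b g = c) :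
    c * (n * (n - 1)) =
      (Finset.univ.filter fun y => b y = y).card * (Finset.univ.filter fun y => a y = y).card * (n - 1) +
        (Finset.univ.filter fun y => a y ≠ y).card * (Finset.univ.filter fun y => b y ≠ y).card := by
  classical
  have hE : 0 < (evens n).card := Finset.card_pos.2 ⟨1, by simp [evens]⟩
  have hsum : (evens n).card * c = ∑ i, ((evens n).filter fun g => a (g (b i)) = g i).card := by
    simp only [Finset.card_filter]
    rw [Finset.sum_comm, ← smul_eq_mul, ← Finset.sum_const]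
    refine Finset.sum_congr rfl fun g hg => ?_
    rw [← hc g hg, phi, Finset.card_filter]
  refine Nat.eq_of_mul_eq_mul_left hE ?_
  rw [← mul_assoc, hsum, Finset.sum_mul, ← Finset.sum_filter_add_sum_filter_not _ (fun y => b y = y)]
  have e1 : ∀ i ∈ Finset.univ.filter (fun y => b y = y),
      ((evens n).filter fun g => a (g (b i)) = g i).card * (n * (n - 1)) =
        (evens n).card * (Finset.univ.filter fun y => a y = y).card * (n - 1) := fun i hi => by
    rw [← count_fixed hn a b (Finset.mem_filter.1 hi).2]; ring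
  have e2 : ∀ i ∈ Finset.univ.filter (fun y => ¬ b y = y),
      ((evens n).filter fun g => a (g (b i)) = g i).card * (n * (n - 1)) =
        (evens n).card * (Finset.univ.filter fun y => a y ≠ y).card := fun i hi => by
    rw [← count_moved hn a b (Finset.mem_filter.1 hi).2]; ring
  rw [Finset.sum_congr rfl e1, Finset.sum_congr rfl e2, Finset.sum_const, Finset.sum_const, smul_eq_mul, smul_eq_mul]
  ring

theorem two_le_moved {a : Perm (Fin n)} (ha : a ≠ 1) : 2 ≤ (Finset.univ.filter fun y => a y ≠ y).card := by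
  have h : (Finset.univ.filter fun y => a y ≠ y) = a.support := by ext; simp
  rw [h]
  exact Perm.two_le_card_support_of_ne_one ha

theorem exists_even_image {S T : Finset (Fin n)} (hS : 2 ≤ S.card) (hST : S.card ≤ T.card) :
    ∃ g ∈ evens n, ∀ x ∈ S, g x ∈ T := by
  classical
  let x : Fin S.card ↪ Fin n := (S.orderEmbOfFin rfl).toEmbedding
  let y : Fin S.card ↪ Fin n := (Fin.castLEEmb hST).trans (T.orderEmbOfFin rfl).toEmbedding
  obtain ⟨σ, hσ⟩ := exists_extend x y
  have hmem : ∀ z ∈ S, σ z ∈ T := by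
    intro z hz
    obtain ⟨t, rfl⟩ : ∃ t, S.orderEmbOfFin rfl t = z := by
      have := Finset.range_orderEmbOfFin S rfl
      exact (Set.ext_iff.1 this z).2 hz
    exact (hσ t).symm ▸ Finset.orderEmbOfFin_mem T rfl _
  rcases sign_cases σ with h | h
  · exact ⟨σ, by simp [evens, h], hmem⟩
  obtain ⟨u, hu, v, hv, huv⟩ := Finset.one_lt_card.1 (by omega : 1 < S.card)
  refine ⟨σ * Equiv.swap u v, by simp [evens, h, Perm.sign_swap huv], fun z hz => ?_⟩
  rw [Perm.mul_apply]
  refine hmem _ ?_
  rw [Equiv.swap_apply_def]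
  split_ifs <;> assumption

theorem phi_symm (a b g : Perm (Fin n)) : phi b a g⁻¹ = phi a b g := by
  refine Finset.card_bij' (fun j _ => b⁻¹ (g⁻¹ j)) (fun i _ => g (b i)) ?_ ?_ (by simp) (by simp)
  · intro j hj
    simp only [Finset.mem_filter, Finset.mem_univ, true_and] at hj ⊢
    rw [← Perm.eq_inv_iff_eq.2 hj, hj]
    simp
  · intro i hi
    simp only [Finset.mem_filter, Finset.mem_univ, true_and] at hi ⊢
    rw [hi]
    simp

theorem five : ∀ a : Perm (Fin 5), Perm.sign a = 1 → (Finset.univ.filter fun x => a x = x).card = 1 →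
    ∀ x, a (a x) = x := by
  decide +kernel

/-- If `a` has exactly one fixed point, the count is not constantly `1`. -/
theorem one_fixed (hn : 5 ≤ n) (a b : Perm (Fin n)) (hb : b ≠ 1)
    (hfa : (Finset.univ.filter fun y => a y = y).card = 1) : ∃ g ∈ evens n, phi a b g ≠ 1 := by
  classical
  obtain ⟨f, hf⟩ := Finset.card_eq_one.1 hfa
  have hfix : ∀ y, a y = y ↔ y = f := fun y => by
    simpa using Finset.ext_iff.1 hf y
  have two : ∀ g : Perm (Fin n), ∀ i i', i ≠ i' → a (g (b i)) = g i → a (g (b i')) = g i' → phi a b g ≠ 1 := by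
    intro g i i' hne h1 h2 h
    exact hne (Finset.card_le_one.1 h.le i (by simp [h1]) i' (by simp [h2]))
  by_cases hbf : ∃ i, b i = i
  · obtain ⟨i, hi⟩ := hbf
    obtain ⟨j, hj⟩ : ∃ j, b j ≠ j := by
      by_contra! h
      exact hb (Equiv.ext h)
    obtain ⟨u, hu⟩ : ∃ u : Fin n, u ≠ f := Finset.exists_mem_ne (s := Finset.univ) (by simp; omega) f |>.imp
      fun u h => h.2
    have h1 : j ≠ i := fun h => hj (h ▸ hi)
    have h2 : b j ≠ i := fun h => h1 (b.injective (h.trans hi.symm))
    have h4 : a u ≠ u := fun h => hu ((hfix u).1 h)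
    have h5 : a u ≠ f := fun h => hu (a.injective (h.trans ((hfix f).2 rfl).symm))
    obtain ⟨g, hg, hgt⟩ := exists_even (by omega) (k := 3)
      ⟨![i, b j, j], fun s t => by fin_cases s <;> fin_cases t <;> simp [h1, h2, hj, Ne.symm h1, Ne.symm h2, Ne.symm hj]⟩
      ⟨![f, u, a u], fun s t => by fin_cases s <;> fin_cases t <;> simp [hu, h4, h5, Ne.symm hu, Ne.symm h4, Ne.symm h5]⟩
    have g0 : g i = f := hgt 0
    have g1 : g (b j) = u := hgt 1
    have g2 : g j = a u := hgt 2
    exact ⟨g, hg, two g i j (Ne.symm h1) (by rw [hi, g0]; exact (hfix f).2 rfl) (by rw [g1, g2])⟩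
  push Not at hbf
  obtain ⟨i, -⟩ : ∃ i : Fin n, i = ⟨0, by omega⟩ := ⟨_, rfl⟩
  obtain ⟨k, hk⟩ : ∃ k, k ∉ ({i, b i, b⁻¹ i} : Finset (Fin n)) := by
    by_contra! h
    have := Finset.card_le_card (s := Finset.univ) (fun z _ => h z)
    have := le_trans this Finset.card_le_three
    simp at this
    omega
  simp only [Finset.mem_insert, Finset.mem_singleton, not_or] at hk
  obtain ⟨u, hu⟩ : ∃ u : Fin n, u ≠ f := Finset.exists_mem_ne (s := Finset.univ) (by simp; omega) f |>.imp
    fun u h => h.2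
  have hau : a u ≠ f := fun h => hu (a.injective (h.trans ((hfix f).2 rfl).symm))
  obtain ⟨w, hw⟩ : ∃ w, w ∉ ({u, a u, a⁻¹ u, f} : Finset (Fin n)) := by
    by_contra! h
    have := Finset.card_le_card (s := Finset.univ) (fun z _ => h z)
    have := le_trans this Finset.card_le_four
    simp at this
    omega
  simp only [Finset.mem_insert, Finset.mem_singleton, not_or] at hw
  have h1 : b i ≠ i := hbf i
  have h2 : b k ≠ k := hbf k
  have h3 : b k ≠ i := fun h => hk.2.2 (by rw [← h]; simp)
  have h4 : b k ≠ b i := fun h => hk.1 (b.injective h)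
  have h5 : a u ≠ u := fun h => hu ((hfix u).1 h)
  have h6 : a w ≠ w := fun h => hw.2.2.2 ((hfix w).1 h)
  have h7 : a w ≠ u := fun h => hw.2.2.1 (by rw [← h]; simp)
  have h8 : a w ≠ a u := fun h => hw.1 (a.injective h)
  let x : Fin 4 ↪ Fin n := ⟨![b i, i, b k, k], fun s t => by
    fin_cases s <;> fin_cases t <;> simp [h1, h2, h3, h4, hk.1, hk.2.1, Ne.symm h1, Ne.symm h2, Ne.symm h3,
      Ne.symm h4, Ne.symm hk.1, Ne.symm hk.2.1]⟩
  let y : Fin 4 ↪ Fin n := ⟨![u, a u, w, a w], fun s t => by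
    fin_cases s <;> fin_cases t <;> simp [h5, h6, h7, h8, hw.1, hw.2.1, Ne.symm h5, Ne.symm h6, Ne.symm h7,
      Ne.symm h8, Ne.symm hw.1, Ne.symm hw.2.1]⟩
  obtain ⟨σ, hσ⟩ := exists_extend x y
  have s0 : σ (b i) = u := hσ 0
  have s1 : σ i = a u := hσ 1
  have s2 : σ (b k) = w := hσ 2
  have s3 : σ k = a w := hσ 3
  rcases sign_cases σ with h | h
  · exact ⟨σ, by simp [evens, h], two σ i k (Ne.symm hk.1) (by rw [s0, s1]) (by rw [s2, s3])⟩
  by_cases h6n : 6 ≤ n
  · obtain ⟨g, hg, hgt⟩ := exists_even (by omega) x y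
    have g0 : g (b i) = u := hgt 0
    have g1 : g i = a u := hgt 1
    have g2 : g (b k) = w := hgt 2
    have g3 : g k = a w := hgt 3
    exact ⟨g, hg, two g i k (Ne.symm hk.1) (by rw [g0, g1]) (by rw [g2, g3])⟩
  obtain rfl : n = 5 := by omega
  rcases sign_cases a with ha | ha
  · have h2a := five a ha hfa
    refine ⟨Equiv.swap u (a u) * σ, by simp [evens, h, Perm.sign_swap (Ne.symm h5)], ?_⟩
    refine two _ i k (Ne.symm hk.1) ?_ ?_
    · rw [Perm.mul_apply, Perm.mul_apply, s0, s1, Equiv.swap_apply_left, Equiv.swap_apply_right, h2a]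
    · rw [Perm.mul_apply, Perm.mul_apply, s2, s3, Equiv.swap_apply_of_ne_of_ne hw.1 hw.2.1,
        Equiv.swap_apply_of_ne_of_ne h7 h8]
  · refine ⟨a * σ, by simp [evens, h, ha], ?_⟩
    refine two _ i k (Ne.symm hk.1) ?_ ?_
    · rw [Perm.mul_apply, Perm.mul_apply, s0, s1]
    · rw [Perm.mul_apply, Perm.mul_apply, s2, s3]

theorem not_constant (hn : 5 ≤ n) (a b : Perm (Fin n)) (ha : a ≠ 1) (hb : b ≠ 1) :
    ∃ g₁ ∈ evens n, ∃ g₂ ∈ evens n, phi a b g₁ ≠ phi a b g₂ := by
  classical
  by_contra! hcon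
  have h1 : (1 : Perm (Fin n)) ∈ evens n := by simp [evens]
  obtain ⟨c, hc⟩ : ∃ c, ∀ g ∈ evens n, phi a b g = c := ⟨phi a b 1, fun g hg => hcon g hg 1 h1⟩
  have hm := moment hn a b hc
  obtain ⟨sa, hsa⟩ : ∃ s, s = (Finset.univ.filter fun y => a y ≠ y).card := ⟨_, rfl⟩
  obtain ⟨sb, hsb⟩ : ∃ s, s = (Finset.univ.filter fun y => b y ≠ y).card := ⟨_, rfl⟩
  obtain ⟨fa, hfa⟩ : ∃ s, s = (Finset.univ.filter fun y => a y = y).card := ⟨_, rfl⟩
  obtain ⟨fb, hfb⟩ : ∃ s, s = (Finset.univ.filter fun y => b y = y).card := ⟨_, rfl⟩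
  rw [← hsa, ← hsb, ← hfa, ← hfb] at hm
  have ea : fa + sa = n := by
    rw [hfa, hsa, Finset.card_filter_add_card_filter_not, Finset.card_univ, Fintype.card_fin]
  have eb : fb + sb = n := by
    rw [hfb, hsb, Finset.card_filter_add_card_filter_not, Finset.card_univ, Fintype.card_fin]
  have ha2 : 2 ≤ sa := hsa ▸ two_le_moved ha
  have hb2 : 2 ≤ sb := hsb ▸ two_le_moved hb
  -- the supports can be nested
  have hnest : fa ≤ c ∨ fb ≤ c := by
    rcases le_total sb sa with h | h
    · left
      obtain ⟨g, hg, hgS⟩ := exists_even_image (S := Finset.univ.filter fun y => b y ≠ y)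
        (T := Finset.univ.filter fun y => a y ≠ y) (by omega) (by omega)
      rw [← hc g hg, hfa]
      refine Finset.card_le_card_of_injOn (fun y => g⁻¹ y) (fun y hy => ?_) g⁻¹.injective.injOn
      simp only [Finset.coe_filter, Finset.mem_univ, true_and, Set.mem_setOf_eq] at hy ⊢
      have hby : b (g⁻¹ y) = g⁻¹ y := by
        by_contra hne
        have := hgS (g⁻¹ y) (Finset.mem_filter.2 ⟨Finset.mem_univ _, hne⟩)
        simp [hy] at this
      rw [hby]
      simpa using hy
    · right
      obtain ⟨g, hg, hgS⟩ := exists_even_image (S := Finset.univ.filter fun y => a y ≠ y)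
        (T := Finset.univ.filter fun y => b y ≠ y) (by omega) (by omega)
      have hg' : g⁻¹ ∈ evens n := by simpa [evens] using hg
      rw [← hc g⁻¹ hg', ← phi_symm, inv_inv, hfb]
      refine Finset.card_le_card_of_injOn (fun y => g⁻¹ y) (fun y hy => ?_) g⁻¹.injective.injOn
      simp only [Finset.coe_filter, Finset.mem_univ, true_and, Set.mem_setOf_eq] at hy ⊢
      have hby : a (g⁻¹ y) = g⁻¹ y := by
        by_contra hne
        have := hgS (g⁻¹ y) (Finset.mem_filter.2 ⟨Finset.mem_univ _, hne⟩)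
        simp [hy] at this
      rw [hby]
      simpa using hy
  by_cases hbig : sa ≤ n - 2 ∧ sb ≤ n - 2
  · obtain ⟨hA, hB⟩ := hbig
    obtain ⟨m, rfl⟩ : ∃ m, n = m + 1 := ⟨n - 1, by omega⟩
    simp only [Nat.add_sub_cancel] at hm
    rcases hnest with h | h
    · have h' := Nat.mul_le_mul_right ((m + 1) * m) h
      have e : fa * ((m + 1) * m) = fb * fa * m + fa * m * sb := by rw [← eb]; ring
      have h3 : fa * m * sb ≤ sa * sb := by omega
      have h4 := Nat.le_of_mul_le_mul_right h3 (by omega)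
      have h5 : 2 * m ≤ fa * m := Nat.mul_le_mul_right m (by omega)
      omega
    · have h' := Nat.mul_le_mul_right ((m + 1) * m) h
      have e : fb * ((m + 1) * m) = fb * fa * m + sa * (fb * m) := by rw [← ea]; ring
      have h3 : sa * (fb * m) ≤ sa * sb := by omega
      have h4 := Nat.le_of_mul_le_mul_left h3 (by omega)
      have h5 : 2 * m ≤ fb * m := Nat.mul_le_mul_right m (by omega)
      omega
  have hc1 : (fa = 1 ∨ fb = 1) ∧ c = 1 := by
    obtain ⟨m, rfl⟩ : ∃ m, n = m + 1 := ⟨n - 1, by omega⟩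
    simp only [Nat.add_sub_cancel] at hm
    by_cases hA1 : fa = 1
    · refine ⟨Or.inl hA1, ?_⟩
      obtain rfl : sa = m := by omega
      refine Nat.eq_of_mul_eq_mul_right (show 0 < (sa + 1) * sa by positivity) ?_
      rw [hm, hA1, one_mul, show sa + 1 = fb + sb from eb.symm]
      ring
    by_cases hB1 : fb = 1
    · refine ⟨Or.inr hB1, ?_⟩
      obtain rfl : sb = m := by omega
      refine Nat.eq_of_mul_eq_mul_right (show 0 < (sb + 1) * sb by positivity) ?_
      rw [hm, hB1, one_mul, show sb + 1 = fa + sa from ea.symm]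
      ring
    exfalso
    rcases (by omega : fa = 0 ∨ fb = 0) with h0 | h0
    · obtain rfl : sa = m + 1 := by omega
      rw [h0, mul_zero, zero_mul, zero_add] at hm
      have e : sb = c * m := Nat.eq_of_mul_eq_mul_left (Nat.succ_pos m) (by linarith)
      rcases Nat.lt_or_ge c 2 with h | h
      · interval_cases c <;> omega
      · have := Nat.mul_le_mul_right m h
        omega
    · obtain rfl : sb = m + 1 := by omega
      rw [h0, zero_mul, zero_mul, zero_add] at hm
      have e : sa = c * m := Nat.eq_of_mul_eq_mul_right (Nat.succ_pos m) (by linarith)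
      rcases Nat.lt_or_ge c 2 with h | h
      · interval_cases c <;> omega
      · have := Nat.mul_le_mul_right m h
        omega
  obtain ⟨hone, rfl⟩ := hc1
  rcases hone with h | h
  · obtain ⟨g, hg, hne⟩ := one_fixed hn a b hb (hfa ▸ h)
    exact hne (hc g hg)
  · obtain ⟨g, hg, hne⟩ := one_fixed hn b a ha (hfb ▸ h)
    have hg' : g⁻¹ ∈ evens n := by simpa [evens] using hg
    exact hne (by
      have e := phi_symm a b g⁻¹
      rw [inv_inv] at e
      rw [e]
      exact hc _ hg')

theorem main (hn : 5 ≤ n) (a b : Perm (Fin n)) (ha : a ≠ 1) (hb : b ≠ 1) :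
    ∃ g₁ h₁ g₂ h₂ : Perm (Fin n), g₁ ∈ alternatingGroup (Fin n) ∧ h₁ ∈ alternatingGroup (Fin n) ∧
      g₂ ∈ alternatingGroup (Fin n) ∧ h₂ ∈ alternatingGroup (Fin n) ∧
      Nat.card (Function.fixedPoints ⇑(g₁ * a * g₁⁻¹ * (h₁ * b * h₁⁻¹))) ≠
        Nat.card (Function.fixedPoints ⇑(g₂ * a * g₂⁻¹ * (h₂ * b * h₂⁻¹))) := by
  obtain ⟨g₁, h₁, g₂, h₂, hne⟩ := not_constant hn a b ha hb
  have key : ∀ g : Perm (Fin n),
      Nat.card (Function.fixedPoints ⇑(g⁻¹ * a * g⁻¹⁻¹ * (1 * b * 1⁻¹))) = phi a b g := by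
    intro g
    rw [phi, Nat.subtype_card]
    intro i
    simp [Function.IsFixedPt, Equiv.symm_apply_eq]
  refine ⟨g₁⁻¹, 1, g₂⁻¹, 1, ?_, one_mem _, ?_, one_mem _, by rw [key, key]; exact hne⟩
  · simpa [evens, Perm.mem_alternatingGroup] using h₁
  · simpa [evens, Perm.mem_alternatingGroup] using h₂

end Cfsg.Agent.Small.ClassProductFixed
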