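import Mathlib

/-!
Counting fixed cosets, the embedding into an alternating group and Sylow intersections.
-/

set_option autoImplicit false

namespace Cfsg.Agent.Small.CosetCount

variable {G : Type*} [Group G]

theorem fixed_iff {H : Subgroup G} {x g : G} :
    x • (g : G ⧸ H) = (g : G ⧸ H) ↔ g⁻¹ * x * g ∈ H := by
  rw [MulAction.Quotient.smul_coe, eq_comm, QuotientGroup.eq, smul_eq_mul, mul_assoc]

theorem isConj_iff' {x y : G} : IsConj x y ↔ ∃ g : G, g⁻¹ * x * g = y := by
  rw [isConj_iff]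
  exact ⟨fun ⟨c, h⟩ => ⟨c⁻¹, by simpa using h⟩, fun ⟨c, h⟩ => ⟨c⁻¹, by simpa using h⟩⟩

theorem fixed_count [Finite G] (H : Subgroup G) (x : G) :
    Nat.card (MulAction.fixedBy (G ⧸ H) x) * Nat.card H = Nat.card {g : G // g⁻¹ * x * g ∈ H} := by
  rw [← QuotientGroup.card_preimage_mk H (MulAction.fixedBy (G ⧸ H) x) |>.trans (mul_comm _ _)]
  exact Nat.card_congr (Equiv.subtypeEquivRight fun g => fixed_iff)

theorem conj_fibre [Finite G] (x : G) (S : G → Prop) :
    Nat.card {g : G // S (g⁻¹ * x * g)} =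
      Nat.card {y : G // IsConj x y ∧ S y} * Nat.card (Subgroup.centralizer ({x} : Set G)) := by
  have h : ∀ y : {y : G // IsConj x y ∧ S y}, ∃ g : G, g⁻¹ * x * g = y.1 := fun y =>
    isConj_iff'.mp y.2.1
  choose c hc using h
  rw [← Nat.card_prod]
  refine (Nat.card_congr (Equiv.ofBijective
    (fun p : {y : G // IsConj x y ∧ S y} × Subgroup.centralizer ({x} : Set G) =>
      (⟨p.2.1 * c p.1, ?_⟩ : {g : G // S (g⁻¹ * x * g)})) ⟨fun p r h => ?_, fun g => ?_⟩)).symm
  · have hz := Subgroup.mem_centralizer_singleton_iff.mp p.2.2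
    rw [show (p.2.1 * c p.1)⁻¹ * x * (p.2.1 * c p.1) = (c p.1)⁻¹ * (p.2.1⁻¹ * (x * p.2.1)) * c p.1 by group,
      ← hz, inv_mul_cancel_left, hc]
    exact p.1.2.2
  · have h' : p.2.1 * c p.1 = r.2.1 * c r.1 := congrArg Subtype.val h
    have hz := Subgroup.mem_centralizer_singleton_iff.mp p.2.2
    have hz' := Subgroup.mem_centralizer_singleton_iff.mp r.2.2
    have e1 : p.1 = r.1 := by
      apply Subtype.ext
      rw [← hc p.1, ← hc r.1]
      have e : ∀ (z : G) (w : G), z * x = x * z → (z * w)⁻¹ * x * (z * w) = w⁻¹ * x * w := by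
        intro z w hzw
        rw [show (z * w)⁻¹ * x * (z * w) = w⁻¹ * (z⁻¹ * (x * z)) * w by group, ← hzw, inv_mul_cancel_left]
      rw [← e _ (c p.1) hz, ← e _ (c r.1) hz', h']
    rw [e1] at h'
    exact Prod.ext e1 (Subtype.ext (mul_right_cancel h'))
  · obtain ⟨y, hy⟩ : ∃ y : {y : G // IsConj x y ∧ S y}, y.1 = g.1⁻¹ * x * g.1 :=
      ⟨⟨_, isConj_iff'.mpr ⟨g.1, rfl⟩, g.2⟩, rfl⟩
    refine ⟨(y, ⟨g.1 * (c y)⁻¹, Subgroup.mem_centralizer_singleton_iff.mpr ?_⟩),
      Subtype.ext (inv_mul_cancel_right _ _)⟩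
    have h1 := hc y
    rw [hy] at h1
    calc g.1 * (c y)⁻¹ * x = g.1 * ((c y)⁻¹ * x * c y) * (c y)⁻¹ := by group
      _ = x * (g.1 * (c y)⁻¹) := by rw [h1]; group

theorem fixed_times_class [Finite G] (H : Subgroup G) (x : G) :
    Nat.card (MulAction.fixedBy (G ⧸ H) x) * Nat.card {g : G // IsConj x g} =
      H.index * Nat.card {g : G // IsConj x g ∧ g ∈ H} := by
  obtain ⟨C, hC⟩ : ∃ C, C = Nat.card (Subgroup.centralizer ({x} : Set G)) := ⟨_, rfl⟩
  have h1 := (fixed_count H x).trans (conj_fibre x (· ∈ H))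
  have h2 := conj_fibre x (fun _ => True)
  rw [Nat.card_congr (Equiv.subtypeUnivEquiv fun g => trivial), ← H.card_mul_index,
    Nat.card_congr (Equiv.subtypeEquivRight fun y => (iff_of_eq (and_true (IsConj x y))))] at h2
  rw [← hC] at h1 h2
  refine Nat.eq_of_mul_eq_mul_right (mul_pos (Nat.card_pos (α := H)) (hC ▸ Nat.card_pos : 0 < C)) ?_
  calc _ = (Nat.card (MulAction.fixedBy (G ⧸ H) x) * Nat.card H) *
        (Nat.card {g : G // IsConj x g} * C) := by ring
    _ = _ := by rw [h1, ← h2]; ring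

/-- The embedding into an alternating group. -/
theorem embed_alternating [Finite G] [IsSimpleGroup G] (hG : ¬ IsMulCommutative G) (H : Subgroup G)
    (hH : H ≠ ⊤) : ∃ f : G →* ↥(alternatingGroup (Fin H.index)), Function.Injective f := by
  classical
  have := Fintype.ofFinite (G ⧸ H)
  have e : G ⧸ H ≃ Fin H.index := (Fintype.equivFin _).trans
    (finCongr (by rw [← Nat.card_eq_fintype_card]; rfl))
  let φ : G →* Equiv.Perm (Fin H.index) :=
    e.permCongrHom.toMonoidHom.comp (MulAction.toPermHom G (G ⧸ H))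
  have hker : φ.ker = ⊥ := by
    refine ((IsSimpleGroup.eq_bot_or_eq_top_of_normal φ.ker inferInstance).resolve_right fun ht => hH ?_)
    rw [eq_top_iff]
    intro g _
    have hg : φ g = 1 := φ.mem_ker.mp (ht ▸ Subgroup.mem_top g)
    have h1 : MulAction.toPermHom G (G ⧸ H) g = 1 := e.permCongrHom.injective (by rw [map_one]; exact hg)
    have h2 := congrArg (fun s : Equiv.Perm (G ⧸ H) => s ((1 : G) : G ⧸ H)) h1
    have h3 : g • ((1 : G) : G ⧸ H) = ((1 : G) : G ⧸ H) := h2
    simpa using fixed_iff.mp h3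
  have hs : ∀ g, Equiv.Perm.sign (φ g) = 1 := by
    rcases IsSimpleGroup.eq_bot_or_eq_top_of_normal (Equiv.Perm.sign.comp φ).ker inferInstance with h | h
    · exfalso
      apply hG
      refine ⟨⟨fun a b => ?_⟩⟩
      exact (Equiv.Perm.sign.comp φ).ker_eq_bot_iff.mp h (by rw [map_mul, map_mul, mul_comm])
    · intro g
      exact (Equiv.Perm.sign.comp φ).mem_ker.mp (h ▸ Subgroup.mem_top g)
  exact ⟨φ.codRestrict _ fun g => Equiv.Perm.mem_alternatingGroup.mpr (hs g), fun a b h =>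
    φ.ker_eq_bot_iff.mp hker (congrArg Subtype.val h)⟩

/-- Sylow intersections. -/
theorem sylow_inter [Finite G] (p k : ℕ) [Fact p.Prime] (h : ¬ Nat.card (Sylow p G) ≡ 1 [MOD p ^ k]) :
    ∃ P R : Sylow p G, P ≠ R ∧
      ((R : Subgroup G).subgroupOf (P : Subgroup G)).index ≤ p ^ (k - 1) := by
  classical
  by_contra! hall
  obtain ⟨P⟩ : Nonempty (Sylow p G) := inferInstance
  have := Fintype.ofFinite (Sylow p G)
  apply h
  have hp : p.Prime := Fact.out
  have hstab : ∀ R : Sylow p G, MulAction.stabilizer (P : Subgroup G) R =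
      (R : Subgroup G).subgroupOf (P : Subgroup G) := by
    intro R
    ext x
    rw [MulAction.mem_stabilizer_iff, Subgroup.mem_subgroupOf]
    have h1 : x • R = R ↔ (x : G) • R = R := Iff.rfl
    rw [h1, Sylow.smul_eq_iff_mem_normalizer]
    refine ⟨fun hx => ?_, fun hx => Subgroup.le_normalizer hx⟩
    have h2 := IsPGroup.inf_normalizer_sylow P.2 R
    exact ((SetLike.ext_iff.mp h2 x.1).mp (Subgroup.mem_inf.mpr ⟨x.2, hx⟩)).2
  have horb : ∀ R : Sylow p G, R ≠ P → p ^ k ∣ Nat.card (MulAction.orbit (P : Subgroup G) R) := by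
    intro R hR
    rw [Nat.card_coe_set_eq, ← MulAction.index_stabilizer, hstab]
    have h1 := hall P R hR.symm
    obtain ⟨j, hj⟩ := P.2.index ((R : Subgroup G).subgroupOf (P : Subgroup G))
    rw [hj] at h1 ⊢
    refine pow_dvd_pow p ?_
    have := (Nat.pow_lt_pow_iff_right hp.one_lt).mp h1
    omega
  have key : Nat.card (Sylow p G) = ∑ ω : MulAction.orbitRel.Quotient (P : Subgroup G) (Sylow p G),
      Nat.card ω.orbit := by
    rw [Nat.card_congr (MulAction.selfEquivSigmaOrbits (P : Subgroup G) (Sylow p G)), Nat.card_sigma]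
    refine Finset.sum_congr rfl fun ω _ => ?_
    rw [MulAction.orbitRel.Quotient.orbit_eq_orbit_out ω Quotient.out_eq']
  have hfix : MulAction.orbit (P : Subgroup G) P = {P} := by
    refine Set.eq_singleton_iff_unique_mem.mpr ⟨MulAction.mem_orbit_self _, ?_⟩
    rintro R ⟨x, rfl⟩
    exact Sylow.smul_eq_iff_mem_normalizer.mpr (Subgroup.le_normalizer x.2)
  rw [key, ← Finset.add_sum_erase _ _ (Finset.mem_univ (Quotient.mk'' P))]
  rw [MulAction.orbitRel.Quotient.orbit_mk, hfix, Nat.card_unique]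
  refine Nat.ModEq.symm ((Nat.modEq_iff_dvd' (Nat.le_add_right 1 _)).mpr ?_)
  rw [Nat.add_sub_cancel_left]
  refine Finset.dvd_sum fun ω hω => ?_
  obtain ⟨R, rfl⟩ := Quotient.exists_rep ω
  rw [show (⟦R⟧ : MulAction.orbitRel.Quotient (P : Subgroup G) (Sylow p G)) = Quotient.mk'' R from rfl,
    MulAction.orbitRel.Quotient.orbit_mk]
  refine horb R fun e => (Finset.mem_erase.mp hω).1 (by rw [e])

/-- Actions on the cosets of the normaliser of a Sylow subgroup of prime order. -/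
theorem sylow_prime_cosets [Finite G] (p : ℕ) [Fact p.Prime] (P : Sylow p G)
    (hP : Nat.card ↥(P : Subgroup G) = p) :
    (∀ y : G, orderOf y = p →
      Nat.card (MulAction.fixedBy (G ⧸ Subgroup.normalizer ((P : Subgroup G) : Set G)) y) = 1) ∧
    ∀ x : G, x ∈ Subgroup.normalizer ((P : Subgroup G) : Set G) →
      x ∉ Subgroup.centralizer ((P : Subgroup G) : Set G) →
      Nat.card (MulAction.fixedBy (G ⧸ Subgroup.normalizer ((P : Subgroup G) : Set G)) x) ≤
        Nat.card (MulAction.orbitRel.Quotient ↥(P : Subgroup G)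
          (G ⧸ Subgroup.normalizer ((P : Subgroup G) : Set G))) := by
  have hp : p.Prime := Fact.out
  obtain ⟨N, hN⟩ : ∃ N, N = Subgroup.normalizer ((P : Subgroup G) : Set G) := ⟨_, rfl⟩
  rw [← hN]
  have hord : ∀ y : G, y ∈ (P : Subgroup G) → y ≠ 1 → orderOf y = p ∧ Subgroup.zpowers y = P := by
    intro y hy h1
    have h2 : orderOf y = p := by
      have := Subgroup.orderOf_dvd_natCard _ hy
      rw [hP] at this
      exact (hp.eq_one_or_self_of_dvd _ this).resolve_left fun h => h1 (orderOf_eq_one_iff.mp h)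
    exact ⟨h2, Subgroup.eq_of_le_of_card_ge (Subgroup.zpowers_le.mpr hy)
      (by rw [hP, Nat.card_zpowers, h2])⟩
  have hmem : ∀ z : G, orderOf z = p → z ∈ N → z ∈ (P : Subgroup G) := by
    intro z hz hzN
    have hpg : IsPGroup p (Subgroup.zpowers z) :=
      IsPGroup.of_card (n := 1) (by rw [Nat.card_zpowers, hz, pow_one])
    exact ((SetLike.ext_iff.mp (hpg.inf_normalizer_sylow P) z).mp
      (Subgroup.mem_inf.mpr ⟨Subgroup.mem_zpowers z, hN ▸ hzN⟩)).2
  have hconj : ∀ y g : G, orderOf (g⁻¹ * y * g) = orderOf y := fun y g =>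
    orderOf_eq_orderOf_iff.mpr fun n => by
      rw [show g⁻¹ * y * g = g⁻¹ * y * (g⁻¹)⁻¹ by rw [inv_inv], conj_pow, conj_eq_one_iff]
  have huniq : ∀ y : G, orderOf y = p → ∀ g g' : G, g⁻¹ * y * g ∈ N → g'⁻¹ * y * g' ∈ N →
      (g : G ⧸ N) = g' := by
    intro y hy g g' h h'
    have h1 := hmem _ (by rw [hconj, hy]) h
    have h1' := hmem _ (by rw [hconj, hy]) h'
    have hne : g⁻¹ * y * g ≠ 1 := fun e => by
      have := hconj y g; rw [e, orderOf_one, hy] at this; exact hp.one_lt.ne this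
    rw [QuotientGroup.eq, ← inv_mem_iff, hN]
    refine Subgroup.mem_normalizer_fintype fun n hn => ?_
    rw [SetLike.mem_coe, ← (hord _ h1 hne).2, Subgroup.mem_zpowers_iff] at hn
    obtain ⟨i, rfl⟩ := hn
    rw [SetLike.mem_coe, ← conj_zpow]
    refine zpow_mem ?_ i
    rw [show (g⁻¹ * g')⁻¹ * (g⁻¹ * y * g) * ((g⁻¹ * g')⁻¹)⁻¹ = g'⁻¹ * y * g' by group]
    exact h1'
  refine ⟨fun y hy => ?_, fun x hxN hxC => ?_⟩
  · rw [Nat.card_eq_one_iff_exists]
    obtain ⟨Q, hQ⟩ := IsPGroup.exists_le_sylow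
      (IsPGroup.of_card (n := 1) (by rw [Nat.card_zpowers, hy, pow_one]) : IsPGroup p (Subgroup.zpowers y))
    obtain ⟨g, hg⟩ := MulAction.exists_smul_eq G P Q
    have hyQ : y ∈ (Q : Subgroup G) := hQ (Subgroup.mem_zpowers y)
    rw [← hg, Sylow.coe_subgroup_smul, Subgroup.mem_pointwise_smul_iff_inv_smul_mem] at hyQ
    have hyN : g⁻¹ * y * g ∈ N := hN ▸ Subgroup.le_normalizer (by simpa [MulAut.smul_def] using hyQ)
    refine ⟨⟨(g : G ⧸ N), fixed_iff.mpr hyN⟩, ?_⟩
    rintro ⟨c, hc⟩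
    induction c using QuotientGroup.induction_on with
    | H g' => exact Subtype.ext (huniq y hy g' g (fixed_iff.mp hc) hyN)
  · refine Nat.card_le_card_of_injective
      (fun c => (Quotient.mk'' c.1 : MulAction.orbitRel.Quotient (P : Subgroup G) (G ⧸ N))) ?_
    rintro ⟨c, hc⟩ ⟨d, hd⟩ h
    obtain ⟨u, hu⟩ := Quotient.exact h
    simp only at hu
    apply Subtype.ext
    show c = d
    by_cases hu1 : u = 1
    · rw [← hu, hu1, one_smul]
    have hu1' : (u : G) ≠ 1 := fun e => hu1 (Subtype.ext e)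
    have hd' : x • d = d := hd
    have hc' : x • c = c := hc
    have hxN' : x ∈ Subgroup.normalizer ((P : Subgroup G) : Set G) := hN ▸ hxN
    obtain ⟨z, hz⟩ : ∃ z, z = (u : G)⁻¹ * (x * u * x⁻¹) := ⟨_, rfl⟩
    have hzP : z ∈ (P : Subgroup G) := by
      rw [hz]
      exact mul_mem (inv_mem u.2) ((Subgroup.mem_normalizer_iff.mp hxN' u).mp u.2)
    have hu' : (u : G) • d = c := hu
    have hzd : z • d = d := by
      have h1 : x⁻¹ • d = d := by rw [inv_smul_eq_iff, hd']
      rw [hz, mul_smul, mul_smul, mul_smul, h1, hu', hc', ← hu', inv_smul_smul]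
    have hz1 : z ≠ 1 := fun e => hxC (Subgroup.mem_centralizer_iff.mpr fun w hw => by
      rw [hz, inv_mul_eq_one] at e
      have hcomm : Commute x (u : G) := (mul_inv_eq_iff_eq_mul.mp e.symm : x * u = u * x)
      rw [SetLike.mem_coe, ← (hord u u.2 hu1').2, Subgroup.mem_zpowers_iff] at hw
      obtain ⟨i, rfl⟩ := hw
      exact ((hcomm.zpow_right i).eq).symm)
    induction d using QuotientGroup.induction_on with
    | H g =>
      have h1N : (1 : G)⁻¹ * z * 1 ∈ N := by simpa using hN ▸ Subgroup.le_normalizer hzP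
      have hg1 := huniq z (hord z hzP hz1).1 g 1 (fixed_iff.mp hzd) h1N
      rw [← hu', hg1]
      exact fixed_iff.mpr (by simpa using hN ▸ Subgroup.le_normalizer u.2)

end Cfsg.Agent.Small.CosetCount
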