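import Cfsg.Agent.Lib.Lie.Steinberg
import Cfsg.Prelude.Def_SteinbergCover

/-!
Groups with the relations (R1) and (R2) only that map onto the Chevalley group: the kernel is central.
-/

set_option autoImplicit false

namespace Cfsg.Agent.Small.CoverCentral

open Cfsg.Lie Cfsg.Agent.Lie
open Cfsg.Agent.Lie.Facts (negNe mem_negNe)
open scoped MatrixGroups

variable {D : ChevalleyDatum}

/-- A group generated by elements satisfying (R1), (R2), with the map to GL. -/
structure Cov (hF : Facts D) (F : Type*) [Field F] (Γ : Type*) [Group Γ] extends CommSys hF F Γ where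
  proj : Γ →* GL D.Idx F
  proj_x : ∀ r t, proj (x r t) = hF.xg r t
  gen : Subgroup.closure (Set.range fun p : ℕ × F => x p.1 p.2) = ⊤

namespace Cov

variable {hF : Facts D} {F : Type*} [Field F] {Γ : Type*} [Group Γ] (K : Cov hF F Γ)

theorem proj_prodOver (L : List ℕ) (t : ℕ → F) :
    K.proj (K.toCommSys.prodOver L t) = (hF.sys F).prodOver L t := by
  rw [CommSys.prodOver, CommSys.prodOver, map_list_prod, List.map_map]
  congr 1
  exact List.map_congr_left fun r _ => K.proj_x r _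

theorem proj_inj_pos {L : List ℕ} (hL : ClosedList D L) {g g' : Γ}
    (hg : g ∈ K.toCommSys.US L) (hg' : g' ∈ K.toCommSys.US L) (h : K.proj g = K.proj g') :
    g = g' := by
  obtain ⟨t, rfl⟩ := K.toCommSys.exists_prodOver hL hg
  obtain ⟨t', rfl⟩ := K.toCommSys.exists_prodOver hL hg'
  rw [proj_prodOver, proj_prodOver] at h
  exact K.toCommSys.prodOver_congr fun r hr => hF.prodOver_inj hL h r hr

theorem proj_inj_neg {L : List ℕ} (hL : NegList D L) {g g' : Γ}
    (hg : g ∈ K.toCommSys.US L) (hg' : g' ∈ K.toCommSys.US L) (h : K.proj g = K.proj g') :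
    g = g' := by
  obtain ⟨t, rfl⟩ := K.toCommSys.exists_prodOver_neg hL hg
  obtain ⟨t', rfl⟩ := K.toCommSys.exists_prodOver_neg hL hg'
  rw [proj_prodOver, proj_prodOver] at h
  exact K.toCommSys.prodOver_congr fun r hr => hF.prodOver_inj_neg hL h r hr

/-- Transport of the relation `g x_s g⁻¹ = x_{π s}(φ_s t)` from GL to the presented group. -/
theorem st_transport (hH : StHyp D) (i : Fin D.rank) (g : Γ)
    (hg : g ∈ Subgroup.closure
      (Set.range (K.x (D.simple i.val)) ∪ Set.range (K.x (D.neg (D.simple i.val)))))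
    (π : ℕ → ℕ) (φ : ℕ → F) (hπlt : ∀ s, s < D.nroots → π s < D.nroots)
    (hπinj : ∀ r s, r < D.nroots → s < D.nroots → π r = π s → r = s)
    (hπneg : ∀ s, s < D.nroots → π (D.neg s) = D.neg (π s))
    (hπpos : ∀ s, s ∈ TorusSys.posNe D i → π s ∈ TorusSys.posNe D i)
    (hπn : ∀ s, s ∈ negNe D i → π s ∈ negNe D i)
    (himg : ∀ s, s < D.nroots → ∀ t, K.proj g * hF.xg s t * (K.proj g)⁻¹ = hF.xg (π s) (φ s * t))
    (hword : ∀ r s, r < D.nroots → s < D.nroots → ∀ t u, D.commWord F (π r) (π s) (φ r * t) (φ s * u) =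
      (D.commWord F r s t u).map fun p => (π p.1, φ p.1 * p.2)) :
    ∀ s, s < D.nroots → ∀ t, g * K.x s t * g⁻¹ = K.x (π s) (φ s * t) := by
  obtain ⟨hA, hA', l, hl⟩ := hH
  have hα := hF.simple_lt i.val i.isLt
  have hge := hF.simple_ge i.val i.isLt
  have hnα : D.neg (D.simple i.val) < D.nroots / 2 := by
    have := hF.neg_eq _ hα
    have := hF.even
    omega
  have hnormP : g ∈ Subgroup.normalizer (K.toCommSys.US (TorusSys.posNe D i) : Set (Γ)) := by
    refine (Subgroup.closure_le _).2 ?_ hg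
    rintro _ (⟨t, rfl⟩ | ⟨t, rfl⟩)
    · refine K.toCommSys.x_normalizes hα (fun s hs => ?_) t
      obtain ⟨h1, h2, h3⟩ := TorusSys.mem_posNe.1 hs
      exact ⟨h2, by omega, fun _ c hc => TorusSys.mem_posNe.2
        (hF.term_avoid hl i.isLt hα h2 (Or.inl rfl) h1 h3 hc)⟩
    · refine K.toCommSys.x_normalizes (hF.neg_lt hα) (fun s hs => ?_) t
      obtain ⟨h1, h2, h3⟩ := TorusSys.mem_posNe.1 hs
      exact ⟨h2, by rw [hF.neg_neg hα]; exact h3, fun _ c hc => TorusSys.mem_posNe.2
        (hF.term_avoid hl i.isLt (hF.neg_lt hα) h2 (Or.inr (Or.inl rfl)) h1 h3 hc)⟩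
  have hnormN : g ∈ Subgroup.normalizer (K.toCommSys.US (negNe D i) : Set (Γ)) := by
    refine (Subgroup.closure_le _).2 ?_ hg
    rintro _ (⟨t, rfl⟩ | ⟨t, rfl⟩)
    · refine K.toCommSys.x_normalizes hα (fun s hs => ?_) t
      obtain ⟨h1, h2⟩ := mem_negNe.1 hs
      exact ⟨by omega, h2, fun _ c hc => mem_negNe.2
        (hF.term_avoid_neg hl i.isLt hα (by omega) (Or.inl rfl) h1 h2 hc)⟩
    · refine K.toCommSys.x_normalizes (hF.neg_lt hα) (fun s hs => ?_) t
      obtain ⟨h1, h2⟩ := mem_negNe.1 hs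
      exact ⟨by omega, by rw [hF.neg_neg hα]; omega, fun _ c hc => mem_negNe.2
        (hF.term_avoid_neg hl i.isLt (hF.neg_lt hα) (by omega) (Or.inr (Or.inl rfl)) h1 h2 hc)⟩
  have hgen : ∀ s, s < D.nroots → s ≠ D.simple i.val → s ≠ D.neg (D.simple i.val) → ∀ t,
      g * K.x s t * g⁻¹ = K.x (π s) (φ s * t) := by
    intro s hs h1 h2 t
    have hp : K.proj (g * K.x s t * g⁻¹) = K.proj (K.x (π s) (φ s * t)) := by
      rw [map_mul, map_mul, map_inv, K.proj_x, K.proj_x, himg s hs]
    by_cases hpos : D.nroots / 2 ≤ s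
    · have hsL : s ∈ TorusSys.posNe D i := TorusSys.mem_posNe.2 ⟨hpos, hs, h1⟩
      exact K.proj_inj_pos (TorusSys.closed_posNe (hF := hF) i)
        ((Subgroup.mem_normalizer_iff.1 hnormP _).1 (K.toCommSys.x_mem_US hsL t))
        (K.toCommSys.x_mem_US (hπpos s hsL) _) hp
    · have hsL : s ∈ negNe D i := mem_negNe.2 ⟨not_le.1 hpos, h2⟩
      exact K.proj_inj_neg (hF.negList_negNe hl i)
        ((Subgroup.mem_normalizer_iff.1 hnormN _).1 (K.toCommSys.x_mem_US hsL t))
        (K.toCommSys.x_mem_US (hπn s hsL) _) hp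
  have hspec : ∀ a e, okAlpha D a e = true → (a = D.simple i.val ∨ a = D.neg (D.simple i.val)) →
      ∀ t, g * K.x a t * g⁻¹ = K.x (π a) (φ a * t) := by
    intro a e he ha v
    obtain ⟨r, s⟩ := e
    simp only [okAlpha, Bool.and_eq_true, decide_eq_true_eq, bne_iff_ne, beq_iff_eq] at he
    obtain ⟨⟨⟨⟨⟨⟨⟨⟨⟨hr, hs⟩, hr1⟩, hr2⟩, hs1⟩, hs2⟩, hne1⟩, hne2⟩, hlen⟩, hall⟩ := he
    rw [List.all_eq_true] at hall
    have hoff : ∀ k, k ≠ a → k ≠ D.neg a → k ≠ D.simple i.val ∧ k ≠ D.neg (D.simple i.val) := by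
      intro k k1 k2
      rcases ha with rfl | rfl
      · exact ⟨k1, k2⟩
      · rw [hF.neg_neg hα] at k2; exact ⟨k2, k1⟩
    obtain ⟨c, hc, hca⟩ : ∃ c ∈ D.commTerms r s, c.1 = a := by
      obtain ⟨c, hc⟩ := List.exists_mem_of_length_pos (l := (D.commTerms r s).filter fun c => c.1 == a)
        (by omega)
      rw [List.mem_filter, beq_iff_eq] at hc
      exact ⟨c, hc⟩
    have hc' := hall c hc
    rw [if_pos (by simp [hca])] at hc'
    simp only [Bool.and_eq_true, Bool.or_eq_true, beq_iff_eq] at hc'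
    obtain ⟨hC, hij⟩ := hc'
    have hCne : (c.2.1 : F) ≠ 0 := by
      rcases Int.natAbs_eq c.2.1 with h' | h' <;> rw [h', hC] <;> simp
    obtain ⟨t, u, htu⟩ : ∃ t u : F, (c.2.1 : F) * (-t) ^ c.2.2.1 * u ^ c.2.2.2 = v := by
      rcases hij with h | h
      · exact ⟨-(v / c.2.1), 1, by rw [h, _root_.neg_neg, pow_one, one_pow, mul_one, mul_div_cancel₀ _ hCne]⟩
      · exact ⟨-1, v / c.2.1, by rw [h, _root_.neg_neg, one_pow, mul_one, pow_one, mul_div_cancel₀ _ hCne]⟩
    obtain ⟨r3, r4⟩ := hoff r hr1 hr2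
    obtain ⟨s3, s4⟩ := hoff s hs1 hs2
    have h0 := congrArg (fun z => g * z * g⁻¹) (K.toCommSys.x_comm r s hr hs hne1 hne2 t u)
    have hconj : ∀ a b : Γ, g * (a * b) * g⁻¹ = g * a * g⁻¹ * (g * b * g⁻¹) :=
      fun a b => by group
    rw [hconj, hconj, hconj, hgen s hs s3 s4, hgen r hr r3 r4] at h0
    have h1 := K.toCommSys.x_comm (π r) (π s) (hπlt r hr) (hπlt s hs)
      (fun h => hne1 (hπinj s r hs hr h))
      (fun h => hne2 (hπinj s _ hs (hF.neg_lt hr) (h.trans (hπneg r hr).symm))) (φ r * t) (φ s * u)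
    rw [h1, mul_right_inj, hword r s hr hs, List.map_map,
      show ∀ z, g * z * g⁻¹ = (MulAut.conj g).toMonoidHom z from fun z => rfl, map_list_prod,
      List.map_map, ChevalleyDatum.commWord, List.map_map, List.map_map] at h0
    have hm := middle_eq _ _ (fun c => c.1 == a) (D.commTerms r s) h0.symm (fun d hd hda => ?_) hlen c hc
      (by simp [hca])
    · simp only [Function.comp_apply, hca, htu] at hm
      exact hm
    · have hd' := hall d hd
      rw [if_neg (by simpa using hda)] at hd'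
      obtain ⟨d1, d2⟩ := hoff d.1 (by simpa using hda) (by simpa using hd')
      simp only [Function.comp_apply]
      exact hgen d.1 (hF.commTerms_lt hr hs d hd) d1 d2 _
  intro s hs t
  by_cases h1 : s = D.simple i.val
  · obtain ⟨e, he⟩ := hA i.val i.isLt
    exact h1 ▸ hspec _ e he (Or.inl rfl) t
  by_cases h2 : s = D.neg (D.simple i.val)
  · obtain ⟨e, he⟩ := hA' i.val i.isLt
    exact h2 ▸ hspec _ e he (Or.inr rfl) t
  exact hgen s hs h1 h2 t

theorem proj_nElt (r : ℕ) (t : F) : K.proj (nElt D (K.x) r t) = hF.ng r t := by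
  rw [nElt, map_mul, map_mul, K.proj_x, K.proj_x, hF.ng_eq]

theorem nElt_mem (i : ℕ) (t : F) : nElt D (K.x) (D.simple i) t ∈ Subgroup.closure
    (Set.range (K.x (D.simple i)) ∪ Set.range (K.x (D.neg (D.simple i)))) :=
  mul_mem (mul_mem (Subgroup.subset_closure (Or.inl ⟨t, rfl⟩))
    (Subgroup.subset_closure (Or.inr ⟨_, rfl⟩))) (Subgroup.subset_closure (Or.inl ⟨t, rfl⟩))

/-- The presented group as a system with torus relations. -/
noncomputable def covT (hH : StHyp D) : TorusSys hF F Γ where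
  toCommSys := K.toCommSys
  n_conj i hi s hs t := by
    show nElt D (K.x) (D.simple i) 1 * K.x s t * (nElt D (K.x) (D.simple i) 1)⁻¹ =
      K.x _ _
    refine K.st_transport hH ⟨i, hi⟩ _ (K.nElt_mem i 1) (D.reflectRoot i) (fun r => hF.sgn F i r)
      (hF.refl_lt i hi) ?_ (hF.refl_neg i hi)
      (fun r hr => TorusSys.refl_posNe (hF := hF) ⟨i, hi⟩ hr) ?_ ?_ ?_ s hs t
    · intro a b ha hb h
      exact hF.refl_inj hi ha hb h
    · intro r hr
      obtain ⟨h1, h2⟩ := mem_negNe.1 hr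
      have hr' : r < D.nroots := by omega
      have hm : D.neg r ∈ TorusSys.posNe D ⟨i, hi⟩ := TorusSys.mem_posNe.2
        ⟨(hF.neg_ge_iff hr').2 h1, hF.neg_lt hr', fun h => h2 (by rw [← h, hF.neg_neg hr'])⟩
      obtain ⟨a, b, c⟩ := TorusSys.mem_posNe.1 (TorusSys.refl_posNe (hF := hF) ⟨i, hi⟩ hm)
      rw [hF.refl_neg i hi r hr'] at a c
      exact mem_negNe.2 ⟨(hF.neg_ge_iff (hF.refl_lt i hi r hr')).1 a,
        fun h => c (by rw [h, hF.neg_neg (hF.simple_lt i hi)])⟩
    · intro r hr v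
      rw [proj_nElt]
      exact hF.ng_conj i hi r hr v
    · intro r q hr hq v w
      have h := hF.commWord_refl (F := F) hi hr hq (hF.sgn F i r * v) (hF.sgn F i q * w)
      rw [← mul_assoc, ← mul_assoc, hF.sgn_mul_self hi hr, hF.sgn_mul_self hi hq, one_mul, one_mul] at h
      exact h.symm
  h_conj i hi c hc s hs t := by
    show (nElt D (K.x) (D.simple i) c * nElt D (K.x) (D.simple i) (-1)) * K.x s t *
      (nElt D (K.x) (D.simple i) c * nElt D (K.x) (D.simple i) (-1))⁻¹ = K.x s _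
    refine K.st_transport hH ⟨i, hi⟩ _ (mul_mem (K.nElt_mem i c) (K.nElt_mem i (-1))) id
      (fun r => c ^ D.cartan i r) (fun _ h => h) (fun _ _ _ _ h => h) (fun _ _ => rfl)
      (fun _ h => h) (fun _ h => h) ?_ ?_ s hs t
    · intro r hr v
      rw [map_mul, proj_nElt, proj_nElt, ← hF.hg_eq]
      have e : (hF.tsys F).h (D.simple i) c = hF.hg (D.simple i) c := hF.tsys_h _ _
      rw [← e]
      exact (hF.tsys F).h_conj i hi c hc r hr v
    · intro r q hr hq v w
      simp only [id_eq, ChevalleyDatum.commWord, List.map_map]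
      refine List.map_congr_left fun d hd => ?_
      simp only [Function.comp_apply, Prod.mk.injEq, true_and]
      rw [(hF.commTerms_psi hr hq hd).2.2 i hi, zpow_add₀ hc, mul_comm (d.2.2.1 : ℤ),
        mul_comm (d.2.2.2 : ℤ), _root_.zpow_mul, _root_.zpow_mul, zpow_natCast, zpow_natCast,
        show -(c ^ D.cartan i r * v) = c ^ D.cartan i r * -v by ring, mul_pow, mul_pow]
      ring

variable (hH : StHyp D)

theorem covT_x (r : ℕ) (t : F) : (K.covT hH).x r t = K.x r t := rfl

theorem covT_G : (K.covT hH).G = ⊤ := by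
  rw [eq_top_iff, ← K.gen]
  refine (Subgroup.closure_le _).2 ?_
  rintro _ ⟨⟨r, t⟩, rfl⟩
  exact Subgroup.subset_closure ⟨r, t, rfl⟩

theorem proj_n (r : ℕ) (t : F) : K.proj ((K.covT hH).n r t) = hF.ng r t := K.proj_nElt r t

theorem proj_h (r : ℕ) (t : F) : K.proj ((K.covT hH).h r t) = hF.hg r t := by
  rw [TorusSys.h, map_mul, proj_n, proj_n, hF.hg_eq]

theorem proj_H {a : Γ} (ha : a ∈ (K.covT hH).H) :
    K.proj a ∈ (hF.tsys F).H := by
  induction ha using Subgroup.closure_induction with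
  | mem g hg =>
    obtain ⟨r, t, hr, ht, rfl⟩ := hg
    rw [proj_h, ← hF.tsys_h]
    exact (hF.tsys F).h_mem hr ht
  | one => rw [map_one]; exact one_mem _
  | mul x y _ _ hx hy => rw [map_mul]; exact mul_mem hx hy
  | inv x _ hx => rw [map_inv]; exact inv_mem hx

theorem proj_U {u : Γ} (hu : u ∈ (K.covT hH).U) :
    K.proj u ∈ (hF.tsys F).U := by
  induction hu using Subgroup.closure_induction with
  | mem g hg =>
    obtain ⟨r, hr, t, rfl⟩ := hg
    rw [covT_x, K.proj_x, ← hF.tsys_x]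
    exact CommSys.x_mem_US _ hr t
  | one => rw [map_one]; exact one_mem _
  | mul x y _ _ hx hy => rw [map_mul]; exact mul_mem hx hy
  | inv x _ hx => rw [map_inv]; exact inv_mem hx

theorem proj_B {b : Γ} (hb : b ∈ (K.covT hH).B) :
    K.proj b ∈ (hF.tsys F).B := by
  obtain ⟨u, hu, a, ha, rfl⟩ := (K.covT hH).mem_B.1 hb
  rw [map_mul]
  exact mul_mem ((hF.tsys F).U_le_B (K.proj_U hH hu)) ((hF.tsys F).H_le_B (K.proj_H hH ha))

theorem proj_nw (ω : List (Fin D.rank)) :
    K.proj ((K.covT hH).nw ω) = (hF.tsys F).nw ω := by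
  induction ω with
  | nil => simp [TorusSys.nw]
  | cons i ω ih =>
    rw [TorusSys.nw_cons, TorusSys.nw_cons, map_mul, ih, TorusSys.nS, proj_n, hF.tsys_nS]

theorem ker_le_H : (K.proj).ker ≤ (K.covT hH).H := by
  intro g hg
  rw [MonoidHom.mem_ker] at hg
  obtain ⟨b, hb, w, b', hb', rfl⟩ := (K.covT hH).mem_BNB (g := g)
    (by rw [K.covT_G hH]; exact Subgroup.mem_top g)
  have hw : w = 1 := by
    refine hF.hsep (F := F) w ?_
    rw [map_mul, map_mul, show K.proj ((K.covT hH).nW w) = (hF.tsys F).nW w from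
      K.proj_nw hH _] at hg
    rw [show (hF.tsys F).nW w =
      (K.proj b)⁻¹ * (K.proj b * (hF.tsys F).nW w * K.proj b') * (K.proj b')⁻¹ by group, hg,
      mul_one]
    exact mul_mem (inv_mem (K.proj_B hH hb)) (inv_mem (K.proj_B hH hb'))
  subst hw
  obtain ⟨u, hu, a, ha, he⟩ := (K.covT hH).mem_B.1
    (mul_mem (mul_mem hb ((K.covT hH).H_le_B (K.covT hH).nW_one)) hb')
  rw [he] at hg ⊢
  rw [map_mul] at hg
  have h1 : K.proj u = 1 := by
    refine hF.U_inter_H (K.proj_U hH hu) ?_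
    rw [eq_inv_of_mul_eq_one_left hg]
    exact inv_mem (K.proj_H hH ha)
  have h2 : u = 1 := K.proj_inj_pos hF.closedList_posL hu (one_mem _) (by rw [h1, map_one])
  rw [h2, one_mul]
  exact ha

include hH in
theorem ker_le_center : K.proj.ker ≤ Subgroup.center Γ := by
  set S := K.covT hH with hS
  intro g hg
  rw [← Subgroup.centralizer_univ, ← Subgroup.coe_top, ← K.covT_G hH, TorusSys.G,
    Subgroup.centralizer_closure, Subgroup.mem_centralizer_iff]
  rintro _ ⟨r, t, rfl⟩
  by_cases hr : r < D.nroots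
  · obtain ⟨u, hu⟩ := (S.H_conj_X (K.ker_le_H hH hg) hr t).1
    have h1 := congrArg K.proj hu
    rw [map_mul, map_mul, map_inv, MonoidHom.mem_ker.1 hg, one_mul, inv_one, mul_one] at h1
    change K.proj (K.x r t) = K.proj (K.x r u) at h1
    rw [K.proj_x, K.proj_x] at h1
    have h2 : t = u := by
      have h3 : hF.xg r (t - u) = 1 := by
        rw [sub_eq_add_neg, hF.xg_add, hF.xg_neg, h1, mul_inv_cancel]
      have h4 := congrArg Units.val h3
      rw [Facts.coe_xg, Units.val_one, hF.x_eq_one r hr, sub_eq_zero] at h4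
      exact h4
    rw [← h2, mul_inv_eq_iff_eq_mul] at hu
    exact hu.symm
  · rw [S.x_out r t (not_lt.1 hr), one_mul, mul_one]

end Cov

end Cfsg.Agent.Small.CoverCentral

namespace Cfsg.Agent.Small.CoverCentral

open Cfsg.Lie Cfsg.Agent.Lie
open scoped MatrixGroups

variable {D : ChevalleyDatum} (hF : Facts D) (F : Type*) [Field F]

/-- The projection of the cover. -/
noncomputable def coverProj : D.SteinbergCover F →* GL D.Idx F :=
  PresentedGroup.toGroup (f := fun p : Fin D.nroots × F => hF.xg p.1.val p.2)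
    (fun g hg => hF.mapsTo_rels g (Or.inl hg))

theorem coverProj_x (r : ℕ) (t : F) : coverProj hF F (D.scGen F r t) = hF.xg r t := by
  by_cases hr : r < D.nroots
  · rw [ChevalleyDatum.scGen, ChevalleyDatum.stX, dif_pos hr]
    exact PresentedGroup.toGroup.of _
  · rw [ChevalleyDatum.scGen, ChevalleyDatum.stX, dif_neg hr, map_one, map_one, hF.xg_out (not_lt.1 hr)]

theorem scGen_closure : Subgroup.closure (Set.range fun p : ℕ × F => D.scGen F p.1 p.2) = ⊤ := by
  rw [eq_top_iff, ← PresentedGroup.closure_range_of (D.steinbergRelsAB F)]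
  refine (Subgroup.closure_le _).2 ?_
  rintro _ ⟨⟨r, t⟩, rfl⟩
  refine Subgroup.subset_closure ⟨(r.val, t), ?_⟩
  show D.scGen F r.val t = _
  rw [ChevalleyDatum.scGen, ChevalleyDatum.stX, dif_pos r.isLt]
  rfl

/-- The presented cover as an instance. -/
noncomputable def coverCov : Cov hF F (D.SteinbergCover F) where
  x := D.scGen F
  x_out r t hr := by rw [ChevalleyDatum.scGen, ChevalleyDatum.stX, dif_neg (not_lt.2 hr), map_one]
  x_add r t u := by
    by_cases hr : r < D.nroots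
    · have h : PresentedGroup.mk (D.steinbergRelsAB F) (D.stX r t * D.stX r u * (D.stX r (t + u))⁻¹) = 1 :=
        PresentedGroup.one_of_mem (Or.inl ⟨r, t, u, hr, rfl⟩)
      rw [map_mul, map_mul, map_inv, mul_inv_eq_one] at h
      exact h.symm
    · simp [ChevalleyDatum.scGen, ChevalleyDatum.stX, dif_neg hr]
  x_comm r s hr hs h1 h2 t u := by
    have h : PresentedGroup.mk (D.steinbergRelsAB F)
        ((D.stX s u)⁻¹ * (D.stX r t)⁻¹ * D.stX s u * D.stX r t * (D.stWord (D.commWord F r s t u))⁻¹) = 1 :=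
      PresentedGroup.one_of_mem (Or.inr ⟨r, s, t, u, hr, hs, h1, h2, rfl⟩)
    rw [map_mul, map_inv _ (D.stWord _), mul_inv_eq_one, ChevalleyDatum.stWord, map_list_prod, List.map_map] at h
    rw [show ((D.commWord F r s t u).map fun p => D.scGen F p.1 p.2) =
      (D.commWord F r s t u).map (⇑(PresentedGroup.mk (D.steinbergRelsAB F)) ∘ fun p => D.stX p.1 p.2) from rfl,
      ← h, map_mul, map_mul, map_mul, map_inv, map_inv]
    simp only [ChevalleyDatum.scGen]
    group
  proj := coverProj hF F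
  proj_x := coverProj_x hF F
  gen := scGen_closure F

theorem cover_central (hD : D ∈ [chevG2, chevB2, chevD4, chevF4, chevE6, chevE7, chevE8]) :
    ∃ θ : D.SteinbergCover F →* ↥(D.group F), Function.Surjective θ ∧
      θ.ker ≤ Subgroup.center (D.SteinbergCover F) ∧
      ∀ (r : ℕ) (t : F), r < D.nroots →
        ((θ (D.scGen F r t) : GL D.Idx F) : Matrix D.Idx D.Idx F) = D.x F r t := by
  obtain ⟨hF⟩ := facts_of_mem hD
  have hr : (coverProj hF F).range = D.group F := by
    rw [MonoidHom.range_eq_map, ← scGen_closure F, MonoidHom.map_closure, hF.group_eq, ← Set.range_comp]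
    congr 1
    exact congrArg Set.range (funext fun p => coverProj_x hF F p.1 p.2)
  refine ⟨(coverProj hF F).codRestrict (D.group F) fun g => hr ▸ ⟨g, rfl⟩, ?_, ?_, ?_⟩
  · rintro ⟨y, hy⟩
    obtain ⟨g, hg⟩ : y ∈ (coverProj hF F).range := hr.symm ▸ hy
    exact ⟨g, Subtype.ext hg⟩
  · intro g hg
    exact Cov.ker_le_center (coverCov hF F) (stHyp_of_mem hD) (congrArg Subtype.val hg)
  · intro r t _
    show ((coverProj hF F (D.scGen F r t) : GL D.Idx F) : Matrix D.Idx D.Idx F) = D.x F r t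
    rw [coverProj_x, Facts.coe_xg]

end Cfsg.Agent.Small.CoverCentral
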