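import Cfsg.Agent.Lib.Lie.AllFacts
import Cfsg.Prelude.Def_SteinbergCover
import Mathlib.GroupTheory.Abelianization.Defs

/-!
The group presented by the relations (R1) and (R2) is perfect.
-/

set_option autoImplicit false

namespace Cfsg.Agent.Small.CoverPerfect

open Cfsg.Lie Cfsg.Agent.Lie

/-- One step: at most two roots are new among those in the commutator formula for the pair, and they get killed. -/
def covStep (D : ChevalleyDatum) (ap : Bool) (known : List ℕ) (r s : ℕ) : Option (List ℕ) :=
  if r < D.nroots && s < D.nroots && s != r && s != D.neg r then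
    match (D.commTerms r s).filter (fun c => !known.contains c.1) with
    | [c] => if c.2.1.natAbs == 1 && (c.2.2.1 == 1 || c.2.2.2 == 1) then some [c.1] else none
    | [a, b] =>
      if ap && a.2.1.natAbs == 1 && b.2.1.natAbs == 1 && a.2.2.1 == 1 && a.2.2.2 == 1 &&
          a.1 < D.nroots && b.1 < D.nroots &&
          ((b.2.2.1 == 2 && b.2.2.2 == 1) || (b.2.2.1 == 1 && b.2.2.2 == 2)) then some [a.1, b.1]
      else none
    | _ => none
  else none

/-- The whole certificate. -/
def okCov (D : ChevalleyDatum) (ap : Bool) : List ℕ → List (ℕ × ℕ) → Bool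
  | known, [] => (List.range D.nroots).all fun r => known.contains r
  | known, e :: L =>
    match covStep D ap known e.1 e.2 with
    | some ks => okCov D ap (ks ++ known) L
    | none => false

/-- Certificate for G2. -/
def covG2 : List (ℕ × ℕ) :=
  [(0, 6), (0, 10), (1, 5), (1, 11), (5, 11), (6, 10), (0, 8), (1, 7), (1, 9), (2, 10), (3, 11)]

/-- Certificate for B2. -/
def covB2 : List (ℕ × ℕ) :=
  [(0, 5), (1, 4), (2, 7), (3, 6)]

/-- Certificate for D4. -/
def covD4 : List (ℕ × ℕ) :=
  [(0, 14), (0, 15), (0, 16), (0, 17), (0, 19), (0, 20), (0, 21), (0, 22), (1, 9), (1, 17), (1,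
    20), (1, 21), (1, 23), (2, 22), (2, 23), (3, 22), (3, 23), (4, 23), (6, 22), (6, 23), (7,
    23), (8, 23), (9, 23), (14, 22)]

/-- Certificate for F4. -/
def covF4 : List (ℕ × ℕ) :=
  [(0, 24), (0, 26), (0, 31), (0, 32), (0, 42), (0, 43), (0, 45), (0, 46), (1, 23), (1, 28), (1,
    32), (1, 35), (1, 37), (1, 43), (1, 45), (1, 47), (2, 37), (2, 38), (2, 46), (2, 47), (3,
    37), (3, 38), (3, 39), (3, 40), (3, 41), (3, 42), (3, 43), (3, 45), (3, 46), (3, 47), (4,
    39), (4, 44), (4, 46), (4, 47), (5, 44), (6, 44), (7, 44), (7, 45), (7, 46), (7, 47), (8,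
    46), (8, 47), (9, 47), (11, 47), (15, 39), (15, 46), (15, 47), (18, 47)]

/-- Certificate for E6. -/
def covE6 : List (ℕ × ℕ) :=
  [(0, 46), (0, 47), (0, 48), (0, 49), (0, 50), (0, 51), (0, 52), (0, 53), (0, 54), (0, 55), (0,
    61), (0, 62), (0, 63), (0, 64), (0, 65), (0, 66), (0, 67), (0, 68), (0, 69), (0, 70), (1,
    25), (1, 53), (1, 54), (1, 55), (1, 64), (1, 65), (1, 66), (1, 67), (1, 68), (1, 69), (1,
    71), (2, 55), (2, 66), (2, 67), (2, 68), (2, 70), (2, 71), (3, 67), (3, 69), (3, 70), (3,
    71), (4, 68), (4, 69), (4, 70), (4, 71), (5, 55), (5, 69), (5, 70), (5, 71), (6, 70), (6,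
    71), (7, 70), (7, 71), (8, 71), (9, 71), (10, 71), (16, 66), (16, 69), (16, 70), (16, 71),
    (17, 70), (17, 71), (18, 70), (18, 71), (19, 71), (20, 71), (21, 71), (22, 71), (23, 71),
    (24, 71), (25, 71), (46, 70)]

/-- Certificate for E7. -/
def covE7 : List (ℕ × ℕ) :=
  [(0, 93), (0, 94), (0, 95), (0, 96), (0, 97), (0, 98), (0, 99), (0, 100), (0, 101), (0, 102),
    (0, 103), (0, 104), (0, 105), (0, 106), (0, 107), (0, 108), (0, 109), (0, 110), (0, 111),
    (0, 112), (0, 113), (0, 114), (0, 115), (0, 116), (0, 117), (0, 118), (0, 119), (0, 120),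
    (0, 121), (0, 122), (0, 123), (0, 124), (1, 32), (1, 109), (1, 110), (1, 111), (1, 112), (1,
    113), (1, 114), (1, 115), (1, 116), (1, 117), (1, 118), (1, 119), (1, 120), (1, 121), (1,
    122), (1, 123), (1, 125), (2, 115), (2, 116), (2, 117), (2, 118), (2, 119), (2, 120), (2,
    121), (2, 122), (2, 124), (2, 125), (3, 118), (3, 119), (3, 120), (3, 121), (3, 123), (3,
    124), (3, 125), (4, 119), (4, 120), (4, 122), (4, 123), (4, 124), (4, 125), (5, 119), (5,
    121), (5, 122), (5, 123), (5, 124), (5, 125), (6, 120), (6, 121), (6, 122), (6, 123), (6,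
    124), (6, 125), (7, 122), (7, 123), (7, 124), (7, 125), (8, 123), (8, 124), (8, 125), (9,
    123), (9, 124), (9, 125), (10, 123), (10, 124), (10, 125), (11, 124), (11, 125), (12, 124),
    (12, 125), (13, 124), (13, 125), (14, 124), (14, 125), (15, 124), (15, 125), (16, 124), (16,
    125), (17, 125), (18, 125), (19, 125), (20, 125), (21, 125), (22, 125), (23, 125), (24,
    125), (25, 125), (26, 125), (27, 125), (28, 125), (29, 125), (30, 125), (31, 125), (32,
    125), (93, 124)]

/-- Certificate for E8. -/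
def covE8 : List (ℕ × ℕ) :=
  [(0, 120), (0, 122), (0, 125), (0, 129), (0, 134), (0, 140), (0, 146), (0, 151), (0, 155), (0,
    158), (0, 160), (0, 161), (0, 168), (0, 173), (0, 177), (0, 180), (0, 182), (0, 183), (0,
    187), (0, 190), (0, 192), (0, 193), (0, 196), (0, 198), (0, 199), (0, 201), (0, 202), (0,
    203), (0, 206), (0, 208), (0, 209), (0, 211), (0, 212), (0, 213), (0, 215), (0, 216), (0,
    217), (0, 218), (0, 220), (0, 221), (0, 222), (0, 223), (0, 224), (0, 225), (0, 227), (0,
    228), (0, 229), (0, 230), (0, 231), (0, 232), (0, 233), (0, 234), (0, 235), (0, 236), (0,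
    237), (0, 238), (1, 119), (1, 161), (1, 183), (1, 193), (1, 199), (1, 202), (1, 203), (1,
    209), (1, 212), (1, 213), (1, 216), (1, 217), (1, 218), (1, 221), (1, 222), (1, 223), (1,
    224), (1, 225), (1, 228), (1, 229), (1, 230), (1, 231), (1, 232), (1, 233), (1, 234), (1,
    235), (1, 236), (1, 237), (1, 239), (2, 203), (2, 213), (2, 217), (2, 218), (2, 222), (2,
    223), (2, 224), (2, 225), (2, 229), (2, 230), (2, 231), (2, 232), (2, 233), (2, 234), (2,
    235), (2, 236), (2, 238), (2, 239), (3, 218), (3, 223), (3, 224), (3, 225), (3, 230), (3,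
    231), (3, 232), (3, 233), (3, 234), (3, 235), (3, 237), (3, 238), (3, 239), (4, 224), (4,
    225), (4, 231), (4, 232), (4, 233), (4, 234), (4, 236), (4, 237), (4, 238), (4, 239), (5,
    225), (5, 232), (5, 233), (5, 235), (5, 236), (5, 237), (5, 238), (5, 239), (6, 225), (6,
    234), (6, 235), (6, 236), (6, 237), (6, 238), (6, 239), (7, 234), (7, 235), (7, 236), (7,
    237), (7, 238), (7, 239), (8, 235), (8, 236), (8, 237), (8, 238), (8, 239), (9, 236), (9,
    237), (9, 238), (9, 239), (10, 237), (10, 238), (10, 239), (11, 238), (11, 239), (12, 239),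
    (14, 233), (14, 234), (14, 235), (14, 236), (14, 237), (14, 238), (14, 239), (15, 235), (15,
    236), (15, 237), (15, 238), (15, 239), (16, 236), (16, 237), (16, 238), (16, 239), (17,
    237), (17, 238), (17, 239), (18, 238), (18, 239), (19, 239), (21, 236), (21, 237), (21,
    238), (21, 239), (22, 237), (22, 238), (22, 239), (23, 238), (23, 239), (24, 239), (26,
    237), (26, 238), (26, 239), (27, 238), (27, 239), (28, 239), (30, 238), (30, 239), (31,
    239), (33, 239), (36, 237), (36, 238), (36, 239), (37, 238), (37, 239), (38, 239), (40,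
    238), (40, 239), (41, 239), (43, 239), (46, 238), (46, 239), (47, 239), (49, 239), (52,
    239), (56, 238), (56, 239), (57, 239), (59, 239), (62, 239), (66, 239), (71, 239), (78,
    238), (78, 239), (79, 239), (81, 239), (84, 239), (88, 239), (93, 239), (99, 239), (105,
    239), (110, 239), (114, 239), (117, 239), (119, 239), (120, 238)]

theorem okCovG2 : okCov chevG2 true [] covG2 = true := by decide +kernel
theorem okCovB2 : okCov chevB2 true [] covB2 = true := by decide +kernel
theorem okCovD4 : okCov chevD4 false [] covD4 = true := by decide +kernel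
theorem okCovF4 : okCov chevF4 false [] covF4 = true := by decide +kernel
theorem okCovE6 : okCov chevE6 false [] covE6 = true := by decide +kernel
theorem okCovE7 : okCov chevE7 false [] covE7 = true := by decide +kernel
theorem okCovE8 : okCov chevE8 false [] covE8 = true := by decide +kernel

theorem prod_filter_of_one {α M : Type*} [Monoid M] (g : α → M) (p : α → Bool) :
    ∀ L : List α, (∀ c ∈ L, p c = false → g c = 1) → (L.map g).prod = ((L.filter p).map g).prod
  | [], _ => by simp
  | a :: L, h => by
    have ih := prod_filter_of_one g p L fun c hc => h c (List.mem_cons_of_mem _ hc)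
    by_cases ha : p a = true
    · simp [List.filter_cons_of_pos ha, ih]
    · rw [List.filter_cons_of_neg ha, List.map_cons, List.prod_cons, ih,
        h a List.mem_cons_self (by simpa using ha), one_mul]

variable {D : ChevalleyDatum} {F : Type*} [Field F] {A : Type*} [CommGroup A]

/-- Additive root families satisfying the abelianised commutator formula. -/
structure AbSys (D : ChevalleyDatum) (F : Type*) [Field F] (A : Type*) [CommGroup A] where
  f : ℕ → F → A
  out : ∀ r, D.nroots ≤ r → ∀ t, f r t = 1
  add : ∀ r t u, f r (t + u) = f r t * f r u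
  comm : ∀ r s, r < D.nroots → s < D.nroots → s ≠ r → s ≠ D.neg r → ∀ t u,
    ((D.commTerms r s).map fun c => f c.1 ((c.2.1 : F) * (-t) ^ c.2.2.1 * u ^ c.2.2.2)).prod = 1

theorem cast_ne_zero_of_natAbs {z : ℤ} (h : z.natAbs = 1) : (z : F) ≠ 0 := by
  rcases Int.natAbs_eq z with h' | h' <;> rw [h', h] <;> simp

theorem step_killed (S : AbSys D F A) {ap : Bool} (hap : ap = true → ∃ a : F, a ≠ 0 ∧ a ≠ 1)
    {known : List ℕ} (hk : ∀ r ∈ known, ∀ t, S.f r t = 1) {r s : ℕ} {ks : List ℕ}
    (h : covStep D ap known r s = some ks) : ∀ k ∈ ks, ∀ t, S.f k t = 1 := by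
  unfold covStep at h
  split at h
  swap
  · simp at h
  rename_i hrs
  simp only [Bool.and_eq_true, decide_eq_true_eq, bne_iff_ne] at hrs
  obtain ⟨⟨⟨hr, hs⟩, h1⟩, h2⟩ := hrs
  have hrel : ∀ t u : F, (((D.commTerms r s).filter (fun c => !known.contains c.1)).map
      fun c => S.f c.1 ((c.2.1 : F) * (-t) ^ c.2.2.1 * u ^ c.2.2.2)).prod = 1 := by
    intro t u
    rw [← prod_filter_of_one _ _ _ fun c _ hc => hk c.1 (by simpa using hc) _]
    exact S.comm r s hr hs h1 h2 t u
  split at h
  · rename_i c hc
    split at h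
    swap
    · simp at h
    rename_i hu
    simp only [Option.some.injEq] at h
    subst h
    simp only [Bool.and_eq_true, Bool.or_eq_true, beq_iff_eq] at hu
    obtain ⟨hC, hexp⟩ := hu
    have hC' := cast_ne_zero_of_natAbs (F := F) hC
    intro k hk' t
    simp only [List.mem_singleton] at hk'
    subst hk'
    simp only [hc, List.map_cons, List.map_nil, List.prod_singleton] at hrel
    rcases hexp with hi | hj
    · have := hrel (-(t / c.2.1)) 1
      rw [hi, pow_one, one_pow, neg_neg, mul_one, mul_div_cancel₀ _ hC'] at this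
      exact this
    · have hne : (c.2.1 : F) * (-1) ^ c.2.2.1 ≠ 0 :=
        mul_ne_zero hC' (pow_ne_zero _ (neg_ne_zero.2 one_ne_zero))
      have := hrel 1 (t / ((c.2.1 : F) * (-1) ^ c.2.2.1))
      rw [hj, pow_one, mul_div_cancel₀ _ hne] at this
      exact this
  · rename_i a b hab
    split at h
    swap
    · simp at h
    rename_i hu
    simp only [Option.some.injEq] at h
    subst h
    simp only [Bool.and_eq_true, Bool.or_eq_true, beq_iff_eq, decide_eq_true_eq] at hu
    obtain ⟨⟨⟨⟨⟨⟨⟨hap', hCa⟩, hCb⟩, hia⟩, hja⟩, -⟩, -⟩, hexp⟩ := hu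
    obtain ⟨α, hα0, hα1⟩ := hap hap'
    have hCa' := cast_ne_zero_of_natAbs (F := F) hCa
    have hCb' := cast_ne_zero_of_natAbs (F := F) hCb
    simp only [hab, List.map_cons, List.map_nil, List.prod_cons, List.prod_nil, hia, hja, pow_one,
      mul_one] at hrel
    have hd : α ^ 2 - α ≠ 0 := by
      rw [show α ^ 2 - α = α * (α - 1) by ring]
      exact mul_ne_zero hα0 (sub_ne_zero.2 hα1)
    have hb : ∀ w, S.f b.1 w = 1 := by
      intro w
      rcases hexp with ⟨hi, hj⟩ | ⟨hi, hj⟩
      · simp only [hi, hj, pow_one] at hrel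
        have e1 := hrel α (w / ((b.2.1 : F) * (α ^ 2 - α)))
        have e2 := hrel 1 (α * (w / ((b.2.1 : F) * (α ^ 2 - α))))
        set v := w / ((b.2.1 : F) * (α ^ 2 - α)) with hv
        rw [show (a.2.1 : F) * -1 * (α * v) = (a.2.1 : F) * -α * v by ring] at e2
        have e3 := mul_left_cancel (e1.trans e2.symm)
        rw [show (b.2.1 : F) * (-α) ^ 2 * v = w + (b.2.1 : F) * (-1) ^ 2 * (α * v) by
          rw [hv]; field_simp; ring, S.add] at e3
        exact mul_eq_right.1 e3
      · simp only [hi, hj, pow_one] at hrel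
        have e1 := hrel (-(w / ((b.2.1 : F) * (α ^ 2 - α)))) α
        have e2 := hrel (-(α * (w / ((b.2.1 : F) * (α ^ 2 - α))))) 1
        set v := w / ((b.2.1 : F) * (α ^ 2 - α)) with hv
        rw [show (a.2.1 : F) * - -(α * v) * 1 = (a.2.1 : F) * - -v * α by ring] at e2
        have e3 := mul_left_cancel (e1.trans e2.symm)
        rw [show (b.2.1 : F) * - -v * α ^ 2 = w + (b.2.1 : F) * - -(α * v) * 1 ^ 2 by
          rw [hv]; field_simp; ring, S.add] at e3
        exact mul_eq_right.1 e3
    intro k hk' t
    simp only [List.mem_cons, List.not_mem_nil, or_false] at hk'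
    rcases hk' with rfl | rfl
    · have := hrel (-(t / (a.2.1 : F))) 1
      rwa [hb, mul_one, neg_neg, mul_one, mul_div_cancel₀ _ hCa'] at this
    · exact hb t
  · simp at h

theorem all_killed (S : AbSys D F A) {ap : Bool} (hap : ap = true → ∃ a : F, a ≠ 0 ∧ a ≠ 1) :
    ∀ (L : List (ℕ × ℕ)) (known : List ℕ), (∀ r ∈ known, ∀ t, S.f r t = 1) →
      okCov D ap known L = true → ∀ r, ∀ t, S.f r t = 1
  | [], known, hk, h, r, t => by
    by_cases hr : r < D.nroots
    · simp only [okCov, List.all_eq_true, List.mem_range, List.contains_iff_mem] at h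
      exact hk r (h r hr) t
    · exact S.out r (not_lt.1 hr) t
  | e :: L, known, hk, h, r, t => by
    simp only [okCov] at h
    split at h
    · rename_i ks hks
      refine all_killed S hap L _ (fun k hk' => ?_) h r t
      rcases List.mem_append.1 hk' with hk' | hk'
      · exact step_killed S hap hk hks k hk'
      · exact hk k hk'
    · simp at h

/-- The root elements in the abelianised cover. -/
def abSys (D : ChevalleyDatum) (F : Type*) [Field F] :
    AbSys D F (Abelianization (D.SteinbergCover F)) where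
  f r t := Abelianization.of (D.scGen F r t)
  out r hr t := by rw [ChevalleyDatum.scGen, ChevalleyDatum.stX, dif_neg (not_lt.2 hr), map_one, map_one]
  add r t u := by
    by_cases hr : r < D.nroots
    · have h : PresentedGroup.mk (D.steinbergRelsAB F) (D.stX r t * D.stX r u * (D.stX r (t + u))⁻¹) = 1 :=
        PresentedGroup.one_of_mem (Or.inl ⟨r, t, u, hr, rfl⟩)
      rw [map_mul, map_mul, map_inv, mul_inv_eq_one] at h
      rw [← map_mul]
      exact congrArg Abelianization.of h.symm
    · simp [ChevalleyDatum.scGen, ChevalleyDatum.stX, dif_neg hr]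
  comm r s hr hs h1 h2 t u := by
    have h : PresentedGroup.mk (D.steinbergRelsAB F)
        ((D.stX s u)⁻¹ * (D.stX r t)⁻¹ * D.stX s u * D.stX r t * (D.stWord (D.commWord F r s t u))⁻¹) = 1 :=
      PresentedGroup.one_of_mem (Or.inr ⟨r, s, t, u, hr, hs, h1, h2, rfl⟩)
    have h' := congrArg Abelianization.of h
    rw [map_one, map_mul, map_mul, map_mul, map_mul, map_mul, map_mul, map_mul, map_mul, map_inv,
      map_inv, map_inv, map_inv, map_inv, map_inv, mul_inv_eq_one] at h'
    rw [ChevalleyDatum.stWord, ChevalleyDatum.commWord, map_list_prod, map_list_prod] at h'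
    simp only [List.map_map] at h'
    refine Eq.trans ?_ (h'.symm.trans ?_)
    · rfl
    · rw [mul_comm ((Abelianization.of _)⁻¹) ((Abelianization.of _)⁻¹)]
      group

theorem perfect_of_cert {ap : Bool} (hap : ap = true → ∃ a : F, a ≠ 0 ∧ a ≠ 1) {L : List (ℕ × ℕ)}
    (h : okCov D ap [] L = true) : commutator (D.SteinbergCover F) = ⊤ := by
  have h0 := all_killed (abSys D F) hap L [] (by simp) h
  rw [eq_top_iff, ← PresentedGroup.closure_range_of (D.steinbergRelsAB F)]
  refine (Subgroup.closure_le _).2 ?_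
  rintro _ ⟨⟨r, t⟩, rfl⟩
  rw [SetLike.mem_coe, ← Abelianization.ker_of, MonoidHom.mem_ker]
  have h1 : Abelianization.of (D.scGen F r.val t) = 1 := h0 r.val t
  rw [ChevalleyDatum.scGen, ChevalleyDatum.stX, dif_pos r.isLt] at h1
  exact h1

theorem perfect_cover (hD : D ∈ [chevG2, chevB2, chevD4, chevF4, chevE6, chevE7, chevE8])
    (hK : D ∈ [chevB2, chevG2] → ∃ x : F, x ≠ 0 ∧ x ≠ 1) : commutator (D.SteinbergCover F) = ⊤ := by
  simp only [List.mem_cons, List.not_mem_nil, or_false] at hD hK
  rcases hD with rfl | rfl | rfl | rfl | rfl | rfl | rfl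
  · exact perfect_of_cert (fun _ => hK (Or.inr rfl)) okCovG2
  · exact perfect_of_cert (fun _ => hK (Or.inl rfl)) okCovB2
  · exact perfect_of_cert (by simp) okCovD4
  · exact perfect_of_cert (by simp) okCovF4
  · exact perfect_of_cert (by simp) okCovE6
  · exact perfect_of_cert (by simp) okCovE7
  · exact perfect_of_cert (by simp) okCovE8

end Cfsg.Agent.Small.CoverPerfect
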