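import Cfsg.Agent.Lib.Small.CoverCentral
import Cfsg.Agent.Lib.Small.SteinbergSL2

/-!
# Over a finite field the relators (R3) follow from (R1), (R2)
-/

set_option autoImplicit false
set_option linter.unusedSectionVars false

namespace Cfsg.Agent.Small.CoverR3

open Cfsg.Lie Cfsg.Agent.Lie Cfsg.Agent.Small.CoverCentral
open scoped MatrixGroups

variable {D : ChevalleyDatum} {hF : Facts D} {F : Type*} [Field F] {Γ : Type*} [Group Γ]
variable (S : TorusSys hF F Γ) (i : Fin D.rank)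

theorem h_conj' {c : F} (hc : c ≠ 0) {s : ℕ} (hs : s < D.nroots) (t : F) :
    S.h (D.simple i.val) c * S.x s t * (S.h (D.simple i.val) c)⁻¹ = S.x s (c ^ D.cartan i.val s * t) :=
  S.h_conj i.val i.isLt c hc s hs t

/-- Conjugation of the root subgroup by a Weyl element. -/
theorem n_x {t : F} (ht : t ≠ 0) (u : F) :
    S.n (D.simple i.val) t * S.x (D.simple i.val) u * (S.n (D.simple i.val) t)⁻¹ =
      S.x (D.neg (D.simple i.val)) (-(t⁻¹ ^ 2 * u)) := by
  have hα := hF.simple_lt i.val i.isLt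
  rw [S.n_eq_h_mul, show S.h (D.simple i.val) t * S.n (D.simple i.val) 1 * S.x (D.simple i.val) u *
      (S.h (D.simple i.val) t * S.n (D.simple i.val) 1)⁻¹ = S.h (D.simple i.val) t *
      (S.nS i * S.x (D.simple i.val) u * (S.nS i)⁻¹) * (S.h (D.simple i.val) t)⁻¹ by
        rw [TorusSys.nS]; group,
    S.nS_conj i hα, Facts.refl_simple, h_conj' S i ht (hF.neg_lt hα), hF.cartan_neg i.val i.isLt _ hα,
    hF.cartan_simple i.val i.isLt]
  congr 1
  rw [Facts.sgn, hF.eta_simple i.val i.isLt]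
  rw [zpow_neg, zpow_two]
  push_cast
  rw [mul_inv]
  ring

/-- Conjugation of the opposite root subgroup by a Weyl element. -/
theorem n_y {t : F} (ht : t ≠ 0) (u : F) :
    S.n (D.simple i.val) t * S.x (D.neg (D.simple i.val)) u * (S.n (D.simple i.val) t)⁻¹ =
      S.x (D.simple i.val) (-(t ^ 2 * u)) := by
  have hα := hF.simple_lt i.val i.isLt
  rw [S.n_eq_h_mul, show S.h (D.simple i.val) t * S.n (D.simple i.val) 1 * S.x (D.neg (D.simple i.val)) u *
      (S.h (D.simple i.val) t * S.n (D.simple i.val) 1)⁻¹ = S.h (D.simple i.val) t *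
      (S.nS i * S.x (D.neg (D.simple i.val)) u * (S.nS i)⁻¹) * (S.h (D.simple i.val) t)⁻¹ by
        rw [TorusSys.nS]; group,
    S.nS_conj i (hF.neg_lt hα), hF.refl_neg i.val i.isLt _ hα, Facts.refl_simple, hF.neg_neg hα,
    h_conj' S i ht hα, hF.cartan_simple i.val i.isLt]
  congr 1
  rw [Facts.sgn, hF.eta_neg i.val i.isLt _ hα, hF.eta_simple i.val i.isLt, zpow_two]
  push_cast
  ring

theorem n_eq {t : F} (ht : t ≠ 0) : S.n (D.simple i.val) t =
    S.x (D.neg (D.simple i.val)) (-t⁻¹) * S.x (D.simple i.val) t * S.x (D.neg (D.simple i.val)) (-t⁻¹) := by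
  obtain ⟨n, hn⟩ : ∃ n, n = S.n (D.simple i.val) t := ⟨_, rfl⟩
  have h1 : n * S.x (D.simple i.val) t * n⁻¹ = S.x (D.neg (D.simple i.val)) (-t⁻¹) := by
    rw [hn, n_x S i ht]; congr 1; field_simp
  have h2 : n * S.x (D.neg (D.simple i.val)) (-t⁻¹) * n⁻¹ = S.x (D.simple i.val) t := by
    rw [hn, n_y S i ht]; congr 1; field_simp
  rw [← hn]
  calc n = n * (S.x (D.simple i.val) t * S.x (D.neg (D.simple i.val)) (-t⁻¹) * S.x (D.simple i.val) t) * n⁻¹ := by
        rw [show S.x (D.simple i.val) t * S.x (D.neg (D.simple i.val)) (-t⁻¹) * S.x (D.simple i.val) t = n from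
          hn.symm, mul_inv_cancel_right]
    _ = (n * S.x (D.simple i.val) t * n⁻¹) * (n * S.x (D.neg (D.simple i.val)) (-t⁻¹) * n⁻¹) *
        (n * S.x (D.simple i.val) t * n⁻¹) := by group
    _ = _ := by rw [h1, h2]

theorem x_add' (r : ℕ) (t u : F) : S.x r t * S.x r u = S.x r (t + u) := (S.x_add r t u).symm

/-- The torus map of a simple root is multiplicative. -/
theorem h_mul_simple [Finite F] {t u : F} (ht : t ≠ 0) (hu : u ≠ 0) :
    S.h (D.simple i.val) (t * u) = S.h (D.simple i.val) t * S.h (D.simple i.val) u := by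
  let T : Subgroup Γ := Subgroup.closure (Set.range (S.x (D.simple i.val)) ∪ Set.range (S.x (D.neg (D.simple i.val))))
  let R : SteinbergSL2.Rels F T :=
    { x := fun a => ⟨S.x (D.simple i.val) a, Subgroup.subset_closure (Or.inl ⟨a, rfl⟩)⟩
      y := fun a => ⟨S.x (D.neg (D.simple i.val)) a, Subgroup.subset_closure (Or.inr ⟨a, rfl⟩)⟩
      xadd := fun a b => Subtype.ext (x_add' S _ a b)
      yadd := fun a b => Subtype.ext (x_add' S _ a b)
      wx := fun a b ha => Subtype.ext (n_x S i ha b)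
      wy := fun a b ha => Subtype.ext (by
        show S.x (D.neg (D.simple i.val)) a * S.x (D.simple i.val) (-a⁻¹) * S.x (D.neg (D.simple i.val)) a *
            S.x (D.neg (D.simple i.val)) b * (S.x (D.neg (D.simple i.val)) a * S.x (D.simple i.val) (-a⁻¹) *
              S.x (D.neg (D.simple i.val)) a)⁻¹ = _
        have e := n_eq S i (neg_ne_zero.2 (inv_ne_zero ha))
        rw [inv_neg, inv_inv, _root_.neg_neg] at e
        rw [← e, n_y S i (neg_ne_zero.2 (inv_ne_zero ha)), neg_sq]) }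
  have hgen : Subgroup.closure (Set.range R.x ∪ Set.range R.y) = ⊤ := by
    rw [eq_top_iff]
    intro z _
    have key : ∀ a (ha : a ∈ T), (⟨a, ha⟩ : T) ∈ Subgroup.closure (Set.range R.x ∪ Set.range R.y) := by
      intro a ha
      induction ha using Subgroup.closure_induction with
      | mem g hg =>
        rcases hg with ⟨v, rfl⟩ | ⟨v, rfl⟩
        · exact Subgroup.subset_closure (Or.inl ⟨v, rfl⟩)
        · exact Subgroup.subset_closure (Or.inr ⟨v, rfl⟩)
      | one => exact one_mem _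
      | mul x y hx hy ihx ihy => exact mul_mem ihx ihy
      | inv x hx ihx => exact inv_mem ihx
    exact key z.1 z.2
  have e : ∀ c : F, ((R.h c : T) : Γ) = S.h (D.simple i.val) c := fun c => by
    rw [show R.h c = R.w c * (R.w 1)⁻¹ from rfl, TorusSys.h, S.n_neg]
    rfl
  rw [← e, ← e, ← e, R.h_mul hgen ht hu]
  rfl

/-- The torus map of every root is multiplicative. -/
theorem h_mul [Finite F] (r : ℕ) (hr : r < D.nroots) : ∀ t u : F, t ≠ 0 → u ≠ 0 →
    S.h r (t * u) = S.h r t * S.h r u := by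
  revert r
  refine hF.simple_induction _ (fun i hi t u ht hu => h_mul_simple S ⟨i, hi⟩ ht hu)
    (fun i hi r hr ih t u ht hu => ?_)
  have hsg := hF.sgn_mul_self (F := F) hi hr
  have hne : hF.sgn F i r ≠ 0 := left_ne_zero_of_mul_eq_one hsg
  have hcd : ∀ c : F, c ≠ 0 → S.h (D.reflectRoot i r) c = S.nS ⟨i, hi⟩ * S.h r c * (S.nS ⟨i, hi⟩)⁻¹ := by
    intro c hc
    have h1 := ih c (hF.sgn F i r) hc hne
    have h2 : S.h r (hF.sgn F i r * c) * (S.h r (hF.sgn F i r))⁻¹ = S.h r c := by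
      rw [mul_comm (hF.sgn F i r), h1, mul_inv_cancel_right]
    rw [← h2, ← S.n_mul_n]
    have e : S.nS ⟨i, hi⟩ * (S.n r (hF.sgn F i r * c) * S.n r (-hF.sgn F i r)) * (S.nS ⟨i, hi⟩)⁻¹ =
        (S.nS ⟨i, hi⟩ * S.n r (hF.sgn F i r * c) * (S.nS ⟨i, hi⟩)⁻¹) *
          (S.nS ⟨i, hi⟩ * S.n r (-hF.sgn F i r) * (S.nS ⟨i, hi⟩)⁻¹) := by group
    rw [e, S.nS_conj_n ⟨i, hi⟩ hr, S.nS_conj_n ⟨i, hi⟩ hr, ← mul_assoc, hsg, one_mul, mul_neg, hsg]
    rfl
  rw [hcd _ (mul_ne_zero ht hu), hcd _ ht, hcd _ hu, ih t u ht hu]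
  group

theorem mk_stH' (r : ℕ) (t : F) : PresentedGroup.mk (D.steinbergRelsAB F) (D.stH r t) =
    nElt D (D.scGen F) r t * nElt D (D.scGen F) r (-1) := by
  rw [ChevalleyDatum.stH, ChevalleyDatum.stWord, map_list_prod, List.map_map]
  simp [ChevalleyDatum.hWord, ChevalleyDatum.nWord, nElt, mul_assoc, ChevalleyDatum.scGen]

theorem main {K : Type*} [Field K] [Finite K] (D : ChevalleyDatum)
    (hD : D ∈ [chevG2, chevB2, chevD4, chevF4, chevE6, chevE7, chevE8]) :
    ∃ e : D.SteinbergCover K ≃* D.SteinbergGroup K, ∀ (r : ℕ) (t : K), e (D.scGen K r t) = D.stGen K r t := by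
  obtain ⟨hF⟩ := facts_of_mem hD
  have h1 : ∀ g ∈ D.steinbergRelsAB K,
      FreeGroup.lift (PresentedGroup.of (rels := D.steinbergRels K)) g = 1 := by
    intro g hg
    have e : FreeGroup.lift (PresentedGroup.of (rels := D.steinbergRels K)) = PresentedGroup.mk (D.steinbergRels K) :=
      FreeGroup.ext_hom _ _ fun a => by rw [FreeGroup.lift_apply_of]; rfl
    rw [e]
    exact PresentedGroup.one_of_mem (Or.inl hg)
  have e2 : FreeGroup.lift (PresentedGroup.of (rels := D.steinbergRelsAB K)) =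
      PresentedGroup.mk (D.steinbergRelsAB K) :=
    FreeGroup.ext_hom _ _ fun a => by rw [FreeGroup.lift_apply_of]; rfl
  have h2 : ∀ g ∈ D.steinbergRels K,
      FreeGroup.lift (PresentedGroup.of (rels := D.steinbergRelsAB K)) g = 1 := by
    intro g hg
    rw [e2]
    rcases hg with hg | ⟨r, t₁, t₂, hr, ht₁, ht₂, rfl⟩
    · exact PresentedGroup.one_of_mem hg
    · rw [map_mul, map_mul, map_inv, mk_stH', mk_stH', mk_stH', mul_inv_eq_one]
      exact (h_mul ((coverCov hF K).covT (stHyp_of_mem hD)) r hr t₁ t₂ ht₁ ht₂).symm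
  let φ : D.SteinbergCover K →* D.SteinbergGroup K := PresentedGroup.toGroup h1
  let ψ : D.SteinbergGroup K →* D.SteinbergCover K := PresentedGroup.toGroup h2
  have hφψ : φ.comp ψ = MonoidHom.id _ := PresentedGroup.ext fun a => by
    simp [φ, ψ, PresentedGroup.toGroup.of]
  have hψφ : ψ.comp φ = MonoidHom.id _ := PresentedGroup.ext fun a => by
    simp [φ, ψ, PresentedGroup.toGroup.of]
  refine ⟨MonoidHom.toMulEquiv φ ψ hψφ hφψ, fun r t => ?_⟩
  show φ (D.scGen K r t) = D.stGen K r t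
  by_cases hr : r < D.nroots
  · rw [ChevalleyDatum.scGen, ChevalleyDatum.stGen, ChevalleyDatum.stX, dif_pos hr]
    exact PresentedGroup.toGroup.of _
  · rw [ChevalleyDatum.scGen, ChevalleyDatum.stGen, ChevalleyDatum.stX, dif_neg hr, map_one, map_one, map_one]

end Cfsg.Agent.Small.CoverR3
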