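import Cfsg.Agent.Lib.Classical.LinBasic
import Mathlib.FieldTheory.Finite.Basic

/-!
Generation of a special linear group by a diagonal element and a cyclic monomial element.
-/

set_option autoImplicit false

namespace Cfsg.Agent.Small.CycleGen

open Matrix
open scoped MatrixGroups commutatorElement
open Fin.NatCast

variable {K : Type*} [Field K]

abbrev tr {ι : Type*} [Fintype ι] [DecidableEq ι] {a b : ι} (h : a ≠ b) (c : K) :
    Matrix.SpecialLinearGroup ι K :=
  Matrix.SpecialLinearGroup.transvection h c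

theorem monomial_mul_transvection {ι : Type*} [Fintype ι] [DecidableEq ι] (σ : ι ≃ ι) (d : ι → K)
    (a b : ι) (c x : K) (hx : x * d b = d a * c) :
    Matrix.of (fun i j => if j = σ i then d i else 0) * Matrix.transvection (σ a) (σ b) c =
      Matrix.transvection a b x * Matrix.of (fun i j => if j = σ i then d i else 0) := by
  rw [Matrix.transvection, Matrix.transvection, Matrix.mul_add, Matrix.add_mul, Matrix.mul_one,
    Matrix.one_mul]
  congr 1
  ext i j
  simp only [Matrix.mul_apply, Matrix.of_apply, Matrix.single_apply, ite_mul, zero_mul, mul_ite, mul_zero]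
  simp only [ite_and, Finset.sum_ite_eq', Finset.sum_ite_eq, Finset.mem_univ, if_true]
  by_cases hi : a = i
  · subst hi
    by_cases hj : σ b = j
    · subst hj
      simp [σ.injective.eq_iff, hx]
    · simp only [hj, and_false, if_false, true_and, if_true]
      refine (Finset.sum_eq_zero fun y _ => ?_).symm
      split_ifs with h1 h2
      · exact absurd (h1.trans (congrArg σ h2.symm)).symm hj
      all_goals rfl
  · simp [hi, σ.injective.eq_iff, Ne.symm hi]

theorem diagonal_mul_transvection {ι : Type*} [Fintype ι] [DecidableEq ι] (d : ι → K)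
    (a b : ι) (c x : K) (hx : x * d b = d a * c) :
    Matrix.diagonal d * Matrix.transvection a b c = Matrix.transvection a b x * Matrix.diagonal d := by
  have h : Matrix.diagonal d = Matrix.of (fun i j => if j = (Equiv.refl ι) i then d i else 0) := by
    ext i j
    simp [Matrix.diagonal_apply, eq_comm]
  rw [h]
  exact monomial_mul_transvection (Equiv.refl ι) d a b c x hx

variable {n : ℕ}

theorem zero_ne_one' (hn : 1 ≤ n) : (0 : Fin (n + 1)) ≠ 1 := by
  intro h
  have := congrArg Fin.val h
  rw [Fin.val_zero, Fin.val_one', Nat.mod_eq_of_lt (by omega)] at this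
  omega

theorem w_entries (hn : 1 ≤ n) (i j : Fin (n + 1)) :
    (if j.val = i.val + 1 then 1 else if i.val = n ∧ j.val = 0 then (-1) ^ n else 0 : K) =
      if j = Equiv.addRight (1 : Fin (n + 1)) i then (if i.val = n then (-1) ^ n else 1) else 0 := by
  have hi := i.isLt
  have hj := j.isLt
  have hv : (Equiv.addRight (1 : Fin (n + 1)) i).val = if i.val = n then 0 else i.val + 1 := by
    rw [Equiv.coe_addRight, Fin.val_add, Fin.val_one', Nat.mod_eq_of_lt (show 1 < n + 1 by omega)]
    split_ifs with h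
    · simp [h]
    · exact Nat.mod_eq_of_lt (by omega)
  by_cases h : i.val = n
  · simp only [Fin.ext_iff, hv, h, if_true, true_and]
    rw [if_neg (by omega)]
  · simp only [Fin.ext_iff, hv, h, if_false, false_and]

/-- Cyclic shift and one root subgroup generate everything. -/
theorem eq_top_of_root (hn : 1 ≤ n) (H : Subgroup (Matrix.SpecialLinearGroup (Fin (n + 1)) K))
    (w : Matrix.SpecialLinearGroup (Fin (n + 1)) K)
    (hw : (w : Matrix (Fin (n + 1)) (Fin (n + 1)) K) =
      Matrix.of (fun i j => if j.val = i.val + 1 then 1 else if i.val = n ∧ j.val = 0 then (-1) ^ n else 0))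
    (hwH : w ∈ H) (hroot : ∀ c : K, tr (zero_ne_one' hn) c ∈ H) : H = ⊤ := by
  haveI : Nontrivial (Fin (n + 1)) := Fin.nontrivial_iff_two_le.mpr (by omega)
  obtain ⟨d, hd⟩ : ∃ d : Fin (n + 1) → K, d = fun i => if i.val = n then (-1) ^ n else 1 := ⟨_, rfl⟩
  have hd0 : ∀ i, d i ≠ 0 := fun i => by
    rw [hd]; simp only; split_ifs
    · exact pow_ne_zero _ (by simp)
    · exact one_ne_zero
  have hw' : (w : Matrix (Fin (n + 1)) (Fin (n + 1)) K) =
      Matrix.of (fun i j => if j = Equiv.addRight (1 : Fin (n + 1)) i then d i else 0) := by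
    rw [hw, hd]
    ext i j
    exact w_entries hn i j
  have hne1 : ∀ a : Fin (n + 1), a ≠ a + 1 := fun a e => zero_ne_one' hn (by
    calc (0 : Fin (n + 1)) = a - a := (sub_self a).symm
      _ = (a + 1) - a := congrArg (fun z => z - a) e
      _ = 1 := add_sub_cancel_left a 1)
  have hrot : ∀ a : Fin (n + 1), (∀ c : K, tr (hne1 (a + 1)) c ∈ H) → ∀ c : K, tr (hne1 a) c ∈ H := by
    intro a h x
    have hsub := monomial_mul_transvection (Equiv.addRight (1 : Fin (n + 1))) d a (a + 1)
      (x * d (a + 1) / d a) x (by field_simp [hd0 a])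
    rw [← hw'] at hsub
    have heq : w * tr (hne1 (a + 1)) (x * d (a + 1) / d a) = tr (hne1 a) x * w := Subtype.ext hsub
    rw [eq_mul_inv_iff_mul_eq.2 heq.symm]
    exact mul_mem (mul_mem hwH (h _)) (inv_mem hwH)
  have hsucc : ∀ (k : ℕ) (c : K), tr (hne1 (-(k : Fin (n + 1)))) c ∈ H := by
    intro k
    induction k with
    | zero =>
      intro c
      have : (-((0 : ℕ) : Fin (n + 1))) = 0 := by simp
      simp only [this, zero_add]
      exact hroot c
    | succ k ih =>
      refine hrot _ fun c => ?_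
      have : -((k + 1 : ℕ) : Fin (n + 1)) + 1 = -(k : Fin (n + 1)) := by push_cast; abel
      simp only [this]
      exact ih c
  have hstep : ∀ (a : Fin (n + 1)) (c : K), tr (hne1 a) c ∈ H := by
    intro a c
    have h := hsucc (-a).val c
    have : -(((-a).val : ℕ) : Fin (n + 1)) = a := by rw [Fin.cast_val_eq_self, neg_neg]
    simp only [this] at h
    exact h
  have hall : ∀ (k : ℕ) (a b : Fin (n + 1)) (hab : a ≠ b), (b - a).val = k → ∀ c : K, tr hab c ∈ H := by
    intro k
    induction k with
    | zero =>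
      intro a b hab hk
      exact absurd (sub_eq_zero.1 (Fin.ext hk)).symm hab
    | succ k ih =>
      intro a b hab hk c
      obtain ⟨m, hm⟩ : ∃ m, m = b - 1 := ⟨_, rfl⟩
      have hb : b = m + 1 := by rw [hm, sub_add_cancel]
      have hmk : (m - a).val = k := by
        have e : b - a = (m - a) + 1 := by rw [hb]; abel
        have hlt := (b - a).isLt
        rw [e, Fin.val_add, Fin.val_one', Nat.mod_eq_of_lt (show 1 < n + 1 by omega)] at hk
        rcases Nat.lt_or_ge ((m - a).val + 1) (n + 1) with h | h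
        · rw [Nat.mod_eq_of_lt h] at hk; omega
        · have : (m - a).val + 1 = n + 1 := by have := (m - a).isLt; omega
          rw [this, Nat.mod_self] at hk; omega
      rcases eq_or_ne a m with rfl | ham
      · subst hb; exact hstep a c
      · subst hb
        rw [show tr hab c = ⁅tr ham c, tr (hne1 m) (1 : K)⁆ by
          show Matrix.SpecialLinearGroup.transvection hab c = _
          rw [Cfsg.Agent.Classical.sl_transvection_commutator hab ham (hne1 m), mul_one]]
        rw [commutatorElement_def]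
        have m1 := ih a m ham hmk c
        have m2 := hstep m (1 : K)
        exact mul_mem (mul_mem (mul_mem m1 m2) (inv_mem m1)) (inv_mem m2)
  rw [eq_top_iff, ← Cfsg.Agent.Classical.sl_closure_transvections, Subgroup.closure_le]
  rintro g ⟨i, j, hij, c, rfl⟩
  exact hall _ i j hij rfl c

/-- The parameters of a root subgroup inside a subgroup. -/
def params {a b : Fin (n + 1)} (hab : a ≠ b) (H : Subgroup (Matrix.SpecialLinearGroup (Fin (n + 1)) K)) :
    AddSubgroup K where
  carrier := {c | tr hab c ∈ H}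
  zero_mem' := by
    show tr hab (0 : K) ∈ H
    rw [show tr hab (0 : K) = 1 from Subtype.ext (Matrix.transvection_zero _ _)]
    exact one_mem H
  add_mem' := fun {c d} hc hd => by
    show tr hab (c + d) ∈ H
    rw [show tr hab (c + d) = tr hab c * tr hab d from
      Subtype.ext (Matrix.transvection_mul_transvection_same a b hab c d).symm]
    exact mul_mem hc hd
  neg_mem' := fun {c} hc => by
    show tr hab (-c) ∈ H
    rw [show tr hab (-c) = (tr hab c)⁻¹ from (Matrix.SpecialLinearGroup.transvection_inv _ _).symm]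
    exact inv_mem hc

theorem small_case [Fintype K] (hK : Fintype.card K ≤ 3) (hn : 1 ≤ n)
    (x w : Matrix.SpecialLinearGroup (Fin (n + 1)) K)
    (hx : (x : Matrix (Fin (n + 1)) (Fin (n + 1)) K) = Matrix.transvection (0 : Fin (n + 1)) (1 : Fin (n + 1)) 1)
    (hw : (w : Matrix (Fin (n + 1)) (Fin (n + 1)) K) =
      Matrix.of (fun i j => if j.val = i.val + 1 then 1 else if i.val = n ∧ j.val = 0 then (-1) ^ n else 0)) :
    Subgroup.closure ({x, w} : Set (Matrix.SpecialLinearGroup (Fin (n + 1)) K)) = ⊤ := by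
  refine eq_top_of_root hn _ w hw (Subgroup.subset_closure (by simp)) fun c => ?_
  have hp : (Nat.card K).Prime := by
    have h2 : 2 ≤ Fintype.card K := Fintype.one_lt_card
    rw [Nat.card_eq_fintype_card]
    interval_cases h : Fintype.card K <;> norm_num
  haveI : Fact (Nat.card K).Prime := ⟨hp⟩
  have htop : AddSubgroup.zmultiples (1 : K) = ⊤ := zmultiples_eq_top_of_prime_card rfl one_ne_zero
  have hle : AddSubgroup.zmultiples (1 : K) ≤ params (zero_ne_one' hn) (Subgroup.closure {x, w}) := by
    rw [AddSubgroup.zmultiples_le]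
    show tr (zero_ne_one' hn) (1 : K) ∈ Subgroup.closure {x, w}
    rw [show tr (zero_ne_one' hn) (1 : K) = x from Subtype.ext hx.symm]
    exact Subgroup.subset_closure (by simp)
  exact hle (htop ▸ AddSubgroup.mem_top c)

theorem addSubgroup_eq_top [Fintype K] (A : AddSubgroup K) (h : ∀ u : K, u * u ∈ A) : A = ⊤ := by
  rw [eq_top_iff]
  intro c _
  by_cases h2 : (2 : K) = 0
  · haveI : CharP K 2 := CharTwo.of_one_ne_zero_of_two_eq_zero one_ne_zero h2
    obtain ⟨s, hs⟩ := FiniteField.isSquare_of_char_two (F := K) (ringChar.eq K 2) c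
    exact hs ▸ h s
  · have h4 : (4 : K) ≠ 0 := by
      rw [show (4 : K) = 2 * 2 by norm_num]; exact mul_ne_zero h2 h2
    have := A.sub_mem (h (c / 4 + 1)) (h (c / 4 - 1))
    rw [show (c / 4 + 1) * (c / 4 + 1) - (c / 4 - 1) * (c / 4 - 1) = c by field_simp; ring] at this
    exact this

theorem big_case [Fintype K] (hK : 3 < Fintype.card K) (hn : 1 ≤ n)
    (k : Kˣ) (hk : ∀ u : Kˣ, u ∈ Subgroup.zpowers k)
    (h x w : Matrix.SpecialLinearGroup (Fin (n + 1)) K)
    (hh : (h : Matrix (Fin (n + 1)) (Fin (n + 1)) K) =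
      Matrix.diagonal (fun i => if i.val = 0 then (k : K) else if i.val = 1 then ((k⁻¹ : Kˣ) : K) else 1))
    (hx : (x : Matrix (Fin (n + 1)) (Fin (n + 1)) K) = Matrix.transvection (0 : Fin (n + 1)) (1 : Fin (n + 1)) 1)
    (hw : (w : Matrix (Fin (n + 1)) (Fin (n + 1)) K) =
      Matrix.of (fun i j => if j.val = i.val + 1 then 1 else if i.val = n ∧ j.val = 0 then (-1) ^ n else 0)) :
    Subgroup.closure ({h, x * w} : Set (Matrix.SpecialLinearGroup (Fin (n + 1)) K)) = ⊤ := by
  classical
  obtain ⟨H, hH⟩ : ∃ H, H = Subgroup.closure ({h, x * w} : Set (Matrix.SpecialLinearGroup (Fin (n + 1)) K)) :=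
    ⟨_, rfl⟩
  rw [← hH]
  have hhH : h ∈ H := hH ▸ Subgroup.subset_closure (by simp)
  have hyH : x * w ∈ H := hH ▸ Subgroup.subset_closure (by simp)
  obtain ⟨e, he⟩ : ∃ e : Fin (n + 1) → K,
      e = fun (i : Fin (n + 1)) => if i.val = 0 then (k : K) else if i.val = 1 then ((k⁻¹ : Kˣ) : K) else 1 := ⟨_, rfl⟩
  rw [← he] at hh
  have h1v : ((1 : Fin (n + 1))).val = 1 := by
    rw [Fin.val_one', Nat.mod_eq_of_lt (by omega)]
  have he0 : e 0 = k := by simp [he]
  have he1 : e 1 = ((k⁻¹ : Kˣ) : K) := by
    rw [he]; simp only [h1v]; rw [if_neg (by omega)]; rfl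
  have hord : orderOf k = Fintype.card K - 1 := by
    rw [← Fintype.card_units, ← Nat.card_eq_fintype_card]
    exact orderOf_eq_card_of_forall_mem_zpowers hk
  have hk1 : (k : K) ≠ 1 := fun e' => by
    have : k = 1 := Units.ext e'
    rw [this, orderOf_one] at hord
    omega
  have hk2 : (k : K) * k ≠ 1 := fun e' => by
    have : k ^ 2 = 1 := Units.ext (by rw [Units.val_pow_eq_pow_val, sq, e', Units.val_one])
    have := Nat.le_of_dvd (by norm_num) (orderOf_dvd_of_pow_eq_one this)
    omega
  -- conjugation by h on the root subgroup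
  have hconj : ∀ c : K, h * tr (zero_ne_one' hn) c * h⁻¹ = tr (zero_ne_one' hn) ((k : K) * k * c) := by
    intro c
    rw [mul_inv_eq_iff_eq_mul]
    refine Subtype.ext ?_
    have hq := diagonal_mul_transvection e 0 1 c ((k : K) * k * c) (by
      rw [he0, he1]
      have := k.ne_zero
      rw [Units.val_inv_eq_inv_val]
      field_simp)
    rw [← hh] at hq
    exact hq
  -- the conjugate of h by w is diagonal
  obtain ⟨h', hh'⟩ : ∃ h', h' = w * h * w⁻¹ := ⟨_, rfl⟩
  obtain ⟨f, hf⟩ : ∃ f : Fin (n + 1) → K, f = fun i => e (i + 1) := ⟨_, rfl⟩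
  have hh'm : (h' : Matrix (Fin (n + 1)) (Fin (n + 1)) K) = Matrix.diagonal f := by
    have hwh : (w : Matrix (Fin (n + 1)) (Fin (n + 1)) K) * (h : Matrix (Fin (n + 1)) (Fin (n + 1)) K) =
        Matrix.diagonal f * (w : Matrix (Fin (n + 1)) (Fin (n + 1)) K) := by
      rw [hh, hw]
      ext i j
      rw [Matrix.mul_diagonal, Matrix.diagonal_mul, Matrix.of_apply, w_entries hn, hf]
      by_cases hj : j = Equiv.addRight (1 : Fin (n + 1)) i
      · rw [if_pos hj, mul_comm, hj]
        rfl
      · rw [if_neg hj, zero_mul, mul_zero]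
    have hwi : (w : Matrix (Fin (n + 1)) (Fin (n + 1)) K) *
        ((w⁻¹ : Matrix.SpecialLinearGroup (Fin (n + 1)) K) : Matrix (Fin (n + 1)) (Fin (n + 1)) K) = 1 := by
      rw [← Matrix.SpecialLinearGroup.coe_mul, mul_inv_cancel, Matrix.SpecialLinearGroup.coe_one]
    rw [hh', Matrix.SpecialLinearGroup.coe_mul, Matrix.SpecialLinearGroup.coe_mul, hwh, Matrix.mul_assoc,
      hwi, Matrix.mul_one]
  have hcomm : h * h' = h' * h := by
    refine Subtype.ext ?_
    rw [Matrix.SpecialLinearGroup.coe_mul, Matrix.SpecialLinearGroup.coe_mul, hh, hh'm,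
      Matrix.diagonal_mul_diagonal, Matrix.diagonal_mul_diagonal]
    exact congrArg Matrix.diagonal (funext fun i => mul_comm _ _)
  have hf0 : ∀ i, f i ≠ 0 := fun i => by
    rw [hf, he]; simp only
    split_ifs
    · exact k.ne_zero
    · exact (k⁻¹).ne_zero
    · exact one_ne_zero
  have hfne : f 0 / f 1 ≠ 1 := by
    rw [Ne, div_eq_one_iff_eq (hf0 1), hf]
    show e (0 + 1) ≠ e (1 + 1)
    rw [zero_add, he1, he]
    intro heq
    have hv : ((1 : Fin (n + 1)) + 1).val = (1 + 1) % (n + 1) := by rw [Fin.val_add, h1v]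
    simp only [hv] at heq
    rcases Nat.lt_or_ge n 2 with h2 | h2
    · have : n = 1 := by omega
      subst this
      simp at heq
      rw [inv_eq_iff_eq_inv] at heq
      refine hk2 ?_
      nth_rewrite 1 [heq]
      exact inv_mul_cancel₀ k.ne_zero
    · rw [Nat.mod_eq_of_lt (show 1 + 1 < n + 1 by omega)] at heq
      simp at heq
      exact hk1 (congrArg Units.val heq)
  obtain ⟨c, hc⟩ : ∃ c : K, c = 1 - f 0 / f 1 := ⟨_, rfl⟩
  have hc0 : c ≠ 0 := by rw [hc, sub_ne_zero]; exact Ne.symm hfne
  have hxe : x = tr (zero_ne_one' hn) (1 : K) := Subtype.ext hx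
  have hg : x * w * h * (x * w)⁻¹ = tr (zero_ne_one' hn) c * h' := by
    have hq : h' * tr (zero_ne_one' hn) (-1 : K) = tr (zero_ne_one' hn) (-(f 0 / f 1)) * h' := by
      refine Subtype.ext ?_
      have hq' := diagonal_mul_transvection f 0 1 (-1) (-(f 0 / f 1)) (by
        have := hf0 1
        field_simp)
      rw [← hh'm] at hq'
      exact hq'
    calc x * w * h * (x * w)⁻¹ = x * (h' * x⁻¹) := by rw [hh']; group
      _ = tr (zero_ne_one' hn) (1 : K) * (tr (zero_ne_one' hn) (-(f 0 / f 1)) * h') := by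
          rw [hxe, Matrix.SpecialLinearGroup.transvection_inv, hq]
      _ = tr (zero_ne_one' hn) c * h' := by
          rw [← mul_assoc]
          congr 1
          refine Subtype.ext ?_
          rw [hc, sub_eq_add_neg]
          exact Matrix.transvection_mul_transvection_same _ _ (zero_ne_one' hn) _ _
  obtain ⟨a, ha0, haH⟩ : ∃ a : K, a ≠ 0 ∧ tr (zero_ne_one' hn) a ∈ H := by
    refine ⟨(k : K) * k * c - c, ?_, ?_⟩
    · rw [show (k : K) * k * c - c = ((k : K) * k - 1) * c by ring]
      exact mul_ne_zero (sub_ne_zero.2 hk2) hc0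
    have hgH : tr (zero_ne_one' hn) c * h' ∈ H := hg ▸ mul_mem (mul_mem hyH hhH) (inv_mem hyH)
    have := mul_mem (mul_mem (mul_mem hhH hgH) (inv_mem hhH)) (inv_mem hgH)
    have e1 : h * (tr (zero_ne_one' hn) c * h') * h⁻¹ * (tr (zero_ne_one' hn) c * h')⁻¹ =
        (h * tr (zero_ne_one' hn) c * h⁻¹) * (tr (zero_ne_one' hn) c)⁻¹ := by
      calc _ = h * tr (zero_ne_one' hn) c * (h' * h⁻¹ * h'⁻¹) * (tr (zero_ne_one' hn) c)⁻¹ := by group
        _ = _ := by
          have : h' * h⁻¹ * h'⁻¹ = h⁻¹ := by
            rw [mul_inv_eq_iff_eq_mul, eq_inv_mul_iff_mul_eq, ← mul_assoc, hcomm, mul_inv_cancel_right]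
          rw [this]
    rw [e1, hconj, Matrix.SpecialLinearGroup.transvection_inv] at this
    rw [show tr (zero_ne_one' hn) ((k : K) * k * c - c) =
        tr (zero_ne_one' hn) ((k : K) * k * c) * tr (zero_ne_one' hn) (-c) from
      Subtype.ext (by
        rw [sub_eq_add_neg]
        exact (Matrix.transvection_mul_transvection_same _ _ (zero_ne_one' hn) _ _).symm)]
    exact this
  have hall : ∀ d : K, tr (zero_ne_one' hn) d ∈ H := by
    have hsq : ∀ m : ℕ, tr (zero_ne_one' hn) (((k : K) * k) ^ m * a) ∈ H := by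
      intro m
      induction m with
      | zero => simpa using haH
      | succ m ih =>
        rw [pow_succ', mul_assoc ((k : K) * k), ← hconj]
        exact mul_mem (mul_mem hhH ih) (inv_mem hhH)
    let A : AddSubgroup K := (params (zero_ne_one' hn) H).comap (AddMonoidHom.mulRight a)
    have hA : A = ⊤ := addSubgroup_eq_top A fun u => by
      show u * u * a ∈ params (zero_ne_one' hn) H
      rcases eq_or_ne u 0 with rfl | hu
      · rw [zero_mul, zero_mul]; exact zero_mem _
      · obtain ⟨m, hm⟩ := mem_powers_iff_mem_zpowers.2 (hk (Units.mk0 u hu))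
        have : (k : K) ^ m = u := by
          have := congrArg Units.val hm
          simpa using this
        rw [← this, ← mul_pow]
        exact hsq m
    intro d
    have : d / a ∈ A := hA ▸ AddSubgroup.mem_top _
    have h' : d / a * a ∈ params (zero_ne_one' hn) H := this
    rwa [div_mul_cancel₀ _ ha0] at h'
  refine eq_top_of_root hn H w hw ?_ hall
  have := mul_mem (inv_mem (hall 1)) hyH
  rwa [← hxe, inv_mul_cancel_left] at this

end Cfsg.Agent.Small.CycleGen
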