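import Cfsg.Agent.Lib.Small.Order459648

/-!
# A decision procedure for the degrees in the principal block of a simple group with a Sylow
subgroup of prime order
-/

set_option autoImplicit false

namespace Cfsg.Agent.Small.DegreeSearch

open Cfsg Cfsg.Agent.Char Cfsg.Agent.Lead.BlockDeg Cfsg.Agent.Small.Order459648

/-- All multisets of size `k` on the list, with their sum and their sum of squares added to `S`
and `Q`, are tested by `leaf`. -/
def search (N : ℕ) (leaf : ℤ → ℕ → Bool) : List ℤ → ℕ → ℤ → ℕ → Bool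
  | [], k, S, Q => if k = 0 then leaf S Q else true
  | c :: cs, k, S, Q => if N < Q then true else if k = 0 then leaf S Q else
      (List.range (k + 1)).all fun j =>
        search N leaf cs (k - j) (S + j * c) (Q + j * c.natAbs ^ 2)

theorem search_sound {ι : Type*} {N : ℕ} {leaf : ℤ → ℕ → Bool} {f : ι → ℤ} :
    ∀ (l : List ℤ) (k : ℕ) (S : ℤ) (Q : ℕ) (s : Finset ι), (∀ i ∈ s, f i ∈ l) → s.card = k →
      search N leaf l k S Q = true → Q + ∑ i ∈ s, (f i).natAbs ^ 2 ≤ N →
      leaf (S + ∑ i ∈ s, f i) (Q + ∑ i ∈ s, (f i).natAbs ^ 2) = true := by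
  intro l
  induction l with
  | nil =>
    intro k S Q s hs hk h _
    have hs0 : s = ∅ := Finset.eq_empty_of_forall_notMem fun i hi => by simpa using hs i hi
    subst hs0
    simp only [Finset.card_empty] at hk
    subst hk
    simpa [search] using h
  | cons c cs ih =>
    intro k S Q s hs hk h hQ
    classical
    set A := s.filter fun i => f i = c with hA
    set B := s.filter fun i => ¬ f i = c with hB
    have hcard : A.card + B.card = k := by
      rw [hA, hB, Finset.card_filter_add_card_filter_not, hk]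
    have hj : A.card ∈ List.range (k + 1) := List.mem_range.mpr (by omega)
    rw [search, if_neg (by omega)] at h
    split_ifs at h with hk0
    · subst hk0
      obtain rfl : s = ∅ := Finset.card_eq_zero.mp hk
      simpa using h
    rw [List.all_eq_true] at h
    have h1 : ∀ i ∈ B, f i ∈ cs := fun i hi => by
      rw [hB, Finset.mem_filter] at hi
      exact (List.mem_cons.mp (hs i hi.1)).resolve_left hi.2
    have hsumA : ∑ i ∈ A, f i = A.card * c := by
      rw [Finset.sum_congr rfl (g := fun _ => c) fun i hi => (Finset.mem_filter.mp hi).2,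
        Finset.sum_const, nsmul_eq_mul]
    have hsqA : ∑ i ∈ A, (f i).natAbs ^ 2 = A.card * c.natAbs ^ 2 := by
      rw [Finset.sum_congr rfl (g := fun _ => c.natAbs ^ 2)
        fun i hi => by rw [(Finset.mem_filter.mp hi).2], Finset.sum_const, smul_eq_mul]
    have e1 : ∑ i ∈ s, f i = A.card * c + ∑ i ∈ B, f i := by
      rw [← hsumA, hA, hB, Finset.sum_filter_add_sum_filter_not]
    have e2 : ∑ i ∈ s, (f i).natAbs ^ 2 = A.card * c.natAbs ^ 2 + ∑ i ∈ B, (f i).natAbs ^ 2 := by
      rw [← hsqA, hA, hB, Finset.sum_filter_add_sum_filter_not]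
    have h2 := ih (k - A.card) (S + A.card * c) (Q + A.card * c.natAbs ^ 2) B h1 (by omega)
      (h _ hj) (by rw [e2] at hQ; omega)
    rw [e1, e2, ← add_assoc, ← add_assoc]
    exact h2

/-- An upper bound for the square root, quickly computed by the kernel. -/
def root (N : ℕ) : ℕ :=
  if N < 256 then 16 else if N < 1024 then 32 else if N < 4096 then 64 else
  if N < 16384 then 128 else if N < 65536 then 256 else if N < 1048576 then 1024 else N

theorem lt_root_sq (N : ℕ) : N < (root N + 1) * (root N + 1) := by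
  unfold root
  split_ifs <;> nlinarith

/-- The divisors of `N`, found below the square root. -/
def divs (N : ℕ) : List ℕ :=
  let small := (List.range (root N + 1)).filter fun d => decide (N % d = 0)
  small ++ (small.map fun d => N / d).filter fun d => decide (root N < d)

theorem mem_divs {N d : ℕ} (hN : N ≠ 0) (h : d ∣ N) : d ∈ divs N := by
  simp only [divs, List.mem_append, List.mem_filter, List.mem_map, List.mem_range,
    decide_eq_true_eq]
  rcases Nat.lt_or_ge (root N) d with h1 | h1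
  · refine Or.inr ⟨⟨N / d, ⟨?_, ?_⟩, Nat.div_div_self h hN⟩, h1⟩
    · by_contra h3
      have h2 : N / d * d = N := Nat.div_mul_cancel h
      have h4 : root N + 1 ≤ N / d := by omega
      have h6 : (root N + 1) * (root N + 1) ≤ N / d * d := Nat.mul_le_mul h4 h1
      rw [h2] at h6
      exact absurd (lt_root_sq N) (not_lt.mpr h6)
    · exact Nat.mod_eq_zero_of_dvd (Nat.div_dvd_of_dvd h)
  · exact Or.inl ⟨Nat.lt_succ_of_le h1, Nat.mod_eq_zero_of_dvd h⟩

/-- The admissible signed degrees `≡ 1` of the rational characters. -/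
def cands (N p n e lo : ℕ) : List ℤ :=
  ((divs (Nat.gcd N (n * e))).filter fun d =>
      decide (lo < d ∧ Nat.gcd N (n * e) % d = 0 ∧ (d % p = 1 ∨ (d + 1) % p = 0))).map
    fun d => if d % p = 1 then (d : ℤ) else -(d : ℤ)

/-- The admissible signed degrees `≡ e` of the exceptional characters. -/
def thetas (N p e lo : ℕ) : List ℤ :=
  ((divs N).filter fun d =>
      decide (lo < d ∧ N % d = 0 ∧ (d % p = e % p ∨ (d + e) % p = 0))).map
    fun d => if d % p = e % p then (d : ℤ) else -(d : ℤ)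

/-- The lower bound for non-trivial degrees. -/
def low (N p n e : ℕ) : ℕ := if p * (n * e) = N then 1 else 2 * p - 1

/-- No system of degrees satisfying `ok` exists. -/
def checkWith (N p n e : ℕ) (ok : ℕ → Bool) : Bool :=
  (let th := (thetas N p e (low N p n e)).filter fun t => ok t.natAbs
   search N (fun S Q => th.all fun t => !(decide (t = S ∧ Q + (p - 1) / e * t.natAbs ^ 2 ≤ N)))
      ((cands N p n e (low N p n e)).filter fun t => ok t.natAbs) (e - 1) 1 1) &&
  (decide (e + 1 ≠ p) ||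
    search N (fun S _ => decide (S ≠ 1 ∧ S ≠ -1))
      ((cands N p n e (low N p n e)).filter fun t => ok t.natAbs) e 0 1)

/-- No system of degrees exists. -/
def check (N p n e : ℕ) : Bool := checkWith N p n e fun _ => true

universe u

variable {G : Type u} [Group G] [Fintype G]

theorem mem_cands {N p n e lo d : ℕ} {a : ℤ} (hlo : lo < d) (h1 : d ∣ N) (h2 : d ∣ n * e)
    (hN : N ≠ 0) (hp : 2 < p) (ha : a = 1 ∨ a = -1) (hcg : (d : ℤ) ≡ a [ZMOD p]) :
    a * (d : ℤ) ∈ cands N p n e lo := by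
  have hd : d ∣ Nat.gcd N (n * e) := Nat.dvd_gcd h1 h2
  have hle := Nat.le_of_dvd (Nat.gcd_pos_of_pos_left _ (Nat.pos_of_ne_zero hN)) hd
  have h0 : Nat.gcd N (n * e) % d = 0 := Nat.mod_eq_zero_of_dvd hd
  simp only [cands, List.mem_map, List.mem_filter, decide_eq_true_eq]
  have h := hcg
  rw [Int.ModEq] at h
  rcases ha with rfl | rfl
  · have h3 : d % p = 1 := by
      rw [Int.emod_eq_of_lt (by norm_num : (0 : ℤ) ≤ 1) (by omega)] at h
      omega
    exact ⟨d, ⟨mem_divs (Nat.gcd_pos_of_pos_left _ (Nat.pos_of_ne_zero hN)).ne' hd, hlo, h0, Or.inl h3⟩, by rw [if_pos h3, one_mul]⟩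
  · have h4 : ((d + 1 : ℕ) : ℤ) % p = 0 := by
      rw [Nat.cast_add, Nat.cast_one, Int.add_emod, h, ← Int.add_emod]
      simp
    have h3 : (d + 1) % p = 0 := by exact_mod_cast h4
    have h5 : d % p ≠ 1 := fun h5 => by
      rw [Nat.add_mod, h5, Nat.mod_eq_of_lt (show 1 < p by omega),
        Nat.mod_eq_of_lt (show 1 + 1 < p by omega)] at h3
      omega
    exact ⟨d, ⟨mem_divs (Nat.gcd_pos_of_pos_left _ (Nat.pos_of_ne_zero hN)).ne' hd, hlo, h0, Or.inr h3⟩, by rw [if_neg h5, neg_one_mul]⟩

theorem mem_thetas {N p e lo d : ℕ} {δ : ℤ} (hlo : lo < d) (h1 : d ∣ N) (hN : N ≠ 0)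
    (he : e < p) (he0 : 0 < e) (hp : Odd p) (ha : δ = 1 ∨ δ = -1)
    (hcg : (d : ℤ) ≡ δ * (e : ℤ) [ZMOD p]) : δ * (d : ℤ) ∈ thetas N p e lo := by
  have hle := Nat.le_of_dvd (Nat.pos_of_ne_zero hN) h1
  have h0 : N % d = 0 := Nat.mod_eq_zero_of_dvd h1
  simp only [thetas, List.mem_map, List.mem_filter, decide_eq_true_eq]
  have h := hcg
  rw [Int.ModEq] at h
  rcases ha with rfl | rfl
  · rw [one_mul] at h ⊢
    have h3 : d % p = e % p := by exact_mod_cast h
    exact ⟨d, ⟨mem_divs hN h1, hlo, h0, Or.inl h3⟩, by rw [if_pos h3]⟩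
  · have h4 : ((d + e : ℕ) : ℤ) % p = 0 := by
      rw [Nat.cast_add, Int.add_emod, h, ← Int.add_emod]
      simp
    have h3 : (d + e) % p = 0 := by exact_mod_cast h4
    have h5 : d % p ≠ e % p := fun h5 => by
      rw [Nat.add_mod, h5, ← Nat.add_mod, ← two_mul] at h3
      have h6 : p ∣ 2 * e := Nat.dvd_of_mod_eq_zero h3
      have h7 : p ∣ e := (Nat.Coprime.dvd_of_dvd_mul_left
        (Nat.coprime_two_right.mpr hp) h6)
      have := Nat.le_of_dvd he0 h7
      omega
    exact ⟨d, ⟨mem_divs hN h1, hlo, h0, Or.inr h3⟩, by rw [if_neg h5, neg_one_mul]⟩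

theorem false_of_checkWith [IsSimpleGroup G] (hna : ¬ IsMulCommutative G) {p : ℕ} [Fact p.Prime]
    (hp2 : 2 < p) (P : Sylow p G) (hP : Nat.card P = p) {e : ℕ}
    (he : (Subgroup.centralizer ((P : Subgroup G) : Set G)).relIndex
      (Subgroup.normalizer ((P : Subgroup G) : Set G)) = e) (hep : e ∣ p - 1) (he1 : e ≠ 1)
    {N n : ℕ} (hN : Nat.card G = N) (hn : Nat.card (Sylow p G) = n) (ok : ℕ → Bool)
    (hok : ∀ χ : IrrCharacter G, χ ≠ oneChar → ok (charDegree (χ : G → ℂ)) = true)
    (hc : checkWith N p n e ok = true) : False := by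
  classical
  have hp : p.Prime := Fact.out
  obtain ⟨M, hM⟩ := exists_pModular hp
  obtain ⟨X, Y, a, δ, h⟩ := exists_prime_principal hM hP he
  have he0 : 0 < e := by
    rcases Nat.eq_zero_or_pos e with h0 | h0
    · subst h0; simp at hep; omega
    · exact h0
  have hep' : e ≤ p - 1 := Nat.le_of_dvd (by omega) hep
  have hN0 : N ≠ 0 := by rw [← hN]; exact Nat.card_pos.ne'
  have hY : Y.Nonempty := by
    rw [← Finset.card_pos, h.cardY]
    exact Nat.div_pos hep' he0
  have hval : ∀ χ : IrrCharacter G, (χ : G → ℂ) 1 = (charDegree (χ : G → ℂ) : ℂ) :=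
    fun χ => char_one_eq_deg (irr_isCharacter χ.2)
  have hdvd : ∀ χ : IrrCharacter G, charDegree (χ : G → ℂ) ∣ N := fun χ => by
    rw [← hN]; exact deg_dvd_card χ.2
  -- divisibility for the rational characters
  obtain ⟨y, hy⟩ : ∃ y : ↥(P : Subgroup G), y ∈ nonOne P := by
    have : Nontrivial ↥(P : Subgroup G) := by
      rw [← Finite.one_lt_card_iff_nontrivial, show Nat.card ↥(P : Subgroup G) = p from hP]
      exact hp.one_lt
    obtain ⟨y, hy⟩ := exists_ne (1 : ↥(P : Subgroup G))
    exact ⟨y, mem_nonOne.mpr fun e1 => hy (Subtype.ext e1)⟩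
  have hy1 : (y : G) ≠ 1 := mem_nonOne.mp hy
  have hclass : Nat.card {x : G // IsConj (y : G) x} = n * e := by
    rw [← hn, card_conjClass_eq_index, ← centralizer_zpowers_eq,
      eq_zpowers_of_prime_sylow hP y.2 hy1, Sylow.card_eq_index_normalizer P, ← he, Nat.mul_comm]
    exact (Subgroup.relIndex_mul_index (Subgroup.centralizer_le_normalizer _)).symm
  have hdvdC : ∀ χ ∈ X, charDegree (χ : G → ℂ) ∣ n * e := by
    intro χ hχ
    rw [← hclass]
    have h2 := omega_isIntegral χ.2 (y : G)
    rw [omega, h.a_val χ hχ y hy, hval] at h2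
    obtain ⟨z, hz⟩ := isIntegral_rat_cast_imp
      (q := (Nat.card {x : G // IsConj (y : G) x} : ℚ) * a χ / charDegree (χ : G → ℂ))
      (by push_cast; exact h2)
    have hd0 : (charDegree (χ : G → ℂ) : ℚ) ≠ 0 := Nat.cast_ne_zero.mpr (deg_pos χ.2).ne'
    have h3 : (Nat.card {x : G // IsConj (y : G) x} : ℤ) * a χ =
        z * charDegree (χ : G → ℂ) := by
      rw [eq_div_iff hd0] at hz
      exact_mod_cast hz.symm
    have h4 := congrArg Int.natAbs h3
    rw [Int.natAbs_mul, Int.natAbs_mul, Int.natAbs_natCast, Int.natAbs_natCast] at h4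
    refine ⟨z.natAbs, ?_⟩
    rw [Nat.mul_comm, ← h4]
    rcases h.a_sign χ hχ with e1 | e1 <;> simp [e1]
  -- lower bound
  have hlow : ∀ χ : IrrCharacter G, χ ∈ X ∨ χ ∈ Y → χ ≠ oneChar →
      low N p n e < charDegree (χ : G → ℂ) := by
    intro χ hχ hne
    have h1 := one_lt_degree hna hne
    unfold low
    split_ifs with hC
    · exact h1
    · by_contra hlt
      refine hC ?_
      have hpg := centralizer_sylow_isPGroup_of_small_degree hM (perfect hna) P χ
        ((h.mem_iff χ).mpr hχ) (faithful hne (by omega)) (by omega)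
      obtain ⟨k, hk⟩ := hpg.exists_card_eq
      set C := Subgroup.centralizer ((P : Subgroup G) : Set G)
      have hCN : n * (Nat.card C * e) = N := by
        rw [← he, ← hn, ← hN, ← Small.SmallOrders.card_normalizer P, Subgroup.relIndex,
          ← Subgroup.card_mul_index (C.subgroupOf (Subgroup.normalizer ((P : Subgroup G) : Set G))),
          Nat.card_congr
            (Subgroup.subgroupOfEquivOfLe (Subgroup.centralizer_le_normalizer _)).toEquiv]
      have hPC : (P : Subgroup G) ≤ C := by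
        intro g hg
        rw [Subgroup.mem_centralizer_iff]
        intro b hb
        haveI : IsCyclic ↥(P : Subgroup G) := isCyclic_of_prime_card hP
        exact congrArg Subtype.val (IsCyclic.commutative.is_comm.comm
          (⟨b, hb⟩ : ↥(P : Subgroup G)) ⟨g, hg⟩)
      have hCp : Nat.card C = p := by
        rw [← hP]
        refine (congrArg (fun H : Subgroup G => Nat.card H) (P.is_maximal' hpg hPC)).trans ?_
        rfl
      rw [← hCN, hCp]
      ring
  -- common degree of the exceptional characters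
  have hdegY : ∀ θ₁ ∈ Y, ∀ θ₂ ∈ Y,
      charDegree (θ₁ : G → ℂ) = charDegree (θ₂ : G → ℂ) := by
    intro θ₁ h1 θ₂ h2
    have h3 := h.regY θ₁ h1 θ₂ h2 1 (by rw [orderOf_one]; exact hp.not_dvd_one)
    rw [hval, hval] at h3
    exact_mod_cast h3
  -- the sum of squares
  have hsq : ∀ θ ∈ Y, (∑ χ ∈ X, charDegree (χ : G → ℂ) ^ 2) +
      (p - 1) / e * charDegree (θ : G → ℂ) ^ 2 ≤ N := by
    intro θ hθ
    have h1 : ∑ χ : IrrCharacter G, charDegree (χ : G → ℂ) ^ 2 = N := by
      have := sum_sq_deg (G := G)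
      simp only [hval] at this
      rw [← hN]
      exact_mod_cast this
    have h2 : ∑ χ ∈ Y, charDegree (χ : G → ℂ) ^ 2 = (p - 1) / e * charDegree (θ : G → ℂ) ^ 2 := by
      rw [Finset.sum_congr rfl (g := fun _ => charDegree (θ : G → ℂ) ^ 2)
        fun χ hχ => by rw [hdegY χ hχ θ hθ], Finset.sum_const, h.cardY, smul_eq_mul]
    rw [← h2, ← Finset.sum_union h.disj, ← h1]
    exact Finset.sum_le_univ_sum_of_nonneg (f := fun χ : IrrCharacter G => _) fun χ => Nat.zero_le _
  set f : IrrCharacter G → ℤ := fun χ => a χ * (charDegree (χ : G → ℂ) : ℤ)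
  have hf : ∀ χ ∈ X, (f χ).natAbs = charDegree (χ : G → ℂ) := fun χ hχ => by
    rcases h.a_sign χ hχ with e1 | e1 <;> simp [f, e1]
  have hfmem : ∀ χ ∈ X, χ ≠ oneChar →
      f χ ∈ (cands N p n e (low N p n e)).filter fun t => ok t.natAbs := fun χ hχ hne => by
    refine List.mem_filter.mpr ⟨?_, by rw [hf χ hχ]; exact hok χ hne⟩
    exact mem_cands (hlow χ (Or.inl hχ) hne) (hdvd χ) (hdvdC χ hχ) hN0 hp2 (h.a_sign χ hχ)
      (h.a_congr χ hχ)
  have hrel : ∀ θ ∈ Y, δ * (charDegree (θ : G → ℂ) : ℤ) = ∑ χ ∈ X, f χ := by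
    intro θ hθ
    have h2 := h.rel θ hθ 1 (by rw [orderOf_one]; exact hp.not_dvd_one)
    simp only [hval] at h2
    simp only [f]
    exact_mod_cast h2
  unfold checkWith at hc
  rw [Bool.and_eq_true] at hc
  obtain ⟨hc1, hc2⟩ := hc
  have hmem : (oneChar : IrrCharacter G) ∈ principalBlock M G :=
    sameBlock_refl (pmod_prime hM) (fun _ : G => (1 : ℂ))
  rcases (h.mem_iff _).mp hmem with h1X | h1Y
  · obtain ⟨θ, hθ⟩ := hY
    have hθne : θ ≠ oneChar := fun e1 =>
      Finset.disjoint_left.mp h.disj h1X (e1 ▸ hθ)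
    have hone : a oneChar = 1 := by
      have h2 := h.a_congr _ h1X
      rw [charDegree_oneChar] at h2
      rcases h.a_sign _ h1X with e1 | e1
      · exact e1
      · exfalso
        rw [e1] at h2
        have h3 := Int.dvd_neg.mpr (Int.modEq_iff_dvd.mp h2)
        have := Int.le_of_dvd (by norm_num) h3
        omega
    have hf1 : f oneChar = 1 := by simp [f, hone, charDegree_oneChar]
    have hQ := hsq θ hθ
    rw [← Finset.add_sum_erase X _ h1X, charDegree_oneChar, one_pow] at hQ
    have hQ' : 1 + ∑ χ ∈ X.erase oneChar, (f χ).natAbs ^ 2 =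
        1 + ∑ χ ∈ X.erase oneChar, charDegree (χ : G → ℂ) ^ 2 := by
      congr 1
      exact Finset.sum_congr rfl fun χ hχ => by rw [hf χ (Finset.mem_of_mem_erase hχ)]
    have h4 := search_sound _ (e - 1) 1 1 (X.erase oneChar)
      (fun χ hχ => hfmem χ (Finset.mem_of_mem_erase hχ) (Finset.ne_of_mem_erase hχ))
      (by rw [Finset.card_erase_of_mem h1X, h.cardX]) hc1 (by omega)
    rw [List.all_eq_true] at h4
    have hδθ : (δ * (charDegree (θ : G → ℂ) : ℤ)).natAbs = charDegree (θ : G → ℂ) := by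
      rcases h.sign with e1 | e1 <;> simp [e1]
    have h5 := h4 (δ * (charDegree (θ : G → ℂ) : ℤ)) (List.mem_filter.mpr
      ⟨mem_thetas (hlow θ (Or.inr hθ) hθne) (hdvd θ) hN0 (by omega) he0
        (hp.odd_of_ne_two (by omega)) h.sign (h.congrY θ hθ), by rw [hδθ]; exact hok θ hθne⟩)
    rw [Bool.not_eq_true', decide_eq_false_iff_not] at h5
    refine h5 ⟨?_, ?_⟩
    · rw [hrel θ hθ, ← Finset.add_sum_erase X _ h1X, hf1]
    · rw [hδθ]; omega
  · have hnX : oneChar ∉ X := fun h' => Finset.disjoint_left.mp h.disj h' h1Y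
    have hcg := h.congrY _ h1Y
    rw [charDegree_oneChar] at hcg
    have heq : e + 1 = p := by
      have h3 := Int.modEq_iff_dvd.mp hcg
      rcases h.sign with e1 | e1 <;> rw [e1] at h3
      · exfalso
        have := Int.le_of_dvd (by omega) h3
        omega
      · have h4 := Int.le_of_dvd (by omega) (Int.dvd_neg.mpr h3)
        omega
    rw [decide_eq_false (by omega : ¬ (e + 1 ≠ p)), Bool.false_or] at hc2
    have hQ := hsq _ h1Y
    rw [charDegree_oneChar, one_pow] at hQ
    have hQ' : ∑ χ ∈ X, (f χ).natAbs ^ 2 = ∑ χ ∈ X, charDegree (χ : G → ℂ) ^ 2 :=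
      Finset.sum_congr rfl fun χ hχ => by rw [hf χ hχ]
    have hpe : 1 ≤ (p - 1) / e := Nat.div_pos hep' he0
    have h4 := search_sound _ e 0 1 X
      (fun χ hχ => hfmem χ hχ fun e1 => hnX (e1 ▸ hχ)) h.cardX hc2 (by omega)
    rw [zero_add, ← hrel _ h1Y, charDegree_oneChar, decide_eq_true_eq] at h4
    rcases h.sign with e1 | e1 <;> simp [e1] at h4

theorem false_of_check [IsSimpleGroup G] (hna : ¬ IsMulCommutative G) {p : ℕ} [Fact p.Prime]
    (hp2 : 2 < p) (P : Sylow p G) (hP : Nat.card P = p) {e : ℕ}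
    (he : (Subgroup.centralizer ((P : Subgroup G) : Set G)).relIndex
      (Subgroup.normalizer ((P : Subgroup G) : Set G)) = e) (hep : e ∣ p - 1) (he1 : e ≠ 1)
    {N n : ℕ} (hN : Nat.card G = N) (hn : Nat.card (Sylow p G) = n)
    (hc : check N p n e = true) : False :=
  false_of_checkWith hna hp2 P hP he hep he1 hN hn _ (fun _ _ => rfl) hc

/-- No simple group of order `p * m`, if every possible pair `(n, e)` fails the check. -/
theorem card_ne [IsSimpleGroup G] {p m : ℕ} (hp : p.Prime) (hp2 : 2 < p) (hm : ¬ p ∣ m)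
    (hm1 : 1 < m)
    (hall : ∀ n ∈ (List.range (m + 1)).filter (fun n => decide (m % n = 0 ∧ n % p = 1 ∧ n ≠ 1)),
      ((decide (n < 14) && decide (n.factorial % (p * m) ≠ 0)) || (List.range p).all fun e => !(decide (e ≠ 1 ∧ (p - 1) % e = 0 ∧ m % (n * e) = 0)) ||
        check (p * m) p n e) = true) :
    Nat.card G ≠ p * m := by
  intro hG
  haveI := Fact.mk hp
  obtain ⟨P, e, hP, ⟨hn1, hn2, hn3⟩, he, he1, he2, he3⟩ := sylow_data hG hm hm1
  have hna := not_comm hp hG hm1
  have hnle := Nat.le_of_dvd (by omega) hn1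
  have h1 := hall (Nat.card (Sylow p G)) (by
    simp only [List.mem_filter, List.mem_range, decide_eq_true_eq]
    exact ⟨by omega, Nat.mod_eq_zero_of_dvd hn1, hn2, hn3⟩)
  rw [Bool.or_eq_true] at h1
  rcases h1 with h1 | h1
  · rw [Bool.and_eq_true, decide_eq_true_eq, decide_eq_true_eq] at h1
    refine h1.2 (Nat.mod_eq_zero_of_dvd ?_)
    have hidx : (Subgroup.normalizer ((P : Subgroup G) : Set G)).index = Nat.card (Sylow p G) :=
      (Sylow.card_eq_index_normalizer P).symm
    have hne : Subgroup.normalizer ((P : Subgroup G) : Set G) ≠ ⊤ := fun h => hn3 (by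
      rw [← hidx, h, Subgroup.index_top])
    have h2 := Small.SmallOrders.card_dvd_index_factorial _ hne
    rwa [hidx, hG] at h2
  rw [List.all_eq_true] at h1
  have hele := Nat.le_of_dvd (by omega : 0 < p - 1) he1
  have h2 := h1 e (List.mem_range.mpr (by omega))
  rw [decide_eq_true (⟨he2, Nat.mod_eq_zero_of_dvd he1, Nat.mod_eq_zero_of_dvd he3⟩ :
    e ≠ 1 ∧ (p - 1) % e = 0 ∧ m % (Nat.card (Sylow p G) * e) = 0), Bool.not_true, Bool.false_or] at h2
  exact false_of_check hna hp2 P hP he he1 he2 hG rfl h2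

end Cfsg.Agent.Small.DegreeSearch
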