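import Mathlib

/-!
When involutions of the projective general linear group have a multiple of determinant one.
-/

set_option autoImplicit false

namespace Cfsg.Agent.Small.DiagInv

variable {F : Type*} [Field F] [Fintype F]

theorem neg_one_ne_one {q : ℕ} (hF : Fintype.card F = q) (hq : Odd q) : (-1 : F) ≠ 1 := by
  intro h
  have h2 : ringChar F ≠ 2 := fun h' => by
    have := FiniteField.even_card_iff_char_two.mp h'
    rw [hF, Nat.odd_iff.mp hq] at this
    omega
  exact Ring.neg_one_ne_one_of_char_ne_two h2 h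

/-- The odd part. -/
theorem odd_part {N : ℕ} (hN : N ≠ 0) : ∃ b, N = 2 ^ padicValNat 2 N * b ∧ Odd b := by
  obtain ⟨e, b, hb, rfl⟩ := Nat.exists_eq_pow_mul_and_not_dvd hN 2 (by norm_num)
  have : Fact (Nat.Prime 2) := ⟨Nat.prime_two⟩
  have hb0 : b ≠ 0 := fun h => hb (h ▸ dvd_zero 2)
  refine ⟨b, ?_, Nat.not_even_iff_odd.mp fun h => hb (even_iff_two_dvd.mp h)⟩
  rw [padicValNat.mul (pow_ne_zero _ two_ne_zero) hb0, padicValNat.prime_pow,
    padicValNat.eq_zero_of_not_dvd hb, add_zero]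

theorem neg_one_is_power {q : ℕ} (hF : Fintype.card F = q) (hq : Odd q) {n : ℕ} (hn : 1 ≤ n) :
    (∃ c : F, c ≠ 0 ∧ c ^ n = -1) ↔ padicValNat 2 n < padicValNat 2 (q - 1) := by
  classical
  have h1 := Fintype.one_lt_card (α := F)
  obtain ⟨b, hb, hbo⟩ := odd_part (show n ≠ 0 by omega)
  obtain ⟨B, hB, hBo⟩ := odd_part (show q - 1 ≠ 0 by omega)
  obtain ⟨a, ha⟩ : ∃ a, a = padicValNat 2 n := ⟨_, rfl⟩
  obtain ⟨s, hs⟩ : ∃ s, s = padicValNat 2 (q - 1) := ⟨_, rfl⟩
  rw [← ha, ← hs]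
  rw [← ha] at hb
  rw [← hs] at hB
  constructor
  · rintro ⟨c, hc0, hc⟩
    by_contra hlt
    apply neg_one_ne_one hF hq
    obtain ⟨t, ht⟩ : (q - 1) ∣ n * B := by
      rw [hb, hB, mul_assoc]
      exact mul_dvd_mul (pow_dvd_pow 2 (by omega)) (dvd_mul_left B b)
    calc (-1 : F) = (-1) ^ B := (hBo.neg_one_pow).symm
      _ = (c ^ (q - 1)) ^ t := by rw [← hc, ← pow_mul, ← pow_mul, ht]
      _ = 1 := by rw [← hF, FiniteField.pow_card_sub_one_eq_one c hc0, one_pow]
  · intro hlt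
    obtain ⟨u, hu⟩ := IsCyclic.exists_generator (α := Fˣ)
    have hou : orderOf u = q - 1 := by
      rw [orderOf_eq_card_of_forall_mem_zpowers hu, Nat.card_eq_fintype_card, Fintype.card_units, hF]
    obtain ⟨d, hd⟩ : 2 ^ (a + 1) ∣ q - 1 := hB ▸ dvd_mul_of_dvd_left (pow_dvd_pow 2 hlt) B
    refine ⟨((u ^ d : Fˣ) : F), Units.ne_zero _, ?_⟩
    have h2 : ((u ^ d : Fˣ) : F) ^ (2 ^ a) * ((u ^ d : Fˣ) : F) ^ (2 ^ a) = 1 := by
      rw [← pow_add, ← two_mul, ← pow_succ', Units.val_pow_eq_pow_val, ← pow_mul, mul_comm d, ← hd,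
        ← Units.val_pow_eq_pow_val, ← hou, pow_orderOf_eq_one, Units.val_one]
    rcases mul_self_eq_one_iff.mp h2 with h | h
    · exfalso
      have h' : u ^ (d * 2 ^ a) = 1 := Units.ext (by
        rw [Units.val_pow_eq_pow_val, pow_mul, ← Units.val_pow_eq_pow_val, h, Units.val_one])
      have hle := Nat.le_of_dvd (Nat.pos_of_ne_zero fun h0 => by
        rcases mul_eq_zero.mp h0 with e | e
        · rw [e, mul_zero] at hd; omega
        · simp at e) (orderOf_dvd_of_pow_eq_one h')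
      rw [hou, hd, pow_succ, mul_comm (2 ^ a) 2, mul_assoc, mul_comm d] at hle
      have : 0 < 2 ^ a * d := Nat.pos_of_ne_zero fun h0 => by
        rcases mul_eq_zero.mp h0 with e | e
        · simp at e
        · rw [e, mul_zero] at hd; omega
      omega
    · rw [hb, pow_mul, h, hbo.neg_one_pow]

theorem diag_involution {q : ℕ} (hF : Fintype.card F = q) (hq : Odd q) {n : ℕ} (hn : 1 ≤ n) (i : ℕ)
    (hi : i ≤ n) :
    (∃ c : F, c ≠ 0 ∧
      (c • Matrix.diagonal (fun j : Fin n => if (j : ℕ) < i then (-1 : F) else 1)).det = 1) ↔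
    (Even i ∨ padicValNat 2 n < padicValNat 2 (q - 1)) := by
  have hd : ∀ c : F, (c • Matrix.diagonal (fun j : Fin n => if (j : ℕ) < i then (-1 : F) else 1)).det =
      c ^ n * (-1) ^ i := fun c => by
    rw [Matrix.det_smul, Fintype.card_fin, Matrix.det_diagonal, Finset.prod_ite, Finset.prod_const,
      Finset.prod_const, one_pow, mul_one]
    congr 2
    rw [Fin.card_filter_val_lt, min_eq_right hi]
  simp only [hd]
  rcases Nat.even_or_odd i with he | ho
  · simp only [he, true_or, iff_true]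
    exact ⟨1, one_ne_zero, by rw [one_pow, one_mul, he.neg_one_pow]⟩
  · rw [← neg_one_is_power hF hq hn, ho.neg_one_pow]
    simp only [Nat.not_even_iff_odd.mpr ho, false_or]
    exact ⟨fun ⟨c, h0, h⟩ => ⟨c, h0, by linear_combination -h⟩,
      fun ⟨c, h0, h⟩ => ⟨c, h0, by linear_combination -h⟩⟩

theorem block_involution {q : ℕ} (hF : Fintype.card F = q) (hq : Odd q) {m : ℕ} (hm : 1 ≤ m) (μ : F)
    (hμ : orderOf μ = 2 ^ padicValNat 2 (q - 1)) :
    (∃ c : F, c ≠ 0 ∧ (c • Matrix.blockDiagonal (fun _ : Fin m => !![(0 : F), 1; μ, 0])).det = 1) ↔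
      (q % 4 = 3 ∨ padicValNat 2 (q - 1) < padicValNat 2 (2 * m)) := by
  classical
  have : Fact (Nat.Prime 2) := ⟨Nat.prime_two⟩
  have h1 := Fintype.one_lt_card (α := F)
  have hd : ∀ c : F, (c • Matrix.blockDiagonal (fun _ : Fin m => !![(0 : F), 1; μ, 0])).det =
      c ^ (2 * m) * (-μ) ^ m := fun c => by
    rw [Matrix.det_smul, Matrix.det_blockDiagonal]
    simp [Matrix.det_fin_two]
  simp only [hd]
  obtain ⟨B, hB, hBo⟩ := odd_part (show q - 1 ≠ 0 by omega)
  obtain ⟨b, hb, hbo⟩ := odd_part (show m ≠ 0 by omega)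
  obtain ⟨a, ha⟩ : ∃ a, a = padicValNat 2 m := ⟨_, rfl⟩
  obtain ⟨s, hs⟩ : ∃ s, s = padicValNat 2 (q - 1) := ⟨_, rfl⟩
  rw [padicValNat.mul two_ne_zero (show m ≠ 0 by omega), padicValNat_self, ← ha, ← hs]
  rw [← hs] at hB hμ
  rw [← ha] at hb
  have hqo := Nat.odd_iff.mp hq
  have hs1 : 1 ≤ s := by
    rw [hs]
    exact one_le_padicValNat_of_dvd (by omega) (by omega)
  have hμpow : μ ^ (2 ^ s) = 1 := hμ ▸ pow_orderOf_eq_one μ
  by_cases h3 : q % 4 = 3
  · simp only [h3, true_or, iff_true]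
    have hs' : s = 1 := by
      by_contra h
      have : 2 ^ 2 ∣ q - 1 := hB ▸ dvd_mul_of_dvd_left (pow_dvd_pow 2 (by omega : 2 ≤ s)) B
      omega
    rw [hs', pow_one] at hμ hμpow
    rw [pow_two] at hμpow
    have hμ1 : μ = -1 := (mul_self_eq_one_iff.mp hμpow).resolve_left fun h => by
      rw [h, orderOf_one] at hμ; omega
    exact ⟨1, one_ne_zero, by rw [hμ1, neg_neg]; simp⟩
  simp only [h3, false_or]
  have hs2 : 2 ≤ s := by
    by_contra h
    have hs' : s = 1 := by omega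
    rw [hs'] at hB
    have := Nat.odd_iff.mp hBo
    omega
  constructor
  · rintro ⟨c, hc0, hc⟩
    by_contra hlt
    obtain ⟨e, he⟩ : ∃ e, e = 2 ^ (s - 1 - a) * B := ⟨_, rfl⟩
    have hme : m * e = b * B * 2 ^ (s - 1) := by
      have : 2 ^ (s - 1) = 2 ^ a * 2 ^ (s - 1 - a) := by rw [← pow_add]; congr 1; omega
      rw [hb, he, this]; ring
    have h := congrArg (· ^ e) hc
    simp only [one_pow, mul_pow, ← pow_mul] at h
    rw [neg_eq_neg_one_mul, mul_pow, hme, show 2 * m * e = (q - 1) * b by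
        rw [mul_assoc, hme, hB]
        have : 2 ^ s = 2 * 2 ^ (s - 1) := by rw [← pow_succ']; congr 1; omega
        rw [this]; ring,
      pow_mul c, ← hF, FiniteField.pow_card_sub_one_eq_one c hc0, one_pow, one_mul,
      (Nat.even_pow.mpr ⟨even_two, by omega⟩ : Even (2 ^ (s - 1))).mul_left (b * B) |>.neg_one_pow,
      one_mul, mul_comm, pow_mul] at h
    have hhalf : μ ^ 2 ^ (s - 1) = -1 := by
      have h' : μ ^ 2 ^ (s - 1) * μ ^ 2 ^ (s - 1) = 1 := by
        rw [← pow_add, ← two_mul, ← pow_succ', show s - 1 + 1 = s by omega, hμpow]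
      refine (mul_self_eq_one_iff.mp h').resolve_left fun hh => ?_
      have := Nat.le_of_dvd (pow_pos two_pos _) (orderOf_dvd_of_pow_eq_one hh)
      rw [hμ] at this
      exact absurd this (not_le.mpr (Nat.pow_lt_pow_right one_lt_two (by omega)))
    rw [hhalf, (hbo.mul hBo).neg_one_pow] at h
    exact neg_one_ne_one hF hq h
  · intro hlt
    refine ⟨1, one_ne_zero, ?_⟩
    have hev : Even m := by rw [hb]; exact (Nat.even_pow.mpr ⟨even_two, by omega⟩).mul_right b
    rw [one_pow, one_mul, hev.neg_pow, hb,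
      show 2 ^ a = 2 ^ s * 2 ^ (a - s) by rw [← pow_add]; congr 1; omega, mul_assoc, pow_mul, hμpow,
      one_pow]

end Cfsg.Agent.Small.DiagInv
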