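import Cfsg.Agent.Lib.Small.SteinbergChar
import Cfsg.Agent.Lib.Lie.GroupCard
import Cfsg.Agent.Lib.Lie.Parabolic

/-!
Counting the elements of p-power order in the parabolic subgroups of a Chevalley group.
-/

set_option autoImplicit false
set_option synthInstance.maxHeartbeats 400000

namespace Cfsg.Agent.Small.StChar

open Cfsg Cfsg.Lie Cfsg.Agent.Lie Cfsg.Agent.Small.WeylCosets

variable {D : ChevalleyDatum} (hF : Facts D) {F : Type*} [Field F]

theorem inRootSub_weyl (J : Finset ℕ) {v : hF.weyl} (hv : v ∈ WJ hF.refSys (nodes D J))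
    {r : Fin D.nroots} (h : D.InRootSub (↑J : Set ℕ) r.val) :
    D.InRootSub (↑J : Set ℕ) (v • r : Fin D.nroots).val := by
  obtain ⟨ω, hω, rfl⟩ := exists_word_mem hF.refSys hv
  clear hv
  induction ω with
  | nil => simpa [RefSystem.pr] using h
  | cons i ω ih =>
    rw [RefSystem.pr_cons, mul_smul]
    show D.InRootSub _ (hF.wS i • (hF.refSys.pr ω • r) : Fin D.nroots).val
    rw [hF.wS_smul]
    exact hF.inRootSub_refl _ i.isLt (hω i List.mem_cons_self)
      (ih fun k hk => hω k (List.mem_cons_of_mem _ hk))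

theorem pos_of_not_sub (J : Finset ℕ) {v : hF.weyl} (hv : v ∈ WJ hF.refSys (nodes D J))
    {r : Fin D.nroots} (hr : r ∈ hF.refSys.P) (h : ¬ D.InRootSub (↑J : Set ℕ) r.val) :
    v • r ∈ hF.refSys.P := by
  obtain ⟨ω, hω, rfl⟩ := exists_word_mem hF.refSys hv
  clear hv
  induction ω with
  | nil => simpa [RefSystem.pr] using hr
  | cons i ω ih =>
    have hω' : ∀ k ∈ ω, k ∈ nodes D J := fun k hk => hω k (List.mem_cons_of_mem _ hk)
    rw [RefSystem.pr_cons, mul_smul]
    refine hF.refSys.perm i _ (ih hω') fun he => h ?_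
    have h2 := inRootSub_weyl hF J (inv_mem (pr_mem hF.refSys hω')) (r := hF.refSys.pr ω • r) (by
      rw [he]; exact (hF.inRootSub_simple _ i.isLt).2 (hω i List.mem_cons_self))
    rwa [inv_smul_smul] at h2

theorem neg_J_of_simple_neg (J : Finset ℕ) (w : hF.weyl)
    (h : ∀ i ∈ nodes D J, w • hF.refSys.α i ∉ hF.refSys.P) :
    ∀ r : Fin D.nroots, r ∈ hF.refSys.P → D.InRootSub (↑J : Set ℕ) r.val → w • r ∉ hF.refSys.P := by
  have hnegpsi : ∀ x : Fin D.nroots, x ∉ hF.refSys.P → hF.psi x.val < 0 := by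
    intro x hx
    have h := (hF.refSys.neg_mem x).2 hx
    have h' : D.nroots / 2 ≤ D.neg x.val := by simpa [Facts.refSys] using h
    have := hF.psi_pos (hF.neg_lt x.isLt) h'
    rw [hF.psi_neg x.isLt] at this
    omega
  suffices hm : ∀ r, (hr : r < D.nroots) → D.nroots / 2 ≤ r → D.InRootSub (↑J : Set ℕ) r →
      hF.psi (w • (⟨r, hr⟩ : Fin D.nroots) : Fin D.nroots).val < 0 by
    intro r hr hJ hc
    have h1 := hm r.val r.isLt (by simpa [Facts.refSys] using hr) hJ
    have h2 := hF.psi_pos (Fin.isLt _)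
      (show D.nroots / 2 ≤ (w • r : Fin D.nroots).val by simpa [Facts.refSys] using hc)
    exact absurd h1 (not_lt.2 h2.le)
  intro r
  induction r using Nat.strong_induction_on with
  | _ r ih =>
    intro hr hr' hJ
    obtain ⟨i, hi, hiJ, hlt⟩ := hF.exists_refl_lt_J _ hJ hr'
    have hα := hF.simple_lt i hi
    by_cases hp : r = D.simple i
    · exact hnegpsi _ (by subst hp; exact h ⟨i, hi⟩ hiJ)
    · have hq := hF.refl_lt i hi r hr
      have hqp := hF.refl_pos i hi r hr hr' hp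
      have h1 := ih _ hlt hq hqp (hF.inRootSub_refl _ hi hiJ hJ)
      have h2 := hnegpsi _ (h ⟨i, hi⟩ hiJ)
      have hA : 0 < -D.cartan i (D.reflectRoot i r) := by
        have := hF.psi_refl hi hq
        rw [hF.refl_refl i hi r hr] at this
        have h3 := hF.psi_lt hlt hr
        have h4 := hF.psi_pos hα (hF.simple_ge i hi)
        nlinarith
      have hcomb : ∀ k, k < D.rank → D.cartan k r =
          1 * D.cartan k (D.reflectRoot i r) + (-D.cartan i (D.reflectRoot i r)) * D.cartan k (D.simple i) := by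
        intro k hk
        have := hF.cartan_refl i hi _ hq k hk
        rw [hF.refl_refl i hi r hr] at this
        rw [this]; ring
      have hlin := TorusSys.weyl_comb w ⟨r, hr⟩ ⟨_, hq⟩ (hF.refSys.α ⟨i, hi⟩) 1
        (-D.cartan i (D.reflectRoot i r)) hcomb
      rw [TorusSys.psi_comb (hF := hF) _ _ hlin, one_mul]
      nlinarith

theorem eq_one_of_asc {I : Set (Fin D.rank)} {y : hF.weyl} (hy : y ∈ WJ hF.refSys I)
    (h : ∀ i ∈ I, y • hF.refSys.α i ∈ hF.refSys.P) : y = 1 := by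
  have := (isMin_iff hF.refSys).2 h y⁻¹ (inv_mem hy)
  rw [mul_inv_cancel, RefSystem.len_one] at this
  exact hF.refSys.eq_one_of_len_eq_zero (Nat.le_zero.1 this)

/-- The longest element of a standard subgroup. -/
structure Longest (J : Finset ℕ) (L : hF.weyl) : Prop where
  mem : L ∈ WJ hF.refSys (nodes D J)
  desc : ∀ i ∈ nodes D J, L • hF.refSys.α i ∉ hF.refSys.P
  inv : L⁻¹ = L
  uniq : ∀ y ∈ WJ hF.refSys (nodes D J), (∀ i ∈ nodes D J, y • hF.refSys.α i ∉ hF.refSys.P) → y = L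

theorem exists_longestJ (J : Finset ℕ) : ∃ L, Longest hF J L := by
  classical
  have := Fintype.ofFinite hF.weyl
  obtain ⟨L, hL, hmax⟩ := (Finset.univ.filter fun y => y ∈ WJ hF.refSys (nodes D J)).exists_max_image
    hF.refSys.len ⟨1, Finset.mem_filter.2 ⟨Finset.mem_univ _, one_mem _⟩⟩
  rw [Finset.mem_filter] at hL
  have hdesc : ∀ i ∈ nodes D J, L • hF.refSys.α i ∉ hF.refSys.P := by
    intro i hi hp
    have h1 := hF.refSys.len_mul_s_of_mem hp
    have h2 := hmax (L * hF.refSys.s i) (Finset.mem_filter.2 ⟨Finset.mem_univ _, mul_mem hL.2 (s_mem _ hi)⟩)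
    omega
  have key : ∀ y z : hF.weyl, y ∈ WJ hF.refSys (nodes D J) →
      (∀ i ∈ nodes D J, y • hF.refSys.α i ∉ hF.refSys.P) → z ∈ WJ hF.refSys (nodes D J) →
      (∀ i ∈ nodes D J, z • hF.refSys.α i ∉ hF.refSys.P) → z = y⁻¹ := by
    intro y z hy hy' hz hz'
    refine eq_inv_of_mul_eq_one_right (eq_one_of_asc hF (mul_mem hy hz) fun i hi => ?_)
    have h1 : hF.refSys.neg (z • hF.refSys.α i) ∈ hF.refSys.P := (hF.refSys.neg_mem _).2 (hz' i hi)
    have h2 := neg_J_of_simple_neg hF J y hy' _ h1 (hF.inRootSub_neg _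
      (inRootSub_weyl hF J hz ((hF.inRootSub_simple _ i.isLt).2 hi)))
    rw [RefSystem.smul_neg, hF.refSys.neg_mem, not_not] at h2
    rwa [mul_smul]
  have hinv : L⁻¹ = L := (key L L hL.2 hdesc hL.2 hdesc).symm
  exact ⟨L, hL.2, hdesc, hinv, fun y hy hy' => (key L y hL.2 hdesc hy hy').trans hinv⟩

theorem invList_longest {J : Finset ℕ} {L : hF.weyl} (hL : Longest hF J L) (r : ℕ) :
    r ∈ TorusSys.invList L ↔ r ∈ Facts.posL D ∧ D.InRootSub (↑J : Set ℕ) r := by
  constructor
  · intro hr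
    obtain ⟨h, hi⟩ := TorusSys.mem_invList.1 hr
    obtain ⟨h1, h2⟩ := (RefSystem.mem_inv _).1 hi
    refine ⟨Facts.mem_posL.2 ⟨by simpa [Facts.refSys] using h1, h⟩, ?_⟩
    by_contra hc
    exact h2 (pos_of_not_sub hF J hL.mem (r := ⟨r, h⟩) h1 hc)
  · rintro ⟨hr, hJ⟩
    obtain ⟨h1, h2⟩ := Facts.mem_posL.1 hr
    refine TorusSys.mem_invList.2 ⟨h2, (RefSystem.mem_inv _).2 ⟨by simp [Facts.refSys, h1], ?_⟩⟩
    exact neg_J_of_simple_neg hF J L hL.desc ⟨r, h2⟩ (by simp [Facts.refSys, h1]) hJ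

theorem len_radL {J : Finset ℕ} {L : hF.weyl} (hL : Longest hF J L) :
    hF.refSys.len L + (Facts.radL D (↑J : Set ℕ)).length = D.nroots / 2 := by
  classical
  rw [← hF.length_posL, ← TorusSys.length_invList]
  have hnd : (Facts.posL D).Nodup := hF.closedList_posL.sorted.nodup
  have h1 : (TorusSys.invList L).toFinset =
      (Facts.posL D).toFinset.filter fun r => D.InRootSub (↑J : Set ℕ) r := by
    ext r
    simp [invList_longest hF hL]
  have h2 : (Facts.radL D (↑J : Set ℕ)).toFinset =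
      (Facts.posL D).toFinset.filter fun r => ¬ D.InRootSub (↑J : Set ℕ) r := by
    ext r
    simp [Facts.mem_radL, Facts.mem_posL, and_assoc]
  have hn1 : (TorusSys.invList L).Nodup := (TorusSys.closed_invList L).sorted.nodup
  have hn2 : (Facts.radL D (↑J : Set ℕ)).Nodup := hnd.filter _
  rw [← List.toFinset_card_of_nodup hnd, ← List.toFinset_card_of_nodup hn1,
    ← List.toFinset_card_of_nodup hn2, h1, h2, Finset.card_filter_add_card_filter_not]

theorem closed_radL {l : List (List ℤ)} (hl : okCoeff D l = true) (J : Set ℕ) (hF : Facts D) :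
    ClosedList D (Facts.radL D J) := by
  classical
  refine ⟨hF.closedList_posL.sorted.filter _, fun r hr => ?_, fun r hr s hs hne c hc => ?_⟩
  · exact ⟨((Facts.mem_radL J).1 hr).1, ((Facts.mem_radL J).1 hr).2.1⟩
  · obtain ⟨r1, r2, -⟩ := (Facts.mem_radL J).1 hr
    obtain ⟨s1, s2, -⟩ := (Facts.mem_radL J).1 hs
    obtain ⟨hlt, -, -⟩ := hF.commTerms_gt r2 s2 r1 s1 hc
    obtain ⟨a1, b1, -⟩ := hF.commTerms_psi r2 s2 hc
    have hr' := (Facts.radL_iff hl J r2).1 hr
    have hs' := (Facts.radL_iff hl J s2).1 hs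
    refine (Facts.radL_iff hl J hlt).2 ?_
    rw [hF.psiOf_commTerms _ r2 s2 hc]
    have a1' : (1 : ℤ) ≤ c.2.2.1 := by exact_mod_cast a1
    have b1' : (1 : ℤ) ≤ c.2.2.2 := by exact_mod_cast b1
    nlinarith

/-- The alternating sum over the subsets of a set of indices. -/
theorem alt_sum_sub {n : ℕ} (J : Finset ℕ) (hJ : J ⊆ Finset.range n) (P : Fin n → Prop) [DecidablePred P] :
    (∑ I ∈ J.powerset, (-1 : ℤ) ^ I.card * if (∀ i : Fin n, i.val ∈ I → P i) then 1 else 0) =
      if (∀ i : Fin n, i.val ∈ J → ¬ P i) then 1 else 0 := by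
  classical
  let A : Finset ℕ := (Finset.univ.filter fun i : Fin n => i.val ∈ J ∧ P i).map Fin.valEmbedding
  have hA : ∀ I ∈ J.powerset, (∀ i : Fin n, i.val ∈ I → P i) ↔ I ⊆ A := by
    intro I hI
    rw [Finset.mem_powerset] at hI
    refine ⟨fun h x hx => ?_, fun h i hi => ?_⟩
    · exact Finset.mem_map.2 ⟨⟨x, Finset.mem_range.1 (hJ (hI hx))⟩,
        Finset.mem_filter.2 ⟨Finset.mem_univ _, hI hx, h ⟨x, _⟩ hx⟩, rfl⟩
    · obtain ⟨a, ha, hai⟩ := Finset.mem_map.1 (h hi)
      obtain rfl : a = i := Fin.ext hai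
      exact (Finset.mem_filter.1 ha).2.2
  have hsub : A ⊆ J := fun x hx => by
    obtain ⟨a, ha, rfl⟩ := Finset.mem_map.1 hx
    exact (Finset.mem_filter.1 ha).2.1
  have e : (J.powerset.filter fun I => I ⊆ A) = A.powerset := by
    ext I
    simp only [Finset.mem_filter, Finset.mem_powerset]
    exact ⟨fun h => h.2, fun h => ⟨h.trans hsub, h⟩⟩
  rw [Finset.sum_congr rfl fun I hI => by rw [if_congr (hA I hI) rfl rfl, mul_ite, mul_one, mul_zero],
    ← Finset.sum_filter, e, Finset.sum_powerset_neg_one_pow_card]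
  refine if_congr ⟨fun h i hi hP => ?_, fun h => ?_⟩ rfl rfl
  · have : i.val ∈ A := Finset.mem_map.2 ⟨i, Finset.mem_filter.2 ⟨Finset.mem_univ _, hi, hP⟩, rfl⟩
    simp [h] at this
  · exact Finset.map_eq_empty.2 (Finset.filter_eq_empty_iff.2 fun i _ hi => h i hi.1 hi.2)

theorem parabolicIn_mono {I J : Finset ℕ} (h : I ⊆ J) : D.parabolicIn F I ≤ D.parabolicIn F J := by
  intro g hg
  refine sup_le_sup_left (Subgroup.closure_mono ?_) _ hg
  rintro x ⟨j, hj, hx⟩
  exact ⟨j, Finset.coe_subset.2 h hj, hx⟩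

variable [Fintype F]

/-- A cell in G/B has q^len elements. -/
theorem card_cell (w : hF.weyl) :
    Nat.card {q : ↥(D.group F) ⧸ (D.borelSubgroup F).subgroupOf (D.group F) // qcell hF q = w} =
      Fintype.card F ^ hF.refSys.len w := by
  rw [← len_inv hF.refSys w, ← TorusSys.length_invList, ← Nat.card_eq_fintype_card,
    ← hF.card_US (TorusSys.closed_invList w⁻¹)]
  have hUB : ∀ u ∈ (hF.tsys F).US (TorusSys.invList w⁻¹), u ∈ (hF.tsys F).B := fun u hu =>
    (hF.tsys F).U_le_B (CommSys.US_mono _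
      (fun r hr => Facts.mem_posL.2 ((TorusSys.closed_invList w⁻¹).mem_pos r hr)) hu)
  let f : ↥((hF.tsys F).US (TorusSys.invList w⁻¹)) →
      ↥(D.group F) ⧸ (D.borelSubgroup F).subgroupOf (D.group F) := fun u =>
    ((⟨(u : GL D.Idx F)⁻¹ * ((hF.tsys F).nW w⁻¹)⁻¹,
      mul_mem (inv_mem (B_mem_group hF (hUB _ u.2))) (inv_mem (nW_mem_group hF _))⟩ : ↥(D.group F)) : _ ⧸ _)
  refine (Nat.card_congr (Equiv.ofBijective (fun u => (⟨f u, ?_⟩ :
    {q : ↥(D.group F) ⧸ (D.borelSubgroup F).subgroupOf (D.group F) // qcell hF q = w})) ⟨?_, ?_⟩)).symm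
  · rw [qcell_mk]
    refine cell_eq hF ?_
    have h := inCell_inv hF (inCell_nW (F := F) hF w⁻¹)
    rw [inv_inv] at h
    simpa using inCell_mul_B hF h (inv_mem (hUB _ u.2)) (one_mem _)
  · intro u u' he
    have h := QuotientGroup.eq.1 (congrArg Subtype.val he)
    rw [Subgroup.mem_subgroupOf] at h
    simp only [Subgroup.coe_mul, Subgroup.coe_inv, _root_.mul_inv_rev, inv_inv] at h
    replace h := (hF.tsys_B (F := F)).ge h
    obtain ⟨-, -, h3⟩ := hF.bruhat_unique (one_mem _) h u.2 u'.2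
      (w := w⁻¹) (v := w⁻¹) (b := 1) (by group)
    exact Subtype.ext h3
  · rintro ⟨q, hq⟩
    induction q using QuotientGroup.induction_on with
    | H g =>
      rw [qcell_mk] at hq
      obtain ⟨b, hb, v, u, hu, he⟩ := hF.mem_bnu (g⁻¹ : ↥(D.group F)).2
      obtain ⟨c, hc, c', hc', hce⟩ := inCell_inv hF (cell_spec hF g)
      have hv : v = w⁻¹ := by
        rw [← hq]
        refine inCell_unique hF (g := ((g⁻¹ : ↥(D.group F)) : GL D.Idx F)) ⟨b, hb, u, ?_, he⟩
          ⟨c, hc, c', hc', by rw [Subgroup.coe_inv]; exact hce⟩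
        exact (hF.tsys F).U_le_B (CommSys.US_mono _
          (fun r hr => Facts.mem_posL.2 ((TorusSys.closed_invList v).mem_pos r hr)) hu)
      subst hv
      refine ⟨⟨u, hu⟩, Subtype.ext ?_⟩
      show f ⟨u, hu⟩ = _
      rw [QuotientGroup.eq, Subgroup.mem_subgroupOf]
      simp only [Subgroup.coe_mul, Subgroup.coe_inv, _root_.mul_inv_rev, inv_inv]
      refine (hF.tsys_B (F := F)).le ?_
      rw [Subgroup.coe_inv, inv_eq_iff_eq_inv] at he
      rw [he, show (hF.tsys F).nW w⁻¹ * u * (b * (hF.tsys F).nW w⁻¹ * u)⁻¹ = b⁻¹ by group]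
      exact inv_mem hb

theorem fixed_cosets_J (J I : Finset ℕ) (hIJ : I ⊆ J) (b : ↥((D.borelSubgroup F).subgroupOf (D.group F))) :
    Nat.card {y : ↥(D.group F) ⧸ D.parabolicIn F I //
        (b : ↥(D.group F)) • y = y ∧ y.out ∈ D.parabolicIn F J} =
      Nat.card {q : ↥(D.group F) ⧸ (D.borelSubgroup F).subgroupOf (D.group F) //
        (b : ↥(D.group F)) • q = q ∧ qcell hF q ∈ WJ hF.refSys (nodes D J) ∧
          IsMin hF.refSys (nodes D I) (qcell hF q)} := by
  have hle : D.parabolicIn F I ≤ D.parabolicIn F J := parabolicIn_mono hIJ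
  have hout : ∀ q : ↥(D.group F) ⧸ (D.borelSubgroup F).subgroupOf (D.group F),
      (proj I q).out ∈ D.parabolicIn F J ↔ qcell hF q ∈ WJ hF.refSys (nodes D J) := by
    intro q
    induction q using QuotientGroup.induction_on with
    | H g =>
      obtain ⟨p, hp⟩ := QuotientGroup.mk_out_eq_mul (D.parabolicIn F I) g
      rw [proj_mk, hp, Subgroup.mul_mem_cancel_right _ (hle p.2), qcell_mk, mem_parabolicIn hF]
      exact ⟨fun ⟨v, hv, hc⟩ => cell_eq hF hc ▸ hv, fun h => ⟨_, h, cell_spec hF g⟩⟩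
  refine (Nat.card_congr (Equiv.ofBijective
    (fun q : {q : ↥(D.group F) ⧸ (D.borelSubgroup F).subgroupOf (D.group F) //
        (b : ↥(D.group F)) • q = q ∧ qcell hF q ∈ WJ hF.refSys (nodes D J) ∧
          IsMin hF.refSys (nodes D I) (qcell hF q)} =>
      (⟨proj I q.1, by rw [← proj_smul, q.2.1], (hout q.1).2 q.2.2.1⟩ :
        {y : ↥(D.group F) ⧸ D.parabolicIn F I //
          (b : ↥(D.group F)) • y = y ∧ y.out ∈ D.parabolicIn F J}))
    ⟨fun q q' he => Subtype.ext (proj_inj hF I q.2.2.2 q'.2.2.2 (congrArg Subtype.val he)), ?_⟩)).symm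
  rintro ⟨y, hy, hyJ⟩
  obtain ⟨q, hq, hqy, hfix⟩ := exists_proj hF I y
  exact ⟨⟨q, hfix b hy, (hout q).1 (by rw [hqy]; exact hyJ), hq⟩, Subtype.ext hqy⟩

/-- The fixed points of g on the cosets of P_I inside P_J, alternately. -/
noncomputable def stJ (J : Finset ℕ) (g : ↥(D.group F)) : ℤ :=
  ∑ I ∈ J.powerset, (-1 : ℤ) ^ I.card *
    (Nat.card {y : ↥(D.group F) ⧸ D.parabolicIn F I // g • y = y ∧ y.out ∈ D.parabolicIn F J} : ℤ)

theorem stJ_B {J : Finset ℕ} (hJ : J ⊆ Finset.range D.rank) {L : hF.weyl} (hL : Longest hF J L)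
    (b : ↥((D.borelSubgroup F).subgroupOf (D.group F))) :
    stJ (D := D) (F := F) J (b : ↥(D.group F)) =
      (Nat.card {q : ↥(D.group F) ⧸ (D.borelSubgroup F).subgroupOf (D.group F) //
        (b : ↥(D.group F)) • q = q ∧ qcell hF q = L} : ℤ) := by
  classical
  have := Fintype.ofFinite (↥(D.group F) ⧸ (D.borelSubgroup F).subgroupOf (D.group F))
  rw [stJ, Finset.sum_congr rfl fun I hI => by rw [fixed_cosets_J hF J I (Finset.mem_powerset.1 hI) b]]
  simp only [Nat.card_eq_fintype_card, Fintype.card_subtype, Finset.card_filter]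
  push_cast
  simp only [Finset.mul_sum]
  rw [Finset.sum_comm]
  refine Finset.sum_congr rfl fun q _ => ?_
  by_cases hq : (b : ↥(D.group F)) • q = q ∧ qcell hF q ∈ WJ hF.refSys (nodes D J)
  · simp only [hq.1, hq.2, true_and, isMin_iff hF.refSys]
    refine Eq.trans (Finset.sum_congr rfl fun I _ => ?_)
      ((alt_sum_sub J hJ (fun i : Fin D.rank => qcell hF q • hF.refSys.α i ∈ hF.refSys.P)).trans
        (if_congr ⟨fun h => hL.uniq _ hq.2 fun i hi => h i hi, fun h i hi => h ▸ hL.desc i hi⟩ rfl rfl))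
    congr 1
    exact if_congr Iff.rfl rfl rfl
  · rw [Finset.sum_eq_zero, if_neg]
    · exact fun h => hq ⟨h.1, h.2 ▸ hL.mem⟩
    · intro I _
      rw [if_neg fun h => hq ⟨h.1, h.2.1⟩, mul_zero]

theorem stJ_conj (J : Finset ℕ) {g x : ↥(D.group F)} (hx : x ∈ D.parabolicIn F J) (hF : Facts D) :
    stJ J (x * g * x⁻¹) = stJ J g := by
  refine Finset.sum_congr rfl fun I hI => ?_
  have hle : D.parabolicIn F I ≤ D.parabolicIn F J := parabolicIn_mono (Finset.mem_powerset.1 hI)
  have hout : ∀ (z : ↥(D.group F)), z ∈ D.parabolicIn F J → ∀ y : ↥(D.group F) ⧸ D.parabolicIn F I,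
      y.out ∈ D.parabolicIn F J → (z • y).out ∈ D.parabolicIn F J := by
    intro z hz y hy
    obtain ⟨p, hp⟩ := QuotientGroup.mk_out_eq_mul (D.parabolicIn F I) (z * y.out)
    rw [← smul_eq_mul, ← MulAction.Quotient.smul_coe, QuotientGroup.out_eq'] at hp
    rw [hp]
    exact mul_mem (mul_mem hz hy) (hle p.2)
  congr 2
  refine Nat.card_congr
    { toFun := fun y => ⟨x⁻¹ • y.1, ?_, hout _ (inv_mem hx) _ y.2.2⟩
      invFun := fun y => ⟨x • y.1, ?_, hout _ hx _ y.2.2⟩
      left_inv := fun y => Subtype.ext (smul_inv_smul x y.1)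
      right_inv := fun y => Subtype.ext (inv_smul_smul x y.1) }
  · have h := y.2.1
    rw [mul_smul, mul_smul, ← eq_inv_smul_iff] at h
    exact h
  · rw [mul_smul, mul_smul, inv_smul_smul, y.2.1]

variable (p : ℕ) [Fact p.Prime] [CharP F p]

/-- Elements of p-power order. -/
def IsUnip (g : ↥(D.group F)) : Prop := ∃ k : ℕ, orderOf g = p ^ k

omit [Fintype F] [CharP F p] in
theorem isUnip_conj (g x : ↥(D.group F)) : IsUnip p (x * g * x⁻¹) ↔ IsUnip p g := by
  have h := orderOf_injective (MulAut.conj x).toMonoidHom (MulAut.conj x).injective g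
  simp only [IsUnip]
  rw [show x * g * x⁻¹ = (MulAut.conj x).toMonoidHom g from rfl, h]

theorem coprime_H : Nat.Coprime p (Nat.card (hF.tsys F).H) := by
  have hp : p.Prime := Fact.out
  rw [hF.tsys_H, hF.diagonalSubgroup_eq]
  refine Nat.Coprime.coprime_dvd_right (Subgroup.card_range_dvd (torus D F)) ?_
  rw [Nat.card_fun, Nat.card_eq_fintype_card (α := Fin D.rank), Fintype.card_fin, Nat.card_units,
    Nat.card_eq_fintype_card]
  refine Nat.Coprime.pow_right _ ((Nat.Prime.coprime_iff_not_dvd hp).2 fun h => ?_)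
  obtain ⟨n, -, hn⟩ := FiniteField.card F p
  have h1 : p ∣ Fintype.card F := hn ▸ dvd_pow_self p n.ne_zero
  have h2 := Fintype.one_lt_card (α := F)
  have h3 := Nat.dvd_sub h1 h
  rw [show Fintype.card F - (Fintype.card F - 1) = 1 by omega] at h3
  exact hp.one_lt.ne' (Nat.dvd_one.1 h3)

theorem isUnip_of_mem_U {g : ↥(D.group F)} (hg : (g : GL D.Idx F) ∈ (hF.tsys F).U) : IsUnip p g := by
  obtain ⟨n, -, hn⟩ := FiniteField.card F p
  have hc : Nat.card (hF.tsys F).U = p ^ (n * (D.nroots / 2)) := by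
    rw [show (hF.tsys F).U = (hF.tsys F).US (Facts.posL D) from rfl, hF.card_US hF.closedList_posL,
      hF.length_posL, Nat.card_eq_fintype_card, hn, ← pow_mul]
  have hd : orderOf g ∣ p ^ (n * (D.nroots / 2)) := by
    rw [← Subgroup.orderOf_coe, ← hc]
    exact (Subgroup.orderOf_coe (⟨_, hg⟩ : (hF.tsys F).U)) ▸ orderOf_dvd_natCard (⟨_, hg⟩ : (hF.tsys F).U)
  obtain ⟨k, -, hk⟩ := (Nat.dvd_prime_pow Fact.out).1 hd
  exact ⟨k, hk⟩

theorem mem_U_of_unip {g : ↥(D.group F)} (hu : IsUnip p g) (hg : (g : GL D.Idx F) ∈ (hF.tsys F).B) :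
    (g : GL D.Idx F) ∈ (hF.tsys F).U := by
  obtain ⟨k, hk⟩ := hu
  obtain ⟨u, hu, a, ha, he⟩ := (hF.tsys F).mem_B.1 hg
  have hpow : ∀ n : ℕ, ∃ u' ∈ (hF.tsys F).U, (u * a) ^ n = u' * a ^ n := by
    intro n
    induction n with
    | zero => exact ⟨1, one_mem _, by simp⟩
    | succ n ih =>
      obtain ⟨u', hu', he'⟩ := ih
      have hc : a ^ n * u * (a ^ n)⁻¹ ∈ (hF.tsys F).U :=
        (hF.tsys F).H_conj_US (pow_mem ha n) TorusSys.posL_lt hu
      refine ⟨u' * (a ^ n * u * (a ^ n)⁻¹), mul_mem hu' hc, ?_⟩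
      rw [pow_succ, he', pow_succ]
      group
  obtain ⟨u', hu', he'⟩ := hpow (p ^ k)
  have h1 : (g : GL D.Idx F) ^ (p ^ k) = 1 := by
    rw [← hk, ← Subgroup.coe_pow, pow_orderOf_eq_one, Subgroup.coe_one]
  rw [he, he'] at h1
  have h2 : a ^ (p ^ k) = 1 := by
    refine hF.U_inter_H ?_ (pow_mem ha _)
    rw [show a ^ (p ^ k) = u'⁻¹ from (eq_inv_of_mul_eq_one_right h1)]
    exact inv_mem hu'
  have h3 : orderOf a ∣ Nat.card (hF.tsys F).H :=
    (Subgroup.orderOf_coe (⟨a, ha⟩ : (hF.tsys F).H)) ▸ orderOf_dvd_natCard (⟨a, ha⟩ : (hF.tsys F).H)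
  have h4 : orderOf a = 1 :=
    Nat.eq_one_of_dvd_coprimes ((coprime_H hF p).pow_left k) (orderOf_dvd_of_pow_eq_one h2) h3
  rw [orderOf_eq_one_iff.1 h4, mul_one] at he
  rw [he]
  exact hu

theorem card_cosets_B (J : Finset ℕ) :
    (Nat.card {q : ↥(D.group F) ⧸ (D.borelSubgroup F).subgroupOf (D.group F) //
      qcell hF q ∈ WJ hF.refSys (nodes D J)} : ZMod p) = 1 := by
  classical
  have := Fintype.ofFinite hF.weyl
  have := Fintype.ofFinite (↥(D.group F) ⧸ (D.borelSubgroup F).subgroupOf (D.group F))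
  rw [Nat.card_eq_fintype_card, Fintype.card_subtype,
    Finset.card_eq_sum_card_fiberwise (f := qcell hF)
      (t := Finset.univ.filter fun w => w ∈ WJ hF.refSys (nodes D J))
      (fun q hq => by simpa using hq), Nat.cast_sum, Finset.sum_eq_single 1]
  · rw [show ((Finset.univ.filter fun q => qcell hF q ∈ WJ hF.refSys (nodes D J)).filter
      fun q => qcell hF q = 1) = Finset.univ.filter (fun q : ↥(D.group F) ⧸
        (D.borelSubgroup F).subgroupOf (D.group F) => qcell hF q = 1) by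
      rw [Finset.filter_filter]
      exact Finset.filter_congr fun q _ => ⟨fun h => h.2, fun h => ⟨h ▸ one_mem _, h⟩⟩,
      ← Fintype.card_subtype, ← Nat.card_eq_fintype_card, card_cell hF, RefSystem.len_one, pow_zero,
      Nat.cast_one]
  · intro w hw hne
    rw [show ((Finset.univ.filter fun q => qcell hF q ∈ WJ hF.refSys (nodes D J)).filter
      fun q => qcell hF q = w) = Finset.univ.filter (fun q : ↥(D.group F) ⧸
        (D.borelSubgroup F).subgroupOf (D.group F) => qcell hF q = w) by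
      rw [Finset.filter_filter]
      exact Finset.filter_congr fun q _ => ⟨fun h => h.2, fun h => ⟨h ▸ (Finset.mem_filter.1 hw).2, h⟩⟩,
      ← Fintype.card_subtype, ← Nat.card_eq_fintype_card, card_cell hF, Nat.cast_pow]
    obtain ⟨n, -, hn⟩ := FiniteField.card F p
    have : (Fintype.card F : ZMod p) = 0 := by
      rw [hn, Nat.cast_pow, ZMod.natCast_self, zero_pow n.ne_zero]
    rw [this, zero_pow fun h => hne (hF.refSys.eq_one_of_len_eq_zero h)]
  · intro h
    simp [one_mem] at h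

/-- A p-element of P_J is conjugate in P_J into U. -/
theorem exists_conj_U (J : Finset ℕ) {g : ↥(D.group F)} (hg : g ∈ D.parabolicIn F J) (hu : IsUnip p g) :
    ∃ x ∈ D.parabolicIn F J, ((x * g * x⁻¹ : ↥(D.group F)) : GL D.Idx F) ∈ (hF.tsys F).U := by
  classical
  obtain ⟨k, hk⟩ := hu
  let X := {q : ↥(D.group F) ⧸ (D.borelSubgroup F).subgroupOf (D.group F) //
    qcell hF q ∈ WJ hF.refSys (nodes D J)}
  have hmem : ∀ z ∈ D.parabolicIn F J, ∀ q : ↥(D.group F) ⧸ (D.borelSubgroup F).subgroupOf (D.group F),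
      qcell hF q ∈ WJ hF.refSys (nodes D J) → qcell hF (z • q) ∈ WJ hF.refSys (nodes D J) := by
    intro z hz q hq
    induction q using QuotientGroup.induction_on with
    | H y =>
      rw [MulAction.Quotient.smul_coe, smul_eq_mul, qcell_mk]
      rw [qcell_mk] at hq
      obtain ⟨v, hv, hc⟩ := (mem_parabolicIn hF J).1 hz
      obtain ⟨v', hv', hc'⟩ := inCell_mul_left hF hv hc (cell_spec hF y)
      rw [cell_eq hF (g := z * y) (by rw [Subgroup.coe_mul]; exact hc')]
      exact mul_mem hv' hq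
  let Z := Subgroup.zpowers g
  letI : MulAction ↥Z X :=
    { smul := fun z q => ⟨(z : ↥(D.group F)) • q.1,
        hmem _ ((Subgroup.zpowers_le.2 hg) z.2) q.1 q.2⟩
      one_smul := fun q => Subtype.ext (one_smul _ q.1)
      mul_smul := fun a b q => Subtype.ext (mul_smul (a : ↥(D.group F)) b q.1) }
  have hZ : IsPGroup p ↥Z := IsPGroup.of_card (n := k) (by rw [Nat.card_zpowers, hk])
  have hnd : ¬ p ∣ Nat.card X := by
    intro h
    have h1 := card_cosets_B hF p J (F := F)
    rw [(CharP.cast_eq_zero_iff (ZMod p) p _).2 h] at h1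
    exact zero_ne_one h1
  obtain ⟨q, hq⟩ := hZ.nonempty_fixed_point_of_prime_not_dvd_card X hnd
  have hfix : g • q.1 = q.1 := congrArg Subtype.val (hq ⟨g, Subgroup.mem_zpowers g⟩)
  obtain ⟨q, hqJ⟩ := q
  induction q using QuotientGroup.induction_on with
  | H y =>
    rw [qcell_mk] at hqJ
    have hy : y ∈ D.parabolicIn F J := (mem_parabolicIn hF J).2 ⟨_, hqJ, cell_spec hF y⟩
    refine ⟨y⁻¹, inv_mem hy, mem_U_of_unip hF p ((isUnip_conj p g y⁻¹).2 ⟨k, hk⟩) ?_⟩
    rw [MulAction.Quotient.smul_coe, smul_eq_mul, QuotientGroup.eq, Subgroup.mem_subgroupOf] at hfix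
    replace hfix := (hF.tsys_B (F := F)).ge hfix
    have h2 := inv_mem hfix
    simp only [Subgroup.coe_mul, Subgroup.coe_inv, _root_.mul_inv_rev, inv_inv] at h2 ⊢
    rwa [← mul_assoc] at h2

theorem longest_conj_B {J : Finset ℕ} {L : hF.weyl} (hL : Longest hF J L) {l : List (List ℤ)}
    (hl : okCoeff D l = true) {x : GL D.Idx F} (hx : x ∈ (hF.tsys F).U) :
    (hF.tsys F).nW L * x * ((hF.tsys F).nW L)⁻¹ ∈ (hF.tsys F).B ↔
      x ∈ (hF.tsys F).US (Facts.radL D (↑J : Set ℕ)) := by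
  classical
  have hfwd : ∀ y ∈ (hF.tsys F).US (Facts.radL D (↑J : Set ℕ)),
      (hF.tsys F).nW L * y * ((hF.tsys F).nW L)⁻¹ ∈ (hF.tsys F).B := by
    intro y hy
    have hle : (hF.tsys F).US (Facts.radL D (↑J : Set ℕ)) ≤
        (hF.tsys F).B.comap (MulAut.conj ((hF.tsys F).nW L)).toMonoidHom := by
      refine CommSys.US_le _ fun r hr t => ?_
      obtain ⟨h1, h2, h3⟩ := (Facts.mem_radL _).1 hr
      obtain ⟨e, -, heq⟩ := hF.nW_conj (F := F) L ⟨r, h2⟩
      show (hF.tsys F).nW L * hF.xg r t * ((hF.tsys F).nW L)⁻¹ ∈ (hF.tsys F).B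
      rw [heq]
      refine (hF.tsys F).U_le_B ((hF.tsys F).x_mem_U ?_ (Fin.isLt _) _)
      have := pos_of_not_sub hF J hL.mem (r := ⟨r, h2⟩) (by simp [Facts.refSys, h1]) h3
      simpa [Facts.refSys] using this
    exact hle hy
  refine ⟨fun h => ?_, hfwd x⟩
  have hrU : (hF.tsys F).US (Facts.radL D (↑J : Set ℕ)) ≤ (hF.tsys F).U :=
    CommSys.US_mono _ fun r hr => Facts.mem_posL.2
      ⟨((Facts.mem_radL _).1 hr).1, ((Facts.mem_radL _).1 hr).2.1⟩
  have hiU : (hF.tsys F).US (TorusSys.invList L) ≤ (hF.tsys F).U :=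
    CommSys.US_mono _ fun r hr => ((invList_longest hF hL r).1 hr).1
  let f : ↥((hF.tsys F).US (Facts.radL D (↑J : Set ℕ))) × ↥((hF.tsys F).US (TorusSys.invList L)) →
      ↥(hF.tsys F).U := fun q => ⟨q.1.1 * q.2.1, mul_mem (hrU q.1.2) (hiU q.2.2)⟩
  have hkey : ∀ c ∈ (hF.tsys F).US (TorusSys.invList L),
      (hF.tsys F).nW L * c * ((hF.tsys F).nW L)⁻¹ ∈ (hF.tsys F).B → c = 1 := by
    intro c hc hcB
    exact conj_eq_one_iff.1 (hF.B_inter_V hcB (hF.US_invList_conj L hc))
  have hinj : Function.Injective f := by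
    rintro ⟨a, c⟩ ⟨a', c'⟩ he
    have he' : a.1 * c.1 = a'.1 * c'.1 := congrArg Subtype.val he
    have h1 : c'.1 * c.1⁻¹ = a'.1⁻¹ * a.1 := by
      rw [mul_inv_eq_iff_eq_mul, mul_assoc, he', inv_mul_cancel_left]
    have h2 := hkey _ (mul_mem c'.2 (inv_mem c.2)) (h1 ▸ hfwd _ (mul_mem (inv_mem a'.2) a.2))
    obtain rfl : c' = c := Subtype.ext (mul_inv_eq_one.1 h2)
    exact Prod.ext (Subtype.ext (mul_right_cancel he')) rfl
  have hcard : Nat.card (↥((hF.tsys F).US (Facts.radL D (↑J : Set ℕ))) ×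
      ↥((hF.tsys F).US (TorusSys.invList L))) = Nat.card ↥(hF.tsys F).U := by
    rw [Nat.card_prod, hF.card_US (closed_radL hl _ hF), hF.card_US (TorusSys.closed_invList L),
      show (hF.tsys F).U = (hF.tsys F).US (Facts.posL D) from rfl, hF.card_US hF.closedList_posL,
      hF.length_posL, ← pow_add, TorusSys.length_invList, add_comm, len_radL hF hL]
  obtain ⟨⟨a, c⟩, hq⟩ := ((Nat.bijective_iff_injective_and_card f).2 ⟨hinj, hcard⟩).2 ⟨x, hx⟩
  have hxe : a.1 * c.1 = x := congrArg Subtype.val hq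
  have hc1 := hkey c.1 c.2 (by
    have := mul_mem (inv_mem (hfwd a.1 a.2)) h
    rwa [← hxe, show ((hF.tsys F).nW L * a.1 * ((hF.tsys F).nW L)⁻¹)⁻¹ *
      ((hF.tsys F).nW L * (a.1 * c.1) * ((hF.tsys F).nW L)⁻¹) =
      (hF.tsys F).nW L * c.1 * ((hF.tsys F).nW L)⁻¹ by group] at this)
  rw [← hxe, hc1, mul_one]
  exact a.2

theorem rad_conj {J : Finset ℕ} {l : List (List ℤ)} (hl : okCoeff D l = true) {z y : ↥(D.group F)}
    (hz : z ∈ D.parabolicIn F J) :
    ((z * y * z⁻¹ : ↥(D.group F)) : GL D.Idx F) ∈ (hF.tsys F).US (Facts.radL D (↑J : Set ℕ)) ↔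
      (y : GL D.Idx F) ∈ (hF.tsys F).US (Facts.radL D (↑J : Set ℕ)) := by
  rw [← hF.unipotentRadical_eq, Subgroup.coe_mul, Subgroup.coe_mul, Subgroup.coe_inv]
  exact (Subgroup.mem_normalizer_iff.1 (hF.parabolic_normalizes hl _ hz) _).symm

open scoped Classical in
theorem stJ_U {J : Finset ℕ} (hJ : J ⊆ Finset.range D.rank) {L : hF.weyl} (hL : Longest hF J L)
    {l : List (List ℤ)} (hl : okCoeff D l = true) {u : ↥(D.group F)}
    (hu : (u : GL D.Idx F) ∈ (hF.tsys F).U) :
    stJ J u = if (u : GL D.Idx F) ∈ (hF.tsys F).US (Facts.radL D (↑J : Set ℕ))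
      then (Fintype.card F : ℤ) ^ hF.refSys.len L else 0 := by
  classical
  let b : ↥((D.borelSubgroup F).subgroupOf (D.group F)) :=
    ⟨u, (hF.tsys_B (F := F)).le ((hF.tsys F).U_le_B hu)⟩
  rw [show u = (b : ↥(D.group F)) from rfl, stJ_B hF hJ hL b]
  change _ = if (u : GL D.Idx F) ∈ _ then _ else _
  have hfix : ∀ q : ↥(D.group F) ⧸ (D.borelSubgroup F).subgroupOf (D.group F), qcell hF q = L →
      ((u • q = q) ↔ (u : GL D.Idx F) ∈ (hF.tsys F).US (Facts.radL D (↑J : Set ℕ))) := by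
    intro q hq
    induction q using QuotientGroup.induction_on with
    | H g =>
      rw [qcell_mk] at hq
      obtain ⟨c, hc, c', hc', he⟩ := cell_spec hF g
      rw [hq] at he
      obtain ⟨v, hv, a, ha, rfl⟩ := (hF.tsys F).mem_B.1 hc
      let z : ↥(D.group F) := ⟨v, B_mem_group hF ((hF.tsys F).U_le_B hv)⟩
      have hz : z ∈ D.parabolicIn F J :=
        Subgroup.mem_sup_left ((hF.tsys_B (F := F)).le ((hF.tsys F).U_le_B hv))
      rw [MulAction.Quotient.smul_coe, smul_eq_mul, QuotientGroup.eq, Subgroup.mem_subgroupOf]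
      obtain ⟨k, hk, hke⟩ := hF.nW_mul (F := F) L L
      rw [show L * L = 1 by nth_rewrite 1 [← hL.inv]; exact inv_mul_cancel L] at hke
      set k' := k * (hF.tsys F).nW 1
      have hkH : k' ∈ (hF.tsys F).H := mul_mem hk (hF.tsys F).nW_one
      set n := (hF.tsys F).nW L with hn
      set a' := n⁻¹ * a * n
      have ha' : a' ∈ (hF.tsys F).H := (hF.tsys F).nW_H' ha
      have hb1 : a' * c' ∈ (hF.tsys F).B := mul_mem ((hF.tsys F).H_le_B ha') hc'
      have hxU : v⁻¹ * (u : GL D.Idx F)⁻¹ * v ∈ (hF.tsys F).U :=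
        mul_mem (mul_mem (inv_mem hv) (inv_mem hu)) hv
      have e : ((( u * g : ↥(D.group F)) : GL D.Idx F))⁻¹ * (g : GL D.Idx F) =
          (a' * c')⁻¹ * (k'⁻¹ * (n * (v⁻¹ * (u : GL D.Idx F)⁻¹ * v) * n⁻¹) * k') * (a' * c') := by
        rw [Subgroup.coe_mul, he, ← hke]
        simp only [a']
        group
      rw [show ((((u * g)⁻¹ * g : ↥(D.group F))) : GL D.Idx F) =
        ((( u * g : ↥(D.group F)) : GL D.Idx F))⁻¹ * (g : GL D.Idx F) from rfl, e]
      have hB : ∀ y : GL D.Idx F, y ∈ D.borelSubgroup F ↔ y ∈ (hF.tsys F).B := fun y => by rw [hF.tsys_B]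
      rw [hB, Subgroup.mul_mem_cancel_right _ hb1, Subgroup.mul_mem_cancel_left _ (inv_mem hb1),
        Subgroup.mul_mem_cancel_right _ ((hF.tsys F).H_le_B hkH),
        Subgroup.mul_mem_cancel_left _ (inv_mem ((hF.tsys F).H_le_B hkH)),
        longest_conj_B hF hL hl hxU]
      have h1 := rad_conj hF hl (y := z⁻¹ * u⁻¹ * z) hz
      rw [show z * (z⁻¹ * u⁻¹ * z) * z⁻¹ = u⁻¹ by group, Subgroup.coe_inv, Subgroup.inv_mem_iff] at h1
      rw [h1]
      rfl
  split_ifs with h
  · have : Nat.card {q : ↥(D.group F) ⧸ (D.borelSubgroup F).subgroupOf (D.group F) //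
        (b : ↥(D.group F)) • q = q ∧ qcell hF q = L} =
        Nat.card {q : ↥(D.group F) ⧸ (D.borelSubgroup F).subgroupOf (D.group F) // qcell hF q = L} :=
      Nat.card_congr (Equiv.subtypeEquivRight fun q => ⟨fun h' => h'.2, fun h' => ⟨(hfix q h').2 h, h'⟩⟩)
    rw [this, card_cell hF, Nat.cast_pow]
  · rw [Nat.cast_eq_zero, Nat.card_eq_zero]
    exact Or.inl ⟨fun q => h ((hfix q.1 q.2.2).1 q.2.1)⟩

/-- The p-elements of P_J. -/
noncomputable def unipCount (J : Finset ℕ) : ℕ :=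
  Nat.card {g : ↥(D.group F) // g ∈ D.parabolicIn F J ∧ IsUnip p g}

/-- The number of cosets of P_I in P_J. -/
noncomputable def cosetCount (J I : Finset ℕ) : ℕ :=
  Nat.card {y : ↥(D.group F) ⧸ D.parabolicIn F I // y.out ∈ D.parabolicIn F J}

theorem sum_stJ {J : Finset ℕ} (hJ : J ⊆ Finset.range D.rank) {l : List (List ℤ)}
    (hl : okCoeff D l = true) (hF : Facts D) :
    ∑ I ∈ J.powerset, (-1 : ℤ) ^ I.card * ((cosetCount (D := D) (F := F) J I : ℤ) * unipCount (D := D) (F := F) p I) =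
      (Fintype.card F : ℤ) ^ (D.nroots / 2) := by
  classical
  obtain ⟨L, hL⟩ := exists_longestJ hF J
  have := Fintype.ofFinite ↥(D.group F)
  let S := Finset.univ.filter fun g : ↥(D.group F) => g ∈ D.parabolicIn F J ∧ IsUnip p g
  have hrad : ∀ g : ↥(D.group F), (g : GL D.Idx F) ∈ (hF.tsys F).US (Facts.radL D (↑J : Set ℕ)) →
      (g : GL D.Idx F) ∈ (hF.tsys F).U := fun g hg =>
    CommSys.US_mono _ (fun r hr => Facts.mem_posL.2
      ⟨((Facts.mem_radL _).1 hr).1, ((Facts.mem_radL _).1 hr).2.1⟩) hg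
  have hR : ∑ g ∈ S, stJ J g = (Fintype.card F : ℤ) ^ (D.nroots / 2) := by
    have hv : ∀ g ∈ S, stJ J g = if (g : GL D.Idx F) ∈ (hF.tsys F).US (Facts.radL D (↑J : Set ℕ))
        then (Fintype.card F : ℤ) ^ hF.refSys.len L else 0 := by
      intro g hg
      obtain ⟨hgJ, hu⟩ := (Finset.mem_filter.1 hg).2
      obtain ⟨x, hx, hxU⟩ := exists_conj_U hF p J hgJ hu
      rw [← stJ_conj J hx hF, stJ_U hF hJ hL hl hxU]
      exact if_congr (rad_conj hF hl hx) rfl rfl
    rw [Finset.sum_congr rfl hv, ← Finset.sum_filter, Finset.sum_const, nsmul_eq_mul]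
    have hset : (S.filter fun g : ↥(D.group F) =>
        (g : GL D.Idx F) ∈ (hF.tsys F).US (Facts.radL D (↑J : Set ℕ))) =
        Finset.univ.filter fun g : ↥(D.group F) =>
          (g : GL D.Idx F) ∈ (hF.tsys F).US (Facts.radL D (↑J : Set ℕ)) := by
      rw [Finset.filter_filter]
      exact Finset.filter_congr fun g _ => ⟨fun h => h.2, fun h =>
        ⟨⟨Subgroup.mem_sup_left ((hF.tsys_B (F := F)).le ((hF.tsys F).U_le_B (hrad g h))),
          isUnip_of_mem_U hF p (hrad g h)⟩, h⟩⟩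
    rw [hset, ← Fintype.card_subtype, ← Nat.card_eq_fintype_card,
      Nat.card_congr (show {g : ↥(D.group F) // (g : GL D.Idx F) ∈ (hF.tsys F).US (Facts.radL D (↑J : Set ℕ))} ≃
          ↥((hF.tsys F).US (Facts.radL D (↑J : Set ℕ))) from
        { toFun := fun g => ⟨(g.1 : GL D.Idx F), g.2⟩
          invFun := fun g => ⟨⟨g.1, hF.borel_le_group ((hF.tsys_B (F := F)).le ((hF.tsys F).U_le_B
            (CommSys.US_mono _ (fun r hr => Facts.mem_posL.2
              ⟨((Facts.mem_radL _).1 hr).1, ((Facts.mem_radL _).1 hr).2.1⟩) g.2)))⟩, g.2⟩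
          left_inv := fun g => rfl
          right_inv := fun g => rfl }),
      hF.card_US (closed_radL hl _ hF), Nat.card_eq_fintype_card, Nat.cast_pow, ← pow_add, add_comm,
      len_radL hF hL]
  rw [← hR]
  simp only [stJ]
  rw [Finset.sum_comm]
  refine Finset.sum_congr rfl fun I hI => ?_
  rw [← Finset.mul_sum, ← Nat.cast_mul, ← Nat.cast_sum]
  congr 2
  have := Fintype.ofFinite (↥(D.group F) ⧸ D.parabolicIn F I)
  simp only [cosetCount, Nat.card_eq_fintype_card, Fintype.card_subtype, Finset.card_filter]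
  rw [Finset.sum_comm, Finset.sum_mul]
  refine Finset.sum_congr rfl fun y _ => ?_
  by_cases hy : y.out ∈ D.parabolicIn F J
  · rw [if_pos hy, one_mul, ← Finset.card_filter]
    have hfix : ∀ g : ↥(D.group F), g • y = y ↔ y.out⁻¹ * g * y.out ∈ D.parabolicIn F I := by
      intro g
      conv_lhs => rw [← QuotientGroup.out_eq' y, MulAction.Quotient.smul_coe, smul_eq_mul]
      rw [eq_comm, QuotientGroup.eq, mul_assoc]
    rw [unipCount, Nat.card_eq_fintype_card, Fintype.card_subtype]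
    refine Finset.card_bij' (fun g _ => y.out * g * y.out⁻¹) (fun g _ => y.out⁻¹ * g * y.out)
      ?_ ?_ (fun g _ => by group) (fun g _ => by group)
    · intro g hg
      obtain ⟨h1, h2⟩ := (Finset.mem_filter.1 hg).2
      have hle := parabolicIn_mono (D := D) (F := F) (Finset.mem_powerset.1 hI)
      refine Finset.mem_filter.2 ⟨Finset.mem_filter.2 ⟨Finset.mem_univ _,
        mul_mem (mul_mem hy (hle h1)) (inv_mem hy), (isUnip_conj p g y.out).2 h2⟩, (hfix _).2 ?_, hy⟩
      rwa [show y.out⁻¹ * (y.out * g * y.out⁻¹) * y.out = g by group]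
    · intro g hg
      obtain ⟨h1, h2, -⟩ := Finset.mem_filter.1 hg
      obtain ⟨-, -, h3⟩ := Finset.mem_filter.1 h1
      refine Finset.mem_filter.2 ⟨Finset.mem_univ _, (hfix g).1 h2, ?_⟩
      have := (isUnip_conj p g y.out⁻¹).2 h3
      rwa [inv_inv] at this
  · rw [if_neg hy, zero_mul, Finset.sum_eq_zero]
    intro g _
    rw [if_neg fun h => hy h.2]

theorem cosetCount_eq {J I : Finset ℕ} (hIJ : I ⊆ J) [Fintype hF.weyl]
    [DecidablePred fun w : hF.weyl => w ∈ WJ hF.refSys (nodes D J) ∧ IsMin hF.refSys (nodes D I) w] :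
    cosetCount (D := D) (F := F) J I =
      ∑ w ∈ Finset.univ.filter (fun w : hF.weyl => w ∈ WJ hF.refSys (nodes D J) ∧ IsMin hF.refSys (nodes D I) w),
        Fintype.card F ^ hF.refSys.len w := by
  classical
  have := Fintype.ofFinite (↥(D.group F) ⧸ (D.borelSubgroup F).subgroupOf (D.group F))
  have h := fixed_cosets_J hF J I hIJ (1 : ↥((D.borelSubgroup F).subgroupOf (D.group F))) (F := F)
  simp only [Subgroup.coe_one, one_smul, true_and] at h
  rw [cosetCount, h, Nat.card_eq_fintype_card, Fintype.card_subtype,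
    Finset.card_eq_sum_card_fiberwise (f := qcell hF)
      (t := Finset.univ.filter fun w => w ∈ WJ hF.refSys (nodes D J) ∧ IsMin hF.refSys (nodes D I) w)
      (fun q hq => by simpa using hq)]
  refine Finset.sum_congr rfl fun w hw => ?_
  rw [← card_cell hF (F := F) w, Nat.card_eq_fintype_card, Fintype.card_subtype, Finset.filter_filter]
  congr 1
  exact Finset.filter_congr fun q _ => ⟨fun h => h.2, fun h => ⟨h ▸ (Finset.mem_filter.1 hw).2, h⟩⟩

theorem WJ_mono {I J : Finset ℕ} (h : I ⊆ J) :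
    WJ hF.refSys (nodes D I) ≤ WJ hF.refSys (nodes D J) :=
  Subgroup.closure_mono (Set.image_mono (show nodes D I ⊆ nodes D J from fun _ hi => h hi))

/-- The alternating identity of the coset counts. -/
theorem alt_cosets {J : Finset ℕ} (hJ : J ⊆ Finset.range D.rank) (nI : Finset ℕ → ℕ)
    (hnI : ∀ I ⊆ J, ∀ L, Longest hF I L → nI I = hF.refSys.len L) :
    ∑ I ∈ J.powerset, (-1 : ℤ) ^ I.card * ((cosetCount (D := D) (F := F) J I : ℤ) *
      (Fintype.card F : ℤ) ^ nI I) = 1 := by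
  classical
  have := Fintype.ofFinite hF.weyl
  have key : ∀ I ∈ J.powerset, (cosetCount (D := D) (F := F) J I : ℤ) * (Fintype.card F : ℤ) ^ nI I =
      ∑ y : hF.weyl, if (∀ i : Fin D.rank, i.val ∈ I → y • hF.refSys.α i ∉ hF.refSys.P) then
        (if y ∈ WJ hF.refSys (nodes D J) then (Fintype.card F : ℤ) ^ hF.refSys.len y else 0) else 0 := by
    intro I hI
    rw [Finset.mem_powerset] at hI
    obtain ⟨L, hL⟩ := exists_longestJ hF I
    rw [cosetCount_eq hF hI, hnI I hI L hL, Nat.cast_sum, Finset.sum_mul,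
      ← Finset.sum_filter, ← Finset.sum_filter, Finset.filter_filter]
    refine Finset.sum_bij' (fun x _ => x * L) (fun y _ => y * L⁻¹) ?_ ?_
      (fun x _ => by group) (fun y _ => by group) ?_
    · intro x hx
      obtain ⟨-, hxJ, hxI⟩ := Finset.mem_filter.1 hx
      refine Finset.mem_filter.2 ⟨Finset.mem_univ _, fun i hi hp => ?_,
        mul_mem hxJ (WJ_mono hF hI hL.mem)⟩
      have h1 := hF.refSys.len_mul_s_of_mem hp
      have h3 := hF.refSys.len_mul_s_of_not_mem (hL.desc i hi)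
      rw [mul_assoc, len_add hF.refSys hxI (mul_mem hL.mem (s_mem _ (show i ∈ nodes D I from hi))),
        len_add hF.refSys hxI hL.mem] at h1
      omega
    · intro y hy
      obtain ⟨-, hyI, hyJ⟩ := Finset.mem_filter.1 hy
      obtain ⟨x, hx, hv⟩ := exists_min hF.refSys (nodes D I) y
      have hvL : x⁻¹ * y = L := by
        refine hL.uniq _ hv fun i hi hp => ?_
        have h2 := hF.refSys.len_mul_s_of_mem hp
        have h3 := hF.refSys.len_mul_s_of_not_mem (hyI i hi)
        have h4 := len_add hF.refSys hx (mul_mem hv (s_mem _ hi))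
        have h5 := len_add hF.refSys hx hv
        rw [mul_inv_cancel_left] at h5
        rw [← mul_assoc, mul_inv_cancel_left] at h4
        omega
      have e : y * L⁻¹ = x := by rw [← hvL]; group
      rw [e]
      refine Finset.mem_filter.2 ⟨Finset.mem_univ _, ?_, hx⟩
      have := mul_mem hyJ (inv_mem (WJ_mono hF hI hL.mem))
      rwa [e] at this
    · intro x hx
      rw [len_add hF.refSys (Finset.mem_filter.1 hx).2.2 hL.mem, Nat.cast_pow, pow_add]
  rw [Finset.sum_congr rfl fun I hI => by rw [key I hI, Finset.mul_sum], Finset.sum_comm,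
    Finset.sum_eq_single (1 : hF.weyl)]
  · rw [if_pos (one_mem _), RefSystem.len_one, pow_zero]
    refine (alt_sum_sub J hJ (fun i : Fin D.rank =>
      (1 : hF.weyl) • hF.refSys.α i ∉ hF.refSys.P)).trans (if_pos fun i _ => ?_)
    rw [one_smul, not_not]
    exact hF.refSys.α_mem i
  · intro y _ hy
    by_cases hyJ : y ∈ WJ hF.refSys (nodes D J)
    · have h := congrArg (· * (Fintype.card F : ℤ) ^ hF.refSys.len y)
        (alt_sum_sub J hJ (fun i : Fin D.rank => y • hF.refSys.α i ∉ hF.refSys.P))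
      simp only [Finset.sum_mul] at h
      refine Eq.trans (Finset.sum_congr rfl fun I _ => ?_) (h.trans ?_)
      · rw [if_pos hyJ, mul_assoc]
        split_ifs <;> simp
      · rw [if_neg fun h' => hy (eq_one_of_asc hF hyJ fun i hi => not_not.1 (h' i hi)), zero_mul]
    · simp [hyJ]
  · intro h; exact absurd (Finset.mem_univ _) h

theorem cosetCount_self (J : Finset ℕ) (hF : Facts D) :
    cosetCount (D := D) (F := F) J J = 1 := by
  rw [cosetCount, Nat.card_eq_one_iff_unique]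
  constructor
  · constructor
    rintro ⟨a, ha⟩ ⟨b, hb⟩
    refine Subtype.ext ?_
    show a = b
    rw [← QuotientGroup.out_eq' a, ← QuotientGroup.out_eq' b, QuotientGroup.eq]
    exact mul_mem (inv_mem ha) hb
  · obtain ⟨p, hp⟩ := QuotientGroup.mk_out_eq_mul (D.parabolicIn F J) (1 : ↥(D.group F))
    exact ⟨⟨((1 : ↥(D.group F)) : _ ⧸ _), by rw [hp, one_mul]; exact p.2⟩⟩

theorem unipCount_eq {l : List (List ℤ)} (hl : okCoeff D l = true) (hF : Facts D) (J : Finset ℕ) :
    J ⊆ Finset.range D.rank → ∀ L, Longest hF J L →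
      unipCount (D := D) (F := F) p J = Fintype.card F ^ (D.nroots / 2 + hF.refSys.len L) := by
  classical
  induction J using Finset.strongInduction with
  | _ J ih =>
    intro hJ L hL
    choose LI hLI using fun I : Finset ℕ => exists_longestJ hF I
    have hlen : ∀ I L', Longest hF I L' → hF.refSys.len (LI I) = hF.refSys.len L' := fun I L' h => by
      rw [(hLI I).uniq L' h.mem h.desc]
    have h1 := sum_stJ p hJ hl hF (F := F)
    have h2 := alt_cosets hF hJ (F := F) (fun I => hF.refSys.len (LI I)) (fun I _ L' h => hlen I L' h)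
    have h3 : ∑ I ∈ J.powerset, (-1 : ℤ) ^ I.card * ((cosetCount (D := D) (F := F) J I : ℤ) *
        ((unipCount (D := D) (F := F) p I : ℤ) -
          (Fintype.card F : ℤ) ^ (D.nroots / 2 + hF.refSys.len (LI I)))) = 0 := by
      calc _ = (∑ I ∈ J.powerset, (-1 : ℤ) ^ I.card * ((cosetCount (D := D) (F := F) J I : ℤ) *
            unipCount (D := D) (F := F) p I)) - (Fintype.card F : ℤ) ^ (D.nroots / 2) *
            ∑ I ∈ J.powerset, (-1 : ℤ) ^ I.card * ((cosetCount (D := D) (F := F) J I : ℤ) *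
              (Fintype.card F : ℤ) ^ hF.refSys.len (LI I)) := by
              rw [Finset.mul_sum, ← Finset.sum_sub_distrib]
              refine Finset.sum_congr rfl fun I _ => ?_
              rw [pow_add]; ring
        _ = 0 := by rw [h1, h2, mul_one, sub_self]
    rw [Finset.sum_eq_single_of_mem J (Finset.mem_powerset_self J) fun I hI hne => ?_,
      cosetCount_self J hF] at h3
    · rw [← hlen J L hL]
      rcases mul_eq_zero.1 h3 with h | h
      · exact absurd h (pow_ne_zero _ (by norm_num))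
      · rw [Nat.cast_one, one_mul, sub_eq_zero] at h
        exact_mod_cast h
    · rw [Finset.mem_powerset] at hI
      rw [ih I (lt_of_le_of_ne hI hne) (hI.trans hJ) (LI I) (hLI I), Nat.cast_pow, sub_self, mul_zero, mul_zero]

/-- Steinberg's count of unipotent elements. -/
theorem card_unip {l : List (List ℤ)} (hl : okCoeff D l = true) (hF : Facts D) :
    Nat.card {g : ↥(D.group F) // ∃ k : ℕ, orderOf g = p ^ k} =
      Fintype.card F ^ (2 * (D.nroots / 2)) := by
  classical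
  obtain ⟨L, hL⟩ := exists_longestJ hF (Finset.range D.rank)
  have htop : WJ hF.refSys (nodes D (Finset.range D.rank)) = ⊤ := by
    rw [WJ, show nodes D (Finset.range D.rank) = Set.univ from
      Set.eq_univ_iff_forall.2 fun i => Finset.mem_range.2 i.isLt, Set.image_univ]
    exact hF.refSys.gen
  have hP : ∀ g : ↥(D.group F), g ∈ D.parabolicIn F (Finset.range D.rank) := fun g =>
    (mem_parabolicIn hF _).2 ⟨cell hF g, htop ▸ Subgroup.mem_top _, cell_spec hF g⟩
  have hrad : Facts.radL D (↑(Finset.range D.rank) : Set ℕ) = [] := by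
    rw [List.eq_nil_iff_forall_not_mem]
    intro r hr
    obtain ⟨-, h2, h3⟩ := (Facts.mem_radL _).1 hr
    exact h3 ⟨h2, fun i hi hn => absurd (Finset.mem_coe.2 (Finset.mem_range.2 hi)) hn⟩
  have h := len_radL hF hL
  rw [hrad, List.length_nil, add_zero] at h
  have h4 := unipCount_eq p hl hF (F := F) (Finset.range D.rank) subset_rfl L hL
  rw [h, ← two_mul] at h4
  rw [← h4]
  exact Nat.card_congr (Equiv.subtypeEquivRight fun g => ⟨fun hg => ⟨hP g, hg⟩, fun hg => hg.2⟩)

end Cfsg.Agent.Small.StChar
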