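import Cfsg.Agent.Lib.Small.GTwoThompsonLevi

/-!
The big cell of the point stabiliser in the group of type G2 and the Schur complement which gives its Levi
component.
-/

set_option autoImplicit false
set_option maxRecDepth 100000
set_option linter.unusedSimpArgs false

open Matrix
open scoped MatrixGroups

namespace Cfsg.Agent.Small.GTwoThompson

open Cfsg.Lie Cfsg.Agent.Lie Cfsg.Agent.Lie.G2Orders Cfsg.Agent.Small.SpFourThompson

variable {F : Type*} [Field F]

local notation "M₂" => Matrix (Fin 2) (Fin 2) F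

/-- The symmetric form. -/
def jm (F : Type*) [Field F] : Matrix (Fin 7) (Fin 7) F :=
  !![0, 0, 0, 0, 0, 0, 1; 0, 0, 0, 0, 0, -1, 0; 0, 0, 0, 0, 1, 0, 0;
    0, 0, 0, -2, 0, 0, 0; 0, 0, 1, 0, 0, 0, 0; 0, -1, 0, 0, 0, 0, 0; 1, 0, 0, 0, 0, 0, 0]

/-- The first slice of the alternating form. -/
def m0m (F : Type*) [Field F] : Matrix (Fin 7) (Fin 7) F :=
  !![0, 0, 0, 0, 0, 0, 0; 0, 0, 0, 0, 0, 0, 0; 0, 0, 0, 0, 0, 0, 0;
    0, 0, 0, 0, 0, 0, -1; 0, 0, 0, 0, 0, 1, 0; 0, 0, 0, 0, -1, 0, 0; 0, 0, 0, 1, 0, 0, 0]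

/-- The last slice of the alternating form. -/
def m6m (F : Type*) [Field F] : Matrix (Fin 7) (Fin 7) F :=
  !![0, 0, 0, -1, 0, 0, 0; 0, 0, 1, 0, 0, 0, 0; 0, -1, 0, 0, 0, 0, 0;
    1, 0, 0, 0, 0, 0, 0; 0, 0, 0, 0, 0, 0, 0; 0, 0, 0, 0, 0, 0, 0; 0, 0, 0, 0, 0, 0, 0]

theorem pres_mx (g : GG F) : G2Seven.Pres (mx g) := by
  induction g using GG_induction with
  | one => rw [mx_one]; exact G2Seven.pres_one
  | mul a b ha hb => rw [mx_mul]; exact G2Seven.pres_mul ha hb
  | gen r t => rw [mx, psi_xx]; exact G2Seven.pres_mat r t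

theorem J_eq : G2Seven.J F = jm F := by
  ext i j
  fin_cases i <;> fin_cases j <;> simp [jm, G2Seven.J, G2Seven.jL, evL_cons, evL_nil, Tm.ev, matUnit_apply]

theorem M0_eq : G2Seven.M F 0 = m0m F := by
  ext i j
  fin_cases i <;> fin_cases j <;> simp [m0m, G2Seven.M, G2Seven.phiL, evL_cons, evL_nil, Tm.ev, matUnit_apply]

theorem M6_eq : G2Seven.M F 6 = m6m F := by
  ext i j
  fin_cases i <;> fin_cases j <;> simp [m6m, G2Seven.M, G2Seven.phiL, evL_cons, evL_nil, Tm.ev, matUnit_apply]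

theorem mulVec_single_apply (M : Matrix (Fin 7) (Fin 7) F) (i j : Fin 7) :
    (M *ᵥ Pi.single j 1) i = M i j := by simp

set_option maxHeartbeats 1600000 in
/-- An element fixing two opposite points lies in the Levi subgroup. -/
theorem levi_form (g : GG F) (h0 : ∀ i, i ≠ 0 → mx g i 0 = 0) (h6 : ∀ i, i ≠ 6 → mx g i 6 = 0) :
    ∃ A : M₂, IsUnit A.det ∧ mx g = lvMat A := by
  obtain ⟨hJ, hM⟩ := pres_mx g
  set p := mx g
  rw [J_eq] at hJ
  have eJ : ∀ i j, (pᵀ * jm F * p) i j = jm F i j := fun i j => by rw [hJ]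
  have c10 := h0 1 (by decide)
  have c20 := h0 2 (by decide)
  have c30 := h0 3 (by decide)
  have c40 := h0 4 (by decide)
  have c50 := h0 5 (by decide)
  have c60 := h0 6 (by decide)
  have c06 := h6 0 (by decide)
  have c16 := h6 1 (by decide)
  have c26 := h6 2 (by decide)
  have c36 := h6 3 (by decide)
  have c46 := h6 4 (by decide)
  have c56 := h6 5 (by decide)
  have hm0 := hM 0
  have hm6 := hM 6
  rw [Finset.sum_eq_single (0 : Fin 7) (fun i _ hi => by rw [h0 i hi, zero_smul]) (by simp), M0_eq]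
    at hm0
  rw [Finset.sum_eq_single (6 : Fin 7) (fun i _ hi => by rw [h6 i hi, zero_smul]) (by simp), M6_eq]
    at hm6
  simp only [Matrix.mul_apply, Fin.sum_univ_seven, Matrix.transpose_apply] at eJ
  have hab := eJ 0 6
  simp [jm, m0m, m6m, c10, c20, c30, c40, c50, c60, c06, c16, c26, c36, c46, c56] at hab
  have a0 : p 0 0 ≠ 0 := left_ne_zero_of_mul_eq_one hab
  have b0 : p 6 6 ≠ 0 := right_ne_zero_of_mul_eq_one hab
  have z0 : ∀ j, j ≠ 0 → j ≠ 6 → p 0 j = 0 ∧ p 6 j = 0 := by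
    intro j h1 h2
    constructor
    · have := eJ 6 j
      fin_cases j <;> simp [jm, m0m, m6m, c10, c20, c30, c40, c50, c60, c06, c16, c26, c36, c46, c56, b0] at this h1 h2 ⊢ <;>
        assumption
    · have := eJ 0 j
      fin_cases j <;> simp [jm, m0m, m6m, c10, c20, c30, c40, c50, c60, c06, c16, c26, c36, c46, c56, a0] at this h1 h2 ⊢ <;>
        assumption
  obtain ⟨z01, z61⟩ := z0 1 (by decide) (by decide)
  obtain ⟨z02, z62⟩ := z0 2 (by decide) (by decide)
  obtain ⟨z03, z63⟩ := z0 3 (by decide) (by decide)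
  obtain ⟨z04, z64⟩ := z0 4 (by decide) (by decide)
  obtain ⟨z05, z65⟩ := z0 5 (by decide) (by decide)
  have E0 : ∀ j k, (pᵀ * (p 0 0 • m0m F) * p) j k = m0m F j k :=
    fun j k => congrFun (congrFun hm0 j) k
  have E6 : ∀ j k, (pᵀ * (p 6 6 • m6m F) * p) j k = m6m F j k :=
    fun j k => congrFun (congrFun hm6 j) k
  simp only [Matrix.mul_apply, Fin.sum_univ_seven, Matrix.transpose_apply, Matrix.smul_apply] at E0 E6
  -- the block on four and five
  have f45 := E0 4 5
  simp [jm, m0m, m6m, z61, z62, z63, z64, z65] at f45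
  have f14 := E0 1 4
  have f15 := E0 1 5
  have f24 := E0 2 4
  have f25 := E0 2 5
  have f34 := E0 3 4
  have f35 := E0 3 5
  simp [jm, m0m, m6m, z61, z62, z63, z64, z65] at f14 f15 f24 f25 f34 f35
  have hD : p 4 4 * p 5 5 - p 4 5 * p 5 4 = (p 0 0)⁻¹ := by
    field_simp
    linear_combination f45
  have hDne : p 4 4 * p 5 5 - p 4 5 * p 5 4 ≠ 0 := by rw [hD]; exact inv_ne_zero a0
  have k45 : ∀ x y : F, p 0 0 * (x * p 5 4 - y * p 4 4) = 0 → p 0 0 * (x * p 5 5 - y * p 4 5) = 0 →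
      x = 0 ∧ y = 0 := by
    intro x y e1 e2
    replace e1 := (mul_eq_zero.1 e1).resolve_left a0
    replace e2 := (mul_eq_zero.1 e2).resolve_left a0
    constructor
    · exact (mul_eq_zero.1 (by linear_combination p 4 4 * e2 - p 4 5 * e1 :
        x * (p 4 4 * p 5 5 - p 4 5 * p 5 4) = 0)).resolve_right hDne
    · exact (mul_eq_zero.1 (by linear_combination p 5 4 * e2 - p 5 5 * e1 :
        y * (p 4 4 * p 5 5 - p 4 5 * p 5 4) = 0)).resolve_right hDne
  obtain ⟨z41, z51⟩ := k45 (p 4 1) (p 5 1) (by linear_combination f14) (by linear_combination f15)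
  obtain ⟨z42, z52⟩ := k45 (p 4 2) (p 5 2) (by linear_combination f24) (by linear_combination f25)
  obtain ⟨z43, z53⟩ := k45 (p 4 3) (p 5 3) (by linear_combination f34) (by linear_combination f35)
  -- the block on one and two
  have g12 := E6 1 2
  simp [jm, m0m, m6m, z01, z02, z03, z04, z05] at g12
  have g13 := E6 1 3
  have g14 := E6 1 4
  have g15 := E6 1 5
  have g23 := E6 2 3
  have g24 := E6 2 4
  have g25 := E6 2 5
  simp [jm, m0m, m6m, z01, z02, z03, z04, z05] at g13 g14 g15 g23 g24 g25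
  have hD' : p 1 1 * p 2 2 - p 1 2 * p 2 1 = (p 6 6)⁻¹ := by
    field_simp
    linear_combination g12
  have hDne' : p 1 1 * p 2 2 - p 1 2 * p 2 1 ≠ 0 := by rw [hD']; exact inv_ne_zero b0
  have k12 : ∀ x y : F, p 6 6 * (p 1 1 * y - p 2 1 * x) = 0 → p 6 6 * (p 1 2 * y - p 2 2 * x) = 0 →
      x = 0 ∧ y = 0 := by
    intro x y e1 e2
    replace e1 := (mul_eq_zero.1 e1).resolve_left b0
    replace e2 := (mul_eq_zero.1 e2).resolve_left b0
    constructor
    · exact (mul_eq_zero.1 (by linear_combination p 1 2 * e1 - p 1 1 * e2 :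
        x * (p 1 1 * p 2 2 - p 1 2 * p 2 1) = 0)).resolve_right hDne'
    · exact (mul_eq_zero.1 (by linear_combination p 2 2 * e1 - p 2 1 * e2 :
        y * (p 1 1 * p 2 2 - p 1 2 * p 2 1) = 0)).resolve_right hDne'
  obtain ⟨z13, z23⟩ := k12 (p 1 3) (p 2 3) (by linear_combination g13) (by linear_combination g23)
  obtain ⟨z14, z24⟩ := k12 (p 1 4) (p 2 4) (by linear_combination g14) (by linear_combination g24)
  obtain ⟨z15, z25⟩ := k12 (p 1 5) (p 2 5) (by linear_combination g15) (by linear_combination g25)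
  have hq : ∀ j, Q (p *ᵥ Pi.single j 1) = Q (Pi.single j (1 : F)) := fun j => Q_psi g _
  have q1 := hq 1
  have q2 := hq 2
  have q4 := hq 4
  have q5 := hq 5
  simp [Q, mulVec_single_apply, z01, z02, z04, z05, z61, z62, z64, z65, z41, z42, z51, z52, z14, z15,
    z24, z25] at q1 q2 q4 q5
  -- the middle
  have f36 := E0 3 6
  simp [jm, m0m, m6m, c06, c16, c26, c36, c46, c56, z63, z43, z53] at f36
  have p33 : p 3 3 = 1 := by linear_combination f36 - p 3 3 * hab
  -- the pairing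
  have j14 := eJ 1 4
  have j15 := eJ 1 5
  have j24 := eJ 2 4
  have j25 := eJ 2 5
  simp [jm, m0m, m6m, z01, z02, z04, z05, z61, z62, z64, z65, z41, z42, z51, z52, z14, z15, z24, z25, q1, q2, q4, q5]
    at j14 j15 j24 j25
  set D := p 4 4 * p 5 5 - p 4 5 * p 5 4 with hDdef
  have p11 : p 1 1 = p 4 4 / D := by
    field_simp
    linear_combination p 4 5 * j14 - p 4 4 * j15
  have p21 : p 2 1 = p 5 4 / D := by
    field_simp
    linear_combination p 5 5 * j14 - p 5 4 * j15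
  have p12 : p 1 2 = p 4 5 / D := by
    field_simp
    linear_combination p 4 5 * j24 - p 4 4 * j25
  have p22 : p 2 2 = p 5 5 / D := by
    field_simp
    linear_combination p 5 5 * j24 - p 5 4 * j25
  refine ⟨!![p 4 4, p 4 5; p 5 4, p 5 5], by simpa [det_fin_two] using hDne, ?_⟩
  have hdet : (!![p 4 4, p 4 5; p 5 4, p 5 5] : M₂).det = D := by simp [det_fin_two, hDdef]
  have p66 : p 6 6 = D := by
    rw [hD]
    exact eq_inv_of_mul_eq_one_right hab
  have p00 : p 0 0 = D⁻¹ := by rw [hD, inv_inv]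
  ext i j
  fin_cases i <;> fin_cases j <;>
    simp [lvMat, hdet, c10, c20, c30, c40, c50, c60, c06, c16, c26, c36, c46, c56, z01, z02, z03, z04,
      z05, z61, z62, z63, z64, z65, z41, z42, z43, z51, z52, z53, z13, z14, z15, z23, z24, z25, q1, q2,
      q4, q5, p33, p11, p12, p21, p22, p66, p00]

/-! ### General elements of the two radicals -/

/-- The upper element with given parameters. -/
noncomputable def yu (a b c e f : F) : GG F :=
  xx 11 f * (xx 10 e * (xx 9 c * (xx 8 b * xx 7 a)))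

/-- The lower element with given parameters. -/
noncomputable def yl (a b c e f : F) : GG F :=
  xx 0 f * (xx 1 e * (xx 2 c * (xx 3 b * xx 4 a)))

set_option maxHeartbeats 1600000 in
theorem mx_yu (a b c e f : F) : mx (yu a b c e f) =
    !![1, a, -b, -(2 * a * b) - 2 * c, -(a * a * b) - 2 * a * c + e, 2 * b * c - f, tF a b c e f;
      0, 1, 0, 2 * b, 2 * a * b + c, -(b * b), -(a * b * b) + b * c - f;
      0, 0, 1, 2 * a, a * a, c, a * c - e;
      0, 0, 0, 1, a, -b, -(a * b) - c;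
      0, 0, 0, 0, 1, 0, b;
      0, 0, 0, 0, 0, 1, a;
      0, 0, 0, 0, 0, 0, 1] := by
  simp only [yu, mx_mul, mx, psi_xx]
  ext i j
  fin_cases i <;> fin_cases j <;>
    simp [m7, g2Rep, g2Ent, Tm.ev, Matrix.mul_apply, Fin.sum_univ_seven, matUnit_apply,
      Matrix.one_apply, tF] <;> ring

set_option maxHeartbeats 1600000 in
theorem mx_yl_col (a b c e f : F) : ∀ i, mx (yl a b c e f) i 0 =
    ![1, a, -b, a * b - c, a * c + e, -(a * b * b) - b * c - f,
      -(2 * a * b * c) - a * f + b * e + c * c] i := by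
  intro i
  simp only [yl, mx_mul, mx, psi_xx]
  fin_cases i <;>
    simp [m7, g2Rep, g2Ent, Tm.ev, Matrix.mul_apply, Fin.sum_univ_seven, matUnit_apply,
      Matrix.one_apply] <;> ring

theorem xx_mem_rad {φ : Fin 7 → ℤ} {r : ℕ}
    (hr : ∀ m ∈ g2Rep.ent r, ∀ p q : Fin 7, m.row = p.val → m.col = q.val → φ q < φ p) (t : F) :
    xx r t ∈ rad φ := by
  have key : ∀ (s : F) (L : List Tm),
      (∀ m ∈ L, ∀ p q : Fin 7, m.row = p.val → m.col = q.val → φ q < φ p) →
      ∀ p q, evL (Equiv.refl (Fin 7)) s s L p q ≠ 0 → φ q < φ p := by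
    intro s L
    induction L with
    | nil => simp
    | cons m L ih =>
      intro hm p q hne
      rw [evL_cons, Matrix.add_apply] at hne
      by_cases h1 : evL (Equiv.refl (Fin 7)) s s L p q = 0
      · rw [h1, add_zero, Tm.ev, Matrix.smul_apply, matUnit_apply] at hne
        by_cases h2 : m.row = ((Equiv.refl (Fin 7)) p).val ∧ m.col = ((Equiv.refl (Fin 7)) q).val
        · exact hm m List.mem_cons_self p q h2.1 h2.2
        · exfalso
          apply hne
          rw [if_neg, smul_zero]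
          rintro ⟨e1, e2⟩
          exact h2 ⟨by simpa using e1.symm, by simpa using e2.symm⟩
      · exact ih (fun x hx => hm x (List.mem_cons_of_mem _ hx)) p q h1
  have hL : ∀ m ∈ (g2Rep.ent r).map fun m => (⟨m.row, m.col, m.a, 0, m.c⟩ : Tm),
      ∀ p q : Fin 7, m.row = p.val → m.col = q.val → φ q < φ p := by
    intro m hm
    obtain ⟨m', hm', rfl⟩ := List.mem_map.1 hm
    exact hr m' hm'
  refine ⟨fun p q hne => ?_, fun p q hne => ?_⟩
  · rw [psi_xx, m7, add_sub_cancel_left] at hne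
    exact key t _ hL p q hne
  · rw [← map_inv, ← xx_neg, psi_xx, m7, add_sub_cancel_left] at hne
    exact key (-t) _ hL p q hne

theorem chk_rad : (∀ r : Fin 12, 7 ≤ r.val → ∀ m ∈ g2Rep.ent r.val, ∀ p q : Fin 7,
      m.row = p.val → m.col = q.val → phi7 q < phi7 p) ∧
    (∀ r : Fin 12, r.val < 5 → ∀ m ∈ g2Rep.ent r.val, ∀ p q : Fin 7,
      m.row = p.val → m.col = q.val → phi7' q < phi7' p) := by decide +kernel

theorem yu_mem (a b c e f : F) : yu a b c e f ∈ rad (F := F) phi7 := by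
  have h : ∀ (r : ℕ) (hr : r < 12), 7 ≤ r → ∀ t : F, xx r t ∈ rad phi7 :=
    fun r hr h7 t => xx_mem_rad (chk_rad.1 ⟨r, hr⟩ h7) t
  exact mul_mem (h 11 (by norm_num) (by norm_num) f) (mul_mem (h 10 (by norm_num) (by norm_num) e)
    (mul_mem (h 9 (by norm_num) (by norm_num) c) (mul_mem (h 8 (by norm_num) (by norm_num) b)
      (h 7 (by norm_num) le_rfl a))))

theorem yl_mem (a b c e f : F) : yl a b c e f ∈ rad (F := F) phi7' := by
  have h : ∀ (r : ℕ) (hr : r < 12), r < 5 → ∀ t : F, xx r t ∈ rad phi7' :=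
    fun r hr h5 t => xx_mem_rad (chk_rad.2 ⟨r, hr⟩ h5) t
  exact mul_mem (h 0 (by norm_num) (by norm_num) f) (mul_mem (h 1 (by norm_num) (by norm_num) e)
    (mul_mem (h 2 (by norm_num) (by norm_num) c) (mul_mem (h 3 (by norm_num) (by norm_num) b)
      (h 4 (by norm_num) (by norm_num) a))))

theorem upper_col_zero {u : GG F} (hu : u ∈ rad phi7) : ∀ i, mx u i 0 = if i = 0 then 1 else 0 := by
  intro i
  rw [mem_rad hu i 0 (by fin_cases i <;> simp [phi7]), Matrix.one_apply]

theorem lower_row_zero {v : GG F} (hv : v ∈ rad phi7') : ∀ j, mx v 0 j = if 0 = j then 1 else 0 := by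
  intro j
  rw [mem_rad hv 0 j (by fin_cases j <;> simp [phi7', phi7]), Matrix.one_apply]

set_option maxHeartbeats 1600000 in
/-- The big cell. -/
theorem cell (h : ∃ a : F, a ≠ 0 ∧ a ≠ 1) (g : GG F) (hg : mx g 0 0 ≠ 0) :
    ∃ (v u : GG F) (X : GL (Fin 2) F), v ∈ rad phi7' ∧ u ∈ rad phi7 ∧ g = v * lv h X * u := by
  set g00 := mx g 0 0 with hg00
  have hsing : ∀ j : Fin 7, j ≠ 3 → Q (fun i => mx g i j) = 0 := fun j hj => by
    have := Q_psi g (Pi.single j 1)
    rw [Matrix.mulVec_single_one] at this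
    refine this.trans ?_
    fin_cases j <;> simp [Q] at hj ⊢
  -- clear the first column
  set w1 := mx g 1 0 / g00 with hw1
  set w2 := mx g 2 0 / g00 with hw2
  set w3 := mx g 3 0 / g00 with hw3
  set w4 := mx g 4 0 / g00 with hw4
  set w5 := mx g 5 0 / g00 with hw5
  set a := w1 with ha
  set b := -w2 with hb
  set c := a * b - w3 with hc
  set e := w4 - a * c with he
  set f := -(a * b * b) - b * c - w5 with hf
  set v := yl a b c e f with hv
  have hcol : ∀ i, mx g i 0 = g00 * mx v i 0 := by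
    have h6 := hsing 0 (by decide)
    simp only [Q] at h6
    have d1 : mx g 1 0 = g00 * w1 := (mul_div_cancel₀ _ hg).symm
    have d2 : mx g 2 0 = g00 * w2 := (mul_div_cancel₀ _ hg).symm
    have d3 : mx g 3 0 = g00 * w3 := (mul_div_cancel₀ _ hg).symm
    have d4 : mx g 4 0 = g00 * w4 := (mul_div_cancel₀ _ hg).symm
    have d5 : mx g 5 0 = g00 * w5 := (mul_div_cancel₀ _ hg).symm
    have d6 : mx g 6 0 = g00 * (w1 * w5 - w2 * w4 + w3 * w3) := by
      rw [← hg00, d1, d2, d3, d4, d5] at h6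
      apply mul_left_cancel₀ hg
      linear_combination h6
    intro i
    rw [hv, mx_yl_col]
    fin_cases i
    · simp [hg00]
    · simp [ha, d1]
    · simp [hb, d2]
    · simp [hc, d3]
    · simp [he, d4]
    · simp [hf, d5]
    · simp [hf, he, hc, hb, ha, d6]
      left
      ring
  have hvg : mx (v⁻¹ * g) *ᵥ Pi.single 0 1 = g00 • Pi.single 0 1 := by
    rw [mx_mul, ← Matrix.mulVec_mulVec, Matrix.mulVec_single_one]
    have : (mx g).col 0 = g00 • (mx v).col 0 := funext hcol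
    rw [show (mx g).col 0 = _ from this, Matrix.mulVec_smul, ← Matrix.mulVec_single_one (mx v) 0,
      Matrix.mulVec_mulVec, mx_inv_mul, Matrix.one_mulVec]
  set g₁ := v⁻¹ * g with hg₁
  have hc0 : ∀ i, mx g₁ i 0 = if i = 0 then g00 else 0 := fun i => by
    have := congrFun hvg i
    simpa [Pi.single_apply, eq_comm] using this
  -- clear the last column
  have h66 : mx g₁ 6 6 * g00 = 1 := by
    have := (pres_mx g₁).1
    rw [J_eq] at this
    have e06 := congrFun (congrFun this 0) 6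
    simp [jm, Matrix.mul_apply, Fin.sum_univ_seven, hc0] at e06
    linear_combination e06
  have k : mx g₁ 6 6 ≠ 0 := left_ne_zero_of_mul_eq_one h66
  set k6 := mx g₁ 6 6
  set u1 := mx g₁ 1 6 / k6 with hu1
  set u2 := mx g₁ 2 6 / k6 with hu2
  set u3 := mx g₁ 3 6 / k6 with hu3
  set u4 := mx g₁ 4 6 / k6 with hu4
  set u5 := mx g₁ 5 6 / k6 with hu5
  set a' := u5 with ha'
  set b' := u4 with hb'
  set c' := -(a' * b') - u3 with hc'
  set e' := a' * c' - u2 with he'
  set f' := -(a' * b' * b') + b' * c' - u1 with hf'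
  set z := yu a' b' c' e' f' with hz
  have hcol' : ∀ i, mx g₁ i 6 = k6 * mx z i 6 := by
    have h6 : Q (fun i => mx g₁ i 6) = 0 := by
      have := Q_psi g₁ (Pi.single 6 1)
      rw [Matrix.mulVec_single_one] at this
      exact this.trans (by simp [Q])
    simp only [Q] at h6
    have d1 : mx g₁ 1 6 = k6 * u1 := (mul_div_cancel₀ _ k).symm
    have d2 : mx g₁ 2 6 = k6 * u2 := (mul_div_cancel₀ _ k).symm
    have d3 : mx g₁ 3 6 = k6 * u3 := (mul_div_cancel₀ _ k).symm
    have d4 : mx g₁ 4 6 = k6 * u4 := (mul_div_cancel₀ _ k).symm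
    have d5 : mx g₁ 5 6 = k6 * u5 := (mul_div_cancel₀ _ k).symm
    have d6 : mx g₁ 0 6 = k6 * (u1 * u5 - u2 * u4 + u3 * u3) := by
      rw [show mx g₁ 6 6 = k6 from rfl, d1, d2, d3, d4, d5] at h6
      apply mul_left_cancel₀ k
      linear_combination h6
    intro i
    rw [hz, mx_yu]
    fin_cases i
    · simp [tF, hf', he', hc', hb', ha', d6]
      left
      ring
    · simp [hf', d1]
    · simp [he', d2]
    · simp [hc', d3]
    · simp [hb', d4]
    · simp [ha', d5]
    · simp [k6]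
  set g₂ := z⁻¹ * g₁ with hg₂
  have hz0 : mx z⁻¹ *ᵥ Pi.single 0 1 = Pi.single 0 (1 : F) := by
    rw [Matrix.mulVec_single_one]
    funext i
    show mx z⁻¹ i 0 = _
    rw [upper_col_zero (inv_mem (yu_mem _ _ _ _ _)), Pi.single_apply]
  obtain ⟨A, hA, hform⟩ := levi_form g₂
    (fun i hi => by
      have : mx g₂ *ᵥ Pi.single 0 1 = g00 • Pi.single 0 1 := by
        rw [hg₂, mx_mul, ← Matrix.mulVec_mulVec, hvg, Matrix.mulVec_smul, hz0]
      simpa [Pi.single_eq_of_ne hi] using congrFun this i)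
    (fun i hi => by
      have : mx g₂ *ᵥ Pi.single 6 1 = k6 • Pi.single 6 1 := by
        rw [hg₂, mx_mul, ← Matrix.mulVec_mulVec, Matrix.mulVec_single_one (mx g₁)]
        rw [show (mx g₁).col 6 = k6 • (mx z).col 6 from funext hcol', Matrix.mulVec_smul,
          ← Matrix.mulVec_single_one (mx z) 6, Matrix.mulVec_mulVec, mx_inv_mul, Matrix.one_mulVec]
      simpa [Pi.single_eq_of_ne hi] using congrFun this i)
  set X := Matrix.GeneralLinearGroup.mk'' A hA with hX
  have h2 : g₂ = lv h X := lv_eq h hform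
  refine ⟨v, (lv h X)⁻¹ * z * ((lv h X)⁻¹)⁻¹, X, yl_mem _ _ _ _ _, ?_, ?_⟩
  · rw [← map_inv]
    exact lv_conj_rad h (Or.inl rfl) X⁻¹ (yu_mem _ _ _ _ _)
  · rw [← h2, hg₂, hg₁]
    group

/-- The Schur complement. -/
noncomputable def schur (M : Matrix (Fin 7) (Fin 7) F) : M₂ :=
  !![M 1 1 - M 1 0 * M 0 1 / M 0 0, M 1 2 - M 1 0 * M 0 2 / M 0 0;
    M 2 1 - M 2 0 * M 0 1 / M 0 0, M 2 2 - M 2 0 * M 0 2 / M 0 0]

set_option maxHeartbeats 1600000 in
theorem schur_cell (h : ∃ a : F, a ≠ 0 ∧ a ≠ 1) {v u : GG F} (hv : v ∈ rad phi7') (hu : u ∈ rad phi7)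
    (X : GL (Fin 2) F) :
    mx (v * lv h X * u) 0 0 = (X : M₂).det⁻¹ ∧
      schur (mx (v * lv h X * u)) = (X : M₂).det⁻¹ • (X : M₂) := by
  have hd : (X : M₂).det ≠ 0 := ((X : M₂).isUnit_iff_isUnit_det.1 X.isUnit).ne_zero
  have v0 := lower_row_zero hv
  have u0 := upper_col_zero hu
  have vb := mem_rad hv
  have ub := mem_rad hu
  have v1 : ∀ j, 1 ≤ j → mx v 1 j = (1 : Matrix (Fin 7) (Fin 7) F) 1 j := fun j hj =>
    vb 1 j (by fin_cases j <;> simp [phi7', phi7] at hj ⊢)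
  have v2 : ∀ j, 1 ≤ j → mx v 2 j = (1 : Matrix (Fin 7) (Fin 7) F) 2 j := fun j hj =>
    vb 2 j (by fin_cases j <;> simp [phi7', phi7] at hj ⊢)
  have u1 : ∀ i, 1 ≤ i → mx u i 1 = (1 : Matrix (Fin 7) (Fin 7) F) i 1 := fun i hi =>
    ub i 1 (by fin_cases i <;> simp [phi7] at hi ⊢)
  have u2 : ∀ i, 1 ≤ i → mx u i 2 = (1 : Matrix (Fin 7) (Fin 7) F) i 2 := fun i hi =>
    ub i 2 (by fin_cases i <;> simp [phi7] at hi ⊢)
  constructor
  · simp [mx_mul, mx_lv, lvMat, Matrix.mul_apply, Fin.sum_univ_seven, v0, u0]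
  · ext i j
    fin_cases i <;> fin_cases j <;>
      simp [schur, mx_mul, mx_lv, lvMat, Matrix.mul_apply, Fin.sum_univ_seven, v0, u0, v1, v2, u1, u2,
        Matrix.one_apply] <;> field_simp <;> ring

end Cfsg.Agent.Small.GTwoThompson
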