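import Cfsg.Agent.Lib.Small.SpFourThompson

/-!
`Sp₄(F)`: every non-central element is a product of two conjugates of an elliptic element of the
Levi subgroup `GL₂`; order of that element.
-/

set_option autoImplicit false

open Matrix

namespace Cfsg.Agent.Small.SpFourThompson

variable {F : Type*} [Field F]

local notation "M₂" => Matrix (Fin 2) (Fin 2) F
/-- `Sp₄(F)` as a group. -/
abbrev SpG (F : Type*) [Field F] : Type _ := ↥(Matrix.symplecticGroup (Fin 2) F)

theorem dmat_mem {A : M₂} (hA : IsUnit A.det) :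
    fromBlocks A 0 0 (A⁻¹)ᵀ ∈ Matrix.symplecticGroup (Fin 2) F := by
  rw [SymplecticGroup.mem_iff']
  simp only [Matrix.J, fromBlocks_transpose, fromBlocks_multiply, transpose_zero, transpose_transpose,
    Matrix.mul_zero, Matrix.zero_mul, Matrix.mul_neg, Matrix.mul_one, add_zero, zero_add,
    Matrix.neg_mul, neg_zero, ← transpose_mul, nonsing_inv_mul A hA, transpose_one]

theorem umat_mem {S : M₂} (hS : Sᵀ = S) :
    fromBlocks (1 : M₂) S 0 1 ∈ Matrix.symplecticGroup (Fin 2) F := by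
  rw [SymplecticGroup.mem_iff']
  simp [Matrix.J, fromBlocks_transpose, fromBlocks_multiply, hS]

theorem lmat_mem {S : M₂} (hS : Sᵀ = S) :
    fromBlocks (1 : M₂) 0 S 1 ∈ Matrix.symplecticGroup (Fin 2) F := by
  rw [SymplecticGroup.mem_iff']
  simp [Matrix.J, fromBlocks_transpose, fromBlocks_multiply, hS]

/-- The Levi element. -/
noncomputable def dg (A : M₂) (hA : IsUnit A.det) : (SpG F) := ⟨_, dmat_mem hA⟩

/-- Upper unipotent. -/
def ug (S : M₂) (hS : Sᵀ = S) : (SpG F) := ⟨_, umat_mem hS⟩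

/-- Lower unipotent. -/
def lg (S : M₂) (hS : Sᵀ = S) : (SpG F) := ⟨_, lmat_mem hS⟩

theorem val_mul (g h : (SpG F)) : (g * h).1 = g.1 * h.1 := rfl

/-- Elimination of the invariant symmetric forms. -/
theorem form_eq_zero {τ d : F} (hg : Good τ d) {A T : M₂} (hA : InC τ d A) (hT : Tᵀ = T)
    (h : Aᵀ * T * A = T) : T = 0 := by
  have hns : ¬ ∃ c : F, A = c • (1 : M₂) := by
    rintro ⟨c, rfl⟩
    exact apply_one_zero_ne hg hA (by simp)
  obtain ⟨P, hP, hAP⟩ := exists_conj_comp2 hns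
  rw [hA.1, hA.2] at hAP
  set R := Pᵀ * T * P with hR
  have hRC : (comp2 τ d)ᵀ * R * comp2 τ d = R := by
    calc (comp2 τ d)ᵀ * (Pᵀ * T * P) * comp2 τ d
        = (P * comp2 τ d)ᵀ * T * (P * comp2 τ d) := by
          rw [transpose_mul]; simp only [Matrix.mul_assoc]
      _ = Pᵀ * (Aᵀ * T * A) * P := by
          rw [← hAP, transpose_mul]; simp only [Matrix.mul_assoc]
      _ = R := by rw [h]
  have hRs : Rᵀ = R := by rw [hR, transpose_mul, transpose_mul, transpose_transpose, hT, Matrix.mul_assoc]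
  have h10 : R 1 0 = R 0 1 := congrFun (congrFun hRs 0) 1
  have e00 := congrFun (congrFun hRC 0) 0
  have e01 := congrFun (congrFun hRC 0) 1
  have e11 := congrFun (congrFun hRC 1) 1
  simp [comp2, Matrix.mul_apply, Fin.sum_univ_two, h10] at e00 e01 e11
  rw [e00] at e01 e11
  have hr1 : 1 - τ + d ≠ 0 := fun he => hg.2.2 1 (by linear_combination he)
  have hr2 : 1 + τ + d ≠ 0 := fun he => hg.2.2 (-1) (by linear_combination he)
  have hd1 : d - 1 ≠ 0 := sub_ne_zero.2 hg.2.1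
  have key : R 0 0 = 0 ∧ R 0 1 = 0 := by
    by_cases h1 : 1 + d = 0
    · have hd : d = -1 := by linear_combination h1
      have hτ : τ ≠ 0 := by
        rintro rfl
        exact hg.2.2 1 (by linear_combination h1)
      have ha : R 0 0 = 0 := by
        have : τ * R 0 0 = 0 := by linear_combination e01 + R 0 1 * h1
        exact (mul_eq_zero.1 this).resolve_left hτ
      refine ⟨ha, ?_⟩
      have h2 : (2 : F) ≠ 0 := fun h2 => hd1 (by linear_combination h1 - h2)
      have : 2 * τ * R 0 1 = 0 := by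
        rw [ha, hd] at e11
        linear_combination e11
      exact (mul_eq_zero.1 this).resolve_left (mul_ne_zero h2 hτ)
    · have ha : R 0 0 = 0 := by
        have : R 0 0 * ((d - 1) * ((1 - τ + d) * (1 + τ + d))) = 0 := by
          linear_combination (1 + d) * e11 - 2 * d * τ * e01
        exact (mul_eq_zero.1 this).resolve_right (mul_ne_zero hd1 (mul_ne_zero hr1 hr2))
      refine ⟨ha, ?_⟩
      have : R 0 1 * (1 + d) = 0 := by
        rw [ha] at e01
        linear_combination -e01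
      exact (mul_eq_zero.1 this).resolve_right h1
  have hR0 : R = 0 := by
    ext i j
    fin_cases i <;> fin_cases j <;> simp [key.1, key.2, h10, e00]
  have := congrArg (fun M => (P⁻¹)ᵀ * M * P⁻¹) hR0
  simp only [hR, Matrix.mul_zero, Matrix.zero_mul] at this
  rw [← this]
  calc T = (P * P⁻¹)ᵀ * T * (P * P⁻¹) := by simp [mul_nonsing_inv P hP]
    _ = _ := by rw [transpose_mul]; simp only [Matrix.mul_assoc]

theorem isUnit_of_inC {τ d : F} (hg : Good τ d) {A : M₂} (hA : InC τ d A) : IsUnit A.det := by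
  rw [hA.2]; exact hg.1.isUnit

theorem inC_transpose {τ d : F} {A : M₂} (hA : InC τ d A) : InC τ d Aᵀ :=
  ⟨by rw [trace_transpose]; exact hA.1, by rw [det_transpose]; exact hA.2⟩

variable [Fintype F]

/-- `T ↦ T - A⁻ᵀ T A⁻¹` is onto the symmetric matrices. -/
theorem exists_lower {τ d : F} (hg : Good τ d) {A S : M₂} (hA : InC τ d A) (hS : Sᵀ = S) :
    ∃ T : M₂, Tᵀ = T ∧ T * A = S * A + (A⁻¹)ᵀ * T := by
  classical
  have hu := isUnit_of_inC hg hA
  let Φ : {T : M₂ // Tᵀ = T} → {T : M₂ // Tᵀ = T} := fun T =>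
    ⟨T.1 - (A⁻¹)ᵀ * T.1 * A⁻¹, by
      rw [transpose_sub, transpose_mul, transpose_mul, transpose_transpose, T.2, Matrix.mul_assoc]⟩
  have hinj : Function.Injective Φ := by
    intro T T' hTT
    have h1 := congrArg Subtype.val hTT
    simp only [Φ] at h1
    set D := T.1 - T'.1 with hD
    have h2 : D = (A⁻¹)ᵀ * D * A⁻¹ := by
      rw [hD, Matrix.mul_sub, Matrix.sub_mul]
      linear_combination (norm := abel) h1
    have h3 : Aᵀ * D * A = D := by
      conv_lhs => rw [h2]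
      calc Aᵀ * ((A⁻¹)ᵀ * D * A⁻¹) * A = (A⁻¹ * A)ᵀ * D * (A⁻¹ * A) := by
            rw [transpose_mul]; simp only [Matrix.mul_assoc]
        _ = D := by simp [nonsing_inv_mul A hu]
    exact Subtype.ext (sub_eq_zero.1 (form_eq_zero hg hA (by rw [transpose_sub, T.2, T'.2]) h3))
  obtain ⟨T, hT⟩ := (Finite.surjective_of_injective hinj) ⟨S, hS⟩
  refine ⟨T.1, T.2, ?_⟩
  have h1 : T.1 - (A⁻¹)ᵀ * T.1 * A⁻¹ = S := congrArg Subtype.val hT
  have h2 : (A⁻¹)ᵀ * T.1 * A⁻¹ * A = (A⁻¹)ᵀ * T.1 := by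
    rw [Matrix.mul_assoc _ A⁻¹ A, nonsing_inv_mul A hu, mul_one]
  rw [← h1, Matrix.sub_mul, h2, sub_add_cancel]

/-- `T ↦ T - B T Bᵀ` is onto the symmetric matrices. -/
theorem exists_upper {τ d : F} (hg : Good τ d) {B S : M₂} (hB : InC τ d B) (hS : Sᵀ = S) :
    ∃ T : M₂, Tᵀ = T ∧ T * (B⁻¹)ᵀ = B * S + B * T := by
  classical
  have hu := isUnit_of_inC hg hB
  let Φ : {T : M₂ // Tᵀ = T} → {T : M₂ // Tᵀ = T} := fun T =>
    ⟨T.1 - B * T.1 * Bᵀ, by
      rw [transpose_sub, transpose_mul, transpose_mul, transpose_transpose, T.2, Matrix.mul_assoc]⟩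
  have hinj : Function.Injective Φ := by
    intro T T' hTT
    have h1 := congrArg Subtype.val hTT
    simp only [Φ] at h1
    set D := T.1 - T'.1 with hD
    have h3 : (Bᵀ)ᵀ * D * Bᵀ = D := by
      rw [transpose_transpose, hD, Matrix.mul_sub, Matrix.sub_mul]
      linear_combination (norm := abel) (-1 : ℤ) • h1
    exact Subtype.ext (sub_eq_zero.1
      (form_eq_zero hg (inC_transpose hB) (by rw [transpose_sub, T.2, T'.2]) h3))
  obtain ⟨T, hT⟩ := (Finite.surjective_of_injective hinj)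
    ⟨B * S * Bᵀ, by rw [transpose_mul, transpose_mul, transpose_transpose, hS, Matrix.mul_assoc]⟩
  refine ⟨T.1, T.2, ?_⟩
  have h1 : T.1 - B * T.1 * Bᵀ = B * S * Bᵀ := congrArg Subtype.val hT
  have h2 : T.1 = (B * S + B * T.1) * Bᵀ := by
    rw [Matrix.add_mul, ← h1, sub_add_cancel]
  conv_lhs => rw [h2]
  rw [Matrix.mul_assoc, ← transpose_mul, nonsing_inv_mul B hu, transpose_one, mul_one]

theorem dg_congr {A B : M₂} (h : A = B) (hA : IsUnit A.det) :
    dg A hA = dg B (h ▸ hA) := by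
  subst h; rfl

theorem dg_mul {A B : M₂} (hA : IsUnit A.det) (hB : IsUnit B.det) :
    dg A hA * dg B hB = dg (A * B) (by rw [det_mul]; exact hA.mul hB) := by
  apply Subtype.ext
  simp [val_mul, dg, fromBlocks_multiply, Matrix.mul_inv_rev]

theorem dg_one : dg (1 : M₂) (by simp) = 1 := by
  apply Subtype.ext
  simp [dg]

omit [Fintype F] in
/-- Block relations. -/
theorem blocks (g : (SpG F)) :
    (g.1.toBlocks₂₁)ᵀ * g.1.toBlocks₁₁ = (g.1.toBlocks₁₁)ᵀ * g.1.toBlocks₂₁ ∧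
    (g.1.toBlocks₁₁)ᵀ * g.1.toBlocks₂₂ = 1 + (g.1.toBlocks₂₁)ᵀ * g.1.toBlocks₁₂ ∧
    g.1.toBlocks₁₂ * (g.1.toBlocks₁₁)ᵀ = g.1.toBlocks₁₁ * (g.1.toBlocks₁₂)ᵀ := by
  have h1 := SymplecticGroup.mem_iff'.1 g.2
  have h2 := SymplecticGroup.mem_iff.1 g.2
  rw [← fromBlocks_toBlocks g.1, Matrix.J, fromBlocks_transpose, fromBlocks_multiply,
    fromBlocks_multiply, fromBlocks_inj] at h1 h2
  simp only [Matrix.mul_zero, Matrix.mul_one, Matrix.mul_neg, zero_add, add_zero,
    Matrix.neg_mul] at h1 h2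
  obtain ⟨a1, a2, -, -⟩ := h1
  obtain ⟨b1, -, -, -⟩ := h2
  refine ⟨?_, ?_, ?_⟩
  · exact sub_eq_zero.1 (by rw [sub_eq_add_neg]; exact a1)
  · linear_combination (norm := abel) (-1 : ℤ) • a2
  · exact sub_eq_zero.1 (by rw [sub_eq_add_neg]; exact b1)

/-- An element whose upper left block is a product of two class members. -/
theorem of_block {τ d : F} (hg : Good τ d) (g : (SpG F)) {A B : M₂} (hA : InC τ d A) (hB : InC τ d B)
    (hX : g.1.toBlocks₁₁ = A * B) (hc : IsUnit (comp2 τ d).det) :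
    ∃ u v : (SpG F), g = (u * dg (comp2 τ d) hc * u⁻¹) * (v * dg (comp2 τ d) hc * v⁻¹) := by
  classical
  have hAu := isUnit_of_inC hg hA
  have hBu := isUnit_of_inC hg hB
  have hABu : IsUnit (A * B).det := by rw [det_mul]; exact hAu.mul hBu
  obtain ⟨e1, e2, e3⟩ := blocks g
  rw [hX] at e1 e2 e3
  set X := A * B with hXdef
  set Y := g.1.toBlocks₁₂
  set Z := g.1.toBlocks₂₁
  set W := g.1.toBlocks₂₂
  have hXX : X * X⁻¹ = 1 := mul_nonsing_inv X hABu
  have hXX' : X⁻¹ * X = 1 := nonsing_inv_mul X hABu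
  have hXT : (X⁻¹)ᵀ * Xᵀ = 1 := by rw [← transpose_mul, hXX, transpose_one]
  have hS1 : (Z * X⁻¹)ᵀ = Z * X⁻¹ := by
    calc (Z * X⁻¹)ᵀ = (X⁻¹)ᵀ * (Zᵀ * X) * X⁻¹ := by
          rw [transpose_mul, Matrix.mul_assoc, Matrix.mul_assoc Zᵀ, hXX, mul_one]
      _ = (X⁻¹)ᵀ * Xᵀ * (Z * X⁻¹) := by rw [e1]; simp only [Matrix.mul_assoc]
      _ = _ := by rw [hXT, one_mul]
  have hS2 : (X⁻¹ * Y)ᵀ = X⁻¹ * Y := by
    calc (X⁻¹ * Y)ᵀ = X⁻¹ * (X * Yᵀ) * (X⁻¹)ᵀ := by
          rw [transpose_mul, ← Matrix.mul_assoc X⁻¹, hXX', one_mul]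
      _ = X⁻¹ * Y * (Xᵀ * (X⁻¹)ᵀ) := by rw [← e3]; simp only [Matrix.mul_assoc]
      _ = _ := by rw [← transpose_mul, hXX', transpose_one, mul_one]
  have hW : W = (X⁻¹)ᵀ + Z * X⁻¹ * Y := by
    calc W = (X⁻¹)ᵀ * (Xᵀ * W) := by rw [← Matrix.mul_assoc, hXT, one_mul]
      _ = (X⁻¹)ᵀ + (X⁻¹)ᵀ * Zᵀ * Y := by rw [e2, Matrix.mul_add, mul_one, Matrix.mul_assoc]
      _ = _ := by rw [← transpose_mul, hS1]
  have hfac : g = lg _ hS1 * dg A hAu * (dg B hBu * ug _ hS2) := by
    apply Subtype.ext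
    conv_lhs => rw [← fromBlocks_toBlocks g.1]
    rw [hX]
    change fromBlocks X Y Z W = _
    simp only [val_mul, lg, dg, ug, fromBlocks_multiply, Matrix.mul_zero, Matrix.zero_mul,
      Matrix.mul_one, Matrix.one_mul, add_zero, zero_add]
    rw [fromBlocks_inj]
    have hinv : (X⁻¹)ᵀ = (A⁻¹)ᵀ * (B⁻¹)ᵀ := by rw [← transpose_mul, hXdef, Matrix.mul_inv_rev]
    refine ⟨rfl, ?_, ?_, ?_⟩
    · rw [← Matrix.mul_assoc A, ← hXdef, ← Matrix.mul_assoc, hXX, one_mul]
    · rw [Matrix.mul_assoc (Z * X⁻¹), ← hXdef, Matrix.mul_assoc Z, hXX', mul_one]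
    · rw [hW, hinv]
      have h' : Z * X⁻¹ * A * (B * (X⁻¹ * Y)) = Z * X⁻¹ * Y := by
        calc _ = Z * X⁻¹ * ((A * B) * X⁻¹ * Y) := by simp only [Matrix.mul_assoc]
          _ = _ := by rw [← hXdef, hXX, one_mul]
      rw [h', add_comm]
  obtain ⟨T, hT, hTe⟩ := exists_lower hg hA hS1
  obtain ⟨T', hT', hTe'⟩ := exists_upper hg hB hS2
  have hl : lg _ hS1 * dg A hAu = lg T hT * dg A hAu * (lg T hT)⁻¹ := by
    rw [eq_mul_inv_iff_mul_eq]
    apply Subtype.ext
    simp only [val_mul, lg, dg, fromBlocks_multiply, Matrix.mul_zero, Matrix.zero_mul,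
      Matrix.mul_one, Matrix.one_mul, add_zero, zero_add]
    rw [fromBlocks_inj]
    exact ⟨rfl, rfl, hTe.symm, rfl⟩
  have hr : dg B hBu * ug _ hS2 = ug T' hT' * dg B hBu * (ug T' hT')⁻¹ := by
    rw [eq_mul_inv_iff_mul_eq]
    apply Subtype.ext
    simp only [val_mul, ug, dg, fromBlocks_multiply, Matrix.mul_zero, Matrix.zero_mul,
      Matrix.mul_one, Matrix.one_mul, add_zero, zero_add]
    rw [fromBlocks_inj]
    refine ⟨rfl, ?_, rfl, rfl⟩
    rw [hTe', add_comm]
  have conjd : ∀ A : M₂, InC τ d A → ∀ hAu : IsUnit A.det,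
      ∃ u : (SpG F), dg A hAu = u * dg (comp2 τ d) hc * u⁻¹ := fun A hA hAu => by
    have hns : ¬ ∃ c : F, A = c • (1 : M₂) := by
      rintro ⟨c, rfl⟩
      exact apply_one_zero_ne hg hA (by simp)
    obtain ⟨P, hP, hAP⟩ := exists_conj_comp2 hns
    rw [hA.1, hA.2] at hAP
    refine ⟨dg P hP, ?_⟩
    rw [eq_mul_inv_iff_mul_eq, dg_mul, dg_mul]
    exact dg_congr hAP _
  obtain ⟨u, hu⟩ := conjd A hA hAu
  obtain ⟨v, hv⟩ := conjd B hB hBu
  refine ⟨lg T hT * u, ug T' hT' * v, ?_⟩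
  rw [hfac, hl, hr, hu, hv]
  group

/-- Every non-central element is a product of two conjugates of the elliptic element. -/
theorem exists_two {τ d : F} (h3 : 3 ≤ Fintype.card F) (hg : Good τ d) (hc : IsUnit (comp2 τ d).det)
    (g : (SpG F)) (hgc : g ∉ Subgroup.center (SpG F)) :
    ∃ u v : (SpG F), g = (u * dg (comp2 τ d) hc * u⁻¹) * (v * dg (comp2 τ d) hc * v⁻¹) := by
  classical
  -- enough for a conjugate
  suffices key : ∃ (h : (SpG F)) (A B : M₂), InC τ d A ∧ InC τ d B ∧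
      (h * g * h⁻¹).1.toBlocks₁₁ = A * B by
    obtain ⟨h, A, B, hA, hB, hX⟩ := key
    obtain ⟨u, v, huv⟩ := of_block hg _ hA hB hX hc
    refine ⟨h⁻¹ * u, h⁻¹ * v, ?_⟩
    have : g = h⁻¹ * (h * g * h⁻¹) * h := by group
    rw [this, huv]
    group
  -- a conjugate with non-zero lower left block
  obtain ⟨h₀, hZ⟩ : ∃ h : (SpG F), (h * g * h⁻¹).1.toBlocks₂₁ ≠ 0 := by
    by_contra hno
    push Not at hno
    apply hgc
    set X := g.1.toBlocks₁₁ with hXdef
    set Y := g.1.toBlocks₁₂ with hYdef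
    set W := g.1.toBlocks₂₂ with hWdef
    have hZ0 : g.1.toBlocks₂₁ = 0 := by
      have := hno 1
      rwa [one_mul, inv_one, mul_one] at this
    have hgb : g.1 = fromBlocks X Y 0 W := by
      rw [← hZ0, hXdef, hYdef, hWdef, fromBlocks_toBlocks]
    have hJi : ((SymplecticGroup.symJ (Fin 2) F)⁻¹ : (SpG F)).1 = fromBlocks 0 1 (-1) 0 := by
      have h' : (SymplecticGroup.symJ (Fin 2) F : (SpG F)) *
          ⟨fromBlocks (0 : M₂) 1 (-1) 0, by
            rw [SymplecticGroup.mem_iff']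
            simp [Matrix.J, fromBlocks_transpose, fromBlocks_multiply]⟩ = 1 := by
        apply Subtype.ext
        simp [val_mul, SymplecticGroup.symJ, Matrix.J, fromBlocks_multiply]
      rw [← eq_inv_of_mul_eq_one_right h']
    have hY : Y = 0 := by
      have := hno (SymplecticGroup.symJ (Fin 2) F)
      rw [val_mul, val_mul, hJi, hgb] at this
      simpa [SymplecticGroup.symJ, Matrix.J, fromBlocks_multiply] using this
    have hcomm : ∀ S : M₂, Sᵀ = S → S * X = W * S := fun S hS => by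
      have hi : ((lg S hS)⁻¹ : (SpG F)) = lg (-S) (by rw [transpose_neg, hS]) := by
        rw [inv_eq_iff_mul_eq_one]
        apply Subtype.ext
        simp [val_mul, lg, fromBlocks_multiply]
      have := hno (lg S hS)
      rw [hi, val_mul, val_mul, hgb, hY] at this
      simp [lg, fromBlocks_multiply] at this
      exact add_neg_eq_zero.1 this
    have hWX : W = X := by
      have := hcomm 1 transpose_one
      rw [one_mul, mul_one] at this
      exact this.symm
    have hd1 := hcomm !![1, 0; 0, 0] (by ext i j; fin_cases i <;> fin_cases j <;> rfl)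
    have hd2 := hcomm !![0, 1; 1, 0] (by ext i j; fin_cases i <;> fin_cases j <;> rfl)
    rw [hWX] at hd1 hd2
    have a01 : X 0 1 = 0 := by simpa [Matrix.mul_apply, Fin.sum_univ_two] using congrFun (congrFun hd1 0) 1
    have a10 : X 1 0 = 0 := by
      simpa [Matrix.mul_apply, Fin.sum_univ_two] using (congrFun (congrFun hd1 1) 0).symm
    have a11 : X 1 1 = X 0 0 := by
      simpa [Matrix.mul_apply, Fin.sum_univ_two] using congrFun (congrFun hd2 0) 1
    have hgs : g.1 = X 0 0 • (1 : Matrix (Fin 2 ⊕ Fin 2) (Fin 2 ⊕ Fin 2) F) := by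
      rw [hgb, hY, hWX]
      ext i j
      rcases i with i | i <;> rcases j with j | j <;> fin_cases i <;> fin_cases j <;>
        simp [a01, a10, a11]
    rw [Subgroup.mem_center_iff]
    intro k
    apply Subtype.ext
    rw [val_mul, val_mul, hgs]
    simp
  set g₁ := h₀ * g * h₀⁻¹ with hg₁
  -- reduce the upper left block by `U(S)`
  have move : ∀ (h : (SpG F)) (S : M₂) (hS : Sᵀ = S) (A B : M₂), InC τ d A → InC τ d B →
      (h * g₁ * h⁻¹).1.toBlocks₁₁ + S * (h * g₁ * h⁻¹).1.toBlocks₂₁ = A * B →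
      ∃ (h : (SpG F)) (A B : M₂), InC τ d A ∧ InC τ d B ∧ (h * g * h⁻¹).1.toBlocks₁₁ = A * B := by
    intro h S hS A B hA hB hAB
    refine ⟨ug S hS * h * h₀, A, B, hA, hB, ?_⟩
    have hi : ((ug S hS)⁻¹ : (SpG F)) = ug (-S) (by rw [transpose_neg, hS]) := by
      rw [inv_eq_iff_mul_eq_one]
      apply Subtype.ext
      simp [val_mul, ug, fromBlocks_multiply]
    have : ug S hS * h * h₀ * g * (ug S hS * h * h₀)⁻¹ =
        ug S hS * (h * g₁ * h⁻¹) * ug (-S) (by rw [transpose_neg, hS]) := by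
      rw [← hi, hg₁]; group
    rw [this, ← hAB, val_mul, val_mul]
    conv_lhs => rw [← fromBlocks_toBlocks (h * g₁ * h⁻¹).1]
    simp [ug, fromBlocks_multiply]
  set X := g₁.1.toBlocks₁₁ with hX
  set Z := g₁.1.toBlocks₂₁ with hZdef
  by_cases hdet : Z.det = 0
  · -- rank one
    obtain ⟨v, hv, hZv⟩ := Matrix.exists_mulVec_eq_zero_iff.2 hdet
    obtain ⟨P, hP, hPv⟩ : ∃ P : M₂, IsUnit P.det ∧ P *ᵥ ![0, 1] = v := by
      by_cases h0 : v 0 = 0
      · have h1 : v 1 ≠ 0 := fun h1 => hv (by ext i; fin_cases i <;> simp [h0, h1])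
        refine ⟨!![1, 0; 0, v 1], ?_, ?_⟩
        · simpa [isUnit_iff_ne_zero, det_fin_two] using h1
        · ext i; fin_cases i <;> simp [Matrix.mulVec, dotProduct, Fin.sum_univ_two, h0]
      · refine ⟨!![0, v 0; 1, v 1], ?_, ?_⟩
        · simpa [isUnit_iff_ne_zero, det_fin_two] using h0
        · ext i; fin_cases i <;> simp [Matrix.mulVec, dotProduct, Fin.sum_univ_two]
    have hPi : IsUnit (P⁻¹).det := (isUnit_nonsing_inv_det_iff).2 hP
    have hi : ((dg P⁻¹ hPi)⁻¹ : (SpG F)) = dg P hP := by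
      rw [inv_eq_iff_mul_eq_one, dg_mul]
      rw [dg_congr (nonsing_inv_mul P hP), dg_one]
    set g₂ := dg P⁻¹ hPi * g₁ * (dg P⁻¹ hPi)⁻¹ with hg₂
    have hb : g₂.1.toBlocks₁₁ = P⁻¹ * X * P ∧ g₂.1.toBlocks₂₁ = Pᵀ * Z * P := by
      rw [hg₂, hi, val_mul, val_mul, ← fromBlocks_toBlocks g₁.1]
      simp [dg, fromBlocks_multiply, nonsing_inv_nonsing_inv P hP, hX, hZdef]
    set X₂ := g₂.1.toBlocks₁₁
    set Z₂ := g₂.1.toBlocks₂₁
    have hZcol : ∀ i, Z₂ i 1 = 0 := by
      intro i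
      have h1 : Z₂ *ᵥ ![0, 1] = 0 := by
        rw [hb.2, ← Matrix.mulVec_mulVec, hPv, ← Matrix.mulVec_mulVec, hZv, Matrix.mulVec_zero]
      have := congrFun h1 i
      simpa [Matrix.mulVec, dotProduct, Fin.sum_univ_two] using this
    have hZne : Z₂ ≠ 0 := by
      intro h0
      apply hZ
      have := congrArg (fun M => (P⁻¹)ᵀ * M * P⁻¹) h0
      simp only [hb.2, Matrix.mul_zero, Matrix.zero_mul] at this
      rw [← this]
      calc Z = (P * P⁻¹)ᵀ * Z * (P * P⁻¹) := by simp [mul_nonsing_inv P hP]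
        _ = _ := by rw [transpose_mul]; simp only [Matrix.mul_assoc]
    have hXcol : X₂ 0 1 ≠ 0 ∨ X₂ 1 1 ≠ 0 := by
      by_contra hc'
      push Not at hc'
      have := congrFun (congrFun (blocks g₂).2.1 1) 1
      simp [Matrix.mul_apply, Fin.sum_univ_two, Matrix.transpose_apply,
        show g₂.1.toBlocks₁₁ = X₂ from rfl, show g₂.1.toBlocks₂₁ = Z₂ from rfl,
        hZcol, hc'.1, hc'.2] at this
    obtain ⟨A, B, hA, hB, hcol⟩ := exists_col h3 (τ := τ) (d := d) hXcol
    have hcol0 : (A * B) 0 1 = X₂ 0 1 := by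
      simpa [Matrix.mulVec, dotProduct, Fin.sum_univ_two] using congrFun hcol 0
    have hcol1 : (A * B) 1 1 = X₂ 1 1 := by
      simpa [Matrix.mulVec, dotProduct, Fin.sum_univ_two] using congrFun hcol 1
    set δ0 := (A * B) 0 0 - X₂ 0 0 with hδ0
    set δ1 := (A * B) 1 0 - X₂ 1 0 with hδ1
    obtain ⟨S, hS, hS0, hS1⟩ : ∃ S : M₂, Sᵀ = S ∧
        S 0 0 * Z₂ 0 0 + S 0 1 * Z₂ 1 0 = δ0 ∧ S 1 0 * Z₂ 0 0 + S 1 1 * Z₂ 1 0 = δ1 := by
      by_cases h0 : Z₂ 0 0 = 0
      · have h1 : Z₂ 1 0 ≠ 0 := fun h1 => hZne (by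
          ext i j; fin_cases i <;> fin_cases j <;> simp [h0, h1, hZcol])
        refine ⟨!![0, δ0 / Z₂ 1 0; δ0 / Z₂ 1 0, δ1 / Z₂ 1 0], ?_, ?_, ?_⟩
        · ext i j; fin_cases i <;> fin_cases j <;> rfl
        · simp [h0]; field_simp
        · simp [h0]; field_simp
      · refine ⟨!![(δ0 - δ1 / Z₂ 0 0 * Z₂ 1 0) / Z₂ 0 0, δ1 / Z₂ 0 0; δ1 / Z₂ 0 0, 0], ?_, ?_, ?_⟩
        · ext i j; fin_cases i <;> fin_cases j <;> rfl
        · simp; field_simp; ring
        · simp; field_simp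
    refine move (dg P⁻¹ hPi) S hS A B hA hB ?_
    change X₂ + S * Z₂ = A * B
    rw [hδ0] at hS0
    rw [hδ1] at hS1
    ext i j
    fin_cases i <;> fin_cases j <;>
      simp [Matrix.mul_apply, Fin.sum_univ_two, hZcol] at hcol0 hcol1 hS0 hS1 ⊢
    · linear_combination hS0
    · linear_combination -hcol0
    · linear_combination hS1
    · linear_combination -hcol1
  · -- invertible
    have hZu : IsUnit Z.det := isUnit_iff_ne_zero.2 hdet
    set K : M₂ := Z⁻¹ * !![0, -1; 1, 0] with hKdef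
    have hK : IsUnit K.det := by
      rw [hKdef, det_mul]
      refine ((isUnit_nonsing_inv_det_iff).2 hZu).mul ?_
      simp [det_fin_two]
    obtain ⟨A, B, hA, hB, htr⟩ := exists_pair h3 hg hK (K * X).trace
    have hS : ((A * B - X) * Z⁻¹)ᵀ = (A * B - X) * Z⁻¹ := by
      have h1 : ((A * B - X) * Z⁻¹ * !![0, -1; 1, 0]).trace = 0 := by
        rw [Matrix.mul_assoc, ← hKdef, trace_mul_comm, Matrix.mul_sub, trace_sub, htr, sub_self]
      set S := (A * B - X) * Z⁻¹
      simp [trace2, Matrix.mul_apply, Fin.sum_univ_two] at h1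
      ext i j
      fin_cases i <;> fin_cases j <;> simp [Matrix.transpose_apply] <;>
        first
          | linear_combination h1
          | linear_combination -h1
    refine move 1 _ hS A B hA hB ?_
    rw [one_mul, inv_one, mul_one, ← hX, ← hZdef, Matrix.mul_assoc _ Z⁻¹ Z, nonsing_inv_mul Z hZu,
      mul_one, add_sub_cancel]

/-- Powers of the Levi element. -/
theorem dg_pow_eq_one {A : M₂} (hA : IsUnit A.det) {N : ℕ} (h : A ^ N = 1) : dg A hA ^ N = 1 := by
  have key : ∀ k, (dg A hA ^ k).1 = fromBlocks (A ^ k) 0 0 ((A ^ k)⁻¹)ᵀ := by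
    intro k
    induction k with
    | zero => simp
    | succ k ih =>
      rw [pow_succ, val_mul, ih]
      simp [dg, fromBlocks_multiply, pow_succ, Matrix.mul_inv_rev]
  apply Subtype.ext
  rw [key, h]
  simp

/-- The elliptic element has order dividing `q² - 1`. -/
theorem comp2_pow {τ d : F} (hg : Good τ d) :
    (comp2 τ d) ^ (Fintype.card F * Fintype.card F - 1) = 1 := by
  classical
  have hdet : IsUnit (comp2 τ d).det := isUnit_of_inC hg (comp2_inC τ d)
  set a : GL (Fin 2) F := Matrix.GeneralLinearGroup.mk'' (comp2 τ d) hdet with ha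
  set C := Subgroup.centralizer ({a} : Set (GL (Fin 2) F)) with hCdef
  let φ : C → {v : Fin 2 → F // v ≠ 0} := fun M =>
    ⟨M.1.1 *ᵥ ![1, 0], fun h0 => by
      have := congrArg (fun v => ((M.1⁻¹ : GL (Fin 2) F) : M₂) *ᵥ v) h0
      simp only [Matrix.mulVec_mulVec, Units.inv_mul, Matrix.one_mulVec, Matrix.mulVec_zero] at this
      simpa using congrFun this 0⟩
  have hc : ∀ M : C, M.1.1 * comp2 τ d = comp2 τ d * M.1.1 := fun M => by
    have := Subgroup.mem_centralizer_singleton_iff.1 M.2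
    have h2 := congrArg Units.val this
    simpa [ha] using h2
  have hbij : Function.Bijective φ := by
    constructor
    · intro M M' h
      have h0 : M.1.1 *ᵥ ![1, 0] = M'.1.1 *ᵥ ![1, 0] := congrArg Subtype.val h
      have h1 : M.1.1 *ᵥ (comp2 τ d *ᵥ ![1, 0]) = M'.1.1 *ᵥ (comp2 τ d *ᵥ ![1, 0]) := by
        rw [Matrix.mulVec_mulVec, Matrix.mulVec_mulVec, hc, hc, ← Matrix.mulVec_mulVec, h0,
          Matrix.mulVec_mulVec]
      apply Subtype.ext; apply Units.ext
      ext i j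
      have e0 := congrFun h0 i
      have e1 := congrFun h1 i
      simp [comp2, Matrix.mulVec, dotProduct, Fin.sum_univ_two] at e0 e1
      fin_cases j
      · exact e0
      · exact e1
    · rintro ⟨v, hv⟩
      set M : M₂ := !![v 0, -(d * v 1); v 1, v 0 + τ * v 1] with hM
      have hMd : IsUnit M.det := by
        rw [isUnit_iff_ne_zero, hM, det_fin_two]
        simp
        intro h0
        by_cases h1 : v 1 = 0
        · have : v 0 = 0 := mul_self_eq_zero.1 (by rw [h1] at h0; linear_combination h0)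
          exact hv (by ext i; fin_cases i <;> simp [this, h1])
        · apply hg.2.2 (-(v 0) / v 1)
          field_simp
          linear_combination h0
      refine ⟨⟨Matrix.GeneralLinearGroup.mk'' M hMd, ?_⟩, ?_⟩
      · rw [hCdef, Subgroup.mem_centralizer_singleton_iff]
        apply Units.ext
        ext i j
        fin_cases i <;> fin_cases j <;>
          simp [ha, hM, comp2, Matrix.mul_apply, Fin.sum_univ_two] <;> ring
      · apply Subtype.ext
        ext i
        fin_cases i <;> simp [φ, hM, Matrix.mulVec, dotProduct, Fin.sum_univ_two]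
  have hcard : Nat.card C = Fintype.card F * Fintype.card F - 1 := by
    rw [Nat.card_congr (Equiv.ofBijective φ hbij), Nat.card_eq_fintype_card,
      Fintype.card_subtype_compl, Fintype.card_fun, Fintype.card_fin, Fintype.card_subtype_eq, sq]
  have haC : a ∈ C := Subgroup.mem_centralizer_singleton_iff.2 rfl
  have := orderOf_dvd_natCard (⟨a, haC⟩ : C)
  rw [hcard, orderOf_dvd_iff_pow_eq_one] at this
  have h2 := congrArg (fun x : C => ((x : GL (Fin 2) F) : M₂)) this
  simpa [ha] using h2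

end Cfsg.Agent.Small.SpFourThompson
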