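import Cfsg.Agent.Lib.Small.GTwoThompsonCell
import Cfsg.Agent.Lib.Small.SpFourThompsonGroup

/-!
Every non-trivial element of the group of type G2 over a finite field with at least three elements is a
product of two conjugates of an elliptic element of the Levi subgroup `GL₂`.
-/

set_option autoImplicit false
set_option maxRecDepth 100000
set_option linter.unusedSimpArgs false

open Matrix
open scoped MatrixGroups

namespace Cfsg.Agent.Small.GTwoThompson

open Cfsg.Lie Cfsg.Agent.Lie Cfsg.Agent.Lie.G2Orders Cfsg.Agent.Small.SpFourThompson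

variable {F : Type*} [Field F]

local notation "M₂" => Matrix (Fin 2) (Fin 2) F

theorem schur_det (h : ∃ a : F, a ≠ 0 ∧ a ≠ 1) (g : GG F) (hg : mx g 0 0 ≠ 0) :
    (schur (mx g)).det = mx g 0 0 := by
  obtain ⟨v, u, X, hv, hu, rfl⟩ := cell h g hg
  obtain ⟨e0, e1⟩ := schur_cell h hv hu X
  have hd : (X : M₂).det ≠ 0 := ((X : M₂).isUnit_iff_isUnit_det.1 X.isUnit).ne_zero
  rw [e0, e1, det_smul, Fintype.card_fin]
  field_simp

/-- An element of the big cell with good Levi component is a product of two conjugates. -/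
theorem of_good [Fintype F] (h : ∃ a : F, a ≠ 0 ∧ a ≠ 1) {τ d : F} (hτ : τ ≠ 0) (hg : Good τ d)
    (hc : IsUnit (comp2 τ d).det) (g : GG F) (h00 : mx g 0 0 = d⁻¹ * d⁻¹)
    (hS : GoodS d⁻¹ (schur (mx g))) :
    ∃ u v : GG F, g = (u * lv h (Matrix.GeneralLinearGroup.mk'' (comp2 τ d) hc) * u⁻¹) *
      (v * lv h (Matrix.GeneralLinearGroup.mk'' (comp2 τ d) hc) * v⁻¹) := by
  have hd0 : d ≠ 0 := hg.1
  obtain ⟨v, u, X, hv, hu, rfl⟩ := cell h g (by rw [h00]; simpa using hd0)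
  obtain ⟨e0, e1⟩ := schur_cell h hv hu X
  rw [h00] at e0
  have hdet : (X : M₂).det = d * d := by
    rw [← inv_inv (X : M₂).det, ← e0, _root_.mul_inv_rev, inv_inv]
  rw [e1, hdet] at hS
  have hX : GoodS d (X : M₂) := by
    have eX : (X : M₂) = (d * d) • ((d * d)⁻¹ • (X : M₂)) := by
      rw [smul_smul, mul_inv_cancel₀ (mul_ne_zero hd0 hd0), one_smul]
    rcases hS with hS | ⟨h1, h2⟩
    · left
      rw [eX, hS, smul_smul]
      congr 1
      field_simp
    · refine Or.inr ⟨fun e => h1 ?_, fun e => h2 ?_⟩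
      · rw [trace_smul, e, smul_eq_mul]; field_simp
      · rw [e, smul_neg, smul_smul]; congr 2; field_simp
  obtain ⟨A, B, hA, hB, hAB⟩ := exists_class_pair hτ hg hdet hX
  have hAu : IsUnit A.det := isUnit_of_inC hg hA
  have hBu : IsUnit B.det := isUnit_of_inC hg hB
  set c := lv h (Matrix.GeneralLinearGroup.mk'' (comp2 τ d) hc)
  have conjd : ∀ (C : M₂) (hC : InC τ d C) (hCu : IsUnit C.det),
      ∃ z : GG F, lv h (Matrix.GeneralLinearGroup.mk'' C hCu) = z * c * z⁻¹ := by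
    intro C hC hCu
    have hns : ¬ ∃ k : F, C = k • (1 : M₂) := by
      rintro ⟨k, rfl⟩
      exact apply_one_zero_ne hg hC (by simp)
    obtain ⟨P, hP, hCP⟩ := exists_conj_comp2 hns
    rw [hC.1, hC.2] at hCP
    refine ⟨lv h (Matrix.GeneralLinearGroup.mk'' P hP), ?_⟩
    rw [eq_mul_inv_iff_mul_eq, ← map_mul, ← map_mul]
    congr 1
    exact Units.ext hCP
  have hsplit : lv h X = lv h (Matrix.GeneralLinearGroup.mk'' A hAu) *
      lv h (Matrix.GeneralLinearGroup.mk'' B hBu) := by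
    rw [← map_mul]
    congr 1
    exact Units.ext hAB.symm
  obtain ⟨zv, hzv⟩ := (conj_of_rad h hg (X := Matrix.GeneralLinearGroup.mk'' A hAu) hA (Or.inr rfl) hv).1
  obtain ⟨zu, hzu⟩ := (conj_of_rad h hg (X := Matrix.GeneralLinearGroup.mk'' B hBu) hB (Or.inl rfl) hu).2
  obtain ⟨za, hza⟩ := conjd A hA hAu
  obtain ⟨zb, hzb⟩ := conjd B hB hBu
  refine ⟨zv * za, zu * zb, ?_⟩
  rw [show v * lv h X * u = (v * lv h (Matrix.GeneralLinearGroup.mk'' A hAu)) *
    (lv h (Matrix.GeneralLinearGroup.mk'' B hBu) * u) by rw [hsplit]; group, hzv, hzu, hza, hzb]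
  group

/-! ### Images of the plane through a point -/

set_option maxHeartbeats 1600000 in
theorem mx_n9 : mx (nn7 9 (1 : F)) = !![0, 0, 0, 0, 0, 0, 1; 0, 0, 0, 0, 1, 0, 0; 0, 0, 0, 0, 0, 1, 0;
    0, 0, 0, -1, 0, 0, 0; 0, -1, 0, 0, 0, 0, 0; 0, 0, -1, 0, 0, 0, 0; 1, 0, 0, 0, 0, 0, 0] := by
  rw [mx, psi_nn7, show chevG2.neg 9 = 2 by decide +kernel]
  ext i j
  fin_cases i <;> fin_cases j <;>
    simp [m7, g2Rep, g2Ent, Tm.ev, Matrix.mul_apply, Fin.sum_univ_seven, matUnit_apply, Matrix.one_apply] <;>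
      first
        | ring1
        | (ring_nf; simp)

set_option maxHeartbeats 1600000 in
theorem mx_n10 : mx (nn7 10 (1 : F)) = !![0, 0, 0, 0, 1, 0, 0; 0, 1, 0, 0, 0, 0, 0; 0, 0, 0, 0, 0, 0, -1;
    0, 0, 0, 1, 0, 0, 0; -1, 0, 0, 0, 0, 0, 0; 0, 0, 0, 0, 0, 1, 0; 0, 0, 1, 0, 0, 0, 0] := by
  rw [mx, psi_nn7, show chevG2.neg 10 = 1 by decide +kernel]
  ext i j
  fin_cases i <;> fin_cases j <;>
    simp [m7, g2Rep, g2Ent, Tm.ev, Matrix.mul_apply, Fin.sum_univ_seven, matUnit_apply, Matrix.one_apply]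

set_option maxHeartbeats 1600000 in
theorem mx_n7 : mx (nn7 7 (1 : F)) = !![0, 1, 0, 0, 0, 0, 0; -1, 0, 0, 0, 0, 0, 0; 0, 0, 0, 0, 1, 0, 0;
    0, 0, 0, -1, 0, 0, 0; 0, 0, 1, 0, 0, 0, 0; 0, 0, 0, 0, 0, 0, 1; 0, 0, 0, 0, 0, -1, 0] := by
  rw [mx, psi_nn7, show chevG2.neg 7 = 4 by decide +kernel]
  ext i j
  fin_cases i <;> fin_cases j <;>
    simp [m7, g2Rep, g2Ent, Tm.ev, Matrix.mul_apply, Fin.sum_univ_seven, matUnit_apply, Matrix.one_apply] <;>
      first
        | ring1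
        | (ring_nf; simp)

/-- The three rows which may be occupied. -/
theorem support {g n : GG F} {β ε : F} {k p q : Fin 7} (hg : mx g *ᵥ Pi.single 0 1 = Pi.single k β)
    (hn : mx n *ᵥ Pi.single 0 1 = Pi.single k ε) (hε : ε ≠ 0)
    (hs : ∀ i l, i ≠ k → i ≠ p → i ≠ q → l ≤ 2 → mx n i l = 0) :
    ∀ i j, i ≠ k → i ≠ p → i ≠ q → (j = 1 ∨ j = 2) → mx g i j = 0 := by
  intro i j hik hip hiq hj
  have hl : mx (n⁻¹ * g) *ᵥ Pi.single 0 1 = (β / ε) • Pi.single 0 1 := by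
    rw [mx_mul, ← Matrix.mulVec_mulVec, hg]
    have : (Pi.single k β : Fin 7 → F) = (β / ε) • (mx n *ᵥ Pi.single 0 1) := by
      rw [hn, ← Pi.single_smul', smul_eq_mul, div_mul_cancel₀ _ hε]
    rw [this, Matrix.mulVec_smul, Matrix.mulVec_mulVec, mx_inv_mul, Matrix.one_mulVec]
  have hf := fix_line_plane hl j hj
  have e : mx g = mx n * mx (n⁻¹ * g) := by rw [← mx_mul, mul_inv_cancel_left]
  rw [e, Matrix.mul_apply]
  refine Finset.sum_eq_zero fun l _ => ?_
  rcases le_or_gt l 2 with h | h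
  · rw [hs i l hik hip hiq h, zero_mul]
  · rw [hf l h, mul_zero]

/-- The matrix which transforms the two rows into a Schur complement. -/
noncomputable def kM (k p q : Fin 7) (Y : Matrix (Fin 7) (Fin 7) F) : M₂ :=
  !![Y 1 p - Y 1 k * Y 0 p / Y 0 k, Y 1 q - Y 1 k * Y 0 q / Y 0 k;
    Y 2 p - Y 2 k * Y 0 p / Y 0 k, Y 2 q - Y 2 k * Y 0 q / Y 0 k]

/-- The two rows. -/
def rows2 (p q : Fin 7) (M : Matrix (Fin 7) (Fin 7) F) : M₂ := !![M p 1, M p 2; M q 1, M q 2]

theorem schur_conj {g y : GG F} (hy : y ∈ rad phi7) {β : F} (hβ : β ≠ 0) {k p q : Fin 7}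
    (hkp : k ≠ p) (hkq : k ≠ q) (hpq : p ≠ q) (hg : mx g *ᵥ Pi.single 0 1 = Pi.single k β)
    (hs : ∀ i j, i ≠ k → i ≠ p → i ≠ q → (j = 1 ∨ j = 2) → mx g i j = 0) (hT : mx y 0 k ≠ 0) :
    mx (y * g * y⁻¹) 0 0 = β * mx y 0 k ∧
      schur (mx (y * g * y⁻¹)) = kM k p q (mx y) * rows2 p q (mx g) := by
  classical
  have hgc : ∀ i, mx g i 0 = if i = k then β else 0 := fun i => by
    have := congrFun hg i
    simpa [Pi.single_apply] using this
  have yb := mem_rad (inv_mem hy)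
  have y0 := upper_col_zero (inv_mem hy)
  have h0 : ∀ i, mx (y * g * y⁻¹) i 0 = β * mx y i k := by
    intro i
    rw [mx_mul, mx_mul, Matrix.mul_apply, Finset.sum_eq_single (0 : Fin 7) (fun l _ hl => by
      rw [y0 l, if_neg hl, mul_zero]) (by simp), y0 0, if_pos rfl, mul_one, Matrix.mul_apply,
      Finset.sum_eq_single k (fun l _ hl => by rw [hgc l, if_neg hl, mul_zero]) (by simp), hgc k,
      if_pos rfl, mul_comm]
  have h12 : ∀ i j, (j = 1 ∨ j = 2) → mx (y * g * y⁻¹) i j =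
      mx y i p * mx g p j + mx y i q * mx g q j + (mx g k j + β * mx y⁻¹ 0 j) * mx y i k := by
    intro i j hj
    have hcol : ∀ l, mx y⁻¹ l j = (if l = 0 then mx y⁻¹ 0 j else 0) + if l = j then 1 else 0 := by
      intro l
      by_cases hl : l = 0
      · subst hl
        rw [if_pos rfl, if_neg (by rcases hj with rfl | rfl <;> decide), add_zero]
      · rw [if_neg hl, zero_add, yb l j, Matrix.one_apply]
        revert hl
        rcases hj with rfl | rfl <;> fin_cases l <;> simp [phi7]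
    have e1 : ∀ l, (mx y * mx g) i l = mx y i k * mx g k l + (mx y i p * mx g p l + mx y i q * mx g q l) +
        ∑ m ∈ ((Finset.univ.erase k).erase p).erase q, mx y i m * mx g m l := by
      intro l
      rw [Matrix.mul_apply, ← Finset.add_sum_erase _ _ (Finset.mem_univ k),
        ← Finset.add_sum_erase _ _ (Finset.mem_erase.2 ⟨hkp.symm, Finset.mem_univ p⟩),
        ← Finset.add_sum_erase _ _ (Finset.mem_erase.2 ⟨hpq.symm, Finset.mem_erase.2
          ⟨hkq.symm, Finset.mem_univ q⟩⟩)]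
      ring
    have e2 : (mx y * mx g) i j = mx y i k * mx g k j + (mx y i p * mx g p j + mx y i q * mx g q j) := by
      rw [e1, Finset.sum_eq_zero, add_zero]
      intro m hm
      simp only [Finset.mem_erase, Finset.mem_univ, and_true] at hm
      rw [hs m j hm.2.2 hm.2.1 hm.1 hj, mul_zero]
    have e3 : (mx y * mx g) i 0 = mx y i k * β := by
      rw [Matrix.mul_apply, Finset.sum_eq_single k (fun l _ hl => by rw [hgc l, if_neg hl, mul_zero])
        (by simp), hgc k, if_pos rfl]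
    rw [mx_mul, mx_mul, Matrix.mul_apply]
    generalize mx y⁻¹ 0 j = r at hcol ⊢
    simp only [hcol, mul_add, mul_ite, mul_zero, mul_one, Finset.sum_add_distrib, Finset.sum_ite_eq',
      Finset.mem_univ, if_true]
    rw [e2, e3]
    ring
  refine ⟨h0 0, ?_⟩
  rw [kM, mul2]
  ext i j
  fin_cases i <;> fin_cases j <;>
    simp [schur, rows2, h0, h12] <;> field_simp <;> ring

theorem det_rows {g y : GG F} (h : ∃ a : F, a ≠ 0 ∧ a ≠ 1) (hy : y ∈ rad phi7) {β : F} (hβ : β ≠ 0)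
    {k p q : Fin 7} (hkp : k ≠ p) (hkq : k ≠ q) (hpq : p ≠ q)
    (hg : mx g *ᵥ Pi.single 0 1 = Pi.single k β)
    (hs : ∀ i j, i ≠ k → i ≠ p → i ≠ q → (j = 1 ∨ j = 2) → mx g i j = 0) (hT : mx y 0 k ≠ 0) :
    (kM k p q (mx y)).det * (rows2 p q (mx g)).det = β * mx y 0 k := by
  obtain ⟨h1, h2⟩ := schur_conj hy hβ hkp hkq hpq hg hs hT
  rw [← det_mul, ← h2, schur_det h _ (by rw [h1]; exact mul_ne_zero hβ hT), h1]

variable [Fintype F]

/-- A conjugate with good Levi component. -/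
theorem good_conj (h3 : 3 ≤ Fintype.card F) (h : ∃ a : F, a ≠ 0 ∧ a ≠ 1) {δ : F} (hδ0 : δ ≠ 0)
    (hδ1 : δ ≠ 1) {g : GG F} {β : F} (hβ : β ≠ 0) {k : Fin 7} (hk : k = 1 ∨ k = 4 ∨ k = 6)
    (hg : mx g *ᵥ Pi.single 0 1 = Pi.single k β) :
    ∃ y : GG F, mx (y * g * y⁻¹) 0 0 = δ * δ ∧ GoodS δ (schur (mx (y * g * y⁻¹))) := by
  have hR : δ * δ / β ≠ 0 := div_ne_zero (mul_ne_zero hδ0 hδ0) hβ
  set R := δ * δ / β with hRdef
  have hβR : β * R = δ * δ := mul_div_cancel₀ _ hβ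
  rcases hk with rfl | rfl | rfl
  · have hs := support (p := 0) (q := 4) hg (n := nn7 7 1) (ε := -1)
      (by rw [mx_n7]; ext i; fin_cases i <;> simp) (by simp)
      (by intro i l; fin_cases i <;> fin_cases l <;> simp [mx_n7])
    have hdet := det_rows h (yu_mem R 0 0 0 0) hβ (by decide) (by decide) (by decide) hg hs
      (by simp [mx_yu, hR])
    have hk0 : (kM 1 0 4 (mx (yu R 0 0 0 0))).det = -R := by
      simp [kM, mx_yu, det_fin_two]
      field_simp
    rw [hk0] at hdet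
    obtain ⟨e, he⟩ := shape_one hδ0 hR (A := rows2 0 4 (mx g))
      (by rw [hdet, ← hβR]; simp [mx_yu])
    obtain ⟨h1, h2⟩ := schur_conj (yu_mem R 0 0 e 0) hβ (by decide) (by decide) (by decide) hg hs
      (by simp [mx_yu, hR])
    refine ⟨_, by rw [h1, ← hβR]; simp [mx_yu], ?_⟩
    rw [h2]
    convert he using 3
    ext i j
    fin_cases i <;> fin_cases j <;> simp [kM, mx_yu] <;> ring
  · have hs := support (p := 1) (q := 6) hg (n := nn7 10 1) (ε := -1)
      (by rw [mx_n10]; ext i; fin_cases i <;> simp) (by simp)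
      (by intro i l; fin_cases i <;> fin_cases l <;> simp [mx_n10])
    have hdet := det_rows h (yu_mem 0 0 0 R 0) hβ (by decide) (by decide) (by decide) hg hs
      (by simp [mx_yu, hR])
    have hA : (rows2 1 6 (mx g)).det ≠ 0 := fun h0 => by
      rw [h0, mul_zero] at hdet
      exact mul_ne_zero hβ hR (by simpa [mx_yu] using hdet.symm)
    obtain ⟨f, hf | hf⟩ := shape_two hδ0 hR hA
    · obtain ⟨h1, h2⟩ := schur_conj (yu_mem 0 0 0 R f) hβ (by decide) (by decide) (by decide) hg hs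
        (by simp [mx_yu, hR])
      refine ⟨_, by rw [h1, ← hβR]; simp [mx_yu], ?_⟩
      rw [h2]
      convert hf using 3
      ext i j
      fin_cases i <;> fin_cases j <;> simp [kM, mx_yu]
    · obtain ⟨h1, h2⟩ := schur_conj (yu_mem 1 0 0 R f) hβ (by decide) (by decide) (by decide) hg hs
        (by simp [mx_yu, hR])
      refine ⟨_, by rw [h1, ← hβR]; simp [mx_yu], ?_⟩
      rw [h2]
      convert hf using 3
      ext i j
      fin_cases i <;> fin_cases j <;> simp [kM, mx_yu, tF] <;> field_simp <;> ring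
  · have hs := support (p := 4) (q := 5) hg (n := nn7 9 1) (ε := 1)
      (by rw [mx_n9]; ext i; fin_cases i <;> simp) one_ne_zero
      (by intro i l; fin_cases i <;> fin_cases l <;> simp [mx_n9])
    have ht0 : tF (1 : F) 0 0 0 (-R) = R := by simp [tF]
    have hdet := det_rows h (yu_mem 1 0 0 0 (-R)) hβ (by decide) (by decide) (by decide) hg hs
      (by simp [mx_yu, ht0, hR])
    have hk0 : (kM 6 4 5 (mx (yu 1 0 0 0 (-R)))).det = R := by
      simp [kM, mx_yu, ht0, det_fin_two]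
    rw [hk0] at hdet
    obtain ⟨a, b, c, e, f, hT, hgood⟩ := shape_three h3 hδ0 hδ1 hR (A := rows2 4 5 (mx g))
      (by rw [mul_comm, hdet, ← hβR]; simp [mx_yu, ht0])
    obtain ⟨h1, h2⟩ := schur_conj (yu_mem a b c e f) hβ (by decide) (by decide) (by decide) hg hs
      (by simp [mx_yu, hT, hR])
    refine ⟨_, by rw [h1, ← hβR]; simp [mx_yu, hT], ?_⟩
    rw [h2]
    convert hgood using 3
    ext i j
    fin_cases i <;> fin_cases j <;> simp [kM, kF, mx_yu]

omit [Fintype F] in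
/-- An element fixing all singular lines is trivial. -/
theorem exists_moved (h : ∃ a : F, a ≠ 0 ∧ a ≠ 1) {g : GG F} (hg : g ≠ 1) :
    ∃ v : Fin 7 → F, v ≠ 0 ∧ Q v = 0 ∧ ∀ l : F, mx g *ᵥ v ≠ l • v := by
  by_contra hno
  push Not at hno
  have col : ∀ i : Fin 7, i ≠ 3 → ∃ l : F, ∀ j, mx g j i = if j = i then l else 0 := by
    intro i hi
    obtain ⟨l, hl⟩ := hno (Pi.single i 1) (by simp) (by fin_cases i <;> simp [Q] at hi ⊢)
    refine ⟨l, fun j => ?_⟩
    have := congrFun hl j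
    simpa [Matrix.mulVec_single_one, Pi.single_apply] using this
  obtain ⟨l0, c0⟩ := col 0 (by decide)
  obtain ⟨l1, c1⟩ := col 1 (by decide)
  obtain ⟨l5, c5⟩ := col 5 (by decide)
  obtain ⟨l6, c6⟩ := col 6 (by decide)
  obtain ⟨A, -, hA⟩ := levi_form g (fun i hi => by rw [c0, if_neg hi]) (fun i hi => by rw [c6, if_neg hi])
  obtain ⟨l2, c2⟩ := col 2 (by decide)
  obtain ⟨l4, c4⟩ := col 4 (by decide)
  have c3 : ∀ j, mx g j 3 = if j = 3 then 1 else 0 := by
    intro j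
    rw [hA]
    fin_cases j <;> simp [lvMat]
  apply hg
  refine mx_inj h ?_
  obtain ⟨la, ha⟩ := hno ![1, 0, 0, 1, 0, 0, 1] (fun h0 => by simpa using congrFun h0 0) (by simp [Q])
  obtain ⟨lb, hb⟩ := hno ![0, 1, 0, 1, 0, -1, 0] (fun h0 => by simpa using congrFun h0 1) (by simp [Q])
  obtain ⟨lc, hc⟩ := hno ![0, 0, 1, 1, 1, 0, 0] (fun h0 => by simpa using congrFun h0 2) (by simp [Q])
  have a0 := congrFun ha 0
  have a3 := congrFun ha 3
  have a6 := congrFun ha 6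
  have b1 := congrFun hb 1
  have b3 := congrFun hb 3
  have b5 := congrFun hb 5
  have d2 := congrFun hc 2
  have d3 := congrFun hc 3
  have d4 := congrFun hc 4
  simp [Matrix.mulVec, dotProduct, Fin.sum_univ_seven, c0, c1, c2, c3, c4, c5, c6]
    at a0 a3 a6 b1 b3 b5 d2 d3 d4
  rw [mx_one]
  ext i j
  fin_cases j <;> simp [c0, c1, c2, c3, c4, c5, c6, Matrix.one_apply, a0, a6, b1, b5, d2, d4, ← a3, ← b3,
    ← d3]

omit [Fintype F] in
theorem conj_col {g z : GG F} {w : Fin 7 → F} {β : F} {k : Fin 7} (hz : z ∈ rad phi7)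
    (hg : mx g *ᵥ Pi.single 0 1 = w) (hw : ∀ i, w i = β * mx z i k) :
    mx (z⁻¹ * g * z) *ᵥ Pi.single 0 1 = Pi.single k β := by
  have hz0 : mx z *ᵥ Pi.single 0 1 = Pi.single 0 (1 : F) := by
    funext i
    rw [mulVec_single_apply, upper_col_zero hz, Pi.single_apply]
  have hw' : w = β • (mx z *ᵥ Pi.single k 1) := funext fun i => by
    rw [Pi.smul_apply, mulVec_single_apply, smul_eq_mul, hw]
  rw [mx_mul, mx_mul, ← Matrix.mulVec_mulVec, ← Matrix.mulVec_mulVec, hz0, hg, hw', Matrix.mulVec_smul,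
    Matrix.mulVec_mulVec, mx_inv_mul, Matrix.one_mulVec, ← Pi.single_smul', smul_eq_mul, mul_one]

omit [Fintype F] in
/-- Normal forms of the image of the base point. -/
theorem exists_shape (h : ∃ a : F, a ≠ 0 ∧ a ≠ 1) {g : GG F}
    (hg : ∀ l : F, mx g *ᵥ Pi.single 0 1 ≠ l • Pi.single 0 1) :
    ∃ (z : GG F) (k : Fin 7) (β : F), β ≠ 0 ∧ (k = 1 ∨ k = 4 ∨ k = 6) ∧
      mx (z * g * z⁻¹) *ᵥ Pi.single 0 1 = Pi.single k β := by
  set w := mx g *ᵥ Pi.single 0 1 with hw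
  have hQ : ∀ g' : GG F, Q (mx g' *ᵥ Pi.single 0 1) = 0 := fun g' => by
    rw [mx, Q_psi]; simp [Q]
  by_cases h6 : w 6 = 0
  swap
  · set a := w 5 / w 6 with ha
    set b := w 4 / w 6 with hb
    set c := -(a * b) - w 3 / w 6 with hc
    set e := a * c - w 2 / w 6 with he
    set f := -(a * b * b) + b * c - w 1 / w 6 with hf
    refine ⟨(yu a b c e f)⁻¹, 6, w 6, h6, Or.inr (Or.inr rfl), ?_⟩
    rw [inv_inv]
    refine conj_col (yu_mem _ _ _ _ _) hw.symm fun i => ?_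
    have hq := hQ g
    rw [← hw] at hq
    simp only [Q] at hq
    rw [mx_yu]
    fin_cases i
    · simp [tF, hf, he, hc, hb, ha]
      field_simp
      linear_combination (w 6) ^ 2 * hq
    all_goals simp [hf, he, hc, hb, ha]
    all_goals field_simp
  -- move by the Levi subgroup
  have move : ∀ (P : M₂) (hP : IsUnit P.det),
      mx (lv h (Matrix.GeneralLinearGroup.mk'' P hP) * g *
        (lv h (Matrix.GeneralLinearGroup.mk'' P hP))⁻¹) *ᵥ Pi.single 0 1 = P.det • (lvMat P *ᵥ w) := by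
    intro P hP
    rw [← map_inv, mx_mul, mx_mul, ← Matrix.mulVec_mulVec]
    have e0 : mx (lv h (Matrix.GeneralLinearGroup.mk'' P hP)⁻¹) *ᵥ Pi.single 0 1 =
        P.det • Pi.single 0 (1 : F) := by
      rw [mx_lv]
      have hval : ((Matrix.GeneralLinearGroup.mk'' P hP)⁻¹ : GL (Fin 2) F).1 = P⁻¹ := by
        rw [Matrix.coe_units_inv]; rfl
      rw [hval]
      funext i
      fin_cases i <;> simp [lvMat, det_nonsing_inv]
    rw [e0, Matrix.mulVec_smul, ← Matrix.mulVec_mulVec, ← hw, mx_lv]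
    rfl
  by_cases h45 : w 4 = 0 ∧ w 5 = 0
  · obtain ⟨h4, h5⟩ := h45
    have h3 : w 3 = 0 := by
      have := hQ g
      rw [← hw] at this
      simpa [Q, h4, h5, h6] using this
    obtain ⟨P, hP, hP0, hP1⟩ : ∃ P : M₂, IsUnit P.det ∧
        P 1 0 * w 1 + P 1 1 * w 2 = 0 ∧ P 0 0 * w 1 + P 0 1 * w 2 ≠ 0 := by
      by_cases h1 : w 1 = 0
      · have h2 : w 2 ≠ 0 := by
          intro h2
          refine hg (w 0) (funext fun i => ?_)
          fin_cases i <;> simp [h1, h2, h3, h4, h5, h6, Pi.single_apply]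
        exact ⟨!![0, 1; 1, 0], by simp [det_fin_two], by simp [h1], by simp [h2]⟩
      · exact ⟨!![1, 0; -w 2, w 1], by simpa [det_fin_two] using h1, by simp; ring, by simpa using h1⟩
    set L := lv h (Matrix.GeneralLinearGroup.mk'' P hP)
    have hd := hP.ne_zero
    set β := P 0 0 * w 1 + P 0 1 * w 2
    refine ⟨(yu (w 0 / β) 0 0 0 0)⁻¹ * L, 1, β, hP1, Or.inl rfl, ?_⟩
    rw [show (yu (w 0 / β) 0 0 0 0)⁻¹ * L * g * ((yu (w 0 / β) 0 0 0 0)⁻¹ * L)⁻¹ =
      (yu (w 0 / β) 0 0 0 0)⁻¹ * (L * g * L⁻¹) * yu (w 0 / β) 0 0 0 0 by group]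
    refine conj_col (yu_mem _ _ _ _ _) (move P hP) fun i => ?_
    rw [mx_yu]
    fin_cases i <;>
      simp [lvMat, Matrix.mulVec, dotProduct, Fin.sum_univ_seven, h3, h4, h5, h6]
    · field_simp
    · field_simp
      rfl
    · field_simp
      exact Or.inr (by linear_combination hP0)
  · obtain ⟨P, hP, hP0, hP1⟩ : ∃ P : M₂, IsUnit P.det ∧
        P 1 0 * w 4 + P 1 1 * w 5 = 0 ∧ P 0 0 * w 4 + P 0 1 * w 5 ≠ 0 := by
      by_cases h4 : w 4 = 0
      · have h5 : w 5 ≠ 0 := fun h5 => h45 ⟨h4, h5⟩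
        exact ⟨!![0, 1; 1, 0], by simp [det_fin_two], by simp [h4], by simp [h5]⟩
      · exact ⟨!![1, 0; -w 5, w 4], by simpa [det_fin_two] using h4, by simp; ring, by simpa using h4⟩
    set L := lv h (Matrix.GeneralLinearGroup.mk'' P hP)
    have hd := hP.ne_zero
    set g1 := L * g * L⁻¹ with hg1
    set v := mx g1 *ᵥ Pi.single 0 1 with hv
    have hv' : v = P.det • (lvMat P *ᵥ w) := move P hP
    have v6 : v 6 = 0 := by
      rw [hv']; simp [lvMat, Matrix.mulVec, dotProduct, Fin.sum_univ_seven, h6]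
    have v5 : v 5 = 0 := by
      rw [hv']; simp [lvMat, Matrix.mulVec, dotProduct, Fin.sum_univ_seven]
      exact Or.inr hP0
    have v4 : v 4 ≠ 0 := by
      rw [hv']; simp [lvMat, Matrix.mulVec, dotProduct, Fin.sum_univ_seven]
      exact ⟨hd, hP1⟩
    set a := v 3 / v 4 with ha
    set c := v 1 / v 4 with hc
    set e := v 0 / v 4 + 2 * a * c with he
    refine ⟨(yu a 0 c e 0)⁻¹ * L, 4, v 4, v4, Or.inr (Or.inl rfl), ?_⟩
    rw [show (yu a 0 c e 0)⁻¹ * L * g * ((yu a 0 c e 0)⁻¹ * L)⁻¹ =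
      (yu a 0 c e 0)⁻¹ * g1 * yu a 0 c e 0 by rw [hg1]; group]
    refine conj_col (yu_mem _ _ _ _ _) hv.symm fun i => ?_
    have hq := hQ g1
    rw [← hv] at hq
    simp only [Q, v5, v6] at hq
    rw [mx_yu]
    fin_cases i <;> simp [he, hc, ha, v5, v6]
    all_goals field_simp
    linear_combination hq

/-- The main statement. -/
theorem exists_two (h3 : 3 ≤ Fintype.card F) (h : ∃ a : F, a ≠ 0 ∧ a ≠ 1) {τ d : F} (hτ : τ ≠ 0)
    (hg : Good τ d) (hc : IsUnit (comp2 τ d).det) {g : GG F} (hg1 : g ≠ 1) :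
    ∃ u v : GG F, g = (u * lv h (Matrix.GeneralLinearGroup.mk'' (comp2 τ d) hc) * u⁻¹) *
      (v * lv h (Matrix.GeneralLinearGroup.mk'' (comp2 τ d) hc) * v⁻¹) := by
  obtain ⟨x, hx, hQx, hmove⟩ := exists_moved h hg1
  obtain ⟨y₀, c₀, hc₀, hy₀⟩ := exists_move hx hQx
  have hne : ∀ l : F, mx (y₀ * g * y₀⁻¹) *ᵥ Pi.single 0 1 ≠ l • Pi.single 0 1 := by
    intro l hl
    apply hmove l
    have e1 : mx y₀⁻¹ *ᵥ (Pi.single 0 c₀) = x := by
      rw [← hy₀, Matrix.mulVec_mulVec, mx_inv_mul, Matrix.one_mulVec]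
    have hs : (Pi.single 0 c₀ : Fin 7 → F) = c₀ • Pi.single 0 1 := by
      rw [← Pi.single_smul', smul_eq_mul, mul_one]
    have e2 : mx (y₀ * g * y₀⁻¹) *ᵥ Pi.single 0 c₀ = l • Pi.single 0 c₀ := by
      rw [hs, Matrix.mulVec_smul, hl, smul_comm]
    rw [mx_mul, mx_mul, ← Matrix.mulVec_mulVec, ← Matrix.mulVec_mulVec, e1] at e2
    have e3 := congrArg (fun z => mx y₀⁻¹ *ᵥ z) e2
    simp only [Matrix.mulVec_smul, e1, Matrix.mulVec_mulVec, ← Matrix.mul_assoc] at e3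
    rw [mx_inv_mul, Matrix.one_mul] at e3
    exact e3
  obtain ⟨z, k, β, hβ, hk, hcol⟩ := exists_shape h hne
  have hd0 := hg.1
  obtain ⟨y, h00, hS⟩ := good_conj h3 h (δ := d⁻¹) (inv_ne_zero hd0)
    (fun e => hg.2.1 (inv_eq_one.1 e)) hβ hk hcol
  set m := y * z * y₀ with hm
  have hmg : m * g * m⁻¹ = y * (z * (y₀ * g * y₀⁻¹) * z⁻¹) * y⁻¹ := by rw [hm]; group
  obtain ⟨u, v, huv⟩ := of_good h hτ hg hc (m * g * m⁻¹)
    (by rw [hmg]; exact h00) (by rw [hmg]; exact hS)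
  refine ⟨m⁻¹ * u, m⁻¹ * v, ?_⟩
  have e : g = m⁻¹ * (m * g * m⁻¹) * m := by group
  rw [e, huv]
  group

end Cfsg.Agent.Small.GTwoThompson
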