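import Cfsg.Agent.Lib.Small.GTwoThompsonLin
import Cfsg.Agent.Lib.Lie.G2Orders.Conj
import Cfsg.Agent.Lib.Lie.G2Orders.Exist
import Cfsg.Agent.Lib.Lie.Parabolic

/-!
The Levi subgroup `GL₂` of the point stabiliser in the group of type G2, in the seven-dimensional
representation, and its elliptic elements.
-/

set_option autoImplicit false
set_option maxRecDepth 100000
set_option linter.unusedSimpArgs false

open Matrix
open scoped MatrixGroups

namespace Cfsg.Agent.Small.GTwoThompson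

open Cfsg.Lie Cfsg.Agent.Lie Cfsg.Agent.Lie.G2Orders Cfsg.Agent.Small.SpFourThompson

variable {F : Type*} [Field F]

local notation "M₂" => Matrix (Fin 2) (Fin 2) F

/-- The block `GL₂` inside `SL₃`. -/
noncomputable def lift3 : GL (Fin 2) F →* SpecialLinearGroup (Fin 3) F where
  toFun X := ⟨!![((X : M₂).det)⁻¹, 0, 0; 0, (X : M₂) 0 0, (X : M₂) 0 1; 0, (X : M₂) 1 0, (X : M₂) 1 1], by
    have h0 : (X : M₂).det ≠ 0 := ((X : M₂).isUnit_iff_isUnit_det.1 X.isUnit).ne_zero
    rw [Matrix.det_fin_two] at h0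
    rw [Matrix.det_fin_three]
    simp [Matrix.det_fin_two]
    field_simp⟩
  map_one' := Subtype.ext (by
    simp only [Units.val_one, Matrix.det_one, inv_one]
    ext i j; fin_cases i <;> fin_cases j <;> simp)
  map_mul' X Y := Subtype.ext (by
    show !![((X * Y : GL (Fin 2) F) : M₂).det⁻¹, 0, 0;
        0, ((X * Y : GL (Fin 2) F) : M₂) 0 0, ((X * Y : GL (Fin 2) F) : M₂) 0 1;
        0, ((X * Y : GL (Fin 2) F) : M₂) 1 0, ((X * Y : GL (Fin 2) F) : M₂) 1 1] =
      !![(X : M₂).det⁻¹, 0, 0; 0, (X : M₂) 0 0, (X : M₂) 0 1; 0, (X : M₂) 1 0, (X : M₂) 1 1] *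
        !![(Y : M₂).det⁻¹, 0, 0; 0, (Y : M₂) 0 0, (Y : M₂) 0 1; 0, (Y : M₂) 1 0, (Y : M₂) 1 1]
    simp only [Units.val_mul, Matrix.det_mul, _root_.mul_inv_rev]
    ext i j; fin_cases i <;> fin_cases j <;>
      simp [Matrix.mul_apply, Fin.sum_univ_two, Fin.sum_univ_three, mul_comm])

theorem coe_lift3 (X : GL (Fin 2) F) : (lift3 X : Matrix (Fin 3) (Fin 3) F) =
    !![((X : M₂).det)⁻¹, 0, 0; 0, (X : M₂) 0 0, (X : M₂) 0 1; 0, (X : M₂) 1 0, (X : M₂) 1 1] := rfl

/-- The element of the Levi subgroup. -/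
noncomputable def lv (h : ∃ a : F, a ≠ 0 ∧ a ≠ 1) : GL (Fin 2) F →* GG F := (sl3Hom h).comp lift3

/-- Its matrix. -/
noncomputable def lvMat (A : M₂) : Matrix (Fin 7) (Fin 7) F :=
  !![A.det⁻¹, 0, 0, 0, 0, 0, 0;
    0, A 0 0 / A.det, A 0 1 / A.det, 0, 0, 0, 0;
    0, A 1 0 / A.det, A 1 1 / A.det, 0, 0, 0, 0;
    0, 0, 0, 1, 0, 0, 0;
    0, 0, 0, 0, A 0 0, A 0 1, 0;
    0, 0, 0, 0, A 1 0, A 1 1, 0;
    0, 0, 0, 0, 0, 0, A.det]

theorem mx_lv (h : ∃ a : F, a ≠ 0 ∧ a ≠ 1) (X : GL (Fin 2) F) : mx (lv h X) = lvMat (X : M₂) := by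
  show mx (sl3 (lift3 X)) = _
  have hd : (X : M₂).det ≠ 0 := ((X : M₂).isUnit_iff_isUnit_det.1 X.isUnit).ne_zero
  rw [mx_sl3, G2Seven.emb]
  have hdual : G2Seven.dual (lift3 X) =
      !![(X : M₂).det, 0, 0; 0, (X : M₂) 1 1 / (X : M₂).det, (X : M₂) 1 0 / (X : M₂).det;
        0, (X : M₂) 0 1 / (X : M₂).det, (X : M₂) 0 0 / (X : M₂).det] := by
    show G2Seven.D3 F * ((Matrix.adjugate (!![((X : M₂).det)⁻¹, 0, 0;
        0, (X : M₂) 0 0, (X : M₂) 0 1; 0, (X : M₂) 1 0, (X : M₂) 1 1]))ᵀ * G2Seven.D3 F) = _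
    rw [Matrix.adjugate_fin_three, G2Seven.D3]
    have hd' : (X : M₂) 0 0 * (X : M₂) 1 1 - (X : M₂) 0 1 * (X : M₂) 1 0 ≠ 0 := by
      rwa [← Matrix.det_fin_two]
    ext i j
    fin_cases i <;> fin_cases j <;>
      simp [Matrix.diagonal_mul, Matrix.mul_diagonal, Matrix.det_fin_two] <;> field_simp
  rw [hdual]
  ext i j
  fin_cases i <;> fin_cases j <;> simp [lvMat, coe_lift3, G2Seven.blk]

theorem lv_eq (h : ∃ a : F, a ≠ 0 ∧ a ≠ 1) {g : GG F} {X : GL (Fin 2) F}
    (e : mx g = lvMat (X : M₂)) : g = lv h X :=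
  mx_inj h (by rw [e, mx_lv])

/-! ### Unipotent radicals -/

/-- The grading. -/
def phi7 : Fin 7 → ℤ := ![2, 1, 1, 0, -1, -1, -2]

/-- The opposite grading. -/
def phi7' : Fin 7 → ℤ := fun i => -phi7 i

/-- The radical of a grading. -/
noncomputable def rad (φ : Fin 7 → ℤ) : Subgroup (GG F) := (raiseGraded φ).comap psi

theorem mem_rad {φ : Fin 7 → ℤ} {g : GG F} (hg : g ∈ rad φ) :
    ∀ p q, ¬ φ q < φ p → mx g p q = (1 : Matrix (Fin 7) (Fin 7) F) p q := by
  intro p q hpq
  by_contra hne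
  exact hpq (hg.1 p q (by rw [Matrix.sub_apply]; exact sub_ne_zero.2 hne))

theorem mem_rad_phi {φ : Fin 7 → ℤ} (hφ : φ = phi7 ∨ φ = phi7') {g : GG F} (hg : g ∈ rad φ) :
    ∀ p q, phi7 p = phi7 q → mx g p q = (1 : Matrix (Fin 7) (Fin 7) F) p q := by
  intro p q hpq
  refine mem_rad hg p q ?_
  rcases hφ with rfl | rfl <;> simp [phi7', hpq]

theorem lv_conj_rad (h : ∃ a : F, a ≠ 0 ∧ a ≠ 1) {φ : Fin 7 → ℤ} (hφ : φ = phi7 ∨ φ = phi7')
    (X : GL (Fin 2) F) {u : GG F} (hu : u ∈ rad φ) : lv h X * u * (lv h X)⁻¹ ∈ rad φ := by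
  have key : ∀ (Y : GL (Fin 2) F) (p q : Fin 7), mx (lv h Y) p q ≠ 0 → φ p = φ q := by
    intro Y p q hne
    rw [mx_lv] at hne
    have : phi7 p = phi7 q := by
      revert hne
      fin_cases p <;> fin_cases q <;> simp [lvMat, phi7]
    rcases hφ with rfl | rfl
    · exact this
    · show -phi7 p = -phi7 q
      rw [this]
  have main : ∀ w : GG F, (∀ p q, (mx w - 1) p q ≠ 0 → φ q < φ p) →
      ∀ p q, (mx (lv h X * w * (lv h X)⁻¹) - 1) p q ≠ 0 → φ q < φ p := by
    intro w hw p q hne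
    rw [← map_inv, mx_mul, mx_mul] at hne
    have e : mx (lv h X) * mx w * mx (lv h X⁻¹) - 1 = mx (lv h X) * (mx w - 1) * mx (lv h X⁻¹) := by
      rw [Matrix.mul_sub, Matrix.mul_one, Matrix.sub_mul, ← mx_mul (lv h X) (lv h X⁻¹), ← map_mul,
        mul_inv_cancel, map_one, mx_one]
    rw [e, Matrix.mul_apply] at hne
    obtain ⟨r, -, hr⟩ := Finset.exists_ne_zero_of_sum_ne_zero hne
    have h2 := key _ _ _ (right_ne_zero_of_mul hr)
    have h1 := left_ne_zero_of_mul hr
    rw [Matrix.mul_apply] at h1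
    obtain ⟨s, -, hs⟩ := Finset.exists_ne_zero_of_sum_ne_zero h1
    rw [key _ _ _ (left_ne_zero_of_mul hs), ← h2]
    exact hw _ _ (right_ne_zero_of_mul hs)
  refine ⟨fun p q hne => main u hu.1 p q hne, fun p q hne => main u⁻¹ ?_ p q ?_⟩
  · intro p q h'
    refine hu.2 p q ?_
    rwa [mx, map_inv] at h'
  · rw [show lv h X * u⁻¹ * (lv h X)⁻¹ = (lv h X * u * (lv h X)⁻¹)⁻¹ by group, mx, map_inv]
    exact hne

/-! ### No fixed points -/

variable {τ d : F}

theorem inC_tr {A : M₂} (hA : InC τ d A) : InC τ d Aᵀ :=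
  ⟨by rw [trace_transpose]; exact hA.1, by rw [det_transpose]; exact hA.2⟩

theorem rowEig (hg : Good τ d) {A : M₂} (hA : InC τ d A) {k x y : F}
    (e1 : x * A 0 0 + y * A 1 0 = k * x) (e2 : x * A 0 1 + y * A 1 1 = k * y) : x = 0 ∧ y = 0 := by
  obtain ⟨h1, h2⟩ := hA
  rw [trace2] at h1
  rw [det_fin_two] at h2
  have hk := hg.2.2 k
  constructor
  · refine (mul_eq_zero.1 (?_ : x * (k * k - τ * k + d) = 0)).resolve_right hk
    linear_combination (A 1 1 - k) * e1 - A 1 0 * e2 + k * x * h1 - x * h2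
  · refine (mul_eq_zero.1 (?_ : y * (k * k - τ * k + d) = 0)).resolve_right hk
    linear_combination (A 0 0 - k) * e2 - A 0 1 * e1 + k * y * h1 - y * h2

theorem colEig (hg : Good τ d) {A : M₂} (hA : InC τ d A) {k x y : F}
    (e1 : A 0 0 * x + A 0 1 * y = k * x) (e2 : A 1 0 * x + A 1 1 * y = k * y) : x = 0 ∧ y = 0 := by
  refine rowEig hg (k := k) (inC_tr hA) ?_ ?_
  · simp only [transpose_apply]; linear_combination e1
  · simp only [transpose_apply]; linear_combination e2

theorem sylvester (hg : Good τ d) {A X : M₂} (hA : InC τ d A) (h : A * X = d • (X * A)) : X = 0 := by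
  have h2 : A * A = τ • A - d • (1 : M₂) := by
    obtain ⟨h1, h3⟩ := hA
    rw [trace2] at h1
    rw [det_fin_two] at h3
    ext i j
    fin_cases i <;> fin_cases j <;> simp [Matrix.mul_apply, Fin.sum_univ_two]
    · linear_combination A 0 0 * h1 - h3
    · linear_combination A 0 1 * h1
    · linear_combination A 1 0 * h1
    · linear_combination A 1 1 * h1 - h3
  have h3 : A * A * X = (d * d) • (X * (A * A)) := by
    rw [Matrix.mul_assoc, h, Matrix.mul_smul, ← Matrix.mul_assoc, h, Matrix.smul_mul, smul_smul,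
      Matrix.mul_assoc]
  rw [h2] at h3
  have e : ∀ i j, τ * (A * X) i j = d * (1 + d) * X i j := by
    intro i j
    have a := congrFun (congrFun h3 i) j
    have b := congrFun (congrFun h i) j
    simp only [Matrix.sub_mul, Matrix.mul_sub, Matrix.smul_mul, Matrix.mul_smul, Matrix.one_mul,
      Matrix.mul_one, Matrix.smul_apply, Matrix.sub_apply, smul_eq_mul] at a b
    apply mul_left_cancel₀ (sub_ne_zero.2 hg.2.1)
    linear_combination (-1 : F) * a + τ * d * b
  by_cases hτ : τ = 0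
  · have h1d : 1 + d ≠ 0 := fun h1 => hg.2.2 1 (by linear_combination h1 - hτ)
    ext i j
    have := e i j
    rw [hτ, zero_mul] at this
    exact (mul_eq_zero.1 this.symm).resolve_left (mul_ne_zero hg.1 h1d)
  · have hc : ∀ j, X 0 j = 0 ∧ X 1 j = 0 := fun j => by
      have e0 := e 0 j
      have e1 := e 1 j
      simp only [Matrix.mul_apply, Fin.sum_univ_two] at e0 e1
      refine colEig hg hA (k := d * (1 + d) / τ) ?_ ?_
      · field_simp; linear_combination e0
      · field_simp; linear_combination e1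
    ext i j
    fin_cases i
    · exact (hc j).1
    · exact (hc j).2

/-- An element with trivial diagonal blocks centralising the elliptic Levi element is trivial. -/
theorem fixed_eq_one (h : ∃ a : F, a ≠ 0 ∧ a ≠ 1) (hg : Good τ d) {X : GL (Fin 2) F}
    (hA : InC τ d (X : M₂)) {u : GG F}
    (hb : ∀ p q, phi7 p = phi7 q → mx u p q = (1 : Matrix (Fin 7) (Fin 7) F) p q)
    (hc : lv h X * u = u * lv h X) : u = 1 := by
  set A : M₂ := (X : M₂) with hAdef
  have hd0 : d ≠ 0 := hg.1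
  have hd1 : d ≠ 1 := hg.2.1
  have hdet : A.det = d := hA.2
  set N := mx u with hN
  have hcm : lvMat A * N = N * lvMat A := by
    have := congrArg mx hc
    rwa [mx_mul, mx_mul, mx_lv] at this
  have E : ∀ i j, (lvMat A * N) i j = (N * lvMat A) i j := fun i j => by rw [hcm]
  simp only [Matrix.mul_apply, Fin.sum_univ_seven] at E
  -- rows and columns
  have e01 := E 0 1
  have e02 := E 0 2
  have e03 := E 0 3
  have e04 := E 0 4
  have e05 := E 0 5
  have e10 := E 1 0
  have e20 := E 2 0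
  have e13 := E 1 3
  have e23 := E 2 3
  have e16 := E 1 6
  have e26 := E 2 6
  have e30 := E 3 0
  have e31 := E 3 1
  have e32 := E 3 2
  have e34 := E 3 4
  have e35 := E 3 5
  have e36 := E 3 6
  have e40 := E 4 0
  have e50 := E 5 0
  have e43 := E 4 3
  have e53 := E 5 3
  have e46 := E 4 6
  have e56 := E 5 6
  have e61 := E 6 1
  have e62 := E 6 2
  have e63 := E 6 3
  have e64 := E 6 4
  have e65 := E 6 5
  have e14 := E 1 4
  have e15 := E 1 5
  have e24 := E 2 4
  have e25 := E 2 5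
  have e41 := E 4 1
  have e42 := E 4 2
  have e51 := E 5 1
  have e52 := E 5 2
  simp [lvMat, hdet] at e01 e02 e03 e04 e05 e10 e20 e13 e23 e16 e26 e30 e31 e32 e34 e35 e36 e40 e50 e43 e53 e46 e56 e61 e62 e63 e64 e65 e14 e15 e24 e25 e41 e42 e51 e52
  field_simp at e01 e02 e04 e05 e10 e20 e13 e23 e16 e26 e31 e32 e40 e50 e61 e62 e14 e15 e24 e25 e41 e42 e51 e52
  have r01 := rowEig hg hA (k := 1) (x := N 0 1) (y := N 0 2) (by linear_combination -e01)
    (by linear_combination -e02)
  have r04 := rowEig hg hA (k := 1 / d) (x := N 0 4) (y := N 0 5)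
    (by field_simp; linear_combination -e04) (by field_simp; linear_combination -e05)
  have c10 := colEig hg hA (k := 1) (x := N 1 0) (y := N 2 0) (by linear_combination e10)
    (by linear_combination e20)
  have c13 := colEig hg hA (k := d) (x := N 1 3) (y := N 2 3) (by linear_combination e13)
    (by linear_combination e23)
  have c16 := colEig hg hA (k := d * d) (x := N 1 6) (y := N 2 6) (by linear_combination e16)
    (by linear_combination e26)
  have r31 := rowEig hg hA (k := d) (x := N 3 1) (y := N 3 2) (by linear_combination -e31)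
    (by linear_combination -e32)
  have r34 := rowEig hg hA (k := 1) (x := N 3 4) (y := N 3 5) (by linear_combination -e34)
    (by linear_combination -e35)
  have c40 := colEig hg hA (k := 1 / d) (x := N 4 0) (y := N 5 0)
    (by field_simp; linear_combination e40) (by field_simp; linear_combination e50)
  have c43 := colEig hg hA (k := 1) (x := N 4 3) (y := N 5 3) (by linear_combination e43)
    (by linear_combination e53)
  have c46 := colEig hg hA (k := d) (x := N 4 6) (y := N 5 6) (by linear_combination e46)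
    (by linear_combination e56)
  have r61 := rowEig hg hA (k := d * d) (x := N 6 1) (y := N 6 2) (by linear_combination -e61)
    (by linear_combination -e62)
  have r64 := rowEig hg hA (k := d) (x := N 6 4) (y := N 6 5) (by linear_combination -e64)
    (by linear_combination -e65)
  have s14 : (!![N 1 4, N 1 5; N 2 4, N 2 5] : M₂) = 0 := by
    refine sylvester hg hA ?_
    rw [mul2]
    ext i j
    fin_cases i <;> fin_cases j <;> simp [Matrix.mul_apply, Fin.sum_univ_two]
    · linear_combination e14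
    · linear_combination e15
    · linear_combination e24
    · linear_combination e25
  have s41 : (!![N 4 1, N 4 2; N 5 1, N 5 2] : M₂)ᵀ = 0 := by
    refine sylvester hg (inC_tr hA) ?_
    ext i j
    fin_cases i <;> fin_cases j <;>
      simp [Matrix.mul_apply, Fin.sum_univ_two, Matrix.transpose_apply, Matrix.vecMul,
        Matrix.vecHead, Matrix.vecTail]
    · linear_combination -e41
    · linear_combination -e51
    · linear_combination -e42
    · linear_combination -e52
  have n14 : N 1 4 = 0 := by simpa using congrFun (congrFun s14 0) 0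
  have n15 : N 1 5 = 0 := by simpa using congrFun (congrFun s14 0) 1
  have n24 : N 2 4 = 0 := by simpa using congrFun (congrFun s14 1) 0
  have n25 : N 2 5 = 0 := by simpa using congrFun (congrFun s14 1) 1
  have n41 : N 4 1 = 0 := by simpa using congrFun (congrFun s41 0) 0
  have n51 : N 5 1 = 0 := by simpa using congrFun (congrFun s41 0) 1
  have n42 : N 4 2 = 0 := by simpa using congrFun (congrFun s41 1) 0
  have n52 : N 5 2 = 0 := by simpa using congrFun (congrFun s41 1) 1
  have hsub : 1 - d ≠ 0 := sub_ne_zero.2 (Ne.symm hd1)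
  have n03 : N 0 3 = 0 := by
    refine (mul_eq_zero.1 (?_ : (1 - d) * N 0 3 = 0)).resolve_left hsub
    field_simp at e03
    linear_combination e03
  have n30 : N 3 0 = 0 := by
    refine (mul_eq_zero.1 (?_ : (1 - d) * N 3 0 = 0)).resolve_left hsub
    field_simp at e30
    linear_combination -e30
  have n36 : N 3 6 = 0 := by
    refine (mul_eq_zero.1 (?_ : (1 - d) * N 3 6 = 0)).resolve_left hsub
    linear_combination e36
  have n63 : N 6 3 = 0 := by
    refine (mul_eq_zero.1 (?_ : (1 - d) * N 6 3 = 0)).resolve_left hsub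
    linear_combination -e63
  have b : ∀ p q, phi7 p = phi7 q → N p q = (1 : Matrix (Fin 7) (Fin 7) F) p q := hb
  have q6 : Q (N *ᵥ Pi.single 6 1) = Q (Pi.single 6 (1 : F)) := Q_psi u _
  have q0 : Q (N *ᵥ Pi.single 0 1) = Q (Pi.single 0 (1 : F)) := Q_psi u _
  have b00 := b 0 0 rfl
  have b66 := b 6 6 rfl
  simp [Q, Matrix.mulVec_single_one, c16.1, c16.2, n36, c46.1, c46.2, b66] at q6
  simp [Q, Matrix.mulVec_single_one, c10.1, c10.2, n30, c40.1, c40.2, b00] at q0
  have hN1 : N = 1 := by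
    ext p q
    by_cases hpq : phi7 p = phi7 q
    · exact b p q hpq
    · rw [Matrix.one_apply_ne (fun e => hpq (by rw [e]))]
      fin_cases p <;> fin_cases q <;> first
        | exact absurd rfl hpq
        | simp [r01.1, r01.2, r04.1, r04.2, c10.1, c10.2, c13.1, c13.2, c16.1, c16.2, r31.1, r31.2,
            r34.1, r34.2, c40.1, c40.2, c43.1, c43.2, c46.1, c46.2, r61.1, r61.2, r64.1, r64.2,
            n14, n15, n24, n25, n41, n42, n51, n52, n03, n30, n36, n63, q0, q6]
  exact mx_inj h (by rw [← hN, hN1, mx_one])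

/-- The cosets of the radicals consist of conjugates. -/
theorem conj_of_rad [Fintype F] (h : ∃ a : F, a ≠ 0 ∧ a ≠ 1) (hg : Good τ d) {X : GL (Fin 2) F}
    (hA : InC τ d (X : M₂)) {φ : Fin 7 → ℤ} (hφ : φ = phi7 ∨ φ = phi7') {u : GG F}
    (hu : u ∈ rad φ) :
    (∃ z, u * lv h X = z * lv h X * z⁻¹) ∧ ∃ z, lv h X * u = z * lv h X * z⁻¹ := by
  classical
  set c := lv h X
  have hn : ∀ z ∈ rad (F := F) φ, c * z * c⁻¹ ∈ rad φ := fun z hz => lv_conj_rad h hφ X hz
  let f : ↥(rad (F := F) φ) → ↥(rad (F := F) φ) := fun z =>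
    ⟨z.1 * (c * z.1⁻¹ * c⁻¹), mul_mem z.2 (hn _ (inv_mem z.2))⟩
  have hf : Function.Injective f := by
    intro a b hab
    have e : a.1 * (c * a.1⁻¹ * c⁻¹) = b.1 * (c * b.1⁻¹ * c⁻¹) := congrArg Subtype.val hab
    have e' : a.1 * c * a.1⁻¹ = b.1 * c * b.1⁻¹ := by
      have := congrArg (· * c) e
      simpa [mul_assoc] using this
    have hc : c * (b.1⁻¹ * a.1) = b.1⁻¹ * a.1 * c := by
      calc c * (b.1⁻¹ * a.1) = b.1⁻¹ * (b.1 * c * b.1⁻¹) * a.1 := by group
        _ = _ := by rw [← e']; group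
    have := fixed_eq_one h hg hA (mem_rad_phi hφ (mul_mem (inv_mem b.2) a.2)) hc
    exact Subtype.ext (inv_mul_eq_one.1 this).symm
  haveI : Finite (GG F) := inferInstance
  have hs := Finite.surjective_of_injective hf
  constructor
  · obtain ⟨z, hz⟩ := hs ⟨u, hu⟩
    refine ⟨z.1, ?_⟩
    have e : z.1 * (c * z.1⁻¹ * c⁻¹) = u := congrArg Subtype.val hz
    rw [← e]; group
  · obtain ⟨z, hz⟩ := hs ⟨c * u * c⁻¹, hn u hu⟩
    refine ⟨z.1, ?_⟩
    have e : z.1 * (c * z.1⁻¹ * c⁻¹) = c * u * c⁻¹ := congrArg Subtype.val hz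
    calc c * u = (c * u * c⁻¹) * c := by group
      _ = _ := by rw [← e]; group

end Cfsg.Agent.Small.GTwoThompson
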