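import Cfsg.Agent.Lib.Small.SpFourThompson

/-!
Linear algebra in dimension two for the products of two conjugates of an elliptic Levi element of the group
of type G2.
-/

set_option autoImplicit false
set_option linter.unusedSimpArgs false
set_option linter.style.haveILetI false

open Matrix

namespace Cfsg.Agent.Small.GTwoThompson

open Cfsg.Agent.Small.SpFourThompson

variable {F : Type*} [Field F]

local notation "M₂" => Matrix (Fin 2) (Fin 2) F

/-- An elliptic class with non-zero trace. -/
theorem exists_good' [Fintype F] (h3 : 3 ≤ Fintype.card F) : ∃ τ d : F, τ ≠ 0 ∧ Good τ d := by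
  classical
  obtain ⟨d, hd⟩ : ∃ d : F, d ∉ ({0, 1} : Finset F) := by
    by_contra h
    push Not at h
    have := Finset.card_le_card (s := (Finset.univ : Finset F)) (t := {0, 1}) fun x _ => h x
    have := Finset.card_le_two (a := (0 : F)) (b := 1)
    rw [Finset.card_univ] at *
    omega
  simp only [Finset.mem_insert, Finset.mem_singleton, not_or] at hd
  set S := (Finset.univ : Finset F).erase 0
  have hS : S.card = Fintype.card F - 1 := by
    rw [Finset.card_erase_of_mem (Finset.mem_univ _), Finset.card_univ]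
  have hnot : ¬ Set.InjOn (fun x => x + d / x) (S : Set F) := by
    intro hinj
    have hfix : ∀ x : F, x ≠ 0 → x * x = d := by
      intro x hx
      have := hinj (Finset.mem_coe.2 (Finset.mem_erase.2 ⟨div_ne_zero hd.1 hx, Finset.mem_univ _⟩))
        (Finset.mem_coe.2 (Finset.mem_erase.2 ⟨hx, Finset.mem_univ _⟩))
        (show d / x + d / (d / x) = x + d / x by rw [div_div_cancel₀ hd.1]; ring)
      field_simp at this
      linear_combination -this
    exact hd.2 (by linear_combination -(hfix 1 one_ne_zero))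
  have h2 : (S.image fun x => x + d / x).card < S.card :=
    lt_of_le_of_ne Finset.card_image_le fun he => hnot (Finset.card_image_iff.1 he)
  obtain ⟨τ, hτ⟩ : ∃ τ : F, τ ∉ insert 0 (S.image fun x => x + d / x) := by
    by_contra h
    push Not at h
    have h1 := Finset.card_le_card (s := (Finset.univ : Finset F))
      (t := insert 0 (S.image fun x => x + d / x)) fun x _ => h x
    have h3' := Finset.card_insert_le (0 : F) (S.image fun x => x + d / x)
    rw [Finset.card_univ] at h1
    omega
  simp only [Finset.mem_insert, not_or] at hτ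
  refine ⟨τ, d, hτ.1, hd.1, hd.2, fun x hx => ?_⟩
  by_cases h0 : x = 0
  · subst h0; simp at hx; exact hd.1 hx
  · refine hτ.2 (Finset.mem_image.2 ⟨x, Finset.mem_erase.2 ⟨h0, Finset.mem_univ _⟩, ?_⟩)
    field_simp
    linear_combination hx

/-- The condition on a Schur complement. -/
def GoodS (δ : F) (S : M₂) : Prop :=
  S = δ • (1 : M₂) ∨ (S.trace ≠ 2 * δ ∧ S ≠ -(δ • (1 : M₂)))

/-- Matrices of determinant `d²` as products of two class members. -/
theorem exists_class_pair [Fintype F] {τ d : F} (hτ : τ ≠ 0) (hg : Good τ d) {M : M₂}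
    (hdet : M.det = d * d) (hM : GoodS d M) :
    ∃ A B : M₂, InC τ d A ∧ InC τ d B ∧ A * B = M := by
  rcases hM with rfl | ⟨htr, hneg⟩
  · refine ⟨comp2 τ d, !![τ, d; -1, 0], comp2_inC τ d, ⟨by simp [trace2], by simp [det_fin_two]⟩, ?_⟩
    ext i j
    fin_cases i <;> fin_cases j <;> simp [comp2, Matrix.mul_apply, Fin.sum_univ_two] <;> ring
  · have hns : ¬ ∃ c : F, M = c • (1 : M₂) := by
      rintro ⟨c, rfl⟩
      have hc : (c - d) * (c + d) = 0 := by
        simp [det_fin_two] at hdet
        linear_combination hdet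
      rcases mul_eq_zero.1 hc with h | h
      · exact htr (by rw [sub_eq_zero.1 h]; simp [trace2]; ring)
      · exact hneg (by rw [eq_neg_of_add_eq_zero_left h, neg_smul])
    obtain ⟨P, hP, hMP⟩ := exists_conj_comp2 hns
    rw [hdet] at hMP
    set m := M.trace
    obtain ⟨a, c, hac⟩ : ∃ a c : F,
        a * a + m * a * c + d * d * c * c + -τ * a + -(d * τ) * c + d = 0 := by
      by_cases hD : m * m - 4 * (d * d) = 0
      · have h' : (m - 2 * d) * (m + 2 * d) = 0 := by linear_combination hD
        have hm : m = -(2 * d) :=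
          eq_neg_of_add_eq_zero_left ((mul_eq_zero.1 h').resolve_left (sub_ne_zero.2 htr))
        have h2 : (2 : F) ≠ 0 := by
          intro h2
          apply htr
          rw [hm]
          linear_combination (-2 * d) * h2
        refine ⟨d / (2 * τ), 1 / (2 * τ), ?_⟩
        rw [hm]
        field_simp
        ring
      · exact conic m (d * d) (-τ) (-(d * τ)) d hD
    set b := c * d * d + a * m - d * τ with hb
    set A : M₂ := !![a, b; c, τ - a] with hA
    have hAC : InC τ d A := by
      refine ⟨by simp [hA, trace2], ?_⟩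
      simp [hA, det_fin_two, hb]
      linear_combination -hac
    set B : M₂ := d⁻¹ • ((!![τ - a, -b; -c, a] : M₂) * comp2 m (d * d)) with hB
    have hd0 : d ≠ 0 := hg.1
    have hBC : InC τ d B := by
      refine ⟨?_, ?_⟩
      · simp [hB, comp2, trace2, Matrix.mul_apply, Fin.sum_univ_two, hb]
        field_simp
        ring
      · rw [hB, det_smul, det_mul, (comp2_inC m (d * d)).2, Fintype.card_fin, det_fin_two]
        simp [hb]
        field_simp
        linear_combination -hac
    have hAB : A * B = comp2 m (d * d) := by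
      have h1 : A * !![τ - a, -b; -c, a] = d • (1 : M₂) := by
        ext i j
        fin_cases i <;> fin_cases j <;> simp [hA, Matrix.mul_apply, Fin.sum_univ_two, hb] <;>
          first
            | ring1
            | linear_combination -hac
      rw [hB, Matrix.mul_smul, ← Matrix.mul_assoc, h1, Matrix.smul_mul, Matrix.one_mul, smul_smul,
        inv_mul_cancel₀ hd0, one_smul]
    refine ⟨P * A * P⁻¹, P * B * P⁻¹, hAC.conj hP, hBC.conj hP, ?_⟩
    calc P * A * P⁻¹ * (P * B * P⁻¹) = P * A * (P⁻¹ * P) * B * P⁻¹ := by simp only [Matrix.mul_assoc]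
      _ = P * comp2 m (d * d) * P⁻¹ := by
        rw [nonsing_inv_mul P hP, Matrix.mul_one, Matrix.mul_assoc P A B, hAB]
      _ = M := by rw [← hMP, Matrix.mul_assoc, mul_nonsing_inv P hP, Matrix.mul_one]

/-! ### Free parameters in the three shapes -/

theorem mul2 (a b c e : F) (A : M₂) : (!![a, b; c, e] : M₂) * A =
    !![a * A 0 0 + b * A 1 0, a * A 0 1 + b * A 1 1; c * A 0 0 + e * A 1 0, c * A 0 1 + e * A 1 1] := by
  ext i j
  fin_cases i <;> fin_cases j <;> simp [Matrix.mul_apply, Fin.sum_univ_two]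

theorem neg_smul_one_trace (δ : F) : (-(δ • (1 : M₂))).trace = -(2 * δ) := by simp [trace2]; ring

/-- Good target for the trace. -/
theorem exists_target {δ : F} (hδ : δ ≠ 0) :
    ∃ t₀ : F, ∀ S : M₂, S.trace = t₀ → GoodS δ S := by
  by_cases h2 : (2 : F) = 0
  · refine ⟨1, fun S hS => Or.inr ⟨?_, fun h => ?_⟩⟩
    · rw [hS, h2, zero_mul]; exact one_ne_zero
    · rw [h, neg_smul_one_trace, h2, zero_mul, neg_zero] at hS; exact zero_ne_one hS
  · refine ⟨0, fun S hS => Or.inr ⟨?_, fun h => ?_⟩⟩
    · rw [hS]; exact (mul_ne_zero h2 hδ).symm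
    · rw [h, neg_smul_one_trace, neg_eq_zero] at hS; exact mul_ne_zero h2 hδ hS

/-- First shape: the image of the point is collinear with it. -/
theorem shape_one {δ a : F} (hδ : δ ≠ 0) (ha : a ≠ 0) {A : M₂} (hA : -a * A.det = δ * δ) :
    ∃ e : F, GoodS δ ((!![-1 / a, -e / a; 0, a * a] : M₂) * A) := by
  by_cases h10 : A 1 0 = 0
  · have hd : A.det = A 0 0 * A 1 1 := by rw [det_fin_two, h10, mul_zero, sub_zero]
    rw [hd] at hA
    have h11 : A 1 1 ≠ 0 := fun h => mul_ne_zero hδ hδ (by rw [← hA, h]; ring)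
    by_cases h00 : -A 0 0 / a = δ
    · refine ⟨-A 0 1 / A 1 1, Or.inl ?_⟩
      have e11 : a * a * A 1 1 = δ := by
        apply mul_left_cancel₀ hδ
        rw [← hA]
        conv_lhs => rw [← h00]
        field_simp
      ext i j
      rw [mul2]; fin_cases i <;> fin_cases j <;> simp [h10]
      · rw [← h00]; ring
      · field_simp; ring
      · exact e11
    · refine ⟨(-a - A 0 1) / A 1 1, Or.inr ⟨?_, ?_⟩⟩
      · intro h
        apply h00
        have h' : -A 0 0 / a + a * a * A 1 1 = 2 * δ := by
          rw [← h]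
          simp only [mul2]; simp [trace2, h10]
          ring
        have hp : (-A 0 0 / a) * (a * a * A 1 1) = δ * δ := by rw [← hA]; field_simp
        have : (-A 0 0 / a - δ) * (-A 0 0 / a - δ) = 0 := by
          linear_combination (-A 0 0 / a) * h' - hp
        exact sub_eq_zero.1 (mul_self_eq_zero.1 this)
      · intro h
        have := congrFun (congrFun h 0) 1
        simp only [mul2] at this; simp at this
        field_simp at this
        exact ha (by linear_combination this)
  · obtain ⟨t₀, ht⟩ := exists_target hδ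
    refine ⟨(-A 0 0 + a * a * a * A 1 1 - t₀ * a) / A 1 0, ht _ ?_⟩
    simp only [mul2]; simp [trace2]
    field_simp
    ring

/-- Second shape: the image of the point is at intermediate distance. -/
theorem shape_two {δ R : F} (hδ : δ ≠ 0) (hR : R ≠ 0) {A : M₂} (hA : A.det ≠ 0) :
    ∃ f : F, GoodS δ ((!![1, -f; 0, -R] : M₂) * A) ∨
      GoodS δ ((!![1, -f; -1 / R, -R + f / R] : M₂) * A) := by
  obtain ⟨t₀, ht⟩ := exists_target hδ
  by_cases h10 : A 1 0 = 0
  · have h11 : A 1 1 ≠ 0 := fun h => hA (by rw [det_fin_two, h10, h]; ring)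
    refine ⟨R * (t₀ - A 0 0 + A 0 1 / R + R * A 1 1) / A 1 1, Or.inr (ht _ ?_)⟩
    simp only [mul2]; simp [trace2, h10]
    field_simp
    ring
  · refine ⟨(A 0 0 - R * A 1 1 - t₀) / A 1 0, Or.inl (ht _ ?_)⟩
    simp only [mul2]; simp [trace2]
    field_simp
    ring

/-- The corner entry of a general upper element. -/
def tF {R : Type*} [CommRing R] (a b c e f : R) : R := 2 * a * b * c - a * f + b * e + c * c

/-- The Schur complement of a general upper element in the opposite case. -/
def kF (a b c e f : F) : M₂ :=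
  !![(2 * a * b + c) - (-(a * b * b) + b * c - f) * (-(a * a * b) - 2 * a * c + e) / tF a b c e f,
      -(b * b) - (-(a * b * b) + b * c - f) * (2 * b * c - f) / tF a b c e f;
    a * a - (a * c - e) * (-(a * a * b) - 2 * a * c + e) / tF a b c e f,
      c - (a * c - e) * (2 * b * c - f) / tF a b c e f]

theorem exists_avoid [Fintype F] (h4 : 4 ≤ Fintype.card F) {k : F} (hk : k ≠ 0) (l m x₀ : F) :
    ∃ x, x ≠ x₀ ∧ k * x * x + l * x + m ≠ 0 := by
  classical
  by_contra h
  push Not at h
  have hcard : 2 < ((Finset.univ : Finset F).erase x₀).card := by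
    rw [Finset.card_erase_of_mem (Finset.mem_univ _), Finset.card_univ]; omega
  obtain ⟨x, y, z, hx, hy, hz, hxy, hxz, hyz⟩ := Finset.two_lt_card_iff.1 hcard
  simp only [Finset.mem_erase, Finset.mem_univ, and_true] at hx hy hz
  have e1 : k * (x + y) + l = 0 := by
    apply mul_right_cancel₀ (sub_ne_zero.2 hxy)
    linear_combination h x hx - h y hy
  have e2 : k * (x + z) + l = 0 := by
    apply mul_right_cancel₀ (sub_ne_zero.2 hxz)
    linear_combination h x hx - h z hz
  exact hyz (mul_left_cancel₀ hk (by linear_combination e1 - e2))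

/-- The check for the field with three elements. -/
theorem chk_three : ∀ a₀ a₁ a₂ a₃ T : ZMod 3, T ≠ 0 → (a₀ * a₃ - a₁ * a₂) * T = 1 →
    ∃ a b c e f : ZMod 3, tF a b c e f = T ∧
      let k₀ := (2 * a * b + c) - (-(a * b * b) + b * c - f) * (-(a * a * b) - 2 * a * c + e) * T
      let k₁ := -(b * b) - (-(a * b * b) + b * c - f) * (2 * b * c - f) * T
      let k₂ := a * a - (a * c - e) * (-(a * a * b) - 2 * a * c + e) * T
      let k₃ := c - (a * c - e) * (2 * b * c - f) * T
      (k₀ * a₀ + k₁ * a₂ = 2 ∧ k₀ * a₁ + k₁ * a₃ = 0 ∧ k₂ * a₀ + k₃ * a₂ = 0 ∧ k₂ * a₁ + k₃ * a₃ = 2) ∨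
        (k₀ * a₀ + k₁ * a₂ + (k₂ * a₁ + k₃ * a₃) ≠ 1 ∧
          ¬ (k₀ * a₀ + k₁ * a₂ = 1 ∧ k₀ * a₁ + k₁ * a₃ = 0 ∧ k₂ * a₀ + k₃ * a₂ = 0 ∧
            k₂ * a₁ + k₃ * a₃ = 1)) := by
  decide +kernel

theorem shape_three_small [Fintype F] (hF : Fintype.card F = 3) {δ T : F} (hδ : δ = -1) (hT : T ≠ 0)
    {A : M₂} (hA : A.det * T = δ * δ) :
    ∃ a b c e f : F, tF a b c e f = T ∧ GoodS δ (kF a b c e f * A) := by
  obtain ⟨E⟩ : Nonempty (ZMod 3 ≃+* F) := by
    haveI := Fact.mk (show Nat.Prime 3 by norm_num)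
    exact ⟨ZMod.ringEquivOfPrime F (show Nat.Prime 3 by norm_num) hF⟩
  subst hδ
  obtain ⟨a₀, e₀⟩ := E.surjective (A 0 0)
  obtain ⟨a₁, e₁⟩ := E.surjective (A 0 1)
  obtain ⟨a₂, e₂⟩ := E.surjective (A 1 0)
  obtain ⟨a₃, e₃⟩ := E.surjective (A 1 1)
  obtain ⟨T', rfl⟩ := E.surjective T
  have hT' : T' ≠ 0 := fun h => hT (by rw [h, map_zero])
  have hdet : (a₀ * a₃ - a₁ * a₂) * T' = 1 := by
    apply E.injective
    rw [det_fin_two, ← e₀, ← e₁, ← e₂, ← e₃] at hA
    simpa using hA
  obtain ⟨a, b, c, e, f, htF, h⟩ := chk_three a₀ a₁ a₂ a₃ T' hT' hdet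
  refine ⟨E a, E b, E c, E e, E f, by rw [← htF]; simp only [tF, map_add, map_sub, map_mul, map_ofNat], ?_⟩
  have htF' : tF (E a) (E b) (E c) (E e) (E f) = E T' := by
    rw [← htF]; simp only [tF, map_add, map_sub, map_mul, map_ofNat]
  have hinv : ∀ x : F, x / E T' = x * E T' := fun x => by
    have h1 : T' * T' = 1 := (by decide : ∀ u : ZMod 3, u ≠ 0 → u * u = 1) T' hT'
    rw [div_eq_mul_inv]
    congr 1
    exact inv_eq_of_mul_eq_one_right (by rw [← map_mul, h1, map_one])
  have hm1 : (-1 : F) = E 2 := by rw [show (2 : ZMod 3) = -1 by decide, map_neg, map_one]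
  set S := kF (E a) (E b) (E c) (E e) (E f) * A with hS
  simp only at h
  set k₀ := (2 * a * b + c) - (-(a * b * b) + b * c - f) * (-(a * a * b) - 2 * a * c + e) * T'
  set k₁ := -(b * b) - (-(a * b * b) + b * c - f) * (2 * b * c - f) * T'
  set k₂ := a * a - (a * c - e) * (-(a * a * b) - 2 * a * c + e) * T'
  set k₃ := c - (a * c - e) * (2 * b * c - f) * T'
  have s00 : S 0 0 = E (k₀ * a₀ + k₁ * a₂) := by
    rw [hS, kF, mul2]; simp [htF', hinv, ← e₀, ← e₂, k₀, k₁, map_ofNat]
  have s01 : S 0 1 = E (k₀ * a₁ + k₁ * a₃) := by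
    rw [hS, kF, mul2]; simp [htF', hinv, ← e₁, ← e₃, k₀, k₁, map_ofNat]
  have s10 : S 1 0 = E (k₂ * a₀ + k₃ * a₂) := by
    rw [hS, kF, mul2]; simp [htF', hinv, ← e₀, ← e₂, k₂, k₃, map_ofNat]
  have s11 : S 1 1 = E (k₂ * a₁ + k₃ * a₃) := by
    rw [hS, kF, mul2]; simp [htF', hinv, ← e₁, ← e₃, k₂, k₃, map_ofNat]
  rcases h with ⟨h0, h1, h2, h3⟩ | ⟨h0, h1⟩
  · left
    ext i j
    fin_cases i <;> fin_cases j
    · simpa [h0, ← hm1] using s00
    · simpa [h1] using s01
    · simpa [h2] using s10
    · simpa [h3, ← hm1] using s11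
  · refine Or.inr ⟨fun h => h0 (E.injective ?_), fun h => h1 ?_⟩
    · rw [map_add, ← s00, ← s11, ← trace2, h, map_one]
      rw [show (2 : F) = E 2 by rw [map_ofNat], hm1, ← map_mul, ← map_one E]
      exact congrArg E (by decide)
    · refine ⟨E.injective ?_, E.injective ?_, E.injective ?_, E.injective ?_⟩
      · rw [← s00, h]; simp
      · rw [← s01, h]; simp
      · rw [← s10, h]; simp
      · rw [← s11, h]; simp

/-- Third shape: the image of the point is opposite. -/
theorem shape_three [Fintype F] (h3 : 3 ≤ Fintype.card F) {δ T : F} (hδ0 : δ ≠ 0) (hδ1 : δ ≠ 1)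
    (hT : T ≠ 0) {A : M₂} (hA : A.det * T = δ * δ) :
    ∃ a b c e f : F, tF a b c e f = T ∧ GoodS δ (kF a b c e f * A) := by
  classical
  by_cases hF : Fintype.card F = 3
  · refine shape_three_small hF ?_ hT hA
    by_contra hne
    by_cases h : (1 : F) = -1
    · have key : ¬ (1 : ZMod 3) = -1 := by decide
      haveI := Fact.mk (show Nat.Prime 3 by norm_num)
      obtain E := ZMod.ringEquivOfPrime F (show Nat.Prime 3 by norm_num) hF
      have : E.symm (1 : F) = E.symm (-1 : F) := congrArg _ h
      rw [map_neg, map_one] at this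
      exact key this
    · have hc : ({0, 1, -1, δ} : Finset F).card = 4 := by
        rw [Finset.card_insert_of_notMem, Finset.card_insert_of_notMem, Finset.card_insert_of_notMem,
          Finset.card_singleton] <;> simp [h, hne, Ne.symm hδ0, Ne.symm hδ1, Ne.symm hne]
      have := Finset.card_le_univ ({0, 1, -1, δ} : Finset F)
      omega
  have h4 : 4 ≤ Fintype.card F := by omega
  have hdet : A.det ≠ 0 := fun h => mul_ne_zero hδ0 hδ0 (by rw [← hA, h, zero_mul])
  -- the first family
  have set1 : ∀ a b : F, a ≠ 0 → tF a b (-(a * b)) (-(a * a * b)) (-(2 * a * b * b) - T / a) = T ∧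
      kF a b (-(a * b)) (-(a * a * b)) (-(2 * a * b * b) - T / a) =
        !![a * b, -(b * b) - T / (a * a); a * a, -(a * b)] := by
    intro a b ha
    have h : tF a b (-(a * b)) (-(a * a * b)) (-(2 * a * b * b) - T / a) = T := by
      simp only [tF]; field_simp; ring
    refine ⟨h, ?_⟩
    rw [kF, h]
    ext i j
    fin_cases i <;> fin_cases j <;> simp [hT] <;> field_simp <;> ring_nf <;> simp
  by_cases h10 : A 1 0 = 0
  · have h00 : A 0 0 ≠ 0 := fun h => hdet (by rw [det_fin_two, h10, h]; ring)
    by_cases h01 : A 0 1 = 0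
    · by_cases hs : A 0 0 = A 1 1
      · -- scalar
        obtain ⟨s, hs'⟩ : ∃ s : F, A 0 0 * (-(3 * s) + s * s * s / T) ≠ 2 * δ := by
          by_cases h2 : (2 : F) = 0
          · obtain ⟨s, hs1, hs2⟩ : ∃ s : F, s ≠ 0 ∧ s * s ≠ T := by
              by_contra hc
              push Not at hc
              obtain ⟨x, hx1, hx2⟩ := exists_avoid h4 (k := (1 : F)) one_ne_zero 0 (-T) 0
              exact hx2 (by linear_combination hc x hx1)
            refine ⟨s, fun h => ?_⟩
            rw [h2, zero_mul] at h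
            have h' := (mul_eq_zero.1 h).resolve_left h00
            field_simp at h'
            apply mul_ne_zero hs1 (sub_ne_zero.2 hs2)
            linear_combination h' + s * T * h2
          · exact ⟨0, by simpa using (mul_ne_zero h2 hδ0).symm⟩
        refine ⟨1, 0, -s, -s, s * s - T, by simp [tF], ?_⟩
        have ht : tF (1 : F) 0 (-s) (-s) (s * s - T) = T := by simp [tF]
        refine Or.inr ⟨fun h => hs' ?_, fun h => ?_⟩
        · rw [← h]
          simp only [kF, mul2]; simp [ht, trace2, h10, h01, ← hs]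
          field_simp
          ring
        · have := congrFun (congrFun h 1) 0
          simp only [kF, mul2] at this; simp [ht, h10] at this
          exact h00 this
      · -- diagonal
        obtain ⟨b, hb⟩ : ∃ b : F, b * (A 0 0 - A 1 1) ≠ 2 * δ := by
          by_cases h2 : (2 : F) * δ = 0
          · exact ⟨1, by rw [h2, one_mul]; exact sub_ne_zero.2 hs⟩
          · exact ⟨0, by simpa using Ne.symm h2⟩
        obtain ⟨ht, hk⟩ := set1 1 b one_ne_zero
        refine ⟨_, _, _, _, _, ht, ?_⟩
        rw [hk]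
        refine Or.inr ⟨fun h => hb ?_, fun h => ?_⟩
        · rw [← h]
          simp only [mul2]; simp [trace2, h10, h01]
          ring
        · have := congrFun (congrFun h 1) 0
          simp only [mul2] at this; simp [h10] at this
          exact h00 this
    · -- the second family
      obtain ⟨a, ha, ha'⟩ := exists_avoid h4 h01 (A 0 0 - A 1 1) (T * A 0 1 - 2 * δ) (A 1 1 / A 0 1)
      have ht : tF a 1 (-a) (-(a * a) + T) (-(2 * a)) = T := by simp only [tF]; ring
      refine ⟨a, 1, -a, -(a * a) + T, -(2 * a), ht, ?_⟩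
      refine Or.inr ⟨fun h => ha' ?_, fun h => ha ?_⟩
      · rw [sub_eq_add_neg (T * A 0 1), ← h]
        simp only [kF, mul2]; simp [ht, trace2, h10]
        field_simp
        ring
      · have := congrFun (congrFun h 0) 1
        simp only [kF, mul2] at this; simp [ht] at this
        rw [eq_div_iff h01]
        field_simp at this
        apply mul_left_cancel₀ hT
        linear_combination this
  · obtain ⟨b, hb, hb'⟩ := exists_avoid h4 (k := -A 1 0) (neg_ne_zero.2 h10) (A 0 0 - A 1 1)
      (A 0 1 - A 1 0 * T - 2 * δ) (A 0 0 / A 1 0)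
    obtain ⟨ht, hk⟩ := set1 1 b one_ne_zero
    refine ⟨_, _, _, _, _, ht, ?_⟩
    rw [hk]
    refine Or.inr ⟨fun h => hb' ?_, fun h => hb ?_⟩
    · rw [← h]
      simp only [mul2]; simp [trace2]
      ring
    · have := congrFun (congrFun h 1) 0
      simp only [mul2] at this; simp at this
      field_simp
      linear_combination -this

end Cfsg.Agent.Small.GTwoThompson
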