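import Cfsg.Prelude.Def_ClassicalGeometry
import Cfsg.Agent.Lib.Classical.SymplecticCount

/-!
The set `V(t)` of an involution of a symplectic group in characteristic two.
-/

set_option autoImplicit false

namespace Cfsg.Agent.Small.InvForm

open Matrix Module Cfsg.Agent.Classical.SpCount

variable {F : Type*} [Field F]

universe v in
theorem even_of_altND : ∀ (n : ℕ) {V : Type v} [AddCommGroup V] [Module F V] [FiniteDimensional F V]
    (B : V →ₗ[F] V →ₗ[F] F), IsAltND B → finrank F V = n → Even n := by
  intro n
  induction n using Nat.strong_induction_on with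
  | _ n ih =>
    intro V _ _ _ B hB hn
    rcases Nat.eq_zero_or_pos n with h0 | hpos
    · simp [h0]
    haveI : Nontrivial V := nontrivial_of_finrank_pos (R := F) (by omega)
    obtain ⟨v, hv⟩ : ∃ v : V, v ≠ 0 := exists_ne 0
    obtain ⟨w, hw⟩ := exists_pair hB hv
    have h := finrank_comp hB hw
    have := ih (finrank F (comp B (v, w))) (by omega) (res B (v, w)) (res_isAltND hB hw) rfl
    have e : n = 2 + finrank F (comp B (v, w)) := by omega
    rw [e]
    exact (by decide : Even 2).add this

theorem sympForm_left_add {m : ℕ} (a b c : Fin m ⊕ Fin m → F) :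
    sympForm m F (a + b) c = sympForm m F a c + sympForm m F b c := by
  simp [sympForm, add_dotProduct]

theorem sympForm_right_add {m : ℕ} (a b c : Fin m ⊕ Fin m → F) :
    sympForm m F a (b + c) = sympForm m F a b + sympForm m F a c := by
  simp [sympForm, Matrix.mulVec_add, dotProduct_add]

theorem sympForm_smul {m : ℕ} (s : F) (a b : Fin m ⊕ Fin m → F) :
    sympForm m F (s • a) b = s * sympForm m F a b ∧ sympForm m F a (s • b) = s * sympForm m F a b := by
  simp [sympForm, Matrix.mulVec_smul]

theorem sympForm_comm [CharP F 2] {m : ℕ} (a b : Fin m ⊕ Fin m → F) :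
    sympForm m F a b = sympForm m F b a := by
  rw [sympForm, sympForm, Matrix.dotProduct_mulVec, dotProduct_comm, ← Matrix.mulVec_transpose,
    Matrix.J_transpose, Matrix.neg_mulVec, dotProduct_neg, CharTwo.neg_eq]

theorem sympForm_self [CharP F 2] {m : ℕ} (a : Fin m ⊕ Fin m → F) : sympForm m F a a = 0 := by
  obtain ⟨x, y, rfl⟩ : ∃ x y, a = Sum.elim x y := ⟨a ∘ Sum.inl, a ∘ Sum.inr, (Sum.elim_comp_inl_inr a).symm⟩
  rw [sympForm, Matrix.J, Matrix.fromBlocks_mulVec, sumElim_dotProduct_sumElim]
  simp [Matrix.neg_mulVec, dotProduct_comm y x, CharTwo.neg_eq, CharTwo.add_self_eq_zero]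

theorem main [Fintype F] [CharP F 2] {m : ℕ} (A : Matrix (Fin m ⊕ Fin m) (Fin m ⊕ Fin m) F)
    (hA : Aᵀ * Matrix.J (Fin m) F * A = Matrix.J (Fin m) F) (h2 : A * A = 1) :
    (Nat.card {v // sympForm m F v (A *ᵥ v) = 0} = Fintype.card F ^ (2 * m) ∨
      Nat.card {v // sympForm m F v (A *ᵥ v) = 0} * Fintype.card F = Fintype.card F ^ (2 * m)) ∧
    ((∀ v, sympForm m F v (A *ᵥ v) = 0) → Even (A - 1).rank) := by
  haveI : Fact (Nat.Prime 2) := ⟨Nat.prime_two⟩
  have hform : ∀ a b, sympForm m F (A *ᵥ a) (A *ᵥ b) = sympForm m F a b := by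
    intro a b
    rw [sympForm, sympForm, Matrix.mulVec_mulVec, ← Matrix.vecMul_transpose A a,
      ← Matrix.dotProduct_mulVec, Matrix.mulVec_mulVec, ← Matrix.mul_assoc, hA]
  have hsym : ∀ a b, sympForm m F a (A *ᵥ b) = sympForm m F b (A *ᵥ a) := by
    intro a b
    rw [← hform a (A *ᵥ b), Matrix.mulVec_mulVec, h2, Matrix.one_mulVec, sympForm_comm]
  constructor
  · let g : (Fin m ⊕ Fin m → F) →+ F :=
      { toFun := fun v => sympForm m F v (A *ᵥ v)
        map_zero' := by simp [sympForm]
        map_add' := fun a b => by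
          rw [Matrix.mulVec_add, sympForm_left_add, sympForm_right_add, sympForm_right_add, hsym b a]
          have := CharTwo.add_self_eq_zero (sympForm m F a (A *ᵥ b))
          linear_combination this }
    have hcard : Nat.card g.range * Nat.card g.ker = Fintype.card F ^ (2 * m) := by
      have := g.ker.card_eq_card_quotient_mul_card_addSubgroup
      rw [Nat.card_congr (QuotientAddGroup.quotientKerEquivRange g).toEquiv] at this
      rw [← this]
      simp [Nat.card_eq_fintype_card, two_mul]
    have hk : Nat.card {v // sympForm m F v (A *ᵥ v) = 0} = Nat.card g.ker := rfl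
    rw [hk]
    by_cases h : g.range = ⊥
    · left
      rw [h, AddSubgroup.card_bot, one_mul] at hcard
      exact hcard
    · right
      have htop : g.range = ⊤ := by
        rw [eq_top_iff]
        intro x _
        obtain ⟨y, hy, hy0⟩ : ∃ y ∈ g.range, y ≠ 0 := by
          by_contra! h'
          exact h (eq_bot_iff.2 fun z hz => AddSubgroup.mem_bot.2 (h' z hz))
        obtain ⟨v, hv⟩ := hy
        obtain ⟨s, hs⟩ : ∃ s : F, s ^ 2 = x / y := ⟨_, frobeniusEquiv_symm_pow_p F 2 (x / y)⟩
        refine ⟨s • v, ?_⟩
        show sympForm m F (s • v) (A *ᵥ (s • v)) = x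
        rw [Matrix.mulVec_smul, (sympForm_smul s v _).1, (sympForm_smul s v _).2, ← mul_assoc, ← sq, hs,
          show sympForm m F v (A *ᵥ v) = y from hv, div_mul_cancel₀ _ hy0]
      rw [htop, AddSubgroup.card_top, Nat.card_eq_fintype_card] at hcard
      rw [mul_comm]
      exact hcard
  · intro h0
    let N := Matrix.toLin' (A - 1)
    have hN : ∀ v, N v = A *ᵥ v - v := fun v => by
      simp [N, Matrix.sub_mulVec]
    obtain ⟨C, hC⟩ := Submodule.exists_isCompl (LinearMap.ker N)
    let B : C →ₗ[F] C →ₗ[F] F := LinearMap.mk₂ F (fun x y => sympForm m F x (N y))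
      (fun a b c => sympForm_left_add _ _ _) (fun s a b => (sympForm_smul s _ _).1)
      (fun a b c => by rw [Submodule.coe_add, map_add, sympForm_right_add])
      (fun s a b => by rw [Submodule.coe_smul, map_smul, (sympForm_smul s _ _).2]; rfl)
    have hneg : ∀ x : Fin m ⊕ Fin m → F, -x = x := fun x => funext fun i => CharTwo.neg_eq (x i)
    have hNs : ∀ a b, sympForm m F a (N b) = sympForm m F b (N a) := by
      intro a b
      rw [hN, hN, sub_eq_add_neg, sub_eq_add_neg, sympForm_right_add, sympForm_right_add, hneg, hneg, hsym a b,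
        sympForm_comm a b]
    have hB : IsAltND B := by
      refine ⟨fun x => ?_, fun x hx => ?_⟩
      · show sympForm m F (x : Fin m ⊕ Fin m → F) (N x) = 0
        rw [hN, sub_eq_add_neg, sympForm_right_add, h0, hneg, sympForm_self, add_zero]
      · have hz : ∀ w, sympForm m F w (N x) = 0 := by
          intro w
          obtain ⟨k, hk, c, hc, rfl⟩ := Submodule.mem_sup.1
            (show w ∈ LinearMap.ker N ⊔ C by rw [hC.sup_eq_top]; trivial)
          rw [sympForm_left_add, hNs c, hNs k, LinearMap.mem_ker.1 hk,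
            show sympForm m F (x : Fin m ⊕ Fin m → F) (N c) = 0 from hx ⟨c, hc⟩]
          simp [sympForm]
        have hNx : N x = 0 := by
          have hJ : Matrix.J (Fin m) F *ᵥ N x = 0 := by
            funext i
            have := hz (Pi.single i 1)
            simpa [sympForm] using this
          have := congrArg (fun z => Matrix.J (Fin m) F *ᵥ z) hJ
          simpa [Matrix.mulVec_mulVec, Matrix.J_squared, Matrix.neg_mulVec] using this
        have : (x : Fin m ⊕ Fin m → F) ∈ LinearMap.ker N ⊓ C := ⟨hNx, x.2⟩
        rw [hC.inf_eq_bot, Submodule.mem_bot] at this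
        exact Subtype.ext this
    have h1 := N.finrank_range_add_finrank_ker
    have h2' := Submodule.finrank_add_eq_of_isCompl hC
    have h3 : (A - 1).rank = finrank F (LinearMap.range N) := rfl
    have h4 : finrank F C = finrank F (LinearMap.range N) := by omega
    rw [h3, ← h4]
    exact even_of_altND _ B hB rfl

end Cfsg.Agent.Small.InvForm
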