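import Cfsg.Agent.Lib.Small.InvolutionsSp
import Cfsg.Agent.Lib.Small.InvolutionForm
import Cfsg.Prelude.Def_ClassicalGeometry

/-!
# Involutions of symplectic groups in characteristic two
-/

set_option autoImplicit false
set_option linter.unusedSectionVars false

namespace Cfsg.Agent.Small.SpInvolMatrix

open Module Matrix Cfsg.Agent.Classical.SpCount Cfsg.Agent.Small.InvolutionsSp Cfsg.Agent.Small.SymFormsTwo

variable {F : Type*} [Field F] {m : ℕ}

/-- The nilpotent part. -/
noncomputable def nil (t : Matrix.symplecticGroup (Fin m) F) :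
    (Fin m ⊕ Fin m → F) →ₗ[F] (Fin m ⊕ Fin m → F) :=
  Matrix.toLin' ((t : Matrix (Fin m ⊕ Fin m) (Fin m ⊕ Fin m) F) - 1)

theorem nil_apply (t : Matrix.symplecticGroup (Fin m) F) (v : Fin m ⊕ Fin m → F) :
    nil t v = t.1 *ᵥ v - v := by
  rw [nil, Matrix.toLin'_apply, Matrix.sub_mulVec, Matrix.one_mulVec]

theorem finrank_nil (t : Matrix.symplecticGroup (Fin m) F) :
    finrank F (LinearMap.range (nil t)) =
      ((t : Matrix (Fin m ⊕ Fin m) (Fin m ⊕ Fin m) F) - 1).rank := by
  rw [nil, Matrix.toLin'_apply', Matrix.rank]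

theorem finrank_space : finrank F (Fin m ⊕ Fin m → F) = 2 * m := by
  rw [finrank_fintype_fun_eq_card, Fintype.card_sum, Fintype.card_fin, two_mul]

theorem form_mulVec (g : Matrix.symplecticGroup (Fin m) F) (u v : Fin m ⊕ Fin m → F) :
    stdForm m F (g.1 *ᵥ u) (g.1 *ᵥ v) = stdForm m F u v := by
  rw [stdForm_apply, stdForm_apply, Matrix.mulVec_mulVec, ← Matrix.vecMul_transpose g.1 u,
    ← Matrix.dotProduct_mulVec, Matrix.mulVec_mulVec, ← Matrix.mul_assoc, SymplecticGroup.mem_iff'.1 g.2]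

theorem inv_mul_val (g : Matrix.symplecticGroup (Fin m) F) : (g⁻¹).1 * g.1 = 1 := by
  rw [← Submonoid.coe_mul, inv_mul_cancel, Submonoid.coe_one]

theorem mul_inv_val (g : Matrix.symplecticGroup (Fin m) F) : g.1 * (g⁻¹).1 = 1 := by
  rw [← Submonoid.coe_mul, mul_inv_cancel, Submonoid.coe_one]

/-- Elements conjugating one element to another, as intertwining isometries. -/
noncomputable def interEquiv (a b : Matrix.symplecticGroup (Fin m) F) :
    {g : Matrix.symplecticGroup (Fin m) F // g * a = b * g} ≃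
      Inter (stdForm m F) (nil a) (stdForm m F) (nil b) where
  toFun g := ⟨LinearEquiv.ofLinear (Matrix.toLin' g.1.1) (Matrix.toLin' (g.1⁻¹).1)
      (by rw [← Matrix.toLin'_mul, mul_inv_val, Matrix.toLin'_one])
      (by rw [← Matrix.toLin'_mul, inv_mul_val, Matrix.toLin'_one]),
    fun x y => form_mulVec g.1 x y, fun x => by
      rw [LinearEquiv.ofLinear_apply, LinearEquiv.ofLinear_apply, Matrix.toLin'_apply, Matrix.toLin'_apply,
        nil_apply, nil_apply, Matrix.mulVec_sub, Matrix.mulVec_mulVec, Matrix.mulVec_mulVec, ← Submonoid.coe_mul,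
        g.2, Submonoid.coe_mul]⟩
  invFun φ :=
    have hm : LinearMap.toMatrix' φ.1.toLinearMap ∈ Matrix.symplecticGroup (Fin m) F :=
      SymplecticGroup.mem_iff'.2 (Matrix.ext fun i j => by
        have h := φ.2.1 (Pi.single i 1) (Pi.single j 1)
        rw [← LinearEquiv.coe_coe, ← Matrix.toLin'_toMatrix' φ.1.toLinearMap, Matrix.toLin'_apply,
          Matrix.toLin'_apply, stdForm_apply, stdForm_apply, Matrix.mulVec_mulVec,
          ← Matrix.vecMul_transpose (LinearMap.toMatrix' φ.1.toLinearMap) (Pi.single i 1),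
          ← Matrix.dotProduct_mulVec, Matrix.mulVec_mulVec, ← Matrix.mul_assoc] at h
        simpa [single_dotProduct, Matrix.mulVec_single] using h)
    ⟨⟨_, hm⟩, Subtype.ext (Matrix.toLin'.injective (LinearMap.ext fun x => by
      have h := φ.2.2 x
      rw [nil_apply, nil_apply, map_sub, sub_left_inj] at h
      rw [Submonoid.coe_mul, Submonoid.coe_mul, Matrix.toLin'_mul, Matrix.toLin'_mul,
        LinearMap.comp_apply, LinearMap.comp_apply, Matrix.toLin'_toMatrix', Matrix.toLin'_apply a.1,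
        Matrix.toLin'_apply b.1, LinearEquiv.coe_coe, h]))⟩
  left_inv g := Subtype.ext (Subtype.ext (LinearMap.toMatrix'_toLin' g.1.1))
  right_inv φ := Subtype.ext (LinearEquiv.toLinearMap_injective (Matrix.toLin'_toMatrix' φ.1.toLinearMap))

theorem isConj_iff_inter (a b : Matrix.symplecticGroup (Fin m) F) :
    IsConj a b ↔ Nonempty (Inter (stdForm m F) (nil a) (stdForm m F) (nil b)) := by
  rw [isConj_iff, ← (interEquiv a b).nonempty_congr, nonempty_subtype]
  simp only [mul_inv_eq_iff_eq_mul]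

theorem card_centralizer (t : Matrix.symplecticGroup (Fin m) F) :
    Nat.card ↥(Subgroup.centralizer ({t} : Set ↥(Matrix.symplecticGroup (Fin m) F))) =
      Nat.card (Inter (stdForm m F) (nil t) (stdForm m F) (nil t)) := by
  refine Nat.card_congr ((Equiv.subtypeEquivRight fun g => ?_).trans (interEquiv t t))
  rw [Subgroup.mem_centralizer_singleton_iff]

variable [CharP F 2]

theorem invol {t : Matrix.symplecticGroup (Fin m) F} (ht : t ^ 2 = 1) : Invol (stdForm m F) (nil t) := by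
  have h2 : ∀ v, t.1 *ᵥ (t.1 *ᵥ v) = v := fun v => by
    rw [Matrix.mulVec_mulVec, ← Submonoid.coe_mul, ← sq, ht, Submonoid.coe_one, Matrix.one_mulVec]
  refine ⟨stdForm_isAltND m, fun x => ?_, fun x y => ?_⟩
  · rw [nil_apply, nil_apply, Matrix.mulVec_sub, h2]
    funext i
    simp only [Pi.sub_apply, Pi.zero_apply, CharTwo.sub_eq_add]
    linear_combination CharTwo.add_self_eq_zero (x i) + CharTwo.add_self_eq_zero ((t.1 *ᵥ x) i)
  · rw [nil_apply, nil_apply, map_sub, LinearMap.sub_apply, map_sub, sub_left_inj, ← form_mulVec t x (t.1 *ᵥ y), h2]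

theorem alt_iff (t : Matrix.symplecticGroup (Fin m) F) :
    (∀ v, stdForm m F v (nil t v) = 0) ↔ ∀ v, Cfsg.sympForm m F v (t.1 *ᵥ v) = 0 := by
  refine forall_congr' fun v => ?_
  rw [nil_apply, map_sub, (stdForm_isAltND m).self, sub_zero, stdForm_apply]
  rfl

variable [Fintype F]

theorem alt_even {t : Matrix.symplecticGroup (Fin m) F} (ht : t ^ 2 = 1)
    (h : ∀ v, Cfsg.sympForm m F v (t.1 *ᵥ v) = 0) : Even (t.1 - 1).rank :=
  (InvForm.main t.1 (SymplecticGroup.mem_iff'.1 t.2)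
    (by rw [← Submonoid.coe_mul, ← sq, ht, Submonoid.coe_one])).2 h

theorem alt_iff_card (t : Matrix.symplecticGroup (Fin m) F) :
    (∀ v, Cfsg.sympForm m F v (t.1 *ᵥ v) = 0) ↔
      Nat.card {v : Fin m ⊕ Fin m → F // Cfsg.sympForm m F v (t.1 *ᵥ v) = 0} =
        Nat.card (Fin m ⊕ Fin m → F) := by
  refine ⟨fun h => Nat.card_congr (Equiv.subtypeUnivEquiv h), fun h v => ?_⟩
  classical
  rw [Nat.card_eq_fintype_card, Nat.card_eq_fintype_card] at h
  by_contra hv
  exact (Fintype.card_subtype_lt (p := fun v : Fin m ⊕ Fin m → F =>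
    Cfsg.sympForm m F v (t.1 *ᵥ v) = 0) hv).ne h

theorem rank_eq_of_conj {a b : Matrix.symplecticGroup (Fin m) F} (h : IsConj a b) :
    (a.1 - 1).rank = (b.1 - 1).rank ∧
      ((∀ v, Cfsg.sympForm m F v (a.1 *ᵥ v) = 0) ↔ ∀ v, Cfsg.sympForm m F v (b.1 *ᵥ v) = 0) := by
  obtain ⟨φ, hf, hn⟩ := (isConj_iff_inter a b).1 h
  constructor
  · have hr : (LinearMap.range (nil a)).map (φ : _ →ₗ[F] _) = LinearMap.range (nil b) := by
      rw [← LinearMap.range_comp, show (φ : _ →ₗ[F] _).comp (nil a) = (nil b).comp (φ : _ →ₗ[F] _) from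
      LinearMap.ext hn, LinearMap.range_comp, LinearEquiv.range, Submodule.map_top]
    rw [← finrank_nil, ← finrank_nil, ← LinearEquiv.finrank_map_eq φ (LinearMap.range (nil a)), hr]
  · rw [← alt_iff, ← alt_iff]
    conv_rhs => rw [φ.surjective.forall]
    exact forall_congr' fun v => by rw [← hn, hf]

theorem conj_iff {a b : Matrix.symplecticGroup (Fin m) F} (ha : a ^ 2 = 1) (hb : b ^ 2 = 1) :
    IsConj a b ↔ (a.1 - 1).rank = (b.1 - 1).rank ∧
      ((∀ v, Cfsg.sympForm m F v (a.1 *ᵥ v) = 0) ↔ ∀ v, Cfsg.sympForm m F v (b.1 *ᵥ v) = 0) := by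
  refine ⟨rank_eq_of_conj, fun h => ?_⟩
  rw [isConj_iff_inter]
  exact exists_conj (invol ha) (invol hb) rfl (finrank_space (F := F) (m := m))
    (by rw [finrank_nil, finrank_nil, h.1]) (by rw [alt_iff, alt_iff, h.2])

theorem sp_eq (q k : ℕ) : sp q k = q ^ (k ^ 2) * ∏ i : Fin k, (q ^ (2 * ((i : ℕ) + 1)) - 1) := rfl

theorem card_cent_matrix {q : ℕ} (hF : Fintype.card F = q) {s : ℕ} {t : Matrix.symplecticGroup (Fin m) F}
    (ht : t ^ 2 = 1) (hs : (t.1 - 1).rank = s) :
    ∃ O, Nat.card ↥(Subgroup.centralizer ({t} : Set ↥(Matrix.symplecticGroup (Fin m) F))) =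
        q ^ (2 * m * s - (3 * s ^ 2 - s) / 2) * O * sp q (m - s) ∧
      ((∀ v, Cfsg.sympForm m F v (t.1 *ᵥ v) = 0) → O = sp q (s / 2)) ∧
      (Odd s → O = sp q ((s - 1) / 2)) ∧
      (Even s → (¬ ∀ v, Cfsg.sympForm m F v (t.1 *ᵥ v) = 0) → O = q ^ (s - 1) * sp q ((s - 2) / 2)) := by
  subst hF
  obtain ⟨O, h1, h2, h3, h4⟩ := card_cent (invol ht) (finrank_space (F := F) (m := m))
    ((finrank_nil t).trans hs)
  rw [alt_iff] at h2 h4
  exact ⟨O, (card_centralizer t).trans h1, h2, h3, h4⟩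

section Model

/-- An element with a given symmetric block. -/
def upper (B : Matrix (Fin m) (Fin m) F) (hB : B.IsSymm) : Matrix.symplecticGroup (Fin m) F :=
  ⟨Matrix.fromBlocks 1 B 0 1, SymplecticGroup.mem_iff.2 (by
    rw [Matrix.J, Matrix.fromBlocks_transpose, Matrix.fromBlocks_multiply, Matrix.fromBlocks_multiply,
      Matrix.transpose_one, Matrix.transpose_zero, hB.eq]
    simp)⟩

theorem upper_sub (B : Matrix (Fin m) (Fin m) F) (hB : B.IsSymm) (v : Fin m ⊕ Fin m → F) :
    ((upper B hB).1 - 1) *ᵥ v = Sum.elim (B *ᵥ (v ∘ Sum.inr)) 0 := by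
  rw [show (upper B hB).1 - 1 = Matrix.fromBlocks 0 B 0 0 by
    rw [sub_eq_iff_eq_add, ← Matrix.fromBlocks_one, Matrix.fromBlocks_add]; simp [upper],
    Matrix.fromBlocks_mulVec]
  simp

theorem upper_sq (B : Matrix (Fin m) (Fin m) F) (hB : B.IsSymm) : upper B hB ^ 2 = 1 := by
  refine Subtype.ext ?_
  rw [sq, Submonoid.coe_mul, Submonoid.coe_one, upper, Matrix.fromBlocks_multiply, ← Matrix.fromBlocks_one]
  congr 1
  · simp
  · rw [one_mul, mul_one]
    ext i j
    exact CharTwo.add_self_eq_zero _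
  · simp
  · simp

theorem upper_rank (B : Matrix (Fin m) (Fin m) F) (hB : B.IsSymm) : ((upper B hB).1 - 1).rank = B.rank := by
  obtain ⟨ι, hι⟩ : ∃ ι : (Fin m → F) →ₗ[F] (Fin m ⊕ Fin m → F), ∀ x, ι x = Sum.elim x 0 :=
    ⟨(LinearEquiv.sumArrowLequivProdArrow (Fin m) (Fin m) F F).symm.toLinearMap.comp (LinearMap.inl F _ _),
      fun x => by funext i; rcases i with i | i <;> simp⟩
  have hinj : Function.Injective ι := fun x y h => by
    rw [hι, hι] at h
    exact funext fun i => congrFun h (.inl i)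
  suffices hr : LinearMap.range ((upper B hB).1 - 1).mulVecLin = (LinearMap.range B.mulVecLin).map ι by
    rw [Matrix.rank, Matrix.rank, hr, ← (Submodule.equivMapOfInjective ι hinj _).finrank_eq]
  ext v
  simp only [LinearMap.mem_range, Submodule.mem_map, Matrix.mulVecLin_apply, hι]
  constructor
  · rintro ⟨w, rfl⟩
    exact ⟨_, ⟨w ∘ Sum.inr, rfl⟩, (upper_sub B hB w).symm⟩
  · rintro ⟨x, ⟨y, rfl⟩, rfl⟩
    exact ⟨Sum.elim 0 y, by rw [upper_sub, Sum.elim_comp_inr]⟩

theorem upper_alt (B : Matrix (Fin m) (Fin m) F) (hB : B.IsSymm) :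
    (∀ v, Cfsg.sympForm m F v ((upper B hB).1 *ᵥ v) = 0) ↔ ∀ y, y ⬝ᵥ (B *ᵥ y) = 0 := by
  have key : ∀ v, Cfsg.sympForm m F v ((upper B hB).1 *ᵥ v) = (v ∘ Sum.inr) ⬝ᵥ (B *ᵥ (v ∘ Sum.inr)) := by
    intro v
    have h1 : (upper B hB).1 *ᵥ v = v + Sum.elim (B *ᵥ (v ∘ Sum.inr)) 0 := by
      rw [← upper_sub B hB v, Matrix.sub_mulVec, Matrix.one_mulVec, add_sub_cancel]
    rw [h1, InvForm.sympForm_right_add, InvForm.sympForm_self, zero_add, Cfsg.sympForm, Matrix.J,
      Matrix.fromBlocks_mulVec]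
    conv_lhs => rw [← Sum.elim_comp_inl_inr v]
    rw [sumElim_dotProduct_sumElim]
    simp
  simp only [key]
  exact ⟨fun h y => by simpa using h (Sum.elim 0 y), fun h v => h _⟩

theorem card_lt {s : ℕ} (hs : s ≤ m) : Fintype.card {i : Fin m // (i : ℕ) < s} = s :=
  (Fintype.card_congr
    { toFun := fun i => (⟨i.1.1, i.2⟩ : Fin s)
      invFun := fun i => ⟨⟨i.1, by omega⟩, i.2⟩
      left_inv := fun i => rfl
      right_inv := fun i => rfl }).trans (Fintype.card_fin s)

theorem exists_model {s : ℕ} (hs : s ≤ m) (alt : Bool) (halt : alt = true → Even s)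
    (hna : alt = false → 0 < s) :
    ∃ t : Matrix.symplecticGroup (Fin m) F, t ^ 2 = 1 ∧ (t.1 - 1).rank = s ∧
      ((∀ v, Cfsg.sympForm m F v (t.1 *ᵥ v) = 0) ↔ alt = true) := by
  classical
  obtain ⟨D, hD⟩ : ∃ D : Matrix (Fin m) (Fin m) F,
      D = Matrix.diagonal fun i : Fin m => if (i : ℕ) < s then 1 else 0 := ⟨_, rfl⟩
  have hDr : D.rank = s := by
    rw [hD, Matrix.rank_diagonal]
    have h := card_lt hs
    rw [Fintype.card_congr (Equiv.subtypeEquivRight (p := fun i : Fin m =>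
      (if (i : ℕ) < s then (1 : F) else 0) ≠ 0) (q := fun i : Fin m => (i : ℕ) < s)
      fun i => by by_cases hi : (i : ℕ) < s <;> simp [hi])]
    exact h
  cases alt
  · have hB : D.IsSymm := by rw [hD]; exact Matrix.isSymm_diagonal _
    refine ⟨upper D hB, upper_sq D hB, (upper_rank D hB).trans hDr, ?_⟩
    rw [upper_alt]
    refine iff_of_false (fun h => ?_) (by simp)
    have hs0 := hna rfl
    have := h (Pi.single ⟨0, by omega⟩ 1)
    simp [hD, Matrix.mulVec_diagonal, hs0] at this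
  · obtain ⟨B, hBdef⟩ : ∃ B : Matrix (Fin m) (Fin m) F, B = Matrix.of fun i j : Fin m =>
        if (i : ℕ) < s ∧ (j : ℕ) < s ∧ (i : ℕ) / 2 = (j : ℕ) / 2 ∧ i ≠ j then 1 else 0 := ⟨_, rfl⟩
    obtain ⟨r, hr⟩ := halt rfl
    have hB : B.IsSymm := Matrix.IsSymm.ext fun i j => by
      simp only [hBdef, Matrix.of_apply, ne_comm (a := j)]
      congr 1
      exact propext ⟨fun ⟨a, b, c, d⟩ => ⟨b, a, c.symm, d⟩, fun ⟨a, b, c, d⟩ => ⟨b, a, c.symm, d⟩⟩
    have hBB : B * B = D := by
      ext i j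
      rw [Matrix.mul_apply]
      by_cases hi : (i : ℕ) < s
      · obtain ⟨p, hps, hp2, hpi⟩ : ∃ p : Fin m, (p : ℕ) < s ∧ (p : ℕ) / 2 = (i : ℕ) / 2 ∧ p ≠ i := by
          by_cases h2 : (i : ℕ) % 2 = 0
          · exact ⟨⟨i + 1, by omega⟩, show (i : ℕ) + 1 < s by omega, show ((i : ℕ) + 1) / 2 = _ by omega,
              fun he => by have := congrArg Fin.val he; simp at this⟩
          · exact ⟨⟨i - 1, by omega⟩, show (i : ℕ) - 1 < s by omega, show ((i : ℕ) - 1) / 2 = _ by omega,
              fun he => by have := congrArg Fin.val he; simp at this; omega⟩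
        rw [Finset.sum_eq_single p]
        · by_cases hij : i = j
          · subst hij
            simp [hBdef, hD, hi, hps, hp2, hpi, hpi.symm]
          · have hne : ¬ ((p : ℕ) < s ∧ (j : ℕ) < s ∧ (p : ℕ) / 2 = (j : ℕ) / 2 ∧ p ≠ j) := by
              rintro ⟨-, hj, h1, h2⟩
              simp only [ne_eq, Fin.ext_iff] at hij hpi h2
              omega
            simp [hBdef, hD, hij, hne]
        · intro b _ hb
          have hne : ¬ ((i : ℕ) < s ∧ (b : ℕ) < s ∧ (i : ℕ) / 2 = (b : ℕ) / 2 ∧ i ≠ b) := by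
            rintro ⟨-, hb', h1, h2⟩
            simp only [ne_eq, Fin.ext_iff] at hb hpi h2
            omega
          simp [hBdef, hne]
        · simp
      · by_cases hij : i = j
        · subst hij; simp [hBdef, hD, hi]
        · simp [hBdef, hD, hi, hij]
    have hDB : D * B = B := by
      ext i j
      rw [hD, Matrix.diagonal_mul]
      by_cases hi : (i : ℕ) < s
      · simp [hi]
      · simp [hBdef, hi]
    refine ⟨upper B hB, upper_sq B hB, (upper_rank B hB).trans (le_antisymm ?_ ?_), ?_⟩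
    · rw [← hDB]; exact (Matrix.rank_mul_le_left _ _).trans hDr.le
    · rw [← hDr, ← hBB]; exact Matrix.rank_mul_le_left _ _
    · rw [upper_alt]
      refine iff_of_true (fun y => ?_) rfl
      have h : ∀ i, B i i = 0 := fun i => by simp [hBdef]
      rw [dotProduct]
      simp only [Matrix.mulVec, dotProduct, Finset.mul_sum]
      rw [← Finset.sum_product']
      refine Finset.sum_involution (fun p _ => (p.2, p.1)) (fun p _ => ?_) (fun p _ hp he => hp ?_)
        (fun p _ => Finset.mem_product.2 ⟨Finset.mem_univ _, Finset.mem_univ _⟩) (fun p _ => rfl)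
      · dsimp only
        rw [hB.apply p.1 p.2]
        linear_combination CharTwo.add_self_eq_zero (y p.1 * (B p.1 p.2 * y p.2))
      · have e : p.2 = p.1 := congrArg Prod.fst he
        rw [e, h, zero_mul, mul_zero]

end Model

theorem card_classes :
    Nat.card {C : ConjClasses ↥(Matrix.symplecticGroup (Fin m) F) //
      ∃ g : Matrix.symplecticGroup (Fin m) F, ConjClasses.mk g = C ∧ orderOf g = 2} = m + m / 2 := by
  classical
  have hord : ∀ {t : Matrix.symplecticGroup (Fin m) F}, t ^ 2 = 1 → 0 < (t.1 - 1).rank → orderOf t = 2 := by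
    intro t h h0
    haveI : Fact (Nat.Prime 2) := ⟨Nat.prime_two⟩
    refine orderOf_eq_prime h fun h1 => ?_
    rw [h1, Submonoid.coe_one, sub_self, Matrix.rank_zero] at h0
    omega
  have hA : ∀ i : Fin m, ∃ t : Matrix.symplecticGroup (Fin m) F, t ^ 2 = 1 ∧ (t.1 - 1).rank = (i : ℕ) + 1 ∧
      ((∀ v, Cfsg.sympForm m F v (t.1 *ᵥ v) = 0) ↔ false = true) := fun i =>
    exists_model (by omega) false (by simp) (fun _ => by omega)
  have hB : ∀ j : Fin (m / 2), ∃ t : Matrix.symplecticGroup (Fin m) F, t ^ 2 = 1 ∧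
      (t.1 - 1).rank = 2 * (j : ℕ) + 2 ∧ ((∀ v, Cfsg.sympForm m F v (t.1 *ᵥ v) = 0) ↔ true = true) := fun j =>
    exists_model (by omega) true (fun _ => ⟨(j : ℕ) + 1, by omega⟩) (by simp)
  choose a ha1 ha2 ha3 using hA
  choose b hb1 hb2 hb3 using hB
  obtain ⟨r, hr⟩ : ∃ r : Fin m ⊕ Fin (m / 2) → Matrix.symplecticGroup (Fin m) F, r = Sum.elim a b := ⟨_, rfl⟩
  have hrsq : ∀ i, r i ^ 2 = 1 := fun i => by rw [hr]; rcases i with i | i; exacts [ha1 i, hb1 i]
  have hrord : ∀ i, orderOf (r i) = 2 := fun i => hord (hrsq i) (by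
    rw [hr]; rcases i with i | i
    · change 0 < ((a i).1 - 1).rank; rw [ha2]; omega
    · change 0 < ((b i).1 - 1).rank; rw [hb2]; omega)
  have e : Fin m ⊕ Fin (m / 2) ≃ {C : ConjClasses ↥(Matrix.symplecticGroup (Fin m) F) //
      ∃ g : Matrix.symplecticGroup (Fin m) F, ConjClasses.mk g = C ∧ orderOf g = 2} := by
    refine Equiv.ofBijective (fun i => ⟨ConjClasses.mk (r i), r i, rfl, hrord i⟩) ⟨?_, ?_⟩
    · intro x y h
      obtain ⟨h1, h2⟩ := rank_eq_of_conj (ConjClasses.mk_eq_mk_iff_isConj.1 (congrArg Subtype.val h))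
      rw [hr] at h1 h2
      rcases x with x | x <;> rcases y with y | y <;>
        simp only [Sum.elim_inl, Sum.elim_inr, ha2, ha3, hb2, hb3, Bool.false_eq_true, iff_true, iff_false,
          not_true_eq_false] at h1 h2
      · exact congrArg Sum.inl (Fin.ext (by omega))
      · exact congrArg Sum.inr (Fin.ext (by omega))
    · rintro ⟨C, g, rfl, hg⟩
      have hg2 : g ^ 2 = 1 := by rw [← hg]; exact pow_orderOf_eq_one g
      obtain ⟨s, hs⟩ : ∃ s, (g.1 - 1).rank = s := ⟨_, rfl⟩
      have hs0 : 0 < s := by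
        by_contra h0
        have hz : g.1 - 1 = 0 := by
          have hn : finrank F (LinearMap.range (nil g)) = 0 := by rw [finrank_nil, hs]; omega
          rw [Submodule.finrank_eq_zero, LinearMap.range_eq_bot] at hn
          exact Matrix.toLin'.injective (hn.trans (map_zero _).symm)
        have h1 : g = 1 := Subtype.ext (by rw [Submonoid.coe_one]; exact sub_eq_zero.1 hz)
        rw [h1, orderOf_one] at hg
        omega
      have hsm : s ≤ m := by
        have := two_rank_le (invol hg2)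
        rw [finrank_space, finrank_nil, hs] at this
        omega
      by_cases halt : ∀ v, Cfsg.sympForm m F v (g.1 *ᵥ v) = 0
      · have hev := alt_even hg2 halt
        rw [hs] at hev
        obtain ⟨j, hj⟩ := hev
        refine ⟨.inr ⟨j - 1, by omega⟩, Subtype.ext (ConjClasses.mk_eq_mk_iff_isConj.2 ?_)⟩
        refine (conj_iff (hrsq _) hg2).2 ?_
        rw [hr]
        refine ⟨?_, by simp only [Sum.elim_inr, hb3, true_iff]; exact halt⟩
        simp only [Sum.elim_inr, hb2, hs]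
        omega
      · refine ⟨.inl ⟨s - 1, by omega⟩, Subtype.ext (ConjClasses.mk_eq_mk_iff_isConj.2 ?_)⟩
        refine (conj_iff (hrsq _) hg2).2 ?_
        rw [hr]
        refine ⟨?_, by simp only [Sum.elim_inl, ha3, Bool.false_eq_true, false_iff]; exact halt⟩
        simp only [Sum.elim_inl, ha2, hs]
        omega
  rw [← Nat.card_congr e, Nat.card_sum, Nat.card_fin, Nat.card_fin]

end Cfsg.Agent.Small.SpInvolMatrix
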