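import Cfsg.Agent.Lib.Classical.SymplecticCount
import Cfsg.Agent.Lib.Small.SymplecticSemisimple

/-!
# Symmetric non-degenerate forms over finite fields of characteristic two

Normal Gram matrices and the number of tuples having them.
-/

set_option autoImplicit false
set_option linter.unusedSectionVars false

namespace Cfsg.Agent.Small.SymFormsTwo

open Module Matrix Cfsg.Agent.Classical.SpCount

universe u v w

variable {F : Type u} [Field F] {V : Type v} [AddCommGroup V] [Module F V]

/-- Tuples with the given Gram matrix. -/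
def Tup (β : V →ₗ[F] V →ₗ[F] F) {ι : Type w} (B : Matrix ι ι F) : Type max v w :=
  {f : ι → V // ∀ i j, β (f i) (f j) = B i j}

/-- The orthogonal complement of a tuple. -/
def perp (β : V →ₗ[F] V →ₗ[F] F) {ι : Type w} (f : ι → V) : Submodule F V :=
  LinearMap.ker (LinearMap.pi fun i => β (f i))

theorem mem_perp {β : V →ₗ[F] V →ₗ[F] F} {ι : Type w} {f : ι → V} {x : V} :
    x ∈ perp β f ↔ ∀ i, β (f i) x = 0 := by
  simp [perp, funext_iff]

/-- The form on the complement of a tuple. -/
def perpForm (β : V →ₗ[F] V →ₗ[F] F) {ι : Type w} (f : ι → V) : perp β f →ₗ[F] perp β f →ₗ[F] F :=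
  β.compl₁₂ (perp β f).subtype (perp β f).subtype

theorem perpForm_apply {β : V →ₗ[F] V →ₗ[F] F} {ι : Type w} {f : ι → V} (x y : perp β f) :
    perpForm β f x y = β x y := rfl

section Gram

variable {β : V →ₗ[F] V →ₗ[F] F} {ι : Type w} [Fintype ι] [DecidableEq ι] {M : Matrix ι ι F} {f : ι → V}
  (hf : ∀ i j, β (f i) (f j) = M i j) (hM : IsUnit M.det)

include hf hM

theorem gram_li : LinearIndependent F f := by
  rw [Fintype.linearIndependent_iff]
  intro c hc i
  have h : M *ᵥ c = 0 := funext fun k => by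
    have := congrArg (β (f k)) hc
    simpa [hf, Matrix.mulVec, dotProduct, mul_comm] using this
  exact congrFun (Matrix.eq_zero_of_mulVec_eq_zero hM.ne_zero h) i

theorem exists_decomp (z : V) : ∃ c : ι → F, z - ∑ j, c j • f j ∈ perp β f := by
  refine ⟨M⁻¹ *ᵥ fun i => β (f i) z, mem_perp.2 fun i => ?_⟩
  have h : (M *ᵥ (M⁻¹ *ᵥ fun i => β (f i) z)) i = β (f i) z := by
    rw [Matrix.mulVec_mulVec, Matrix.mul_nonsing_inv M hM, Matrix.one_mulVec]
  rw [map_sub, map_sum, sub_eq_zero, ← h]
  simp [Matrix.mulVec, dotProduct, hf, mul_comm]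

theorem finrank_perp [FiniteDimensional F V] : finrank F (perp β f) + Fintype.card ι = finrank F V := by
  have hs : Function.Surjective (LinearMap.pi fun i => β (f i)) := fun y => by
    refine ⟨∑ j, (M⁻¹ *ᵥ y) j • f j, funext fun i => ?_⟩
    have h : (M *ᵥ (M⁻¹ *ᵥ y)) i = y i := by
      rw [Matrix.mulVec_mulVec, Matrix.mul_nonsing_inv M hM, Matrix.one_mulVec]
    rw [← h]
    simp [Matrix.mulVec, dotProduct, hf, mul_comm]
  have h1 := LinearMap.finrank_range_add_finrank_ker (LinearMap.pi fun i => β (f i))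
  rw [LinearMap.range_eq_top.2 hs, finrank_top, finrank_fintype_fun_eq_card] at h1
  unfold perp
  omega

theorem perp_nondeg (hsym : ∀ x y, β x y = β y x) (hnd : ∀ x, (∀ y, β x y = 0) → x = 0) (x : perp β f)
    (hx : ∀ y : perp β f, β x y = 0) : x = 0 := by
  refine Subtype.ext (hnd _ fun z => ?_)
  obtain ⟨c, hc⟩ := exists_decomp hf hM z
  have h1 : β (x : V) (z - ∑ j, c j • f j) = 0 := hx ⟨_, hc⟩
  have h2 : β (x : V) (∑ j, c j • f j) = 0 := by
    rw [map_sum]
    refine Finset.sum_eq_zero fun j _ => ?_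
    rw [map_smul, hsym, mem_perp.1 x.2 j, smul_zero]
  rwa [map_sub, h2, sub_zero] at h1

/-- A vector orthogonal to a Gram basis vanishes. -/
theorem eq_zero_of_perp [FiniteDimensional F V] (hc : Fintype.card ι = finrank F V) {x : V}
    (hx : ∀ i, β (f i) x = 0) : x = 0 := by
  have h := finrank_perp hf hM
  have h0 : perp β f = ⊥ := Submodule.finrank_eq_zero.1 (by omega)
  have := mem_perp.2 hx
  rwa [h0, Submodule.mem_bot] at this

end Gram

/-- Splitting a tuple with a block diagonal Gram matrix. -/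
def splitEquiv {β : V →ₗ[F] V →ₗ[F] F} (hsym : ∀ x y, β x y = β y x) {ι κ : Type w} (M : Matrix ι ι F)
    (M' : Matrix κ κ F) :
    Tup β (Matrix.fromBlocks M 0 0 M') ≃ Σ g : Tup β M', Tup (perpForm β g.1) M where
  toFun v := ⟨⟨fun j => v.1 (.inr j), fun i j => v.2 (.inr i) (.inr j)⟩,
    ⟨fun i => ⟨v.1 (.inl i), mem_perp.2 fun j => v.2 (.inr j) (.inl i)⟩, fun i j => v.2 (.inl i) (.inl j)⟩⟩
  invFun x := ⟨Sum.elim (fun i => (x.2.1 i : V)) x.1.1, by
    rintro (i | i) (j | j)
    · exact x.2.2 i j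
    · exact (hsym _ _).trans (mem_perp.1 (x.2.1 i).2 j)
    · exact mem_perp.1 (x.2.1 j).2 i
    · exact x.1.2 i j⟩
  left_inv v := Subtype.ext (funext fun i => by cases i <;> rfl)
  right_inv x := rfl

section Finite

variable [Fintype F] [CharP F 2]

/-- The order of the symplectic group. -/
def sp (q k : ℕ) : ℕ := q ^ (k ^ 2) * ∏ i : Fin k, (q ^ (2 * ((i : ℕ) + 1)) - 1)

theorem sp_pos {q : ℕ} (hq : 2 ≤ q) (k : ℕ) : 0 < sp q k := by
  refine mul_pos (pow_pos (by omega) _) (Finset.prod_pos fun i _ => ?_)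
  have := Nat.one_lt_pow (show 2 * ((i : ℕ) + 1) ≠ 0 by omega) (show 1 < q by omega)
  omega

theorem card_spFam [FiniteDimensional F V] {β : V →ₗ[F] V →ₗ[F] F} (hβ : IsAltND β) {k : ℕ}
    (hk : finrank F V = 2 * k) : Nat.card (SpFam β k) = sp (Fintype.card F) k := by
  rw [card_fam k hβ hk, sp, Fin.prod_univ_eq_prod_range (fun i => Fintype.card F ^ (2 * (i + 1)) - 1)]

theorem sq_inj {a b : F} (h : a ^ 2 = b ^ 2) : a = b :=
  (frobeniusEquiv F 2).injective (by simpa [frobeniusEquiv_def, frobenius_def] using h)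

variable {β : V →ₗ[F] V →ₗ[F] F} (hsym : ∀ x y, β x y = β y x) (hnd : ∀ x, (∀ y, β x y = 0) → x = 0)

include hsym in
theorem diag_add (x y : V) : β (x + y) (x + y) = β x x + β y y := by
  simp only [map_add, LinearMap.add_apply, hsym y x]
  linear_combination CharTwo.add_self_eq_zero (β x y)

include hsym hnd in
/-- The vector representing the square root of the diagonal. -/
theorem exists_xi [FiniteDimensional F V] : ∃ ξ : V, ∀ x, β x x = β x ξ ^ 2 := by
  have hr : ∀ a : F, (frobeniusEquiv F 2).symm a ^ 2 = a := frobeniusEquiv_symm_pow_p F 2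
  let L : V →ₗ[F] F :=
    { toFun := fun x => (frobeniusEquiv F 2).symm (β x x)
      map_add' := fun x y => by rw [diag_add hsym, map_add]
      map_smul' := fun c x => sq_inj (by
        simp only [map_smul, LinearMap.smul_apply, smul_eq_mul, RingHom.id_apply, mul_pow, hr]
        ring) }
  have hs : Function.Surjective (β.flip : V → V →ₗ[F] F) := by
    have hi : Function.Injective (β.flip : V →ₗ[F] V →ₗ[F] F) := by
      rw [← LinearMap.ker_eq_bot, LinearMap.ker_eq_bot']
      intro x hx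
      refine hnd x fun y => ?_
      rw [hsym]
      exact LinearMap.congr_fun hx y
    exact (LinearMap.injective_iff_surjective_of_finrank_eq_finrank
      (Subspace.dual_finrank_eq (K := F) (V := V)).symm).1 hi
  obtain ⟨ξ, hξ⟩ := hs L
  refine ⟨ξ, fun x => ?_⟩
  have h := LinearMap.congr_fun hξ x
  rw [LinearMap.flip_apply] at h
  rw [h]
  exact (hr _).symm

variable [FiniteDimensional F V]

/-- Tuples for a block matrix whose first block is alternating. -/
theorem card_tup_blocks (ξ : V) (hξ : ∀ x, β x x = β x ξ ^ 2) {κ : Type} [Fintype κ] [DecidableEq κ]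
    (M' : Matrix κ κ F) (hM : IsUnit M'.det) (r : κ) (hr : ∀ j, M' j r ^ 2 = M' j j) (k : ℕ)
    (hk : 2 * k + Fintype.card κ = finrank F V) (hsym : ∀ x y, β x y = β y x)
    (hnd : ∀ x, (∀ y, β x y = 0) → x = 0) :
    Nat.card (Tup β (Matrix.fromBlocks (Matrix.J (Fin k) F) 0 0 M')) =
      Nat.card {g : Tup β M' // g.1 r = ξ} * sp (Fintype.card F) k := by
  classical
  haveI : Finite V := Module.finite_of_finite F
  haveI : Finite (Tup β M') := Subtype.finite
  have : ∀ g : Tup β M', Finite (Tup (perpForm β g.1) (Matrix.J (Fin k) F)) := fun g => Subtype.finite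
  have := Fintype.ofFinite (Tup β M')
  have hB : IsUnit (Matrix.fromBlocks (Matrix.J (Fin k) F) 0 0 M').det := by
    rw [Matrix.det_fromBlocks_zero₂₁]
    exact (Matrix.isUnit_det_J _ _).mul hM
  have key : ∀ g : Tup β M', Nat.card (Tup (perpForm β g.1) (Matrix.J (Fin k) F)) =
      if g.1 r = ξ then sp (Fintype.card F) k else 0 := fun g => by
    split_ifs with hg
    · have halt : IsAltND (perpForm β g.1) :=
        ⟨fun x => by
          rw [perpForm_apply, hξ, ← hg, hsym, mem_perp.1 x.2 r]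
          ring,
        fun x hx => perp_nondeg g.2 hM hsym hnd x hx⟩
      have := finrank_perp g.2 hM
      exact card_spFam halt (by omega)
    · haveI : IsEmpty (Tup (perpForm β g.1) (Matrix.J (Fin k) F)) := ⟨fun h => hg ?_⟩
      · exact Nat.card_of_isEmpty
      obtain ⟨v, hv⟩ : ∃ v, v = (splitEquiv hsym _ M').symm ⟨g, h⟩ := ⟨_, rfl⟩
      have hvr : v.1 (.inr r) = g.1 r := by rw [hv]; rfl
      have := eq_zero_of_perp v.2 hB (by rw [Fintype.card_sum, Fintype.card_sum, Fintype.card_fin]; omega)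
        (x := ξ - g.1 r) fun i => by
          rw [map_sub, ← hvr, v.2, sub_eq_zero]
          apply sq_inj
          rw [← hξ, v.2]
          rcases i with i | i
          · rcases i with i | i <;> simp [J_apply]
          · rw [Matrix.fromBlocks_apply₂₂, Matrix.fromBlocks_apply₂₂, hr]
      exact (sub_eq_zero.1 this).symm
  rw [Nat.card_congr (splitEquiv hsym _ M'), Nat.card_sigma, Finset.sum_congr rfl fun g _ => key g,
    Finset.sum_ite, Finset.sum_const_zero, add_zero, Finset.sum_const, smul_eq_mul,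
    Nat.card_eq_fintype_card, Fintype.card_subtype]

/-- The Gram matrix of the non-split plane. -/
def planeMat : Matrix (Fin 2) (Fin 2) F := !![0, 1; 1, 1]

theorem planeMat_det : IsUnit (planeMat : Matrix (Fin 2) (Fin 2) F).det := by
  simp [planeMat, Matrix.det_fin_two]

/-- The normal Gram matrix in odd dimension. -/
def oddMat (k : ℕ) : Matrix ((Fin k ⊕ Fin k) ⊕ Fin 1) ((Fin k ⊕ Fin k) ⊕ Fin 1) F :=
  Matrix.fromBlocks (Matrix.J (Fin k) F) 0 0 1

/-- The normal Gram matrix in even dimension, not alternating. -/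
def evenMat (k : ℕ) : Matrix ((Fin k ⊕ Fin k) ⊕ Fin 2) ((Fin k ⊕ Fin k) ⊕ Fin 2) F :=
  Matrix.fromBlocks (Matrix.J (Fin k) F) 0 0 planeMat

/-- The three types. -/
theorem cases (hsym : ∀ x y, β x y = β y x) (hnd : ∀ x, (∀ y, β x y = 0) → x = 0) :
    (IsAltND β ∧ ∃ k, finrank F V = 2 * k) ∨
    ((¬ ∀ x, β x x = 0) ∧ ∃ k, finrank F V = 2 * k + 1 ∧
      Nat.card (Tup β (oddMat k)) = sp (Fintype.card F) k) ∨
    ((¬ ∀ x, β x x = 0) ∧ ∃ k, finrank F V = 2 * k + 2 ∧
      Nat.card (Tup β (evenMat k)) = Fintype.card F ^ (finrank F V - 1) * sp (Fintype.card F) k) := by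
  classical
  obtain ⟨ξ, hξ⟩ := exists_xi hsym hnd
  by_cases h0 : ξ = 0
  · have halt : IsAltND β := ⟨fun x => by rw [hξ, h0, map_zero]; ring, hnd⟩
    exact .inl ⟨halt, SymplecticSemisimple.exists_even _ halt rfl⟩
  have hna : ¬ ∀ x, β x x = 0 := fun h => h0 (hnd ξ fun y => by
    rw [hsym]
    exact pow_eq_zero_iff two_ne_zero |>.1 (by rw [← hξ, h]))
  have halt : ∀ {κ : Type} (g : κ → V) (r : κ), g r = ξ → ∀ x : perp β g, perpForm β g x x = 0 :=
    fun g r hg x => by rw [perpForm_apply, hξ, ← hg, hsym, mem_perp.1 x.2 r]; ring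
  by_cases h1 : β ξ ξ = 1
  · have hgram : ∀ i j : Fin 1, β ((fun _ => ξ : Fin 1 → V) i) ((fun _ => ξ : Fin 1 → V) j) =
        (1 : Matrix (Fin 1) (Fin 1) F) i j := fun i j => by
      rw [Subsingleton.elim j i, Matrix.one_apply_eq]; exact h1
    have hM : IsUnit (1 : Matrix (Fin 1) (Fin 1) F).det := by rw [Matrix.det_one]; exact isUnit_one
    have h := finrank_perp hgram hM
    obtain ⟨k, hk⟩ := SymplecticSemisimple.exists_even _
      (⟨halt _ 0 rfl, fun x hx => perp_nondeg hgram hM hsym hnd x hx⟩ :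
        IsAltND (perpForm β (fun _ => ξ : Fin 1 → V))) rfl
    rw [Fintype.card_fin, hk] at h
    refine .inr (.inl ⟨hna, k, by omega, ?_⟩)
    rw [oddMat, card_tup_blocks ξ hξ 1 hM 0 (fun j => by rw [Subsingleton.elim j 0]; simp) k
      (by rw [Fintype.card_fin]; omega) hsym hnd]
    haveI : Unique {g : Tup β (1 : Matrix (Fin 1) (Fin 1) F) // g.1 0 = ξ} :=
      { default := ⟨⟨fun _ => ξ, hgram⟩, rfl⟩
        uniq := fun g => Subtype.ext (Subtype.ext (funext fun i => by rw [Subsingleton.elim i 0]; exact g.2)) }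
    rw [Nat.card_unique, one_mul]
  · have h2 : β ξ ξ = 0 := by
      have h := hξ ξ
      have h' : β ξ ξ * (β ξ ξ - 1) = 0 := by linear_combination -h
      rcases mul_eq_zero.1 h' with h' | h'
      · exact h'
      · exact absurd (sub_eq_zero.1 h') h1
    obtain ⟨η, hη⟩ : ∃ η, β ξ η = 1 := by
      obtain ⟨y, hy⟩ : ∃ y, β ξ y ≠ 0 := by
        by_contra! h
        exact h0 (hnd ξ h)
      exact ⟨(β ξ y)⁻¹ • y, by rw [map_smul, smul_eq_mul, inv_mul_cancel₀ hy]⟩
    have hgen : ∀ y, β ξ y = 1 → ∀ i j : Fin 2, β (![ξ, y] i) (![ξ, y] j) = planeMat i j := fun y hy => by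
      have hy' : β y ξ = 1 := by rw [hsym, hy]
      have hyy : β y y = 1 := by rw [hξ, hy', one_pow]
      intro i j
      fin_cases i <;> fin_cases j <;> simp [planeMat, h2, hy, hy', hyy]
    have hM : IsUnit (planeMat : Matrix (Fin 2) (Fin 2) F).det := planeMat_det
    have h := finrank_perp (hgen η hη) hM
    obtain ⟨k, hk⟩ := SymplecticSemisimple.exists_even _
      (⟨halt _ 0 rfl, fun x hx => perp_nondeg (hgen η hη) hM hsym hnd x hx⟩ :
        IsAltND (perpForm β ![ξ, η])) rfl
    rw [Fintype.card_fin, hk] at h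
    refine .inr (.inr ⟨hna, k, by omega, ?_⟩)
    rw [evenMat, card_tup_blocks ξ hξ planeMat hM 0 (fun j => by fin_cases j <;> simp [planeMat]) k
      (by rw [Fintype.card_fin]; omega) hsym hnd]
    congr 1
    rw [← card_fibre (φ := β ξ) (fun h => h0 (hnd ξ fun y => LinearMap.congr_fun h y)) 1]
    exact Nat.card_congr
      { toFun := fun g => ⟨g.1.1 1, by
          have := g.1.2 0 1
          rw [g.2] at this
          simpa [planeMat] using this⟩
        invFun := fun y => ⟨⟨![ξ, y.1], hgen y.1 y.2⟩, rfl⟩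
        left_inv := fun g => Subtype.ext (Subtype.ext (funext fun i => by
          fin_cases i
          · exact g.2.symm
          · rfl))
        right_inv := fun y => rfl }

/-- Every type has a normal Gram matrix, the same for all forms of that type. -/
theorem exists_normal (hsym : ∀ x y, β x y = β y x) (hnd : ∀ x, (∀ y, β x y = 0) → x = 0) :
    ∃ (ι : Type) (_ : Fintype ι) (_ : DecidableEq ι) (B : Matrix ι ι F),
      Fintype.card ι = finrank F V ∧ IsUnit B.det ∧ B.IsSymm ∧
      ∀ {V' : Type v} [AddCommGroup V'] [Module F V'] [FiniteDimensional F V'] (β' : V' →ₗ[F] V' →ₗ[F] F),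
        (∀ x y, β' x y = β' y x) → (∀ x, (∀ y, β' x y = 0) → x = 0) → finrank F V' = finrank F V →
        ((∀ x, β' x x = 0) ↔ ∀ x, β x x = 0) →
        ((∀ x, β x x = 0) → Nat.card (Tup β' B) = sp (Fintype.card F) (finrank F V / 2)) ∧
        (Odd (finrank F V) → Nat.card (Tup β' B) = sp (Fintype.card F) ((finrank F V - 1) / 2)) ∧
        (Even (finrank F V) → (¬ ∀ x, β x x = 0) → Nat.card (Tup β' B) =
          Fintype.card F ^ (finrank F V - 1) * sp (Fintype.card F) ((finrank F V - 2) / 2)) ∧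
        0 < Nat.card (Tup β' B) := by
  classical
  have hq : 2 ≤ Fintype.card F := Fintype.one_lt_card
  rcases cases hsym hnd with ⟨halt, k, hk⟩ | ⟨hna, k, hk, -⟩ | ⟨hna, k, hk, -⟩
  · refine ⟨Fin k ⊕ Fin k, inferInstance, inferInstance, Matrix.J (Fin k) F,
      by rw [Fintype.card_sum, Fintype.card_fin, hk]; omega, Matrix.isUnit_det_J _ _, ?_, ?_⟩
    · rw [Matrix.IsSymm, Matrix.J_transpose]
      ext i j
      rw [Matrix.neg_apply, CharTwo.neg_eq]
    intro V' _ _ _ β' hs' hn' hd' ha'
    have hc : Nat.card (Tup β' (Matrix.J (Fin k) F)) = sp (Fintype.card F) k :=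
      card_spFam ⟨ha'.2 halt.self, hn'⟩ (by omega)
    rw [hc, hk]
    refine ⟨fun _ => by rw [show 2 * k / 2 = k by omega], fun h => ?_, fun _ h => absurd halt.self h,
      sp_pos hq k⟩
    obtain ⟨j, hj⟩ := h
    omega
  · refine ⟨_, inferInstance, inferInstance, oddMat k, by simp [hk]; omega, ?_, ?_, ?_⟩
    · rw [oddMat, Matrix.det_fromBlocks_zero₂₁, Matrix.det_one, mul_one]
      exact Matrix.isUnit_det_J _ _
    · rw [Matrix.IsSymm, oddMat, Matrix.fromBlocks_transpose, Matrix.transpose_zero, Matrix.transpose_zero,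
        Matrix.transpose_one, Matrix.J_transpose]
      congr 1
      ext i j
      rw [Matrix.neg_apply, CharTwo.neg_eq]
    intro V' _ _ _ β' hs' hn' hd' ha'
    rcases cases hs' hn' with ⟨h1, -⟩ | ⟨-, k', hk', hc⟩ | ⟨-, k', hk', -⟩
    · exact absurd (ha'.1 h1.self) hna
    · obtain rfl : k' = k := by omega
      rw [hc, hk]
      exact ⟨fun h => absurd h hna, fun _ => by rw [show (2 * k' + 1 - 1) / 2 = k' by omega],
        fun ⟨j, hj⟩ _ => by omega, sp_pos hq k'⟩
    · omega
  · refine ⟨_, inferInstance, inferInstance, evenMat k, by simp [hk]; omega, ?_, ?_, ?_⟩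
    · rw [evenMat, Matrix.det_fromBlocks_zero₂₁]
      exact (Matrix.isUnit_det_J _ _).mul planeMat_det
    · rw [Matrix.IsSymm, evenMat, Matrix.fromBlocks_transpose, Matrix.transpose_zero, Matrix.transpose_zero,
        Matrix.J_transpose]
      congr 1
      · ext i j
        rw [Matrix.neg_apply, CharTwo.neg_eq]
      · ext i j
        fin_cases i <;> fin_cases j <;> simp [planeMat]
    intro V' _ _ _ β' hs' hn' hd' ha'
    rcases cases hs' hn' with ⟨h1, -⟩ | ⟨-, k', hk', -⟩ | ⟨-, k', hk', hc⟩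
    · exact absurd (ha'.1 h1.self) hna
    · omega
    · obtain rfl : k' = k := by omega
      rw [hc, hd', hk]
      exact ⟨fun h => absurd h hna, fun ⟨j, hj⟩ => by omega,
        fun _ _ => by rw [show (2 * k' + 2 - 2) / 2 = k' by omega],
        Nat.mul_pos (pow_pos (by omega) _) (sp_pos hq k')⟩

end Finite

end Cfsg.Agent.Small.SymFormsTwo
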