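import Cfsg.Agent.Lib.Small.HeckeGroup
import Cfsg.Agent.Lib.Small.UnipCount

/-!
The permutation character on the cosets of the Borel subgroup of a Chevalley group has as many
constituents as the Weyl group has classes.
-/

set_option autoImplicit false
set_option synthInstance.maxHeartbeats 400000

namespace Cfsg.Agent.Small.Hecke

open Cfsg Cfsg.Lie Cfsg.Agent.Lie Cfsg.Agent.Small.WeylCosets Cfsg.Agent.Small.StChar

variable {D : ChevalleyDatum} (hF : Facts D) (F : Type*) [Field F] [Fintype F]

/-- The model given by the Bruhat cells. -/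
noncomputable def chevModel :
    Model hF.refSys ((D.borelSubgroup F).subgroupOf (D.group F)) (Fintype.card F) where
  cell := cell hF
  mem_iff g := by
    refine ⟨fun hg => cell_eq hF (inCell_one hF ((hF.tsys_B (F := F)).ge hg)), fun hg => ?_⟩
    obtain ⟨b, hb, b', hb', he⟩ := cell_spec hF g
    rw [hg] at he
    rw [Subgroup.mem_subgroupOf, he, ← hF.tsys_B]
    exact mul_mem (mul_mem hb ((hF.tsys F).H_le_B (hF.tsys F).nW_one)) hb'
  cell_mul b hb g b' hb' := by
    refine cell_eq hF ?_
    rw [Subgroup.coe_mul, Subgroup.coe_mul]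
    exact inCell_mul_B hF (cell_spec hF g) ((hF.tsys_B (F := F)).ge hb) ((hF.tsys_B (F := F)).ge hb')
  exists_mul g h hgh := by
    obtain ⟨a, ha, a', ha', he⟩ := cell_spec hF g
    obtain ⟨c, hc, c', hc', he'⟩ := cell_spec hF h
    rw [← hgh] at he'
    refine ⟨⟨c * a⁻¹, B_mem_group hF (mul_mem hc (inv_mem ha))⟩,
      (hF.tsys_B (F := F)).le (mul_mem hc (inv_mem ha)),
      ⟨a'⁻¹ * c', B_mem_group hF (mul_mem (inv_mem ha') hc')⟩,
      (hF.tsys_B (F := F)).le (mul_mem (inv_mem ha') hc'), Subtype.ext ?_⟩
    simp only [Subgroup.coe_mul]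
    rw [he, he']
    group
  surj w := ⟨⟨(hF.tsys F).nW w, nW_mem_group hF w⟩, cell_eq hF (inCell_nW hF w)⟩
  cell_inv g := cell_eq hF (by rw [Subgroup.coe_inv]; exact inCell_inv hF (cell_spec hF g))
  card_cell w := by
    rw [← card_cell hF (F := F) w, mul_comm, ← Nat.card_prod]
    refine Nat.card_congr (((Subgroup.groupEquivQuotientProdSubgroup
      (s := (D.borelSubgroup F).subgroupOf (D.group F))).subtypeEquiv
        (q := fun z => qcell hF z.1 = w) fun g => ?_).trans
      { toFun := fun z => (⟨z.1.1, z.2⟩, z.1.2)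
        invFun := fun z => ⟨(z.1.1, z.2), z.1.2⟩
        left_inv := fun z => rfl
        right_inv := fun z => rfl })
    rw [show (Subgroup.groupEquivQuotientProdSubgroup g).1 =
      (g : ↥(D.group F) ⧸ (D.borelSubgroup F).subgroupOf (D.group F)) from rfl, qcell_mk]
  up i g h hg hl := by
    refine cell_eq hF ?_
    rw [Subgroup.coe_mul]
    refine inCell_mul_add hF (x := hF.refSys.s i) ?_ (cell_spec hF h) ?_
    · rw [← hg]; exact cell_spec hF g
    · rw [len_s hF.refSys i]; omega
  two i g h hg := by
    obtain ⟨v, hv, hc⟩ := inCell_mul_left hF (J := {i})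
      (s_mem hF.refSys (show i ∈ ({i} : Set (Fin D.rank)) from rfl))
      (hg ▸ cell_spec hF g) (cell_spec hF h)
    have hv' : v = 1 ∨ v = hF.refSys.s i := by
      clear hc
      induction hv using Subgroup.closure_induction with
      | mem x hx =>
        obtain ⟨j, hj, rfl⟩ := hx
        rw [Set.mem_singleton_iff] at hj
        exact Or.inr (by rw [hj])
      | one => exact Or.inl rfl
      | mul x y _ _ h1 h2 =>
        rcases h1 with rfl | rfl <;> rcases h2 with rfl | rfl <;> simp [hF.refSys.sq]
      | inv x _ h1 =>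
        rcases h1 with rfl | rfl
        · exact Or.inl inv_one
        · exact Or.inr (RefSystem.s_inv _ _)
    rcases hv' with rfl | rfl
    · exact Or.inr (cell_eq hF (by simpa using hc))
    · exact Or.inl (cell_eq hF (by simpa using hc))
  hq := Fintype.card_pos

include hF in
theorem good_all [Fintype hF.weyl] (q : ℂ) : Good hF.refSys q := by
  classical
  refine good_of_infinite hF.refSys (S := (fun p : ℕ => (p : ℂ)) '' {p | p.Prime})
    (Nat.infinite_setOfPred_prime.image Nat.cast_injective.injOn) ?_ q
  rintro _ ⟨p, hp, rfl⟩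
  have : Fact p.Prime := ⟨hp⟩
  have := Fintype.ofFinite ↥(D.group (ZMod p))
  have h := (chevModel hF (ZMod p)).good
  rwa [ZMod.card] at h

include hF in
/-- The number of constituents is the number of classes of the Weyl group. -/
theorem constituents_eq {C : Type*} [Group C] (e : C ≃* hF.weyl) :
    Nat.card {χ : IrrCharacter ↥(D.group F) //
      ∃ φ : ↥(D.group F) → ℂ, IsCharacter ↥(D.group F) φ ∧
        fixedPointCharacter ((D.borelSubgroup F).subgroupOf (D.group F)) =
          (χ : ↥(D.group F) → ℂ) + φ} = Nat.card (ConjClasses C) := by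
  classical
  have := Fintype.ofFinite hF.weyl
  have := Fintype.ofFinite ↥(D.group F)
  rw [(chevModel hF F).card_constituents]
  have h := cas_rank (R := hF.refSys) (good_all hF) (r := (Fintype.card F : ℝ))
    (Nat.cast_pos.2 Fintype.card_pos)
  rw [Complex.ofReal_natCast] at h
  rw [h]
  refine (Nat.card_congr (Equiv.ofBijective (ConjClasses.map e.toMonoidHom) ⟨?_, ?_⟩)).symm
  · intro a b hab
    obtain ⟨a, rfl⟩ := ConjClasses.exists_rep a
    obtain ⟨b, rfl⟩ := ConjClasses.exists_rep b
    have hc := ConjClasses.mk_eq_mk_iff_isConj.1 hab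
    have := e.symm.toMonoidHom.map_isConj hc
    simpa [ConjClasses.mk_eq_mk_iff_isConj] using this
  · exact ConjClasses.map_surjective e.surjective

end Cfsg.Agent.Small.Hecke
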