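import Cfsg.Agent.Lib.Small.WeylCosets
import Mathlib.Analysis.Complex.Basic
import Mathlib.Analysis.Normed.Module.FiniteDimension
import Mathlib.Algebra.Polynomial.Roots
import Mathlib.Algebra.Group.Conj
import Mathlib.LinearAlgebra.FiniteDimensional.Lemmas

/-!
The Hecke algebra of a reflection system at a parameter, by left multiplication operators. Identities
that hold in group models for infinitely many parameters hold for all; for positive real parameters
the centre is the image of the Casimir map, so its dimension does not depend on the parameter.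
-/

set_option autoImplicit false

namespace Cfsg.Agent.Small.Hecke

open Cfsg.Agent.Lie Cfsg.Agent.Small.WeylCosets
open scoped ComplexConjugate Topology

variable {I W Φ : Type*} [Group W] [MulAction W Φ] [DecidableEq Φ] (R : RefSystem I W Φ)

theorem len_s_mul (i : I) (y : W) :
    R.len (R.s i * y) = R.len y + 1 ∨ R.len (R.s i * y) + 1 = R.len y := by
  have h : R.len (R.s i * y) = R.len (y⁻¹ * R.s i) := by
    rw [← len_inv R, _root_.mul_inv_rev, R.s_inv]
  rw [h, ← len_inv R y]
  by_cases hp : y⁻¹ • R.α i ∈ R.P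
  · exact Or.inl (R.len_mul_s_of_mem hp)
  · exact Or.inr (R.len_mul_s_of_not_mem hp)

section Ring

variable {A : Type*} [CommRing A] (q : A)

/-- Left multiplication by a generator. -/
def step (i : I) : (W → A) →ₗ[A] (W → A) where
  toFun h z := if R.len (R.s i * z) < R.len z then h (R.s i * z) + (q - 1) * h z else q * h (R.s i * z)
  map_add' a b := by
    funext z
    simp only [Pi.add_apply]
    split_ifs <;> ring
  map_smul' a b := by
    funext z
    simp only [Pi.smul_apply, smul_eq_mul, RingHom.id_apply]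
    split_ifs <;> ring

/-- Left multiplication along a word. -/
def opW : List I → ((W → A) →ₗ[A] (W → A))
  | [] => LinearMap.id
  | i :: ω => step R q i ∘ₗ opW ω

/-- A reduced word. -/
noncomputable def word (w : W) : List I := Classical.choose (R.exists_reduced w)

theorem word_spec (w : W) : R.pr (word R w) = w ∧ (word R w).length = R.len w :=
  Classical.choose_spec (R.exists_reduced w)

/-- The product. -/
noncomputable def mul [Fintype W] (h k : W → A) : W → A := ∑ w, h w • opW R q (word R w) k

/-- Reversal. -/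
def rev (h : W → A) : W → A := fun z => h z⁻¹

theorem rev_rev (h : W → A) : rev (rev h) = h := by funext z; simp [rev]

/-- Basis vector. -/
noncomputable def basisVec (w : W) : W → A := by classical exact Pi.single w 1

theorem basisVec_apply [DecidableEq W] (w z : W) :
    basisVec (A := A) w z = if z = w then 1 else 0 := by
  unfold basisVec
  simp only [Pi.single_apply]
  split_ifs <;> rfl

theorem rev_basisVec (w : W) : rev (basisVec (A := A) w) = basisVec w⁻¹ := by
  classical
  funext z
  simp [rev, basisVec_apply, inv_eq_iff_eq_inv]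

theorem step_up {i : I} {u : W} (h : R.len (R.s i * u) = R.len u + 1) :
    step R q i (basisVec u) = basisVec (R.s i * u) := by
  classical
  funext z
  simp only [step, LinearMap.coe_mk, AddHom.coe_mk, basisVec_apply]
  have hss : R.s i * (R.s i * u) = u := by rw [← mul_assoc, R.sq, one_mul]
  by_cases hz : z = R.s i * u
  · subst hz
    rw [hss, if_pos (by omega), if_pos rfl, if_pos rfl, if_neg (fun he => by
      have := congrArg R.len he; omega)]
    ring
  · rw [if_neg hz]
    have hz' : ¬ R.s i * z = u := fun he => hz (by rw [← he, ← mul_assoc, R.sq, one_mul])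
    simp only [if_neg hz']
    by_cases hu : z = u
    · subst hu
      rw [if_neg (by omega)]
      ring
    · rw [if_neg hu]
      split_ifs <;> ring

theorem opW_one : ∀ ω : List I, ω.length = R.len (R.pr ω) →
    opW R q ω (basisVec 1) = basisVec (R.pr ω) := by
  intro ω
  induction ω with
  | nil => intro _; rfl
  | cons i ω ih =>
    intro hlen
    rw [List.length_cons] at hlen
    have h1 := R.len_pr_le ω
    have h2 := len_s_mul R i (R.pr ω)
    rw [RefSystem.pr_cons] at hlen ⊢
    rw [opW, LinearMap.comp_apply, ih (by omega), step_up R q (by omega)]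

theorem opW_word_one (w : W) : opW R q (word R w) (basisVec 1) = basisVec w := by
  rw [opW_one R q _ (by rw [(word_spec R w).2, (word_spec R w).1]), (word_spec R w).1]

variable [Fintype W]

theorem mul_basis_left (w : W) (k : W → A) : mul R q (basisVec w) k = opW R q (word R w) k := by
  classical
  simp [mul, basisVec_apply, ite_smul]

theorem one_mul' (k : W → A) : mul R q (basisVec 1) k = k := by
  have h : word R (1 : W) = [] :=
    List.eq_nil_of_length_eq_zero (by rw [(word_spec R 1).2, RefSystem.len_one])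
  rw [mul_basis_left, h]
  rfl

theorem add_mul' (a b k : W → A) : mul R q (a + b) k = mul R q a k + mul R q b k := by
  simp [mul, add_smul, Finset.sum_add_distrib]

theorem mul_add' (h a b : W → A) : mul R q h (a + b) = mul R q h a + mul R q h b := by
  simp [mul, Finset.sum_add_distrib]

theorem smul_mul' (c : A) (a k : W → A) : mul R q (c • a) k = c • mul R q a k := by
  simp [mul, Finset.smul_sum, smul_smul]

theorem mul_smul' (c : A) (h a : W → A) : mul R q h (c • a) = c • mul R q h a := by
  simp [mul, Finset.smul_sum, smul_smul, mul_comm]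

/-- The product as a bilinear map. -/
noncomputable def mulL : (W → A) →ₗ[A] (W → A) →ₗ[A] (W → A) :=
  LinearMap.mk₂ A (mul R q) (add_mul' R q) (smul_mul' R q) (mul_add' R q) (mul_smul' R q)

theorem mul_sum' {ι : Type*} (s : Finset ι) (h : W → A) (f : ι → W → A) :
    mul R q h (∑ i ∈ s, f i) = ∑ i ∈ s, mul R q h (f i) := map_sum (mulL R q h) f s

theorem sum_mul' {ι : Type*} (s : Finset ι) (f : ι → W → A) (k : W → A) :
    mul R q (∑ i ∈ s, f i) k = ∑ i ∈ s, mul R q (f i) k := map_sum ((mulL R q).flip k) f s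

theorem expand (h : W → A) : h = ∑ w, h w • basisVec w := by
  classical
  funext z
  simp [basisVec_apply]

/-! ### Naturality in the ring -/

variable {A' : Type*} [CommRing A'] (f : A →+* A')

theorem map_step (i : I) (h : W → A) : f ∘ step R q i h = step R (f q) i (f ∘ h) := by
  funext z
  simp only [Function.comp_apply, step, LinearMap.coe_mk, AddHom.coe_mk, apply_ite f, map_add, map_mul,
    map_sub, map_one]

theorem map_opW (ω : List I) (h : W → A) : f ∘ opW R q ω h = opW R (f q) ω (f ∘ h) := by
  induction ω with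
  | nil => rfl
  | cons i ω ih => rw [opW, LinearMap.comp_apply, map_step, ih]; rfl

theorem map_mul' (h k : W → A) : f ∘ mul R q h k = mul R (f q) (f ∘ h) (f ∘ k) := by
  funext z
  simp only [mul, Function.comp_apply, Finset.sum_apply, Pi.smul_apply, smul_eq_mul, map_sum, map_mul]
  refine Finset.sum_congr rfl fun w _ => ?_
  rw [← map_opW]
  rfl

theorem map_rev (h : W → A) : f ∘ rev h = rev (f ∘ h) := rfl

theorem map_basisVec (w : W) : f ∘ basisVec (A := A) w = basisVec w := by
  classical
  funext z
  simp [basisVec_apply, apply_ite f]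

end Ring

variable [Fintype W]

/-- The algebra identities at a parameter. -/
structure Good (q : ℂ) : Prop where
  assoc : ∀ h k m : W → ℂ, mul R q (mul R q h k) m = mul R q h (mul R q k m)
  anti : ∀ h k : W → ℂ, rev (mul R q h k) = mul R q (rev k) (rev h)
  tau : ∀ h k : W → ℂ, mul R q h k 1 = ∑ w, q ^ R.len w * (h w * k w⁻¹)

open Polynomial in
theorem vec_eq_of_infinite {a b : W → ℂ[X]} {S : Set ℂ} (hS : S.Infinite)
    (h : ∀ x ∈ S, evalRingHom x ∘ a = evalRingHom x ∘ b) : a = b := by
  funext z
  exact eq_of_infinite_eval_eq _ _ (hS.mono fun x hx => congrFun (h x hx) z)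

open Polynomial in
theorem good_of_infinite {S : Set ℂ} (hS : S.Infinite) (hgood : ∀ x ∈ S, Good R x) (q : ℂ) :
    Good R q := by
  have hev : ∀ (x : ℂ), evalRingHom x X = x := fun x => eval_X
  have hC : ∀ (x : ℂ) (h : W → ℂ), evalRingHom x ∘ (C ∘ h) = h := fun x h => by
    funext z; simp
  refine ⟨fun h k m => ?_, fun h k => ?_, fun h k => ?_⟩
  · have e := vec_eq_of_infinite (a := mul R X (mul R X (C ∘ h) (C ∘ k)) (C ∘ m))
      (b := mul R X (C ∘ h) (mul R X (C ∘ k) (C ∘ m))) hS fun x hx => by
        simp only [map_mul', hev, hC]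
        exact (hgood x hx).assoc h k m
    have e' := congrArg (fun v => evalRingHom q ∘ v) e
    simpa only [map_mul', hev, hC] using e'
  · have e := vec_eq_of_infinite (a := rev (mul R X (C ∘ h) (C ∘ k)))
      (b := mul R X (rev (C ∘ k)) (rev (C ∘ h))) hS fun x hx => by
        simp only [map_mul', map_rev, hev, hC]
        exact (hgood x hx).anti h k
    have e' := congrArg (fun v => evalRingHom q ∘ v) e
    simpa only [map_mul', map_rev, hev, hC] using e'
  · have e : mul R X (C ∘ h) (C ∘ k) 1 = ∑ w, X ^ R.len w * (C (h w) * C (k w⁻¹)) := by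
      refine eq_of_infinite_eval_eq _ _ (hS.mono fun x hx => ?_)
      show eval x (mul R X (C ∘ h) (C ∘ k) 1) = eval x (∑ w, X ^ R.len w * (C (h w) * C (k w⁻¹)))
      rw [show eval x (mul R X (C ∘ h) (C ∘ k) 1) = (evalRingHom x ∘ mul R X (C ∘ h) (C ∘ k)) 1 from rfl,
        map_mul', hev, hC, hC, (hgood x hx).tau, eval_finsetSum]
      exact Finset.sum_congr rfl fun w _ => by simp
    have e' := congrArg (evalRingHom q) e
    rw [show evalRingHom q (mul R X (C ∘ h) (C ∘ k) 1) =
      (evalRingHom q ∘ mul R X (C ∘ h) (C ∘ k)) 1 from rfl, map_mul', hev, hC, hC, map_sum] at e'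
    rw [e']
    exact Finset.sum_congr rfl fun w _ => by simp

/-! ### The Casimir map -/

/-- The Casimir map. -/
noncomputable def cas (q : ℂ) : (W → ℂ) →ₗ[ℂ] (W → ℂ) :=
  ∑ u, (q ^ R.len u)⁻¹ • (mulL R q (basisVec u) ∘ₗ (mulL R q).flip (basisVec u⁻¹))

/-- Commutators with the basis. -/
noncomputable def comm (q : ℂ) : (W → ℂ) →ₗ[ℂ] (W → W → ℂ) :=
  LinearMap.pi fun v => mulL R q (basisVec v) - (mulL R q).flip (basisVec v)

theorem cas_apply (q : ℂ) (b : W → ℂ) : cas R q b =
    ∑ u, (q ^ R.len u)⁻¹ • mul R q (basisVec u) (mul R q b (basisVec u⁻¹)) := by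
  simp [cas, mulL, LinearMap.sum_apply]

theorem mem_ker_comm (q : ℂ) {h : W → ℂ} : h ∈ LinearMap.ker (comm R q) ↔
    ∀ v, mul R q (basisVec v) h = mul R q h (basisVec v) := by
  simp only [LinearMap.mem_ker, comm, funext_iff, LinearMap.pi_apply, LinearMap.sub_apply, mulL,
    LinearMap.flip_apply, LinearMap.mk₂_apply, Pi.sub_apply, Pi.zero_apply, sub_eq_zero]

variable {R} {q : ℂ}

theorem Good.mul_one (G : Good R q) (h : W → ℂ) : mul R q h (basisVec 1) = h := by
  have e := G.anti h (basisVec 1)
  rw [rev_basisVec, inv_one, one_mul'] at e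
  rw [← rev_rev (mul R q h (basisVec 1)), e, rev_rev]

theorem Good.tau_basis (G : Good R q) (h : W → ℂ) (u : W) :
    mul R q h (basisVec u⁻¹) 1 = q ^ R.len u * h u := by
  classical
  rw [G.tau, Finset.sum_eq_single u]
  · simp [basisVec_apply]
  · intro w _ hne; simp [basisVec_apply, hne]
  · simp

theorem Good.tau_comm (G : Good R q) (h k : W → ℂ) : mul R q h k 1 = mul R q k h 1 := by
  rw [G.tau, G.tau]
  refine Fintype.sum_equiv (Equiv.inv W) _ _ fun w => ?_
  simp [len_inv R, mul_comm]

theorem Good.cas_central (G : Good R q) (hq : q ≠ 0) (b : W → ℂ) :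
    cas R q b ∈ LinearMap.ker (comm R q) := by
  rw [mem_ker_comm]
  intro v
  have hexp : ∀ h : W → ℂ, h = ∑ z, ((q ^ R.len z)⁻¹ * mul R q h (basisVec z⁻¹) 1) • basisVec z := by
    intro h
    refine (expand h).trans (Finset.sum_congr rfl fun z _ => ?_)
    rw [G.tau_basis, inv_mul_cancel_left₀ (pow_ne_zero _ hq)]
  have hl : mul R q (basisVec v) (cas R q b) = ∑ u, ∑ z,
      ((q ^ R.len u)⁻¹ * (q ^ R.len z)⁻¹ *
        mul R q (mul R q (basisVec v) (basisVec u)) (basisVec z⁻¹) 1) •
        mul R q (basisVec z) (mul R q b (basisVec u⁻¹)) := by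
    rw [cas_apply, mul_sum']
    refine Finset.sum_congr rfl fun u _ => ?_
    rw [mul_smul', ← G.assoc, hexp (mul R q (basisVec v) (basisVec u)), sum_mul', Finset.smul_sum]
    refine Finset.sum_congr rfl fun z _ => ?_
    rw [smul_mul', smul_smul, mul_assoc, ← hexp]
  have hr : mul R q (cas R q b) (basisVec v) = ∑ z, ∑ u,
      ((q ^ R.len u)⁻¹ * (q ^ R.len z)⁻¹ *
        mul R q (mul R q (basisVec z⁻¹) (basisVec v)) (basisVec u) 1) •
        mul R q (basisVec z) (mul R q b (basisVec u⁻¹)) := by
    rw [cas_apply, sum_mul']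
    refine Finset.sum_congr rfl fun z _ => ?_
    rw [smul_mul', G.assoc, G.assoc, hexp (mul R q (basisVec z⁻¹) (basisVec v)), mul_sum', mul_sum',
      Finset.smul_sum]
    refine Fintype.sum_equiv (Equiv.inv W) _ _ fun u => ?_
    rw [mul_smul', mul_smul', smul_smul, Equiv.inv_apply, len_inv R, inv_inv]
    congr 1
    rw [← hexp]
    ring
  rw [hl, hr, Finset.sum_comm]
  refine Finset.sum_congr rfl fun z _ => Finset.sum_congr rfl fun u _ => ?_
  rw [G.tau_comm (mul R q (basisVec v) (basisVec u)), ← G.assoc]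

theorem Good.central_comm (G : Good R q) {z : W → ℂ} (hz : z ∈ LinearMap.ker (comm R q)) (h : W → ℂ) :
    mul R q h z = mul R q z h := by
  rw [mem_ker_comm] at hz
  rw [expand h, sum_mul', mul_sum']
  exact Finset.sum_congr rfl fun v _ => by rw [smul_mul', mul_smul', hz v]

theorem map_conj_mul (hq : conj q = q) (h k : W → ℂ) :
    (fun z => conj (mul R q h k z)) = mul R q (fun z => conj (h z)) (fun z => conj (k z)) := by
  have := map_mul' R q (starRingEnd ℂ) h k
  rw [hq] at this
  exact this

theorem Good.cas_injOn (G : Good R q) {r : ℝ} (hr : 0 < r) (hqr : q = r) {z : W → ℂ}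
    (hz : z ∈ LinearMap.ker (comm R q)) (h0 : cas R q z = 0) : z = 0 := by
  classical
  subst hqr
  set p : ℂ := (r : ℂ) with hp
  have h1 : mul R p (cas R p (basisVec 1)) z = 0 := by
    rw [← h0, cas_apply, cas_apply, sum_mul']
    refine Finset.sum_congr rfl fun u _ => ?_
    rw [smul_mul', one_mul', G.assoc, G.central_comm hz]
  set y : W → W → ℂ := fun u => mul R p (basisVec u⁻¹) z with hy
  have hstar : ∀ u, mul R p (fun w => conj (z w⁻¹)) (basisVec u) = fun w => conj (y u w⁻¹) := by
    intro u
    have e := map_conj_mul (R := R) (Complex.conj_ofReal r) (rev z) (basisVec u)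
    rw [show (fun w => conj (basisVec (A := ℂ) u w)) = basisVec u from map_basisVec (starRingEnd ℂ) u] at e
    refine e.symm.trans (funext fun w => ?_)
    have a := G.anti (basisVec u⁻¹) z
    rw [rev_basisVec, inv_inv] at a
    rw [← a]
    rfl
  have hsum : ∑ u, (((r ^ R.len u)⁻¹ * ∑ w, r ^ R.len w * Complex.normSq (y u w⁻¹) : ℝ) : ℂ) = 0 := by
    have h2 : mul R p (fun w => conj (z w⁻¹)) (mul R p (cas R p (basisVec 1)) z) 1 = 0 := by
      rw [h1, ← zero_smul ℂ (0 : W → ℂ), mul_smul']
      simp
    rw [cas_apply, sum_mul', mul_sum', Finset.sum_apply] at h2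
    refine Eq.trans (Finset.sum_congr rfl fun u _ => ?_) h2
    rw [smul_mul', one_mul', mul_smul', Pi.smul_apply, smul_eq_mul, G.assoc, ← G.assoc, hstar, G.tau]
    push_cast
    congr 1
    refine Finset.sum_congr rfl fun w _ => ?_
    rw [Complex.normSq_eq_conj_mul_self]
  rw [← Complex.ofReal_sum, Complex.ofReal_eq_zero] at hsum
  have hpos : ∀ u ∈ (Finset.univ : Finset W),
      (0 : ℝ) ≤ (r ^ R.len u)⁻¹ * ∑ w, r ^ R.len w * Complex.normSq (y u w⁻¹) := fun u _ =>
    mul_nonneg (inv_nonneg.2 (pow_pos hr _).le)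
      (Finset.sum_nonneg fun w _ => mul_nonneg (pow_pos hr _).le (Complex.normSq_nonneg _))
  have h3 := (Finset.sum_eq_zero_iff_of_nonneg hpos).1 hsum 1 (Finset.mem_univ _)
  rw [RefSystem.len_one, pow_zero, inv_one, _root_.one_mul,
    Finset.sum_eq_zero_iff_of_nonneg fun w _ => mul_nonneg (pow_pos hr _).le (Complex.normSq_nonneg _)] at h3
  funext w
  have h4 := h3 w⁻¹ (Finset.mem_univ _)
  rw [mul_eq_zero, Complex.normSq_eq_zero, inv_inv, hy] at h4
  simp only [inv_one, one_mul'] at h4
  exact h4.resolve_left (pow_pos hr _).ne'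

theorem Good.range_cas (G : Good R q) {r : ℝ} (hr : 0 < r) (hqr : q = r) :
    LinearMap.range (cas R q) = LinearMap.ker (comm R q) := by
  have hq : q ≠ 0 := by rw [hqr]; exact_mod_cast hr.ne'
  have hle : LinearMap.range (cas R q) ≤ LinearMap.ker (comm R q) := by
    rintro _ ⟨b, rfl⟩
    exact G.cas_central hq b
  refine le_antisymm hle ?_
  set g : ↥(LinearMap.ker (comm R q)) →ₗ[ℂ] (W → ℂ) := cas R q ∘ₗ Submodule.subtype _ with hg
  have hinj : Function.Injective g := by
    rw [← LinearMap.ker_eq_bot, LinearMap.ker_eq_bot']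
    intro z hz
    exact Subtype.ext (G.cas_injOn hr hqr z.2 hz)
  have h1 : LinearMap.range g ≤ LinearMap.ker (comm R q) := by
    rintro _ ⟨z, rfl⟩
    exact G.cas_central hq _
  have h2 := Submodule.eq_of_le_of_finrank_eq h1 (LinearMap.finrank_range_of_inj hinj)
  rw [← h2]
  exact LinearMap.range_comp_le_range _ _

theorem Good.rank_sum (G : Good R q) {r : ℝ} (hr : 0 < r) (hqr : q = r) :
    Module.finrank ℂ (LinearMap.range (cas R q)) + Module.finrank ℂ (LinearMap.range (comm R q)) =
      Fintype.card W := by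
  rw [G.range_cas hr hqr, add_comm, LinearMap.finrank_range_add_finrank_ker, Module.finrank_pi]

theorem rank_eventually_ge {X E : Type*} [TopologicalSpace X] [NormedAddCommGroup E] [NormedSpace ℂ E]
    [FiniteDimensional ℂ E] (T : X → ((W → ℂ) →ₗ[ℂ] E)) (hT : ∀ b, Continuous fun x => T x b) (x0 : X) :
    ∀ᶠ x in 𝓝 x0, Module.finrank ℂ (LinearMap.range (T x0)) ≤ Module.finrank ℂ (LinearMap.range (T x)) := by
  have hc : Continuous fun x => LinearMap.toContinuousLinearMap (T x) :=
    continuous_clm_apply.2 hT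
  have ho := (isOpen_setOfPred_nat_le_rank (𝕜 := ℂ) (E := W → ℂ) (F := E)
    (Module.finrank ℂ (LinearMap.range (T x0)))).preimage hc
  refine Filter.eventually_of_mem (ho.mem_nhds ?_) fun x hx => ?_
  · simp only [Set.mem_preimage, Set.mem_setOf_eq]
    rw [LinearMap.rank, ← Module.finrank_eq_rank]
    rfl
  · have hx' : ((Module.finrank ℂ (LinearMap.range (T x0)) : ℕ) : Cardinal) ≤ LinearMap.rank (T x) := hx
    rw [LinearMap.rank, ← Module.finrank_eq_rank, Nat.cast_le] at hx'
    exact hx'

open Polynomial in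
theorem continuous_mul (a b : W → ℂ) (z : W) : Continuous fun r : ℝ => mul R (r : ℂ) a b z := by
  have : (fun r : ℝ => mul R (r : ℂ) a b z) = fun r : ℝ => (mul R X (C ∘ a) (C ∘ b) z).eval (r : ℂ) := by
    funext r
    have e := congrFun (map_mul' R X (evalRingHom (r : ℂ)) (C ∘ a) (C ∘ b)) z
    have ha : ∀ a : W → ℂ, evalRingHom (r : ℂ) ∘ (C ∘ a) = a := fun a => by funext w; simp
    rw [show evalRingHom (r : ℂ) X = (r : ℂ) from eval_X, ha, ha] at e
    exact e.symm
  rw [this]
  exact (Polynomial.continuous _).comp Complex.continuous_ofReal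

open Polynomial in
theorem continuous_mul₂ (a b c : W → ℂ) (z : W) :
    Continuous fun r : ℝ => mul R (r : ℂ) a (mul R (r : ℂ) b c) z := by
  have : (fun r : ℝ => mul R (r : ℂ) a (mul R (r : ℂ) b c) z) =
      fun r : ℝ => (mul R X (C ∘ a) (mul R X (C ∘ b) (C ∘ c)) z).eval (r : ℂ) := by
    funext r
    have ha : ∀ a : W → ℂ, evalRingHom (r : ℂ) ∘ (C ∘ a) = a := fun a => by funext w; simp
    show _ = (evalRingHom (r : ℂ) ∘ mul R X (C ∘ a) (mul R X (C ∘ b) (C ∘ c))) z
    rw [map_mul', map_mul', show evalRingHom (r : ℂ) X = (r : ℂ) from eval_X, ha, ha, ha]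
  rw [this]
  exact (Polynomial.continuous _).comp Complex.continuous_ofReal

theorem cas_rank_const (hgood : ∀ q : ℂ, Good R q) {r : ℝ} (hr : 0 < r) :
    Module.finrank ℂ (LinearMap.range (cas R (r : ℂ))) =
      Module.finrank ℂ (LinearMap.range (cas R ((1 : ℝ) : ℂ))) := by
  set f : ↥(Set.Ioi (0 : ℝ)) → ℕ := fun x => Module.finrank ℂ (LinearMap.range (cas R ((x : ℝ) : ℂ)))
  have hcas : ∀ b, Continuous fun x : ↥(Set.Ioi (0 : ℝ)) => cas R ((x : ℝ) : ℂ) b := by
    intro b
    simp only [cas_apply]
    refine continuous_finsetSum _ fun u _ => continuous_pi fun z => ?_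
    simp only [Pi.smul_apply, smul_eq_mul]
    refine Continuous.mul (Continuous.inv₀ (by fun_prop) fun x => pow_ne_zero _ ?_)
      ((continuous_mul₂ _ _ _ z).comp continuous_subtype_val)
    exact_mod_cast (ne_of_gt x.2)
  have hcomm : ∀ b, Continuous fun x : ↥(Set.Ioi (0 : ℝ)) => comm R ((x : ℝ) : ℂ) b := by
    intro b
    refine continuous_pi fun v => continuous_pi fun z => ?_
    show Continuous fun x : ↥(Set.Ioi (0 : ℝ)) =>
      mul R ((x : ℝ) : ℂ) (basisVec v) b z - mul R ((x : ℝ) : ℂ) b (basisVec v) z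
    exact ((continuous_mul _ _ z).comp continuous_subtype_val).sub
      ((continuous_mul _ _ z).comp continuous_subtype_val)
  have hlc : IsLocallyConstant f := by
    rw [IsLocallyConstant.iff_eventually_eq]
    intro x0
    filter_upwards [rank_eventually_ge _ hcas x0, rank_eventually_ge _ hcomm x0] with x h1 h2
    have e1 := (hgood _).rank_sum (R := R) (r := (x : ℝ)) x.2 rfl
    have e2 := (hgood _).rank_sum (R := R) (r := (x0 : ℝ)) x0.2 rfl
    show Module.finrank ℂ _ = Module.finrank ℂ _
    omega
  haveI : PreconnectedSpace ↥(Set.Ioi (0 : ℝ)) := Subtype.preconnectedSpace isPreconnected_Ioi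
  exact hlc.apply_eq_of_preconnectedSpace ⟨r, hr⟩ ⟨1, Set.mem_Ioi.2 one_pos⟩

theorem Good.rank_one (G : Good R ((1 : ℝ) : ℂ)) :
    Module.finrank ℂ (LinearMap.range (cas R ((1 : ℝ) : ℂ))) = Nat.card (ConjClasses W) := by
  classical
  rw [G.range_cas one_pos rfl]
  rw [Complex.ofReal_one] at G ⊢
  have hop : ∀ (ω : List I) (h : W → ℂ) (z : W), opW R 1 ω h z = h ((R.pr ω)⁻¹ * z) := by
    intro ω
    induction ω with
    | nil => intro h z; simp [opW, RefSystem.pr_nil]
    | cons i ω ih =>
      intro h z
      rw [opW, LinearMap.comp_apply, RefSystem.pr_cons, _root_.mul_inv_rev, R.s_inv, mul_assoc]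
      simp only [step, LinearMap.coe_mk, AddHom.coe_mk, ih]
      split_ifs <;> ring
  have hleft : ∀ (v : W) (h : W → ℂ) (z : W), mul R 1 (basisVec v) h z = h (v⁻¹ * z) := fun v h z => by
    rw [mul_basis_left, hop, (word_spec R v).1]
  have hright : ∀ (v : W) (h : W → ℂ) (z : W), mul R 1 h (basisVec v) z = h (z * v⁻¹) := by
    intro v h z
    have := congrFun (G.anti h (basisVec v)) z⁻¹
    rw [rev_basisVec, hleft] at this
    simpa [rev] using this
  have hmem : ∀ h : W → ℂ, h ∈ LinearMap.ker (comm R 1) ↔ ∀ a c : W, h (c * a * c⁻¹) = h a := by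
    intro h
    simp only [mem_ker_comm, funext_iff, hleft, hright]
    constructor
    · intro H a c
      have := H c (c * a)
      rw [inv_mul_cancel_left] at this
      exact this.symm
    · intro H v z
      have := H (v⁻¹ * z) v
      rw [mul_inv_cancel_left] at this
      exact this.symm
  let e : (ConjClasses W → ℂ) ≃ₗ[ℂ] ↥(LinearMap.ker (comm R 1)) :=
    { toFun := fun g => ⟨fun w => g (ConjClasses.mk w), (hmem _).2 fun a c => congrArg g
        (ConjClasses.mk_eq_mk_iff_isConj.2 (isConj_iff.2 ⟨c⁻¹, by group⟩))⟩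
      map_add' := fun _ _ => rfl
      map_smul' := fun _ _ => rfl
      invFun := fun h => Quotient.lift h.1 fun a b hab => by
        obtain ⟨c, rfl⟩ := isConj_iff.1 hab
        exact ((hmem _).1 h.2 a c).symm
      left_inv := fun g => funext fun C => Quotient.inductionOn C fun _ => rfl
      right_inv := fun h => Subtype.ext (funext fun _ => rfl) }
  rw [← e.finrank_eq, Module.finrank_pi, Nat.card_eq_fintype_card]

/-- The rank of the Casimir map is the number of classes. -/
theorem cas_rank (hgood : ∀ q : ℂ, Good R q) {r : ℝ} (hr : 0 < r) :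
    Module.finrank ℂ (LinearMap.range (cas R (r : ℂ))) = Nat.card (ConjClasses W) :=
  (cas_rank_const hgood hr).trans (hgood _).rank_one

end Cfsg.Agent.Small.Hecke
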