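import Cfsg.Agent.Lib.Small.HeckeGeneric
import Cfsg.Agent.Lib.Small.Flags.Character
import Cfsg.Agent.Lib.Char.Convolution
import Cfsg.Agent.Lib.Char.Induction
import Cfsg.Agent.Lib.Char.Central
import Cfsg.Agent.Lib.Char.IndValue
import Mathlib.LinearAlgebra.Matrix.Rank

/-!
Group models of the algebra of a reflection system, and the number of constituents of the permutation
character on the cosets of the base subgroup.
-/

set_option autoImplicit false

namespace Cfsg.Agent.Small.Hecke

open Cfsg Cfsg.Agent.Char Cfsg.Agent.Lie Cfsg.Agent.Small.WeylCosets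
open scoped ComplexConjugate ComplexOrder

variable {I W Φ : Type*} [Group W] [MulAction W Φ] [DecidableEq Φ] (R : RefSystem I W Φ)

/-- A finite group with cells indexed by the system. -/
structure Model {G : Type*} [Group G] (B : Subgroup G) (q : ℕ) where
  cell : G → W
  mem_iff : ∀ g, g ∈ B ↔ cell g = 1
  cell_mul : ∀ (b : G) (_ : b ∈ B) (g : G) (b' : G) (_ : b' ∈ B), cell (b * g * b') = cell g
  exists_mul : ∀ g h, cell g = cell h → ∃ b ∈ B, ∃ b' ∈ B, h = b * g * b'
  surj : Function.Surjective cell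
  cell_inv : ∀ g, cell g⁻¹ = (cell g)⁻¹
  card_cell : ∀ w, Nat.card {g // cell g = w} = Nat.card B * q ^ R.len w
  up : ∀ (i : I) (g h : G), cell g = R.s i → R.len (R.s i * cell h) = R.len (cell h) + 1 →
    cell (g * h) = R.s i * cell h
  two : ∀ (i : I) (g h : G), cell g = R.s i → cell (g * h) = R.s i * cell h ∨ cell (g * h) = cell h
  hq : 0 < q

variable {R}
variable {G : Type*} [Group G] [Fintype G] {B : Subgroup G} {q : ℕ} (M : Model R B q)

/-- Normalised convolution. -/
noncomputable def conv (B : Subgroup G) (F1 F2 : G → ℂ) (z : G) : ℂ :=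
  (Nat.card B : ℂ)⁻¹ * ∑ g, F1 g * F2 (g⁻¹ * z)

theorem cardB_ne (B : Subgroup G) : (Nat.card B : ℂ) ≠ 0 := Nat.cast_ne_zero.2 Nat.card_pos.ne'

theorem conv_assoc (a b c : G → ℂ) : conv B (conv B a b) c = conv B a (conv B b c) := by
  funext z
  simp only [conv, Finset.mul_sum, Finset.sum_mul]
  rw [Finset.sum_comm]
  refine Finset.sum_congr rfl fun g _ => ?_
  refine Fintype.sum_equiv (Equiv.mulLeft g⁻¹) _ _ fun h => ?_
  rw [Equiv.coe_mulLeft]
  rw [show (g⁻¹ * h)⁻¹ * (g⁻¹ * z) = h⁻¹ * z by group]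
  ring

theorem conv_sum_left {ι : Type*} (s : Finset ι) (c : ι → ℂ) (f : ι → G → ℂ) (F : G → ℂ) :
    conv B (∑ i ∈ s, c i • f i) F = ∑ i ∈ s, c i • conv B (f i) F := by
  funext z
  simp only [conv, Finset.sum_apply, Pi.smul_apply, smul_eq_mul, Finset.sum_mul, Finset.mul_sum]
  rw [Finset.sum_comm]
  exact Finset.sum_congr rfl fun i _ => Finset.sum_congr rfl fun g _ => by ring

namespace Model

theorem cell_left {b : G} (hb : b ∈ B) (g : G) : M.cell (b * g) = M.cell g := by
  simpa using M.cell_mul b hb g 1 (one_mem _)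

theorem cell_right {b : G} (hb : b ∈ B) (g : G) : M.cell (g * b) = M.cell g := by
  simpa using M.cell_mul 1 (one_mem _) g b hb

variable [Fintype W] [DecidableEq W]

theorem card_filter (w : W) :
    ((Finset.univ.filter fun g => M.cell g = w).card : ℂ) = (Nat.card B : ℂ) * (q : ℂ) ^ R.len w := by
  rw [← Fintype.card_subtype, ← Nat.card_eq_fintype_card, M.card_cell]
  push_cast
  ring

theorem sum_step (i : I) (h : W → ℂ) (z : G) :
    ∑ g, (if M.cell g = R.s i then h (M.cell (g⁻¹ * z)) else 0) =
      (Nat.card B : ℂ) * step R (q : ℂ) i h (M.cell z) := by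
  classical
  have hss : ∀ y, R.s i * (R.s i * y) = y := fun y => by rw [← mul_assoc, R.sq, one_mul]
  have hinv : ∀ g, M.cell g = R.s i → M.cell g⁻¹ = R.s i := fun g hg => by rw [M.cell_inv, hg, R.s_inv]
  have hCs : ((Finset.univ.filter fun g => M.cell g = R.s i).card : ℂ) = (Nat.card B : ℂ) * q := by
    rw [M.card_filter, len_s R, pow_one]
  rw [← Finset.sum_filter]
  set x := M.cell z with hx
  rcases len_s_mul R i x with hl | hl
  · rw [Finset.sum_congr rfl fun g hg => by
      rw [M.up i g⁻¹ z (hinv g (Finset.mem_filter.1 hg).2) hl],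
      Finset.sum_const, nsmul_eq_mul, hCs]
    simp only [step, LinearMap.coe_mk, AddHom.coe_mk]
    rw [if_neg (by omega)]
    ring
  · set P : G → G → Prop := fun z g => M.cell g = R.s i ∧ M.cell (g⁻¹ * z) = R.s i * x with hP
    set n : G → ℕ := fun z => (Finset.univ.filter (P z)).card with hn
    have hne : R.s i * x ≠ x := fun he => by rw [he] at hl; omega
    have h1 : ∀ g ∈ Finset.univ.filter (fun g => M.cell g = R.s i), h (M.cell (g⁻¹ * z)) =
        h x + (if M.cell (g⁻¹ * z) = R.s i * x then h (R.s i * x) - h x else 0) := by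
      intro g hg
      rcases M.two i g⁻¹ z (hinv g (Finset.mem_filter.1 hg).2) with e | e
      · rw [e, if_pos rfl]; ring
      · rw [e, if_neg (Ne.symm hne), add_zero]
    have hconst : ∀ z', M.cell z' = x → n z' = n z := by
      intro z' hz'
      obtain ⟨b, hb, b', hb', rfl⟩ := M.exists_mul z z' hz'.symm
      refine (Finset.card_equiv (Equiv.mulLeft b) fun g => ?_).symm
      simp only [hP, Finset.mem_filter, Finset.mem_univ, true_and, Equiv.coe_mulLeft]
      rw [M.cell_left hb, show (b * g)⁻¹ * (b * z * b') = g⁻¹ * z * b' by group, M.cell_right hb']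
    have htot : ∑ z' ∈ Finset.univ.filter (fun z' => M.cell z' = x), n z' =
        (Finset.univ.filter fun g => M.cell g = R.s i).card *
          (Finset.univ.filter fun g => M.cell g = R.s i * x).card := by
      calc ∑ z' ∈ Finset.univ.filter (fun z' => M.cell z' = x), n z'
          = ∑ g, (Finset.univ.filter fun z' => M.cell z' = x ∧ P z' g).card := by
            simp only [hn, Finset.card_filter, Finset.sum_filter]
            rw [Finset.sum_comm]
            refine Finset.sum_congr rfl fun z' _ => ?_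
            split_ifs <;> simp_all
        _ = ∑ g ∈ Finset.univ.filter (fun g => M.cell g = R.s i),
              (Finset.univ.filter fun y => M.cell y = R.s i * x).card := by
            rw [Finset.sum_filter]
            refine Finset.sum_congr rfl fun g _ => ?_
            by_cases hg : M.cell g = R.s i
            · rw [if_pos hg]
              refine (Finset.card_equiv (Equiv.mulLeft g) fun y => ?_).symm
              simp only [hP, Finset.mem_filter, Finset.mem_univ, true_and, Equiv.coe_mulLeft,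
                inv_mul_cancel_left]
              refine ⟨fun hy => ⟨?_, hg, hy⟩, fun h => h.2.2⟩
              rw [M.up i g y hg (by rw [hy, hss]; omega), hy, hss]
            · rw [if_neg hg, Finset.card_eq_zero, Finset.filter_eq_empty_iff]
              exact fun z' _ h => hg h.2.1
        _ = _ := by rw [Finset.sum_const, smul_eq_mul]
    have hnz : (n z : ℂ) = Nat.card B := by
      rw [Finset.sum_congr rfl (fun z' hz' => hconst z' (Finset.mem_filter.1 hz').2), Finset.sum_const,
        smul_eq_mul] at htot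
      have h2 := congrArg (Nat.cast (R := ℂ)) htot
      push_cast at h2
      rw [M.card_filter, hCs, M.card_filter, ← hl, pow_succ] at h2
      refine mul_left_cancel₀ (a := (Nat.card B : ℂ) * ((q : ℂ) ^ R.len (R.s i * x) * q)) ?_ ?_
      · exact mul_ne_zero (cardB_ne B) (mul_ne_zero (pow_ne_zero _ (Nat.cast_ne_zero.2 M.hq.ne'))
          (Nat.cast_ne_zero.2 M.hq.ne'))
      · rw [h2]; ring
    rw [Finset.sum_congr rfl h1, Finset.sum_add_distrib, Finset.sum_const, nsmul_eq_mul, hCs,
      ← Finset.sum_filter, Finset.filter_filter, Finset.sum_const, nsmul_eq_mul]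
    rw [show ((Finset.univ.filter fun g => M.cell g = R.s i ∧ M.cell (g⁻¹ * z) = R.s i * x).card : ℂ) =
      Nat.card B from hnz]
    simp only [step, LinearMap.coe_mk, AddHom.coe_mk]
    rw [if_pos (by omega)]
    ring

theorem conv_step (i : I) (h : W → ℂ) :
    conv B (fun g => basisVec (R.s i) (M.cell g)) (h ∘ M.cell) = step R (q : ℂ) i h ∘ M.cell := by
  funext z
  simp only [conv, Function.comp_apply, basisVec_apply, ite_mul, one_mul, zero_mul]
  rw [M.sum_step, inv_mul_cancel_left₀ (cardB_ne B)]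

theorem conv_one (h : W → ℂ) :
    conv B (fun g => basisVec (1 : W) (M.cell g)) (h ∘ M.cell) = h ∘ M.cell := by
  funext z
  simp only [conv, Function.comp_apply, basisVec_apply, ite_mul, one_mul, zero_mul]
  rw [← Finset.sum_filter, Finset.sum_congr rfl fun g hg => by
    rw [M.cell_left (inv_mem ((M.mem_iff g).2 (Finset.mem_filter.1 hg).2))],
    Finset.sum_const, nsmul_eq_mul, M.card_filter, RefSystem.len_one, pow_zero, _root_.mul_one,
    inv_mul_cancel_left₀ (cardB_ne B)]

theorem conv_opW : ∀ (ω : List I), ω.length = R.len (R.pr ω) → ∀ k : W → ℂ,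
    conv B (fun g => basisVec (R.pr ω) (M.cell g)) (k ∘ M.cell) = opW R (q : ℂ) ω k ∘ M.cell := by
  intro ω
  induction ω with
  | nil => intro _ k; rw [RefSystem.pr_nil]; exact M.conv_one k
  | cons i ω ih =>
    intro hlen k
    rw [List.length_cons] at hlen
    have h1 := R.len_pr_le ω
    have h2 := len_s_mul R i (R.pr ω)
    rw [RefSystem.pr_cons] at hlen ⊢
    have e : (fun g => basisVec (R.s i * R.pr ω) (M.cell g)) =
        conv B (fun g => basisVec (R.s i) (M.cell g)) (fun g => basisVec (R.pr ω) (M.cell g)) := by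
      have := M.conv_step i (basisVec (R.pr ω))
      rw [step_up R (q : ℂ) (by omega)] at this
      exact this.symm
    rw [e, conv_assoc, ih (by omega), M.conv_step]
    rfl

theorem conv_mul (h k : W → ℂ) :
    mul R (q : ℂ) h k ∘ M.cell = conv B (h ∘ M.cell) (k ∘ M.cell) := by
  have e : h ∘ M.cell = ∑ w, h w • fun g => basisVec w (M.cell g) := by
    funext g
    simp [basisVec_apply]
  rw [e, conv_sum_left]
  funext z
  simp only [mul, Function.comp_apply, Finset.sum_apply, Pi.smul_apply]
  refine Finset.sum_congr rfl fun w _ => ?_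
  have := M.conv_opW (word R w) (by rw [(word_spec R w).2, (word_spec R w).1]) k
  rw [(word_spec R w).1] at this
  rw [this]
  rfl

omit [Fintype W] [DecidableEq W] in
theorem comp_inj {a b : W → ℂ} (h : a ∘ M.cell = b ∘ M.cell) : a = b :=
  M.surj.injective_comp_right h

include M in
theorem good : Good R (q : ℂ) := by
  refine ⟨fun h k m => M.comp_inj ?_, fun h k => M.comp_inj ?_, fun h k => ?_⟩
  · rw [M.conv_mul, M.conv_mul, M.conv_mul, M.conv_mul, conv_assoc]
  · rw [M.conv_mul]
    funext z
    show mul R (q : ℂ) h k (M.cell z)⁻¹ = _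
    rw [← M.cell_inv, show mul R (q : ℂ) h k (M.cell z⁻¹) = conv B (h ∘ M.cell) (k ∘ M.cell) z⁻¹ from
      congrFun (M.conv_mul h k) z⁻¹]
    simp only [conv, Function.comp_apply, rev, ← M.cell_inv, _root_.mul_inv_rev, inv_inv]
    congr 1
    refine Fintype.sum_equiv (Equiv.mulLeft z) _ _ fun g => ?_
    rw [Equiv.coe_mulLeft, mul_comm]
    congr 3 <;> group
  · rw [← (M.mem_iff 1).1 (one_mem _),
      show mul R (q : ℂ) h k (M.cell 1) = conv B (h ∘ M.cell) (k ∘ M.cell) 1 from congrFun (M.conv_mul h k) 1]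
    simp only [conv, Function.comp_apply, _root_.mul_one, M.cell_inv]
    rw [← Finset.sum_fiberwise Finset.univ M.cell, Finset.mul_sum]
    refine Finset.sum_congr rfl fun w _ => ?_
    rw [Finset.sum_congr rfl fun g hg => by rw [(Finset.mem_filter.1 hg).2],
      Finset.sum_const, nsmul_eq_mul, M.card_filter]
    rw [mul_assoc, inv_mul_cancel_left₀ (cardB_ne B)]

/-- The pairs of cell elements related by conjugation. -/
noncomputable def pairs (w v : W) : ℂ :=
  ∑ a, ∑ b, if M.cell b = w ∧ M.cell (a * b * a⁻¹) = v then 1 else 0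

theorem sum_cells (u w v : W) :
    (Nat.card B : ℂ) * (q : ℂ) ^ R.len v *
        mul R (q : ℂ) (basisVec u) (mul R (q : ℂ) (basisVec w) (basisVec u⁻¹)) v =
      (Nat.card B : ℂ)⁻¹ * (Nat.card B : ℂ)⁻¹ * ((Nat.card B : ℂ) * (q : ℂ) ^ R.len u) *
        ∑ a, if M.cell a = u then (∑ b, if M.cell b = w ∧ M.cell (a * b * a⁻¹) = v then 1 else 0) else 0 := by
  set val := mul R (q : ℂ) (basisVec u) (mul R (q : ℂ) (basisVec w) (basisVec u⁻¹)) with hval
  have hT : ∀ a c, M.cell a = u → M.cell c = u⁻¹ →
      ∑ b, (if M.cell b = w ∧ M.cell (a * b * c) = v then (1 : ℂ) else 0) =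
        ∑ b, if M.cell b = w ∧ M.cell (a * b * a⁻¹) = v then 1 else 0 := by
    intro a c ha hc
    obtain ⟨b1, h1, b2, h2, rfl⟩ := M.exists_mul a⁻¹ c (by rw [M.cell_inv, ha, hc])
    refine Fintype.sum_equiv (Equiv.mulRight b1) _ _ fun b => ?_
    rw [Equiv.coe_mulRight, M.cell_right h1,
      show a * b * (b1 * a⁻¹ * b2) = a * (b * b1) * a⁻¹ * b2 by group, M.cell_right h2]
  have hS : ∑ z, (if M.cell z = v then val (M.cell z) else 0) =
      (Nat.card B : ℂ) * (q : ℂ) ^ R.len v * val v := by
    rw [← Finset.sum_filter, Finset.sum_congr rfl fun z hz => by rw [(Finset.mem_filter.1 hz).2],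
      Finset.sum_const, nsmul_eq_mul, M.card_filter]
  have hval' : ∀ z, val (M.cell z) = (Nat.card B : ℂ)⁻¹ * (Nat.card B : ℂ)⁻¹ * ∑ a, ∑ b,
      if M.cell a = u ∧ M.cell b = w ∧ M.cell (b⁻¹ * (a⁻¹ * z)) = u⁻¹ then 1 else 0 := by
    intro z
    rw [show val (M.cell z) = (val ∘ M.cell) z from rfl, hval, M.conv_mul, M.conv_mul]
    simp only [conv, Function.comp_apply, basisVec_apply, Finset.mul_sum]
    refine Finset.sum_congr rfl fun a _ => Finset.sum_congr rfl fun b _ => ?_
    split_ifs <;> simp_all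
  rw [← hS]
  calc ∑ z, (if M.cell z = v then val (M.cell z) else 0)
      = (Nat.card B : ℂ)⁻¹ * (Nat.card B : ℂ)⁻¹ * ∑ a, ∑ b, ∑ z,
          if M.cell z = v ∧ M.cell a = u ∧ M.cell b = w ∧ M.cell (b⁻¹ * (a⁻¹ * z)) = u⁻¹ then 1 else 0 := by
        simp only [hval', Finset.mul_sum]
        conv_rhs => enter [2, a]; rw [Finset.sum_comm]
        conv_rhs => rw [Finset.sum_comm]
        refine Finset.sum_congr rfl fun z _ => ?_
        by_cases hz : M.cell z = v
        · simp [hz]
        · simp [hz]
    _ = (Nat.card B : ℂ)⁻¹ * (Nat.card B : ℂ)⁻¹ * ∑ a, ∑ c, ∑ b,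
          if M.cell a = u ∧ M.cell c = u⁻¹ then
            (if M.cell b = w ∧ M.cell (a * b * c) = v then 1 else 0) else 0 := by
        congr 1
        refine Finset.sum_congr rfl fun a _ => ?_
        rw [Finset.sum_comm (γ := G) (α := G) (f := fun c b => if M.cell a = u ∧ M.cell c = u⁻¹ then
            (if M.cell b = w ∧ M.cell (a * b * c) = v then (1 : ℂ) else 0) else 0)]
        refine Finset.sum_congr rfl fun b _ => ?_
        refine (Fintype.sum_equiv (Equiv.mulLeft (a * b)) _ _ fun c => ?_).symm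
        rw [Equiv.coe_mulLeft, show b⁻¹ * (a⁻¹ * (a * b * c)) = c by group]
        split_ifs <;> simp_all
    _ = _ := by
        rw [Finset.mul_sum, Finset.mul_sum]
        refine Finset.sum_congr rfl fun a _ => ?_
        by_cases ha : M.cell a = u
        · simp only [ha, true_and, if_true]
          rw [Finset.sum_congr rfl (g := fun c => if M.cell c = u⁻¹ then
              (∑ b, if M.cell b = w ∧ M.cell (a * b * a⁻¹) = v then (1 : ℂ) else 0) else 0) fun c _ => by
            by_cases hc : M.cell c = u⁻¹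
            · simp only [hc, if_true]; exact hT a c ha hc
            · simp [hc],
            ← Finset.sum_filter, Finset.sum_const, nsmul_eq_mul, M.card_filter, len_inv R]
          ring
        · simp [ha]

theorem pairs_eq (w v : W) : M.pairs w v =
    (Nat.card B : ℂ) ^ 2 * (q : ℂ) ^ R.len v * cas R (q : ℂ) (basisVec w) v := by
  have hB := cardB_ne B
  have hq : (q : ℂ) ≠ 0 := Nat.cast_ne_zero.2 M.hq.ne'
  rw [cas_apply, Finset.sum_apply, Finset.mul_sum, pairs, ← Finset.sum_fiberwise Finset.univ M.cell]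
  refine Finset.sum_congr rfl fun u _ => ?_
  have h := M.sum_cells u w v
  rw [Finset.sum_filter]
  simp only [Pi.smul_apply, smul_eq_mul]
  generalize (∑ a, if M.cell a = u then (∑ b, if M.cell b = w ∧ M.cell (a * b * a⁻¹) = v then (1:ℂ) else 0)
    else 0) = T at h ⊢
  generalize mul R (q : ℂ) (basisVec u) (mul R (q : ℂ) (basisVec w) (basisVec u⁻¹)) v = y at h ⊢
  calc T = (Nat.card B : ℂ) * ((q : ℂ) ^ R.len u)⁻¹ *
        ((Nat.card B : ℂ)⁻¹ * (Nat.card B : ℂ)⁻¹ * ((Nat.card B : ℂ) * (q : ℂ) ^ R.len u) * T) := by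
        field_simp
    _ = _ := by rw [← h]; ring

end Model

/-! ### Constituents -/

theorem sum_irr_conj (g h : G) [DecidableEq G] :
    ∑ χ : IrrCharacter G, (χ : G → ℂ) g * conj ((χ : G → ℂ) h) =
      ∑ x : G, if x * g * x⁻¹ = h then 1 else 0 := by
  classical
  rw [second_orth, Finset.sum_boole, ← Fintype.card_subtype, ← Nat.card_eq_fintype_card]
  by_cases hc : IsConj g h
  · rw [if_pos hc]
    obtain ⟨c, hc⟩ := isConj_iff.1 hc
    have e : {x : G // x * g * x⁻¹ = h} ≃ ↥(Subgroup.centralizer ({h} : Set G)) :=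
      { toFun := fun x => ⟨x.1 * c⁻¹, Subgroup.mem_centralizer_singleton_iff.2 (by
          have hx := x.2
          calc (x.1 * c⁻¹) * h = (x.1 * c⁻¹) * (c * g * c⁻¹) := by rw [hc]
            _ = x.1 * g * x.1⁻¹ * (x.1 * c⁻¹) := by group
            _ = h * (x.1 * c⁻¹) := by rw [hx])⟩
        invFun := fun y => ⟨y.1 * c, by
          have := Subgroup.mem_centralizer_singleton_iff.1 y.2
          calc y.1 * c * g * (y.1 * c)⁻¹ = y.1 * (c * g * c⁻¹) * y.1⁻¹ := by group
            _ = h := by rw [hc, this]; group⟩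
        left_inv := fun x => Subtype.ext (by simp)
        right_inv := fun y => Subtype.ext (by simp) }
    rw [Nat.card_congr e, ← card_conjClass_mul_centralizer h, Nat.cast_mul,
      mul_div_cancel_left₀ _ (Nat.cast_ne_zero.2 (card_conjClass_ne_zero h))]
  · rw [if_neg hc]
    have : IsEmpty {x : G // x * g * x⁻¹ = h} := ⟨fun x => hc (isConj_iff.2 ⟨x.1, x.2⟩)⟩
    simp

theorem fixed_eq (B : Subgroup G) :
    fixedPointCharacter B = indFun B (fun _ => (1 : ℂ)) := by
  funext g
  rw [fixedPointCharacter, card_fixedBy_eq_indFun ((1 : G) : G ⧸ B) g]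
  have e : MulAction.stabilizer G ((1 : G) : G ⧸ B) = B := MulAction.stabilizer_quotient B
  rw [e]

theorem mult_eq (B : Subgroup G) [Fintype B] (χ : IrrCharacter G) :
    classInner (fixedPointCharacter B) (χ : G → ℂ) =
      (Nat.card B : ℂ)⁻¹ * conj (∑ b : B, (χ : G → ℂ) b) := by
  classical
  rw [fixed_eq, frobenius B _ (isClassFunction_character (irr_isCharacter χ.2)), classInner]
  simp

theorem constituent_iff (B : Subgroup G) [Fintype B] (χ : IrrCharacter G) :
    (∃ φ : G → ℂ, IsCharacter G φ ∧ fixedPointCharacter B = (χ : G → ℂ) + φ) ↔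
      ∑ b : B, (χ : G → ℂ) b ≠ 0 := by
  classical
  obtain ⟨m, hm⟩ := exists_decomposition (Flags.isCharacter_fixedPointCharacter B)
  have h1 := decomposition_coeff m hm χ
  have h2 : (∑ b : B, (χ : G → ℂ) b ≠ 0) ↔ m χ ≠ 0 := by
    rw [mult_eq] at h1
    rw [not_iff_not, ← Nat.cast_eq_zero (R := ℂ), ← h1, mul_eq_zero, map_eq_zero]
    simp [cardB_ne B]
  rw [h2]
  constructor
  · rintro ⟨φ, hφ, he⟩ h0
    obtain ⟨m', hm'⟩ := exists_decomposition hφ
    have h3 := h1
    rw [he, classInner_add_left, irrC_orth, if_pos rfl, decomposition_coeff m' hm' χ, h0] at h3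
    have : ((1 + m' χ : ℕ) : ℂ) = ((0 : ℕ) : ℂ) := by push_cast; simpa using h3
    exact absurd (Nat.cast_injective this) (by omega)
  · intro h0
    refine ⟨(m χ - 1) • (χ : G → ℂ) + ∑ ψ ∈ Finset.univ.erase χ, m ψ • (ψ : G → ℂ),
      isCharacter_add (isCharacter_nsmul (irr_isCharacter χ.2) _)
        (isCharacter_sum _ _ fun ψ _ => isCharacter_nsmul (irr_isCharacter ψ.2) _), ?_⟩
    rw [hm, ← Finset.add_sum_erase _ _ (Finset.mem_univ χ), ← add_assoc, ← succ_nsmul']
    congr 2
    omega

theorem shift_zero (B : Subgroup G) [Fintype B] {χ : G → ℂ} (hχ : IsCharacter G χ) (h : ∑ b : B, χ b = 0) (g : G) :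
    ∑ b : B, χ (b * g) = 0 := by
  classical
  obtain ⟨n, ρ, rfl⟩ := hχ
  set P : (Fin n → ℂ) →ₗ[ℂ] (Fin n → ℂ) := (Nat.card B : ℂ)⁻¹ • ∑ b : B, ρ b with hP
  have habs : ∀ c : B, ρ c * P = P := by
    intro c
    rw [hP, mul_smul_comm, Finset.mul_sum]
    congr 1
    refine Fintype.sum_equiv (Equiv.mulLeft c) _ _ fun b => ?_
    rw [Equiv.coe_mulLeft, Subgroup.coe_mul, map_mul]
  have hPP : P * P = P := by
    conv_lhs => arg 1; rw [hP]
    rw [smul_mul_assoc, Finset.sum_mul, Finset.sum_congr rfl fun b _ => habs b, Finset.sum_const,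
      Finset.card_univ, ← Nat.cast_smul_eq_nsmul ℂ, smul_smul, Nat.card_eq_fintype_card,
      inv_mul_cancel₀ (by simp), one_smul]
  have hproj : LinearMap.IsProj (LinearMap.range P) P := ⟨fun x => LinearMap.mem_range_self P x, fun x hx => by
    obtain ⟨y, rfl⟩ := hx
    exact LinearMap.congr_fun hPP y⟩
  have htr := hproj.trace
  have h0 : LinearMap.trace ℂ _ P = 0 := by
    rw [hP, map_smul, map_sum]
    exact mul_eq_zero_of_right _ h
  rw [h0] at htr
  have hP0 : P = 0 := LinearMap.range_eq_bot.1 (Submodule.finrank_eq_zero.1 (by exact_mod_cast htr.symm))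
  have hsum : (∑ b : B, ρ b) = 0 := by
    rw [hP, smul_eq_zero] at hP0
    exact hP0.resolve_left (inv_ne_zero (cardB_ne B))
  calc ∑ b : B, ρ.character (b * g) = LinearMap.trace ℂ _ ((∑ b : B, ρ b) * ρ g) := by
        rw [Finset.sum_mul, map_sum]
        exact Finset.sum_congr rfl fun b _ => by rw [← map_mul]; rfl
    _ = 0 := by rw [hsum, zero_mul, map_zero]

namespace Model

variable [Fintype W] [DecidableEq W]

/-- The sums of a character over the cells. -/
noncomputable def cellSum (f : G → ℂ) (w : W) : ℂ := ∑ g, if M.cell g = w then f g else 0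

theorem cellSum_zero [Fintype B] {χ : G → ℂ} (hχ : IsCharacter G χ) (h : ∑ b : B, χ b = 0) (w : W) :
    M.cellSum χ w = 0 := by
  classical
  have h1 : ∀ b : B, M.cellSum χ w = ∑ g, if M.cell g = w then χ (b * g) else 0 := fun b =>
    (Fintype.sum_equiv (Equiv.mulLeft (b : G)) _ _ fun g => by
      rw [Equiv.coe_mulLeft, M.cell_left b.2]).symm
  have h2 : ∑ _b : B, M.cellSum χ w = 0 := by
    rw [Finset.sum_congr rfl fun b _ => h1 b, Finset.sum_comm]
    refine Finset.sum_eq_zero fun g _ => ?_
    by_cases hg : M.cell g = w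
    · simp only [hg, if_true]; exact shift_zero B hχ h g
    · simp [hg]
  rw [Finset.sum_const, Finset.card_univ, nsmul_eq_mul, mul_eq_zero] at h2
  exact h2.resolve_left (by simp)

include M in
theorem independent [Fintype B] :
    LinearIndependent ℂ fun χ : {χ : IrrCharacter G // ∑ b : B, (χ : G → ℂ) b ≠ 0} =>
      M.cellSum ((χ : IrrCharacter G) : G → ℂ) := by
  classical
  rw [Fintype.linearIndependent_iff]
  intro c hc
  set f : G → ℂ := fun g => ∑ χ : {χ : IrrCharacter G // ∑ b : B, (χ : G → ℂ) b ≠ 0},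
    c χ * ((χ : IrrCharacter G) : G → ℂ) g with hf
  have hcell : ∀ w, M.cellSum f w = 0 := by
    intro w
    have := congrFun hc w
    simp only [Finset.sum_apply, Pi.smul_apply, smul_eq_mul, Pi.zero_apply, cellSum, Finset.mul_sum] at this
    rw [← this, cellSum, Finset.sum_comm]
    refine Finset.sum_congr rfl fun g _ => ?_
    split_ifs <;> simp [hf]
  have hcls : ∀ g k : G, f (k * g * k⁻¹) = f g := fun g k => Finset.sum_congr rfl fun χ _ => by
    rw [isClassFunction_character (irr_isCharacter χ.1.2) g k]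
  set S : G → ℂ := fun y => ∑ b : B, f (b * y) with hS
  have hleft : ∀ (b : B) y, S (b * y) = S y := fun b y =>
    Fintype.sum_equiv (Equiv.mulRight b) _ _ fun d => by
      rw [Equiv.coe_mulRight, Subgroup.coe_mul, mul_assoc]
  have hright : ∀ (b : B) y, S (y * b) = S y := fun b y =>
    Fintype.sum_equiv (Equiv.mulLeft b) _ _ fun d => by
      rw [Equiv.coe_mulLeft, Subgroup.coe_mul, ← hcls ((d : G) * (y * b)) b]
      congr 1
      group
  have hS0 : ∀ y, S y = 0 := by
    intro y
    have h1 : ∑ g, (if M.cell g = M.cell y then S g else 0) = 0 := by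
      simp only [hS]
      rw [Finset.sum_congr rfl fun g _ => show (if M.cell g = M.cell y then ∑ b : B, f (b * g) else 0) =
        ∑ b : B, if M.cell g = M.cell y then f (b * g) else 0 by split_ifs <;> simp, Finset.sum_comm]
      refine Finset.sum_eq_zero fun b _ => ?_
      refine Eq.trans ?_ (hcell (M.cell y))
      refine Fintype.sum_equiv (Equiv.mulLeft (b : G)) _ _ fun g => ?_
      rw [Equiv.coe_mulLeft, M.cell_left b.2]
    rw [← Finset.sum_filter, Finset.sum_congr rfl (g := fun _ => S y) (fun g hg => by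
      obtain ⟨b, hb, b', hb', rfl⟩ := M.exists_mul y g (Finset.mem_filter.1 hg).2.symm
      rw [show b * y * b' = ((⟨b, hb⟩ : B) : G) * y * ((⟨b', hb'⟩ : B) : G) from rfl, hright, hleft]),
      Finset.sum_const, nsmul_eq_mul, mul_eq_zero] at h1
    refine h1.resolve_left (Nat.cast_ne_zero.2 (Finset.card_ne_zero.2 ⟨y, ?_⟩))
    exact Finset.mem_filter.2 ⟨Finset.mem_univ _, rfl⟩
  set π := fixedPointCharacter B with hπ
  have hzero : ∀ h, ∑ x, f x * π (x⁻¹ * h) = 0 := by
    intro h
    simp only [hπ, fixed_eq, indFun, Finset.mul_sum]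
    rw [Finset.sum_comm]
    refine Finset.sum_eq_zero fun t _ => ?_
    rw [← mul_zero (Nat.card B : ℂ)⁻¹, ← hS0 (t⁻¹ * h * t), hS, Finset.mul_sum]
    let e : B → G := fun b => h * t * (b : G) * t⁻¹
    have he : Function.Injective e := fun a b hab => Subtype.ext (by simpa [e] using hab)
    refine (Fintype.sum_of_injective e he _ _ (fun x hx => ?_) fun b => ?_).symm
    · by_cases hm : t⁻¹ * (x⁻¹ * h) * t ∈ B
      · exact absurd ⟨⟨_, inv_mem hm⟩, by simp only [e]; group⟩ hx
      · rw [extendByZero, Function.extend_apply' _ _ _ fun ⟨b, hb⟩ => hm (hb ▸ b.2)]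
        simp
    · simp only [e]
      rw [show t⁻¹ * ((h * t * (b : G) * t⁻¹)⁻¹ * h) * t = ((b⁻¹ : B) : G) by
          rw [Subgroup.coe_inv]; group, extendByZero,
        Subtype.val_injective.extend_apply, _root_.mul_one, mul_comm]
      congr 1
      rw [← hcls (h * t * (b : G) * t⁻¹) ((b : G) * t⁻¹)]
      congr 1
      group
  obtain ⟨m, hm⟩ := exists_decomposition (Flags.isCharacter_fixedPointCharacter B)
  intro χ
  have hlin : ∑ ψ : {χ : IrrCharacter G // ∑ b : B, (χ : G → ℂ) b ≠ 0},
      (c ψ * (m ψ.1 : ℂ) * ((Nat.card G : ℂ) / ((ψ : IrrCharacter G) : G → ℂ) 1)) •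
        ((ψ : IrrCharacter G) : G → ℂ) = 0 := by
    funext h
    show _ = (0 : ℂ)
    refine Eq.trans ?_ (hzero h)
    rw [Finset.sum_apply]
    simp only [hπ, hm, hf, Finset.sum_apply, Pi.smul_apply, nsmul_eq_mul, Pi.mul_apply, Pi.natCast_apply,
      smul_eq_mul, Finset.sum_mul, Finset.mul_sum]
    rw [Finset.sum_comm]
    conv_rhs => enter [2, φ]; rw [Finset.sum_comm]
    rw [eq_comm, Finset.sum_comm]
    refine Finset.sum_congr rfl fun ψ _ => ?_
    have hone := irr_one_ne_zero ψ.1.2
    have hconv : ∀ φ : IrrCharacter G, ∑ x, ((ψ : IrrCharacter G) : G → ℂ) x * (φ : G → ℂ) (x⁻¹ * h) =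
        if ψ.1 = φ then (Nat.card G : ℂ) * (φ : G → ℂ) h / (φ : G → ℂ) 1 else 0 := by
      intro φ
      have := irr_convolution ψ.1.2 φ.2 h
      have h1 := irr_one_ne_zero φ.2
      by_cases he : ψ.1 = φ
      · subst he
        rw [if_pos rfl] at this ⊢
        rw [eq_div_iff h1, mul_comm, this]
      · rw [if_neg he]
        rw [if_neg fun h' => he (Subtype.ext h'), mul_eq_zero] at this
        exact this.resolve_left h1
    calc _ = ∑ φ : IrrCharacter G, c ψ * (m φ : ℂ) *
          ∑ x, ((ψ : IrrCharacter G) : G → ℂ) x * (φ : G → ℂ) (x⁻¹ * h) := by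
          refine Finset.sum_congr rfl fun φ _ => ?_
          rw [Finset.mul_sum]
          exact Finset.sum_congr rfl fun x _ => by ring
      _ = _ := by
          simp only [hconv, mul_ite, mul_zero, Finset.sum_ite_eq, Finset.mem_univ, if_true]
          ring
  have hli : LinearIndependent ℂ fun ψ : {χ : IrrCharacter G // ∑ b : B, (χ : G → ℂ) b ≠ 0} =>
      ((ψ : IrrCharacter G) : G → ℂ) := linearIndependent_irr.comp _ Subtype.val_injective
  have h0 := Fintype.linearIndependent_iff.1 hli _ hlin χ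
  have hmχ : (m χ.1 : ℂ) ≠ 0 := by
    rw [← decomposition_coeff m hm χ.1, mult_eq]
    exact mul_ne_zero (inv_ne_zero (cardB_ne B)) ((map_ne_zero _).2 χ.2)
  simpa [hmχ, irr_one_ne_zero χ.1.2, (Nat.card_pos (α := G)).ne'] using h0

include M in
/-- The constituents of the permutation character count the rank of the Casimir map. -/
theorem card_constituents :
    Nat.card {χ : IrrCharacter G //
      ∃ φ : G → ℂ, IsCharacter G φ ∧ fixedPointCharacter B = (χ : G → ℂ) + φ} =
      Module.finrank ℂ (LinearMap.range (cas R (q : ℂ))) := by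
  classical
  have := Fintype.ofFinite ↥B
  rw [Nat.card_congr (Equiv.subtypeEquivRight (constituent_iff B)), Nat.card_eq_fintype_card]
  let A : Matrix {χ : IrrCharacter G // ∑ b : B, (χ : G → ℂ) b ≠ 0} W ℂ :=
    Matrix.of fun χ w => M.cellSum ((χ : IrrCharacter G) : G → ℂ) w
  have hA : A.rank = Fintype.card {χ : IrrCharacter G // ∑ b : B, (χ : G → ℂ) b ≠ 0} :=
    LinearIndependent.rank_matrix M.independent
  let D : Matrix W W ℂ := Matrix.diagonal fun w => (Nat.card B : ℂ) ^ 2 * (q : ℂ) ^ R.len w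
  have key : A.conjTranspose * A = D * LinearMap.toMatrix' (cas R (q : ℂ)) := by
    ext w v
    have hsum : ∑ χ : {χ : IrrCharacter G // ∑ b : B, (χ : G → ℂ) b ≠ 0},
        conj (M.cellSum ((χ : IrrCharacter G) : G → ℂ) w) * M.cellSum ((χ : IrrCharacter G) : G → ℂ) v =
        ∑ χ : IrrCharacter G, conj (M.cellSum (χ : G → ℂ) w) * M.cellSum (χ : G → ℂ) v :=
      Fintype.sum_of_injective Subtype.val Subtype.val_injective _ _ (fun χ hχ => by
        rw [M.cellSum_zero (irr_isCharacter χ.2) (by_contra fun h => hχ ⟨⟨χ, h⟩, rfl⟩) v, mul_zero])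
        fun _ => rfl
    rw [Matrix.mul_apply, Matrix.diagonal_mul, LinearMap.toMatrix'_apply]
    refine hsum.trans ?_
    rw [show (Pi.single v (1 : ℂ) : W → ℂ) = basisVec v from funext fun z => by
      rw [basisVec_apply, Pi.single_apply], ← M.pairs_eq]
    calc ∑ χ : IrrCharacter G, conj (M.cellSum (χ : G → ℂ) w) * M.cellSum (χ : G → ℂ) v
        = ∑ g, ∑ h, if M.cell g = v ∧ M.cell h = w then
            ∑ χ : IrrCharacter G, (χ : G → ℂ) g * conj ((χ : G → ℂ) h) else 0 := by
          simp only [cellSum, map_sum, Finset.mul_sum, Finset.sum_mul]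
          rw [Finset.sum_comm]
          refine Finset.sum_congr rfl fun g _ => ?_
          rw [Finset.sum_comm]
          refine Finset.sum_congr rfl fun h _ => ?_
          by_cases hg : M.cell g = v <;> by_cases hh : M.cell h = w <;> simp [hg, hh, mul_comm]
      _ = _ := by
          simp only [sum_irr_conj, pairs]
          rw [Finset.sum_comm (γ := G) (α := G) (f := fun a b => if M.cell b = v ∧
            M.cell (a * b * a⁻¹) = w then (1 : ℂ) else 0)]
          refine Finset.sum_congr rfl fun g _ => ?_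
          calc _ = ∑ h, ∑ x, if M.cell g = v ∧ M.cell h = w ∧ x * g * x⁻¹ = h then (1 : ℂ) else 0 := by
                refine Finset.sum_congr rfl fun h _ => ?_
                split_ifs with hgh
                · simp [hgh.1, hgh.2]
                · exact (Finset.sum_eq_zero fun x _ => if_neg fun h' => hgh ⟨h'.1, h'.2.1⟩).symm
            _ = _ := by
                rw [Finset.sum_comm]
                refine Finset.sum_congr rfl fun x _ => ?_
                rw [Finset.sum_eq_single (x * g * x⁻¹) (fun h _ hne => if_neg fun h' => hne h'.2.2.symm)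
                  (fun h' => absurd (Finset.mem_univ _) h')]
                simp
  have hD : IsUnit D.det := by
    rw [Matrix.det_diagonal, isUnit_iff_ne_zero, Finset.prod_ne_zero_iff]
    exact fun w _ => mul_ne_zero (pow_ne_zero _ (cardB_ne B))
      (pow_ne_zero _ (Nat.cast_ne_zero.2 M.hq.ne'))
  rw [← hA, ← Matrix.rank_conjTranspose_mul_self, key, Matrix.rank_mul_eq_right_of_isUnit_det _ _ hD,
    Matrix.rank, ← Matrix.toLin'_apply', Matrix.toLin'_toMatrix']

end Model

end Cfsg.Agent.Small.Hecke
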