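import Mathlib
import Cfsg.Prelude.Def_Classical

/-!
Representatives of involutions of special linear and unitary groups in characteristic two.
-/

set_option autoImplicit false

namespace Cfsg.Agent.Small.InvReps

open Matrix

variable {F : Type*} [Field F]

theorem rank_eq_of_factor {n ℓ : ℕ} (N : Matrix (Fin n) (Fin n) F) (A : Matrix (Fin n) (Fin ℓ) F)
    (B : Matrix (Fin ℓ) (Fin n) F) (h : N = A * B) (r c : Fin ℓ → Fin n)
    (h1 : N.submatrix r c = 1) : N.rank = ℓ := by
  refine le_antisymm ?_ ?_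
  · rw [h]
    exact (Matrix.rank_mul_le_left A B).trans (Matrix.rank_le_width A)
  · have := Matrix.rank_submatrix_le N r c
    rwa [h1, Matrix.rank_one, Fintype.card_fin] at this

theorem det_eq_one_of_sq [CharP F 2] {n : ℕ} {M : Matrix (Fin n) (Fin n) F} (h : M * M = 1) :
    M.det = 1 := by
  have h1 : M.det * M.det = 1 := by rw [← Matrix.det_mul, h, Matrix.det_one]
  have h2 : (M.det - 1) * (M.det - 1) = 0 := by
    linear_combination h1 + (1 - M.det) * CharTwo.two_eq_zero (R := F)
  exact sub_eq_zero.mp (mul_self_eq_zero.mp h2)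

theorem orderOf_eq_two {n : ℕ} {a : Matrix.SpecialLinearGroup (Fin n) F} (h : a.1 * a.1 = 1)
    (hr : (a.1 - 1).rank ≠ 0) : orderOf a = 2 := by
  refine orderOf_eq_prime (Subtype.ext (by rw [pow_two]; exact h)) fun ha => hr ?_
  rw [ha, Matrix.SpecialLinearGroup.coe_one, sub_self, Matrix.rank_zero]

theorem sl_rep [CharP F 2] {n ℓ : ℕ} (h1 : 1 ≤ ℓ) (h2 : 2 * ℓ ≤ n) :
    ∃ a : Matrix.SpecialLinearGroup (Fin n) F, (a : Matrix (Fin n) (Fin n) F) = 1 + Matrix.of
      (fun i j : Fin n => if j.val < ℓ ∧ i.val = j.val + (n - ℓ) then (1 : F) else 0) ∧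
      orderOf a = 2 ∧ ((a : Matrix (Fin n) (Fin n) F) - 1).rank = ℓ := by
  obtain ⟨N, hN⟩ : ∃ N, N = Matrix.of
      (fun i j : Fin n => if j.val < ℓ ∧ i.val = j.val + (n - ℓ) then (1 : F) else 0) := ⟨_, rfl⟩
  rw [← hN]
  have hNN : N * N = 0 := by
    ext i j
    rw [Matrix.mul_apply, Matrix.zero_apply]
    refine Finset.sum_eq_zero fun k _ => ?_
    rw [hN]
    simp only [Matrix.of_apply]
    split_ifs with ha hb <;> first | omega | simp
  have hsq : (1 + N) * (1 + N) = 1 := by
    rw [Matrix.add_mul, Matrix.one_mul, Matrix.mul_add, Matrix.mul_one, hNN, add_zero, add_assoc]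
    ext i j
    simp [CharTwo.add_self_eq_zero]
  have hrank : (1 + N - 1).rank = ℓ := by
    rw [add_sub_cancel_left]
    refine rank_eq_of_factor N (Matrix.of fun i (k : Fin ℓ) => if i.val = k.val + (n - ℓ) then 1 else 0)
      (Matrix.of fun (k : Fin ℓ) j => if j.val = k.val then 1 else 0) ?_
      (fun k => ⟨k.val + (n - ℓ), by omega⟩) (fun k => ⟨k.val, by omega⟩) ?_
    · ext i j
      rw [hN, Matrix.mul_apply]
      simp only [Matrix.of_apply]
      by_cases hj : j.val < ℓ
      · rw [Finset.sum_eq_single (⟨j.val, hj⟩ : Fin ℓ)]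
        · simp [hj]
        · intro k _ hk
          rw [if_neg (c := j.val = k.val) fun e => hk (Fin.ext e.symm), mul_zero]
        · simp
      · rw [if_neg fun h => hj h.1, Finset.sum_eq_zero]
        intro k _
        rw [if_neg (c := j.val = k.val) fun e => hj (e ▸ k.isLt), mul_zero]
    · ext k k'
      rw [hN]
      simp [Matrix.submatrix_apply, Matrix.one_apply, Fin.ext_iff]
  exact ⟨⟨1 + N, det_eq_one_of_sq hsq⟩, rfl, orderOf_eq_two hsq (by rw [hrank]; omega), hrank⟩

theorem su_rep [CharP F 2] {n q ℓ : ℕ} (h1 : 1 ≤ ℓ) (h2 : 2 * ℓ ≤ n) :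
    ∃ a : ↥(Cfsg.SU n F q),
      (((a : Matrix.SpecialLinearGroup (Fin n) F) : Matrix (Fin n) (Fin n) F) = Matrix.of
        (fun i j : Fin n => if (j.val < ℓ ∧ i.val = j.val + (n - ℓ)) ∨
          (i.val < ℓ ∧ j.val = i.val + (n - ℓ)) ∨ (i = j ∧ ℓ ≤ i.val ∧ i.val < n - ℓ)
          then (1 : F) else 0)) ∧ orderOf a = 2 ∧
      ((((a : Matrix.SpecialLinearGroup (Fin n) F) : Matrix (Fin n) (Fin n) F)) - 1).rank = ℓ := by
  let t : Fin n → Fin n := fun i =>
    if h : i.val < ℓ then ⟨i.val + (n - ℓ), by omega⟩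
    else if h' : n - ℓ ≤ i.val then ⟨i.val - (n - ℓ), by omega⟩ else i
  have hval : ∀ i, (t i).val = if i.val < ℓ then i.val + (n - ℓ)
      else if n - ℓ ≤ i.val then i.val - (n - ℓ) else i.val := by
    intro i
    simp only [t]
    split_ifs <;> rfl
  have ht : Function.Involutive t := by
    intro i
    apply Fin.ext
    rw [hval, hval]
    split_ifs <;> omega
  obtain ⟨M, hM⟩ : ∃ M, M = Matrix.of
      (fun i j : Fin n => if (j.val < ℓ ∧ i.val = j.val + (n - ℓ)) ∨
        (i.val < ℓ ∧ j.val = i.val + (n - ℓ)) ∨ (i = j ∧ ℓ ≤ i.val ∧ i.val < n - ℓ)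
        then (1 : F) else 0) := ⟨_, rfl⟩
  have hMt : ∀ i j, M i j = if j = t i then 1 else 0 := by
    intro i j
    rw [hM]
    simp only [Matrix.of_apply]
    refine if_congr ?_ rfl rfl
    simp only [t]
    split_ifs <;> simp [Fin.ext_iff] <;> omega
  have hmv : ∀ u : Fin n → F, M *ᵥ u = u ∘ t := by
    intro u
    funext i
    simp [Matrix.mulVec, dotProduct, hMt]
  have hsq : M * M = 1 := by
    refine Matrix.ext_of_mulVec_single fun i => ?_
    rw [← Matrix.mulVec_mulVec, hmv, hmv, Matrix.one_mulVec]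
    funext j
    simp [ht j]
  have hmem : (⟨M, det_eq_one_of_sq hsq⟩ : Matrix.SpecialLinearGroup (Fin n) F) ∈ Cfsg.SU n F q := by
    intro u v
    show Cfsg.hermForm n F q (M *ᵥ u) (M *ᵥ v) = _
    rw [hmv, hmv]
    exact Equiv.sum_comp (Function.Involutive.toPerm t ht) fun i => u i * v i ^ q
  have hrank : (M - 1).rank = ℓ := by
    refine rank_eq_of_factor (M - 1)
      (Matrix.of fun i (k : Fin ℓ) => if i.val = k.val ∨ i.val = k.val + (n - ℓ) then 1 else 0)
      (Matrix.of fun (k : Fin ℓ) j => if j.val = k.val ∨ j.val = k.val + (n - ℓ) then 1 else 0) ?_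
      (fun k => ⟨k.val, by omega⟩) (fun k => ⟨k.val + (n - ℓ), by omega⟩) ?_
    · ext i j
      rw [Matrix.mul_apply, Matrix.sub_apply, hMt, Matrix.one_apply]
      simp only [Matrix.of_apply]
      by_cases hi : i.val < ℓ ∨ n - ℓ ≤ i.val
      · obtain ⟨k, hk⟩ : ∃ k : Fin ℓ, i.val = k.val ∨ i.val = k.val + (n - ℓ) := by
          by_cases hi' : i.val < ℓ
          · exact ⟨⟨i.val, hi'⟩, Or.inl rfl⟩
          · exact ⟨⟨i.val - (n - ℓ), by omega⟩, Or.inr (by simp; omega)⟩
        rw [Finset.sum_eq_single k, if_pos hk, one_mul]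
        · simp only [t]
          split_ifs <;> simp [Fin.ext_iff, CharTwo.sub_eq_add, CharTwo.add_self_eq_zero] at * <;> omega
        · intro k' _ hne
          rw [if_neg (c := i.val = k'.val ∨ i.val = k'.val + (n - ℓ)) fun h => hne (Fin.ext (by omega)),
            zero_mul]
        · simp
      · rw [Finset.sum_eq_zero fun k _ => by rw [if_neg (c := i.val = k.val ∨ _) (by omega), zero_mul]]
        have e : t i = i := by
          simp only [t]
          rw [dif_neg (by omega), dif_neg (by omega)]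
        rw [e]
        simp [eq_comm]
    · ext k k'
      rw [Matrix.submatrix_apply, Matrix.sub_apply, hMt, Matrix.one_apply, Matrix.one_apply]
      simp only [t]
      rw [dif_pos k.isLt]
      simp only [Fin.ext_iff]
      rw [if_neg (c := k.val = k'.val + (n - ℓ)) (by omega), sub_zero]
      exact if_congr (by omega) rfl rfl
  refine ⟨⟨_, hmem⟩, hM, ?_, hrank⟩
  rw [← Subgroup.orderOf_coe]
  exact orderOf_eq_two hsq (by rw [hrank]; omega)

end Cfsg.Agent.Small.InvReps
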