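import Cfsg.Agent.Lib.Small.ArfTwo
import Cfsg.Agent.Lib.Small.SpInvolMatrix

/-!
# Involutive isometries of quadratic forms in characteristic two
-/

set_option autoImplicit false
set_option linter.unusedSectionVars false

namespace Cfsg.Agent.Small.InvolutionsO

open Module QuadraticMap Cfsg.Agent.Classical Cfsg.Agent.Classical.SpCount Cfsg.Agent.Small.InvolutionsSp
  Cfsg.Agent.Small.ArfTwo

universe u v

variable {F : Type u} [Field F] [Fintype F] [CharP F 2] {V : Type v} [AddCommGroup V] [Module F V]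
  (Q : QuadraticForm F V) (N : V →ₗ[F] V)

/-- The nilpotent part of an involution in the orthogonal group. -/
structure OInvol : Prop where
  invol : Invol (polarBilin Q) N
  inv : ∀ x, Q (N x) = polar Q x (N x)

/-- Isometries intertwining two nilpotent maps. -/
def OInter {V' : Type v} [AddCommGroup V'] [Module F V'] (Q' : QuadraticForm F V') (N' : V' →ₗ[F] V') : Type v :=
  {φ : V ≃ₗ[F] V' // (∀ x, Q' (φ x) = Q x) ∧ ∀ x, φ (N x) = N' (φ x)}

variable {Q N}

theorem inv_iff {Q : QuadraticForm F V} {N : V →ₗ[F] V} :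
    (∀ x, Q (N x) = polar Q x (N x)) ↔ ∀ x, Q (x + N x) = Q x := by
  refine forall_congr' fun x => ?_
  rw [q_add Q]
  constructor
  · intro h
    rw [h]
    linear_combination (polar Q x (N x)) * (CharTwo.two_eq_zero (R := F))
  · intro h
    linear_combination h - (polar Q x (N x)) * (CharTwo.two_eq_zero (R := F))

theorem OInvol.alt_iff (h : OInvol Q N) : (∀ x, Q (N x) = 0) ↔ ∀ x, polar Q x (N x) = 0 :=
  forall_congr' fun x => by rw [h.inv]

/-- An intertwining isometry of the forms is one of the polar forms. -/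
theorem inter_nonempty_of_O {V' : Type v} [AddCommGroup V'] [Module F V'] {Q' : QuadraticForm F V'}
    {N' : V' →ₗ[F] V'} (φ : OInter Q N Q' N') :
    ∀ x y, polarBilin Q' (φ.1 x) (φ.1 y) = polarBilin Q x y := fun x y => by
  simp only [polarBilin_apply_apply, polar, ← map_add, φ.2.1]

/-- A symplectic intertwiner differs from an orthogonal one by an Arf-trivial vector of the kernel. -/
theorem inter_shift [Fintype V] [FiniteDimensional F V] (hQ : OCount.PND Q) {N' : V →ₗ[F] V} (h : OInvol Q N)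
    (h' : OInvol Q N') (φ : Inter (polarBilin Q) N (polarBilin Q) N') :
    ∃ a, N a = 0 ∧ IsWp (Q a) ∧ ∀ x, Q (φ.1 x) = Q x + polar Q a x ^ 2 := by
  obtain ⟨a, ha⟩ := exists_shift Q hQ (fun x => Q (φ.1 x))
    (fun x y => by
      have e := φ.2.1 x y
      rw [polarBilin_apply_apply, polarBilin_apply_apply] at e
      rw [map_add, q_add Q, e])
    (fun c x => by rw [map_smul, q_smul Q])
  refine ⟨a, h.invol.alt.nondeg _ fun x => ?_, psi_eq_one.1 ?_, ha⟩
  · have e1 := ha (x + N x)
    have e2 : Q (φ.1 (x + N x)) = Q (φ.1 x) := by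
      rw [map_add, φ.2.2, inv_iff.1 h'.inv]
    rw [e2, ha, inv_iff.1 h.inv, polar_add_right] at e1
    have e3 : polar Q a (N x) ^ 2 = 0 := by
      linear_combination -e1 - (polar Q a x * polar Q a (N x)) * (CharTwo.two_eq_zero (R := F))
    rw [h.invol.adj]
    exact pow_eq_zero_iff two_ne_zero |>.1 e3
  · have e := arf_shift Q a (fun x => Q (φ.1 x)) ha
    have e' : ∑ x, psi (Q (φ.1 x)) = arf Q := Equiv.sum_comp φ.1.toEquiv fun x => psi (Q x)
    rw [e'] at e
    exact mul_right_cancel₀ (arf_ne_zero Q hQ) (e.symm.trans (one_mul _).symm)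

/-- Conjugacy in the symplectic group gives conjugacy in the orthogonal group. -/
theorem nonempty_OInter [Fintype V] [FiniteDimensional F V] (hQ : OCount.PND Q) {N' : V →ₗ[F] V} (h : OInvol Q N)
    (h' : OInvol Q N') (φ : Inter (polarBilin Q) N (polarBilin Q) N') : Nonempty (OInter Q N Q N') := by
  obtain ⟨a, ha, hwp, hφ⟩ := inter_shift hQ h h' φ
  obtain ⟨T, hTT, -, hTQ, hTN⟩ := exists_tv Q a hwp
  refine ⟨⟨T.trans φ.1, fun x => ?_, fun x => ?_⟩⟩
  · rw [LinearEquiv.trans_apply, hφ, ← hTQ, hTT]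
  · rw [LinearEquiv.trans_apply, LinearEquiv.trans_apply, hTN N h.invol ha, φ.2.2]

/-- The Arf-trivial vectors of the kernel. -/
def KerWp (Q : QuadraticForm F V) (N : V →ₗ[F] V) : Type v := {a : V // N a = 0 ∧ IsWp (Q a)}

theorem card_inter_eq [Fintype V] [FiniteDimensional F V] (hQ : OCount.PND Q) (h : OInvol Q N) :
    Nat.card (Inter (polarBilin Q) N (polarBilin Q) N) = Nat.card (OInter Q N Q N) * Nat.card (KerWp Q N) := by
  rw [← Nat.card_prod]
  refine (Nat.card_congr (Equiv.ofBijective (fun p : OInter Q N Q N × KerWp Q N =>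
    (⟨(exists_tv Q p.2.1 p.2.2.2).choose.trans p.1.1, fun x y => ?_, fun x => ?_⟩ :
      Inter (polarBilin Q) N (polarBilin Q) N)) ⟨fun p p' he => ?_, fun φ => ?_⟩)).symm
  · rw [LinearEquiv.trans_apply, LinearEquiv.trans_apply, inter_nonempty_of_O p.1, polarBilin_apply_apply,
      polarBilin_apply_apply]
    exact (exists_tv Q p.2.1 p.2.2.2).choose_spec.2.1 x y
  · rw [LinearEquiv.trans_apply, LinearEquiv.trans_apply,
      (exists_tv Q p.2.1 p.2.2.2).choose_spec.2.2.2 N h.invol p.2.2.1, p.1.2.2]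
  · have he' := congrArg Subtype.val he
    have ha : p.2 = p'.2 := Subtype.ext (sub_eq_zero.1 (hQ _ fun x => by
      have e := congrArg Q (LinearEquiv.congr_fun he' x)
      simp only [LinearEquiv.trans_apply, p.1.2.1, p'.1.2.1,
        (exists_tv Q p.2.1 p.2.2.2).choose_spec.2.2.1, (exists_tv Q p'.2.1 p'.2.2.2).choose_spec.2.2.1] at e
      rw [polar_sub_left, sub_eq_zero]
      exact SymFormsTwo.sq_inj (add_left_cancel e)))
    obtain ⟨p1, p2⟩ := p
    obtain ⟨p1', p2'⟩ := p'
    obtain rfl : p2 = p2' := ha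
    refine Prod.ext (Subtype.ext (LinearEquiv.ext fun x => ?_)) rfl
    obtain ⟨y, rfl⟩ := (exists_tv Q p2.1 p2.2.2).choose.surjective x
    exact LinearEquiv.congr_fun he' y
  · obtain ⟨a, ha, hwp, hφ⟩ := inter_shift hQ h h φ
    obtain ⟨hTT, hTf, hTQ, hTN⟩ := (exists_tv Q a hwp).choose_spec
    refine ⟨⟨⟨(exists_tv Q a hwp).choose.trans φ.1, fun x => ?_, fun x => ?_⟩, ⟨a, ha, hwp⟩⟩,
      Subtype.ext (LinearEquiv.ext fun x => ?_)⟩
    · rw [LinearEquiv.trans_apply, hφ, ← hTQ, hTT]
    · rw [LinearEquiv.trans_apply, LinearEquiv.trans_apply, hTN N h.invol ha, φ.2.2]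
    · simp only [LinearEquiv.trans_apply, hTT]

/-- The indicator of the kernel. -/
noncomputable def ind (N : V →ₗ[F] V) (x : V) : ℤ := @ite ℤ (N x = 0) (_root_.Classical.propDecidable _) 1 0

/-- The character sum over the kernel. -/
noncomputable def kerSum [Fintype V] (Q : QuadraticForm F V) (N : V →ₗ[F] V) : ℤ := ∑ x, ind N x * psi (Q x)

theorem two_card_kerWp [Fintype V] [FiniteDimensional F V] (Q : QuadraticForm F V) (N : V →ₗ[F] V) :
    2 * (Nat.card (KerWp Q N) : ℤ) =
      (Fintype.card F : ℤ) ^ (finrank F V - finrank F (LinearMap.range N)) + kerSum Q N := by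
  classical
  have h1 : (Nat.card (LinearMap.ker N) : ℤ) = ∑ x : V, ind N x := by
    rw [Nat.card_eq_fintype_card, Fintype.card_subtype, Finset.card_filter, Nat.cast_sum]
    refine Finset.sum_congr rfl fun x _ => ?_
    by_cases hx : N x = 0 <;> simp [ind, hx]
  have h2 : 2 * (Nat.card (KerWp Q N) : ℤ) = ∑ x : V, (ind N x + ind N x * psi (Q x)) := by
    rw [show Nat.card (KerWp Q N) =
      Nat.card {a : V // N a = 0 ∧ IsWp (Q a)} from rfl, Nat.card_eq_fintype_card, Fintype.card_subtype,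
      Finset.card_filter, Nat.cast_sum, Finset.mul_sum]
    refine Finset.sum_congr rfl fun x _ => ?_
    by_cases hx : N x = 0 <;> by_cases hw : IsWp (Q x) <;> simp [ind, psi, hx, hw]
  have h3 := LinearMap.finrank_range_add_finrank_ker N
  rw [h2, Finset.sum_add_distrib, ← h1, kerSum,
    natCard_eq_pow_finrank (K := F) (V := LinearMap.ker N), Nat.cast_pow, Nat.card_eq_fintype_card (α := F),
    show finrank F V - finrank F (LinearMap.range N) = finrank F (LinearMap.ker N) by omega]

theorem exists_scale {b : V} (hb : Q b ≠ 0) (z : F) : ∃ c : F, Q (c • b) = z := by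
  refine ⟨(frobeniusEquiv F 2).symm (z / Q b), ?_⟩
  rw [q_smul Q, frobeniusEquiv_symm_pow_p F 2, div_mul_cancel₀ _ hb]

theorem kerSum_nonalt [Fintype V] (h : OInvol Q N) (hna : ¬ ∀ x, polar Q x (N x) = 0) : kerSum Q N = 0 := by
  obtain ⟨y, hy⟩ := not_forall.1 hna
  obtain ⟨z, hz⟩ := exists_psi (F := F)
  obtain ⟨c, hc⟩ := exists_scale (Q := Q) (b := N y) (by rw [h.inv]; exact hy) z
  rw [← map_smul] at hc
  refine sum_eq_zero _ (N (c • y)) fun x => ?_
  have hi : ind N (x + N (c • y)) = ind N x := by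
    have e : N (x + N (c • y)) = N x := by rw [map_add, h.invol.sq, add_zero]
    unfold ind
    rw [e]
  rw [hi]
  by_cases hx : N x = 0
  · have e : polar Q x (N (c • y)) = 0 := by
      rw [← polarBilin_apply_apply, ← h.invol.adj, hx, map_zero, LinearMap.zero_apply]
    rw [q_add Q, e, add_zero, psi_add, hc, hz]
    ring
  · simp [ind, hx]

theorem kerSum_alt [Fintype V] (h : OInvol Q N) (ha : ∀ x, polar Q x (N x) = 0) : kerSum Q N = arf Q := by
  have h1 : ∀ x : V, ∑ y, psi (Q (x + N y)) = (Fintype.card V : ℤ) * (ind N x * psi (Q x)) := fun x => by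
    have e : ∀ y, psi (Q (x + N y)) = psi (Q x) * psi (polarBilin Q (N x) y) := fun y => by
      rw [q_add Q, h.inv, ha, add_zero, psi_add, h.invol.adj]; rfl
    rw [Finset.sum_congr rfl fun y _ => e y, ← Finset.mul_sum]
    by_cases hx : N x = 0
    · simp [ind, hx, psi_zero, mul_comm]
    · have hne : polarBilin Q (N x) ≠ 0 := fun h0 =>
        hx (h.invol.alt.nondeg _ fun w => LinearMap.congr_fun h0 w)
      rw [sum_psi_linear hne]
      simp [ind, hx]
  have h2 : ∑ y : V, ∑ x : V, psi (Q (x + N y)) = Fintype.card V * arf Q := by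
    have e : ∀ y : V, ∑ x : V, psi (Q (x + N y)) = arf Q := fun y =>
      Equiv.sum_comp (Equiv.addRight (N y)) fun x => psi (Q x)
    rw [Finset.sum_congr rfl fun y _ => e y, Finset.sum_const, Finset.card_univ, nsmul_eq_mul]
  rw [Finset.sum_comm, Finset.sum_congr rfl fun x _ => h1 x, ← Finset.mul_sum] at h2
  exact mul_left_cancel₀ (by exact_mod_cast (Fintype.card_pos (α := V)).ne') h2

theorem arf_of_alt_max [Fintype V] [FiniteDimensional F V] (hQ : OCount.PND Q) {m : ℕ} (hm : finrank F V = 2 * m)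
    (h : OInvol Q N) (ha : ∀ x, polar Q x (N x) = 0) (hs : finrank F (LinearMap.range N) = m) :
    arf Q = (Fintype.card F : ℤ) ^ m := by
  refine arf_of_ts Q hQ hm (LinearMap.range N) ?_ hs
  rintro _ ⟨x, rfl⟩
  rw [h.inv, ha]

theorem exists_ker_ne [FiniteDimensional F V] (hQ : OCount.PND Q) {m : ℕ} (hm : finrank F V = 2 * m)
    (h : OInvol Q N) (hns : ¬ ((∀ x, polar Q x (N x) = 0) ∧ finrank F (LinearMap.range N) = m)) :
    ∃ b, N b = 0 ∧ Q b ≠ 0 := by
  by_cases ha : ∀ x, polar Q x (N x) = 0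
  · have hs : finrank F (LinearMap.range N) ≠ m := fun e => hns ⟨ha, e⟩
    by_contra! hc
    have h1 := Witt.finrank_le_half Q (ORefl.nondeg hQ) (W := LinearMap.ker N) fun x hx => hc x (LinearMap.mem_ker.1 hx)
    have h2 := LinearMap.finrank_range_add_finrank_ker N
    have h3 := two_rank_le h.invol
    omega
  · obtain ⟨y, hy⟩ := not_forall.1 ha
    exact ⟨N y, h.invol.sq y, by rw [h.inv]; exact hy⟩

/-- A reflection in a kernel vector commutes with the involution. -/
theorem refl_comm (h : OInvol Q N) {b : V} (hb : N b = 0) (x : V) :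
    ORefl.refl Q b (N x) = N (ORefl.refl Q b x) := by
  have e : polar Q b (N x) = 0 := by
    rw [← polarBilin_apply_apply, ← h.invol.adj, hb, map_zero, LinearMap.zero_apply]
  rw [ORefl.refl_apply, ORefl.refl_apply, e, map_sub, map_smul, hb]
  simp

theorem inter_facts {V' : Type v} [AddCommGroup V'] [Module F V'] [FiniteDimensional F V] [FiniteDimensional F V']
    {f : V →ₗ[F] V →ₗ[F] F} {f' : V' →ₗ[F] V' →ₗ[F] F} {N' : V' →ₗ[F] V'} (φ : Inter f N f' N') :
    finrank F (LinearMap.range N) = finrank F (LinearMap.range N') ∧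
      ((∀ x, f x (N x) = 0) ↔ ∀ x, f' x (N' x) = 0) := by
  constructor
  · have hr : (LinearMap.range N).map (φ.1 : V →ₗ[F] V') = LinearMap.range N' := by
      rw [← LinearMap.range_comp, show (φ.1 : V →ₗ[F] V').comp N = N'.comp (φ.1 : V →ₗ[F] V') from
        LinearMap.ext φ.2.2, LinearMap.range_comp, LinearEquiv.range, Submodule.map_top]
    rw [← LinearEquiv.finrank_map_eq φ.1 (LinearMap.range N), hr]
  · conv_rhs => rw [φ.1.surjective.forall]
    exact forall_congr' fun x => by rw [← φ.2.2, φ.2.1]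

/-- Transport of an involution along an isometry. -/
theorem transport {V' : Type v} [AddCommGroup V'] [Module F V'] {f : V →ₗ[F] V →ₗ[F] F}
    {f' : V' →ₗ[F] V' →ₗ[F] F} (hf' : IsAltND f') (L : V ≃ₗ[F] V') (hL : ∀ x y, f' (L x) (L y) = f x y)
    (h : Invol f N) : ∃ N' : V' →ₗ[F] V', Invol f' N' ∧ (∀ x, L (N x) = N' (L x)) := by
  obtain ⟨N', hN'⟩ : ∃ N' : V' →ₗ[F] V', ∀ x, N' (L x) = L (N x) :=
    ⟨(L : V →ₗ[F] V').comp (N.comp (L.symm : V' →ₗ[F] V)), fun x => by simp⟩
  refine ⟨N', ⟨hf', fun x => ?_, fun x y => ?_⟩, fun x => (hN' x).symm⟩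
  · obtain ⟨x, rfl⟩ := L.surjective x
    rw [hN', hN', h.sq, map_zero]
  · obtain ⟨x, rfl⟩ := L.surjective x
    obtain ⟨y, rfl⟩ := L.surjective y
    rw [hN', hN', hL, hL, h.adj]

/-- Every possible type occurs in every symplectic space. -/
theorem exists_sp_type {V : Type u} [AddCommGroup V] [Module F V] [FiniteDimensional F V]
    {f : V →ₗ[F] V →ₗ[F] F} (hf : IsAltND f) {m s : ℕ} (hm : finrank F V = 2 * m) (hs : s ≤ m) (alt : Bool)
    (halt : alt = true → Even s) (hna : alt = false → 0 < s) :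
    ∃ N : V →ₗ[F] V, Invol f N ∧ finrank F (LinearMap.range N) = s ∧ ((∀ x, f x (N x) = 0) ↔ alt = true) := by
  obtain ⟨fam⟩ := exists_fam m hf hm
  obtain ⟨t, ht1, ht2, ht3⟩ := SpInvolMatrix.exists_model (F := F) hs alt halt hna
  have hL : ∀ x y, f ((famBasis hf hm fam).equivFun.symm x) ((famBasis hf hm fam).equivFun.symm y) =
      stdForm m F x y := by
    have e : f.compl₁₂ ((famBasis hf hm fam).equivFun.symm : _ →ₗ[F] V)
        ((famBasis hf hm fam).equivFun.symm : _ →ₗ[F] V) = stdForm m F := by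
      refine LinearMap.ext_basis (Pi.basisFun F _) (Pi.basisFun F _) fun i j => ?_
      rw [LinearMap.compl₁₂_apply, Pi.basisFun_apply, Pi.basisFun_apply, LinearEquiv.coe_coe, stdForm_apply]
      simp [famBasis, fam.2, Matrix.mulVec_single]
    exact fun x y => LinearMap.congr_fun (LinearMap.congr_fun e x) y
  obtain ⟨N, hN, hN'⟩ := transport hf _ hL (SpInvolMatrix.invol ht1)
  obtain ⟨e1, e2⟩ := inter_facts (⟨_, hL, hN'⟩ : Inter (stdForm m F) (SpInvolMatrix.nil t) f N)
  refine ⟨N, hN, ?_, ?_⟩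
  · rw [← e1, SpInvolMatrix.finrank_nil, ht2]
  · rw [← e2, SpInvolMatrix.alt_iff, ht3]

/-- A symplectic involution is conjugate to an orthogonal one, the exceptional type needing plus type. -/
theorem exists_invol_O [Fintype V] [FiniteDimensional F V] (hQ : OCount.PND Q) {m : ℕ}
    (hm : finrank F V = 2 * m) (h : Invol (polarBilin Q) N)
    (hex : (∀ x, polar Q x (N x) = 0) → finrank F (LinearMap.range N) = m →
      arf Q = (Fintype.card F : ℤ) ^ m) :
    ∃ N' : V →ₗ[F] V, OInvol Q N' ∧ Nonempty (Inter (polarBilin Q) N (polarBilin Q) N') := by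
  -- an invariant translate of the form
  obtain ⟨g, hg, -⟩ := exists_vec Q hQ (fun x => Q (N x) + polar Q x (N x))
    (fun x y => by
      rw [map_add, q_add Q, ← polarBilin_apply_apply Q (N x), h.zero, polar_add_left, polar_add_right, polar_add_right,
        polar_comm Q y (N x), show polar Q x (N y) = polar Q (N x) y from (h.adj x y).symm]
      linear_combination (polar Q (N x) y) * (CharTwo.two_eq_zero (R := F)))
    (fun c x => by
      rw [map_smul, q_smul Q, polar_smul_left, polar_smul_right, smul_eq_mul, smul_eq_mul]; ring)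
  obtain ⟨ℓ, hℓ⟩ : ∃ ℓ : V →ₗ[F] F, ∀ x, ℓ (N x) = g x := by
    have hm' : (g : Module.Dual F V) ∈ (LinearMap.ker N).dualAnnihilator := by
      rw [Submodule.mem_dualAnnihilator]
      intro x hx
      have hx0 : N x = 0 := hx
      refine pow_eq_zero_iff two_ne_zero |>.1 ?_
      rw [hg, hx0, QuadraticMap.map_zero, polar_zero_right, add_zero]
    rw [← LinearMap.range_dualMap_eq_dualAnnihilator_ker] at hm'
    obtain ⟨ℓ, hℓ⟩ := hm'
    exact ⟨ℓ, fun x => LinearMap.congr_fun hℓ x⟩
  obtain ⟨R, hR⟩ : ∃ R : QuadraticForm F V, ∀ x, R x = Q x + ℓ x ^ 2 :=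
    ⟨Q + QuadraticMap.linMulLin ℓ ℓ, fun x => by simp [pow_two]⟩
  have hRp : ∀ x y, polar R x y = polar Q x y := fun x y => by
    simp only [polar, hR, map_add]
    linear_combination (ℓ x * ℓ y) * (CharTwo.two_eq_zero (R := F))
  have hRb : polarBilin R = polarBilin Q := LinearMap.ext fun x => LinearMap.ext fun y => hRp x y
  have hRnd : OCount.PND R := fun v hv => hQ v fun w => by rw [← hRp, hv]
  have hRO : OInvol R N := ⟨hRb.symm ▸ h, fun x => by
    rw [hR, hRp, hℓ, hg]
    linear_combination (Q (N x)) * (CharTwo.two_eq_zero (R := F))⟩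
  -- adjusting the sum
  obtain ⟨S, hSp, hSs, hS, hSinv⟩ : ∃ S : V → F, (∀ x y, S (x + y) = S x + S y + polar Q x y) ∧
      (∀ (c : F) x, S (c • x) = c ^ 2 * S x) ∧ ∑ x, psi (S x) = arf Q ∧ ∀ x, S (x + N x) = S x := by
    have hadd : ∀ x y, R (x + y) = R x + R y + polar Q x y := fun x y => by rw [q_add R, hRp]
    rcases eq_or_ne (arf R) (arf Q) with e | e
    · exact ⟨R, hadd, fun c x => q_smul R c x, e, inv_iff.1 hRO.inv⟩
    · have e' : arf R = - arf Q := by
        rcases arf_eq_or R hRnd hm with a | a <;> rcases arf_eq_or Q hQ hm with b | b <;>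
          first | (exfalso; exact e (a.trans b.symm)) | (rw [a, b]; try ring)
      have hns : ¬ ((∀ x, polar R x (N x) = 0) ∧ finrank F (LinearMap.range N) = m) := fun ⟨ha, hd⟩ =>
        e ((arf_of_alt_max hRnd hm hRO ha hd).trans (hex (fun x => by rw [← hRp, ha]) hd).symm)
      obtain ⟨b, hb, hb'⟩ := exists_ker_ne hRnd hm hRO hns
      obtain ⟨z, hz⟩ := exists_psi (F := F)
      obtain ⟨c, hc⟩ := exists_scale (Q := R) hb' z
      refine ⟨fun x => R x + polar R (c • b) x ^ 2, fun x y => ?_, fun d x => ?_, ?_, fun x => ?_⟩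
      · simp only [hadd, polar_add_right]
        linear_combination (polar R (c • b) x * polar R (c • b) y) * (CharTwo.two_eq_zero (R := F))
      · simp only [q_smul R, polar_smul_right, smul_eq_mul]; ring
      · rw [arf_shift R (c • b) _ (fun x => rfl), hc, hz, e']; ring
      · have e3 : polar R (c • b) (N x) = 0 := by
          rw [← polarBilin_apply_apply, ← hRO.invol.adj, map_smul, hb, smul_zero, map_zero, LinearMap.zero_apply]
        simp only [inv_iff.1 hRO.inv, polar_add_right, e3, add_zero]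
  obtain ⟨T, hT1, hT2⟩ := exists_iso Q hQ S hSp hSs hS
  obtain ⟨N', hN', hTN⟩ := transport h.alt T (fun x y => by
    rw [polarBilin_apply_apply, polarBilin_apply_apply, hT1]) h
  refine ⟨N', ⟨hN', inv_iff.2 fun y => ?_⟩, ⟨⟨T, fun x y => by
    rw [polarBilin_apply_apply, polarBilin_apply_apply, hT1], hTN⟩⟩⟩
  obtain ⟨x, rfl⟩ := T.surjective y
  rw [← hTN, ← map_add, hT2, hT2, hSinv]

/-- Every type occurs in the orthogonal group, the exceptional type only for plus type. -/
theorem exists_O_type {V : Type u} [AddCommGroup V] [Module F V] [Fintype V] [FiniteDimensional F V]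
    {Q : QuadraticForm F V} (hQ : OCount.PND Q) {m s : ℕ} (hm : finrank F V = 2 * m) (hs : s ≤ m) (alt : Bool)
    (halt : alt = true → Even s) (hna : alt = false → 0 < s)
    (hex : alt = true → s = m → arf Q = (Fintype.card F : ℤ) ^ m) :
    ∃ N : V →ₗ[F] V, OInvol Q N ∧ finrank F (LinearMap.range N) = s ∧
      ((∀ x, polar Q x (N x) = 0) ↔ alt = true) := by
  obtain ⟨N, hN, hr, ha⟩ := exists_sp_type (isAltND Q hQ) hm hs alt halt hna
  obtain ⟨N', hN', ⟨φ⟩⟩ := exists_invol_O hQ hm hN (fun h1 h2 => hex (ha.1 h1) (hr.symm.trans h2))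
  obtain ⟨e1, e2⟩ := inter_facts φ
  exact ⟨N', hN', e1.symm.trans hr, e2.symm.trans ha⟩

end Cfsg.Agent.Small.InvolutionsO
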