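import Cfsg.Agent.Lib.Small.SymFormsTwo

/-!
# Involutive isometries of alternating forms in characteristic two

Conjugacy and centralisers, through families adapted to the nilpotent part.
-/

set_option autoImplicit false
set_option linter.unusedSectionVars false

namespace Cfsg.Agent.Small.InvolutionsSp

open Module Matrix Cfsg.Agent.Classical.SpCount Cfsg.Agent.Small.SymFormsTwo

universe u v

variable {F : Type u} [Field F] [CharP F 2] {V : Type v} [AddCommGroup V] [Module F V]

theorem sym_of_alt {f : V →ₗ[F] V →ₗ[F] F} (hf : IsAltND f) (x y : V) : f x y = f y x := by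
  rw [hf.swap, CharTwo.neg_eq]

/-- The nilpotent part of an involutive isometry. -/
structure Invol (f : V →ₗ[F] V →ₗ[F] F) (N : V →ₗ[F] V) : Prop where
  alt : IsAltND f
  sq : ∀ x, N (N x) = 0
  adj : ∀ x y, f (N x) y = f x (N y)

variable {f : V →ₗ[F] V →ₗ[F] F} {N : V →ₗ[F] V}

theorem Invol.zero (h : Invol f N) (x y : V) : f (N x) (N y) = 0 := by
  rw [h.adj, h.sq, map_zero]

/-- The symmetric form of an involution. -/
def beta (f : V →ₗ[F] V →ₗ[F] F) (N : V →ₗ[F] V) : V →ₗ[F] V →ₗ[F] F := f.compl₂ N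

theorem beta_apply (f : V →ₗ[F] V →ₗ[F] F) (N : V →ₗ[F] V) (x y : V) : beta f N x y = f x (N y) := rfl

theorem beta_symm (h : Invol f N) (x y : V) : beta f N x y = beta f N y x := by
  rw [beta_apply, beta_apply, ← h.adj, sym_of_alt h.alt]

/-- Adapted tuples. -/
def Adapted (f : V →ₗ[F] V →ₗ[F] F) (N : V →ₗ[F] V) {ι : Type} (B : Matrix ι ι F) : Type v :=
  {x : ι → V // (∀ i j, f (x i) (x j) = 0) ∧ ∀ i j, f (x i) (N (x j)) = B i j}

/-- Adapted families. -/
def Fam (f : V →ₗ[F] V →ₗ[F] F) (N : V →ₗ[F] V) {ι : Type} (B : Matrix ι ι F) (k : ℕ) : Type v :=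
  Σ x : Adapted f N B, SpFam (perpForm f (Sum.elim x.1 fun i => N (x.1 i))) k

/-- The Gram matrix of an adapted tuple and its image. -/
def pairMat {ι : Type} (B : Matrix ι ι F) : Matrix (ι ⊕ ι) (ι ⊕ ι) F := Matrix.fromBlocks 0 B B 0

variable {ι : Type} [Fintype ι] [DecidableEq ι] {B : Matrix ι ι F}

theorem pairMat_det (hB : IsUnit B.det) : IsUnit (pairMat B).det := by
  refine Matrix.isUnit_det_of_right_inverse (B := Matrix.fromBlocks 0 B⁻¹ B⁻¹ 0) ?_
  rw [pairMat, Matrix.fromBlocks_multiply]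
  simp [Matrix.mul_nonsing_inv B hB, Matrix.fromBlocks_one]

theorem gram_pair (h : Invol f N) (x : Adapted f N B) (i j : ι ⊕ ι) :
    f (Sum.elim x.1 (fun i => N (x.1 i)) i) (Sum.elim x.1 (fun i => N (x.1 i)) j) = pairMat B i j := by
  rcases i with i | i <;> rcases j with j | j
  · exact x.2.1 i j
  · exact x.2.2 i j
  · exact (h.adj _ _).trans (x.2.2 i j)
  · exact h.zero _ _

section Finrank

variable [FiniteDimensional F V]

theorem two_rank_le (h : Invol f N) : 2 * finrank F (LinearMap.range N) ≤ finrank F V := by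
  have h1 := LinearMap.finrank_range_add_finrank_ker N
  have h2 : LinearMap.range N ≤ LinearMap.ker N := by
    rintro _ ⟨y, rfl⟩
    exact h.sq y
  have := Submodule.finrank_mono h2
  omega

theorem N_fam_eq_zero (h : Invol f N) (hB : IsUnit B.det) (hs : Fintype.card ι = finrank F (LinearMap.range N))
    {k : ℕ} (x : Fam f N B k) (a : Fin k ⊕ Fin k) : N (x.2.1 a : V) = 0 := by
  have hli : LinearIndependent F fun i => N (x.1.1 i) :=
    (gram_li (gram_pair h x.1) (pairMat_det hB)).comp Sum.inr Sum.inr_injective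
  have hmem : N (x.2.1 a : V) ∈ Submodule.span F (Set.range fun i => N (x.1.1 i)) := by
    have h1 : Submodule.span F (Set.range fun i => N (x.1.1 i)) = LinearMap.range N :=
      Submodule.eq_of_le_of_finrank_le (Submodule.span_le.2 (Set.range_subset_iff.2 fun i => LinearMap.mem_range_self N _))
        (by rw [finrank_span_eq_card hli, hs])
    rw [h1]
    exact LinearMap.mem_range_self N _
  obtain ⟨c, hc⟩ := (Submodule.mem_span_range_iff_exists_fun F).1 hmem
  have h0 : B *ᵥ c = 0 := funext fun i => by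
    have h2 : f (x.1.1 i) (N (x.2.1 a : V)) = 0 := by
      rw [← h.adj]
      exact mem_perp.1 (x.2.1 a).2 (.inr i)
    rw [← hc] at h2
    simpa [Matrix.mulVec, dotProduct, x.1.2.2, mul_comm] using h2
  rw [← hc, Matrix.eq_zero_of_mulVec_eq_zero hB.ne_zero h0]
  simp

/-- The basis of an adapted family. -/
def famVec {k : ℕ} (x : Fam f N B k) : (ι ⊕ ι) ⊕ (Fin k ⊕ Fin k) → V :=
  Sum.elim (Sum.elim x.1.1 fun i => N (x.1.1 i)) fun a => (x.2.1 a : V)

theorem gram_fam (h : Invol f N) {k : ℕ} (x : Fam f N B k) (i j : (ι ⊕ ι) ⊕ (Fin k ⊕ Fin k)) :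
    f (famVec x i) (famVec x j) = Matrix.fromBlocks (pairMat B) 0 0 (Matrix.J (Fin k) F) i j := by
  rcases i with i | i <;> rcases j with j | j
  · exact gram_pair h x.1 i j
  · exact mem_perp.1 (x.2.1 j).2 i
  · exact (sym_of_alt h.alt _ _).trans (mem_perp.1 (x.2.1 i).2 j)
  · exact x.2.2 i j

/-- The basis of an adapted family, as a basis. -/
noncomputable def famBas (h : Invol f N) (hB : IsUnit B.det) {k : ℕ}
    (hd : finrank F V = 2 * Fintype.card ι + 2 * k) (x : Fam f N B k) :
    Basis ((ι ⊕ ι) ⊕ (Fin k ⊕ Fin k)) F V :=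
  have hM : IsUnit (Matrix.fromBlocks (pairMat B) 0 0 (Matrix.J (Fin k) F)).det := by
    rw [Matrix.det_fromBlocks_zero₂₁]; exact (pairMat_det hB).mul (Matrix.isUnit_det_J _ _)
  Basis.mk (gram_li (gram_fam h x) hM)
    ((gram_li (gram_fam h x) hM).span_eq_top_of_card_eq_finrank'
      (by rw [hd, Fintype.card_sum, Fintype.card_sum, Fintype.card_sum, Fintype.card_fin]; omega)).ge

theorem famBas_apply (h : Invol f N) (hB : IsUnit B.det) {k : ℕ}
    (hd : finrank F V = 2 * Fintype.card ι + 2 * k) (x : Fam f N B k) (i) :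
    famBas h hB hd x i = famVec x i := by
  unfold famBas
  rw [Basis.mk_apply]

theorem fam_ext {k : ℕ} {x y : Fam f N B k} (h : ∀ i, famVec x i = famVec y i) : x = y := by
  obtain ⟨⟨a, ha⟩, b⟩ := x
  obtain ⟨⟨a', ha'⟩, b'⟩ := y
  obtain rfl : a = a' := funext fun i => h (.inl (.inl i))
  exact congrArg (Sigma.mk (⟨a, ha⟩ : Adapted f N B))
    (Subtype.ext (funext fun i => Subtype.ext (h (.inr i))))

end Finrank

/-- Isometries intertwining two nilpotent maps. -/
def Inter {V' : Type v} [AddCommGroup V'] [Module F V'] (f : V →ₗ[F] V →ₗ[F] F) (N : V →ₗ[F] V)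
    (f' : V' →ₗ[F] V' →ₗ[F] F) (N' : V' →ₗ[F] V') : Type v :=
  {φ : V ≃ₗ[F] V' // (∀ x y, f' (φ x) (φ y) = f x y) ∧ ∀ x, φ (N x) = N' (φ x)}

variable [FiniteDimensional F V] {V' : Type v} [AddCommGroup V'] [Module F V'] [FiniteDimensional F V']
  {f' : V' →ₗ[F] V' →ₗ[F] F} {N' : V' →ₗ[F] V'}

theorem exists_inter (h : Invol f N) (h' : Invol f' N') (hB : IsUnit B.det)
    (hs : Fintype.card ι = finrank F (LinearMap.range N)) (hs' : Fintype.card ι = finrank F (LinearMap.range N'))
    {k : ℕ} (hd : finrank F V = 2 * Fintype.card ι + 2 * k) (hd' : finrank F V' = 2 * Fintype.card ι + 2 * k)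
    (x : Fam f N B k) (x' : Fam f' N' B k) :
    ∃ φ : Inter f N f' N', ∀ i, φ.1 (famVec x i) = famVec x' i := by
  obtain ⟨φ, hφ⟩ : ∃ φ : V ≃ₗ[F] V', ∀ i, φ (famVec x i) = famVec x' i :=
    ⟨(famBas h hB hd x).equiv (famBas h' hB hd' x') (Equiv.refl _), fun i => by
      rw [← famBas_apply h hB hd x i, Basis.equiv_apply, Equiv.refl_apply, famBas_apply]⟩
  refine ⟨⟨φ, ?_, ?_⟩, hφ⟩
  · have he : f'.compl₁₂ (φ : V →ₗ[F] V') (φ : V →ₗ[F] V') = f :=
      LinearMap.ext_basis (famBas h hB hd x) (famBas h hB hd x) fun i j => by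
        rw [famBas_apply, famBas_apply, LinearMap.compl₁₂_apply, LinearEquiv.coe_coe, hφ, hφ, gram_fam h' x',
          gram_fam h x]
    intro a b
    exact LinearMap.congr_fun (LinearMap.congr_fun he a) b
  · have he : (φ : V →ₗ[F] V').comp N = N'.comp (φ : V →ₗ[F] V') :=
      (famBas h hB hd x).ext fun i => by
        rw [famBas_apply, LinearMap.comp_apply, LinearMap.comp_apply, LinearEquiv.coe_coe, hφ]
        rcases i with (i | i) | a
        · exact hφ (.inl (.inr i))
        · change φ (N (N (x.1.1 i))) = N' (N' (x'.1.1 i))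
          rw [h.sq, h'.sq, map_zero]
        · change φ (N (x.2.1 a : V)) = N' (x'.2.1 a : V')
          rw [N_fam_eq_zero h hB hs, N_fam_eq_zero h' hB hs', map_zero]
    exact fun a => LinearMap.congr_fun he a

/-- The image of an adapted family. -/
def imageFam {k : ℕ} (φ : Inter f N f' N') (x : Fam f N B k) : Fam f' N' B k :=
  ⟨⟨fun i => φ.1 (x.1.1 i), fun i j => (φ.2.1 _ _).trans (x.1.2.1 i j), fun i j => by
      rw [← φ.2.2, φ.2.1, x.1.2.2]⟩,
    ⟨fun a => ⟨φ.1 (x.2.1 a : V), mem_perp.2 fun i => by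
      rcases i with i | i
      · exact (φ.2.1 _ _).trans (mem_perp.1 (x.2.1 a).2 (.inl i))
      · change f' (N' (φ.1 (x.1.1 i))) (φ.1 (x.2.1 a : V)) = 0
        rw [← φ.2.2]
        exact (φ.2.1 _ _).trans (mem_perp.1 (x.2.1 a).2 (.inr i))⟩,
    fun a b => (φ.2.1 _ _).trans (x.2.2 a b)⟩⟩

theorem famVec_imageFam {k : ℕ} (φ : Inter f N f' N') (x : Fam f N B k) (i) :
    famVec (imageFam φ x) i = φ.1 (famVec x i) := by
  rcases i with (i | i) | a
  · rfl
  · exact (φ.2.2 _).symm
  · rfl

theorem card_inter (h : Invol f N) (h' : Invol f' N') (hB : IsUnit B.det)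
    (hs : Fintype.card ι = finrank F (LinearMap.range N)) (hs' : Fintype.card ι = finrank F (LinearMap.range N'))
    {k : ℕ} (hd : finrank F V = 2 * Fintype.card ι + 2 * k) (hd' : finrank F V' = 2 * Fintype.card ι + 2 * k)
    (x : Fam f N B k) : Nat.card (Inter f N f' N') = Nat.card (Fam f' N' B k) := by
  refine Nat.card_congr (Equiv.ofBijective (fun φ => imageFam φ x) ⟨fun φ ψ he => ?_, fun x' => ?_⟩)
  · apply Subtype.ext
    apply LinearEquiv.toLinearMap_injective
    refine (famBas h hB hd x).ext fun i => ?_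
    have he' := congrArg (fun z : Fam f' N' B k => famVec z i) he
    simp only [famVec_imageFam] at he'
    rw [famBas_apply]
    exact he'
  · obtain ⟨φ, hφ⟩ := exists_inter h h' hB hs hs' hd hd' x x'
    exact ⟨φ, fam_ext fun i => by rw [famVec_imageFam, hφ]⟩

section Count

variable [Fintype F]

/-- Translation of a tuple by vectors in the image of the nilpotent map. -/
noncomputable def shift (N : V →ₗ[F] V) (B : Matrix ι ι F) (L : Matrix ι ι F) (x : ι → V) : ι → V :=
  fun j => x j + ∑ k, (L * B⁻¹) j k • N (x k)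

theorem N_shift (h : Invol f N) (L : Matrix ι ι F) (x : ι → V) (j : ι) : N (shift N B L x j) = N (x j) := by
  simp [shift, h.sq]

theorem shift_shift (h : Invol f N) (L : Matrix ι ι F) (x : ι → V) : shift N B L (shift N B L x) = x := by
  funext j
  rw [shift]
  simp only [N_shift h]
  rw [shift, add_assoc, ← Finset.sum_add_distrib]
  simp [← add_smul, CharTwo.add_self_eq_zero]

theorem beta_shift (h : Invol f N) (L : Matrix ι ι F) (x : ι → V) (i j : ι) :
    beta f N (shift N B L x i) (shift N B L x j) = beta f N (x i) (x j) := by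
  rw [beta_apply, beta_apply, N_shift h]
  simp [shift, h.zero]

theorem f_shift (h : Invol f N) (hB : IsUnit B.det) (hBs : B.IsSymm) (L : Matrix ι ι F) (x : ι → V)
    (hx : ∀ i j, beta f N (x i) (x j) = B i j) (i j : ι) :
    f (shift N B L x i) (shift N B L x j) = f (x i) (x j) + (L j i + L i j) := by
  have e : ∀ a b, f (x a) (∑ k, (L * B⁻¹) b k • N (x k)) = L b a := fun a b => by
    have e1 : (L * B⁻¹ * B) b a = L b a := by rw [Matrix.mul_assoc, Matrix.nonsing_inv_mul B hB, Matrix.mul_one]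
    rw [← e1, map_sum, Matrix.mul_apply]
    refine Finset.sum_congr rfl fun k _ => ?_
    rw [map_smul, smul_eq_mul, ← beta_apply, hx, ← hBs.apply a k]
  have e0 : ∀ a b, f (∑ k, (L * B⁻¹) a k • N (x k)) (∑ k, (L * B⁻¹) b k • N (x k)) = 0 := fun a b => by
    simp [h.zero]
  have e' : ∀ a b, f (∑ k, (L * B⁻¹) a k • N (x k)) (x b) = L a b := fun a b =>
    (sym_of_alt h.alt _ _).trans (e b a)
  rw [shift, shift, map_add, map_add, LinearMap.add_apply, LinearMap.add_apply, e i j, e0, e' i j]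
  ring

/-- The number of entries above the diagonal. -/
def tri (s : ℕ) : ℕ := ∑ j : Fin s, (j : ℕ)

theorem tri_eq (s : ℕ) : 2 * tri s + s = s ^ 2 := by
  induction s with
  | zero => rfl
  | succ s ih =>
    rw [tri, Fin.sum_univ_castSucc]
    simp only [Fin.val_castSucc, Fin.val_last]
    rw [← tri]
    linear_combination ih

theorem card_tup_adapted (h : Invol f N) (hB : IsUnit B.det) (hBs : B.IsSymm) :
    Nat.card (Tup (beta f N) B) = Fintype.card F ^ tri (Fintype.card ι) * Nat.card (Adapted f N B) := by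
  classical
  obtain ⟨e, -⟩ : ∃ e : Fin (Fintype.card ι) ≃ ι, True := ⟨(Fintype.equivFin ι).symm, trivial⟩
  obtain ⟨L, hL⟩ : ∃ L : ((Σ j : Fin (Fintype.card ι), Fin (j : ℕ)) → F) → Matrix ι ι F, ∀ A a b,
      L A (e a) (e b) = if hab : (b : ℕ) < a then A ⟨a, ⟨b, hab⟩⟩ else 0 :=
    ⟨fun A => (Matrix.of fun a b : Fin (Fintype.card ι) =>
        if hab : (b : ℕ) < a then A ⟨a, ⟨b, hab⟩⟩ else 0).submatrix e.symm e.symm,
      fun A a b => by dsimp only; rw [Matrix.submatrix_apply, e.symm_apply_apply, e.symm_apply_apply]; rfl⟩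
  let Φ : Tup (beta f N) B → (Σ j : Fin (Fintype.card ι), Fin (j : ℕ)) → F :=
    fun x p => f (x.1 (e p.1)) (x.1 (e ⟨p.2, p.2.2.trans p.1.2⟩))
  have hkill : ∀ x : Tup (beta f N) B, ∀ i j,
      f (shift N B (L (Φ x)) x.1 i) (shift N B (L (Φ x)) x.1 j) = 0 := by
    intro x i j
    obtain ⟨a, rfl⟩ := e.surjective i
    obtain ⟨b, rfl⟩ := e.surjective j
    rw [f_shift h hB hBs _ _ x.2, hL, hL]
    rcases lt_trichotomy (a : ℕ) b with hab | hab | hab
    · rw [dif_pos hab, dif_neg (by omega), add_zero, sym_of_alt h.alt (x.1 (e a))]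
      exact CharTwo.add_self_eq_zero _
    · obtain rfl : a = b := Fin.ext hab
      rw [h.alt.self, dif_neg (lt_irrefl _), add_zero, zero_add]
    · rw [dif_neg (by omega), dif_pos hab, zero_add]
      exact CharTwo.add_self_eq_zero _
  let eqv : Tup (beta f N) B ≃ ((Σ j : Fin (Fintype.card ι), Fin (j : ℕ)) → F) × Adapted f N B :=
    { toFun := fun x => (Φ x, ⟨shift N B (L (Φ x)) x.1, hkill x, fun i j => (beta_shift h _ _ i j).trans (x.2 i j)⟩)
      invFun := fun y => ⟨shift N B (L y.1) y.2.1, fun i j => (beta_shift h _ _ i j).trans (y.2.2.2 i j)⟩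
      left_inv := fun x => Subtype.ext (shift_shift h _ _)
      right_inv := fun y => by
        obtain ⟨A, z, hz1, hz2⟩ := y
        have hA : (fun p : Σ j : Fin (Fintype.card ι), Fin (j : ℕ) =>
            f (shift N B (L A) z (e p.1)) (shift N B (L A) z (e ⟨p.2, p.2.2.trans p.1.2⟩))) = A := by
          funext p
          rw [f_shift h hB hBs _ _ hz2, hz1, hL, hL, dif_neg (not_lt.2 p.2.2.le), dif_pos p.2.2, zero_add,
            zero_add]
        refine Prod.ext hA (Subtype.ext ?_)
        dsimp only [Φ]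
        rw [hA]
        exact shift_shift h _ _ }
  rw [Nat.card_congr eqv, Nat.card_prod, Nat.card_fun, Nat.card_sigma, Nat.card_eq_fintype_card (α := F)]
  simp [tri]

/-- A complement of the kernel carries the reduced form. -/
theorem exists_reduced (h : Invol f N) : ∃ D : Submodule F V,
    finrank F D = finrank F (LinearMap.range N) ∧
    (∀ x : D, (∀ y : D, beta f N x y = 0) → x = 0) ∧
    ((∀ d : D, beta f N d d = 0) ↔ ∀ v, f v (N v) = 0) ∧
    ∀ (ι : Type) [Fintype ι] (B : Matrix ι ι F), Nat.card (Tup (beta f N) B) =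
      Nat.card (Tup ((beta f N).compl₁₂ D.subtype D.subtype) B) *
        Fintype.card F ^ ((finrank F V - finrank F (LinearMap.range N)) * Fintype.card ι) := by
  classical
  obtain ⟨D, hD⟩ := Submodule.exists_isCompl (LinearMap.ker N)
  have h1 := LinearMap.finrank_range_add_finrank_ker N
  have h2 := Submodule.finrank_add_eq_of_isCompl hD
  have hk : ∀ (x : V) (k : LinearMap.ker N), beta f N x k = 0 ∧ beta f N k x = 0 := fun x k => by
    have hk0 : N (k : V) = 0 := k.2
    refine ⟨by rw [beta_apply, hk0, map_zero], ?_⟩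
    rw [beta_apply, ← h.adj, hk0, map_zero, LinearMap.zero_apply]
  have hsum : ∀ (d d' : D) (k k' : LinearMap.ker N),
      beta f N ((k : V) + d) ((k' : V) + d') = beta f N d d' := fun d d' k k' => by
    simp [(hk _ k).2, (hk _ k').1]
  obtain ⟨E, hE⟩ : ∃ E : (LinearMap.ker N × D) ≃ₗ[F] V, E = Submodule.prodEquivOfIsCompl _ _ hD := ⟨_, rfl⟩
  have hEv : ∀ z, E z = (z.1 : V) + (z.2 : V) := fun z => by rw [hE]; rfl
  refine ⟨D, by omega, fun x hx => ?_, ?_, fun ι _ B => ?_⟩
  · have hN : N (x : V) = 0 := h.alt.nondeg _ fun z => by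
      obtain ⟨y, rfl⟩ := E.surjective z
      rw [h.adj, ← beta_apply, hEv, map_add, hx y.2, (hk _ y.1).1, add_zero]
    have := Submodule.mem_bot (R := F) |>.1 (hD.inf_eq_bot ▸ Submodule.mem_inf.2 ⟨hN, x.2⟩)
    exact Subtype.ext this
  · refine ⟨fun hd v => ?_, fun hv d => hv _⟩
    obtain ⟨y, rfl⟩ := E.surjective v
    rw [← beta_apply, hEv, hsum]
    exact hd y.2
  · have ev : Tup (beta f N) B ≃ Tup ((beta f N).compl₁₂ D.subtype D.subtype) B × (ι → LinearMap.ker N) :=
      { toFun := fun x => (⟨fun i => (E.symm (x.1 i)).2, fun i j => by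
            rw [LinearMap.compl₁₂_apply, ← x.2 i j]
            conv_rhs => rw [← E.apply_symm_apply (x.1 i), ← E.apply_symm_apply (x.1 j), hEv, hEv, hsum]
            rfl⟩, fun i => (E.symm (x.1 i)).1)
        invFun := fun y => ⟨fun i => E (y.2 i, y.1.1 i), fun i j => by
          dsimp only
          rw [hEv, hEv, hsum]; exact y.1.2 i j⟩
        left_inv := fun x => Subtype.ext (funext fun i => E.apply_symm_apply _)
        right_inv := fun y => Prod.ext (Subtype.ext (funext fun i => by simp)) (funext fun i => by simp) }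
    rw [Nat.card_congr ev, Nat.card_prod, Nat.card_fun, natCard_eq_pow_finrank (K := F) (V := LinearMap.ker N),
      Nat.card_eq_fintype_card (α := F), Nat.card_eq_fintype_card (α := ι), ← pow_mul]
    congr 3
    omega

theorem card_Fam (h : Invol f N) (hB : IsUnit B.det) {k : ℕ}
    (hd : finrank F V = 2 * Fintype.card ι + 2 * k) :
    Nat.card (Fam f N B k) = Nat.card (Adapted f N B) * sp (Fintype.card F) k := by
  classical
  haveI : Finite V := Module.finite_of_finite F
  haveI : Finite (Adapted f N B) := Subtype.finite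
  have : ∀ x : Adapted f N B, Finite (SpFam (perpForm f (Sum.elim x.1 fun i => N (x.1 i))) k) :=
    fun x => Subtype.finite
  have := Fintype.ofFinite (Adapted f N B)
  have key : ∀ x : Adapted f N B,
      Nat.card (SpFam (perpForm f (Sum.elim x.1 fun i => N (x.1 i))) k) = sp (Fintype.card F) k := fun x => by
    refine card_spFam (β := perpForm f (Sum.elim x.1 fun i => N (x.1 i))) ⟨fun y => h.alt.self _, fun y hy =>
      perp_nondeg (gram_pair h x) (pairMat_det hB) (sym_of_alt h.alt) h.alt.nondeg y hy⟩ ?_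
    have := finrank_perp (gram_pair h x) (pairMat_det hB)
    rw [Fintype.card_sum] at this
    omega
  rw [Fam, Nat.card_sigma, Finset.sum_congr rfl fun x _ => key x, Finset.sum_const, Finset.card_univ,
    smul_eq_mul, Nat.card_eq_fintype_card (α := Adapted f N B)]

/-- The type of an involution determines the number of adapted families. -/
theorem classify (h : Invol f N) : ∃ (ι : Type) (_ : Fintype ι) (_ : DecidableEq ι) (B : Matrix ι ι F),
    IsUnit B.det ∧ Fintype.card ι = finrank F (LinearMap.range N) ∧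
    ∀ {V' : Type v} [AddCommGroup V'] [Module F V'] [FiniteDimensional F V'] (f' : V' →ₗ[F] V' →ₗ[F] F)
      (N' : V' →ₗ[F] V') (k : ℕ), Invol f' N' → finrank F V' = 2 * Fintype.card ι + 2 * k →
      finrank F (LinearMap.range N') = finrank F (LinearMap.range N) →
      ((∀ v, f' v (N' v) = 0) ↔ ∀ v, f v (N v) = 0) →
      ∃ O, Fintype.card F ^ tri (Fintype.card ι) * Nat.card (Fam f' N' B k) =
          O * Fintype.card F ^ ((finrank F V' - Fintype.card ι) * Fintype.card ι) * sp (Fintype.card F) k ∧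
        0 < O ∧
        ((∀ v, f v (N v) = 0) → O = sp (Fintype.card F) (finrank F (LinearMap.range N) / 2)) ∧
        (Odd (finrank F (LinearMap.range N)) →
          O = sp (Fintype.card F) ((finrank F (LinearMap.range N) - 1) / 2)) ∧
        (Even (finrank F (LinearMap.range N)) → (¬ ∀ v, f v (N v) = 0) → O =
          Fintype.card F ^ (finrank F (LinearMap.range N) - 1) *
            sp (Fintype.card F) ((finrank F (LinearMap.range N) - 2) / 2)) := by
  obtain ⟨D, hD1, hD2, hD3, -⟩ := exists_reduced h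
  obtain ⟨ι, _, _, B, hc, hB, hBs, hn⟩ := exists_normal (β := (beta f N).compl₁₂ D.subtype D.subtype)
    (fun x y => beta_symm h _ _) hD2
  refine ⟨ι, inferInstance, inferInstance, B, hB, hc.trans hD1, ?_⟩
  intro V' _ _ _ f' N' k h' hd hr ha
  obtain ⟨D', hD1', hD2', hD3', hT⟩ := exists_reduced h'
  obtain ⟨o1, o2, o3, o4⟩ := hn ((beta f' N').compl₁₂ D'.subtype D'.subtype) (fun x y => beta_symm h' _ _) hD2'
    (by omega) ((hD3'.trans ha).trans hD3.symm)
  refine ⟨_, ?_, o4, fun ha' => ?_, fun ho => ?_, fun he ha' => ?_⟩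
  · rw [card_Fam h' hB hd, ← mul_assoc, ← card_tup_adapted h' hB hBs, hT ι B, hr, ← hD1, ← hc]
  · rw [o1 (fun d => (hD3.2 ha') d), hD1]
  · rw [o2 (hD1.symm ▸ ho), hD1]
  · rw [o3 (hD1.symm ▸ he) (fun hd' => ha' (hD3.1 hd')), hD1]

/-- Two involutions of the same type are conjugate. -/
theorem exists_conj (h : Invol f N) (h' : Invol f' N') (hd : finrank F V' = finrank F V) {m : ℕ}
    (hm : finrank F V = 2 * m)
    (hr : finrank F (LinearMap.range N') = finrank F (LinearMap.range N))
    (ha : (∀ v, f' v (N' v) = 0) ↔ ∀ v, f v (N v) = 0) : Nonempty (Inter f N f' N') := by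
  obtain ⟨ι, _, _, B, hB, hc, hk⟩ := classify h
  have hle := two_rank_le h
  obtain ⟨k, hk'⟩ : ∃ k, finrank F V = 2 * Fintype.card ι + 2 * k := ⟨m - Fintype.card ι, by omega⟩
  have ne : ∀ {W : Type v} [AddCommGroup W] [Module F W] [FiniteDimensional F W] (g : W →ₗ[F] W →ₗ[F] F)
      (M : W →ₗ[F] W), Invol g M → finrank F W = 2 * Fintype.card ι + 2 * k →
      finrank F (LinearMap.range M) = finrank F (LinearMap.range N) →
      ((∀ v, g v (M v) = 0) ↔ ∀ v, f v (N v) = 0) → Nonempty (Fam g M B k) := by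
    intro W _ _ _ g M hg hW hrW haW
    obtain ⟨O, hO, hpos, -⟩ := hk g M k hg hW hrW haW
    by_contra hemp
    rw [not_nonempty_iff] at hemp
    rw [Nat.card_of_isEmpty, mul_zero] at hO
    rcases mul_eq_zero.1 hO.symm with h0 | h0
    · exact (mul_pos hpos (pow_pos Fintype.card_pos _)).ne' h0
    · exact (sp_pos Fintype.one_lt_card k).ne' h0
  obtain ⟨x⟩ := ne f N h hk' rfl Iff.rfl
  obtain ⟨x'⟩ := ne f' N' h' (hd.trans hk') hr ha
  obtain ⟨φ, -⟩ := exists_inter h h' hB hc (hc.trans hr.symm) hk' (hd.trans hk') x x'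
  exact ⟨φ⟩

/-- The order of a centraliser, up to the factor of the reduced form. -/
theorem card_cent (h : Invol f N) {m s : ℕ} (hm : finrank F V = 2 * m)
    (hs : finrank F (LinearMap.range N) = s) :
    ∃ O, Nat.card (Inter f N f N) =
        Fintype.card F ^ (2 * m * s - (3 * s ^ 2 - s) / 2) * O * sp (Fintype.card F) (m - s) ∧
      ((∀ v, f v (N v) = 0) → O = sp (Fintype.card F) (s / 2)) ∧
      (Odd s → O = sp (Fintype.card F) ((s - 1) / 2)) ∧
      (Even s → (¬ ∀ v, f v (N v) = 0) →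
        O = Fintype.card F ^ (s - 1) * sp (Fintype.card F) ((s - 2) / 2)) := by
  obtain ⟨ι, _, _, B, hB, hc, hk⟩ := classify h
  rw [hs] at hc hk
  subst hc
  have hle := two_rank_le h
  have hk' : finrank F V = 2 * Fintype.card ι + 2 * (m - Fintype.card ι) := by omega
  obtain ⟨O, hO, hpos, o1, o2, o3⟩ := hk f N _ h hk' hs Iff.rfl
  refine ⟨O, ?_, o1, o2, o3⟩
  have hne : Nonempty (Fam f N B (m - Fintype.card ι)) := by
    by_contra hemp
    rw [not_nonempty_iff] at hemp
    rw [Nat.card_of_isEmpty, mul_zero] at hO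
    rcases mul_eq_zero.1 hO.symm with h0 | h0
    · exact (mul_pos hpos (pow_pos Fintype.card_pos _)).ne' h0
    · exact (sp_pos Fintype.one_lt_card _).ne' h0
  obtain ⟨x⟩ := hne
  rw [card_inter h h hB hs.symm hs.symm hk' hk' x]
  refine Nat.eq_of_mul_eq_mul_left (pow_pos (Fintype.card_pos (α := F)) (tri (Fintype.card ι))) ?_
  rw [hO, hm, ← mul_assoc, ← mul_assoc, ← pow_add, mul_comm O]
  congr 3
  obtain ⟨j, hj⟩ : ∃ j, j = tri (Fintype.card ι) := ⟨_, rfl⟩
  have ht := tri_eq (Fintype.card ι)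
  have h2 : (2 * m - Fintype.card ι) * Fintype.card ι + Fintype.card ι ^ 2 = 2 * m * Fintype.card ι := by
    rw [sq, ← add_mul, Nat.sub_add_cancel (by omega)]
  have h3 : (3 * Fintype.card ι ^ 2 - Fintype.card ι) / 2 = Fintype.card ι ^ 2 + j := by omega
  have h4 : Fintype.card ι ^ 2 + Fintype.card ι ^ 2 ≤ 2 * m * Fintype.card ι := by
    rw [← two_mul, sq, ← mul_assoc]
    exact Nat.mul_le_mul_right _ (by omega)
  omega

end Count

end Cfsg.Agent.Small.InvolutionsSp
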