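import Cfsg.Prelude.Def_JordanBlocks

/-!
The order of the centraliser of a unipotent element of given Jordan type in the general linear group.
-/

set_option autoImplicit false
set_option linter.style.haveILetI false
set_option linter.unusedSectionVars false

namespace Cfsg.Agent.Small.JordanCent

open Matrix

variable {F : Type*} [Field F] {t : ℕ} (d : Fin t → ℕ)

/-- The free positions of a commuting matrix. -/
abbrev Pos : Type := {x : (k : Fin t) × Fin (d k) × Fin t // d x.1 ≤ x.2.1.val + d x.2.2}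

/-- The nilpotent part. -/
def nilM (F : Type*) [Field F] {t : ℕ} (d : Fin t → ℕ) : Matrix ((k : Fin t) × Fin (d k)) ((k : Fin t) × Fin (d k)) F :=
  fun a b => if a.1 = b.1 ∧ a.2.val = b.2.val + 1 then 1 else 0

theorem jordan_eq : Cfsg.jordanTypeMatrix d F = 1 + nilM F d := by
  ext ⟨k, i⟩ ⟨l, j⟩
  rw [Cfsg.jordanTypeMatrix, Matrix.add_apply, nilM]
  rcases eq_or_ne k l with rfl | hkl
  · rw [Matrix.blockDiagonal'_apply_eq, Cfsg.jordanBlock, Matrix.of_apply]
    by_cases h : (i : ℕ) = j
    · obtain rfl : i = j := Fin.ext h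
      simp
    · have hne : i ≠ j := fun hh => h (congrArg Fin.val hh)
      simp [h, hne]
  · rw [Matrix.blockDiagonal'_apply_ne _ _ _ hkl]
    simp [hkl]

theorem mul_nilM_apply (X : Matrix ((k : Fin t) × Fin (d k)) ((k : Fin t) × Fin (d k)) F)
    (a b : (k : Fin t) × Fin (d k)) :
    (X * nilM F d) a b = if h : b.2.val + 1 < d b.1 then X a ⟨b.1, ⟨b.2.val + 1, h⟩⟩ else 0 := by
  rw [Matrix.mul_apply]
  split_ifs with h
  · rw [Finset.sum_eq_single (⟨b.1, ⟨b.2.val + 1, h⟩⟩ : (k : Fin t) × Fin (d k))]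
    · simp [nilM]
    · rintro ⟨c, u⟩ _ hne
      rw [nilM, if_neg, mul_zero]
      rintro ⟨h1, h2⟩
      dsimp only at h1 h2
      subst h1
      exact hne (by rw [show u = ⟨b.2.val + 1, h⟩ from Fin.ext h2])
    · simp
  · refine Finset.sum_eq_zero ?_
    rintro ⟨c, u⟩ -
    rw [nilM, if_neg, mul_zero]
    rintro ⟨h1, h2⟩
    dsimp only at h1 h2
    subst h1
    exact h (h2 ▸ u.isLt)

theorem nilM_mul_apply (X : Matrix ((k : Fin t) × Fin (d k)) ((k : Fin t) × Fin (d k)) F)
    (a b : (k : Fin t) × Fin (d k)) :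
    (nilM F d * X) a b = if h : 0 < a.2.val then X ⟨a.1, ⟨a.2.val - 1, by omega⟩⟩ b else 0 := by
  rw [Matrix.mul_apply]
  split_ifs with h
  · rw [Finset.sum_eq_single (⟨a.1, ⟨a.2.val - 1, by omega⟩⟩ : (k : Fin t) × Fin (d k))]
    · rw [nilM, if_pos ⟨rfl, show a.2.val = a.2.val - 1 + 1 by omega⟩, one_mul]
    · rintro ⟨c, u⟩ _ hne
      rw [nilM, if_neg, zero_mul]
      rintro ⟨h1, h2⟩
      dsimp only at h1 h2
      subst h1
      exact hne (by rw [show u = ⟨a.2.val - 1, by omega⟩ from Fin.ext (by show u.val = a.2.val - 1; omega)])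
    · simp
  · refine Finset.sum_eq_zero ?_
    rintro ⟨c, u⟩ -
    rw [nilM, if_neg, zero_mul]
    rintro ⟨h1, h2⟩
    dsimp only at h2
    omega

/-- The commuting matrix with given free entries. -/
def build (f : Pos d → F) : Matrix ((k : Fin t) × Fin (d k)) ((k : Fin t) × Fin (d k)) F :=
  fun a b => if h : b.2.val ≤ a.2.val ∧ d a.1 ≤ a.2.val - b.2.val + d b.1 then
    f ⟨⟨a.1, ⟨⟨a.2.val - b.2.val, by omega⟩, b.1⟩⟩, h.2⟩ else 0

theorem build_comm (f : Pos d → F) : build d f * nilM F d = nilM F d * build d f := by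
  ext a b
  rw [mul_nilM_apply, nilM_mul_apply]
  have ha := a.2.isLt
  have hb := b.2.isLt
  split_ifs with h1 h2 h3
  · simp only [build]
    by_cases hc : b.2.val + 1 ≤ a.2.val ∧ d a.1 ≤ a.2.val - (b.2.val + 1) + d b.1
    · rw [dif_pos hc, dif_pos ⟨show b.2.val ≤ a.2.val - 1 by omega,
        show d a.1 ≤ a.2.val - 1 - b.2.val + d b.1 by omega⟩]
      congr 4
      exact Fin.ext (show a.2.val - (b.2.val + 1) = a.2.val - 1 - b.2.val by omega)
    · rw [dif_neg hc, dif_neg]
      intro hc'
      exact hc ⟨by omega, by omega⟩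
  · simp only [build]
    rw [dif_neg]
    intro hc
    omega
  · simp only [build]
    rw [dif_neg]
    intro hc
    omega
  · rfl

/-- The free entries of a matrix. -/
def entries (hd : ∀ k, 1 ≤ d k) (X : Matrix ((k : Fin t) × Fin (d k)) ((k : Fin t) × Fin (d k)) F) : Pos d → F :=
  fun x => X ⟨x.1.1, x.1.2.1⟩ ⟨x.1.2.2, ⟨0, hd _⟩⟩

theorem entries_build (hd : ∀ k, 1 ≤ d k) (f : Pos d → F) : entries d hd (build d f) = f := by
  funext x
  rw [entries, build, dif_pos ⟨Nat.zero_le _, by simpa using x.2⟩]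
  congr 1

theorem build_entries (hd : ∀ k, 1 ≤ d k) (X : Matrix ((k : Fin t) × Fin (d k)) ((k : Fin t) × Fin (d k)) F)
    (hX : X * nilM F d = nilM F d * X) : build d (entries d hd X) = X := by
  have key : ∀ (m : ℕ) (a : (k : Fin t) × Fin (d k)) (l : Fin t) (hm : m < d l),
      X a ⟨l, ⟨m, hm⟩⟩ = if h : m ≤ a.2.val then X ⟨a.1, ⟨a.2.val - m, by omega⟩⟩ ⟨l, ⟨0, hd l⟩⟩ else 0 := by
    intro m
    induction m with
    | zero => intro a l hm; simp
    | succ m ih =>
      intro a l hm
      have h := congrFun (congrFun hX a) ⟨l, ⟨m, by omega⟩⟩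
      rw [mul_nilM_apply, dif_pos (show m + 1 < d l from hm), nilM_mul_apply] at h
      rw [h]
      split_ifs with h1 h2 h3
      · rw [ih, dif_pos (show m ≤ a.2.val - 1 by omega)]
        simp only [show a.2.val - 1 - m = a.2.val - (m + 1) by omega]
      · rw [ih, dif_neg (show ¬ m ≤ a.2.val - 1 by omega)]
      · omega
      · rfl
  have key2 : ∀ (a : (k : Fin t) × Fin (d k)) (l : Fin t), ¬ d a.1 ≤ a.2.val + d l →
      X a ⟨l, ⟨0, hd l⟩⟩ = 0 := by
    intro a l hlt
    have hl := hd l
    have h := congrFun (congrFun hX ⟨a.1, ⟨a.2.val + d l, by omega⟩⟩) ⟨l, ⟨d l - 1, by omega⟩⟩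
    rw [mul_nilM_apply, dif_neg (show ¬ d l - 1 + 1 < d l by omega), nilM_mul_apply,
      dif_pos (show 0 < a.2.val + d l by omega), key, dif_pos (show d l - 1 ≤ a.2.val + d l - 1 by omega)] at h
    obtain ⟨k, i⟩ := a
    rw [h]
    congr 3
    exact Fin.ext (show i.val = i.val + d l - 1 - (d l - 1) by omega)
  ext a b
  rw [build]
  obtain ⟨l, j⟩ := b
  rw [show X a ⟨l, j⟩ = X a ⟨l, ⟨j.val, j.isLt⟩⟩ from rfl, key]
  by_cases h1 : j.val ≤ a.2.val
  · rw [dif_pos h1]
    by_cases h2 : d a.1 ≤ a.2.val - j.val + d l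
    · rw [dif_pos ⟨h1, h2⟩]
      rfl
    · rw [dif_neg (fun h => h2 h.2), key2 _ _ h2]
  · rw [dif_neg h1, dif_neg (fun h => h1 h.1)]

/-- The action on the kernel of the nilpotent part. -/
def soc (f : Pos d → F) (hd : ∀ k, 1 ≤ d k) : Matrix (Fin t) (Fin t) F :=
  fun k l => build d f ⟨k, ⟨d k - 1, by have := hd k; omega⟩⟩ ⟨l, ⟨d l - 1, by have := hd l; omega⟩⟩

theorem det_ne_iff (hd : ∀ k, 1 ≤ d k) (f : Pos d → F) : (build d f).det ≠ 0 ↔ (soc d f hd).det ≠ 0 := by
  classical
  let bot : Fin t → (k : Fin t) × Fin (d k) := fun k => ⟨k, ⟨d k - 1, by have := hd k; omega⟩⟩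
  have hbot : Function.Injective bot := fun a b h => congrArg Sigma.fst h
  have hcol : ∀ (a : (k : Fin t) × Fin (d k)) (l : Fin t), a ≠ bot a.1 → build d f a (bot l) = 0 := by
    intro a l ha
    rw [build, dif_neg]
    intro h
    simp only [bot] at h
    obtain ⟨k, i⟩ := a
    refine ha ?_
    simp only [bot]
    congr 1
    exact Fin.ext (show i.val = d k - 1 by have := i.isLt; have := hd l; dsimp only at h ⊢; omega)
  have hsupp : ∀ x : (k : Fin t) × Fin (d k) → F, (∀ a, a ≠ bot a.1 → x a = 0) →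
      ∀ a, (build d f).mulVec x a = ∑ l, build d f a (bot l) * x (bot l) := by
    intro x hx a
    rw [Matrix.mulVec, dotProduct]
    refine (Finset.sum_of_injOn bot hbot.injOn (fun _ _ => Finset.mem_univ _) ?_ fun _ _ => rfl).symm
    intro b _ hb
    rw [hx b (fun hbe => hb ⟨b.1, Finset.mem_coe.2 (Finset.mem_univ _), hbe.symm⟩), mul_zero]
  constructor
  · intro hX hS
    obtain ⟨c, hc, hc0⟩ := Matrix.exists_mulVec_eq_zero_iff.2 hS
    refine hX (Matrix.exists_mulVec_eq_zero_iff.1 ⟨fun a => if a = bot a.1 then c a.1 else 0, ?_, ?_⟩)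
    · obtain ⟨k, hk⟩ := Function.ne_iff.1 hc
      exact Function.ne_iff.2 ⟨bot k, by rw [if_pos rfl]; exact hk⟩
    · funext a
      rw [hsupp _ (fun a ha => if_neg ha), Pi.zero_apply]
      by_cases ha : a = bot a.1
      · have h1 : ∑ l, soc d f hd a.1 l * c l = 0 := congrFun hc0 a.1
        rw [← h1]
        refine Finset.sum_congr rfl fun l _ => ?_
        rw [if_pos rfl, ha]
        rfl
      · exact Finset.sum_eq_zero fun l _ => by rw [hcol a l ha, zero_mul]
  · intro hS hX
    obtain ⟨x, hx, hx0⟩ := Matrix.exists_mulVec_eq_zero_iff.2 hX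
    have key : ∀ (m : ℕ) (y : (k : Fin t) × Fin (d k) → F), y ≠ 0 → (build d f).mulVec y = 0 →
        (∀ a, y a ≠ 0 → d a.1 ≤ a.2.val + m) → False := by
      intro m
      induction m with
      | zero =>
        intro y hy _ hm
        obtain ⟨a, ha⟩ := Function.ne_iff.1 hy
        have := hm a ha
        have := a.2.isLt
        omega
      | succ m ih =>
        intro y hy hy0 hm
        by_cases hN : (nilM F d).mulVec y = 0
        · have hsup : ∀ a, a ≠ bot a.1 → y a = 0 := by
            rintro ⟨k, i⟩ ha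
            have hi : i.val + 1 < d k := by
              have := i.isLt
              by_contra hlt
              refine ha ?_
              simp only [bot]
              congr 1
              exact Fin.ext (show i.val = d k - 1 by omega)
            have := congrFun hN ⟨k, ⟨i.val + 1, hi⟩⟩
            rw [Matrix.mulVec, dotProduct, Finset.sum_eq_single (⟨k, i⟩ : (k : Fin t) × Fin (d k))] at this
            · simpa [nilM] using this
            · rintro ⟨c, u⟩ _ hne
              rw [nilM, if_neg, zero_mul]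
              rintro ⟨h1, h2⟩
              dsimp only at h1 h2
              subst h1
              exact hne (by rw [show u = i from Fin.ext (by omega)])
            · simp
          refine hS (Matrix.exists_mulVec_eq_zero_iff.1 ⟨fun l => y (bot l), fun h0 => hy (funext fun a => ?_), ?_⟩)
          · by_cases ha : a = bot a.1
            · rw [ha]; exact congrFun h0 a.1
            · exact hsup a ha
          · funext k
            exact (hsupp y hsup (bot k)).symm.trans (congrFun hy0 (bot k))
        · refine ih ((nilM F d).mulVec y) hN ?_ fun a ha => ?_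
          · rw [Matrix.mulVec_mulVec, build_comm, ← Matrix.mulVec_mulVec, hy0, Matrix.mulVec_zero]
          · rw [Matrix.mulVec, dotProduct] at ha
            obtain ⟨⟨c, u⟩, -, hne⟩ := Finset.exists_ne_zero_of_sum_ne_zero ha
            obtain ⟨h1, h2⟩ : a.1 = c ∧ a.2.val = u.val + 1 := by
              by_contra hh
              rw [nilM, if_neg hh, zero_mul] at hne
              exact hne rfl
            have h3 := hm ⟨c, u⟩ (right_ne_zero_of_mul hne)
            dsimp only at h3
            have hda : d a.1 = d c := congrArg d h1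
            omega
    exact key (Finset.univ.sup d) x hx hx0 fun a _ =>
      le_trans (Finset.le_sup (f := d) (Finset.mem_univ a.1)) (Nat.le_add_left _ _)

theorem soc_triangular (hd : ∀ k, 1 ≤ d k) (f : Pos d → F) :
    (soc d f hd).BlockTriangular (fun k => OrderDual.toDual (d k)) := by
  intro k l hkl
  rw [soc, build, dif_neg]
  intro h
  simp only at h
  have h1 : d k < d l := hkl
  have := hd k
  omega

theorem soc_diag (hd : ∀ k, 1 ≤ d k) (f : Pos d → F) (k l : Fin t) (h : d k = d l) :
    soc d f hd k l = f ⟨⟨k, ⟨⟨0, hd k⟩, l⟩⟩, by simp [h]⟩ := by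
  rw [soc, build, dif_pos (by have := hd k; simp only; omega)]
  congr 4
  exact Fin.ext (show d k - 1 - (d l - 1) = 0 by omega)

/-- The diagonal blocks of the action on the kernel. -/
def blockOf (hd : ∀ k, 1 ≤ d k) (f : Pos d → F) (i : Fin (Finset.univ.sup d + 1)) :
    Matrix {k // d k = i.val} {k // d k = i.val} F :=
  fun k l => f ⟨⟨k.1, ⟨⟨0, hd k.1⟩, l.1⟩⟩, by simp [k.2, l.2]⟩

theorem det_ne_iff_blocks (hd : ∀ k, 1 ≤ d k) (f : Pos d → F) :
    (build d f).det ≠ 0 ↔ ∀ i, (blockOf d hd f i).det ≠ 0 := by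
  classical
  rw [det_ne_iff d hd, (soc_triangular d hd f).det, Finset.prod_ne_zero_iff]
  have hblk : ∀ a : ℕ, ∀ hk : a < Finset.univ.sup d + 1,
      ((soc d f hd).toSquareBlock (fun k => OrderDual.toDual (d k)) (OrderDual.toDual a)).det =
        (blockOf d hd f ⟨a, hk⟩).det := by
    intro a hk
    let e : {k // OrderDual.toDual (d k) = OrderDual.toDual a} ≃ {k // d k = a} :=
      Equiv.subtypeEquivRight fun k => OrderDual.toDual.injective.eq_iff
    rw [← Matrix.det_submatrix_equiv_self e (blockOf d hd f ⟨a, hk⟩)]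
    congr 1
    ext k l
    rw [Matrix.submatrix_apply]
    show soc d f hd k.1 l.1 = _
    rw [soc_diag d hd f k.1 l.1 ((OrderDual.toDual.injective k.2).trans (OrderDual.toDual.injective l.2).symm)]
    rfl
  constructor
  · intro h i
    by_cases hi : ∃ k, d k = i.val
    · obtain ⟨k, hk⟩ := hi
      have := h (OrderDual.toDual i.val) (Finset.mem_image.2 ⟨k, Finset.mem_univ k, by rw [hk]⟩)
      rwa [hblk i.val i.isLt] at this
    · haveI : IsEmpty {k // d k = i.val} := ⟨fun k => hi ⟨k.1, k.2⟩⟩
      rw [Matrix.det_isEmpty]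
      exact one_ne_zero
  · intro h a ha
    obtain ⟨k, -, rfl⟩ := Finset.mem_image.1 ha
    rw [hblk (d k) (Nat.lt_succ_of_le (Finset.le_sup (Finset.mem_univ k)))]
    exact h _

variable [Fintype F]

theorem card_det_ne (K : Type) [Fintype K] [DecidableEq K] :
    Nat.card {M : Matrix K K F // M.det ≠ 0} =
      ∏ j : Fin (Fintype.card K), (Fintype.card F ^ Fintype.card K - Fintype.card F ^ (j : ℕ)) := by
  classical
  rw [← Matrix.card_GL_field]
  refine Nat.card_congr (((Matrix.reindex (Fintype.equivFin K) (Fintype.equivFin K)).subtypeEquiv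
    (q := fun M : Matrix (Fin (Fintype.card K)) (Fin (Fintype.card K)) F => M.det ≠ 0) fun M => by
      rw [Matrix.det_reindex_self]).trans
    { toFun := fun M => Matrix.GeneralLinearGroup.mkOfDetNeZero M.1 M.2
      invFun := fun g => ⟨g.1, by rw [← Matrix.GeneralLinearGroup.val_det_apply]; exact Units.ne_zero _⟩
      left_inv := fun M => rfl
      right_inv := fun g => Units.ext rfl })

/-- The diagonal positions. -/
abbrev IsTop (x : Pos d) : Prop := d x.1.1 = d x.1.2.2 ∧ x.1.2.1.val = 0

theorem card_units_commuting (hd : ∀ k, 1 ≤ d k) :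
    Nat.card {g : GL ((k : Fin t) × Fin (d k)) F //
      (g : Matrix ((k : Fin t) × Fin (d k)) ((k : Fin t) × Fin (d k)) F) * Cfsg.jordanTypeMatrix d F =
        Cfsg.jordanTypeMatrix d F * (g : Matrix ((k : Fin t) × Fin (d k)) ((k : Fin t) × Fin (d k)) F)} =
      Fintype.card F ^ Nat.card {x : Pos d // ¬ IsTop d x} *
        ∏ i ∈ Finset.range (Finset.univ.sup d + 1), ∏ j : Fin ((Finset.univ.filter (fun k : Fin t => d k = i)).card),
          (Fintype.card F ^ (Finset.univ.filter (fun k : Fin t => d k = i)).card - Fintype.card F ^ (j : ℕ)) := by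
  classical
  have hiff : ∀ X : Matrix ((k : Fin t) × Fin (d k)) ((k : Fin t) × Fin (d k)) F,
      X * Cfsg.jordanTypeMatrix d F = Cfsg.jordanTypeMatrix d F * X ↔ X * nilM F d = nilM F d * X := fun X => by
    rw [jordan_eq, mul_add, add_mul, mul_one, one_mul]
    exact ⟨fun h => add_left_cancel h, fun h => by rw [h]⟩
  let e1 : {g : GL ((k : Fin t) × Fin (d k)) F //
      (g : Matrix ((k : Fin t) × Fin (d k)) ((k : Fin t) × Fin (d k)) F) * Cfsg.jordanTypeMatrix d F =
        Cfsg.jordanTypeMatrix d F * (g : Matrix ((k : Fin t) × Fin (d k)) ((k : Fin t) × Fin (d k)) F)} ≃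
      {f : Pos d → F // ∀ i, (blockOf d hd f i).det ≠ 0} :=
    { toFun := fun g => ⟨entries d hd g.1.1, (det_ne_iff_blocks d hd _).1 (by
        rw [build_entries d hd _ ((hiff _).1 g.2), ← Matrix.GeneralLinearGroup.val_det_apply]
        exact Units.ne_zero _)⟩
      invFun := fun f => ⟨Matrix.GeneralLinearGroup.mkOfDetNeZero (build d f.1) ((det_ne_iff_blocks d hd f.1).2 f.2),
        (hiff _).2 (build_comm d f.1)⟩
      left_inv := fun g => Subtype.ext (Units.ext (build_entries d hd _ ((hiff _).1 g.2)))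
      right_inv := fun f => Subtype.ext (entries_build d hd f.1) }
  rw [Nat.card_congr e1]
  let e2 : {f : Pos d → F // ∀ i, (blockOf d hd f i).det ≠ 0} ≃
      ({x : Pos d // ¬ IsTop d x} → F) ×
        (∀ i : Fin (Finset.univ.sup d + 1), {M : Matrix {k // d k = i.val} {k // d k = i.val} F // M.det ≠ 0}) :=
    { toFun := fun f => (fun x => f.1 x.1, fun i => ⟨blockOf d hd f.1 i, f.2 i⟩)
      invFun := fun y => ⟨fun x => if h : IsTop d x then
          (y.2 ⟨d x.1.1, Nat.lt_succ_of_le (Finset.le_sup (Finset.mem_univ _))⟩).1 ⟨x.1.1, rfl⟩ ⟨x.1.2.2, h.1.symm⟩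
        else y.1 ⟨x, h⟩, fun i => by
        have : blockOf d hd (fun x => if h : IsTop d x then
            (y.2 ⟨d x.1.1, Nat.lt_succ_of_le (Finset.le_sup (Finset.mem_univ _))⟩).1 ⟨x.1.1, rfl⟩ ⟨x.1.2.2, h.1.symm⟩
          else y.1 ⟨x, h⟩) i = (y.2 i).1 := by
          ext k l
          rw [blockOf, dif_pos (⟨k.2.trans l.2.symm, rfl⟩ : IsTop d _)]
          obtain ⟨i, hi⟩ := i
          obtain ⟨k, hk⟩ := k
          obtain ⟨l, hl⟩ := l
          dsimp only at hk hl ⊢
          subst hk
          rfl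
        rw [this]
        exact (y.2 i).2⟩
      left_inv := fun f => by
        refine Subtype.ext (funext fun x => ?_)
        dsimp only
        split_ifs with h
        · obtain ⟨⟨k, i, l⟩, hx⟩ := x
          dsimp only [blockOf]
          obtain rfl : i = ⟨0, hd k⟩ := Fin.ext h.2
          rfl
        · rfl
      right_inv := fun y => by
        refine Prod.ext (funext fun x => ?_) (funext fun i => Subtype.ext ?_)
        · dsimp only
          rw [dif_neg x.2]
        · dsimp only
          ext k l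
          rw [blockOf, dif_pos (⟨k.2.trans l.2.symm, rfl⟩ : IsTop d _)]
          obtain ⟨i, hi⟩ := i
          obtain ⟨k, hk⟩ := k
          obtain ⟨l, hl⟩ := l
          dsimp only at hk hl ⊢
          subst hk
          rfl }
  rw [Nat.card_congr e2, Nat.card_prod, Nat.card_fun, Nat.card_pi, Nat.card_eq_fintype_card (α := F)]
  congr 1
  rw [← Fin.prod_univ_eq_prod_range (fun i => ∏ j : Fin ((Finset.univ.filter (fun k : Fin t => d k = i)).card),
    (Fintype.card F ^ (Finset.univ.filter (fun k : Fin t => d k = i)).card - Fintype.card F ^ (j : ℕ)))]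
  refine Finset.prod_congr rfl fun i _ => ?_
  rw [card_det_ne, Fintype.card_subtype]

theorem exponent_eq (hd : ∀ k, 1 ≤ d k) (a : ℕ → ℕ)
    (ha : ∀ i, a i = (Finset.univ.filter (fun k : Fin t => d k = i)).card) :
    Nat.card {x : Pos d // ¬ IsTop d x} =
      2 * (∑ i ∈ Finset.range (Finset.univ.sup d + 1), ∑ j ∈ Finset.range (Finset.univ.sup d + 1),
        if i < j then i * a i * a j else 0) + ∑ i ∈ Finset.range (Finset.univ.sup d + 1), (i - 1) * a i ^ 2 := by
  classical
  have htot : Nat.card (Pos d) = ∑ k, ∑ l, min (d k) (d l) := by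
    let e : Pos d ≃ Σ k : Fin t, Σ l : Fin t, {i : Fin (d k) // d k ≤ i.val + d l} :=
      { toFun := fun x => ⟨x.1.1, x.1.2.2, x.1.2.1, x.2⟩
        invFun := fun y => ⟨⟨y.1, y.2.2.1, y.2.1⟩, y.2.2.2⟩
        left_inv := fun x => rfl
        right_inv := fun y => rfl }
    rw [Nat.card_congr e, Nat.card_sigma]
    refine Finset.sum_congr rfl fun k _ => ?_
    rw [Nat.card_sigma]
    refine Finset.sum_congr rfl fun l _ => ?_
    let e' : {i : Fin (d k) // d k ≤ i.val + d l} ≃ Fin (min (d k) (d l)) :=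
      { toFun := fun i => ⟨d k - 1 - i.1.val, by have := i.2; have := i.1.isLt; omega⟩
        invFun := fun j => ⟨⟨d k - 1 - j.val, by have := j.isLt; omega⟩,
          show d k ≤ d k - 1 - j.val + d l by have := j.isLt; omega⟩
        left_inv := fun i => Subtype.ext (Fin.ext (show d k - 1 - (d k - 1 - i.1.val) = i.1.val by
          have := i.1.isLt; omega))
        right_inv := fun j => Fin.ext (show d k - 1 - (d k - 1 - j.val) = j.val by have := j.isLt; omega) }
    rw [Nat.card_congr e', Nat.card_fin]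
  have htop : Nat.card {x : Pos d // IsTop d x} = ∑ k, ∑ l, if d k = d l then 1 else 0 := by
    let e : {x : Pos d // IsTop d x} ≃ {p : Fin t × Fin t // d p.1 = d p.2} :=
      { toFun := fun x => ⟨(x.1.1.1, x.1.1.2.2), x.2.1⟩
        invFun := fun p => ⟨⟨⟨p.1.1, ⟨⟨0, hd _⟩, p.1.2⟩⟩, by simp [p.2]⟩, p.2, rfl⟩
        left_inv := fun x => by
          obtain ⟨⟨⟨k, i, l⟩, hx⟩, h1, h2⟩ := x
          obtain rfl : i = ⟨0, hd k⟩ := Fin.ext h2
          rfl
        right_inv := fun p => rfl }
    rw [Nat.card_congr e, Nat.card_eq_fintype_card, Fintype.card_subtype, Finset.card_filter, Fintype.sum_prod_type]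
  have hfib : ∀ G : ℕ → ℕ, ∑ l : Fin t, G (d l) = ∑ j ∈ Finset.range (Finset.univ.sup d + 1), a j * G j := by
    intro G
    rw [← Finset.sum_fiberwise_of_maps_to (g := d) (t := Finset.range (Finset.univ.sup d + 1))
      (fun k _ => Finset.mem_range.2 (Nat.lt_succ_of_le (Finset.le_sup (Finset.mem_univ k)))) (fun l => G (d l))]
    refine Finset.sum_congr rfl fun j _ => ?_
    rw [Finset.sum_congr rfl fun l hl => by rw [(Finset.mem_filter.1 hl).2], Finset.sum_const, smul_eq_mul, ha]
  have hswap : ∀ G : ℕ → ℕ → ℕ, ∑ k, ∑ l, G (d k) (d l) =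
      ∑ i ∈ Finset.range (Finset.univ.sup d + 1), ∑ j ∈ Finset.range (Finset.univ.sup d + 1), a i * a j * G i j := by
    intro G
    rw [Finset.sum_congr rfl fun k _ => hfib (G (d k)), hfib (fun i => ∑ j ∈ Finset.range _, a j * G i j)]
    exact Finset.sum_congr rfl fun i _ => by
      rw [Finset.mul_sum]; exact Finset.sum_congr rfl fun j _ => by rw [mul_assoc]
  have hsplit : Nat.card {x : Pos d // ¬ IsTop d x} + Nat.card {x : Pos d // IsTop d x} = Nat.card (Pos d) := by
    rw [add_comm, ← Nat.card_sum]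
    exact Nat.card_congr (Equiv.sumCompl _)
  rw [htot, htop, hswap (fun i j => min i j), hswap (fun i j => if i = j then 1 else 0)] at hsplit
  have ha0 : a 0 = 0 := by
    rw [ha, Finset.card_eq_zero, Finset.filter_eq_empty_iff]
    intro k _
    have := hd k
    omega
  have hdiag : ∀ i ∈ Finset.range (Finset.univ.sup d + 1),
      ∑ j ∈ Finset.range (Finset.univ.sup d + 1), a i * a j * (if i = j then 1 else 0) = a i ^ 2 := by
    intro i hi
    rw [Finset.sum_eq_single i (fun j _ hj => by rw [if_neg hj.symm, mul_zero]) (fun h => absurd hi h), if_pos rfl,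
      mul_one, sq]
  have hmin : ∀ i ∈ Finset.range (Finset.univ.sup d + 1),
      ∑ j ∈ Finset.range (Finset.univ.sup d + 1), a i * a j * min i j =
        (∑ j ∈ Finset.range (Finset.univ.sup d + 1), if i < j then i * a i * a j else 0) +
        (∑ j ∈ Finset.range (Finset.univ.sup d + 1), if j < i then j * a j * a i else 0) + (i - 1) * a i ^ 2 + a i ^ 2 := by
    intro i hi
    have h1 : (i - 1) * a i ^ 2 + a i ^ 2 = i * a i ^ 2 := by
      rcases Nat.eq_zero_or_pos i with rfl | h
      · simp [ha0]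
      · rw [← Nat.succ_mul, Nat.succ_eq_add_one, Nat.sub_add_cancel h]
    rw [add_assoc, h1, ← Finset.sum_add_distrib,
      show i * a i ^ 2 = ∑ j ∈ Finset.range (Finset.univ.sup d + 1), if i = j then i * a i * a j else 0 by
        rw [Finset.sum_ite_eq, if_pos hi]; ring, ← Finset.sum_add_distrib]
    refine Finset.sum_congr rfl fun j _ => ?_
    rcases lt_trichotomy i j with h | rfl | h
    · rw [if_pos h, if_neg (by omega), if_neg (by omega), Nat.min_eq_left h.le]; ring
    · simp; ring
    · rw [if_neg (by omega), if_pos h, if_neg (by omega), Nat.min_eq_right h.le]; ring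
  rw [Finset.sum_congr rfl hmin, Finset.sum_congr rfl hdiag, Finset.sum_add_distrib, Finset.sum_add_distrib,
    Finset.sum_add_distrib, Finset.sum_comm (f := fun i j => if j < i then j * a j * a i else 0)] at hsplit
  omega

end Cfsg.Agent.Small.JordanCent
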