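import Mathlib.FieldTheory.IsAlgClosed.Basic
import Mathlib.Algebra.CharP.Frobenius
import Mathlib.LinearAlgebra.Matrix.Basis
import Mathlib.LinearAlgebra.Matrix.GeneralLinearGroup.Defs
import Mathlib.LinearAlgebra.FiniteDimensional.Basic

/-!
Lang's theorem for the general linear group: Frobenius-semilinear bijections have fixed bases.
-/

set_option autoImplicit false

namespace Cfsg.Agent.Small.Lang

open Polynomial Module

variable {K : Type*} [Field K] [IsAlgClosed K] {p : ℕ} [Fact p.Prime] [CharP K p]

/-- The coefficient polynomials of a fixed vector. -/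
noncomputable def coefPoly (q : ℕ) (a : ℕ → K) : ℕ → K[X]
  | 0 => C (a 0) * X ^ q
  | i + 1 => coefPoly q a i ^ q + C (a (i + 1)) * X ^ q

omit [IsAlgClosed K] in
theorem derivative_coefPoly (q : ℕ) (hq : (q : K) = 0) (a : ℕ → K) :
    ∀ i, derivative (coefPoly q a i) = 0
  | 0 => by simp [coefPoly, derivative_X_pow, hq]
  | i + 1 => by simp [coefPoly, derivative_pow, derivative_X_pow, hq]

omit [IsAlgClosed K] in
theorem degree_coefPoly (q : ℕ) (hq : 2 ≤ q) (a : ℕ → K) :
    ∀ i, (∃ j, j ≤ i ∧ a j ≠ 0) → 2 ≤ (coefPoly q a i).natDegree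
  | 0, ⟨j, hj, ha⟩ => by
    obtain rfl : j = 0 := Nat.le_zero.1 hj
    rw [coefPoly, natDegree_C_mul_X_pow _ _ ha]
    exact hq
  | i + 1, ⟨j, hj, ha⟩ => by
    by_cases h : ∃ j, j ≤ i ∧ a j ≠ 0
    · have ih := degree_coefPoly q hq a i h
      have h1 : q < (coefPoly q a i ^ q).natDegree := by
        rw [natDegree_pow]
        nlinarith
      rw [coefPoly, natDegree_add_eq_left_of_natDegree_lt]
      · exact hq.trans h1.le
      · exact lt_of_le_of_lt (natDegree_C_mul_X_pow_le _ _) h1
    · simp only [not_exists, not_and, not_not] at h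
      have hP : ∀ k, k ≤ i → coefPoly q a k = 0 := by
        intro k
        induction k with
        | zero => intro _; simp [coefPoly, h 0 (Nat.zero_le _)]
        | succ k ihk =>
          intro hk
          simp [coefPoly, ihk (by omega), h _ hk, show q ≠ 0 by omega]
      have ha' : a (i + 1) ≠ 0 := by
        rcases Nat.lt_or_ge j (i + 1) with h' | h'
        · exact absurd (h j (by omega)) ha
        · obtain rfl : j = i + 1 := le_antisymm hj h'
          exact ha
      rw [coefPoly, hP i le_rfl, zero_pow (by omega : q ≠ 0), zero_add, natDegree_C_mul_X_pow _ _ ha']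
      exact hq

theorem exists_ne_zero_root (P : K[X]) (h1 : 2 ≤ P.natDegree) (h2 : derivative P = 0) :
    ∃ c : K, c ≠ 0 ∧ P.eval c = c := by
  classical
  set R := P - X with hR
  have hd : R.natDegree = P.natDegree := natDegree_sub_eq_left_of_natDegree_lt (by rw [natDegree_X]; omega)
  have hsep : R.Separable := by
    rw [separable_def, hR, derivative_sub, h2, derivative_X, zero_sub]
    exact (isCoprime_one_right).neg_right
  have hcard : R.roots.card = R.natDegree := (IsAlgClosed.splits R).natDegree_eq_card_roots.symm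
  by_contra hc
  simp only [not_exists, not_and] at hc
  have hsub : R.roots.toFinset ⊆ {0} := by
    intro c hc'
    rw [Multiset.mem_toFinset, mem_roots'] at hc'
    rw [Finset.mem_singleton]
    by_contra hne
    apply hc c hne
    have := hc'.2
    rw [IsRoot, hR, eval_sub, eval_X, sub_eq_zero] at this
    exact this
  have h3 := Finset.card_le_card hsub
  rw [Multiset.toFinset_card_of_nodup (nodup_roots hsep), hcard, hd, Finset.card_singleton] at h3
  omega

universe u

variable {f : ℕ}

theorem iterateFrobenius_surjective (c : K) : ∃ d, iterateFrobenius K p f d = c := by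
  obtain ⟨d, hd⟩ := IsAlgClosed.exists_pow_nat_eq c (pow_pos (Fact.out : p.Prime).pos f)
  exact ⟨d, by rw [iterateFrobenius_def, hd]⟩

variable {V : Type u} [AddCommGroup V] [Module K V] [FiniteDimensional K V]

theorem exists_fixed (hf : 1 ≤ f) (φ : V →ₛₗ[iterateFrobenius K p f] V) (hφ : Function.Injective φ)
    (hV : 0 < finrank K V) : ∃ e : V, e ≠ 0 ∧ φ e = e := by
  haveI : Nontrivial V := Module.nontrivial_of_finrank_pos hV
  obtain ⟨v, hv⟩ := exists_ne (0 : V)
  let vs : ℕ → V := fun i => φ^[i] v
  have hne : ∀ i, vs i ≠ 0 := by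
    intro i
    induction i with
    | zero => exact hv
    | succ i ih =>
      show φ^[i + 1] v ≠ 0
      rw [Function.iterate_succ_apply']
      exact fun h => ih (hφ (h.trans (map_zero φ).symm))
  obtain ⟨m, hm, hmax⟩ : ∃ m, LinearIndependent K (fun i : Fin (m + 1) => vs i) ∧
      vs (m + 1) ∈ Submodule.span K (Set.range fun i : Fin (m + 1) => vs i) := by
    by_contra hc
    simp only [not_exists, not_and] at hc
    have hall : ∀ m, LinearIndependent K (fun i : Fin (m + 1) => vs i) := by
      intro m
      induction m with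
      | zero =>
        refine Fintype.linearIndependent_iff.2 fun c hc i => ?_
        rw [Fin.sum_univ_one] at hc
        obtain rfl : i = 0 := Fin.ext (by omega)
        exact (smul_eq_zero.1 hc).resolve_right (hne 0)
      | succ m ih =>
        rw [linearIndependent_finSucc']
        refine ⟨ih, ?_⟩
        simpa [Fin.init_def] using hc m ih
    have := (hall (finrank K V)).fintype_card_le_finrank
    rw [Fintype.card_fin] at this
    omega
  rw [Submodule.mem_span_range_iff_exists_fun] at hmax
  obtain ⟨a, ha⟩ := hmax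
  let a' : ℕ → K := fun i => if h : i < m + 1 then a ⟨i, h⟩ else 0
  have ha0 : ∃ j, j ≤ m ∧ a' j ≠ 0 := by
    by_contra hc
    simp only [not_exists, not_and, not_not] at hc
    apply hne (m + 1)
    rw [← ha]
    refine Finset.sum_eq_zero fun i _ => ?_
    have := hc i.val (Nat.lt_succ_iff.1 i.isLt)
    simp only [a', dif_pos i.isLt, Fin.eta] at this
    rw [this, zero_smul]
  set q := p ^ f with hqdef
  have hq2 : 2 ≤ q := (Fact.out : p.Prime).two_le.trans (Nat.le_self_pow (by omega) p)
  have hq0 : (q : K) = 0 := by
    rw [hqdef, Nat.cast_pow, CharP.cast_eq_zero, zero_pow (by omega : f ≠ 0)]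
  obtain ⟨c, hc0, hc⟩ := exists_ne_zero_root (coefPoly q a' m) (degree_coefPoly q hq2 a' m ha0)
    (derivative_coefPoly q hq0 a' m)
  let b : ℕ → K := fun i => (coefPoly q a' i).eval c
  have hbm : b m = c := hc
  have hb0 : b 0 = c ^ q * a' 0 := by
    simp only [b, coefPoly, eval_mul, eval_C, eval_pow, eval_X]
    ring
  have hbs : ∀ i, b (i + 1) = b i ^ q + c ^ q * a' (i + 1) := fun i => by
    simp only [b, coefPoly, eval_add, eval_mul, eval_C, eval_pow, eval_X]
    ring
  refine ⟨∑ i : Fin (m + 1), b i • vs i, ?_, ?_⟩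
  · intro h0
    have := Fintype.linearIndependent_iff.1 hm _ h0 (Fin.last m)
    rw [Fin.val_last, hbm] at this
    exact hc0 this
  · rw [map_sum]
    have hstep : ∀ i : Fin (m + 1), φ (b i • vs i) = b i ^ q • vs (i + 1) := by
      intro i
      rw [LinearMap.map_smulₛₗ, iterateFrobenius_def]
      simp only [vs, Function.iterate_succ_apply', hqdef]
    rw [Finset.sum_congr rfl fun i _ => hstep i, Fin.sum_univ_castSucc, Fin.sum_univ_succ (n := m)]
    simp only [Fin.val_castSucc, Fin.val_last, Fin.val_succ, Fin.val_zero, hbm]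
    rw [← ha, Finset.smul_sum, Fin.sum_univ_succ, hb0]
    simp only [smul_smul, hbs, add_smul, Finset.sum_add_distrib, Fin.val_succ, Fin.val_zero]
    have e0 : a' 0 = a 0 := by simp [a']
    have es : ∀ i : Fin m, a' (i + 1) = a i.succ := fun i => by
      simp [a', Fin.succ]
    simp only [e0, es]
    abel

theorem span_fixed_eq_top (hf : 1 ≤ f) : ∀ (d : ℕ) {V : Type u} [AddCommGroup V] [Module K V]
    [FiniteDimensional K V] (φ : V →ₛₗ[iterateFrobenius K p f] V), Function.Injective φ →
    finrank K V ≤ d → Submodule.span K {v | φ v = v} = ⊤ := by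
  intro d
  induction d with
  | zero =>
    intro V _ _ _ φ _ hd
    haveI : Subsingleton V := Module.finrank_zero_iff.1 (Nat.le_zero.1 hd)
    exact Subsingleton.elim _ _
  | succ d ih =>
    intro V _ _ _ φ hφ hd
    rcases Nat.eq_zero_or_pos (finrank K V) with h0 | h0
    · haveI : Subsingleton V := Module.finrank_zero_iff.1 h0
      exact Subsingleton.elim _ _
    obtain ⟨e, he, hfe⟩ := exists_fixed hf φ hφ h0
    set L : Submodule K V := Submodule.span K {e} with hL
    have hmap : L ≤ L.comap φ := by
      rw [hL, Submodule.span_singleton_le_iff_mem, Submodule.mem_comap, hfe]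
      exact Submodule.mem_span_singleton_self e
    let ψ := L.mapQ L φ hmap
    have hψ : Function.Injective ψ := by
      rw [injective_iff_map_eq_zero]
      intro x hx
      obtain ⟨x, rfl⟩ := Submodule.Quotient.mk_surjective L x
      rw [Submodule.mapQ_apply, Submodule.Quotient.mk_eq_zero, hL, Submodule.mem_span_singleton] at hx
      obtain ⟨c, hc⟩ := hx
      obtain ⟨c', hc'⟩ := iterateFrobenius_surjective (p := p) (f := f) c
      rw [Submodule.Quotient.mk_eq_zero, hL, Submodule.mem_span_singleton]
      refine ⟨c', hφ ?_⟩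
      rw [LinearMap.map_smulₛₗ, hc', hfe, hc]
    have hdim : finrank K (V ⧸ L) ≤ d := by
      have h1 := L.finrank_quotient_add_finrank
      have h2 : finrank K L = 1 := finrank_span_singleton he
      omega
    have hq := ih ψ hψ hdim
    set S := Submodule.span K {v | φ v = v} with hS
    have heS : L ≤ S := by
      rw [hL, Submodule.span_singleton_le_iff_mem]
      exact Submodule.subset_span hfe
    have hmapS : S.map L.mkQ = ⊤ := by
      rw [eq_top_iff, ← hq, Submodule.span_le]
      intro x hx
      obtain ⟨v, rfl⟩ := Submodule.Quotient.mk_surjective L x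
      rw [Set.mem_setOf_eq, Submodule.mapQ_apply, Submodule.Quotient.eq, hL,
        Submodule.mem_span_singleton] at hx
      obtain ⟨c, hc⟩ := hx
      obtain ⟨r, hr⟩ := IsAlgClosed.exists_root ((X : K[X]) ^ (p ^ f) - X + C c)
        (by
          have hq1 : 1 < p ^ f := one_lt_pow₀ (Fact.out : p.Prime).one_lt (by omega)
          have : ((X : K[X]) ^ (p ^ f) - X + C c).natDegree = p ^ f := by
            rw [natDegree_add_C, natDegree_sub_eq_left_of_natDegree_lt (by rw [natDegree_X, natDegree_X_pow]; exact hq1),
              natDegree_X_pow]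
          intro h
          have := natDegree_eq_zero_iff_degree_le_zero.2 h.le
          omega)
      simp only [IsRoot, eval_add, eval_sub, eval_pow, eval_X, eval_C] at hr
      refine ⟨v + r • e, Submodule.subset_span ?_, ?_⟩
      · rw [Set.mem_setOf_eq, map_add, LinearMap.map_smulₛₗ, iterateFrobenius_def, hfe,
          show r ^ p ^ f = r - c by linear_combination hr, sub_smul, hc]
        abel
      · rw [map_add, Submodule.mkQ_apply, Submodule.mkQ_apply, add_eq_left, Submodule.Quotient.mk_eq_zero, hL]
        exact Submodule.smul_mem _ _ (Submodule.mem_span_singleton_self e)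
    rw [eq_top_iff]
    calc (⊤ : Submodule K V) = (S.map L.mkQ).comap L.mkQ := by rw [hmapS, Submodule.comap_top]
      _ ≤ S := by rw [Submodule.comap_map_mkQ]; exact sup_le heS le_rfl

theorem lang_GL (hf : 1 ≤ f) (n : ℕ) (g : GL (Fin n) K) :
    ∃ x : GL (Fin n) K, g = x * (Matrix.GeneralLinearGroup.map (iterateFrobenius K p f) x)⁻¹ := by
  let φ : (Fin n → K) →ₛₗ[iterateFrobenius K p f] (Fin n → K) :=
    { toFun := fun v => (g : Matrix (Fin n) (Fin n) K).mulVec fun i => iterateFrobenius K p f (v i)
      map_add' := fun v w => by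
        rw [← Matrix.mulVec_add]
        congr 1
        funext i
        exact map_add (iterateFrobenius K p f) _ _
      map_smul' := fun c v => by
        rw [← Matrix.mulVec_smul]
        congr 1
        funext i
        exact map_mul (iterateFrobenius K p f) _ _ }
  have hφ : Function.Injective φ := by
    intro v w h
    have h1 := Matrix.mulVec_injective_iff_isUnit.2 g.isUnit h
    funext i
    exact (iterateFrobenius K p f).injective (congrFun h1 i)
  have hs := span_fixed_eq_top hf _ φ hφ le_rfl
  obtain ⟨s, hsub, hspan, hli⟩ := exists_linearIndependent K {v : Fin n → K | φ v = v}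
  let B0 : Basis s K (Fin n → K) := Basis.mk hli (by rw [Subtype.range_coe]; rw [hspan, hs])
  let B : Basis (Fin n) K (Fin n → K) := B0.reindex (B0.indexEquiv (Pi.basisFun K (Fin n)))
  have hB : ∀ i, φ (B i) = B i := fun i => by
    have : B i = ((B0.indexEquiv (Pi.basisFun K (Fin n))).symm i : Fin n → K) := by simp [B, B0]
    rw [this]
    exact hsub ((B0.indexEquiv (Pi.basisFun K (Fin n))).symm i).2
  obtain ⟨x, hx⟩ : ∃ x : GL (Fin n) K, (x : Matrix (Fin n) (Fin n) K) = fun i j => B j i :=
    ⟨⟨(Pi.basisFun K (Fin n)).toMatrix B, B.toMatrix (Pi.basisFun K (Fin n)),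
      Basis.toMatrix_mul_toMatrix_flip _ _, Basis.toMatrix_mul_toMatrix_flip _ _⟩,
      by funext i j; simp [Basis.toMatrix_apply]⟩
  refine ⟨x, eq_mul_inv_iff_mul_eq.2 (Units.ext ?_)⟩
  ext i j
  rw [Units.val_mul, Matrix.mul_apply]
  have h1 : ((g : Matrix (Fin n) (Fin n) K).mulVec fun k => iterateFrobenius K p f (B j k)) i = B j i :=
    congrFun (hB j) i
  rw [hx]
  show _ = B j i
  rw [← h1]
  simp only [Matrix.mulVec, dotProduct]
  refine Finset.sum_congr rfl fun k _ => ?_
  congr 1
  show iterateFrobenius K p f ((x : Matrix (Fin n) (Fin n) K) k j) = _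
  rw [hx]

end Cfsg.Agent.Small.Lang
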