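import Mathlib.GroupTheory.GroupAction.Basic
import Mathlib.GroupTheory.Perm.Sign
import Mathlib.GroupTheory.SpecificGroups.Alternating
import Mathlib.GroupTheory.Index
import Mathlib.Data.ZMod.Basic

/-!
Largest abelian subgroups of symmetric and alternating groups.
-/

set_option autoImplicit false

namespace Cfsg.Agent.Small.MaxAbelianPerm

open Equiv

/-- The largest product of parts with sum `n`. -/
def g : ℕ → ℕ
  | 0 => 1
  | 1 => 1
  | 2 => 2
  | 3 => 3
  | 4 => 4
  | n + 5 => 3 * g (n + 2)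

theorem g_add_three {n : ℕ} (h : 2 ≤ n) : g (n + 3) = 3 * g n := by
  obtain ⟨m, rfl⟩ : ∃ m, n = m + 2 := ⟨n - 2, by omega⟩
  rw [g]

theorem mul_g_small : ∀ m, m ≤ 4 → ∀ j, m * g j ≤ g (m + j) := by
  intro m hm j
  induction j using Nat.strong_induction_on with
  | _ j ih =>
    by_cases hj : j ≤ 4
    · interval_cases m <;> interval_cases j <;> decide
    · obtain ⟨i, rfl⟩ : ∃ i, j = i + 3 := ⟨j - 3, by omega⟩
      rw [g_add_three (by omega), ← add_assoc, g_add_three (by omega), mul_left_comm]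
      exact Nat.mul_le_mul_left 3 (ih i (by omega))

theorem mul_g_le : ∀ m j, m * g j ≤ g (m + j) := by
  intro m
  induction m using Nat.strong_induction_on with
  | _ m ih =>
    intro j
    by_cases hm : m ≤ 4
    · exact mul_g_small m hm j
    · obtain ⟨i, rfl⟩ : ∃ i, m = i + 3 := ⟨m - 3, by omega⟩
      rw [show i + 3 + j = i + j + 3 by omega, g_add_three (by omega)]
      calc (i + 3) * g j ≤ 3 * i * g j := Nat.mul_le_mul_right _ (by omega)
        _ ≤ 3 * g (i + j) := by rw [mul_assoc]; exact Nat.mul_le_mul_left 3 (ih i (by omega) j)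

theorem g_three_mul : ∀ k, g (3 * k) = 3 ^ k
  | 0 => rfl
  | 1 => rfl
  | k + 2 => by
    rw [show 3 * (k + 2) = 3 * (k + 1) + 3 by ring, g_add_three (by omega), g_three_mul (k + 1)]
    ring

theorem g_three_mul_two : ∀ k, g (3 * k + 2) = 2 * 3 ^ k
  | 0 => rfl
  | k + 1 => by
    rw [show 3 * (k + 1) + 2 = 3 * k + 2 + 3 by ring, g_add_three (by omega), g_three_mul_two k]
    ring

theorem g_three_mul_one : ∀ k, g (3 * (k + 1) + 1) = 4 * 3 ^ k
  | 0 => rfl
  | k + 1 => by
    rw [show 3 * (k + 1 + 1) + 1 = 3 * (k + 1) + 1 + 3 by ring, g_add_three (by omega), g_three_mul_one k]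
    ring

theorem g_pos : ∀ n, 0 < g n := by
  intro n
  induction n using Nat.strong_induction_on with
  | _ n ih =>
    by_cases hn : n ≤ 4
    · interval_cases n <;> decide
    · obtain ⟨i, rfl⟩ : ∃ i, n = i + 3 := ⟨n - 3, by omega⟩
      rw [g_add_three (by omega)]
      exact Nat.mul_pos (by norm_num) (ih i (by omega))

variable {α : Type} [Fintype α] [DecidableEq α]

/-- Splitting off the orbit of `x`. -/
theorem split (A : Subgroup (Perm α)) (hA : ∀ a ∈ A, ∀ b ∈ A, a * b = b * a) (x : α) :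
    ∃ (β : Type) (_ : Fintype β) (_ : DecidableEq β) (K : Subgroup (Perm β)) (ι : β ↪ α),
      (∀ a ∈ K, ∀ b ∈ K, a * b = b * a) ∧
      Fintype.card β + Nat.card (MulAction.orbit A x) = Fintype.card α ∧
      Nat.card A ≤ Nat.card (MulAction.orbit A x) * Nat.card K ∧
      ((∀ a ∈ A, Perm.sign a = 1) → ∀ k ∈ K, Perm.sign k = 1) ∧
      (∀ y, Nat.card (MulAction.orbit K y) ≤ Nat.card (MulAction.orbit A (ι y))) := by
  classical
  let O := MulAction.orbit A x
  let ρ := MulAction.toPermHom A O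
  let N : Subgroup A := ρ.ker
  have hfix : ∀ k : N, ∀ y ∈ O, (k.1.1 : Perm α) y = y := by
    intro k y hy
    have := congrArg (fun σ : Perm O => (σ ⟨y, hy⟩).1) (MonoidHom.mem_ker.1 k.2)
    exact this
  have hinv : ∀ k : N, ∀ y, (k.1.1 : Perm α) y ∉ O ↔ y ∉ O := by
    intro k y
    constructor
    · exact fun h hy => h (by rwa [hfix k y hy])
    · intro h hy
      apply h
      have h2 := hfix k _ hy
      have h3 : (k.1.1 : Perm α) y = y := (k.1.1 : Perm α).injective h2
      rwa [h3] at hy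
  let ψ : N →* Perm {y // y ∉ O} :=
    { toFun := fun k => (k.1.1 : Perm α).subtypePerm (hinv k)
      map_one' := by ext y; rfl
      map_mul' := fun k l => by ext y; rfl }
  have hψ : Function.Injective ψ := by
    intro k l h
    apply Subtype.ext; apply Subtype.ext
    ext y
    by_cases hy : y ∈ O
    · rw [hfix k y hy, hfix l y hy]
    · exact congrArg Subtype.val (Equiv.congr_fun h ⟨y, hy⟩)
  have hrange : Nat.card ρ.range ≤ Nat.card O := by
    refine Nat.card_le_card_of_injective (fun σ : ρ.range => σ.1 ⟨x, MulAction.mem_orbit_self x⟩) ?_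
    rintro ⟨_, a, rfl⟩ ⟨_, b, rfl⟩ h
    apply Subtype.ext
    refine Equiv.ext ?_
    rintro ⟨y, c, rfl⟩
    apply Subtype.ext
    have h' : (a.1 : Perm α) x = (b.1 : Perm α) x := congrArg Subtype.val h
    show (a.1 : Perm α) ((c.1 : Perm α) x) = (b.1 : Perm α) ((c.1 : Perm α) x)
    rw [← Perm.mul_apply, hA _ a.2 _ c.2, Perm.mul_apply, h', ← Perm.mul_apply, hA _ c.2 _ b.2,
      Perm.mul_apply]
  refine ⟨{y // y ∉ O}, inferInstance, inferInstance, ψ.range, Function.Embedding.subtype _, ?_, ?_, ?_, ?_, ?_⟩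
  · rintro _ ⟨k, rfl⟩ _ ⟨l, rfl⟩
    rw [← map_mul, ← map_mul]
    congr 1
    exact Subtype.ext (Subtype.ext (hA _ k.1.2 _ l.1.2))
  · show Fintype.card {y // ¬ y ∈ O} + Nat.card ↥O = Fintype.card α
    have e : Nat.card ↥O = Fintype.card {y // y ∈ O} := Nat.card_eq_fintype_card
    rw [Fintype.card_subtype_compl, e]
    have := Fintype.card_subtype_le (fun y => y ∈ O)
    omega
  · rw [Nat.card_congr (MonoidHom.ofInjective hψ).symm.toEquiv,
      Subgroup.card_eq_card_quotient_mul_card_subgroup N,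
      Nat.card_congr (QuotientGroup.quotientKerEquivRange ρ).toEquiv]
    exact Nat.mul_le_mul_right _ hrange
  · rintro h _ ⟨k, rfl⟩
    show Perm.sign ((k.1.1 : Perm α).subtypePerm (hinv k)) = 1
    rw [Perm.sign_subtypePerm]
    · exact h _ k.1.2
    · intro y hy hO
      exact hy (hfix k y hO)
  · intro y
    refine Nat.card_le_card_of_injective (fun z : MulAction.orbit ψ.range y => (⟨z.1.1, ?_⟩ : MulAction.orbit A y.1)) ?_
    · obtain ⟨⟨_, k, rfl⟩, hk⟩ := z.2
      exact ⟨k.1, congrArg Subtype.val hk⟩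
    · intro z w h
      exact Subtype.ext (Subtype.ext (congrArg (fun t : MulAction.orbit A y.1 => t.1) h))

theorem card_le_g : ∀ (n : ℕ) {α : Type} [Fintype α] [DecidableEq α] (A : Subgroup (Perm α)),
    Fintype.card α = n → (∀ a ∈ A, ∀ b ∈ A, a * b = b * a) → Nat.card A ≤ g n := by
  intro n
  induction n using Nat.strong_induction_on with
  | _ n ih =>
    intro α _ _ A hn hA
    rcases Nat.eq_zero_or_pos n with rfl | hpos
    · haveI : IsEmpty α := Fintype.card_eq_zero_iff.1 hn
      rw [Nat.card_unique]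
      exact g_pos 0
    obtain ⟨x⟩ : Nonempty α := Fintype.card_pos_iff.1 (hn ▸ hpos)
    obtain ⟨β, _, _, K, ι, hK, hcard, hle, -, -⟩ := split A hA x
    have hm : 0 < Nat.card (MulAction.orbit A x) :=
      Nat.card_pos_iff.2 ⟨⟨⟨x, MulAction.mem_orbit_self x⟩⟩, inferInstance⟩
    refine hle.trans ((Nat.mul_le_mul_left _ (ih _ (by omega) K rfl hK)).trans ?_)
    rw [← hn, ← hcard, add_comm]
    exact mul_g_le _ _

theorem card_le_two_pow : ∀ (n : ℕ) {α : Type} [Fintype α] [DecidableEq α] (A : Subgroup (Perm α)),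
    Fintype.card α = n → (∀ a ∈ A, ∀ b ∈ A, a * b = b * a) →
    (∀ y : α, Nat.card (MulAction.orbit A y) ≤ 2) → Nat.card A ≤ 2 ^ (n / 2) := by
  intro n
  induction n using Nat.strong_induction_on with
  | _ n ih =>
    intro α _ _ A hn hA horb
    by_cases hx : ∃ x : α, 2 ≤ Nat.card (MulAction.orbit A x)
    · obtain ⟨x, hx⟩ := hx
      have hm : Nat.card (MulAction.orbit A x) = 2 := le_antisymm (horb x) hx
      obtain ⟨β, _, _, K, ι, hK, hcard, hle, -, horbK⟩ := split A hA x
      refine hle.trans ((Nat.mul_le_mul_left _ (ih _ (by omega) K rfl hK fun y =>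
        (horbK y).trans (horb _))).trans ?_)
      rw [hm, show n / 2 = Fintype.card β / 2 + 1 by omega, pow_succ, mul_comm]
    · have h1 : Nat.card A = 1 := by
        rw [Nat.card_eq_one_iff_unique]
        refine ⟨⟨fun a b => Subtype.ext (Equiv.ext fun y => ?_)⟩, inferInstance⟩
        have hle : Nat.card (MulAction.orbit A y) ≤ 1 := by
          by_contra hc
          exact hx ⟨y, by omega⟩
        haveI : Subsingleton (MulAction.orbit A y) := Finite.card_le_one_iff_subsingleton.1 hle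
        exact congrArg Subtype.val (Subsingleton.elim
          (⟨a • y, MulAction.mem_orbit y a⟩ : MulAction.orbit A y) ⟨b • y, MulAction.mem_orbit y b⟩)
      rw [h1]
      exact Nat.one_le_two_pow

theorem card_le_five {α : Type} [Fintype α] [DecidableEq α] (A : Subgroup (Perm α))
    (hn : Fintype.card α = 5) (hA : ∀ a ∈ A, ∀ b ∈ A, a * b = b * a) (hs : ∀ a ∈ A, Perm.sign a = 1) :
    Nat.card A ≤ 5 := by
  by_cases hx : ∃ x : α, 3 ≤ Nat.card (MulAction.orbit A x)
  · obtain ⟨x, hx⟩ := hx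
    obtain ⟨β, _, _, K, ι, hK, hcard, hle, hsK, -⟩ := split A hA x
    have hK1 : Nat.card K = 1 := by
      rw [Nat.card_eq_one_iff_unique]
      refine ⟨⟨fun a b => Subtype.ext ?_⟩, inferInstance⟩
      have h2 : Fintype.card β ≤ 2 := by omega
      have key : ∀ σ : Perm β, Perm.sign σ = 1 → σ = 1 := by
        intro σ hσ
        by_contra hne
        have hsupp := Perm.two_le_card_support_of_ne_one hne
        have h3 : σ.support.card = 2 := le_antisymm ((Finset.card_le_univ _).trans h2) hsupp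
        rw [(Perm.card_support_eq_two.1 h3).sign_eq] at hσ
        exact absurd hσ (by decide)
      rw [key _ (hsK hs _ a.2), key _ (hsK hs _ b.2)]
    rw [hK1, mul_one] at hle
    omega
  · refine (card_le_two_pow 5 A hn hA fun y => ?_).trans (by norm_num)
    by_contra hc
    exact hx ⟨y, by omega⟩

theorem two_pow_half_le : ∀ k, 2 ^ ((3 * (k + 2) + 2) / 2) ≤ 16 * 3 ^ k
  | 0 => by norm_num
  | 1 => by norm_num
  | k + 2 => by
    rw [show (3 * (k + 2 + 2) + 2) / 2 = (3 * (k + 2) + 2) / 2 + 3 by omega, pow_add]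
    have := two_pow_half_le k
    have h : 3 ^ (k + 2) = 3 ^ k * 9 := by rw [pow_add]; norm_num
    omega

theorem card_le_alt : ∀ (k : ℕ) {α : Type} [Fintype α] [DecidableEq α] (A : Subgroup (Perm α)),
    Fintype.card α = 3 * (k + 2) + 2 → (∀ a ∈ A, ∀ b ∈ A, a * b = b * a) →
    (∀ a ∈ A, Perm.sign a = 1) → Nat.card A ≤ 16 * 3 ^ k := by
  intro k
  induction k using Nat.strong_induction_on with
  | _ k ih =>
    intro α _ _ A hn hA hs
    by_cases hx : ∃ x : α, 3 ≤ Nat.card (MulAction.orbit A x)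
    · obtain ⟨x, hx⟩ := hx
      obtain ⟨β, _, _, K, ι, hK, hcard, hle, hsK, -⟩ := split A hA x
      generalize Nat.card (MulAction.orbit A x) = m at *
      refine hle.trans ?_
      rcases Nat.lt_or_ge m 5 with hm | hm
      · interval_cases m
        · rcases Nat.eq_zero_or_pos k with rfl | hk
          · have := card_le_five K (by omega) hK (hsK hs)
            rw [pow_zero]
            omega
          · obtain ⟨j, rfl⟩ : ∃ j, k = j + 1 := ⟨k - 1, by omega⟩
            have := ih j (by omega) K (by omega) hK (hsK hs)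
            rw [pow_succ]
            omega
        · have h := card_le_g _ K rfl hK
          rw [show Fintype.card β = 3 * (k + 1) + 1 by omega, g_three_mul_one] at h
          omega
      · have h := card_le_g _ K rfl hK
        have h1 := mul_g_le (m - 3) (Fintype.card β)
        rw [show m - 3 + Fintype.card β = 3 * (k + 1) + 2 by omega, g_three_mul_two, pow_succ] at h1
        have h2 : 3 * (m * Nat.card K) ≤ 8 * ((m - 3) * g (Fintype.card β)) := by
          have h3 : 3 * m ≤ 8 * (m - 3) := by omega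
          calc 3 * (m * Nat.card K) = (3 * m) * Nat.card K := (mul_assoc _ _ _).symm
            _ ≤ (8 * (m - 3)) * g (Fintype.card β) := Nat.mul_le_mul h3 h
            _ = _ := mul_assoc _ _ _
        omega
    · refine (card_le_two_pow _ A hn hA fun y => ?_).trans (two_pow_half_le k)
      by_contra hc
      exact hx ⟨y, by omega⟩

/-! ### Constructions -/

/-- An abelian subgroup of order `c`, of even permutations if `ev`, on `n` points. -/
def Good (ev : Bool) (n c : ℕ) : Prop :=
  ∃ A : Subgroup (Perm (Fin n)), (∀ a ∈ A, ∀ b ∈ A, a * b = b * a) ∧ Nat.card A = c ∧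
    (ev = true → ∀ a ∈ A, Perm.sign a = 1)

theorem good_zero (ev : Bool) : Good ev 0 1 :=
  ⟨⊥, fun a ha b hb => by simp [Subgroup.mem_bot.1 ha, Subgroup.mem_bot.1 hb], Subgroup.card_bot,
    fun _ a ha => by simp [Subgroup.mem_bot.1 ha]⟩

theorem good_add {ev : Bool} {a b x y : ℕ} (h1 : Good ev a x) (h2 : Good ev b y) :
    Good ev (a + b) (x * y) := by
  obtain ⟨A, hA, hAc, hAs⟩ := h1
  obtain ⟨B, hB, hBc, hBs⟩ := h2
  let e : Perm (Fin a ⊕ Fin b) ≃* Perm (Fin (a + b)) := finSumFinEquiv.permCongrHom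
  let φ : ↥A × ↥B →* Perm (Fin (a + b)) := e.toMonoidHom.comp
    ((Perm.sumCongrHom (Fin a) (Fin b)).comp (A.subtype.prodMap B.subtype))
  have hφ : Function.Injective φ := e.injective.comp (Perm.sumCongrHom_injective.comp
    (Prod.map_injective.2 ⟨A.subtype_injective, B.subtype_injective⟩))
  refine ⟨φ.range, ?_, ?_, ?_⟩
  · rintro _ ⟨u, rfl⟩ _ ⟨v, rfl⟩
    rw [← map_mul, ← map_mul]
    exact congrArg φ (Prod.ext (Subtype.ext (hA _ u.1.2 _ v.1.2)) (Subtype.ext (hB _ u.2.2 _ v.2.2)))
  · rw [Nat.card_congr (MonoidHom.ofInjective hφ).symm.toEquiv, Nat.card_prod, hAc, hBc]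
  · rintro hev _ ⟨u, rfl⟩
    show Perm.sign (finSumFinEquiv.permCongr (Perm.sumCongr u.1.1 u.2.1)) = 1
    rw [Perm.sign_permCongr, Perm.sign_sumCongr, hAs hev _ u.1.2, hBs hev _ u.2.2, one_mul]

theorem good_regular (ev : Bool) (H : Type) [CommGroup H] [Fintype H] [DecidableEq H] {n : ℕ}
    (hn : Fintype.card H = n) (hs : ev = true → ∀ h : H, Perm.sign (MulAction.toPerm h : Perm H) = 1) :
    Good ev n n := by
  subst hn
  let φ : H →* Perm (Fin (Fintype.card H)) :=
    (Fintype.equivFin H).permCongrHom.toMonoidHom.comp (MulAction.toPermHom H H)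
  have hφ : Function.Injective φ := (Fintype.equivFin H).permCongrHom.injective.comp MulAction.toPerm_injective
  refine ⟨φ.range, ?_, ?_, ?_⟩
  · rintro _ ⟨u, rfl⟩ _ ⟨v, rfl⟩
    rw [← map_mul, ← map_mul, mul_comm]
  · rw [Nat.card_congr (MonoidHom.ofInjective hφ).symm.toEquiv, Nat.card_eq_fintype_card]
  · rintro hev _ ⟨u, rfl⟩
    show Perm.sign ((Fintype.equivFin H).permCongr (MulAction.toPerm u)) = 1
    rw [Perm.sign_permCongr]
    exact hs hev u

theorem good_three (ev : Bool) : Good ev 3 3 :=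
  good_regular ev (Multiplicative (ZMod 3)) (by decide) (fun _ => by decide)

theorem good_four (ev : Bool) : Good ev 4 4 :=
  good_regular ev (Multiplicative (ZMod 2) × Multiplicative (ZMod 2)) (by decide) (fun _ => by decide)

theorem good_two : Good false 2 2 :=
  good_regular false (Multiplicative (ZMod 2)) (by decide) (by simp)

theorem good_pow (ev : Bool) : ∀ k, Good ev (3 * k) (3 ^ k)
  | 0 => good_zero ev
  | k + 1 => good_add (good_pow ev k) (good_three ev)

theorem perm_greatest {n c : ℕ} (hg : g n = c) (h : Good false n c) :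
    IsGreatest {c : ℕ | ∃ A : Subgroup (Perm (Fin n)), IsMulCommutative A ∧ Nat.card A = c} c := by
  obtain ⟨A, hA, hc, -⟩ := h
  refine ⟨⟨A, ⟨⟨fun a b => Subtype.ext (hA _ a.2 _ b.2)⟩⟩, hc⟩, ?_⟩
  rintro _ ⟨B, hB, rfl⟩
  rw [← hg]
  exact card_le_g n B (Fintype.card_fin n) fun a ha b hb =>
    congrArg Subtype.val (hB.is_comm.comm (⟨a, ha⟩ : B) ⟨b, hb⟩)

theorem alt_greatest {n c : ℕ}
    (hb : ∀ A : Subgroup (Perm (Fin n)), (∀ a ∈ A, ∀ b ∈ A, a * b = b * a) →
      (∀ a ∈ A, Perm.sign a = 1) → Nat.card A ≤ c) (h : Good true n c) :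
    IsGreatest {c : ℕ | ∃ A : Subgroup (alternatingGroup (Fin n)), IsMulCommutative A ∧ Nat.card A = c} c := by
  obtain ⟨A, hA, hc, hs⟩ := h
  have hle : A ≤ alternatingGroup (Fin n) := fun a ha => Perm.mem_alternatingGroup.2 (hs rfl a ha)
  refine ⟨⟨A.subgroupOf (alternatingGroup (Fin n)),
    ⟨⟨fun a b => Subtype.ext (Subtype.ext (hA _ a.2 _ b.2))⟩⟩,
    (Nat.card_congr (Subgroup.subgroupOfEquivOfLe hle).toEquiv).trans hc⟩, ?_⟩
  rintro _ ⟨B, hB, rfl⟩
  rw [← Subgroup.card_map_of_injective (K := B) (alternatingGroup (Fin n)).subtype_injective]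
  refine hb _ ?_ ?_
  · rintro _ ⟨a, ha, rfl⟩ _ ⟨b, hb', rfl⟩
    rw [← map_mul, ← map_mul]
    exact congrArg _ (congrArg Subtype.val (hB.is_comm.comm (⟨a, ha⟩ : B) ⟨b, hb'⟩))
  · rintro _ ⟨a, -, rfl⟩
    exact Perm.mem_alternatingGroup.1 a.2

theorem sym_statement (k : ℕ) (hk : 1 ≤ k) :
    IsGreatest {c : ℕ | ∃ A : Subgroup (Perm (Fin (3 * k))), IsMulCommutative A ∧ Nat.card A = c} (3 ^ k) ∧
    IsGreatest {c : ℕ | ∃ A : Subgroup (Perm (Fin (3 * k + 1))), IsMulCommutative A ∧ Nat.card A = c}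
      (4 * 3 ^ (k - 1)) ∧
    IsGreatest {c : ℕ | ∃ A : Subgroup (Perm (Fin (3 * k + 2))), IsMulCommutative A ∧ Nat.card A = c}
      (2 * 3 ^ k) := by
  obtain ⟨j, rfl⟩ : ∃ j, k = j + 1 := ⟨k - 1, by omega⟩
  refine ⟨perm_greatest (g_three_mul _) (good_pow false _), perm_greatest (g_three_mul_one j) ?_,
    perm_greatest (g_three_mul_two _) ?_⟩
  · rw [show 3 * (j + 1) + 1 = 4 + 3 * j by ring]
    exact good_add (good_four false) (good_pow false j)
  · have := good_add (good_pow false (j + 1)) good_two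
    rwa [mul_comm _ 2] at this

theorem alt_statement (k : ℕ) (hk : 2 ≤ k) :
    IsGreatest {c : ℕ | ∃ A : Subgroup (alternatingGroup (Fin (3 * k))), IsMulCommutative A ∧ Nat.card A = c} (3 ^ k) ∧
    IsGreatest {c : ℕ | ∃ A : Subgroup (alternatingGroup (Fin (3 * k + 1))), IsMulCommutative A ∧ Nat.card A = c}
      (4 * 3 ^ (k - 1)) ∧
    IsGreatest {c : ℕ | ∃ A : Subgroup (alternatingGroup (Fin (3 * k + 2))), IsMulCommutative A ∧ Nat.card A = c}
      (16 * 3 ^ (k - 2)) := by
  obtain ⟨j, rfl⟩ : ∃ j, k = j + 2 := ⟨k - 2, by omega⟩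
  refine ⟨alt_greatest (fun A hA _ => (g_three_mul (j + 2)) ▸ card_le_g _ A (Fintype.card_fin _) hA)
      (good_pow true _),
    alt_greatest (fun A hA _ => (g_three_mul_one (j + 1)) ▸ card_le_g _ A (Fintype.card_fin _) hA) ?_,
    alt_greatest (fun A hA hs => card_le_alt j A (Fintype.card_fin _) hA hs) ?_⟩
  · show Good true (3 * (j + 2) + 1) (4 * 3 ^ (j + 1))
    rw [show 3 * (j + 2) + 1 = 4 + 3 * (j + 1) by ring]
    exact good_add (good_four true) (good_pow true _)
  · show Good true (3 * (j + 2) + 2) (16 * 3 ^ j)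
    rw [show 3 * (j + 2) + 2 = 4 + 4 + 3 * j by ring]
    exact good_add (good_add (good_four true) (good_four true)) (good_pow true _)

end Cfsg.Agent.Small.MaxAbelianPerm
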