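import Cfsg.Agent.Lib.Lie.AllFacts
import Cfsg.Agent.Lib.Lie.Diagonal
import Cfsg.Agent.Lib.Lie.Group
import Cfsg.Prelude.Def_ChevAutomorphisms
import Mathlib.Algebra.CharP.Lemmas

/-!
A Chevalley group is generated by its monomial subgroup and few fundamental root subgroups.
-/

set_option autoImplicit false

namespace Cfsg.Agent.Small.MonoGen

open Cfsg.Lie Cfsg.Agent.Lie
open scoped MatrixGroups

/-- Node `j'` is reached from node `j`. -/
def canStep (D : ChevalleyDatum) (bad : ℕ) (j j' : ℕ) : Bool :=
  D.reflectRoot j (D.reflectRoot j' (D.simple j)) == D.simple j' ||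
    (let r := D.reflectRoot j' (D.simple j)
     let s := D.neg (D.simple j)
     decide (r < D.nroots) && s != r && s != D.neg r &&
      match D.commTerms r s with
      | [c] => c.1 == D.simple j' && c.2.2.1 == 1 && c.2.2.2 == 1 && (c.2.1.natAbs == 1 || (c.2.1.natAbs == bad && bad != 0))
      | _ => false)

/-- One round. -/
def grow (D : ChevalleyDatum) (bad : ℕ) (S : List ℕ) : List ℕ :=
  (List.range D.rank).filter fun j' => S.contains j' || S.any fun j => canStep D bad j j'

/-- All nodes are reached. -/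
def okReach (D : ChevalleyDatum) (bad : ℕ) (S : List ℕ) : Bool :=
  let T := (List.range D.rank).foldl (fun T _ => grow D bad T) S
  (List.range D.rank).all fun j => T.contains j

/-- The check from each short fundamental root. -/
def okShort (D : ChevalleyDatum) (bad : ℕ) : Bool :=
  (List.range D.rank).all fun i => D.isLong (D.simple i) || okReach D bad [i]

/-- The check from each adjacent short and long pair. -/
def okPair (D : ChevalleyDatum) : Bool :=
  (List.range D.rank).all fun i => (List.range D.rank).all fun j =>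
    D.isLong (D.simple i) || !D.isLong (D.simple j) || D.bonds i j == 0 || okReach D 0 [i, j]

theorem okShort_G2 : okShort chevG2 3 = true := by decide +kernel
theorem okShort_B2 : okShort chevB2 2 = true := by decide +kernel
theorem okShort_D4 : okShort chevD4 0 = true := by decide +kernel
theorem okShort_F4 : okShort chevF4 2 = true := by decide +kernel
theorem okShort_E6 : okShort chevE6 0 = true := by decide +kernel
theorem okShort_E7 : okShort chevE7 0 = true := by decide +kernel
theorem okShort_E8 : okShort chevE8 0 = true := by decide +kernel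
theorem okPair_G2 : okPair chevG2 = true := by decide +kernel
theorem okPair_B2 : okPair chevB2 = true := by decide +kernel
theorem okPair_F4 : okPair chevF4 = true := by decide +kernel

variable {D : ChevalleyDatum} {F : Type*} [Field F]

theorem group_le_of_reach (hF : Facts D) {bad : ℕ} (hbad : bad ≠ 0 → (bad : F) ≠ 0) (K : Subgroup (GL D.Idx F))
    (hmono : D.monomialSubgroup F ≤ K) {S : List ℕ}
    (hS : ∀ j ∈ S, j < D.rank ∧ ∀ t : F, hF.xg (D.simple j) t ∈ K) (h : okReach D bad S = true) :
    D.group F ≤ K := by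
  have hn : ∀ i, i < D.rank → hF.ng (D.simple i) (1 : F) ∈ K := fun i hi =>
    hmono (le_sup_right (α := Subgroup (GL D.Idx F)) (Subgroup.subset_closure
      ⟨D.simple i, hF.simple_lt i hi, hF.coe_ng _ _⟩))
  have hrefl : ∀ i, i < D.rank → ∀ r, r < D.nroots → (∀ t : F, hF.xg r t ∈ K) →
      ∀ t : F, hF.xg (D.reflectRoot i r) t ∈ K := by
    intro i hi r hr hP t
    have h1 := hF.ng_conj (F := F) i hi r hr (hF.sgn F i r * t)
    rw [← mul_assoc, hF.sgn_mul_self hi hr, one_mul] at h1
    rw [← h1]
    exact mul_mem (mul_mem (hn i hi) (hP _)) (inv_mem (hn i hi))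
  have hneg : ∀ i, i < D.rank → (∀ t : F, hF.xg (D.simple i) t ∈ K) →
      ∀ t : F, hF.xg (D.neg (D.simple i)) t ∈ K := by
    intro i hi hP
    rw [← Facts.refl_simple (D := D) i]
    exact hrefl i hi _ (hF.simple_lt i hi) hP
  have hstep : ∀ j j', j < D.rank → j' < D.rank → canStep D bad j j' = true →
      (∀ t : F, hF.xg (D.simple j) t ∈ K) → ∀ t : F, hF.xg (D.simple j') t ∈ K := by
    intro j j' hj hj' hc hP
    simp only [canStep, Bool.or_eq_true, Bool.and_eq_true, beq_iff_eq, decide_eq_true_eq, bne_iff_ne] at hc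
    rcases hc with h1 | ⟨⟨⟨hr, hne1⟩, hne2⟩, hm⟩
    · rw [← h1]
      exact hrefl j hj _ (hF.refl_lt j' hj' _ (hF.simple_lt j hj)) (hrefl j' hj' _ (hF.simple_lt j hj) hP)
    · split at hm
      swap
      · simp at hm
      rename_i c hcl
      simp only [Bool.and_eq_true, Bool.or_eq_true, beq_iff_eq, bne_iff_ne] at hm
      obtain ⟨⟨⟨hc1, hci⟩, hcj⟩, hC⟩ := hm
      have hC' : (c.2.1 : F) ≠ 0 := by
        rcases hC with h1 | ⟨h1, h2⟩
        · rcases Int.natAbs_eq c.2.1 with h' | h' <;> rw [h', h1] <;> simp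
        · rcases Int.natAbs_eq c.2.1 with h' | h' <;> rw [h', h1] <;> simpa using hbad h2
      intro v
      have hcomm := (hF.sys F).x_comm (D.reflectRoot j' (D.simple j)) (D.neg (D.simple j)) hr
        (hF.neg_lt (hF.simple_lt j hj)) hne1 hne2 (-1 : F) (v / c.2.1)
      simp only [Facts.sys_x, ChevalleyDatum.commWord, hcl, List.map_cons, List.map_nil,
        List.prod_singleton, hci, hcj, pow_one, neg_neg, mul_one, mul_div_cancel₀ _ hC', hc1] at hcomm
      rw [eq_comm, ← eq_inv_mul_iff_mul_eq] at hcomm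
      rw [hcomm]
      have m1 := hrefl j' hj' _ (hF.simple_lt j hj) hP
      have m2 := hneg j hj hP
      exact mul_mem (inv_mem (mul_mem (m1 _) (m2 _))) (mul_mem (m2 _) (m1 _))
  have hgrow : ∀ T : List ℕ, (∀ j ∈ T, j < D.rank ∧ ∀ t : F, hF.xg (D.simple j) t ∈ K) →
      ∀ j ∈ grow D bad T, j < D.rank ∧ ∀ t : F, hF.xg (D.simple j) t ∈ K := by
    intro T hT j hj
    simp only [grow, List.mem_filter, List.mem_range, Bool.or_eq_true, List.contains_iff_mem, List.any_eq_true] at hj
    refine ⟨hj.1, ?_⟩
    rcases hj.2 with h1 | ⟨i, hi, hstep'⟩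
    · exact (hT j h1).2
    · exact hstep i j (hT i hi).1 hj.1 hstep' (hT i hi).2
  have hall : ∀ (L : List ℕ) (T : List ℕ), (∀ j ∈ T, j < D.rank ∧ ∀ t : F, hF.xg (D.simple j) t ∈ K) →
      ∀ j ∈ L.foldl (fun T _ => grow D bad T) T, j < D.rank ∧ ∀ t : F, hF.xg (D.simple j) t ∈ K := by
    intro L
    induction L with
    | nil => exact fun T hT => hT
    | cons a L ih => exact fun T hT => ih _ (hgrow T hT)
  simp only [okReach, List.all_eq_true, List.mem_range, List.contains_iff_mem] at h
  have hsimple : ∀ i, i < D.rank → ∀ t : F, hF.xg (D.simple i) t ∈ K := fun i hi => (hall _ S hS i (h i hi)).2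
  have hr : ∀ r, r < D.nroots → ∀ t : F, hF.xg r t ∈ K := hF.simple_induction _ hsimple hrefl
  rw [hF.group_eq]
  refine (Subgroup.closure_le _).2 ?_
  rintro _ ⟨⟨r, t⟩, rfl⟩
  by_cases hr' : r < D.nroots
  · exact hr r hr' t
  · simp only [hF.xg_out (not_lt.1 hr'), SetLike.mem_coe, one_mem]

theorem short_generates (hD : D ∈ [chevG2, chevB2, chevD4, chevF4, chevE6, chevE7, chevE8])
    (h2 : D ∈ [chevB2, chevF4] → ringChar F ≠ 2) (h3 : D = chevG2 → ringChar F ≠ 3)
    (i : ℕ) (hi : i < D.rank) (hshort : D.isLong (D.simple i) = false) :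
    D.group F ≤ D.monomialSubgroup F ⊔ D.rootSubgroup F (D.simple i) := by
  obtain ⟨hF⟩ := facts_of_mem hD
  have key : ∀ bad, okShort D bad = true → (bad ≠ 0 → (bad : F) ≠ 0) →
      D.group F ≤ D.monomialSubgroup F ⊔ D.rootSubgroup F (D.simple i) := by
    intro bad hok hbad
    simp only [okShort, List.all_eq_true, List.mem_range, Bool.or_eq_true] at hok
    refine group_le_of_reach hF hbad _ le_sup_left (S := [i]) ?_ ((hok i hi).resolve_left (by simp [hshort]))
    intro j hj
    rw [List.mem_singleton.1 hj]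
    refine ⟨hi, fun t => ?_⟩
    exact le_sup_right (α := Subgroup (GL D.Idx F)) (Subgroup.subset_closure ⟨t, hF.coe_xg _ _⟩)
  have hcast : ∀ b : ℕ, b.Prime → ringChar F ≠ b → (b : F) ≠ 0 := by
    intro b hb hne h0
    rcases (Nat.dvd_prime hb).1 ((ringChar.spec F b).1 h0) with h | h
    · exact CharP.ringChar_ne_one h
    · exact hne h
  simp only [List.mem_cons, List.not_mem_nil, or_false] at hD h2
  rcases hD with rfl | rfl | rfl | rfl | rfl | rfl | rfl
  · exact key 3 okShort_G2 fun _ => hcast 3 Nat.prime_three (h3 rfl)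
  · exact key 2 okShort_B2 fun _ => hcast 2 Nat.prime_two (h2 (Or.inl rfl))
  · exact key 0 okShort_D4 (fun h => absurd rfl h)
  · exact key 2 okShort_F4 fun _ => hcast 2 Nat.prime_two (h2 (Or.inr rfl))
  · exact key 0 okShort_E6 (fun h => absurd rfl h)
  · exact key 0 okShort_E7 (fun h => absurd rfl h)
  · exact key 0 okShort_E8 (fun h => absurd rfl h)

theorem pair_generates (hD : D ∈ [chevB2, chevF4, chevG2])
    (i j : ℕ) (hi : i < D.rank) (hj : j < D.rank) (hshort : D.isLong (D.simple i) = false)
    (hlong : D.isLong (D.simple j) = true) (hbond : D.bonds i j ≠ 0) :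
    D.group F ≤ D.monomialSubgroup F ⊔ D.rootSubgroup F (D.simple i) ⊔ D.rootSubgroup F (D.simple j) := by
  have hok : okPair D = true := by
    simp only [List.mem_cons, List.not_mem_nil, or_false] at hD
    rcases hD with rfl | rfl | rfl
    exacts [okPair_B2, okPair_F4, okPair_G2]
  obtain ⟨hF⟩ : Nonempty (Facts D) := facts_of_mem (by
    simp only [List.mem_cons, List.not_mem_nil, or_false] at hD ⊢
    tauto)
  simp only [okPair, List.all_eq_true, List.mem_range, Bool.or_eq_true] at hok
  have h := hok i hi j hj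
  simp only [hshort, hlong, Bool.not_true, Bool.false_eq_true, false_or, beq_iff_eq, hbond] at h
  refine group_le_of_reach hF (fun h0 => absurd rfl h0) _ (le_sup_left.trans le_sup_left) (S := [i, j]) ?_ h
  intro l hl
  simp only [List.mem_cons, List.not_mem_nil, or_false] at hl
  rcases hl with rfl | rfl
  · refine ⟨hi, fun t => ?_⟩; exact le_sup_left (α := Subgroup (GL D.Idx F)) (le_sup_right (α := Subgroup (GL D.Idx F)) (Subgroup.subset_closure ⟨t, hF.coe_xg _ _⟩))
  · refine ⟨hj, fun t => ?_⟩; exact le_sup_right (α := Subgroup (GL D.Idx F)) (Subgroup.subset_closure ⟨t, hF.coe_xg _ _⟩)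

end Cfsg.Agent.Small.MonoGen
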