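import Cfsg.Agent.Lib.Classical.UnitaryOrders

/-!
# Elements of prime order commuting with a non-trivial unipotent element

In dimension `n` over a field with `q` elements the multiplicative order of `q` modulo the order `r`
of such an element is at most `n - 2`; in the unitary case the order of `-q` modulo `r` is at most
`m - 2`.
-/

set_option autoImplicit false
set_option linter.unusedSectionVars false

namespace Cfsg.Agent.Small.NilCommutant

open Module Cfsg.Agent.Classical Cfsg.Agent.Classical.UCount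

section Group

/-- Commuting elements of prime orders in a central quotient lift to commuting elements. -/
theorem exists_lift_pair {L : Type*} [Group L] [Finite L] {Z : Subgroup L} [Z.Normal]
    (hZ : Z ≤ Subgroup.center L) {p r : ℕ} (hp : p.Prime) (hr : r.Prime) (hpr : p ≠ r)
    (hrZ : ¬ r ∣ Nat.card Z) (a b : L ⧸ Z) (ha : orderOf a = p) (hb : orderOf b = r) (hab : Commute a b) :
    ∃ A B : L, Commute A B ∧ A ≠ 1 ∧ (∃ i : ℕ, A ^ p ^ i = 1) ∧ B ∉ Z ∧ B ^ r = 1 := by
  have lift : ∀ (s : ℕ), s.Prime → ∀ c : L ⧸ Z, orderOf c = s →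
      ∃ C : L, (C : L ⧸ Z) = c ∧ ∃ i : ℕ, C ^ s ^ i = 1 := by
    intro s hs c hc
    obtain ⟨c', rfl⟩ := QuotientGroup.mk_surjective c
    obtain ⟨i, m, hm, hord⟩ := Nat.exists_eq_pow_mul_and_not_dvd (orderOf_pos c').ne' s hs.ne_one
    obtain ⟨t, -, ht⟩ := Nat.exists_mul_mod_eq_one_of_coprime
      ((hs.coprime_iff_not_dvd.2 hm).symm) hs.one_lt
    refine ⟨c' ^ (m * t), ?_, i, ?_⟩
    · rw [QuotientGroup.mk_pow, ← pow_mod_orderOf, hc, ht, pow_one]
    · rw [← pow_mul, show m * t * s ^ i = orderOf c' * t by rw [hord]; ring, pow_mul, pow_orderOf_eq_one,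
        one_pow]
  obtain ⟨A, hA, i, hAi⟩ := lift p hp a ha
  obtain ⟨B, hB, j, hBj⟩ := lift r hr b hb
  have hA1 : A ≠ 1 := by
    intro h
    rw [h, QuotientGroup.mk_one] at hA
    rw [← hA, orderOf_one] at ha
    exact hp.ne_one ha.symm
  have hBZ : B ∉ Z := by
    intro h
    rw [(QuotientGroup.eq_one_iff B).2 h] at hB
    rw [← hB, orderOf_one] at hb
    exact hr.ne_one hb.symm
  obtain ⟨z, hz⟩ : ∃ z, z = B * A * B⁻¹ * A⁻¹ := ⟨_, rfl⟩
  have hzZ : z ∈ Z := by
    refine (QuotientGroup.eq_one_iff z).1 ?_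
    rw [hz, QuotientGroup.mk_mul, QuotientGroup.mk_mul, QuotientGroup.mk_mul, QuotientGroup.mk_inv,
      QuotientGroup.mk_inv, hA, hB, hab.symm.eq, mul_inv_cancel_right, mul_inv_cancel]
  have hzc : ∀ x : L, Commute z x := fun x => (Subgroup.mem_center_iff.1 (hZ hzZ) x).symm
  have hconj : B * A * B⁻¹ = z * A := by rw [hz, inv_mul_cancel_right]
  have hz1 : z ^ p ^ i = 1 := by
    have h : (z * A) ^ p ^ i = 1 := by rw [← hconj, conj_pow, hAi, mul_one, mul_inv_cancel]
    rwa [(hzc A).mul_pow, hAi, mul_one] at h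
  have hiter : ∀ k : ℕ, B ^ k * A * (B ^ k)⁻¹ = z ^ k * A := by
    intro k
    induction k with
    | zero => simp
    | succ k ih =>
      rw [pow_succ', mul_inv_rev, show B * B ^ k * A * ((B ^ k)⁻¹ * B⁻¹) = B * (B ^ k * A * (B ^ k)⁻¹) * B⁻¹ by group,
        ih, ← mul_assoc, ← ((hzc B).pow_left k).eq, mul_assoc, mul_assoc, ← mul_assoc B, hconj, ← mul_assoc,
        pow_succ]
  have hz2 : z ^ r ^ j = 1 := by
    have h := hiter (r ^ j)
    rwa [hBj, one_mul, inv_one, mul_one, eq_comm, mul_eq_right] at h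
  have hz0 : z = 1 := by
    have h : orderOf z ∣ Nat.gcd (p ^ i) (r ^ j) :=
      Nat.dvd_gcd (orderOf_dvd_of_pow_eq_one hz1) (orderOf_dvd_of_pow_eq_one hz2)
    rw [((Nat.coprime_primes hp hr).2 hpr).pow i j, Nat.dvd_one, orderOf_eq_one_iff] at h
    exact h
  have hBr : B ^ r = 1 := by
    have hm : B ^ r ∈ Z := by
      refine (QuotientGroup.eq_one_iff _).1 ?_
      rw [QuotientGroup.mk_pow, hB, ← hb, pow_orderOf_eq_one]
    have h1 : orderOf (B ^ r) ∣ r ^ j := orderOf_dvd_of_pow_eq_one (by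
      rw [← pow_mul, mul_comm, pow_mul, hBj, one_pow])
    have h2 : orderOf (B ^ r) ∣ Nat.card Z := Subgroup.orderOf_dvd_natCard Z hm
    obtain ⟨k, -, hk⟩ := (Nat.dvd_prime_pow hr).1 h1
    rcases Nat.eq_zero_or_pos k with rfl | hk0
    · exact orderOf_eq_one_iff.1 (by rw [hk, pow_zero])
    · exact absurd ((dvd_pow_self r hk0.ne').trans (hk ▸ h2)) hrZ
  refine ⟨A, B, ?_, hA1, ⟨i, hAi⟩, hBZ, hBr⟩
  rw [hz0, one_mul] at hconj
  exact (mul_inv_eq_iff_eq_mul.1 hconj).symm

end Group

section Linear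

variable {K : Type*} [Field K] [Fintype K] {V : Type*} [AddCommGroup V] [Module K V]
  [FiniteDimensional K V] {r : ℕ} [Fact r.Prime]

/-- The fixed points of `B`. -/
def fix (B : V →ₗ[K] V) : Submodule K V := LinearMap.ker (B - 1)

omit [Fintype K] [FiniteDimensional K V] in
theorem mem_fix {B : V →ₗ[K] V} {v : V} : v ∈ fix B ↔ B v = v := by
  rw [fix, LinearMap.mem_ker, LinearMap.sub_apply, Module.End.one_apply, sub_eq_zero]

omit [Fintype K] [FiniteDimensional K V] in
/-- The restriction of a map of order dividing `r` to an invariant subspace, as a permutation. -/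
theorem exists_perm {B : V →ₗ[K] V} (hBr : B ^ r = 1) (U : Submodule K V) (hU : ∀ u ∈ U, B u ∈ U) :
    ∃ σ : Equiv.Perm U, σ ^ r ^ 1 = 1 ∧ ∀ u : U, (σ u : V) = B u := by
  have hit : ∀ (k : ℕ) (u : V), u ∈ U → (B ^ k) u ∈ U := by
    intro k
    induction k with
    | zero => intro u hu; simpa using hu
    | succ k ih => intro u hu; rw [pow_succ', Module.End.mul_apply]; exact hU _ (ih u hu)
  have hr : 0 < r := (Fact.out : r.Prime).pos
  have h1 : ∀ v, (B ^ (r - 1)) (B v) = v := fun v => by
    rw [← Module.End.mul_apply, ← pow_succ, Nat.sub_add_cancel hr, hBr, Module.End.one_apply]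
  have h2 : ∀ v, B ((B ^ (r - 1)) v) = v := fun v => by
    rw [← Module.End.mul_apply, ← pow_succ', Nat.sub_add_cancel hr, hBr, Module.End.one_apply]
  obtain ⟨σ, hσ⟩ : ∃ σ : Equiv.Perm U, ∀ u : U, (σ u : V) = B u :=
    ⟨⟨fun u => ⟨B u, hU u u.2⟩, fun u => ⟨(B ^ (r - 1)) u, hit _ u u.2⟩,
      fun u => Subtype.ext (h1 u), fun u => Subtype.ext (h2 u)⟩, fun u => rfl⟩
  refine ⟨σ, ?_, hσ⟩
  have hpow : ∀ (k : ℕ) (u : U), ((σ ^ k) u : V) = (B ^ k) u := by
    intro k
    induction k with
    | zero => intro u; simp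
    | succ k ih => intro u; rw [pow_succ', pow_succ', Equiv.Perm.mul_apply, hσ, ih, Module.End.mul_apply]
  refine Equiv.ext fun u => Subtype.ext ?_
  rw [hpow, pow_one, hBr]
  rfl

/-- An invariant subspace and its fixed points have dimensions congruent modulo the order of `q`. -/
theorem finrank_modEq {B : V →ₗ[K] V} (hBr : B ^ r = 1) (hq : (Fintype.card K : ZMod r) ≠ 0)
    (U : Submodule K V) (hU : ∀ u ∈ U, B u ∈ U) :
    finrank K U ≡ finrank K ↥(U ⊓ fix B) [MOD orderOf (Fintype.card K : ZMod r)] := by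
  classical
  have : Finite V := Module.finite_of_finite K
  have := Fintype.ofFinite U
  obtain ⟨σ, hσr, hσ⟩ := exists_perm (r := r) hBr U hU
  have h := Equiv.Perm.card_compl_support_modEq hσr
  have hfix : σ.supportᶜ.card = Nat.card ↥(U ⊓ fix B) := by
    rw [← Nat.card_eq_finsetCard]
    refine Nat.card_congr
      { toFun := fun x => ⟨x.1.1, x.1.2, mem_fix.2 ?_⟩
        invFun := fun y => ⟨⟨y.1, y.2.1⟩, ?_⟩
        left_inv := fun x => rfl
        right_inv := fun y => rfl }
    · have := Equiv.Perm.notMem_support.1 (Finset.mem_compl.1 x.2)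
      rw [← hσ, this]
    · rw [Finset.mem_compl, Equiv.Perm.notMem_support]
      exact Subtype.ext ((hσ _).trans (mem_fix.1 y.2.2))
  rw [hfix, ← Nat.card_eq_fintype_card, natCard_eq_pow_finrank (K := K) (V := ↥U), natCard_eq_pow_finrank (K := K) (V := ↥(U ⊓ fix B)),
    Nat.card_eq_fintype_card, ← ZMod.natCast_eq_natCast_iff, Nat.cast_pow, Nat.cast_pow] at h
  have h' : (Units.mk0 (Fintype.card K : ZMod r) hq) ^ finrank K U
      = (Units.mk0 (Fintype.card K : ZMod r) hq) ^ finrank K ↥(U ⊓ fix B) := Units.ext (by simpa using h.symm)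
  rw [pow_eq_pow_iff_modEq, ← orderOf_units, Units.val_mk0] at h'
  exact h'

omit [Fintype K] in
theorem finrank_fix_lt {B : V →ₗ[K] V} (hB : B ≠ 1) : finrank K (fix B) < finrank K V := by
  refine lt_of_le_of_ne (Submodule.finrank_le _) fun h => hB ?_
  refine LinearMap.ext fun v => mem_fix.1 ?_
  rw [Submodule.eq_top_of_finrank_eq h]
  exact Submodule.mem_top

omit [Fintype K] in
theorem ker_inf_range_ne_bot {N : V →ₗ[K] V} (hN : N ≠ 0) (hnil : IsNilpotent N) :
    LinearMap.ker N ⊓ LinearMap.range N ≠ ⊥ := by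
  intro h
  obtain ⟨k, hk⟩ := hnil
  refine hN (LinearMap.ext fun v => ?_)
  have hinj : ∀ (j : ℕ) (w : V), w ∈ LinearMap.range N → (N ^ j) w = 0 → w = 0 := by
    intro j
    induction j with
    | zero => intro w _ hw; simpa using hw
    | succ j ih =>
      intro w hwr hw
      rw [pow_succ, Module.End.mul_apply] at hw
      have h0 := ih (N w) ⟨w, rfl⟩ hw
      have : w ∈ LinearMap.ker N ⊓ LinearMap.range N := ⟨h0, hwr⟩
      rwa [h, Submodule.mem_bot] at this
  exact hinj k (N v) ⟨v, rfl⟩ (by rw [hk]; rfl)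

omit [Fintype K] [FiniteDimensional K V] in
theorem commute_apply {B N : V →ₗ[K] V} (h : Commute B N) (v : V) : B (N v) = N (B v) := by
  rw [← Module.End.mul_apply, h.eq, Module.End.mul_apply]

/-- The multiplicative order of `q` is at most `dim V - 2`. -/
theorem ord_add_two_le {B N : V →ₗ[K] V} (hBr : B ^ r = 1) (hB : B ≠ 1) (hN : N ≠ 0)
    (hnil : IsNilpotent N) (hcomm : Commute B N) (hq : (Fintype.card K : ZMod r) ≠ 0)
    (hd : 2 ≤ orderOf (Fintype.card K : ZMod r)) :
    orderOf (Fintype.card K : ZMod r) + 2 ≤ finrank K V := by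
  classical
  obtain ⟨d, hd'⟩ : ∃ d, orderOf (Fintype.card K : ZMod r) = d := ⟨_, rfl⟩
  have hmod := fun U hU => hd' ▸ finrank_modEq hBr hq U hU
  rw [hd'] at hd ⊢
  by_contra hlt
  have hkerinv : ∀ u ∈ LinearMap.ker N, B u ∈ LinearMap.ker N := fun u hu => by
    rw [LinearMap.mem_ker, ← commute_apply hcomm, LinearMap.mem_ker.1 hu, map_zero]
  have hraninv : ∀ u ∈ LinearMap.range N, B u ∈ LinearMap.range N := by
    rintro u ⟨v, rfl⟩
    exact ⟨B v, (commute_apply hcomm v).symm⟩
  obtain ⟨f, hf⟩ : ∃ f, finrank K (fix B) = f := ⟨_, rfl⟩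
  have hV := hmod ⊤ fun u _ => Submodule.mem_top
  rw [finrank_top, top_inf_eq, hf] at hV
  have hflt := finrank_fix_lt hB
  rw [hf] at hflt
  have hdvd : d ∣ finrank K V - f := (Nat.modEq_iff_dvd' hflt.le).1 hV.symm
  have hdle := Nat.le_of_dvd (by omega) hdvd
  have hf1 : f ≤ 1 := by omega
  have hR := ker_inf_range_ne_bot hN hnil
  have hdim := LinearMap.finrank_range_add_finrank_ker N
  have hRpos : 0 < finrank K ↥(LinearMap.ker N ⊓ LinearMap.range N) :=
    Nat.pos_of_ne_zero fun h => hR (Submodule.finrank_eq_zero.1 h)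
  have hkle := Submodule.finrank_mono (inf_le_left : LinearMap.ker N ⊓ LinearMap.range N ≤ LinearMap.ker N)
  have hwle := Submodule.finrank_mono (inf_le_right : LinearMap.ker N ⊓ LinearMap.range N ≤ LinearMap.range N)
  have key : ∀ U : Submodule K V, (∀ u ∈ U, B u ∈ U) → 0 < finrank K U → finrank K U ≤ d →
      (finrank K U = 1 ∧ U ≤ fix B ∧ f = 1) ∨ (finrank K U = d ∧ U ⊓ fix B = ⊥) := by
    intro U hU h0 hUd
    have hm := hmod U hU
    have hc : finrank K ↥(U ⊓ fix B) ≤ f := hf ▸ Submodule.finrank_mono inf_le_right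
    have hc2 : finrank K ↥(U ⊓ fix B) ≤ finrank K U := Submodule.finrank_mono inf_le_left
    have hdv := (Nat.modEq_iff_dvd' hc2).1 hm.symm
    rcases Nat.eq_zero_or_pos (finrank K ↥(U ⊓ fix B)) with hc0 | hc0
    · refine Or.inr ⟨?_, Submodule.finrank_eq_zero.1 hc0⟩
      rw [hc0, Nat.sub_zero] at hdv
      exact le_antisymm hUd (Nat.le_of_dvd h0 hdv)
    · have hlt' : finrank K U - finrank K ↥(U ⊓ fix B) < d := by omega
      have h0' := Nat.eq_zero_of_dvd_of_lt hdv hlt'
      refine Or.inl ⟨by omega, ?_, by omega⟩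
      exact inf_eq_left.1 (Submodule.eq_of_le_of_finrank_eq inf_le_left (by omega))
  have hkd : finrank K (LinearMap.ker N) ≤ d := by omega
  have hwd : finrank K (LinearMap.range N) ≤ d := by omega
  rcases key _ hkerinv (by omega) hkd with ⟨hk1, hkf, hf'⟩ | ⟨hk1, hkf⟩
  · rcases key _ hraninv (by omega) hwd with ⟨hw1, -, -⟩ | ⟨-, hwf⟩
    · omega
    · refine hR (le_bot_iff.1 ?_)
      rw [← hwf]
      exact le_inf inf_le_right (inf_le_left.trans hkf)
  · rcases key _ hraninv (by omega) hwd with ⟨-, hwf, -⟩ | ⟨hw1, -⟩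
    · refine hR (le_bot_iff.1 ?_)
      rw [← hkf]
      exact le_inf inf_le_left (inf_le_right.trans hwf)
    · omega

end Linear

section Unitary

variable {K : Type*} [Field K] [Fintype K] {σ : K ≃+* K} {q : ℕ} {r : ℕ} [Fact r.Prime]
  {V : Type*} [AddCommGroup V] [Module K V] [FiniteDimensional K V] {h : V → V → K}

/-- A non-trivial isometry of order `r` of a hermitian space forces `(-q)^i = 1` for some `i ≤ dim`. -/
theorem exists_pow_eq_one (hσ : IsUSigma q σ) (H : IsHermND σ h) {T : V →ₗ[K] V} (hTr : T ^ r = 1)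
    (hT : T ≠ 1) (hiso : ∀ x y, h (T x) (T y) = h x y) (hrq : ¬ r ∣ q) :
    ∃ i, 1 ≤ i ∧ i ≤ finrank K V ∧ (-(q : ZMod r)) ^ i = 1 := by
  classical
  obtain ⟨n, hn⟩ : ∃ n, finrank K V = n := ⟨_, rfl⟩
  have : Finite V := Module.finite_of_finite K
  have : Finite (UFam h n) := Subtype.finite
  have := Fintype.ofFinite (UFam h n)
  have hfun : ∀ (k : ℕ) (x y : V), h ((T ^ k) x) ((T ^ k) y) = h x y := by
    intro k
    induction k with
    | zero => intro x y; simp
    | succ k ih => intro x y; rw [pow_succ', Module.End.mul_apply, Module.End.mul_apply, hiso, ih]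
  have hr0 : 0 < r := (Fact.out : r.Prime).pos
  let e : ℕ → UFam h n → UFam h n := fun k f =>
    ⟨fun i => (T ^ k) (f.1 i), fun i j => (hfun k _ _).trans (f.2 i j)⟩
  have he : ∀ (k l : ℕ) (f : UFam h n), e k (e l f) = e (k + l) f := fun k l f =>
    Subtype.ext (funext fun i => by
      show (T ^ k) ((T ^ l) (f.1 i)) = (T ^ (k + l)) (f.1 i)
      rw [pow_add, Module.End.mul_apply])
  have her : ∀ f, e r f = f := fun f => Subtype.ext (funext fun i => by
    show (T ^ r) (f.1 i) = f.1 i
    rw [hTr, Module.End.one_apply])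
  obtain ⟨s, hs⟩ : ∃ s : Equiv.Perm (UFam h n), ∀ f, s f = e 1 f :=
    ⟨⟨e 1, e (r - 1), fun f => by rw [he, Nat.sub_add_cancel hr0, her],
      fun f => by rw [he, Nat.add_sub_cancel' hr0, her]⟩, fun f => rfl⟩
  have hpow : ∀ (k : ℕ) f, (s ^ k) f = e k f := by
    intro k
    induction k with
    | zero => intro f; exact Subtype.ext (funext fun i => by simp [e])
    | succ k ih => intro f; rw [pow_succ', Equiv.Perm.mul_apply, hs, ih, he, Nat.add_comm]
  have hsr : s ^ r ^ 1 = 1 := Equiv.ext fun f => by rw [hpow, pow_one, her]; rfl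
  have hnofix : s.supportᶜ.card = 0 := by
    rw [Finset.card_eq_zero, Finset.eq_empty_iff_forall_notMem]
    intro f hf
    rw [Finset.mem_compl, Equiv.Perm.notMem_support, hs] at hf
    have hli : LinearIndependent K f.1 := by
      rw [Fintype.linearIndependent_iff]
      intro g hg j
      have h1 := congrArg (fun v => h v (f.1 j)) hg
      simp only [H.sum_left, H.smul_left, H.zero_left, f.2, mul_ite, mul_one, mul_zero,
        Finset.sum_ite_eq', Finset.mem_univ, if_true] at h1
      exact h1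
    have hspan := hli.span_eq_top_of_card_eq_finrank' (by rw [Fintype.card_fin, hn])
    refine hT (LinearMap.ext_on_range hspan fun i => ?_)
    have := congrFun (congrArg Subtype.val hf) i
    simpa [e] using this
  have hcard := Equiv.Perm.card_compl_support_modEq hsr
  rw [hnofix, ← Nat.card_eq_fintype_card, card_fam hσ n H hn, card_fam_closed hσ] at hcard
  have hdvd := Nat.modEq_zero_iff_dvd.1 hcard.symm
  rcases (Fact.out : r.Prime).dvd_mul.1 hdvd with hd | hd
  · exact absurd ((Fact.out : r.Prime).dvd_of_dvd_pow hd) hrq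
  obtain ⟨i, hi, hd⟩ := (Prime.dvd_finsetProd_iff (Fact.out : r.Prime).prime _).1 hd
  have hi' := Finset.mem_range.1 hi
  refine ⟨i + 1, by omega, by omega, ?_⟩
  split_ifs at hd with he2
  · rw [← ZMod.natCast_eq_zero_iff, Nat.cast_add, Nat.cast_pow, Nat.cast_one, add_eq_zero_iff_eq_neg] at hd
    rw [(Even.add_one he2).neg_pow, hd, neg_neg]
  · have h1 : 1 ≤ q ^ (i + 1) := Nat.one_le_pow _ _ (by have := hσ.two_le; omega)
    rw [← ZMod.natCast_eq_zero_iff, Nat.cast_sub h1, Nat.cast_pow, Nat.cast_one, sub_eq_zero] at hd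
    rw [(Nat.not_even_iff_odd.1 he2).add_one.neg_pow, hd]

omit [Fintype K] in
theorem radical_bot (H : IsHermND σ h) {C : Submodule K V} {B : V →ₗ[K] V} (hC : C = fix B)
    (hBr : B ^ r = 1) (hr : (r : K) ≠ 0) (hiso : ∀ x y, h (B x) (B y) = h x y) :
    ∀ x ∈ C, (∀ y ∈ C, h x y = 0) → x = 0 := by
  intro x hx hxy
  subst hC
  refine H.nondeg x fun v => ?_
  have hfun : ∀ (k : ℕ), h x ((B ^ k) v) = h x v := by
    intro k
    induction k with
    | zero => simp
    | succ k ih =>
      rw [← ih, ← hiso x ((B ^ k) v), mem_fix.1 hx, pow_succ', Module.End.mul_apply]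
  have hP : (∑ k ∈ Finset.range r, (B ^ k) v) ∈ fix B := by
    rw [mem_fix, map_sum]
    have h1 := Finset.sum_range_succ' (fun k => (B ^ k) v) r
    have h2 := Finset.sum_range_succ (fun k => (B ^ k) v) r
    rw [h1, hBr, pow_zero, add_left_inj] at h2
    rw [← h2]
    exact Finset.sum_congr rfl fun k _ => by rw [pow_succ', Module.End.mul_apply]
  have hsum : h x (∑ k ∈ Finset.range r, (B ^ k) v) = (r : K) * h x v := by
    rw [← H.symm _ x, H.sum_left, map_sum, Finset.sum_congr rfl fun k _ => (H.symm _ x).trans (hfun k),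
      Finset.sum_const, Finset.card_range, nsmul_eq_mul]
  rw [hxy _ hP, eq_comm, mul_eq_zero] at hsum
  exact hsum.resolve_left hr

/-- The orthogonal complement. -/
def perp (H : IsHermND σ h) (W : Submodule K V) : Submodule K V where
  carrier := {v | ∀ w ∈ W, h v w = 0}
  add_mem' {a b} ha hb w hw := by rw [H.add_left, ha w hw, hb w hw, add_zero]
  zero_mem' w _ := H.zero_left w
  smul_mem' c a ha w hw := by rw [H.smul_left, ha w hw, mul_zero]

omit [Fintype K] in
theorem mem_perp {H : IsHermND σ h} {W : Submodule K V} {v : V} : v ∈ perp H W ↔ ∀ w ∈ W, h v w = 0 :=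
  Iff.rfl

omit [Fintype K] in
theorem finrank_perp (H : IsHermND σ h) (W : Submodule K V) :
    finrank K V ≤ finrank K (perp H W) + finrank K W ∧ finrank K (perp H W) + finrank K W ≤ finrank K V := by
  classical
  let b := Module.finBasis K W
  have hker : ∀ (U : Submodule K V) (c : Basis (Fin (finrank K U)) K U),
      perp H U = LinearMap.ker (LinearMap.pi fun i => H.func (c i : V)) := by
    intro U c
    ext v
    simp only [LinearMap.mem_ker, funext_iff, LinearMap.pi_apply, H.func_apply, Pi.zero_apply, mem_perp]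
    refine ⟨fun hv i => hv _ (c i).2, fun hv w hw => ?_⟩
    have hw' : w = ∑ i, c.repr ⟨w, hw⟩ i • (c i : V) := by
      have := congrArg Subtype.val (c.sum_repr ⟨w, hw⟩).symm
      simpa only [AddSubmonoidClass.coe_finset_sum, Submodule.coe_smul] using this
    rw [hw', ← H.symm, H.sum_left, map_sum]
    refine Finset.sum_eq_zero fun i _ => ?_
    rw [H.smul_left, map_mul, H.symm, hv i, mul_zero]
  refine ⟨?_, ?_⟩
  · rw [hker W b, ← LinearMap.finrank_range_add_finrank_ker (LinearMap.pi fun i => H.func (b i : V))]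
    have := Submodule.finrank_le (LinearMap.range (LinearMap.pi fun i => H.func (b i : V)))
    rw [Module.finrank_fintype_fun_eq_card, Fintype.card_fin] at this
    omega
  · let Q := perp H W
    let c := Module.finBasis K Q
    let L := LinearMap.pi fun i => H.func (c i : V)
    have hWle : W ≤ LinearMap.ker L := fun w hw => by
      rw [← hker Q c, mem_perp]
      intro v hv
      rw [← H.symm, (mem_perp.1 hv) w hw, map_zero]
    have hsurj : LinearMap.range L = ⊤ := by
      by_contra hne
      obtain ⟨φ, hφ0, hφ⟩ := Submodule.exists_le_ker_of_lt_top _ (lt_top_iff_ne_top.2 hne)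
      let a : Fin (finrank K Q) → K := fun i => φ (Pi.single i 1)
      have hφe : ∀ z, φ z = ∑ i, z i * a i := fun z => by
        conv_lhs => rw [pi_eq_sum_univ' z]
        simp [a, map_sum]
      have hzero : (∑ i, σ.symm (a i) • (c i : V)) = 0 := by
        refine H.nondeg _ fun v => ?_
        rw [← H.symm v, ← map_zero σ]
        refine congrArg σ ?_
        have hLv : φ (L v) = 0 := hφ ⟨v, rfl⟩
        rw [hφe] at hLv
        have hh : h v (∑ i, σ.symm (a i) • (c i : V)) = σ (h (∑ i, σ.symm (a i) • (c i : V)) v) :=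
          (H.symm _ v).symm
        rw [hh, H.sum_left, map_sum, ← hLv]
        refine Finset.sum_congr rfl fun i _ => ?_
        rw [H.smul_left, map_mul, σ.apply_symm_apply, H.symm, mul_comm]
        rfl
      have hz : (∑ i, σ.symm (a i) • c i) = 0 := Subtype.ext (by
        simpa only [AddSubmonoidClass.coe_finset_sum, Submodule.coe_smul, Submodule.coe_zero] using hzero)
      have ha := Fintype.linearIndependent_iff.1 c.linearIndependent _ hz
      exact hφ0 (LinearMap.ext fun z => by
        rw [hφe, LinearMap.zero_apply]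
        refine Finset.sum_eq_zero fun i _ => ?_
        rw [(EmbeddingLike.map_eq_zero_iff.1 (ha i) : a i = 0), mul_zero])
    have h1 := LinearMap.finrank_range_add_finrank_ker L
    rw [hsurj, finrank_top, Module.finrank_fintype_fun_eq_card, Fintype.card_fin] at h1
    have := Submodule.finrank_mono hWle
    have hQ : finrank K Q = finrank K (perp H W) := rfl
    omega

/-- The unitary bound. -/
theorem unitary_bound (hσ : IsUSigma q σ) (H : IsHermND σ h) {B N : V →ₗ[K] V} (hBr : B ^ r = 1)
    (hB : B ≠ 1) (hN : N ≠ 0) (hnil : IsNilpotent N) (hcomm : Commute B N)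
    (hBiso : ∀ x y, h (B x) (B y) = h x y) (hNiso : ∀ x y, h (x + N x) (y + N y) = h x y)
    (hrq : ¬ r ∣ q) (hrK : (r : K) ≠ 0) (he : 2 ≤ orderOf (Fintype.card K : ZMod r)) :
    orderOf (-(q : ZMod r)) + 2 ≤ finrank K V := by
  classical
  have hq0 : (q : ZMod r) ≠ 0 := fun h0 => hrq ((ZMod.natCast_eq_zero_iff _ _).1 h0)
  have hcq : (Fintype.card K : ZMod r) = (-(q : ZMod r)) ^ 2 := by
    rw [hσ.card, Nat.cast_pow, neg_pow_two]
  have hq2 : (Fintype.card K : ZMod r) ≠ 0 := by rw [hcq]; exact pow_ne_zero _ (neg_ne_zero.2 hq0)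
  have hlin := ord_add_two_le hBr hB hN hnil hcomm hq2 he
  obtain ⟨e, hedef⟩ : ∃ e, orderOf (Fintype.card K : ZMod r) = e := ⟨_, rfl⟩
  obtain ⟨o, hodef⟩ : ∃ o, orderOf (-(q : ZMod r)) = o := ⟨_, rfl⟩
  rw [hedef] at hlin he
  rw [hodef]
  by_contra hlt
  have hx : (-(q : ZMod r)) ^ (2 * e) = 1 := by
    rw [pow_mul, ← hcq, ← hedef, pow_orderOf_eq_one]
  have ho2e : o ∣ 2 * e := hodef ▸ orderOf_dvd_of_pow_eq_one hx
  have heo : e ∣ o := by
    rw [← hedef]
    refine orderOf_dvd_of_pow_eq_one ?_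
    rw [hcq, ← pow_mul, mul_comm, pow_mul, ← hodef, pow_orderOf_eq_one, one_pow]
  have ho : o = 2 * e := by
    obtain ⟨k, hk⟩ := heo
    have h2 : k ∣ 2 := by
      rw [hk, mul_comm 2 e] at ho2e
      exact (Nat.mul_dvd_mul_iff_left (by omega)).1 ho2e
    rcases (Nat.dvd_prime Nat.prime_two).1 h2 with rfl | rfl
    · omega
    · omega
  have hsmall : ∀ i, 1 ≤ i → i < 2 * e → (-(q : ZMod r)) ^ i ≠ 1 := fun i h1 h2 h3 => by
    have := Nat.le_of_dvd h1 (hodef ▸ orderOf_dvd_of_pow_eq_one h3 : o ∣ i)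
    omega
  have hmod := fun U hU => hedef ▸ finrank_modEq hBr hq2 U hU
  have hCnd := radical_bot H (C := fix B) rfl hBr hrK hBiso
  -- the complement of the fixed space
  obtain ⟨f, hf⟩ : ∃ f, finrank K (fix B) = f := ⟨_, rfl⟩
  have hDinv : ∀ v ∈ perp H (fix B), B v ∈ perp H (fix B) := fun v hv w hw => by
    have := hv w hw
    rwa [← hBiso v w, mem_fix.1 hw] at this
  have hDnd : ∀ x ∈ perp H (fix B), (∀ y ∈ perp H (fix B), h x y = 0) → x = 0 := by
    intro x hx hxy
    have hdis : fix B ⊓ perp H (fix B) = ⊥ := by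
      rw [Submodule.eq_bot_iff]
      exact fun v hv => hCnd v hv.1 fun y hy => hv.2 y hy
    have htop : fix B ⊔ perp H (fix B) = ⊤ := by
      refine Submodule.eq_top_of_finrank_eq ?_
      have h1 := Submodule.finrank_sup_add_finrank_inf_eq (fix B) (perp H (fix B))
      rw [hdis, finrank_bot] at h1
      have := finrank_perp H (fix B)
      omega
    refine H.nondeg x fun v => ?_
    obtain ⟨c, hc, d, hd, rfl⟩ := Submodule.mem_sup.1 (htop ▸ Submodule.mem_top : v ∈ fix B ⊔ perp H (fix B))
    rw [H.add_right, hx c hc, hxy d hd, add_zero]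
  have hflt := finrank_fix_lt hB
  have hf1 : f ≤ 1 := by
    by_contra hf2
    obtain ⟨T, hT⟩ : ∃ T : perp H (fix B) →ₗ[K] perp H (fix B), ∀ v, (T v : V) = B v :=
      ⟨B.restrict hDinv, fun v => rfl⟩
    have hTpow : ∀ (k : ℕ) v, ((T ^ k) v : V) = (B ^ k) v := by
      intro k
      induction k with
      | zero => intro v; simp
      | succ k ih => intro v; rw [pow_succ', pow_succ', Module.End.mul_apply, Module.End.mul_apply, hT, ih]
    obtain ⟨i, hi1, hi2, hi3⟩ := exists_pow_eq_one (T := T) hσ (H.res hDnd)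
      (LinearMap.ext fun v => Subtype.ext (by rw [hTpow, hBr]; rfl))
      (fun hT1 => by
        have hle : perp H (fix B) ≤ fix B := fun v hv => mem_fix.2 (by
          have := hT ⟨v, hv⟩
          rw [hT1] at this
          exact this.symm)
        have := finrank_perp H (fix B)
        have h0 : perp H (fix B) = ⊥ := by
          rw [Submodule.eq_bot_iff]
          exact fun v hv => hCnd v (hle hv) fun y hy => hv y hy
        rw [h0, finrank_bot] at this
        omega)
      (fun x y => by show h (T x : V) (T y) = h x y; rw [hT, hT, hBiso]) hrq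
    have := finrank_perp H (fix B)
    exact hsmall i hi1 (by omega) hi3
  -- kernel and image
  have hu : Function.Surjective fun y : V => y + N y := by
    have hunit : IsUnit (1 + N) := hnil.isUnit_one_add
    obtain ⟨u, hu⟩ := hunit
    intro y
    refine ⟨(↑u⁻¹ : V →ₗ[K] V) y, ?_⟩
    have := congrArg (fun g : V →ₗ[K] V => g y) u.mul_inv
    rw [hu] at this
    simpa using this
  have hKW : ∀ x, ∀ y ∈ LinearMap.ker N, h (N x) y = 0 := by
    intro x y hy
    have h1 := hNiso x y
    rwa [LinearMap.mem_ker.1 hy, add_zero, H.add_left, add_eq_left] at h1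
  obtain ⟨R, hRdef⟩ : ∃ R, R = LinearMap.ker N ⊓ LinearMap.range N := ⟨_, rfl⟩
  have hR0 : R ≠ ⊥ := hRdef ▸ ker_inf_range_ne_bot hN hnil
  have hRiso : R ≤ perp H R := by
    intro x hx y hy
    rw [hRdef] at hx hy
    obtain ⟨x', rfl⟩ := hx.2
    exact hKW x' y hy.1
  have hKR : LinearMap.ker N ≤ perp H R := by
    intro x hx y hy
    rw [hRdef] at hy
    obtain ⟨y', rfl⟩ := hy.2
    rw [← H.symm, hKW y' x hx, map_zero]
  have hWR : LinearMap.range N ≤ perp H R := by
    rintro _ ⟨x, rfl⟩ y hy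
    rw [hRdef] at hy
    exact hKW x y hy.1
  have hkerinv : ∀ u ∈ LinearMap.ker N, B u ∈ LinearMap.ker N := fun u hu => by
    rw [LinearMap.mem_ker, ← commute_apply hcomm, LinearMap.mem_ker.1 hu, map_zero]
  have hraninv : ∀ u ∈ LinearMap.range N, B u ∈ LinearMap.range N := by
    rintro u ⟨v, rfl⟩
    exact ⟨B v, (commute_apply hcomm v).symm⟩
  have hV := hmod ⊤ fun u _ => Submodule.mem_top
  rw [finrank_top, top_inf_eq, hf] at hV
  have hmV : finrank K V = 2 * e + f := by
    rw [hf] at hflt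
    obtain ⟨k, hk⟩ := (Nat.modEq_iff_dvd' hflt.le).1 hV.symm
    have hk2 : k ≤ 2 := by
      by_contra hk3
      have : e * 3 ≤ e * k := Nat.mul_le_mul_left _ (by omega)
      omega
    interval_cases k
    · omega
    · omega
    · omega
  have hCfix : ∀ c ∈ fix B, h c c = 0 → c = 0 := by
    intro c hc hcc
    by_contra hne
    refine hne (hCnd c hc fun y hy => ?_)
    have hsp : Submodule.span K {c} = fix B :=
      Submodule.eq_of_le_of_finrank_le ((Submodule.span_singleton_le_iff_mem _ _).2 hc)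
        (by rw [finrank_span_singleton hne]; omega)
    rw [← hsp, Submodule.mem_span_singleton] at hy
    obtain ⟨a, rfl⟩ := hy
    rw [H.smul_right, hcc, mul_zero]
  have hRfix : R ⊓ fix B = ⊥ := by
    rw [Submodule.eq_bot_iff]
    exact fun v hv => hCfix v hv.2 (hRiso hv.1 v hv.1)
  have hRdim : finrank K R = e := by
    have hRinv : ∀ u ∈ R, B u ∈ R := fun u hu => by
      rw [hRdef] at hu ⊢; exact ⟨hkerinv u hu.1, hraninv u hu.2⟩
    have h1 := hmod R hRinv
    rw [hRfix, finrank_bot, Nat.modEq_zero_iff_dvd] at h1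
    have hpos : 0 < finrank K R := Nat.pos_of_ne_zero fun h => hR0 (Submodule.finrank_eq_zero.1 h)
    have h2 := Submodule.finrank_mono hRiso
    have h3 := finrank_perp H R
    obtain ⟨k, hk⟩ := h1
    have hk1 : k < 2 := by
      by_contra hk3
      have : e * 2 ≤ e * k := Nat.mul_le_mul_left _ (by omega)
      omega
    interval_cases k <;> omega
  have hperpR : finrank K (perp H R) ≤ e + f := by have := finrank_perp H R; omega
  have hdim := LinearMap.finrank_range_add_finrank_ker N
  have hRK : R ≤ LinearMap.ker N := hRdef ▸ inf_le_left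
  have hRW : R ≤ LinearMap.range N := hRdef ▸ inf_le_right
  have hCK : fix B ≤ LinearMap.ker N := by
    intro c hc
    rw [LinearMap.mem_ker]
    have hNc : N c ∈ fix B := mem_fix.2 (by rw [commute_apply hcomm, mem_fix.1 hc])
    by_contra hne
    obtain ⟨a, ha⟩ : ∃ a : K, a • c = N c := by
      have hc0 : c ≠ 0 := fun h0 => hne (by rw [h0, map_zero])
      have hsp : Submodule.span K {c} = fix B :=
        Submodule.eq_of_le_of_finrank_le ((Submodule.span_singleton_le_iff_mem _ _).2 hc)
          (by rw [finrank_span_singleton hc0]; omega)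
      exact Submodule.mem_span_singleton.1 (hsp ▸ hNc)
    obtain ⟨k, hk⟩ := hnil
    have hit : ∀ j, (N ^ j) c = a ^ j • c := by
      intro j
      induction j with
      | zero => simp
      | succ j ih => rw [pow_succ', Module.End.mul_apply, ih, map_smul, ← ha, smul_smul, ← pow_succ]
    have := hit k
    rw [hk, LinearMap.zero_apply, eq_comm, smul_eq_zero] at this
    rcases this with h0 | h0
    · exact hne (by rw [← ha, pow_eq_zero_iff'.1 h0 |>.1, zero_smul])
    · exact hne (by rw [h0, map_zero])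
  have hWR' : LinearMap.range N = R := by
    refine (Submodule.eq_of_le_of_finrank_le hRW ?_).symm
    have h1 := Submodule.finrank_sup_add_finrank_inf_eq R (fix B)
    rw [hRfix, finrank_bot] at h1
    have h2 := Submodule.finrank_mono (sup_le hRK hCK)
    have h3 := Submodule.finrank_mono hKR
    omega
  -- the form on the image
  obtain ⟨ω, hω0, hω⟩ := hσ.exists_skew
  obtain ⟨s, hs⟩ := LinearMap.exists_rightInverse_of_surjective N.rangeRestrict
    (LinearMap.range_eq_top.2 (LinearMap.surjective_rangeRestrict N))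
  have hs' : ∀ a : LinearMap.range N, N (s a) = a := fun a => congrArg Subtype.val (LinearMap.congr_fun hs a)
  have hskew : ∀ x y, h (N x) y = -h x (N y) := by
    intro x y
    have h1 := hNiso x y
    have hy : N y ∈ LinearMap.ker N := hRK (hWR' ▸ ⟨y, rfl⟩)
    rw [H.add_left, H.add_right, H.add_right, hKW x (N y) hy] at h1
    linear_combination h1
  have hσω : σ ω = -ω := by linear_combination hω
  have HR : IsHermND σ (fun a b : LinearMap.range N => ω * h (s a) (b : V)) := by
    refine ⟨fun x y z => ?_, fun c x z => ?_, fun x y => ?_, fun x hx => ?_⟩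
    · simp only [map_add, H.add_left, mul_add]
    · simp only [map_smul, H.smul_left]; ring
    · show σ (ω * h (s x) (y : V)) = ω * h (s y) (x : V)
      rw [map_mul, H.symm, hσω, ← hs' y, hskew, hs']
      ring
    · have h0 : N (s x) = 0 := H.nondeg _ fun v => by
        have h1 : ω * h (s x) (N v) = 0 := hx ⟨N v, ⟨v, rfl⟩⟩
        rw [hskew, (mul_eq_zero.1 h1).resolve_left hω0, neg_zero]
      exact Subtype.ext ((hs' x).symm.trans h0)
  obtain ⟨T, hT⟩ : ∃ T : LinearMap.range N →ₗ[K] LinearMap.range N, ∀ v, (T v : V) = B v :=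
    ⟨B.restrict hraninv, fun v => rfl⟩
  have hTpow : ∀ (k : ℕ) v, ((T ^ k) v : V) = (B ^ k) v := by
    intro k
    induction k with
    | zero => intro v; simp
    | succ k ih => intro v; rw [pow_succ', pow_succ', Module.End.mul_apply, Module.End.mul_apply, hT, ih]
  obtain ⟨i, hi1, hi2, hi3⟩ := exists_pow_eq_one (T := T) hσ HR
    (LinearMap.ext fun v => Subtype.ext (by rw [hTpow, hBr]; rfl))
    (fun hT1 => hR0 (by
      rw [Submodule.eq_bot_iff]
      intro v hv
      have hfx : v ∈ fix B := mem_fix.2 (by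
        have := hT ⟨v, hRW hv⟩
        rw [hT1] at this
        exact this.symm)
      have : v ∈ R ⊓ fix B := ⟨hv, hfx⟩
      rwa [hRfix, Submodule.mem_bot] at this))
    (fun x y => by
      show ω * h (s (T x)) (T y : V) = ω * h (s x) (y : V)
      congr 1
      have hk : s (T x) - B (s x) ∈ LinearMap.ker N := by
        rw [LinearMap.mem_ker, map_sub, hs', hT, ← commute_apply hcomm, hs', sub_self]
      have h1 : h (s (T x) - B (s x)) (T y : V) = 0 := by
        obtain ⟨y', hy'⟩ := (T y).2
        rw [← hy', ← H.symm, hKW y' _ hk, map_zero]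
      rw [H.sub_left, sub_eq_zero] at h1
      rw [h1, hT, hBiso]) hrq
  rw [hWR'] at hi2
  exact hsmall i hi1 (by omega) hi3

end Unitary

end Cfsg.Agent.Small.NilCommutant
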