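import Cfsg.Agent.Lib.Small.SylowTwoKernel
import Cfsg.Agent.Lib.Char.SylowTwoLinear
import Cfsg.Agent.Lib.Small.OmegaTwoRank
import Cfsg.Agent.Lib.Classical.OrthClosed
import Cfsg.Agent.Lib.Small.Orth.Standard
import Mathlib.FieldTheory.IsAlgClosed.AlgebraicClosure

/-!
Sylow two-subgroups of the derived groups of the finite orthogonal groups of odd characteristic: every square
lies in the derived subgroup.
-/

set_option autoImplicit false
set_option linter.unusedSectionVars false
set_option linter.style.haveILetI false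

namespace Cfsg.Agent.Small.SylowTwoOmega

open Module QuadraticMap Cfsg.Agent.Classical Cfsg.Agent.Classical.OCount Cfsg.Agent.Classical.ORefl
  Cfsg.Agent.Classical.OOmega Cfsg.Agent.Char

section General

variable {F : Type*} [Field F]

/-- Isometric spaces have isomorphic groups. -/
def isoConj {V V' : Type*} [AddCommGroup V] [Module F V] [AddCommGroup V'] [Module F V'] {Q : QuadraticForm F V}
    {Q' : QuadraticForm F V'} (L : V' ≃ₗ[F] V) (hL : ∀ x, Q (L x) = Q' x) : ↥(Iso Q') ≃* ↥(Iso Q) where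
  toFun g := ⟨(L.symm.trans g.1).trans L, fun x => by
    show Q (L (g.1 (L.symm x))) = Q x
    rw [hL, g.2, ← hL, L.apply_symm_apply]⟩
  invFun g := ⟨(L.trans g.1).trans L.symm, fun x => by
    show Q' (L.symm (g.1 (L x))) = Q' x
    rw [← hL, L.apply_symm_apply, g.2, hL]⟩
  left_inv g := Subtype.ext (LinearEquiv.ext fun x => by simp)
  right_inv g := Subtype.ext (LinearEquiv.ext fun x => by simp)
  map_mul' g h := Subtype.ext (LinearEquiv.ext fun x => by simp [LinearEquiv.mul_apply])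

theorem sq_mem_commutator [Finite F] {ι : Type} [Fintype ι] [DecidableEq ι] {Q : QuadraticForm F (ι → F)}
    (h2 : (2 : F) ≠ 0) (hQ : PND Q) (g : ↥(Iso Q)) : g * g ∈ commutator ↥(Iso Q) := by
  haveI := Fintype.ofFinite F
  have hF : Nat.card F ≠ 2 := fun h => h2 (by
    have hc : Fintype.card F = 2 := by rwa [← Nat.card_eq_fintype_card]
    have h' := FiniteField.cast_card_eq_zero F
    rwa [hc, Nat.cast_ofNat] at h')
  obtain ⟨vs, hvs, rfl⟩ := Orth.exists_list hQ (Or.inl hF) g
  rw [← Orth.prodRf_append, Orth.mem_commutator_iff hQ _ fun v hv => (List.mem_append.1 hv).elim (hvs v) (hvs v),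
    List.length_append, List.map_append, List.prod_append]
  exact ⟨⟨_, rfl⟩, ⟨_, rfl⟩⟩

variable {κ : Type} [Fintype κ] [DecidableEq κ]

/-- A diagonal form. -/
noncomputable def dg (w : κ → F) : QuadraticForm F (κ → F) := weightedSumSquares F w

theorem dg_apply (w : κ → F) (x : κ → F) : dg w x = ∑ i, w i * (x i * x i) := by
  rw [dg, weightedSumSquares_apply]
  rfl

theorem dg_polar (w : κ → F) (x y : κ → F) : polar (dg w) x y = ∑ i, 2 * w i * (x i * y i) := by
  simp only [polar, dg_apply, ← Finset.sum_sub_distrib, Pi.add_apply]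
  exact Finset.sum_congr rfl fun i _ => by ring

theorem dg_pnd (h2 : (2 : F) ≠ 0) {w : κ → F} (hw : ∀ i, w i ≠ 0) : PND (dg w) := fun v hv => funext fun i => by
  have h := hv (Pi.single i 1)
  rw [dg_polar, Finset.sum_eq_single i (fun j _ hj => by rw [Pi.single_eq_of_ne hj]; ring) (by simp),
    Pi.single_eq_same, mul_one] at h
  exact (mul_eq_zero.1 h).resolve_left (mul_ne_zero h2 (hw i))

theorem of_basis {ι : Type} [Fintype ι] [DecidableEq ι] {Q : QuadraticForm F (ι → F)} (b : Basis κ F (ι → F))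
    (ho : ∀ i j, i ≠ j → polar Q (b i) (b j) = 0) {w : κ → F} (hv : ∀ i, Q (b i) = w i) (x : κ → F) :
    Q (b.equivFun.symm x) = dg w x := by
  have hb : ∀ i, b.equivFun.symm (Pi.single i 1) = b i := fun i => by
    rw [LinearEquiv.symm_apply_eq]
    funext j
    simp [Basis.equivFun_apply, Finsupp.single_apply, Pi.single_apply, eq_comm]
  have hdg : ∀ i, dg w (Pi.single i 1) = w i := fun i => by
    rw [dg_apply, Finset.sum_eq_single i (fun k _ hk => by rw [Pi.single_eq_of_ne hk]; ring) (by simp),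
      Pi.single_eq_same]
    ring
  have e : QuadraticMap.comp Q (b.equivFun.symm : (κ → F) →ₗ[F] (ι → F)) = dg w := by
    refine OCount.quad_ext (fun i => ?_) fun i j => ?_
    · rw [QuadraticMap.comp_apply, LinearEquiv.coe_coe, hb, hv, hdg]
    · have hp : polar (QuadraticMap.comp Q (b.equivFun.symm : (κ → F) →ₗ[F] (ι → F))) (Pi.single i 1)
          (Pi.single j 1) = polar Q (b i) (b j) := by
        simp only [polar, QuadraticMap.comp_apply, map_add, LinearEquiv.coe_coe, hb]
      rw [hp]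
      rcases eq_or_ne i j with rfl | hij
      · rw [QuadraticMap.polar_self, QuadraticMap.polar_self, hv, hdg]
      · rw [ho i j hij, dg_polar, Finset.sum_eq_zero]
        intro k _
        rcases eq_or_ne k i with rfl | hk
        · rw [Pi.single_eq_of_ne hij]; ring
        · rw [Pi.single_eq_of_ne hk]; ring
  exact LinearMap.congr_arg (f := (LinearMap.id : F →ₗ[F] F)) (congrFun (congrArg DFunLike.coe e) x)

/-- A weight preserving permutation. -/
noncomputable def pX (w : κ → F) (π : Equiv.Perm κ) (h : ∀ i, w (π i) = w i) : ↥(Iso (dg w)) :=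
  ⟨LinearEquiv.funCongrLeft F F π.symm, fun x => by
    rw [dg_apply, dg_apply]
    refine Fintype.sum_equiv π.symm _ _ fun i => ?_
    show w i * (x (π.symm i) * x (π.symm i)) = _
    conv_lhs => rw [← π.apply_symm_apply i, h]
    simp⟩

theorem pX_apply (w : κ → F) (π : Equiv.Perm κ) (h : ∀ i, w (π i) = w i) (x : κ → F) (i : κ) :
    (pX w π h).1 x i = x (π⁻¹ i) := rfl

/-- Diagonal signs. -/
noncomputable def sX (w : κ → F) : (κ → rootsOfUnity 2 F) →* ↥(Iso (dg w)) where
  toFun s := ⟨LinearEquiv.piCongrRight fun i => LinearEquiv.smulOfUnit (R := F) (M := F) (s i : Fˣ), fun x => by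
    rw [dg_apply, dg_apply]
    refine Finset.sum_congr rfl fun i _ => ?_
    show w i * (((s i : Fˣ) : F) • x i * (((s i : Fˣ) : F) • x i)) = _
    have h : ((s i : Fˣ) : F) * ((s i : Fˣ) : F) = 1 := by
      rw [← Units.val_mul, ← pow_two, (mem_rootsOfUnity 2 _).1 (s i).2, Units.val_one]
    rw [smul_eq_mul, show ((s i : Fˣ) : F) * x i * (((s i : Fˣ) : F) * x i) =
      ((s i : Fˣ) : F) * ((s i : Fˣ) : F) * (x i * x i) by ring, h, one_mul]⟩
  map_one' := Subtype.ext (LinearEquiv.ext fun x => funext fun i => by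
    show ((1 : Fˣ) : F) • x i = x i
    simp)
  map_mul' s t := Subtype.ext (LinearEquiv.ext fun x => funext fun i => by
    show ((((s * t) i : rootsOfUnity 2 F) : Fˣ) : F) • x i = ((s i : Fˣ) : F) • ((t i : Fˣ) : F) • x i
    simp [mul_assoc])

theorem sX_apply (w : κ → F) (s : κ → rootsOfUnity 2 F) (x : κ → F) (i : κ) :
    (sX w s).1 x i = ((s i : Fˣ) : F) * x i := rfl

/-- The sign `-1`. -/
def negRoot (F : Type*) [Field F] : rootsOfUnity 2 F := ⟨-1, by rw [mem_rootsOfUnity]; simp⟩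

/-- Two signs at coordinates of the same weight. -/
theorem sign_pair_mem (w : κ → F) {p q : κ} (hpq : p ≠ q) (hw : w p = w q) (N : Subgroup ↥(Iso (dg w)))
    (hN : ∀ g, g * g ∈ N) :
    sX w (Pi.mulSingle p (negRoot F)) * sX w (Pi.mulSingle q (negRoot F)) ∈ N := by
  have hsw : ∀ i, w (Equiv.swap p q i) = w i := fun i => by
    rcases eq_or_ne i p with rfl | hp
    · rw [Equiv.swap_apply_left, hw]
    · rcases eq_or_ne i q with rfl | hq
      · rw [Equiv.swap_apply_right, hw]
      · rw [Equiv.swap_apply_of_ne_of_ne hp hq]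
  convert hN (sX w (Pi.mulSingle p (negRoot F)) * pX w (Equiv.swap p q) hsw) using 1
  refine Subtype.ext (LinearEquiv.ext fun x => funext fun i => ?_)
  simp only [Subgroup.coe_mul, LinearEquiv.mul_apply, sX_apply, pX_apply, Equiv.swap_inv]
  rcases eq_or_ne i p with rfl | hp
  · rw [Equiv.swap_apply_left, Equiv.swap_apply_right, Pi.mulSingle_eq_of_ne hpq, Pi.mulSingle_eq_of_ne hpq.symm]
  · rcases eq_or_ne i q with rfl | hq
    · rw [Equiv.swap_apply_right, Equiv.swap_apply_left, Pi.mulSingle_eq_of_ne hp]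
      all_goals simp
    · rw [Equiv.swap_apply_of_ne_of_ne hp hq, Equiv.swap_apply_of_ne_of_ne hp hq, Pi.mulSingle_eq_of_ne hp,
        Pi.mulSingle_eq_of_ne hq]

end General

/-! ### The plane -/

section Plane

variable (F : Type*) [Field F]

/-- The sum of two squares. -/
noncomputable abbrev q2 : QuadraticForm F (Fin 2 → F) := dg (fun _ => (1 : F))

/-- The determinant. -/
noncomputable def det2 : ↥(Iso (q2 F)) →* Fˣ := (LinearEquiv.det).comp (Iso (q2 F)).subtype

/-- The reflection. -/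
noncomputable def refl : ↥(Iso (q2 F)) := sX _ (Pi.mulSingle 1 (negRoot F))

theorem entries (g : ↥(Iso (q2 F))) :
    g.1 ![1, 0] 0 ^ 2 + g.1 ![1, 0] 1 ^ 2 = 1 ∧
    g.1 ![0, 1] 0 ^ 2 + g.1 ![0, 1] 1 ^ 2 = 1 ∧
    2 * (g.1 ![1, 0] 0 * g.1 ![0, 1] 0 + g.1 ![1, 0] 1 * g.1 ![0, 1] 1) = 0 ∧
    (det2 F g : F) = g.1 ![1, 0] 0 * g.1 ![0, 1] 1 - g.1 ![0, 1] 0 * g.1 ![1, 0] 1 ∧
    ∀ x, g.1 x = x 0 • g.1 ![1, 0] + x 1 • g.1 ![0, 1] := by
  have h := fun x => g.2 x
  simp only [dg_apply, Fin.sum_univ_two, one_mul] at h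
  have h0 := h ![1, 0]
  have h1 := h ![0, 1]
  have h01 := h ![1, 1]
  have hlin : ∀ x, g.1 x = x 0 • g.1 ![1, 0] + x 1 • g.1 ![0, 1] := fun x => by
    rw [← map_smul, ← map_smul, ← map_add]
    congr 1
    funext i
    fin_cases i <;> simp
  rw [hlin ![1, 1]] at h01
  simp at h0 h1 h01
  refine ⟨by linear_combination h0, by linear_combination h1, by linear_combination h01 - h0 - h1, ?_, hlin⟩
  show ((LinearEquiv.det g.1 : Fˣ) : F) = _
  rw [LinearEquiv.coe_det, ← LinearMap.det_toMatrix', Matrix.det_fin_two]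
  simp only [LinearMap.toMatrix'_apply, LinearEquiv.coe_coe]
  have e0 : (Pi.single (0 : Fin 2) (1 : F)) = ![1, 0] := by funext i; fin_cases i <;> simp
  have e1 : (Pi.single (1 : Fin 2) (1 : F)) = ![0, 1] := by funext i; fin_cases i <;> simp
  rw [e0, e1]

theorem det_refl : (det2 F (refl F) : F) = -1 := by
  rw [(entries F (refl F)).2.2.2.1]
  simp [refl, sX_apply, negRoot]

variable [Fintype F] (h2 : (2 : F) ≠ 0)
include h2

theorem rotation_cyclic : IsCyclic ↥(det2 F).ker := by
  obtain ⟨I, hI⟩ := IsAlgClosed.exists_pow_nat_eq (-1 : AlgebraicClosure F) two_pos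
  let c := algebraMap F (AlgebraicClosure F)
  have hrot : ∀ g : ↥(det2 F).ker, g.1.1 ![0, 1] 0 = -g.1.1 ![1, 0] 1 ∧ g.1.1 ![0, 1] 1 = g.1.1 ![1, 0] 0 := by
    intro g
    obtain ⟨ha, -, ho, hdet, -⟩ := entries F g.1
    rw [MonoidHom.mem_ker.1 g.2, Units.val_one] at hdet
    have ho' := (mul_eq_zero.1 ho).resolve_left h2
    constructor
    · linear_combination (-(g.1.1 ![0, 1] 0)) * ha + (g.1.1 ![1, 0] 0) * ho' + (g.1.1 ![1, 0] 1) * hdet
    · linear_combination (-(g.1.1 ![0, 1] 1)) * ha + (g.1.1 ![1, 0] 1) * ho' - (g.1.1 ![1, 0] 0) * hdet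
  let f : ↥(det2 F).ker →* AlgebraicClosure F :=
    { toFun := fun g => c (g.1.1 ![1, 0] 0) + I * c (g.1.1 ![1, 0] 1)
      map_one' := by simp [c]
      map_mul' := fun g g' => by
        have hlin := (entries F g.1).2.2.2.2 (g'.1.1 ![1, 0])
        obtain ⟨hc, hd⟩ := hrot g
        show c (g.1.1 (g'.1.1 ![1, 0]) 0) + I * c (g.1.1 (g'.1.1 ![1, 0]) 1) = _
        rw [hlin]
        simp only [Pi.add_apply, Pi.smul_apply, smul_eq_mul, hc, hd, map_add, map_mul, map_neg]
        linear_combination (-(c (g.1.1 ![1, 0] 1) * c (g'.1.1 ![1, 0] 1))) * hI }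
  have hker : ∀ g, f g = 1 → g = 1 := by
    intro g hg
    obtain ⟨ha, -, -, -, hlin⟩ := entries F g.1
    obtain ⟨hc, hd⟩ := hrot g
    have ha' : c (g.1.1 ![1, 0] 0) ^ 2 + c (g.1.1 ![1, 0] 1) ^ 2 = 1 := by
      rw [← map_pow, ← map_pow, ← map_add, ha, map_one]
    have h1 : c (g.1.1 ![1, 0] 0) + I * c (g.1.1 ![1, 0] 1) = 1 := hg
    have hc2 : (2 : AlgebraicClosure F) ≠ 0 := by
      rw [show (2 : AlgebraicClosure F) = c 2 by rw [map_ofNat]]
      exact fun h => h2 (c.injective (h.trans (map_zero c).symm))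
    have h3 : c (g.1.1 ![1, 0] 0) = 1 := by
      refine mul_left_cancel₀ hc2 ?_
      linear_combination ha' + h1 - (c (g.1.1 ![1, 0] 0) - I * c (g.1.1 ![1, 0] 1)) * h1 -
        (c (g.1.1 ![1, 0] 1) ^ 2) * hI
    have h4 : c (g.1.1 ![1, 0] 1) = 0 := by
      refine ((mul_eq_zero (a := I)).1 ?_).resolve_left fun h => ?_
      · linear_combination h1 - h3
      · rw [h] at hI; simp at hI
    rw [map_eq_zero] at h4
    have h3' : g.1.1 ![1, 0] 0 = 1 := c.injective (h3.trans (map_one c).symm)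
    refine Subtype.ext (Subtype.ext (LinearEquiv.ext fun x => funext fun i => ?_))
    rw [hlin]
    fin_cases i <;> simp [h3', h4, hc, hd]
  haveI : Finite ↥(Iso (q2 F)) := Finite.of_injective (fun g => (g.1 : (Fin 2 → F) → (Fin 2 → F)))
    fun a b h => Subtype.ext (LinearEquiv.ext fun x => congrFun h x)
  refine isCyclic_of_subgroup_isDomain f fun a b hab => ?_
  refine inv_mul_eq_one.1 (hker (a⁻¹ * b) ?_) 
  rw [map_mul, ← hab, ← map_mul, inv_mul_cancel, map_one]

/-- The Sylow two-subgroup of the plane group. -/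
theorem exists_dihedral : ∃ (D : Subgroup ↥(Iso (q2 F))) (r ρ : ↥D), r.1 = refl F ∧ r * r = 1 ∧
    r * ρ * r = ρ⁻¹ ∧ (∀ x : ↥D, ∃ k : ℤ, x = ρ ^ k ∨ x = ρ ^ k * r) ∧ det2 F ρ.1 = 1 ∧
    Nat.card D = 2 ^ (Nat.card ↥(Iso (q2 F))).factorization 2 := by
  haveI : Finite ↥(Iso (q2 F)) := Finite.of_injective (fun g => (g.1 : (Fin 2 → F) → (Fin 2 → F)))
    fun a b h => Subtype.ext (LinearEquiv.ext fun x => congrFun h x)
  haveI := rotation_cyclic F h2
  obtain ⟨r, hr⟩ : ∃ r, r = refl F := ⟨_, rfl⟩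
  have hr1 : (det2 F r : F) = -1 := hr ▸ det_refl F
  have hne1 : (-1 : F) ≠ 1 := fun h => h2 (by linear_combination -h)
  have hrr : r * r = 1 := by
    rw [hr, refl, ← map_mul, ← Pi.mulSingle_mul,
      show negRoot F * negRoot F = 1 from Subtype.ext (Units.ext (show (-1 : F) * -1 = 1 by norm_num)),
      Pi.mulSingle_one, map_one]
  have hdet : ∀ g : ↥(Iso (q2 F)), det2 F g = 1 ∨ det2 F g = -1 := fun g => by
    obtain ⟨ha, hb, ho, hd, -⟩ := entries F g
    have ho' := (mul_eq_zero.1 ho).resolve_left h2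
    have hsq : (det2 F g : F) * (det2 F g : F) = 1 := by
      rw [hd]
      linear_combination (g.1 ![0, 1] 0 ^ 2 + g.1 ![0, 1] 1 ^ 2) * ha + hb -
        (g.1 ![1, 0] 0 * g.1 ![0, 1] 0 + g.1 ![1, 0] 1 * g.1 ![0, 1] 1) * ho'
    exact (mul_self_eq_one_iff.1 hsq).imp (fun h => Units.ext h) (fun h => Units.ext (by simpa using h))
  let f : ↥(det2 F).ker × Bool → ↥(Iso (q2 F)) := fun x => if x.2 then x.1.1 * r else x.1.1
  have hf : Function.Bijective f := by
    have hd : ∀ x, (det2 F (f x) : F) = if x.2 then -1 else 1 := by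
      rintro ⟨x, b⟩
      cases b
      · simp [f, MonoidHom.mem_ker.1 x.2]
      · simp [f, MonoidHom.mem_ker.1 x.2, hr1]
    constructor
    · intro x y e
      have := hd x
      rw [e, hd y] at this
      obtain ⟨x, b⟩ := x
      obtain ⟨y, b'⟩ := y
      cases b <;> cases b' <;> simp at this <;> first
        | exact absurd this hne1
        | exact absurd this.symm hne1
        | (simp only [f] at e; simp at e; simp [Subtype.ext_iff, e])
    · intro g
      rcases hdet g with h | h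
      · exact ⟨(⟨g, h⟩, false), rfl⟩
      · refine ⟨(⟨g * r, MonoidHom.mem_ker.2 (Units.ext ?_)⟩, true), ?_⟩
        · rw [map_mul, Units.val_mul, hr1, h]; simp
        · simp [f, mul_assoc, hrr]
  have hcard : Nat.card ↥(Iso (q2 F)) = Nat.card ↥(det2 F).ker * 2 := by
    rw [← Nat.card_eq_of_bijective f hf, Nat.card_prod, Nat.card_eq_fintype_card (α := Bool), Fintype.card_bool]
  obtain ⟨g, hg⟩ := IsCyclic.exists_monoid_generator (α := ↥(det2 F).ker)
  have hord : orderOf g = Nat.card ↥(det2 F).ker := orderOf_eq_card_of_forall_mem_powers hg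
  set M := Nat.card ↥(det2 F).ker with hM
  have hM0 : M ≠ 0 := Nat.card_pos.ne'
  obtain ⟨ρ, hρ⟩ : ∃ ρ, ρ = (g ^ (M / 2 ^ M.factorization 2)).1 := ⟨_, rfl⟩
  have hρord : orderOf ρ = 2 ^ M.factorization 2 := by
    have hdvd := Nat.ordProj_dvd M 2
    rw [hρ, Subgroup.orderOf_coe, orderOf_pow_of_dvd (Nat.div_pos (Nat.le_of_dvd (Nat.pos_of_ne_zero hM0) hdvd)
      (by positivity)).ne' (by rw [hord]; exact Nat.div_dvd_of_dvd hdvd), hord, Nat.div_div_self hdvd hM0]
  have hρ1 : det2 F ρ = 1 := by rw [hρ]; exact (g ^ _).2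
  have hinv : r * ρ * r = ρ⁻¹ := by
    have h1 : det2 F (ρ * r) = det2 F r := by rw [map_mul, hρ1, one_mul]
    obtain ⟨ha, hb, ho, hd, hlin⟩ := entries F (ρ * r)
    rw [h1, hr1] at hd
    have ho' := (mul_eq_zero.1 ho).resolve_left h2
    set g' := ρ * r with hg'
    have hc : g'.1 ![0, 1] 0 = g'.1 ![1, 0] 1 := by
      linear_combination (-(g'.1 ![0, 1] 0)) * ha + (g'.1 ![1, 0] 0) * ho' + (g'.1 ![1, 0] 1) * hd
    have he : g'.1 ![0, 1] 1 = -g'.1 ![1, 0] 0 := by
      linear_combination (-(g'.1 ![0, 1] 1)) * ha + (g'.1 ![1, 0] 1) * ho' - (g'.1 ![1, 0] 0) * hd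
    have h0 : g'.1 (g'.1 ![1, 0]) = ![1, 0] := by
      rw [hlin]; funext i; fin_cases i <;> simp [hc, he] <;> first | linear_combination ha | ring
    have h1' : g'.1 (g'.1 ![0, 1]) = ![0, 1] := by
      rw [hlin (g'.1 ![0, 1])]; funext i; fin_cases i <;> simp [hc, he] <;> first | linear_combination ha | ring
    have hsq : g' * g' = 1 := by
      refine Subtype.ext (LinearEquiv.ext fun x => ?_)
      show g'.1 (g'.1 x) = x
      rw [hlin x, map_add, map_smul, map_smul, h0, h1']
      funext i; fin_cases i <;> simp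
    rw [hg'] at hsq
    exact eq_inv_of_mul_eq_one_right (by rw [← mul_assoc, ← mul_assoc]; exact hsq)
  have hpow : ∀ k : ℤ, r * ρ ^ k = (ρ ^ k)⁻¹ * r := fun k => by
    have e : r⁻¹ = r := inv_eq_of_mul_eq_one_right hrr
    have h := map_zpow (MulAut.conj r).toMonoidHom ρ k
    rw [MulEquiv.coe_toMonoidHom, MulAut.conj_apply, MulAut.conj_apply, e, hinv, inv_zpow] at h
    rw [← h, mul_assoc, hrr, mul_one]
  let D : Subgroup ↥(Iso (q2 F)) :=
    { carrier := {x | ∃ k : ℤ, x = ρ ^ k ∨ x = ρ ^ k * r}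
      one_mem' := ⟨0, Or.inl (zpow_zero ρ).symm⟩
      mul_mem' := by
        rintro _ _ ⟨k, rfl | rfl⟩ ⟨l, rfl | rfl⟩
        · exact ⟨k + l, Or.inl (zpow_add ρ k l).symm⟩
        · exact ⟨k + l, Or.inr (by rw [← mul_assoc, ← zpow_add])⟩
        · exact ⟨k - l, Or.inr (by rw [mul_assoc, hpow, ← mul_assoc, ← zpow_neg, ← zpow_add, sub_eq_add_neg])⟩
        · exact ⟨k - l, Or.inl (by
            rw [show ρ ^ k * r * (ρ ^ l * r) = ρ ^ k * (r * ρ ^ l) * r by group, hpow, mul_assoc, mul_assoc, hrr,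
              mul_one, ← zpow_neg, ← zpow_add, sub_eq_add_neg])⟩
      inv_mem' := by
        rintro _ ⟨k, rfl | rfl⟩
        · exact ⟨-k, Or.inl (zpow_neg ρ k).symm⟩
        · exact ⟨k, Or.inr (by rw [mul_inv_rev, inv_eq_of_mul_eq_one_right hrr, ← zpow_neg, hpow, zpow_neg, inv_inv])⟩ }
  refine ⟨D, ⟨r, 0, Or.inr (by simp)⟩, ⟨ρ, 1, Or.inl (by simp)⟩, hr, Subtype.ext hrr, Subtype.ext hinv, ?_, hρ1, ?_⟩
  · rintro ⟨x, k, hk⟩
    exact ⟨k, hk.imp (fun h => Subtype.ext (by simp [h])) fun h => Subtype.ext (by simp [h])⟩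
  · let e : ↥(Subgroup.zpowers ρ) × Bool → ↥D := fun x => ⟨if x.2 then x.1.1 * r else x.1.1, by
      obtain ⟨⟨_, k, rfl⟩, b⟩ := x
      cases b
      exacts [⟨k, Or.inl rfl⟩, ⟨k, Or.inr rfl⟩]⟩
    have hin : ∀ x : ↥(Subgroup.zpowers ρ), x.1 ∈ (det2 F).ker := by
      rintro ⟨_, k, rfl⟩
      exact Subgroup.zpow_mem _ (MonoidHom.mem_ker.2 hρ1) k
    have he : Function.Bijective e := by
      constructor
      · intro x y h
        have h' : f (⟨x.1.1, hin _⟩, x.2) = f (⟨y.1.1, hin _⟩, y.2) := congrArg Subtype.val h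
        have := hf.1 h'
        exact Prod.ext (Subtype.ext (congrArg (fun z => (Prod.fst z).1) this)) (congrArg Prod.snd this :)
      · rintro ⟨x, k, rfl | rfl⟩
        exacts [⟨(⟨_, k, rfl⟩, false), rfl⟩, ⟨(⟨_, k, rfl⟩, true), rfl⟩]
    rw [← Nat.card_eq_of_bijective e he, Nat.card_prod, Nat.card_zpowers, hρord, Nat.card_eq_fintype_card (α := Bool),
      Fintype.card_bool, hcard, Nat.factorization_mul hM0 two_ne_zero, Finsupp.add_apply,
      Nat.prime_two.factorization_self, pow_add, pow_one]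

end Plane

/-! ### The model -/

section Model

variable {F : Type*} [Field F] {m s : ℕ} (e : Fin s → F)

/-- The weights of the model. -/
def wt (m : ℕ) (e : Fin s → F) : (Fin m × Fin 2) ⊕ Fin s → F := Sum.elim (fun _ => 1) e

/-- Block isometries. -/
noncomputable def phi (m : ℕ) (e : Fin s → F) : (Fin m → ↥(Iso (q2 F))) →* ↥(Iso (dg (wt m e))) where
  toFun v := ⟨{ toFun := fun x => Sum.elim (fun p => (v p.1).1 (fun k => x (Sum.inl (p.1, k))) p.2) (fun k => x (Sum.inr k))
                invFun := fun x => Sum.elim (fun p => (v p.1).1.symm (fun k => x (Sum.inl (p.1, k))) p.2) (fun k => x (Sum.inr k))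
                map_add' := fun x y => funext fun i => by
                  rcases i with ⟨i, j⟩ | k
                  · exact congrFun (map_add (v i).1 (fun k => x (Sum.inl (i, k))) fun k => y (Sum.inl (i, k))) j
                  · rfl
                map_smul' := fun c x => funext fun i => by
                  rcases i with ⟨i, j⟩ | k
                  · exact congrFun (map_smul (v i).1 c (fun k => x (Sum.inl (i, k)))) j
                  · rfl
                left_inv := fun x => funext fun i => by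
                  rcases i with ⟨i, j⟩ | k
                  · exact congrFun ((v i).1.symm_apply_apply (fun k => x (Sum.inl (i, k)))) j
                  · rfl
                right_inv := fun x => funext fun i => by
                  rcases i with ⟨i, j⟩ | k
                  · exact congrFun ((v i).1.apply_symm_apply (fun k => x (Sum.inl (i, k)))) j
                  · rfl }, fun x => by
    show dg (wt m e) (Sum.elim (fun p : Fin m × Fin 2 => (v p.1).1 (fun k => x (Sum.inl (p.1, k))) p.2)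
      fun k => x (Sum.inr k)) = _
    simp only [dg_apply, Fintype.sum_sum_type, Fintype.sum_prod_type, Sum.elim_inl, Sum.elim_inr, wt]
    congr 1
    refine Finset.sum_congr rfl fun i _ => ?_
    have h := (v i).2 (fun k => x (Sum.inl (i, k)))
    simpa [dg_apply] using h⟩
  map_one' := Subtype.ext (LinearEquiv.ext fun x => funext fun i => by rcases i with ⟨i, j⟩ | k <;> rfl)
  map_mul' u v := Subtype.ext (LinearEquiv.ext fun x => funext fun i => by rcases i with ⟨i, j⟩ | k <;> rfl)

/-- Block permutations. -/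
noncomputable def psi (m : ℕ) (e : Fin s → F) : Equiv.Perm (Fin m) →* ↥(Iso (dg (wt m e))) where
  toFun h := pX _ (Equiv.sumCongr (Equiv.prodCongr h (Equiv.refl (Fin 2))) (Equiv.refl (Fin s)))
    fun i => by rcases i with ⟨i, j⟩ | k <;> rfl
  map_one' := Subtype.ext (LinearEquiv.ext fun x => funext fun i => by rcases i with ⟨i, j⟩ | k <;> rfl)
  map_mul' g h := Subtype.ext (LinearEquiv.ext fun x => funext fun i => by rcases i with ⟨i, j⟩ | k <;> rfl)

/-- The signs on the residual coordinates. -/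
noncomputable def kap (m : ℕ) (e : Fin s → F) : (Fin s → rootsOfUnity 2 F) →* ↥(Iso (dg (wt m e))) :=
  (sX (wt m e)).comp
    { toFun := fun t => Sum.elim (fun _ => 1) t
      map_one' := funext fun i => by rcases i with i | k <;> rfl
      map_mul' := fun t t' => funext fun i => by rcases i with i | k <;> simp }

theorem phi_psi (h : Equiv.Perm (Fin m)) (v : Fin m → ↥(Iso (q2 F))) :
    phi m e v * psi m e h = psi m e h * phi m e (v ∘ h) :=
  Subtype.ext (LinearEquiv.ext fun x => funext fun i => by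
    rcases i with ⟨i, j⟩ | k
    · show (v i).1 _ j = (v (h (h⁻¹ i))).1 _ j
      rw [← Equiv.Perm.mul_apply, mul_inv_cancel, Equiv.Perm.one_apply]
      rfl
    · rfl)

theorem kap_psi (t : Fin s → rootsOfUnity 2 F) (h : Equiv.Perm (Fin m)) :
    Commute (kap m e t) (psi m e h) :=
  Subtype.ext (LinearEquiv.ext fun x => funext fun i => by
    rcases i with ⟨i, j⟩ | k
    · show ((1 : Fˣ) : F) * _ = ((1 : Fˣ) : F) * _
      rfl
    · rfl)

theorem kap_phi (t : Fin s → rootsOfUnity 2 F) (v : Fin m → ↥(Iso (q2 F))) :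
    Commute (kap m e t) (phi m e v) :=
  Subtype.ext (LinearEquiv.ext fun x => funext fun i => by
    rcases i with ⟨i, j⟩ | k
    · show ((1 : Fˣ) : F) * (v i).1 (fun k => x (Sum.inl (i, k))) j =
        (v i).1 (fun k => ((1 : Fˣ) : F) * x (Sum.inl (i, k))) j
      simp
    · rfl)

theorem phi_refl (i : Fin m) :
    phi m e (Pi.mulSingle i (refl F)) = sX (wt m e) (Pi.mulSingle (Sum.inl (i, 1)) (negRoot F)) :=
  Subtype.ext (LinearEquiv.ext fun x => funext fun a => by
    rcases a with ⟨a, j⟩ | k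
    · show ((Pi.mulSingle i (refl F) : Fin m → _) a).1 _ j = _
      rw [sX_apply]
      rcases eq_or_ne a i with rfl | ha
      · rw [Pi.mulSingle_eq_same, refl, sX_apply]
        fin_cases j <;> simp
      · rw [Pi.mulSingle_eq_of_ne ha, Pi.mulSingle_eq_of_ne (by simp [ha])]
        simp
    · show x (Sum.inr k) = _
      rw [sX_apply, Pi.mulSingle_eq_of_ne (by simp)]
      simp)

theorem model_inj (h : Equiv.Perm (Fin m)) (v : Fin m → ↥(Iso (q2 F))) (t : Fin s → rootsOfUnity 2 F)
    (he : psi m e h * phi m e v * kap m e t = 1) : h = 1 ∧ v = 1 ∧ t = 1 := by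
  have key : ∀ (x : (Fin m × Fin 2) ⊕ Fin s → F) (i : Fin m) (j : Fin 2),
      (v (h⁻¹ i)).1 (fun k => x (Sum.inl (h⁻¹ i, k))) j = x (Sum.inl (i, j)) := fun x i j => by
    have h1 := congrFun (LinearEquiv.congr_fun (congrArg Subtype.val he) x) (Sum.inl (i, j))
    refine Eq.trans ?_ h1
    show _ = (v (h⁻¹ i)).1 (fun k => ((1 : Fˣ) : F) * x (Sum.inl (h⁻¹ i, k))) j
    simp
  have hh : h = 1 := by
    refine inv_eq_one.1 (Equiv.ext fun i => ?_)
    by_contra hne
    have h1 := key (Pi.single (Sum.inl (i, 0)) 1) i 0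
    rw [Pi.single_eq_same, show (fun k => (Pi.single (Sum.inl (i, 0)) (1 : F) : (Fin m × Fin 2) ⊕ Fin s → F)
      (Sum.inl (h⁻¹ i, k))) = 0 from funext fun k => Pi.single_eq_of_ne (by simpa using fun h => (hne h).elim) _,
      map_zero] at h1
    exact zero_ne_one h1
  subst hh
  refine ⟨rfl, funext fun i => Subtype.ext (LinearEquiv.ext fun y => funext fun j => ?_), funext fun k => ?_⟩
  · exact key (Sum.elim (fun p => y p.2) 0) i j
  · have h1 := congrFun (LinearEquiv.congr_fun (congrArg Subtype.val he) (Pi.single (Sum.inr k) 1)) (Sum.inr k)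
    refine Subtype.ext (Units.ext ?_)
    have h2 : ((t k : Fˣ) : F) * (Pi.single (Sum.inr k) (1 : F) : (Fin m × Fin 2) ⊕ Fin s → F) (Sum.inr k) =
      (Pi.single (Sum.inr k) (1 : F) : (Fin m × Fin 2) ⊕ Fin s → F) (Sum.inr k) := h1
    simpa using h2

theorem det_phi (v : Fin m → ↥(Iso (q2 F))) :
    LinearEquiv.det (phi m e v).1 = ∏ i, det2 F (v i) := by
  refine Units.ext ?_
  rw [Units.coe_prod, LinearEquiv.coe_det, ← LinearMap.det_toMatrix']
  have e1 : LinearMap.toMatrix' (phi m e v).1.toLinearMap =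
      Matrix.fromBlocks ((Matrix.blockDiagonal fun i => LinearMap.toMatrix' (v i).1.toLinearMap).submatrix
        (Equiv.prodComm (Fin m) (Fin 2)) (Equiv.prodComm (Fin m) (Fin 2))) 0 0 1 := by
    refine Matrix.ext fun a b => ?_
    rw [LinearMap.toMatrix'_apply]
    rcases a with ⟨a, j⟩ | a <;> rcases b with ⟨b, k⟩ | b
    · show (v a).1 (fun l => (Pi.single (Sum.inl (b, k)) (1 : F) : (Fin m × Fin 2) ⊕ Fin s → F) (Sum.inl (a, l))) j = _
      rw [Matrix.fromBlocks_apply₁₁, Matrix.submatrix_apply,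
        show Equiv.prodComm (Fin m) (Fin 2) (a, j) = (j, a) from rfl,
        show Equiv.prodComm (Fin m) (Fin 2) (b, k) = (k, b) from rfl, Matrix.blockDiagonal_apply']
      rcases eq_or_ne a b with rfl | hab
      · rw [if_pos rfl, LinearMap.toMatrix'_apply]
        refine congrArg (fun y => (v a).1 y j) (funext fun l => ?_)
        simp [Pi.single_apply]
      · rw [if_neg hab, show (fun l => (Pi.single (Sum.inl (b, k)) (1 : F) : (Fin m × Fin 2) ⊕ Fin s → F) (Sum.inl (a, l))) = 0 from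
          funext fun l => by simp [hab], map_zero]
        rfl
    · show (v a).1 (fun l => (Pi.single (Sum.inr b) (1 : F) : (Fin m × Fin 2) ⊕ Fin s → F) (Sum.inl (a, l))) j = _
      rw [show (fun l => (Pi.single (Sum.inr b) (1 : F) : (Fin m × Fin 2) ⊕ Fin s → F) (Sum.inl (a, l))) = 0 from
          funext fun l => by simp, map_zero]
      rfl
    · show (Pi.single (Sum.inl (b, k)) (1 : F) : (Fin m × Fin 2) ⊕ Fin s → F) (Sum.inr a) = _
      simp
    · show (Pi.single (Sum.inr b) (1 : F) : (Fin m × Fin 2) ⊕ Fin s → F) (Sum.inr a) = _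
      simp [Matrix.one_apply, Pi.single_apply, eq_comm]
  rw [e1, Matrix.det_fromBlocks_zero₁₂, Matrix.det_one, mul_one, Matrix.det_submatrix_equiv_self, Matrix.det_blockDiagonal]
  refine Finset.prod_congr rfl fun i _ => ?_
  rw [LinearMap.det_toMatrix', ← LinearEquiv.coe_det]
  rfl

theorem psi_mem (h : Equiv.Perm (Fin m)) (N : Subgroup ↥(Iso (dg (wt m e)))) (hN : ∀ g, g * g ∈ N) :
    psi m e h ∈ N := by
  induction h using Equiv.Perm.swap_induction_on with
  | one => rw [map_one]; exact one_mem N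
  | swap_mul f i j hij ih =>
    rw [map_mul]
    refine mul_mem ?_ ih
    let π : Equiv.Perm ((Fin m × Fin 2) ⊕ Fin s) := Equiv.swap (Sum.inl (i, 0)) (Sum.inl (j, 0)) *
      Equiv.sumCongr (Equiv.prodCongr (Equiv.refl (Fin m)) (Equiv.swap 0 1)) (Equiv.refl (Fin s))
    have hπ : ∀ a, wt m e (π a) = wt m e a := fun a => by
      rcases a with ⟨a, b⟩ | a
      · simp only [π, Equiv.Perm.mul_apply, Equiv.sumCongr_apply, Sum.map_inl, Equiv.prodCongr_apply]
        rw [Equiv.swap_apply_def]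
        split_ifs <;> rfl
      · simp only [π, Equiv.Perm.mul_apply, Equiv.sumCongr_apply, Sum.map_inr]
        rw [Equiv.swap_apply_of_ne_of_ne (by simp) (by simp)]
        rfl
    have hππ : π * π = Equiv.sumCongr (Equiv.prodCongr (Equiv.swap i j) (Equiv.refl (Fin 2))) (Equiv.refl (Fin s)) := by
      refine Equiv.ext fun a => ?_
      rcases a with ⟨a, b⟩ | a
      · fin_cases b <;> simp [π, Equiv.swap_apply_def] <;> split_ifs <;> simp_all
      · simp [π, Equiv.swap_apply_of_ne_of_ne]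
    convert hN (pX (wt m e) π hπ) using 1
    refine Subtype.ext (LinearEquiv.ext fun x => funext fun a => ?_)
    rw [Subgroup.coe_mul, LinearEquiv.mul_apply, pX_apply, pX_apply, ← Equiv.Perm.mul_apply, ← mul_inv_rev, hππ]
    rfl

end Model

/-! ### Conclusion -/

section Main

variable {F : Type*} [Field F] [Fintype F]

theorem sylow_model (h2 : (2 : F) ≠ 0) {m s : ℕ} (hm : 2 ≤ m) (e : Fin s → F) (he : ∀ k, e k ≠ 0)
    (hs : s ≤ 1 ∨ ∃ k, e k = 1) {ι : Type} [Fintype ι] [DecidableEq ι] {Q : QuadraticForm F (ι → F)}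
    {q : (ι → F) → F} (hq : ⇑Q = q) (b : Basis ((Fin m × Fin 2) ⊕ Fin s) F (ι → F))
    (ho : ∀ i j, i ≠ j → polar Q (b i) (b j) = 0) (hv : ∀ i, Q (b i) = wt m e i)
    (hv2 : (Nat.card ↥(Cfsg.isometryGroup F q)).factorization 2 =
      m * (Nat.card ↥(Iso (q2 F))).factorization 2 + m.factorial.factorization 2 + s)
    (P : Sylow 2 ↥(Cfsg.Omega F q)) :
    ∀ x : (P : Subgroup ↥(Cfsg.Omega F q)), x ^ 2 ∈ commutator (P : Subgroup ↥(Cfsg.Omega F q)) := by
  classical
  haveI : Fact (Nat.Prime 2) := ⟨Nat.prime_two⟩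
  subst hq
  obtain ⟨D, r, ρ, hr, hrr, hinv, hD, hρ, hDcard⟩ := exists_dihedral F h2
  obtain ⟨T, hT, hTgen, -⟩ := SymGen.exists_gen (p := 2) m
  haveI : Finite ↥(Iso (dg (wt m e))) := Finite.of_injective (fun g => (g.1 : ((Fin m × Fin 2) ⊕ Fin s → F) → _))
    fun a b h => Subtype.ext (LinearEquiv.ext fun x => congrFun h x)
  have hpnd : PND (dg (wt m e)) := dg_pnd h2 fun i => by
    rcases i with i | k
    exacts [one_ne_zero, he k]
  let N : Subgroup ↥(Iso (dg (wt m e))) := commutator ↥(Iso (dg (wt m e)))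
  haveI : N.Normal := inferInstanceAs (commutator ↥(Iso (dg (wt m e)))).Normal
  have hsq : ∀ g, g * g ∈ N := sq_mem_commutator h2 hpnd
  let φ : (Fin m → ↥D) →* ↥(Iso (dg (wt m e))) :=
    (phi m e).comp { toFun := fun v i => (v i : ↥(Iso (q2 F))), map_one' := rfl, map_mul' := fun _ _ => rfl }
  have hc : ∀ h (v : Fin m → ↥D), φ v * psi m e h = psi m e h * φ (v ∘ h) := fun h v => phi_psi e h _
  let K := (kap m e).range
  have hKψ : ∀ κ ∈ K, ∀ h, Commute κ (psi m e h) := by rintro _ ⟨t, rfl⟩ h; exact kap_psi e t h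
  have hKφ : ∀ κ ∈ K, ∀ v, Commute κ (φ v) := by rintro _ ⟨t, rfl⟩ v; exact kap_phi e t _
  have hsingle : ∀ i (x : ↥D), φ (Pi.mulSingle i x) = phi m e (Pi.mulSingle i x.1) := fun i x => by
    refine congrArg (phi m e) (funext fun l => ?_)
    show ((Pi.mulSingle i x : Fin m → ↥D) l).1 = _
    rcases eq_or_ne l i with rfl | hl
    · rw [Pi.mulSingle_eq_same, Pi.mulSingle_eq_same]
    · rw [Pi.mulSingle_eq_of_ne hl, Pi.mulSingle_eq_of_ne hl]; rfl
  have hK2 : ∀ κ ∈ K, κ * κ = 1 := by
    rintro _ ⟨t, rfl⟩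
    rw [← map_mul, ← map_one (kap m e)]
    congr 1
    funext k
    exact Subtype.ext ((pow_two _).symm.trans ((mem_rootsOfUnity 2 _).1 (t k).2))
  have himp : ∀ i, ∀ κ ∈ K, φ (Pi.mulSingle i ρ) * κ ∈ N →
      κ = 1 ∨ ∃ κ' ∈ K, φ (Pi.mulSingle i r) * κ' ∈ N := by
    rintro i _ ⟨t, rfl⟩ hN
    rcases hs with hs | ⟨k, hk⟩
    · left
      let dt : ↥(Iso (dg (wt m e))) →* Fˣ := (LinearEquiv.det).comp (Iso (dg (wt m e))).subtype
      have h1 : dt (φ (Pi.mulSingle i ρ) * kap m e t) = 1 := Abelianization.commutator_subset_ker dt hN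
      rw [hsingle, map_mul, show dt (phi m e (Pi.mulSingle i ρ.1)) = ∏ l, det2 F ((Pi.mulSingle i ρ.1 : Fin m → _) l)
        from det_phi e _, Finset.prod_eq_one fun l _ => ?_, one_mul] at h1
      · rcases Nat.le_one_iff_eq_zero_or_eq_one.1 hs with rfl | rfl
        · rw [show t = 1 from funext fun k => k.elim0, map_one]
        · rw [← map_one (kap m e)]
          congr 1
          funext k
          have h3 : ((dt (kap m e t) : Fˣ) : F) = ((t 0 : Fˣ) : F) := by
            show ((LinearEquiv.det (kap m e t).1 : Fˣ) : F) = _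
            rw [LinearEquiv.coe_det, ← LinearMap.det_toMatrix', show LinearMap.toMatrix'
              (kap m e t).1.toLinearMap = Matrix.diagonal
                fun a => (((Sum.elim (fun _ => 1) t : _ → rootsOfUnity 2 F) a : Fˣ) : F) from ?_, Matrix.det_diagonal,
              Fintype.prod_sum_type]
            · simp
            · refine Matrix.ext fun a b => ?_
              rw [LinearMap.toMatrix'_apply, Matrix.diagonal_apply, LinearEquiv.coe_coe]
              show (((Sum.elim (fun _ => 1) t : _ → rootsOfUnity 2 F) a : Fˣ) : F) * _ = _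
              rcases eq_or_ne a b with rfl | hab
              · simp
              · simp [hab]
          rw [h1, Units.val_one] at h3
          rw [Subsingleton.elim k 0]
          exact Subtype.ext (Units.ext h3.symm)
      · rcases eq_or_ne l i with rfl | hl
        · rw [Pi.mulSingle_eq_same, hρ]
        · rw [Pi.mulSingle_eq_of_ne hl, map_one]
    · right
      refine ⟨kap m e (Pi.mulSingle k (negRoot F)), ⟨_, rfl⟩, ?_⟩
      rw [hsingle, hr, phi_refl]
      convert sign_pair_mem (wt m e) (p := Sum.inl (i, 1)) (q := Sum.inr k) (by simp) (by simp [wt, hk]) N hsq using 2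
      refine congrArg (sX (wt m e)) (funext fun a => ?_)
      rcases a with a | a
      · show (1 : rootsOfUnity 2 F) = _
        rw [Pi.mulSingle_eq_of_ne (by simp : (Sum.inl a : (Fin m × Fin 2) ⊕ Fin s) ≠ Sum.inr k)]
      · show (Pi.mulSingle k (negRoot F) : Fin s → rootsOfUnity 2 F) a = _
        rcases eq_or_ne a k with rfl | ha
        · rw [Pi.mulSingle_eq_same, Pi.mulSingle_eq_same]
        · rw [Pi.mulSingle_eq_of_ne ha, Pi.mulSingle_eq_of_ne (by simp [ha])]
  have hgen := SylowTwoKernel.gen2_kernel φ (psi m e) hc T K hKψ hKφ N hsq (fun h => psi_mem e h N hsq) r ρ hrr hinv hD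
    hK2 hTgen hm himp
  have hcardW := SylowTwoKernel.card_wk φ (psi m e) hc T K hKψ hKφ (by
    rintro h v _ ⟨t, rfl⟩ h1
    obtain ⟨a, b, -⟩ := model_inj e h _ t h1
    exact ⟨a, funext fun i => Subtype.ext (congrFun b i)⟩)
  have hkinj : Function.Injective (kap m e) := fun t t' h => mul_inv_eq_one.1 (model_inj e 1 1 (t * t'⁻¹) (by
    rw [map_one, map_one, one_mul, one_mul, map_mul, map_inv, h, mul_inv_cancel])).2.2
  have hprim : IsPrimitiveRoot (-1 : F) 2 := by
    refine IsPrimitiveRoot.mk_of_lt _ (by norm_num) (by norm_num) fun l h1 h2' => ?_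
    obtain rfl : l = 1 := by omega
    intro h
    exact h2 (by linear_combination -h)
  have hKcard : Nat.card K = 2 ^ s := by
    rw [← Nat.card_congr (MonoidHom.ofInjective hkinj).toEquiv, Nat.card_fun, Nat.card_fin, hprim.card_rootsOfUnity]
  let L := b.equivFun.symm
  let E : ↥(Iso (dg (wt m e))) ≃* ↥(Cfsg.isometryGroup F ⇑Q) :=
    (isoConj L (of_basis b ho hv)).trans (toMat Q)
  haveI : Finite ↥(Cfsg.isometryGroup F ⇑Q) := Finite.of_equiv _ E.toEquiv
  haveI hn : (Cfsg.Omega F ⇑Q).subtype.range.Normal := by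
    rw [Subgroup.range_subtype]
    infer_instance
  refine TwoWreath.comap_sylow (Cfsg.Omega F ⇑Q).subtype Subtype.val_injective
    ((SylowTwoKernel.wk φ (psi m e) hc T K hKψ hKφ).map E.toMonoidHom) ?_ ?_ P
  · rw [Subgroup.card_map_of_injective E.injective, hcardW, hT, hDcard, hKcard, hv2, ← pow_mul, ← pow_add, ← pow_add]
    congr 1
    ring
  · rw [Subgroup.range_subtype, show Cfsg.Omega F ⇑Q = N.map E.toMonoidHom from (map_commutator_equiv E).symm,
      ← Subgroup.map_inf _ _ _ E.injective]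
    exact TwoWreath.gen2_map _ hgen

/-- The 2-part of the group of the plane. -/
theorem v_plane (h2 : (2 : F) ≠ 0) : (Nat.card ↥(Iso (q2 F))).factorization 2 =
    (Fintype.card F ^ 2 - 1).factorization 2 := by
  classical
  have hF : Odd (Fintype.card F) := by
    by_contra h
    exact h2 (by
      have hc := FiniteField.even_card_iff_char_two.2 (Nat.even_iff.1 (Nat.not_odd_iff_even.1 h))
      haveI : CharP F 2 := ringChar.of_eq hc
      exact CharTwo.two_eq_zero)
  have hq := Fintype.one_lt_card (α := F)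
  have hsq : Fintype.card F ^ 2 - 1 = (Fintype.card F + 1) * (Fintype.card F - 1) := by
    rw [← Nat.sq_sub_sq, one_pow]
  have hv1 : ∀ n : ℕ, n % 4 = 2 → n.factorization 2 = 1 := fun n hn => by
    obtain ⟨k, rfl⟩ : ∃ k, n = 2 * k := ⟨n / 2, by omega⟩
    rw [Nat.factorization_mul two_ne_zero (by omega), Finsupp.add_apply, Nat.prime_two.factorization_self,
      Nat.factorization_eq_zero_of_not_dvd (by omega)]
  rw [hsq, Nat.factorization_mul (by omega) (by omega), Finsupp.add_apply]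
  rcases Nat.odd_mod_four_iff.1 (Nat.odd_iff.1 hF) with h1 | h3
  · -- plus type
    obtain ⟨b, d, hd, ho, hval⟩ := OmegaTwoRank.exists_values (Q := Orth.qPlus F 1) (Orth.qPlus_pnd F 1) h2
      (n := 1) (by simp) one_ne_zero
    have hs : IsSquare d := by
      have h := OmegaTwoRank.gram_class (Q := Orth.qPlus F 1) h2 b ho
      rw [Fin.prod_univ_two, hval, hval, if_neg (by decide), if_pos (by decide), one_mul, one_mul] at h
      have h' := (FormDisc.disc_plus rfl hF b).2 (by rw [Nat.even_iff]; omega)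
      rw [← coe_plus 1, h, pow_two, mul_comm] at h'
      exact (Orth.isSquare_mul_iff ⟨_, rfl⟩ (mul_ne_zero h2 h2)).1 h'
    obtain ⟨z, rfl⟩ := hs
    have hz : z ≠ 0 := left_ne_zero_of_mul hd
    let b' := b.unitsSMul fun i => if i = Fin.last 1 then (Units.mk0 z hz)⁻¹ else 1
    have hb' : ∀ i, b' i = (if i = Fin.last 1 then z⁻¹ else 1) • b i := fun i => by
      rw [Basis.unitsSMul_apply]
      split_ifs <;> simp [Units.smul_def]
    have hL := of_basis b' (w := fun _ : Fin 2 => (1 : F)) (Q := Orth.qPlus F 1)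
      (fun i j hij => by rw [hb', hb', polar_smul_left, polar_smul_right, ho i j hij, smul_zero, smul_zero])
      (fun i => by
        rw [hb', QuadraticMap.map_smul, hval, smul_eq_mul]
        split_ifs
        · field_simp
        · ring)
    rw [Nat.card_congr ((isoConj b'.equivFun.symm hL).trans (toMat _)).toEquiv, coe_plus, card_GO_plus 0,
      Finset.range_zero, Finset.prod_empty, hv1 (Fintype.card F + 1) (by omega)]
    simp [Nat.factorization_mul two_ne_zero (show Fintype.card F - 1 ≠ 0 by omega), Nat.prime_two.factorization_self]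
  · -- minus type
    have hns : ¬ IsSquare (-1 : F) := by rw [FiniteField.isSquare_neg_one_iff]; omega
    have hab : ∀ z₁ z₂ : F, z₁ ^ 2 + 0 * z₁ * z₂ + 1 * z₂ ^ 2 = 0 → z₁ = 0 ∧ z₂ = 0 := by
      intro x y h
      by_cases hy : y = 0
      · subst hy
        simp at h
        exact ⟨h, rfl⟩
      · refine absurd ⟨x / y, ?_⟩ hns
        field_simp
        linear_combination -h
    let L : (((Fin 0 ⊕ Fin 0) ⊕ Fin 2) → F) ≃ₗ[F] (Fin 2 → F) :=
      LinearEquiv.funCongrLeft F F (Equiv.emptySum (Fin 0 ⊕ Fin 0) (Fin 2)).symm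
    let Q' := formOf 0 (Equiv.refl ((Fin 0 ⊕ Fin 0) ⊕ Fin 2)) (planeForm (0 : F) 1)
    have hL : ∀ x, q2 F (L x) = Q' x := fun x => by
      show _ = (⇑Q') x
      rw [coe_minus, dg_apply, Fin.sum_univ_two]
      simp [L, Cfsg.quadFormMinus, pow_two]
    rw [← Nat.card_congr (isoConj L hL).toEquiv, Nat.card_congr (toMat Q').toEquiv, coe_minus, card_GO_minus 0 0 1 hab,
      Finset.range_zero, Finset.prod_empty, hv1 (Fintype.card F - 1) (by omega)]
    simp [Nat.factorization_mul two_ne_zero (show Fintype.card F + 1 ≠ 0 by omega), Nat.prime_two.factorization_self]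
    omega

/-- The 2-part of the product in the orders of the orthogonal groups. -/
theorem v_prod (hF : Odd (Fintype.card F)) (j : ℕ) :
    (∏ i ∈ Finset.range j, (Fintype.card F ^ (2 * (i + 1)) - 1)).factorization 2 =
      j * (Fintype.card F ^ 2 - 1).factorization 2 + j.factorial.factorization 2 := by
  have hq := Fintype.one_lt_card (α := F)
  induction j with
  | zero => simp
  | succ j ih =>
    have h0 : Fintype.card F ^ (2 * (j + 1)) - 1 ≠ 0 := by
      have : 1 < Fintype.card F ^ (2 * (j + 1)) := Nat.one_lt_pow (by omega) hq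
      omega
    have hP : ∏ i ∈ Finset.range j, (Fintype.card F ^ (2 * (i + 1)) - 1) ≠ 0 :=
      Finset.prod_ne_zero_iff.2 fun i _ => by
        have : 1 < Fintype.card F ^ (2 * (i + 1)) := Nat.one_lt_pow (by omega) hq
        omega
    rw [Finset.prod_range_succ, Nat.factorization_mul hP h0, Finsupp.add_apply, ih, Nat.factorial_succ,
      Nat.factorization_mul (by omega) (Nat.factorial_ne_zero j), Finsupp.add_apply]
    have e := TwoWreath.sq_sub_one hF (j + 1) (by omega)
    simp only [← Nat.factorization_def _ Nat.prime_two] at e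
    rw [e]
    ring

theorem v_order (hF : Odd (Fintype.card F)) (k x j : ℕ) (hx : x ≠ 0) :
    (2 * Fintype.card F ^ k * x * ∏ i ∈ Finset.range j, (Fintype.card F ^ (2 * (i + 1)) - 1)).factorization 2 =
      1 + x.factorization 2 + (j * (Fintype.card F ^ 2 - 1).factorization 2 + j.factorial.factorization 2) := by
  have hq := Fintype.one_lt_card (α := F)
  have hP : ∏ i ∈ Finset.range j, (Fintype.card F ^ (2 * (i + 1)) - 1) ≠ 0 :=
    Finset.prod_ne_zero_iff.2 fun i _ => by
      have : 1 < Fintype.card F ^ (2 * (i + 1)) := Nat.one_lt_pow (by omega) hq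
      omega
  have h1 : 2 * Fintype.card F ^ k ≠ 0 := mul_ne_zero two_ne_zero (pow_ne_zero _ (by omega))
  rw [Nat.factorization_mul (mul_ne_zero h1 hx) hP, Nat.factorization_mul h1 hx,
    Nat.factorization_mul two_ne_zero (pow_ne_zero _ (by omega))]
  simp only [Finsupp.add_apply]
  rw [Nat.prime_two.factorization_self, TwoWreath.odd_card_pow hF, v_prod hF, add_zero]

theorem sylow_odd (hF : Odd (Fintype.card F)) (m : ℕ) (hm : 2 ≤ m)
    (P : Sylow 2 ↥(Cfsg.Omega F (Cfsg.quadFormOdd m F))) :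
    ∀ x : (P : Subgroup ↥(Cfsg.Omega F (Cfsg.quadFormOdd m F))), x ^ 2 ∈ commutator (P : Subgroup _) := by
  classical
  have h2 : (2 : F) ≠ 0 := FormDisc.two_ne rfl hF
  obtain ⟨b, d, hd, ho, hval⟩ := OmegaTwoRank.exists_values
    (Q := formOf m (Equiv.sumComm Unit (Fin m ⊕ Fin m)) (lineForm F)) (formOf_pnd (pnd_line h2)) h2 (n := 2 * m)
    (by simp only [Fintype.card_sum, Fintype.card_unit, Fintype.card_fin]; omega) one_ne_zero
  let e0 : Fin (2 * m + 1) ≃ (Fin m × Fin 2) ⊕ Fin 1 := Fintype.equivOfCardEq (by simp; omega)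
  let e1 := e0.trans (Equiv.swap (e0 (Fin.last _)) (Sum.inr 0))
  have hlast : ∀ a, e1.symm a = Fin.last _ ↔ a = Sum.inr 0 := fun a => by
    rw [Equiv.symm_apply_eq, show e1 (Fin.last _) = Sum.inr 0 from Equiv.swap_apply_left _ _]
  refine sylow_model h2 hm ![d] (by simpa using hd) (Or.inl le_rfl) (coe_odd m) (b.reindex e1)
    (fun i j hij => by rw [Basis.reindex_apply, Basis.reindex_apply]; exact ho _ _ (e1.symm.injective.ne hij))
    (fun a => ?_) ?_ P
  · rw [Basis.reindex_apply, hval]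
    rcases a with a | a
    · rw [if_neg (fun h => by simpa using (hlast _).1 h)]; rfl
    · rw [Subsingleton.elim a 0, if_pos ((hlast _).2 rfl), one_mul]; rfl
  · rw [card_GO_odd h2, v_plane h2, ← mul_one (2 * Fintype.card F ^ m ^ 2), v_order hF _ 1 m one_ne_zero]
    simp
    omega

theorem exists_matched {ι : Type} [Fintype ι] [DecidableEq ι] {Q : QuadraticForm F (ι → F)} (h2 : (2 : F) ≠ 0)
    (hQ : PND Q) {m : ℕ} (hm : 1 ≤ m) (hι : Fintype.card ι = 2 * m) :
    ((∀ b : Basis (Fin (2 * m)) F (ι → F), IsSquare (Matrix.of fun i j => polar Q (b i) (b j)).det) →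
      ∃ b : Basis ((Fin m × Fin 2) ⊕ Fin 0) F (ι → F), (∀ i j, i ≠ j → polar Q (b i) (b j) = 0) ∧
        ∀ i, Q (b i) = wt m ![] i) ∧
    ((∀ b : Basis (Fin (2 * m)) F (ι → F), ¬ IsSquare (Matrix.of fun i j => polar Q (b i) (b j)).det) →
      ∃ (d : F) (b : Basis ((Fin (m - 1) × Fin 2) ⊕ Fin 2) F (ι → F)), d ≠ 0 ∧
        (∀ i j, i ≠ j → polar Q (b i) (b j) = 0) ∧ ∀ i, Q (b i) = wt (m - 1) ![1, d] i) := by
  classical
  obtain ⟨n, hn⟩ : ∃ n, 2 * m = n + 1 := ⟨2 * m - 1, by omega⟩
  rw [hn]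
  obtain ⟨b, d, hd, ho, hval⟩ := OmegaTwoRank.exists_values hQ h2 (hι.trans hn) one_ne_zero
  have hgram : IsSquare (Matrix.of fun i j => polar Q (b i) (b j)).det ↔ IsSquare d := by
    rw [OmegaTwoRank.gram_class h2 b ho, Fin.prod_univ_castSucc,
      Finset.prod_eq_one fun i _ => by rw [hval, if_neg (Fin.castSucc_lt_last i).ne], hval, if_pos rfl, one_mul,
      one_mul, ← hn, mul_comm]
    exact Orth.isSquare_mul_iff ⟨2 ^ m, by rw [← pow_add, two_mul]⟩ (pow_ne_zero _ h2)
  constructor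
  · intro h
    obtain ⟨z, rfl⟩ := hgram.1 (h b)
    have hz : z ≠ 0 := left_ne_zero_of_mul hd
    let b' := b.unitsSMul fun i => if i = Fin.last n then (Units.mk0 z hz)⁻¹ else 1
    have hb' : ∀ i, b' i = (if i = Fin.last n then z⁻¹ else 1) • b i := fun i => by
      rw [Basis.unitsSMul_apply]
      split_ifs <;> simp [Units.smul_def]
    let e1 : Fin (n + 1) ≃ (Fin m × Fin 2) ⊕ Fin 0 := Fintype.equivOfCardEq (by simp; omega)
    refine ⟨b'.reindex e1, fun i j hij => ?_, fun a => ?_⟩
    · rw [Basis.reindex_apply, Basis.reindex_apply, hb', hb', polar_smul_left, polar_smul_right,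
        ho _ _ (e1.symm.injective.ne hij), smul_zero, smul_zero]
    · rw [Basis.reindex_apply, hb', QuadraticMap.map_smul, hval, smul_eq_mul]
      rcases a with a | a
      · show _ = (1 : F)
        split_ifs
        · field_simp
        · ring
      · exact a.elim0
  · intro h
    let e0 : Fin (n + 1) ≃ (Fin (m - 1) × Fin 2) ⊕ Fin 2 := Fintype.equivOfCardEq (by simp; omega)
    let e1 := e0.trans (Equiv.swap (e0 (Fin.last _)) (Sum.inr 1))
    have hlast : ∀ a, e1.symm a = Fin.last _ ↔ a = Sum.inr 1 := fun a => by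
      rw [Equiv.symm_apply_eq, show e1 (Fin.last _) = Sum.inr 1 from Equiv.swap_apply_left _ _]
    refine ⟨d, b.reindex e1, hd, fun i j hij => ?_, fun a => ?_⟩
    · rw [Basis.reindex_apply, Basis.reindex_apply]; exact ho _ _ (e1.symm.injective.ne hij)
    · rw [Basis.reindex_apply, hval]
      rcases a with a | a
      · rw [if_neg (fun h => by simpa using (hlast _).1 h)]; rfl
      · obtain rfl | rfl : a = 0 ∨ a = 1 := by fin_cases a <;> simp
        · rw [if_neg (fun h => by simpa using (hlast _).1 h)]; rfl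
        · rw [if_pos ((hlast _).2 rfl), one_mul]; rfl

theorem sylow_even {ι : Type} [Fintype ι] [DecidableEq ι] {Q : QuadraticForm F (ι → F)} {q : (ι → F) → F}
    (hF : Odd (Fintype.card F)) (hq : ⇑Q = q) (hQ : PND Q) {m : ℕ} (hι : Fintype.card ι = 2 * m) (x : ℕ) (hx : x ≠ 0)
    (hcard : Nat.card ↥(Cfsg.isometryGroup F q) =
      2 * Fintype.card F ^ (m * (m - 1)) * x * ∏ i ∈ Finset.range (m - 1), (Fintype.card F ^ (2 * (i + 1)) - 1))
    (c : Prop)
    (hdisc : ∀ b : Basis (Fin (2 * m)) F (ι → F), IsSquare (Matrix.of fun i j => polar q (b i) (b j)).det ↔ c)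
    (hyes : c → 2 ≤ m ∧ x.factorization 2 + 1 = (Fintype.card F ^ 2 - 1).factorization 2 + m.factorization 2)
    (hno : ¬ c → 3 ≤ m ∧ x.factorization 2 = 1)
    (P : Sylow 2 ↥(Cfsg.Omega F q)) :
    ∀ x : (P : Subgroup ↥(Cfsg.Omega F q)), x ^ 2 ∈ commutator (P : Subgroup ↥(Cfsg.Omega F q)) := by
  classical
  subst hq
  have h2 : (2 : F) ≠ 0 := FormDisc.two_ne rfl hF
  by_cases hc : c
  · obtain ⟨hm, hv⟩ := hyes hc
    obtain ⟨b, ho, hval⟩ := (exists_matched h2 hQ (by omega : 1 ≤ m) hι).1 fun b => (hdisc b).2 hc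
    refine sylow_model h2 hm ![] (fun k => k.elim0) (Or.inl (Nat.zero_le _)) rfl b ho hval ?_ P
    obtain ⟨j, rfl⟩ : ∃ j, m = j + 1 := ⟨m - 1, by omega⟩
    rw [hcard, v_order hF _ x _ hx, v_plane h2, Nat.add_sub_cancel, Nat.factorial_succ,
      Nat.factorization_mul (by omega) (Nat.factorial_ne_zero j), Finsupp.add_apply, add_mul, one_mul]
    omega
  · obtain ⟨hm, hv⟩ := hno hc
    obtain ⟨d, b, hd, ho, hval⟩ := (exists_matched h2 hQ (by omega : 1 ≤ m) hι).2 fun b h => hc ((hdisc b).1 h)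
    refine sylow_model h2 (by omega) ![1, d] (fun k => by fin_cases k <;> simp [hd]) (Or.inr ⟨0, rfl⟩) rfl b ho hval ?_ P
    rw [hcard, v_order hF _ x _ hx, v_plane h2]
    omega

theorem v_sub (hF : Odd (Fintype.card F)) {m : ℕ} (hm : 1 ≤ m) (h : Fintype.card F ^ m % 4 = 1) :
    (Fintype.card F ^ m - 1).factorization 2 + 1 = (Fintype.card F ^ 2 - 1).factorization 2 + m.factorization 2 := by
  have hq := Fintype.one_lt_card (α := F)
  rcases Nat.even_or_odd m with ⟨k, rfl⟩ | ho
  · have e := TwoWreath.sq_sub_one hF k (by omega)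
    simp only [← Nat.factorization_def _ Nat.prime_two] at e
    rw [← two_mul, e, Nat.factorization_mul two_ne_zero (by omega), Finsupp.add_apply,
      Nat.prime_two.factorization_self]
    ring
  · have h4 : Fintype.card F % 4 = 1 := by
      obtain ⟨k, rfl⟩ := ho
      rcases Nat.odd_mod_four_iff.1 (Nat.odd_iff.1 hF) with h' | h'
      · exact h'
      · rw [Nat.pow_mod, h', pow_succ, pow_mul, Nat.mul_mod, Nat.pow_mod] at h
        norm_num at h
    rw [TwoWreath.v_odd_pow hF ho, Nat.factorization_eq_zero_of_not_dvd (n := m) (by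
        rcases ho with ⟨k, rfl⟩; omega), show Fintype.card F ^ 2 - 1 = (Fintype.card F + 1) * (Fintype.card F - 1) by
          rw [← Nat.sq_sub_sq, one_pow], Nat.factorization_mul (by omega) (by omega), Finsupp.add_apply]
    obtain ⟨k, hk⟩ : ∃ k, Fintype.card F + 1 = 2 * k ∧ ¬ 2 ∣ k := ⟨(Fintype.card F + 1) / 2, by omega⟩
    rw [hk.1, Nat.factorization_mul two_ne_zero (by omega), Finsupp.add_apply, Nat.prime_two.factorization_self,
      Nat.factorization_eq_zero_of_not_dvd hk.2]
    ring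

theorem v_one {n : ℕ} (hn : n % 4 = 2) : n.factorization 2 = 1 := by
  obtain ⟨k, rfl⟩ : ∃ k, n = 2 * k := ⟨n / 2, by omega⟩
  rw [Nat.factorization_mul two_ne_zero (by omega), Finsupp.add_apply, Nat.prime_two.factorization_self,
    Nat.factorization_eq_zero_of_not_dvd (by omega)]

theorem v_add (hF : Odd (Fintype.card F)) {m : ℕ} (h : Fintype.card F ^ m % 4 = 3) :
    (Fintype.card F ^ m + 1).factorization 2 + 1 = (Fintype.card F ^ 2 - 1).factorization 2 + m.factorization 2 := by
  have hq := Fintype.one_lt_card (α := F)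
  rcases Nat.even_or_odd m with ⟨k, rfl⟩ | ho
  · exfalso
    have : Odd (Fintype.card F ^ k) := hF.pow
    obtain ⟨t, ht⟩ := this
    rw [pow_add, ht, Nat.mul_mod] at h
    have : (2 * t + 1) % 4 = 1 ∨ (2 * t + 1) % 4 = 3 := by omega
    rcases this with e | e <;> rw [e] at h <;> norm_num at h
  · have e := TwoWreath.sq_sub_one hF m ho.pos.ne'
    simp only [← Nat.factorization_def _ Nat.prime_two] at e
    have hpos : 1 < Fintype.card F ^ m := Nat.one_lt_pow ho.pos.ne' hq
    rw [show Fintype.card F ^ (2 * m) - 1 = (Fintype.card F ^ m + 1) * (Fintype.card F ^ m - 1) by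
      rw [← Nat.sq_sub_sq, one_pow, ← pow_mul, mul_comm], Nat.factorization_mul (by omega) (by omega),
      Finsupp.add_apply, v_one (n := Fintype.card F ^ m - 1) (by omega)] at e
    exact e

theorem sylow_plus (hF : Odd (Fintype.card F)) (m : ℕ) (hm : 1 ≤ m) (hm' : Even m ∨ 4 ≤ m)
    (P : Sylow 2 ↥(Cfsg.Omega F (Cfsg.quadFormPlus m F))) :
    ∀ x : (P : Subgroup ↥(Cfsg.Omega F (Cfsg.quadFormPlus m F))), x ^ 2 ∈ commutator (P : Subgroup _) := by
  classical
  have hq := Fintype.one_lt_card (α := F)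
  have hpos : 1 < Fintype.card F ^ m := Nat.one_lt_pow (by omega) hq
  have hm2 : 2 ≤ m := hm'.elim (fun h => by obtain ⟨k, rfl⟩ := h; omega) (fun h => by omega)
  obtain ⟨hiff, hor⟩ := OmegaTwoRank.even_half_iff hF m
  refine sylow_even hF (coe_plus m) (Orth.qPlus_pnd F m) (by simp; omega) (Fintype.card F ^ m - 1) (by omega)
    ?_ (Fintype.card F ^ m % 4 = 1) (fun b => ?_) (fun h => ⟨hm2, v_sub hF hm h⟩)
    (fun h => ⟨?_, v_one (by omega)⟩) P
  · obtain ⟨j, rfl⟩ : ∃ j, m = j + 1 := ⟨m - 1, by omega⟩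
    rw [card_GO_plus, Nat.add_sub_cancel]
  · rw [FormDisc.disc_plus rfl hF b, hiff]
  · rcases hm' with ⟨k, rfl⟩ | h4
    · exfalso
      apply h
      rcases hor with h' | h'
      · exact h'
      · obtain ⟨t, ht⟩ : Odd (Fintype.card F ^ k) := hF.pow
        rw [pow_add, ht, Nat.mul_mod] at h'
        have : (2 * t + 1) % 4 = 1 ∨ (2 * t + 1) % 4 = 3 := by omega
        rcases this with e | e <;> rw [e] at h' <;> norm_num at h'
    · omega

theorem sylow_minus (hF : Odd (Fintype.card F)) (k : ℕ) (hk : 2 ≤ k) (a b : F)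
    (hab : ∀ z₁ z₂ : F, z₁ ^ 2 + a * z₁ * z₂ + b * z₂ ^ 2 = 0 → z₁ = 0 ∧ z₂ = 0)
    (P : Sylow 2 ↥(Cfsg.Omega F (Cfsg.quadFormMinus k F a b))) :
    ∀ x : (P : Subgroup ↥(Cfsg.Omega F (Cfsg.quadFormMinus k F a b))), x ^ 2 ∈ commutator (P : Subgroup _) := by
  classical
  have hq := Fintype.one_lt_card (α := F)
  obtain ⟨hiff, hor⟩ := OmegaTwoRank.even_half_iff hF (k + 1)
  refine sylow_even hF (coe_minus k a b) (formOf_pnd (pnd_plane hab)) (m := k + 1) (by simp; omega)
    (Fintype.card F ^ (k + 1) + 1) (by omega) ?_ (Fintype.card F ^ (k + 1) % 4 = 3) (fun bb => ?_)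
    (fun h => ⟨by omega, v_add hF h⟩) (fun h => ⟨by omega, v_one (by omega)⟩) P
  · rw [card_GO_minus k a b hab, Nat.add_sub_cancel]
  · rw [FormDisc.disc_minus rfl hF a b hab bb, hiff]
    omega

end Main

end Cfsg.Agent.Small.SylowTwoOmega
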