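import Cfsg.Agent.Lib.Small.OmegaSevenTables
import Cfsg.Agent.Lib.Small.SylowTwoOmega
import Cfsg.Agent.Lib.Local.FS.SimpleGroupSystem
import Mathlib.NumberTheory.LegendreSymbol.QuadraticChar.GaussSum

/-!
The derived group of the orthogonal group of dimension seven over a field with q = 3, 5 (mod 8): the monomial
group 2^6.A7 contains a Sylow two-subgroup, which is its own normalizer and has no proper strongly closed subgroup.
-/

set_option autoImplicit false
set_option linter.unusedSectionVars false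
set_option linter.style.haveILetI false

namespace Cfsg.Agent.Small.OmegaSeven

open Module QuadraticMap Cfsg.Agent.Classical Cfsg.Agent.Classical.OCount Cfsg.Agent.Classical.ORefl
  Cfsg.Agent.Classical.OOmega Cfsg.Agent.Small.SylowTwoOmega Equiv

variable {F : Type*} [Field F] (c : F)

/-- The form. -/
noncomputable abbrev q7 : QuadraticForm F (Fin 7 → F) := dg fun _ => c

/-- A sign change. -/
noncomputable def eS (f : V7) : ↥(Iso (q7 c)) := sX _ fun i => if f i then negRoot F else 1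

theorem eS_apply (f : V7) (x : Fin 7 → F) (i : Fin 7) : (eS c f).1 x i = (if f i then -1 else 1) * x i := by
  rw [eS, sX_apply]
  cases f i <;> rfl

/-- A permutation of the coordinates. -/
noncomputable def pP : Perm (Fin 7) →* ↥(Iso (q7 c)) where
  toFun π := pX _ π fun _ => rfl
  map_one' := Subtype.ext (LinearEquiv.ext fun x => funext fun i => rfl)
  map_mul' π ρ := Subtype.ext (LinearEquiv.ext fun x => funext fun i => rfl)

theorem pP_apply (π : Perm (Fin 7)) (x : Fin 7 → F) (i : Fin 7) : (pP c π).1 x i = x (π⁻¹ i) := rfl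

theorem eS_xr (f g : V7) : eS c f * eS c g = eS c (xr f g) :=
  Subtype.ext (LinearEquiv.ext fun x => funext fun i => by
    rw [Subgroup.coe_mul, LinearEquiv.mul_apply, eS_apply, eS_apply, eS_apply, xr]
    cases f i <;> cases g i <;> simp)

theorem eS_false : eS c (fun _ => false) = 1 :=
  Subtype.ext (LinearEquiv.ext fun x => funext fun i => by simp [eS_apply])

theorem eS_sq (f : V7) : eS c f * eS c f = 1 := by
  rw [eS_xr, ← eS_false]
  congr 1
  funext i
  simp [xr]

theorem eS_inv (f : V7) : (eS c f)⁻¹ = eS c f := inv_eq_of_mul_eq_one_right (eS_sq c f)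

theorem pP_eS (π : Perm (Fin 7)) (f : V7) : pP c π * eS c f = eS c (act π f) * pP c π :=
  Subtype.ext (LinearEquiv.ext fun x => funext fun i => by
    simp only [Subgroup.coe_mul, LinearEquiv.mul_apply, eS_apply, pP_apply]
    rfl)

theorem pP_conj (π : Perm (Fin 7)) (f : V7) : pP c π * eS c f * (pP c π)⁻¹ = eS c (act π f) := by
  rw [pP_eS, mul_inv_cancel_right]

theorem act_pr (π : Perm (Fin 7)) (i j : Fin 7) : act π (pr i j) = pr (π i) (π j) := by
  funext l
  exact decide_eq_decide.2 (or_congr Perm.inv_eq_iff_eq Perm.inv_eq_iff_eq)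

theorem xr_cancel (f g : V7) : xr (xr f g) g = f := by funext i; simp [xr]

/-- The product of two monomial elements. -/
theorem mono_mul (f g : V7) (π ρ : Perm (Fin 7)) :
    eS c f * pP c π * (eS c g * pP c ρ) = eS c (xr f (act π g)) * pP c (π * ρ) := by
  rw [mul_assoc, ← mul_assoc (pP c π), pP_eS, map_mul, ← mul_assoc, ← mul_assoc, eS_xr, mul_assoc]

section Odd

variable {c} (h2 : (2 : F) ≠ 0) (hc : c ≠ 0)

theorem sign_inj {a b : Bool} (h2 : (2 : F) ≠ 0) (h : (if a then (-1 : F) else 1) = if b then -1 else 1) : a = b := by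
  cases a <;> cases b <;> simp at h <;> first | rfl | exact absurd (by linear_combination h) h2 | exact absurd (by linear_combination -h) h2

include h2 in
theorem mono_inj {f g : V7} {π ρ : Perm (Fin 7)} (h : eS c f * pP c π = eS c g * pP c ρ) : f = g ∧ π = ρ := by
  have key : ∀ i, (if f (π i) then (-1 : F) else 1) = (if g (π i) then -1 else 1) *
      (Pi.single i 1 : Fin 7 → F) (ρ⁻¹ (π i)) := fun i => by
    have := congrFun (LinearEquiv.congr_fun (congrArg Subtype.val h) (Pi.single i 1)) (π i)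
    simpa [eS_apply, pP_apply] using this
  have hπ : π = ρ := Equiv.ext fun i => by
    by_contra hne
    have := key i
    rw [Pi.single_eq_of_ne (fun e => hne (Perm.inv_eq_iff_eq.1 e)), mul_zero] at this
    split_ifs at this <;> simp at this
  subst hπ
  refine ⟨funext fun i => sign_inj h2 ?_, rfl⟩
  have := key (π⁻¹ i)
  simpa using this

include h2 in
theorem eS_inj {f g : V7} (h : eS c f = eS c g) : f = g :=
  (mono_inj h2 (π := 1) (ρ := 1) (by rw [map_one, mul_one, mul_one, h])).1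

variable [Fintype F]

include h2 hc in
theorem sq_mem (g : ↥(Iso (q7 c))) : g * g ∈ commutator ↥(Iso (q7 c)) :=
  sq_mem_commutator h2 (dg_pnd h2 fun _ => hc) g

include h2 hc in
theorem eS_mem {f : V7} (hf : Ev f) : eS c f ∈ commutator ↥(Iso (q7 c)) := by
  have hp : ∀ i : Fin 7, eS c (if f i then pr 0 i else fun _ => false) ∈ commutator ↥(Iso (q7 c)) ∨ i = 0 := by
    intro i
    rcases eq_or_ne i 0 with rfl | hi
    · exact Or.inr rfl
    left
    split_ifs
    · convert sign_pair_mem (fun _ : Fin 7 => c) (Ne.symm hi) rfl _ (sq_mem h2 hc) using 1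
      rw [eS, ← map_mul]
      congr 1
      funext l
      rcases eq_or_ne l 0 with rfl | hl
      · simp [pr, Pi.mulSingle_eq_of_ne (Ne.symm hi)]
      · rcases eq_or_ne l i with rfl | hl'
        · simp [pr, Pi.mulSingle_eq_of_ne hl]
        · simp [pr, hl, hl', Pi.mulSingle_eq_of_ne]
    · rw [eS_false]; exact one_mem _
  rw [funext (ev_decomp f hf)]
  simp only [← eS_xr]
  exact mul_mem (mul_mem (mul_mem (mul_mem (mul_mem ((hp 1).resolve_right (by decide))
    ((hp 2).resolve_right (by decide))) ((hp 3).resolve_right (by decide))) ((hp 4).resolve_right (by decide)))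
    ((hp 5).resolve_right (by decide))) ((hp 6).resolve_right (by decide))

include h2 hc in
theorem pP_mem {π : Perm (Fin 7)} (hπ : Perm.sign π = 1) : pP c π ∈ commutator ↥(Iso (q7 c)) := by
  have h : π ∈ (commutator ↥(Iso (q7 c))).comap (pP c) := by
    have hm : π ∈ alternatingGroup (Fin 7) := Perm.mem_alternatingGroup.2 hπ
    rw [← Perm.closure_three_cycles_eq_alternating] at hm
    refine (Subgroup.closure_le _).2 ?_ hm
    intro σ hσ
    have h3 : σ ^ 3 = 1 := by
      rw [← (show σ.IsThreeCycle from hσ).orderOf]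
      exact pow_orderOf_eq_one σ
    show pP c σ ∈ commutator ↥(Iso (q7 c))
    rw [show σ = σ ^ 2 * σ ^ 2 by rw [← pow_add, show 2 + 2 = 3 + 1 from rfl, pow_succ, h3, one_mul], map_mul]
    exact sq_mem h2 hc _
  exact h

/-- The reflection in a coordinate vector. -/
theorem q7_single (i : Fin 7) : q7 c (Pi.single i 1) = c := by
  rw [dg_apply, Finset.sum_eq_single i (fun j _ hj => by rw [Pi.single_eq_of_ne hj]; ring) (by simp), Pi.single_eq_same]
  ring

theorem polar_single (i : Fin 7) (x : Fin 7 → F) : polar (q7 c) (Pi.single i 1) x = 2 * c * x i := by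
  rw [dg_polar, Finset.sum_eq_single i (fun j _ hj => by rw [Pi.single_eq_of_ne hj]; ring) (by simp), Pi.single_eq_same,
    one_mul]

theorem q7_diff : q7 c (Pi.single (2 : Fin 7) 1 - Pi.single 3 1) = 2 * c := by
  rw [dg_apply]
  simp [Fin.sum_univ_seven, Pi.single_apply]
  ring

include hc in
theorem rf_single (i : Fin 7) : rf (q7 c) (Pi.single i 1) = eS c (one1 i) :=
  Subtype.ext (LinearEquiv.ext fun x => funext fun l => by
    show ORefl.refl (q7 c) (Pi.single i 1) x l = _
    rw [ORefl.refl_apply, q7_single, polar_single, eS_apply]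
    simp only [Pi.sub_apply, Pi.smul_apply, smul_eq_mul, one1, Pi.single_apply, decide_eq_true_eq]
    split_ifs with h
    · subst h; field_simp; ring
    · ring)

include h2 hc in
theorem rf_diff : rf (q7 c) (Pi.single (2 : Fin 7) 1 - Pi.single 3 1) = pP c (swap 2 3) :=
  Subtype.ext (LinearEquiv.ext fun x => funext fun l => by
    show ORefl.refl (q7 c) _ x l = _
    have e : polar (q7 c) (Pi.single (2 : Fin 7) 1 - Pi.single 3 1) x = 2 * c * x 2 + -(2 * c * x 3) := by
      rw [← polar_single (c := c) 2 x, ← polar_single (c := c) 3 x, ← polar_neg_left, ← polar_add_left, sub_eq_add_neg]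
    rw [ORefl.refl_apply, q7_diff, pP_apply, e]
    simp only [Pi.sub_apply, Pi.smul_apply, smul_eq_mul, Pi.single_apply, Equiv.swap_inv, Equiv.swap_apply_def]
    split_ifs with h h' h'' <;> subst_vars
    · exact absurd h' (by decide)
    · field_simp; ring
    · field_simp; ring
    · ring)

variable (hns : ¬ IsSquare (2 : F))

include h2 hc hns in
/-- The four classes modulo the derived group. -/
theorem exists_rep (g : ↥(Iso (q7 c))) :
    g ∈ commutator ↥(Iso (q7 c)) ∨ g * eS c (one1 2) ∈ commutator ↥(Iso (q7 c)) ∨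
      g * pP c (swap 2 3) ∈ commutator ↥(Iso (q7 c)) ∨
      g * (eS c (one1 2) * pP c (swap 2 3)) ∈ commutator ↥(Iso (q7 c)) := by
  have hF : Nat.card F ≠ 2 := fun h => h2 (by
    have hc' : Fintype.card F = 2 := by rwa [← Nat.card_eq_fintype_card]
    have h' := FiniteField.cast_card_eq_zero F
    rwa [hc', Nat.cast_ofNat] at h')
  have hpnd : PND (q7 c) := dg_pnd h2 fun _ => hc
  obtain ⟨vs, hvs, rfl⟩ := Orth.exists_list hpnd (Or.inl hF) g
  have hnn : ∀ a b : F, ¬ IsSquare a → ¬ IsSquare b → IsSquare (a * b) := fun a b ha hb => by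
    have ha0 : a ≠ 0 := fun h => ha (h ▸ IsSquare.zero)
    have hb0 : b ≠ 0 := fun h => hb (h ▸ IsSquare.zero)
    classical
    have hF2 : ringChar F ≠ 2 := fun h => h2 (by
      haveI : CharP F 2 := ringChar.of_eq h
      exact CharTwo.two_eq_zero)
    rw [← quadraticChar_one_iff_isSquare (mul_ne_zero ha0 hb0), map_mul, quadraticChar_neg_one_iff_not_isSquare.2 ha,
      quadraticChar_neg_one_iff_not_isSquare.2 hb]
    norm_num
  set P := (vs.map fun v => q7 c v).prod with hP
  have mem : ∀ l : List (Fin 7 → F), (∀ v ∈ l, q7 c v ≠ 0) → Even (vs.length + l.length) →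
      IsSquare (P * (l.map fun v => q7 c v).prod) →
      Orth.prodRf (q7 c) vs * Orth.prodRf (q7 c) l ∈ commutator ↥(Iso (q7 c)) := fun l hl he hsq => by
    rw [← Orth.prodRf_append, Orth.mem_commutator_iff hpnd _ fun v hv => (List.mem_append.1 hv).elim (hvs v) (hl v),
      List.length_append, List.map_append, List.prod_append]
    exact ⟨he, hsq⟩
  have es := rf_single (c := c) hc 2
  have et := rf_diff (c := c) h2 hc
  have n1 : q7 c (Pi.single (2 : Fin 7) 1) ≠ 0 := by rw [q7_single]; exact hc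
  have n2 : q7 c (Pi.single (2 : Fin 7) 1 - Pi.single 3 1) ≠ 0 := by rw [q7_diff]; exact mul_ne_zero h2 hc
  rcases Nat.even_or_odd vs.length with he | ho
  · by_cases hs : IsSquare P
    · left
      have := mem [] (by simp) (by simpa using he) (by simpa using hs)
      rwa [Orth.prodRf_nil, mul_one] at this
    · right; right; right
      have := mem [Pi.single (2 : Fin 7) 1, Pi.single (2 : Fin 7) 1 - Pi.single 3 1] (by simp [n1, n2])
        (by simpa using he.add ⟨1, rfl⟩) (by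
          simp only [List.map_cons, List.map_nil, List.prod_cons, List.prod_nil, mul_one, q7_single, q7_diff]
          rw [show P * (c * (2 * c)) = (P * 2) * (c * c) by ring]
          exact (hnn _ _ hs hns).mul ⟨c, rfl⟩)
      rwa [Orth.prodRf_pair, es, et] at this
  · by_cases hs : IsSquare (P * c)
    · right; left
      have := mem [Pi.single (2 : Fin 7) 1] (by simp [n1]) (by simpa using ho.add_one) (by simpa [q7_single] using hs)
      rwa [Orth.prodRf_cons, Orth.prodRf_nil, mul_one, es] at this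
    · right; right; left
      have := mem [Pi.single (2 : Fin 7) 1 - Pi.single 3 1] (by simp [n2]) (by simpa using ho.add_one) (by
        simp only [List.map_cons, List.map_nil, List.prod_cons, List.prod_nil, mul_one, q7_diff]
        rw [show P * (2 * c) = (P * c) * 2 by ring]
        exact hnn _ _ hs hns)
      rwa [Orth.prodRf_cons, Orth.prodRf_nil, mul_one, et] at this

include h2 hc hns in
theorem not_mem : eS c (one1 2) ∉ commutator ↥(Iso (q7 c)) ∧ pP c (swap 2 3) ∉ commutator ↥(Iso (q7 c)) ∧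
    eS c (one1 2) * pP c (swap 2 3) ∉ commutator ↥(Iso (q7 c)) := by
  have hpnd : PND (q7 c) := dg_pnd h2 fun _ => hc
  have n1 : q7 c (Pi.single (2 : Fin 7) 1) ≠ 0 := by rw [q7_single]; exact hc
  have n2 : q7 c (Pi.single (2 : Fin 7) 1 - Pi.single 3 1) ≠ 0 := by rw [q7_diff]; exact mul_ne_zero h2 hc
  rw [← rf_single hc 2, ← rf_diff h2 hc]
  refine ⟨fun h => ?_, fun h => ?_, fun h => ?_⟩
  · have e := (Orth.mem_commutator_iff hpnd [Pi.single (2 : Fin 7) (1 : F)] (by simp [n1])).1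
      (by rwa [Orth.prodRf_cons, Orth.prodRf_nil, mul_one])
    simp at e
  · have e := (Orth.mem_commutator_iff hpnd [Pi.single (2 : Fin 7) (1 : F) - Pi.single 3 1] (by simp [n2])).1
      (by rwa [Orth.prodRf_cons, Orth.prodRf_nil, mul_one])
    simp at e
  · have e := ((Orth.mem_commutator_iff hpnd [Pi.single (2 : Fin 7) (1 : F), Pi.single (2 : Fin 7) 1 - Pi.single 3 1]
      (by simp [n1, n2])).1 (by rwa [Orth.prodRf_pair])).2
    simp only [List.map_cons, List.map_nil, List.prod_cons, List.prod_nil, mul_one, q7_single, q7_diff] at e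
    refine hns ?_
    obtain ⟨u, hu⟩ := e
    exact ⟨u / c, by field_simp; linear_combination hu⟩

include h2 hc hns in
theorem mono_mem {f : V7} {π : Perm (Fin 7)} (h : eS c f * pP c π ∈ commutator ↥(Iso (q7 c))) :
    Ev f ∧ Perm.sign π = 1 := by
  obtain ⟨ns, nt, nst⟩ := not_mem h2 hc hns
  have hN : (commutator ↥(Iso (q7 c))).Normal := inferInstance
  have h23 : (swap (2 : Fin 7) 3) * swap 2 3 = 1 := swap_mul_self _ _
  rcases Int.units_eq_one_or (Perm.sign π) with hs | hs
  · refine ⟨?_, hs⟩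
    by_contra hf
    have h1 : eS c f ∈ commutator ↥(Iso (q7 c)) := (Subgroup.mul_mem_cancel_right _ (pP_mem h2 hc hs)).1 h
    refine ns ((Subgroup.mul_mem_cancel_left _ (eS_mem h2 hc (ev_xr_one hf))).1 ?_)
    rwa [eS_xr, xr_cancel]
  · exfalso
    have hπ' : Perm.sign (π * swap 2 3) = 1 := by
      rw [map_mul, hs, Perm.sign_swap (by decide)]
      simp
    by_cases hf : Ev f
    · have h1 : pP c π ∈ commutator ↥(Iso (q7 c)) := (Subgroup.mul_mem_cancel_left _ (eS_mem h2 hc hf)).1 h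
      refine nt ((Subgroup.mul_mem_cancel_left _ (pP_mem h2 hc hπ')).1 ?_)
      rwa [← map_mul, mul_assoc, h23, mul_one]
    · have hn1 := eS_mem h2 hc (ev_xr_one hf) (c := c)
      have hn2 := pP_mem h2 hc hπ' (c := c)
      have e : eS c f * pP c π = eS c (xr f (one1 2)) * (eS c (one1 2) * pP c (π * swap 2 3) * (eS c (one1 2))⁻¹) *
          (eS c (one1 2) * pP c (swap 2 3)) := by
        have e1 : eS c f = eS c (xr f (one1 2)) * eS c (one1 2) := by rw [eS_xr, xr_cancel]
        have e2 : pP c π = pP c (π * swap 2 3) * pP c (swap 2 3) := by rw [← map_mul, mul_assoc, h23, mul_one]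
        rw [e1, e2]
        group
      rw [e] at h
      exact nst ((Subgroup.mul_mem_cancel_left _ (mul_mem hn1 (hN.conj_mem _ hn2 _))).1 h)

/-- The Sylow two-subgroup. -/
noncomputable def S0 (c : F) : Subgroup ↥(Iso (q7 c)) where
  carrier := {g | ∃ f : V7, Ev f ∧ ∃ x : Fin 8, g = eS c f * pP c (dp x)}
  one_mem' := ⟨fun _ => false, rfl, 0, by rw [eS_false, dp_zero, map_one, one_mul]⟩
  mul_mem' := by
    rintro _ _ ⟨f, hf, x, rfl⟩ ⟨g, hg, y, rfl⟩
    refine ⟨xr f (act (dp x) g), ev_xr hf ?_, mu x y, by rw [mono_mul, dp_mul]⟩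
    show par (act (dp x) g) = false
    have hinj := (dp x)⁻¹.injective
    have : ∀ h : V7, ∀ σ : Perm (Fin 7), par (fun i => h (σ i)) = par h := fun h σ => by
      have e : ∀ k : V7, par k = decide ((∑ i, if k i then (1 : ZMod 2) else 0) = 1) := by decide +kernel
      rw [e, e, Equiv.sum_comp σ fun i => if h i then (1 : ZMod 2) else 0]
    exact (this g _).trans hg
  inv_mem' := by
    rintro _ ⟨f, hf, x, rfl⟩
    refine ⟨act (dp x)⁻¹ f, ?_, iv x, ?_⟩
    · show par (fun i => f ((dp x)⁻¹⁻¹ i)) = false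
      have e : ∀ k : V7, par k = decide ((∑ i, if k i then (1 : ZMod 2) else 0) = 1) := by decide +kernel
      rw [e, Equiv.sum_comp (dp x)⁻¹⁻¹ fun i => if f i then (1 : ZMod 2) else 0, ← e]
      exact hf
    · rw [mul_inv_rev, ← map_inv, eS_inv, pP_eS, dp_inv]

include h2 hc in
theorem S0_le : S0 c ≤ commutator ↥(Iso (q7 c)) := by
  rintro _ ⟨f, hf, x, rfl⟩
  exact mul_mem (eS_mem h2 hc hf) (pP_mem h2 hc (dp_sign x))

theorem eS_mem_S0 {f : V7} (hf : Ev f) : eS c f ∈ S0 c := ⟨f, hf, 0, by rw [dp_zero, map_one, mul_one]⟩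

theorem pP_mem_S0 (x : Fin 8) : pP c (dp x) ∈ S0 c :=
  ⟨fun _ => false, rfl, x, by rw [eS_false, one_mul]⟩

include h2 in
theorem card_S0 : Nat.card (S0 c) = 2 ^ 9 := by
  let f : {v : V7 // Ev v} × Fin 8 → ↥(S0 c) := fun p => ⟨eS c p.1.1 * pP c (dp p.2), p.1.1, p.1.2, p.2, rfl⟩
  have hf : Function.Bijective f := by
    constructor
    · rintro ⟨⟨v, hv⟩, x⟩ ⟨⟨v', hv'⟩, x'⟩ h
      obtain ⟨h1, h1'⟩ := mono_inj h2 (congrArg Subtype.val h :)
      exact Prod.ext (Subtype.ext h1) (dp_injective h1')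
    · rintro ⟨_, v, hv, x, rfl⟩
      exact ⟨(⟨v, hv⟩, x), rfl⟩
  rw [← Nat.card_eq_of_bijective f hf, Nat.card_prod, Nat.card_fin, Nat.card_eq_fintype_card,
    Fintype.card_subtype, ev_count]
  rfl

/-! ### No proper strongly closed subgroup -/

set_option maxHeartbeats 1000000 in
include h2 hc in
theorem exists_fusion : ∃ g : ↥(Iso (q7 c)), g * eS c (pr 0 1) = pP c (dp 1) * g ∧
    (∀ x : Fin 7 → F, ∀ i : Fin 7, (4 : Fin 7) ≤ i → g.1 x i = x i) := by
  have h2F : Fintype.card F % 2 = 1 := Nat.odd_iff.1 (by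
    by_contra h
    exact h2 (by
      have hc := FiniteField.even_card_iff_char_two.2 (Nat.even_iff.1 (Nat.not_odd_iff_even.1 h))
      haveI : CharP F 2 := ringChar.of_eq hc
      exact CharTwo.two_eq_zero))
  obtain ⟨X, Y, hXY⟩ : ∃ X Y : F, 2 * (X * X + Y * Y) = 1 := by
    obtain ⟨a, b, hab⟩ := FiniteField.exists_root_sum_quadratic (R := F) (f := Polynomial.X ^ 2)
      (g := Polynomial.X ^ 2 - Polynomial.C (2⁻¹ : F)) (Polynomial.degree_X_pow 2)
      (Polynomial.degree_X_pow_sub_C two_pos _) h2F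
    refine ⟨a, b, ?_⟩
    simp only [Polynomial.eval_pow, Polynomial.eval_X, Polynomial.eval_sub, Polynomial.eval_C] at hab
    field_simp at hab
    linear_combination hab
  let L : (Fin 7 → F) →ₗ[F] (Fin 7 → F) :=
    { toFun := fun x => ![X * x 0 - Y * x 1 + X * x 2 - Y * x 3, -(X * x 0) + Y * x 1 + X * x 2 - Y * x 3,
        Y * x 0 + X * x 1 + Y * x 2 + X * x 3, -(Y * x 0) - X * x 1 + Y * x 2 + X * x 3, x 4, x 5, x 6]
      map_add' := fun x y => by funext i; fin_cases i <;> simp <;> ring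
      map_smul' := fun k x => by funext i; fin_cases i <;> simp <;> ring }
  have hL : ∀ x, q7 c (L x) = q7 c x := fun x => by
    simp only [dg_apply, Fin.sum_univ_seven]
    simp [L]
    linear_combination (c * (x 0 * x 0 + x 1 * x 1 + x 2 * x 2 + x 3 * x 3)) * hXY
  have hinj : Function.Injective L := by
    rw [← LinearMap.ker_eq_bot, LinearMap.ker_eq_bot']
    intro x hx
    refine dg_pnd h2 (fun _ => hc) x fun y => ?_
    have e : polar (q7 c) (L x) (L y) = polar (q7 c) x y := by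
      simp only [polar, ← map_add, hL]
    rw [← e, hx]
    simp [polar]
  refine ⟨⟨LinearEquiv.ofInjectiveEndo L hinj, hL⟩, Subtype.ext (LinearEquiv.ext fun x => funext fun i => ?_),
    fun x i hi => ?_⟩
  · show L ((eS c (pr 0 1)).1 x) i = (L x) ((dp 1)⁻¹ i)
    rw [dp_inv_apply, show iv 1 = 1 by decide +kernel]
    fin_cases i <;> simp [L, eS_apply, pr, tb] <;> ring
  · show L x i = x i
    revert hi
    fin_cases i <;> simp [L] <;> decide

include h2 hc hns in
theorem exists_fusion_N : ∃ n ∈ commutator ↥(Iso (q7 c)), n * eS c (pr 0 1) * n⁻¹ = pP c (dp 1) := by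
  obtain ⟨g, hg, -⟩ := exists_fusion h2 hc
  have h1 : Commute (eS c (one1 2)) (eS c (pr 0 1)) := by
    show _ * _ = _ * _
    rw [eS_xr, eS_xr]
    congr 1
    funext i
    simp [xr, Bool.xor_comm]
  have h3 : Commute (pP c (swap 2 3)) (eS c (pr 0 1)) := by
    show _ * _ = _ * _
    rw [pP_eS, act_pr, swap_apply_of_ne_of_ne (by decide) (by decide), swap_apply_of_ne_of_ne (by decide) (by decide)]
  have key : ∀ r, Commute r (eS c (pr 0 1)) → g * r ∈ commutator ↥(Iso (q7 c)) →
      ∃ n ∈ commutator ↥(Iso (q7 c)), n * eS c (pr 0 1) * n⁻¹ = pP c (dp 1) := fun r hr hm =>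
    ⟨g * r, hm, by rw [mul_inv_eq_iff_eq_mul, mul_assoc, hr.eq, ← mul_assoc, hg, mul_assoc]⟩
  rcases exists_rep h2 hc hns g with h | h | h | h
  · exact key 1 (Commute.one_left _) (by rwa [mul_one])
  · exact key _ h1 h
  · exact key _ h3 h
  · exact key _ (h1.mul_left h3) h

include h2 hc hns in
theorem no_strongly_closed (T : Subgroup ↥(Iso (q7 c))) (hT : T ≤ S0 c) (hT1 : T ≠ ⊥)
    (hcl : ∀ x ∈ T, ∀ g ∈ commutator ↥(Iso (q7 c)), g * x * g⁻¹ ∈ S0 c → g * x * g⁻¹ ∈ T) : T = S0 c := by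
  have hnorm : ∀ x ∈ T, ∀ s ∈ S0 c, s * x * s⁻¹ ∈ T := fun x hx s hs =>
    hcl x hx s (S0_le h2 hc hs) (mul_mem (mul_mem hs (hT hx)) (inv_mem hs))
  obtain ⟨f, hf, hfT, hf1⟩ : ∃ f : V7, Ev f ∧ eS c f ∈ T ∧ ∃ i, f i = true := by
    obtain ⟨⟨x, hx⟩, hx1⟩ := Subgroup.ne_bot_iff_exists_ne_one.1 hT1
    replace hx1 : x ≠ 1 := fun h => hx1 (Subtype.ext h)
    obtain ⟨f, hf, y, rfl⟩ := hT hx
    rcases eq_or_ne y 0 with rfl | hy
    · rw [dp_zero, map_one, mul_one] at hx hx1
      refine ⟨f, hf, hx, ?_⟩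
      by_contra! h
      exact hx1 (by rw [show f = fun _ => false from funext fun i => by simpa using h i, eS_false])
    · obtain ⟨i, hi⟩ : ∃ i, dp y i ≠ i := by
        by_contra! h
        exact hy (dp_injective (by rw [dp_zero]; exact Equiv.ext h))
      obtain ⟨l, hl1, hl2⟩ : ∃ l : Fin 7, l ≠ i ∧ l ≠ dp y i :=
        (show ∀ a b : Fin 7, ∃ l : Fin 7, l ≠ a ∧ l ≠ b by decide) i (dp y i)
      have h0 := ev_pr i l (Ne.symm hl1)
      have key := mul_mem hx (hnorm _ (inv_mem hx) _ (eS_mem_S0 h0))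
      rw [eS_inv, mul_inv_rev, eS_inv] at key
      have e : eS c f * pP c (dp y) * (eS c (pr i l) * ((pP c (dp y))⁻¹ * eS c f) * eS c (pr i l)) =
          eS c (xr (act (dp y) (pr i l)) (pr i l)) := by
        have e1 : eS c f * (eS c (act (dp y) (pr i l))) * eS c f = eS c (act (dp y) (pr i l)) := by
          rw [eS_xr, eS_xr]
          congr 1
          funext m
          simp only [xr]
          cases f m <;> cases act (dp y) (pr i l) m <;> rfl
        calc eS c f * pP c (dp y) * (eS c (pr i l) * ((pP c (dp y))⁻¹ * eS c f) * eS c (pr i l))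
            = eS c f * (pP c (dp y) * eS c (pr i l) * (pP c (dp y))⁻¹) * eS c f * eS c (pr i l) := by group
          _ = _ := by rw [pP_conj, e1, eS_xr]
      rw [e] at key
      refine ⟨_, ev_xr ?_ h0, key, dp y i, ?_⟩
      · rw [act_pr]
        exact ev_pr _ _ ((dp y).injective.ne (Ne.symm hl1))
      · simp [xr, act_pr, pr, hi, Ne.symm hl2]
  -- sign vectors
  have hact : ∀ π : Perm (Fin 7), Perm.sign π = 1 → ∀ v : V7, eS c v ∈ T → Ev (act π v) → eS c (act π v) ∈ T :=
    fun π hπ v hv hE => by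
      have := hcl _ hv _ (pP_mem h2 hc hπ) (by rw [pP_conj]; exact eS_mem_S0 hE)
      rwa [pP_conj] at this
  have hrot : ∀ i j k : Fin 7, i ≠ j → i ≠ k → j ≠ k → ∀ v : V7, Ev v → eS c v ∈ T → eS c (rot i j k v) ∈ T :=
    fun i j k hij hik hjk v hvE hv => by
      rw [← act_rot hij hik hjk]
      refine hact _ ?_ v hv ?_
      · rw [map_mul, Perm.sign_swap hij, Perm.sign_swap hjk]; decide
      · show par (fun l => v ((swap i j * swap j k)⁻¹ l)) = false
        have e : ∀ k : V7, par k = decide ((∑ i, if k i then (1 : ZMod 2) else 0) = 1) := by decide +kernel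
        rw [e, Equiv.sum_comp (swap i j * swap j k)⁻¹ fun i => if v i then (1 : ZMod 2) else 0, ← e]
        exact hvE
  obtain ⟨p, q, hpq, hpT⟩ : ∃ p q : Fin 7, p ≠ q ∧ eS c (pr p q) ∈ T := by
    obtain ⟨i, j, k, hij, hik, hjk, p, q, hpq, hl⟩ := to_pair f hf hf1
    refine ⟨p, q, hpq, ?_⟩
    rw [← funext hl, ← eS_xr]
    exact mul_mem hfT (hrot i j k hij hik hjk f hf hfT)
  have step : ∀ i j k : Fin 7, i ≠ j → k ≠ i → eS c (pr i j) ∈ T → eS c (pr i k) ∈ T := fun i j k hij hki h => by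
    rcases eq_or_ne k j with rfl | hkj
    · exact h
    obtain ⟨m, hjk, hjm, hkm, hl⟩ := pair_step i j k hij hki hkj
    rw [← funext hl]
    exact hrot j k m hjk hjm hkm _ (ev_pr i j hij) h
  have hsym : ∀ i j : Fin 7, pr i j = pr j i := fun i j => funext fun l => by simp [pr, or_comm]
  have hall : ∀ i j : Fin 7, i ≠ j → eS c (pr i j) ∈ T := fun i j hij => by
    rcases eq_or_ne i p with rfl | hip
    · exact step i q j hpq hij.symm hpT
    · have h1 := step p q i hpq hip hpT
      rw [hsym] at h1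
      exact step i p j hip hij.symm h1
  have hE : ∀ v : V7, Ev v → eS c v ∈ T := fun v hv => by
    have hp : ∀ i : Fin 7, i ≠ 0 → eS c (if v i then pr 0 i else fun _ => false) ∈ T := fun i hi => by
      split_ifs
      · exact hall 0 i (Ne.symm hi)
      · rw [eS_false]; exact one_mem _
    rw [funext (ev_decomp v hv)]
    simp only [← eS_xr]
    exact mul_mem (mul_mem (mul_mem (mul_mem (mul_mem (hp 1 (by decide)) (hp 2 (by decide))) (hp 3 (by decide)))
      (hp 4 (by decide))) (hp 5 (by decide))) (hp 6 (by decide))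
  obtain ⟨n, hn, hn'⟩ := exists_fusion_N h2 hc hns
  have hgen : ∀ (π : Perm (Fin 7)) (x : Fin 8), π * dp 1 * π⁻¹ = dp x → pP c (dp x) ∈ T := fun π x hx => by
    have := hcl _ (hE _ (ev_pr (π 0) (π 1) (π.injective.ne (by decide)))) (pP c π * n * (pP c π)⁻¹)
      ((inferInstance : (commutator ↥(Iso (q7 c))).Normal).conj_mem _ hn _) (by
        rw [← act_pr, ← pP_conj]
        rw [show pP c π * n * (pP c π)⁻¹ * (pP c π * eS c (pr 0 1) * (pP c π)⁻¹) * (pP c π * n * (pP c π)⁻¹)⁻¹ =
          pP c π * (n * eS c (pr 0 1) * n⁻¹) * (pP c π)⁻¹ by group, hn', ← map_inv, ← map_mul, ← map_mul, hx]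
        exact pP_mem_S0 x)
    rwa [← act_pr, ← pP_conj, show pP c π * n * (pP c π)⁻¹ * (pP c π * eS c (pr 0 1) * (pP c π)⁻¹) * (pP c π * n * (pP c π)⁻¹)⁻¹ =
          pP c π * (n * eS c (pr 0 1) * n⁻¹) * (pP c π)⁻¹ by group, hn', ← map_inv, ← map_mul, ← map_mul, hx] at this
  have g1 := hgen 1 1 (by rw [one_mul, inv_one, mul_one])
  have g2 := hgen (swap 1 2) 2 (Equiv.ext fun i => by
    rw [Perm.mul_apply, Perm.mul_apply, Equiv.swap_inv, dp_apply]; exact (gen_conj i).1)
  have g4 := hgen (swap 2 4 * swap 3 5) 4 (Equiv.ext fun i => by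
    have h := (gen_conj i).2
    have e : (swap (2 : Fin 7) 4 * swap 3 5)⁻¹ = swap 2 4 * swap 3 5 := by decide +kernel
    rw [Perm.mul_apply, Perm.mul_apply, e]
    exact h)
  refine le_antisymm hT ?_
  rintro _ ⟨v, hv, x, rfl⟩
  refine mul_mem (hE v hv) ?_
  have hx : x = 0 ∨ x = 1 ∨ x = 2 ∨ x = 4 ∨ x = mu 1 2 ∨ x = mu 1 4 ∨ x = mu 2 4 ∨ x = mu (mu 1 2) 4 := by
    revert x; decide +kernel
  rcases hx with rfl | rfl | rfl | rfl | rfl | rfl | rfl | rfl <;> (try simp only [← dp_mul, map_mul])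
  · rw [dp_zero, map_one]; exact one_mem T
  exacts [g1, g2, g4, mul_mem g1 g2, mul_mem g1 g4, mul_mem g2 g4, mul_mem (mul_mem g1 g2) g4]

/-! ### The normalizer -/

include h2 hc hns in
theorem normalizer_E (g : ↥(Iso (q7 c))) (hg : g ∈ commutator ↥(Iso (q7 c)))
    (hn : ∀ x ∈ S0 c, g * x * g⁻¹ ∈ S0 c) : ∀ f : V7, Ev f → ∃ v : V7, Ev v ∧ g * eS c f * g⁻¹ = eS c v := by
  classical
  have hA : ∀ f : {f : V7 // Ev f}, ∃ v : V7, Ev v ∧ ∃ x : Fin 8, g * eS c f.1 * g⁻¹ = eS c v * pP c (dp x) :=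
    fun f => hn _ (eS_mem_S0 f.2)
  choose V hV X hX using hA
  by_cases hall : ∀ f, X f = 0
  · intro f hf
    refine ⟨V ⟨f, hf⟩, hV _, ?_⟩
    rw [hX ⟨f, hf⟩, hall, dp_zero, map_one, mul_one]
  exfalso
  push Not at hall
  obtain ⟨f₀, hf₀⟩ := hall
  have hmulA : ∀ f f' : {f : V7 // Ev f}, g * eS c (xr f.1 f'.1) * g⁻¹ =
      eS c (xr (V f) (act (dp (X f)) (V f'))) * pP c (dp (mu (X f) (X f'))) := fun f f' => by
    rw [← dp_mul, ← mono_mul, ← hX, ← hX, ← eS_xr]
    group
  have hrel : ∀ f f' : {f : V7 // Ev f}, mu (X f) (X f') = mu (X f') (X f) ∧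
      xr (V f) (act (dp (X f)) (V f')) = xr (V f') (act (dp (X f')) (V f)) := fun f f' => by
    have h := (hmulA f f').symm.trans ((congrArg (fun v => g * eS c v * g⁻¹)
      (show xr f.1 f'.1 = xr f'.1 f.1 from funext fun i => Bool.xor_comm _ _)).trans (hmulA f' f))
    obtain ⟨h1, h1'⟩ := mono_inj h2 h
    exact ⟨dp_injective h1', h1⟩
  have hsq : ∀ f, mu (X f) (X f) = 0 := fun f => by
    have h : eS c (fun _ => false) * pP c (dp 0) = _ := Eq.trans (by
      rw [eS_false, dp_zero, map_one, one_mul, show xr f.1 f.1 = fun _ => false from funext fun i => by simp [xr],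
        eS_false, mul_one, mul_inv_cancel]) (hmulA f f)
    exact (dp_injective (mono_inj h2 h).2).symm
  let J : Fin 8 → Bool := fun x => decide (∃ f, X f = x)
  have hJ : ∀ x, J x = true ↔ ∃ f, X f = x := fun x => decide_eq_true_iff
  have hb := image_bound_tb J (fun x hx y hy => by
    obtain ⟨f, rfl⟩ := (hJ x).1 hx
    obtain ⟨f', rfl⟩ := (hJ y).1 hy
    exact ⟨(hrel f f').1, hsq f⟩) ⟨X f₀, (hJ _).2 ⟨f₀, rfl⟩, hf₀⟩
  choose B hB using fun x : {x // J x = true} => (hJ x.1).1 x.2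
  let D : {f : V7 // Ev f} → {f : V7 // Ev f} := fun f =>
    ⟨xr f.1 (B ⟨X f, (hJ _).2 ⟨f, rfl⟩⟩).1, ev_xr f.2 (B _).2⟩
  have hXD : ∀ f, X (D f) = 0 := fun f => by
    have h := (hmulA f (B ⟨X f, (hJ _).2 ⟨f, rfl⟩⟩)).symm.trans (hX (D f))
    rw [← dp_injective (mono_inj h2 h).2, hB, hsq]
  have hfix : ∀ f, X f = 0 → ∀ x, J x = true → ∀ i, V f (tb x i) = V f i := fun f hf x hx i => by
    obtain ⟨f', rfl⟩ := (hJ x).1 hx
    have h := congrFun (hrel f f').2 (dp (X f') i)
    simp only [xr] at h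
    rw [hf, dp_zero, show act (dp (X f')) (V f) (dp (X f') i) = V f i from
      congrArg (V f) (Equiv.symm_apply_apply _ _)] at h
    simp only [act, inv_one, Perm.one_apply, dp_apply] at h
    revert h
    cases V f (tb (X f') i) <;> cases V f' (tb (X f') i) <;> cases V f i <;> simp
  let Φ : {f : V7 // Ev f} → {x // x ∈ Finset.univ.filter (fun x => J x = true)} ×
      {v // v ∈ Finset.univ.filter (fun v : V7 => Ev v ∧ ∀ x, J x = true → ∀ i, v (tb x i) = v i)} := fun f =>
    (⟨X f, Finset.mem_filter.2 ⟨Finset.mem_univ _, (hJ _).2 ⟨f, rfl⟩⟩⟩,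
      ⟨V (D f), Finset.mem_filter.2 ⟨Finset.mem_univ _, hV _, hfix _ (hXD f)⟩⟩)
  have hΦ : Function.Injective Φ := fun f f' h => by
    have hx : X f = X f' := congrArg (fun p => (Prod.fst p).1) h
    have hv : V (D f) = V (D f') := congrArg (fun p => (Prod.snd p).1) h
    have h' : g * eS c (D f).1 * g⁻¹ = g * eS c (D f').1 * g⁻¹ := by
      rw [hX (D f), hX (D f'), hXD, hXD, hv]
    have h'' : (D f).1 = (D f').1 := eS_inj h2 (mul_left_cancel (mul_right_cancel h'))
    have hB' : B ⟨X f, (hJ _).2 ⟨f, rfl⟩⟩ = B ⟨X f', (hJ _).2 ⟨f', rfl⟩⟩ := congrArg B (Subtype.ext hx)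
    have h3 := congrArg (fun v => xr v (B ⟨X f, (hJ _).2 ⟨f, rfl⟩⟩).1) h''
    simp only [D] at h3
    rw [hB'] at h3
    rw [xr_cancel, xr_cancel] at h3
    exact Subtype.ext h3
  have := Nat.card_le_card_of_injective Φ hΦ
  rw [Nat.card_prod, Nat.card_eq_fintype_card, Fintype.card_subtype, ev_count, Nat.card_eq_fintype_card,
    Fintype.card_coe, Nat.card_eq_fintype_card, Fintype.card_coe] at this
  omega

include h2 hc in
theorem monomial_of_normalizes (g : ↥(Iso (q7 c)))
    (hn : ∀ f : V7, Ev f → ∃ v : V7, Ev v ∧ g * eS c f * g⁻¹ = eS c v) :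
    ∃ (h : V7) (π : Perm (Fin 7)), g = eS c h * pP c π := by
  classical
  choose τ hτE hτ using fun f : {f : V7 // Ev f} => hn f.1 f.2
  have hsurj : Function.Surjective (fun f : {f : V7 // Ev f} => (⟨τ f, hτE f⟩ : {f : V7 // Ev f})) := by
    refine Finite.surjective_of_injective fun f f' h => Subtype.ext (eS_inj h2 (c := c) ?_)
    have h' := hτ f
    rw [show τ f = τ f' from congrArg Subtype.val h, ← hτ f'] at h'
    exact mul_left_cancel (mul_right_cancel h')
  have hrel : ∀ (i k : Fin 7) (f : {f : V7 // Ev f}),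
      (if f.1 i then (-1 : F) else 1) * g.1 (Pi.single i 1) k = (if τ f k then -1 else 1) * g.1 (Pi.single i 1) k := by
    intro i k f
    have h1 : g * eS c f.1 = eS c (τ f) * g := mul_inv_eq_iff_eq_mul.1 (hτ f)
    have h := congrFun (LinearEquiv.congr_fun (congrArg Subtype.val h1) (Pi.single i 1)) k
    simp only [Subgroup.coe_mul, LinearEquiv.mul_apply] at h
    rw [eS_apply c (τ f), show (eS c f.1).1 (Pi.single i 1) = (if f.1 i then (-1 : F) else 1) • (Pi.single i 1 : Fin 7 → F) from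
      funext fun l => by
        rcases eq_or_ne l i with rfl | hl
        · rw [eS_apply]; simp
        · rw [eS_apply]; simp [hl], map_smul, Pi.smul_apply, smul_eq_mul] at h
    exact h
  have hone : ∀ i : Fin 7, ∃ (k : Fin 7) (s : Bool),
      g.1 (Pi.single i 1) = Pi.single k (if s then (-1 : F) else 1) := by
    intro i
    obtain ⟨k, hk⟩ : ∃ k, g.1 (Pi.single i 1) k ≠ 0 := by
      by_contra! h
      have h0 : g.1 (Pi.single i 1) = 0 := funext h
      exact one_ne_zero (α := F) (by simpa using congrFun (g.1.injective (h0.trans (map_zero g.1).symm)) i)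
    have huniq : ∀ l, l ≠ k → g.1 (Pi.single i 1) l = 0 := fun l hl => by
      by_contra h
      obtain ⟨m, hmk, hml⟩ : ∃ m : Fin 7, k ≠ m ∧ l ≠ m :=
        (show ∀ a b : Fin 7, ∃ m : Fin 7, a ≠ m ∧ b ≠ m by decide) k l
      obtain ⟨f, hf⟩ := hsurj ⟨pr k m, ev_pr k m hmk⟩
      have hk' := sign_inj h2 (mul_right_cancel₀ hk (hrel i k f))
      have hl' := sign_inj h2 (mul_right_cancel₀ h (hrel i l f))
      rw [show τ f = pr k m from congrArg Subtype.val hf] at hk' hl'
      rw [hk'] at hl'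
      simp [pr, hl, hml] at hl'
    have hv : g.1 (Pi.single i 1) = Pi.single k (g.1 (Pi.single i 1) k) := funext fun l => by
      rcases eq_or_ne l k with rfl | hl
      · rw [Pi.single_eq_same]
      · rw [huniq l hl, Pi.single_eq_of_ne hl]
    have hsq : g.1 (Pi.single i 1) k * g.1 (Pi.single i 1) k = 1 := by
      have h := g.2 (Pi.single i 1)
      rw [q7_single, hv, dg_apply, Finset.sum_eq_single k (fun j _ hj => by rw [Pi.single_eq_of_ne hj]; ring) (by simp),
        Pi.single_eq_same] at h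
      exact mul_left_cancel₀ hc (by linear_combination h)
    rcases mul_self_eq_one_iff.1 hsq with h | h
    · exact ⟨k, false, hv.trans (by rw [h]; rfl)⟩
    · exact ⟨k, true, hv.trans (by rw [h]; rfl)⟩
  choose k s hks using hone
  have hkinj : Function.Injective k := fun i j hij => by
    by_contra hne
    have e : g.1 ((if s j then (-1 : F) else 1) • Pi.single i 1) = g.1 ((if s i then (-1 : F) else 1) • Pi.single j 1) := by
      rw [map_smul, map_smul, hks, hks, hij, ← Pi.single_smul', ← Pi.single_smul', smul_eq_mul, smul_eq_mul, mul_comm]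
    have := congrFun (g.1.injective e) i
    simp [Pi.single_eq_of_ne hne] at this
    split_ifs at this <;> simp at this
  let π : Perm (Fin 7) := Equiv.ofBijective k (Finite.injective_iff_bijective.1 hkinj)
  refine ⟨fun l => s (π⁻¹ l), π, Subtype.ext (LinearEquiv.toLinearMap_injective ((Pi.basisFun F (Fin 7)).ext fun i => ?_))⟩
  rw [Pi.basisFun_apply, LinearEquiv.coe_coe, LinearEquiv.coe_coe, hks, Subgroup.coe_mul, LinearEquiv.mul_apply]
  funext l
  rw [eS_apply, pP_apply]
  rcases eq_or_ne l (π i) with rfl | hl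
  · rw [show π i = k i from rfl, Pi.single_eq_same, ← show π i = k i from rfl]; simp
  · rw [Pi.single_eq_of_ne (show l ≠ k i from hl), Pi.single_eq_of_ne (fun h => hl (Perm.inv_eq_iff_eq.1 h)), mul_zero]

include h2 hc hns in
theorem normalizer_self (g : ↥(Iso (q7 c))) (hg : g ∈ commutator ↥(Iso (q7 c)))
    (hn : ∀ x ∈ S0 c, g * x * g⁻¹ ∈ S0 c) : g ∈ S0 c := by
  obtain ⟨h, π, rfl⟩ := monomial_of_normalizes h2 hc g (normalizer_E h2 hc hns g hg hn)
  obtain ⟨hh, hπ⟩ := mono_mem h2 hc hns hg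
  have hD : ∀ x : Fin 8, ∃ y : Fin 8, π * dp x * π⁻¹ = dp y := fun x => by
    obtain ⟨v, -, y, hy⟩ := hn _ (pP_mem_S0 x)
    refine ⟨y, (mono_inj (c := c) h2 (f := xr h (act (π * dp x * π⁻¹) h)) (g := v) ?_).2⟩
    rw [← hy, mul_inv_rev, eS_inv, ← map_inv]
    have := mono_mul c h h (π * dp x * π⁻¹) 1
    rw [map_one, mul_one, mul_one] at this
    rw [← this, map_mul, map_mul]
    group
  choose y hy using hD
  have hπt : ∀ x i, π (tb x i) = tb (y x) (π i) := fun x i => by
    have := congrArg (fun p : Perm (Fin 7) => p (π i)) (hy x)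
    simpa [dp_apply] using this
  have hyinj : Function.Injective y := fun a b hab => dp_injective (by
    have := (hy a).trans ((congrArg dp hab).trans (hy b).symm)
    exact mul_left_cancel (mul_right_cancel this))
  have h66 : ∀ z : Fin 8, tb z 6 = 6 := by decide +kernel
  have h6 : π 6 = 6 := by
    have hfix : ∀ x, tb x (π 6) = π 6 := fun x => by
      obtain ⟨z, rfl⟩ := Finite.surjective_of_injective hyinj x
      rw [← hπt, h66]
    exact fix_six _ (hfix 1) (hfix 2) (hfix 4)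
  have t : tb 1 0 = 1 ∧ tb 2 0 = 2 ∧ tb 1 2 = 3 ∧ tb 1 1 = 0 ∧ tb 2 2 = 0 ∧ tb 2 1 = 3 ∧ tb 4 0 = 1 ∧ tb 4 2 = 2 ∧
      tb 4 4 = 5 ∧ tb 1 4 = 4 ∧ tb 2 4 = 4 := by decide +kernel
  obtain ⟨t10, t20, t12, t11, t22, t21, t40, t42, t44, t14, t24⟩ := t
  have p1 : tb (y 1) (π 0) = π 1 := by rw [← hπt, t10]
  have p2 : tb (y 2) (π 0) = π 2 := by rw [← hπt, t20]
  have p3 : tb (y 1) (π 2) = π 3 := by rw [← hπt, t12]
  have p5 : tb (y 4) (π 4) = π 5 := by rw [← hπt, t44]
  have q1 : tb (y 1) (π 1) = π 0 := by rw [← hπt, t11]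
  have q2 : tb (y 2) (π 2) = π 0 := by rw [← hπt, t22]
  have q3 : tb (y 2) (π 1) = π 3 := by rw [← hπt, t21]
  have q4 : tb (y 4) (π 0) = π 1 := by rw [← hπt, t40]
  have q5 : tb (y 4) (π 2) = π 2 := by rw [← hπt, t42]
  have r1 : tb (y 1) (π 4) = π 4 := by rw [← hπt, t14]
  have r2 : tb (y 2) (π 4) = π 4 := by rw [← hπt, t24]
  have d : ∀ i j : Fin 7, i ≠ j → π i ≠ π j := fun i j h => π.injective.ne h
  obtain ⟨z, hcase, hz6⟩ := normalizer_tb (y 1) (y 2) (π 0) (by rw [p1]; exact d _ _ (by decide))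
    (by rw [p2]; exact d _ _ (by decide)) (by rw [p1, p2]; exact d _ _ (by decide))
    (by rw [p1, q1]) (by rw [p2, q2]) (by rw [p1, p2, p3, q3])
    (by rw [p2, p3]; exact d _ _ (by decide)) (by rw [p1, p2, p3]; exact d _ _ (by decide))
    (by rw [p2, p3]; exact d _ _ (by decide))
    (y 4) (by rw [q4, p1]) (by rw [p2, q5]) (π 4) (d _ _ (by decide)) (by rw [p1]; exact d _ _ (by decide))
    (by rw [p2]; exact d _ _ (by decide)) (by rw [p2, p3]; exact d _ _ (by decide))
    (by rw [← h6]; exact d _ _ (by decide)) (by rw [p5]; exact d _ _ (by decide)) r1 r2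
  simp only [p1, p2, p3, p5] at hcase
  rcases hcase with ⟨a0, a1, a2, a3, a4, a5⟩ | ⟨a0, a1, a2, a3, a4, a5⟩
  · refine ⟨h, hh, z, ?_⟩
    congr 2
    refine Equiv.ext fun i => ?_
    fin_cases i <;> first | exact a0 | exact a1 | exact a2 | exact a3 | exact a4 | exact a5 | exact h6.trans hz6.symm
  · exfalso
    have hπeq : π = dp z * swap 4 5 := by
      refine Equiv.ext fun i => ?_
      fin_cases i
      · show π 0 = tb z (swap (4 : Fin 7) 5 0); rw [a0, swap_apply_of_ne_of_ne (by decide) (by decide)]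
      · show π 1 = tb z (swap (4 : Fin 7) 5 1); rw [a1, swap_apply_of_ne_of_ne (by decide) (by decide)]
      · show π 2 = tb z (swap (4 : Fin 7) 5 2); rw [a2, swap_apply_of_ne_of_ne (by decide) (by decide)]
      · show π 3 = tb z (swap (4 : Fin 7) 5 3); rw [a3, swap_apply_of_ne_of_ne (by decide) (by decide)]
      · show π 4 = tb z (swap (4 : Fin 7) 5 4); rw [a4, swap_apply_left]
      · show π 5 = tb z (swap (4 : Fin 7) 5 5); rw [a5, swap_apply_right]
      · show π 6 = tb z (swap (4 : Fin 7) 5 6); rw [h6, swap_apply_of_ne_of_ne (by decide) (by decide), hz6]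
    rw [hπeq, map_mul, dp_sign, Perm.sign_swap (by decide)] at hπ
    exact absurd hπ (by decide)

end Odd

/-! ### Transport -/

theorem v_q (q : ℕ) (hq : q % 8 = 3 ∨ q % 8 = 5) : (q ^ 2 - 1).factorization 2 = 3 := by
  have hv2 : ∀ n : ℕ, n % 8 = 4 → n.factorization 2 = 2 := fun n hn => by
    obtain ⟨k, rfl⟩ : ∃ k, n = 2 * k := ⟨n / 2, by omega⟩
    rw [Nat.factorization_mul two_ne_zero (by omega), Finsupp.add_apply, Nat.prime_two.factorization_self,
      v_one (n := k) (by omega)]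
  rw [show q ^ 2 - 1 = (q + 1) * (q - 1) by rw [← Nat.sq_sub_sq, one_pow],
    Nat.factorization_mul (by omega) (by omega), Finsupp.add_apply]
  rcases hq with h | h
  · rw [hv2 _ (by omega), v_one (n := q - 1) (by omega)]
  · rw [v_one (n := q + 1) (by omega), hv2 _ (by omega)]

set_option maxHeartbeats 4000000 in
theorem omega_seven (F : Type*) [Field F] [Fintype F] (hq : Fintype.card F % 8 = 3 ∨ Fintype.card F % 8 = 5)
    (S : Sylow 2 ↥(Cfsg.Omega F (Cfsg.quadFormOdd 3 F))) :
    (∀ g ∈ Subgroup.normalizer ((S : Subgroup ↥(Cfsg.Omega F (Cfsg.quadFormOdd 3 F))) : Set ↥(Cfsg.Omega F (Cfsg.quadFormOdd 3 F))),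
      g ∈ (S : Subgroup ↥(Cfsg.Omega F (Cfsg.quadFormOdd 3 F)))) ∧
    (S : Subgroup ↥(Cfsg.Omega F (Cfsg.quadFormOdd 3 F))) ≠ ⊥ ∧
    ∀ T : Subgroup ↥(Cfsg.Omega F (Cfsg.quadFormOdd 3 F)),
      (Cfsg.groupFusionSystem (S : Subgroup ↥(Cfsg.Omega F (Cfsg.quadFormOdd 3 F)))).StronglyClosed T →
      T = ⊥ ∨ T = (S : Subgroup ↥(Cfsg.Omega F (Cfsg.quadFormOdd 3 F))) := by
  classical
  haveI : Fact (Nat.Prime 2) := ⟨Nat.prime_two⟩
  have hF : Odd (Fintype.card F) := Nat.odd_iff.2 (by omega)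
  have h2 : (2 : F) ≠ 0 := FormDisc.two_ne rfl hF
  have hns : ¬ IsSquare (2 : F) := by rw [FiniteField.isSquare_two_iff]; omega
  set Q := formOf 3 (Equiv.sumComm Unit (Fin 3 ⊕ Fin 3)) (lineForm F) with hQdef
  have hpnd : PND Q := formOf_pnd (pnd_line h2)
  obtain ⟨b, d, hd, ho, hval⟩ := OmegaTwoRank.exists_values (Q := Q) hpnd h2 (n := 6)
    (by simp) one_ne_zero
  obtain ⟨X, Y, hXY⟩ : ∃ X Y : F, X * X + Y * Y = d := by
    obtain ⟨a, a', hab⟩ := FiniteField.exists_root_sum_quadratic (R := F) (f := Polynomial.X ^ 2)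
      (g := Polynomial.X ^ 2 - Polynomial.C d) (Polynomial.degree_X_pow 2)
      (Polynomial.degree_X_pow_sub_C two_pos _) (Nat.odd_iff.1 hF)
    refine ⟨a, a', ?_⟩
    simp only [Polynomial.eval_pow, Polynomial.eval_X, Polynomial.eval_sub, Polynomial.eval_C] at hab
    linear_combination hab
  let v : Fin 7 → ((Unit ⊕ (Fin 3 ⊕ Fin 3)) → F) :=
    ![X • b 0 + Y • b 1, (-Y) • b 0 + X • b 1, X • b 2 + Y • b 3, (-Y) • b 2 + X • b 3, X • b 4 + Y • b 5,
      (-Y) • b 4 + X • b 5, b 6]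
  have hb : ∀ i : Fin 7, Q (b i) = if i = 6 then d else 1 := fun i => by rw [hval, one_mul]; rfl
  have hQs : ∀ (s t : F) (i j : Fin 7), i ≠ j → Q (s • b i + t • b j) = s * s * Q (b i) + t * t * Q (b j) :=
    fun s t i j hij => by
      have h := polar (⇑Q) (s • b i) (t • b j)
      have h' : polar (⇑Q) (s • b i) (t • b j) = 0 := by rw [polar_smul_left, polar_smul_right, ho i j hij, smul_zero, smul_zero]
      rw [polar, QuadraticMap.map_smul, QuadraticMap.map_smul, smul_eq_mul, smul_eq_mul] at h'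
      linear_combination h'
  have hvQ : ∀ i, Q (v i) = d := by
    intro i
    fin_cases i <;> simp [v, -neg_smul, hQs, hb] <;> linear_combination hXY
  have hp : ∀ i j : Fin 7, polar (⇑Q) (b i) (b j) = if i = j then 2 * Q (b i) else 0 := fun i j => by
    rcases eq_or_ne i j with rfl | h
    · rw [if_pos rfl, polar_self, two_nsmul, two_mul]
    · rw [if_neg h, ho i j h]
  have hvo : ∀ i j, i ≠ j → polar (⇑Q) (v i) (v j) = 0 := by
    intro i j hij
    fin_cases i <;> fin_cases j <;> first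
      | exact absurd rfl hij
      | (simp [v, polar_add_left, polar_add_right, polar_smul_left, polar_smul_right, polar_neg_left, polar_neg_right,
          hp, hb] <;> ring)
  obtain ⟨b', hb'⟩ := OmegaTwoRank.basis_of_orth (Q := Q) (n := 7) h2 (by simp) (v := v)
    (fun i => by rw [hvQ]; exact hd) hvo
  have hq' : ⇑Q = Cfsg.quadFormOdd 3 F := coe_odd 3
  haveI : Finite ↥(Iso (q7 d)) := Finite.of_injective (fun g => (g.1 : (Fin 7 → F) → _))
    fun a b h => Subtype.ext (LinearEquiv.ext fun x => congrFun h x)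
  obtain ⟨E, hEN⟩ : ∃ E : ↥(Cfsg.isometryGroup F (Cfsg.quadFormOdd 3 F)) ≃* ↥(Iso (q7 d)),
      (Cfsg.Omega F (Cfsg.quadFormOdd 3 F)).map E.toMonoidHom = commutator ↥(Iso (q7 d)) := by
    rw [← hq']
    refine ⟨((isoConj b'.equivFun.symm (of_basis b' (w := fun _ => d) (fun i j hij => by rw [hb']; exact hvo i j hij)
      fun i => by rw [hb']; exact hvQ i)).trans (toMat Q)).symm, ?_⟩
    exact map_commutator_equiv _
  let ι : ↥(Cfsg.Omega F (Cfsg.quadFormOdd 3 F)) →* ↥(Iso (q7 d)) :=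
    E.toMonoidHom.comp (Cfsg.Omega F (Cfsg.quadFormOdd 3 F)).subtype
  have hinj : Function.Injective ι := E.injective.comp Subtype.val_injective
  have hrange : ι.range = commutator ↥(Iso (q7 d)) := by
    rw [MonoidHom.range_comp, Subgroup.range_subtype, hEN]
  have hcardN : (Nat.card ↥(commutator ↥(Iso (q7 d)))).factorization 2 = 9 := by
    have hidx := index_commutator (Q := q7 d) h2 (dg_pnd h2 fun _ => hd) (by simp)
    have hc := Subgroup.card_mul_index (commutator ↥(Iso (q7 d)))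
    rw [hidx, ← Nat.card_congr E.toEquiv, card_GO_odd h2] at hc
    have h := congrArg (fun n => n.factorization 2) hc
    rw [← mul_one (2 * Fintype.card F ^ 3 ^ 2), v_order hF _ 1 3 one_ne_zero, v_q _ hq,
      Nat.factorization_mul Nat.card_pos.ne' (by norm_num), Finsupp.add_apply, show (4 : ℕ) = 2 ^ 2 by norm_num,
      Nat.prime_two.factorization_pow, Finsupp.single_eq_same, Nat.factorization_one,
      show Nat.factorial 3 = 2 * 3 from rfl, Nat.factorization_mul two_ne_zero (by norm_num), Finsupp.add_apply,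
      Nat.prime_two.factorization_self, Nat.factorization_eq_zero_of_not_dvd (n := 3) (by norm_num)] at h
    simp at h
    omega
  let N := commutator ↥(Iso (q7 d))
  have hS0le : S0 d ≤ N := S0_le h2 hd
  let P0 : Sylow 2 ↥N := Sylow.ofCard ((S0 d).subgroupOf N) (by
    rw [Nat.card_congr (Subgroup.subgroupOfEquivOfLe hS0le).toEquiv, card_S0 h2, hcardN])
  let e : ↥(Cfsg.Omega F (Cfsg.quadFormOdd 3 F)) ≃* ↥N :=
    (MonoidHom.ofInjective hinj).trans (MulEquiv.subgroupCongr hrange)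
  have he : ∀ x, (e x).1 = ι x := fun x => rfl
  obtain ⟨n, hn⟩ := MulAction.exists_smul_eq ↥N P0 (Sylow.mapSurjective (f := e.toMonoidHom) e.surjective S)
  -- the conjugated embedding
  let κ : ↥(Cfsg.Omega F (Cfsg.quadFormOdd 3 F)) →* ↥(Iso (q7 d)) := (MulAut.conj n.1⁻¹).toMonoidHom.comp ι
  have hκinj : Function.Injective κ := (MulAut.conj n.1⁻¹).injective.comp hinj
  have hκN : ∀ x, κ x ∈ N := fun x =>
    (inferInstance : N.Normal).conj_mem _ (show ι x ∈ commutator ↥(Iso (q7 d)) by rw [← hrange]; exact ⟨x, rfl⟩) _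
  have hκsurj : ∀ y ∈ N, ∃ x, κ x = y := fun y hy => by
    obtain ⟨x, hx⟩ : n.1 * y * n.1⁻¹ ∈ ι.range := hrange ▸ (inferInstance : N.Normal).conj_mem _ hy _
    exact ⟨x, by show n.1⁻¹ * ι x * n.1⁻¹⁻¹ = y; rw [hx]; group⟩
  have hκS : (S : Subgroup ↥(Cfsg.Omega F (Cfsg.quadFormOdd 3 F))).map κ = S0 d := by
    have h1 : ((n • P0 : Sylow 2 ↥N) : Subgroup ↥N) =
        (S : Subgroup ↥(Cfsg.Omega F (Cfsg.quadFormOdd 3 F))).map e.toMonoidHom := by rw [hn]; rfl
    refine le_antisymm ?_ ?_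
    · rintro _ ⟨x, hx, rfl⟩
      have h2' : e x ∈ ((n • P0 : Sylow 2 ↥N) : Subgroup ↥N) := h1 ▸ ⟨x, hx, rfl⟩
      obtain ⟨y, hy, hyx⟩ := h2'
      have hyx' : n.1 * y.1 * n.1⁻¹ = ι x := (congrArg Subtype.val hyx).trans (he x)
      show n.1⁻¹ * ι x * n.1⁻¹⁻¹ ∈ S0 d
      rw [← hyx', show n.1⁻¹ * (n.1 * y.1 * n.1⁻¹) * n.1⁻¹⁻¹ = y.1 by group]
      exact hy
    · intro y hy
      have h2' : (MulAut.conj n) ⟨y, hS0le hy⟩ ∈ ((n • P0 : Sylow 2 ↥N) : Subgroup ↥N) := ⟨⟨y, hS0le hy⟩, hy, rfl⟩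
      rw [h1] at h2'
      obtain ⟨x, hx, hxy⟩ := h2'
      have hxy' : ι x = n.1 * y * n.1⁻¹ := (he x).symm.trans (congrArg Subtype.val hxy)
      exact ⟨x, hx, by show n.1⁻¹ * ι x * n.1⁻¹⁻¹ = y; rw [hxy']; group⟩
  have hmemS : ∀ x, κ x ∈ S0 d ↔ x ∈ (S : Subgroup ↥(Cfsg.Omega F (Cfsg.quadFormOdd 3 F))) := fun x => by
    rw [← hκS, Subgroup.mem_map_iff_mem hκinj]
  refine ⟨fun g hg => ?_, fun h => ?_, fun T hT => ?_⟩
  · refine (hmemS g).1 (normalizer_self h2 hd hns _ (hκN g) ?_)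
    rw [← hκS]
    rintro _ ⟨x, hx, rfl⟩
    exact ⟨g * x * g⁻¹, (Subgroup.mem_normalizer_iff.1 hg x).1 hx, by simp⟩
  · have hc := card_S0 (c := d) h2
    rw [← hκS, h, Subgroup.map_bot, Subgroup.card_bot] at hc
    norm_num at hc
  · refine or_iff_not_imp_left.2 fun hT1 => Subgroup.map_injective hκinj ?_
    rw [hκS]
    refine no_strongly_closed h2 hd hns _ (hκS ▸ Subgroup.map_mono hT.1) (fun h => hT1 ?_) ?_
    · exact (Subgroup.map_eq_bot_iff_of_injective _ hκinj).1 h
    · rintro _ ⟨x, hx, rfl⟩ m hm hmx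
      obtain ⟨a, rfl⟩ := hκsurj m hm
      rw [← map_inv, ← map_mul, ← map_mul] at hmx ⊢
      exact ⟨_, Local.FS.stronglyClosed_group_conj hT hx a ((hmemS _).1 hmx), rfl⟩

end Cfsg.Agent.Small.OmegaSeven
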