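import Mathlib

/-!
The monomial group 2^6.A7: finite checks on sign vectors and on a Sylow two-subgroup of A7.
-/

set_option autoImplicit false
set_option maxRecDepth 10000
set_option synthInstance.maxSize 2048

namespace Cfsg.Agent.Small.OmegaSeven

open Equiv

/-- Sign vectors. -/
abbrev V7 := Fin 7 → Bool

/-- The sum of sign vectors. -/
def xr (f g : V7) : V7 := fun i => xor (f i) (g i)

/-- The parity of a sign vector. -/
def par (f : V7) : Bool := xor (f 0) (xor (f 1) (xor (f 2) (xor (f 3) (xor (f 4) (xor (f 5) (f 6))))))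

/-- An even number of signs. -/
def Ev (f : V7) : Prop := par f = false

instance : DecidablePred Ev := fun f => inferInstanceAs (Decidable (par f = false))

/-- A pair. -/
def pr (i j : Fin 7) : V7 := fun l => decide (l = i ∨ l = j)

/-- One sign. -/
def one1 (i : Fin 7) : V7 := fun l => decide (l = i)

/-- The action of a permutation. -/
def act (π : Perm (Fin 7)) (f : V7) : V7 := fun i => f (π⁻¹ i)

/-- The table of the group. -/
def tb : Fin 8 → Fin 7 → Fin 7 :=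
  ![![0, 1, 2, 3, 4, 5, 6],
    ![1, 0, 3, 2, 4, 5, 6],
    ![2, 3, 0, 1, 4, 5, 6],
    ![3, 2, 1, 0, 4, 5, 6],
    ![1, 0, 2, 3, 5, 4, 6],
    ![0, 1, 3, 2, 5, 4, 6],
    ![3, 2, 0, 1, 5, 4, 6],
    ![2, 3, 1, 0, 5, 4, 6]]

/-- The multiplication table. -/
def mu : Fin 8 → Fin 8 → Fin 8 :=
  ![![0, 1, 2, 3, 4, 5, 6, 7],
    ![1, 0, 3, 2, 5, 4, 7, 6],
    ![2, 3, 0, 1, 6, 7, 4, 5],
    ![3, 2, 1, 0, 7, 6, 5, 4],
    ![4, 5, 7, 6, 0, 1, 3, 2],
    ![5, 4, 6, 7, 1, 0, 2, 3],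
    ![6, 7, 5, 4, 2, 3, 1, 0],
    ![7, 6, 4, 5, 3, 2, 0, 1]]

/-- The inverse table. -/
def iv : Fin 8 → Fin 8 := ![0, 1, 2, 3, 4, 5, 7, 6]

theorem tb_mu : ∀ x y : Fin 8, ∀ i : Fin 7, tb x (tb y i) = tb (mu x y) i := by decide +kernel

theorem mu_iv : ∀ x : Fin 8, mu x (iv x) = 0 ∧ mu (iv x) x = 0 := by decide +kernel

theorem tb_zero : ∀ i : Fin 7, tb 0 i = i := by decide +kernel

theorem tb_inj : ∀ x y : Fin 8, (∀ i : Fin 7, tb x i = tb y i) → x = y := by decide +kernel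

/-- The permutations of the table. -/
def dp (x : Fin 8) : Perm (Fin 7) where
  toFun := tb x
  invFun := tb (iv x)
  left_inv i := by rw [tb_mu, (mu_iv x).2, tb_zero]
  right_inv i := by rw [tb_mu, (mu_iv x).1, tb_zero]

theorem dp_apply (x : Fin 8) (i : Fin 7) : dp x i = tb x i := rfl

theorem dp_inv_apply (x : Fin 8) (i : Fin 7) : (dp x)⁻¹ i = tb (iv x) i := rfl

theorem dp_mul (x y : Fin 8) : dp x * dp y = dp (mu x y) := Equiv.ext fun i => tb_mu x y i

theorem dp_zero : dp 0 = 1 := Equiv.ext tb_zero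

theorem dp_injective : Function.Injective dp := fun x y h => tb_inj x y fun i => congrArg (fun p : Perm (Fin 7) => p i) h

theorem dp_inv (x : Fin 8) : (dp x)⁻¹ = dp (iv x) := Equiv.ext fun _ => rfl

theorem dp_sign (x : Fin 8) : Perm.sign (dp x) = 1 := by
  have gen : ∀ y : Fin 8, y = 1 ∨ y = 2 ∨ y = 4 → Perm.sign (dp y) = 1 := by
    intro y hy
    have e : ∀ (a b c d : Fin 7), a ≠ b → c ≠ d → (∀ i, tb y i = (swap a b * swap c d) i) →
        Perm.sign (dp y) = 1 := fun a b c d hab hcd h => by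
      rw [show dp y = swap a b * swap c d from Equiv.ext h, map_mul, Perm.sign_swap hab, Perm.sign_swap hcd]
      decide
    rcases hy with rfl | rfl | rfl
    · exact e 0 1 2 3 (by decide) (by decide) (by decide +kernel)
    · exact e 0 2 1 3 (by decide) (by decide) (by decide +kernel)
    · exact e 0 1 4 5 (by decide) (by decide) (by decide +kernel)
  have g1 := gen 1 (Or.inl rfl)
  have g2 := gen 2 (Or.inr (Or.inl rfl))
  have g4 := gen 4 (Or.inr (Or.inr rfl))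
  have h : x = 0 ∨ x = 1 ∨ x = 2 ∨ x = 4 ∨ x = mu 1 2 ∨ x = mu 1 4 ∨ x = mu 2 4 ∨ x = mu (mu 1 2) 4 := by
    revert x; decide +kernel
  rcases h with rfl | rfl | rfl | rfl | rfl | rfl | rfl | rfl
  · rw [dp_zero, map_one]
  · exact g1
  · exact g2
  · exact g4
  · rw [← dp_mul, map_mul, g1, g2, mul_one]
  · rw [← dp_mul, map_mul, g1, g4, mul_one]
  · rw [← dp_mul, map_mul, g2, g4, mul_one]
  · rw [← dp_mul, ← dp_mul, map_mul, map_mul, g1, g2, g4, mul_one, mul_one]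

theorem ev_count : (Finset.univ.filter fun f : V7 => Ev f).card = 64 := by decide +kernel

theorem image_bound_tb : ∀ J : Fin 8 → Bool,
    (∀ x, J x = true → ∀ y, J y = true → mu x y = mu y x ∧ mu x x = 0) → (∃ x, J x = true ∧ x ≠ 0) →
    (Finset.univ.filter fun x => J x = true).card *
      (Finset.univ.filter fun f : V7 => Ev f ∧ ∀ x, J x = true → ∀ i, f (tb x i) = f i).card < 64 := by
  decide +kernel

theorem ev_decomp : ∀ f : V7, Ev f → ∀ i, f i = xr (xr (xr (xr (xr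
    (if f 1 then pr 0 1 else fun _ => false) (if f 2 then pr 0 2 else fun _ => false))
    (if f 3 then pr 0 3 else fun _ => false)) (if f 4 then pr 0 4 else fun _ => false))
    (if f 5 then pr 0 5 else fun _ => false)) (if f 6 then pr 0 6 else fun _ => false) i := by decide +kernel

theorem ev_pr : ∀ i j : Fin 7, i ≠ j → Ev (pr i j) := by decide +kernel

theorem par_xr (f g : V7) : par (xr f g) = xor (par f) (par g) := by
  have h4 : ∀ a b c d : Bool, xor (xor a b) (xor c d) = xor (xor a c) (xor b d) := by decide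
  simp only [par, xr]
  rw [h4 (f 5) (g 5) (f 6) (g 6), h4 (f 4) (g 4), h4 (f 3) (g 3), h4 (f 2) (g 2), h4 (f 1) (g 1), h4 (f 0) (g 0)]

theorem ev_xr {f g : V7} (hf : Ev f) (hg : Ev g) : Ev (xr f g) := by
  rw [Ev, par_xr, hf, hg]
  rfl

theorem ev_xr_one {f : V7} (hf : ¬ Ev f) : Ev (xr f (one1 2)) := by
  rw [Ev, par_xr, show par (one1 2) = true from rfl]
  cases h : par f
  · exact absurd h hf
  · rfl

/-- A rotation of three coordinates. -/
def rot (i j k : Fin 7) (f : V7) : V7 := fun l => if l = i then f k else if l = j then f i else if l = k then f j else f l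

theorem act_rot {i j k : Fin 7} (hij : i ≠ j) (hik : i ≠ k) (hjk : j ≠ k) (f : V7) :
    act (swap i j * swap j k) f = rot i j k f := by
  funext l
  show f ((swap i j * swap j k)⁻¹ l) = _
  rw [mul_inv_rev, Equiv.swap_inv, Equiv.swap_inv, Perm.mul_apply, rot]
  split_ifs with h1 h2 h3
  · subst h1; rw [swap_apply_left, swap_apply_left]
  · subst h2; rw [swap_apply_right, swap_apply_of_ne_of_ne hij hik]
  · subst h3; rw [swap_apply_of_ne_of_ne h1 h2, swap_apply_right]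
  · rw [swap_apply_of_ne_of_ne h1 h2, swap_apply_of_ne_of_ne h2 h3]

theorem to_pair : ∀ f : V7, Ev f → (∃ i, f i = true) →
    ∃ i j k : Fin 7, i ≠ j ∧ i ≠ k ∧ j ≠ k ∧ ∃ p q : Fin 7, p ≠ q ∧ ∀ l, xr f (rot i j k f) l = pr p q l := by
  decide +kernel

theorem pair_step : ∀ i j k : Fin 7, i ≠ j → k ≠ i → k ≠ j →
    ∃ m : Fin 7, j ≠ k ∧ j ≠ m ∧ k ≠ m ∧ ∀ l, rot j k m (pr i j) l = pr i k l := by decide +kernel

theorem fix_six : ∀ g : Fin 7, tb 1 g = g → tb 2 g = g → tb 4 g = g → g = 6 := by decide +kernel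

theorem normalizer_tb : ∀ ya yb : Fin 8, ∀ a : Fin 7, tb ya a ≠ a → tb yb a ≠ a → tb yb a ≠ tb ya a →
    tb ya (tb ya a) = a → tb yb (tb yb a) = a → tb ya (tb yb a) = tb yb (tb ya a) →
    tb ya (tb yb a) ≠ a → tb ya (tb yb a) ≠ tb ya a → tb ya (tb yb a) ≠ tb yb a →
    ∀ yc : Fin 8, tb yc a = tb ya a → tb yc (tb yb a) = tb yb a →
    ∀ e : Fin 7, e ≠ a → e ≠ tb ya a → e ≠ tb yb a → e ≠ tb ya (tb yb a) → e ≠ 6 → tb yc e ≠ e →
      tb ya e = e → tb yb e = e →
    ∃ y : Fin 8,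
      ((a = tb y 0 ∧ tb ya a = tb y 1 ∧ tb yb a = tb y 2 ∧ tb ya (tb yb a) = tb y 3 ∧ e = tb y 4 ∧ tb yc e = tb y 5) ∨
      (a = tb y 0 ∧ tb ya a = tb y 1 ∧ tb yb a = tb y 2 ∧ tb ya (tb yb a) = tb y 3 ∧ e = tb y 5 ∧ tb yc e = tb y 4)) ∧
      tb y 6 = 6 := by
  decide +kernel

theorem gen_conj : ∀ i : Fin 7, (swap (1 : Fin 7) 2) (tb 1 ((swap (1 : Fin 7) 2) i)) = tb 2 i ∧
    (swap (2 : Fin 7) 4) ((swap (3 : Fin 7) 5) (tb 1 ((swap (2 : Fin 7) 4) ((swap (3 : Fin 7) 5) i)))) = tb 4 i := by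
  decide +kernel

theorem tb_one_eq : ∀ i : Fin 7, tb 1 i = swap (0 : Fin 7) 1 (swap (2 : Fin 7) 3 i) := by decide +kernel

end Cfsg.Agent.Small.OmegaSeven
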