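import Mathlib
import Cfsg.Prelude.Def_Classical

/-!
`Ω` of an orthogonal direct sum contains the product of the factors.
-/

set_option autoImplicit false

namespace Cfsg.Agent.Small.OmegaSum

open Matrix

variable {F : Type*} [Field F] {ι κ : Type} [Fintype ι] [DecidableEq ι] [Fintype κ] [DecidableEq κ]

/-- `g ↦ diag(g, 1)`. -/
def inlM : Matrix ι ι F →* Matrix (ι ⊕ κ) (ι ⊕ κ) F where
  toFun g := Matrix.fromBlocks g 0 0 1
  map_one' := Matrix.fromBlocks_one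
  map_mul' g h := by simp [Matrix.fromBlocks_multiply]

/-- `g ↦ diag(1, g)`. -/
def inrM : Matrix κ κ F →* Matrix (ι ⊕ κ) (ι ⊕ κ) F where
  toFun g := Matrix.fromBlocks 1 0 0 g
  map_one' := Matrix.fromBlocks_one
  map_mul' g h := by simp [Matrix.fromBlocks_multiply]

variable (Q₁ : (ι → F) → F) (Q₂ : (κ → F) → F)

theorem inl_mem {g : GL ι F} (h : g ∈ Cfsg.isometryGroup F Q₁) :
    Units.map (inlM (κ := κ)) g ∈
      Cfsg.isometryGroup F (fun v : ι ⊕ κ → F => Q₁ (v ∘ Sum.inl) + Q₂ (v ∘ Sum.inr)) := by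
  intro u v
  show Q₁ ((Matrix.fromBlocks (g : Matrix ι ι F) 0 0 1 *ᵥ u) ∘ Sum.inl) +
    Q₂ ((Matrix.fromBlocks (g : Matrix ι ι F) 0 0 1 *ᵥ u) ∘ Sum.inr) = _
  rw [Matrix.fromBlocks_mulVec]
  simp only [Matrix.zero_mulVec, add_zero, zero_add, Matrix.one_mulVec, Sum.elim_comp_inl,
    Sum.elim_comp_inr]
  exact congrArg (· + _) (h (u ∘ Sum.inl) (v ∘ Sum.inl))

theorem inr_mem {g : GL κ F} (h : g ∈ Cfsg.isometryGroup F Q₂) :
    Units.map (inrM (ι := ι)) g ∈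
      Cfsg.isometryGroup F (fun v : ι ⊕ κ → F => Q₁ (v ∘ Sum.inl) + Q₂ (v ∘ Sum.inr)) := by
  intro u v
  show Q₁ ((Matrix.fromBlocks 1 0 0 (g : Matrix κ κ F) *ᵥ u) ∘ Sum.inl) +
    Q₂ ((Matrix.fromBlocks 1 0 0 (g : Matrix κ κ F) *ᵥ u) ∘ Sum.inr) = _
  rw [Matrix.fromBlocks_mulVec]
  simp only [Matrix.zero_mulVec, add_zero, zero_add, Matrix.one_mulVec, Sum.elim_comp_inl,
    Sum.elim_comp_inr]
  exact congrArg (_ + ·) (h (u ∘ Sum.inr) (v ∘ Sum.inr))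

/-- The block-diagonal element lies in `Ω`. -/
theorem omega_sum {g₁ : ↥(Cfsg.isometryGroup F Q₁)} {g₂ : ↥(Cfsg.isometryGroup F Q₂)}
    (h₁ : g₁ ∈ Cfsg.Omega F Q₁) (h₂ : g₂ ∈ Cfsg.Omega F Q₂) :
    ∃ g : ↥(Cfsg.isometryGroup F (fun v : ι ⊕ κ → F => Q₁ (v ∘ Sum.inl) + Q₂ (v ∘ Sum.inr))),
      g ∈ Cfsg.Omega F (fun v : ι ⊕ κ → F => Q₁ (v ∘ Sum.inl) + Q₂ (v ∘ Sum.inr)) ∧
      ((g : GL (ι ⊕ κ) F) : Matrix (ι ⊕ κ) (ι ⊕ κ) F) =
        Matrix.fromBlocks ((g₁ : GL ι F) : Matrix ι ι F) 0 0 ((g₂ : GL κ F) : Matrix κ κ F) := by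
  let φ := ((Units.map (inlM (κ := κ))).comp (Cfsg.isometryGroup F Q₁).subtype).codRestrict
    (Cfsg.isometryGroup F (fun v : ι ⊕ κ → F => Q₁ (v ∘ Sum.inl) + Q₂ (v ∘ Sum.inr)))
    fun g => inl_mem Q₁ Q₂ g.2
  let ψ := ((Units.map (inrM (ι := ι))).comp (Cfsg.isometryGroup F Q₂).subtype).codRestrict
    (Cfsg.isometryGroup F (fun v : ι ⊕ κ → F => Q₁ (v ∘ Sum.inl) + Q₂ (v ∘ Sum.inr)))
    fun g => inr_mem Q₁ Q₂ g.2
  have hφ : φ g₁ ∈ commutator _ := (Subgroup.map_commutator _ _ φ).le.trans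
    (Subgroup.commutator_mono le_top le_top) (Subgroup.mem_map_of_mem φ h₁)
  have hψ : ψ g₂ ∈ commutator _ := (Subgroup.map_commutator _ _ ψ).le.trans
    (Subgroup.commutator_mono le_top le_top) (Subgroup.mem_map_of_mem ψ h₂)
  refine ⟨φ g₁ * ψ g₂, mul_mem hφ hψ, ?_⟩
  show Matrix.fromBlocks _ _ _ _ * Matrix.fromBlocks _ _ _ _ = _
  simp [Matrix.fromBlocks_multiply]

end Cfsg.Agent.Small.OmegaSum
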