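import Cfsg.Agent.Lib.Small.SmallOrders
import Cfsg.Agent.Lib.Fusion.Dihedral

/-!
# Sylow numbers, element orders and centralisers in a simple group of order 168
-/

set_option autoImplicit false
set_option linter.unusedSectionVars false

namespace Cfsg.Agent.Small.Order168

open Subgroup Cfsg.Agent.Small.SmallOrders
open scoped Pointwise

variable {G : Type*} [Group G] [Finite G]

/-- A subgroup of prime order `p`, the Sylow order, is a Sylow subgroup. -/
theorem exists_sylow_zpowers {p : ℕ} [Fact p.Prime] {x : G} (hx : orderOf x = p)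
    (hP : ∀ P : Sylow p G, Nat.card (P : Subgroup G) = p) : ∃ P : Sylow p G, (P : Subgroup G) = zpowers x := by
  obtain ⟨P, hle⟩ := (IsPGroup.of_card (n := 1) (by rw [Nat.card_zpowers, hx, pow_one] :
    Nat.card (zpowers x) = p ^ 1)).exists_le_sylow
  exact ⟨P, (eq_of_le_of_card_ge hle (by rw [hP, Nat.card_zpowers, hx])).symm⟩

theorem centralizer_zpowers (x : G) : centralizer ((zpowers x : Subgroup G) : Set G) = centralizer {x} := by
  refine le_antisymm (centralizer_le (by simp)) fun g hg => mem_centralizer_iff.2 fun y hy => ?_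
  obtain ⟨k, rfl⟩ := mem_zpowers_iff.1 hy
  exact (Commute.zpow_right (show Commute g x from mem_centralizer_singleton_iff.1 hg) k).eq.symm

/-- Elements of prime order are counted by the Sylow subgroups of that order. -/
theorem count_order_p {p : ℕ} [Fact p.Prime] (hP : ∀ P : Sylow p G, Nat.card (P : Subgroup G) = p) :
    Nat.card {g : G // orderOf g = p} = Nat.card (Sylow p G) * (p - 1) := by
  classical
  have := Fintype.ofFinite (Sylow p G)
  have hp : p.Prime := Fact.out
  let f : (Σ P : Sylow p G, {y : (P : Subgroup G) // y ≠ 1}) → {g : G // orderOf g = p} := fun x =>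
    ⟨(x.2.1 : G), by
      rw [Subgroup.orderOf_coe]
      refine ((Nat.dvd_prime hp).1 ((_root_.orderOf_dvd_natCard _).trans (dvd_of_eq (hP x.1)))).resolve_left ?_
      exact fun h => x.2.2 (orderOf_eq_one_iff.1 h)⟩
  have hf : Function.Bijective f := by
    constructor
    · rintro ⟨P, y, hy⟩ ⟨Q, z, hz⟩ e
      have e1 : (y : G) = (z : G) := congrArg Subtype.val e
      have hyp : orderOf (y : G) = p := (f ⟨P, y, hy⟩).2
      have hPQ : P = Q := by
        apply Sylow.ext
        rw [← eq_of_le_of_card_ge (show zpowers (y : G) ≤ P from zpowers_le.2 y.2) (by rw [hP, Nat.card_zpowers, hyp]),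
          ← eq_of_le_of_card_ge (show zpowers (y : G) ≤ Q from zpowers_le.2 (e1 ▸ z.2)) (by rw [hP, Nat.card_zpowers, hyp])]
      subst hPQ
      rw [Subtype.ext e1] at hy
      exact congrArg (Sigma.mk P) (Subtype.ext (Subtype.ext e1))
    · rintro ⟨g, hg⟩
      obtain ⟨P, hPg⟩ := exists_sylow_zpowers hg hP
      refine ⟨⟨P, ⟨⟨g, hPg ▸ mem_zpowers g⟩, fun h => ?_⟩⟩, rfl⟩
      rw [show g = 1 from congrArg Subtype.val h, orderOf_one] at hg
      exact hp.ne_one hg.symm
  have hfib : ∀ P : Sylow p G, Nat.card {y : (P : Subgroup G) // y ≠ 1} = p - 1 := fun P => by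
    have := Fintype.ofFinite (P : Subgroup G)
    rw [Nat.card_eq_fintype_card, Fintype.card_subtype_compl, Fintype.card_subtype_eq, ← Nat.card_eq_fintype_card, hP]
  rw [← Nat.card_eq_of_bijective f hf, Nat.card_sigma, Finset.sum_congr rfl fun P _ => hfib P, Finset.sum_const,
    Finset.card_univ, smul_eq_mul, Nat.card_eq_fintype_card]

/-- The centraliser of an element generating a Sylow subgroup of prime order. -/
theorem card_centralizer_prime [IsSimpleGroup G] {p e : ℕ} [Fact p.Prime] (he : e.Prime)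
    (hlt : p < Nat.card G) (hP : ∀ P : Sylow p G, Nat.card (P : Subgroup G) = p)
    (hN : ∀ P : Sylow p G, Nat.card (normalizer ((P : Subgroup G) : Set G)) = p * e) {x : G} (hx : orderOf x = p) :
    Nat.card (centralizer ({x} : Set G)) = p := by
  have hp : p.Prime := Fact.out
  obtain ⟨P, hPx⟩ := exists_sylow_zpowers hx hP
  rw [← centralizer_zpowers, ← hPx]
  have hle : centralizer ((P : Subgroup G) : Set G) ≤ normalizer ((P : Subgroup G) : Set G) :=
    centralizer_le_normalizer _
  have hPC : (P : Subgroup G) ≤ centralizer ((P : Subgroup G) : Set G) := by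
    rw [hPx, zpowers_le, centralizer_zpowers, mem_centralizer_singleton_iff]
  obtain ⟨j, hj⟩ := card_dvd_of_le hPC
  have hd := card_dvd_of_le hle
  rw [hj, hP, hN] at hd
  rw [hP] at hj
  rcases (Nat.dvd_prime he).1 (Nat.dvd_of_mul_dvd_mul_left hp.pos hd) with h1 | h1
  · rw [hj, h1, mul_one]
  · exfalso
    refine false_of_central P (by rw [show Nat.card P = p from hP P]; exact hp.one_lt)
      (by rw [show Nat.card P = p from hP P]; exact hlt) ?_
    exact (eq_of_le_of_card_ge hle (by rw [hj, h1, hN])).ge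

variable [IsSimpleGroup G] (h : Nat.card G = 168)
include h

theorem index_ge (H : Subgroup G) (hH : H ≠ ⊤) : 7 ≤ H.index := by
  by_contra hc
  have h1 := (card_dvd_index_factorial H hH).trans (Nat.factorial_dvd_factorial (show H.index ≤ 6 by omega))
  rw [h] at h1
  norm_num [Nat.factorial] at h1

theorem card_le (H : Subgroup G) (hH : H ≠ ⊤) : Nat.card H ≤ 24 := by
  have h1 := H.card_mul_index
  have h2 := index_ge h H hH
  rw [h] at h1
  nlinarith

theorem ne_top_of_card (H : Subgroup G) (hH : Nat.card H < 168) : H ≠ ⊤ := fun e => by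
  rw [e, card_top, h] at hH
  omega

theorem card_P7 [Fact (Nat.Prime 7)] (P : Sylow 7 G) : Nat.card (P : Subgroup G) = 7 :=
  (sylow_card_eq (m := 24) (k := 1) (by rw [h]; norm_num) (by norm_num) P).trans (by norm_num)

theorem card_P3 [Fact (Nat.Prime 3)] (P : Sylow 3 G) : Nat.card (P : Subgroup G) = 3 :=
  (sylow_card_eq (m := 56) (k := 1) (by rw [h]; norm_num) (by norm_num) P).trans (by norm_num)

theorem card_P2 [Fact (Nat.Prime 2)] (P : Sylow 2 G) : Nat.card (P : Subgroup G) = 8 :=
  (sylow_card_eq (m := 21) (k := 3) (by rw [h]; norm_num) (by norm_num) P).trans (by norm_num)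

theorem card_sylow7 : Nat.card (Sylow 7 G) = 8 := by
  haveI : Fact (Nat.Prime 7) := ⟨by norm_num⟩
  obtain ⟨P⟩ : Nonempty (Sylow 7 G) := inferInstance
  obtain ⟨h1, h2, h3⟩ := sylow_number (m := 24) (k := 1) P (by rw [pow_one]; exact card_P7 h P) one_pos
    (by rw [h]; norm_num) (by norm_num)
  obtain ⟨n, hn⟩ : ∃ n, Nat.card (Sylow 7 G) = n := ⟨_, rfl⟩
  rw [hn] at h1 h2 h3 ⊢
  have := Nat.le_of_dvd (by norm_num) h1
  interval_cases n <;> omega

theorem card_N7 [Fact (Nat.Prime 7)] (P : Sylow 7 G) :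
    Nat.card (normalizer ((P : Subgroup G) : Set G)) = 7 * 3 := by
  have := card_normalizer P
  rw [card_sylow7 h, h] at this
  omega

theorem card_C7 {x : G} (hx : orderOf x = 7) : Nat.card (centralizer ({x} : Set G)) = 7 := by
  haveI : Fact (Nat.Prime 7) := ⟨by norm_num⟩
  exact card_centralizer_prime Nat.prime_three (by rw [h]; norm_num) (card_P7 h) (card_N7 h) hx

/-- Orders of elements outside the normal subgroup of the normaliser of a Sylow 7-subgroup. -/
theorem order_three_of_mem_N7 [Fact (Nat.Prime 7)] (P : Sylow 7 G) {g : G}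
    (hg : g ∈ normalizer ((P : Subgroup G) : Set G)) (hgP : g ∉ (P : Subgroup G)) : orderOf g = 3 := by
  have hd : orderOf g ∣ 21 := by
    rw [← orderOf_mk g hg]
    exact (_root_.orderOf_dvd_natCard _).trans (dvd_of_eq (card_N7 h P))
  have h7 : orderOf g ≠ 7 := fun h7 => hgP (by
    have hp : IsPGroup 7 (zpowers g) := IsPGroup.of_card (n := 1) (by rw [Nat.card_zpowers, h7, pow_one])
    have := hp.inf_normalizer_sylow P
    exact (this ▸ (⟨mem_zpowers g, hg⟩ : g ∈ zpowers g ⊓ normalizer ((P : Subgroup G) : Set G)) :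
      g ∈ zpowers g ⊓ (P : Subgroup G)).2)
  have h21 : orderOf g ≠ 21 := fun h21 => by
    have hx : orderOf (g ^ 3) = 7 := by rw [orderOf_pow' g (by norm_num), h21]; norm_num
    have := card_dvd_of_le (show zpowers g ≤ centralizer ({g ^ 3} : Set G) from
      zpowers_le.2 (mem_centralizer_singleton_iff.2 (Commute.self_pow g 3).eq))
    rw [Nat.card_zpowers, h21, card_C7 h hx] at this
    norm_num at this
  have h1 : orderOf g ≠ 1 := fun h1 => hgP (orderOf_eq_one_iff.1 h1 ▸ one_mem _)
  obtain ⟨o, ho⟩ : ∃ o, orderOf g = o := ⟨_, rfl⟩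
  rw [ho] at hd h7 h21 h1 ⊢
  have := Nat.le_of_dvd (by norm_num) hd
  interval_cases o <;> omega

theorem card_sylow3 : Nat.card (Sylow 3 G) = 28 := by
  haveI : Fact (Nat.Prime 3) := ⟨Nat.prime_three⟩
  haveI : Fact (Nat.Prime 7) := ⟨by norm_num⟩
  obtain ⟨P⟩ : Nonempty (Sylow 3 G) := inferInstance
  obtain ⟨h1, h2, h3⟩ := sylow_number (m := 56) (k := 1) P (by rw [pow_one]; exact card_P3 h P) one_pos
    (by rw [h]; norm_num) (by norm_num)
  have hN := card_normalizer P
  have hNtop : normalizer ((P : Subgroup G) : Set G) ≠ ⊤ := by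
    refine ne_top_of_card h _ ?_
    rw [h] at hN
    have : 2 ≤ Nat.card (Sylow 3 G) := by
      have : 0 < Nat.card (Sylow 3 G) := Nat.card_pos
      omega
    nlinarith
  have h4 := card_le h _ hNtop
  obtain ⟨n, hn⟩ : ∃ n, Nat.card (Sylow 3 G) = n := ⟨_, rfl⟩
  rw [hn, h] at hN
  rw [hn] at h1 h2 h3 ⊢
  have := Nat.le_of_dvd (by norm_num) h1
  by_contra h28
  have hn7 : n = 7 := by
    interval_cases n <;> omega
  -- then every element of order three lies in one normaliser
  obtain ⟨P7⟩ : Nonempty (Sylow 7 G) := inferInstance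
  have hsub : ((normalizer ((P7 : Subgroup G) : Set G) : Set G) \ (P7 : Subgroup G)) ⊆ {g | orderOf g = 3} :=
    fun g hg => order_three_of_mem_N7 h P7 hg.1 hg.2
  have hcard : {g : G | orderOf g = 3}.ncard ≤
      ((normalizer ((P7 : Subgroup G) : Set G) : Set G) \ (P7 : Subgroup G)).ncard := by
    rw [Set.ncard_sdiff (by exact_mod_cast (le_normalizer : (P7 : Subgroup G) ≤ _)), ← Nat.card_coe_set_eq,
      ← Nat.card_coe_set_eq, ← Nat.card_coe_set_eq]
    show Nat.card {g : G // orderOf g = 3} ≤ Nat.card (normalizer ((P7 : Subgroup G) : Set G)) - Nat.card (P7 : Subgroup G)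
    rw [count_order_p (card_P3 h), hn, hn7, card_N7 h, card_P7 h]
  have heq := Set.eq_of_subset_of_ncard_le hsub hcard
  obtain ⟨x, hx⟩ := exists_prime_orderOf_dvd_card' (G := G) 3 (by rw [h]; norm_num)
  have hle : normalClosure ({x} : Set G) ≤ normalizer ((P7 : Subgroup G) : Set G) := by
    refine (closure_le _).2 fun y hy => ?_
    obtain ⟨a, ha, hay⟩ := Group.mem_conjugatesOfSet_iff.1 hy
    obtain ⟨c, hc⟩ := isConj_iff.1 hay
    rw [Set.mem_singleton_iff] at ha
    have : orderOf y = 3 := by rw [← hc, ← MulAut.conj_apply, MulEquiv.orderOf_eq, ha, hx]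
    exact (heq.symm ▸ this : y ∈ ((normalizer ((P7 : Subgroup G) : Set G) : Set G) \ (P7 : Subgroup G))).1
  rcases IsSimpleGroup.eq_bot_or_eq_top_of_normal (normalClosure ({x} : Set G)) inferInstance with e | e
  · have : x ∈ normalClosure ({x} : Set G) := subset_normalClosure rfl
    rw [e, mem_bot] at this
    rw [this, orderOf_one] at hx
    omega
  · exact ne_top_of_card h _ (by rw [card_N7 h]; norm_num) (top_le_iff.1 (e ▸ hle))

theorem card_N3 [Fact (Nat.Prime 3)] (P : Sylow 3 G) :
    Nat.card (normalizer ((P : Subgroup G) : Set G)) = 3 * 2 := by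
  have := card_normalizer P
  rw [card_sylow3 h, h] at this
  omega

theorem card_C3 {x : G} (hx : orderOf x = 3) : Nat.card (centralizer ({x} : Set G)) = 3 := by
  haveI : Fact (Nat.Prime 3) := ⟨Nat.prime_three⟩
  exact card_centralizer_prime Nat.prime_two (by rw [h]; norm_num) (card_P3 h) (card_N3 h) hx

/-- Every element is of order three, of order seven, or a 2-element. -/
theorem order_cases (g : G) : orderOf g = 3 ∨ orderOf g = 7 ∨ orderOf g ∣ 8 := by
  have hd : orderOf g ∣ 168 := h ▸ _root_.orderOf_dvd_natCard g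
  have key : ∀ q : ℕ, q.Prime → (∀ x : G, orderOf x = q → Nat.card (centralizer ({x} : Set G)) = q) →
      q ∣ orderOf g → orderOf g = q := fun q hq hC hqo => by
    obtain ⟨j, hj⟩ := hqo
    have hj0 : j ≠ 0 := fun e => (orderOf_pos g).ne' (by rw [hj, e, mul_zero])
    have hx : orderOf (g ^ j) = q := by
      rw [orderOf_pow' g hj0, hj, Nat.gcd_mul_left_left, Nat.mul_div_cancel _ (Nat.pos_of_ne_zero hj0)]
    have := card_dvd_of_le (show zpowers g ≤ centralizer ({g ^ j} : Set G) from
      zpowers_le.2 (mem_centralizer_singleton_iff.2 (Commute.self_pow g j).eq))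
    rw [Nat.card_zpowers, hC _ hx, hj] at this
    exact (hj.trans (Nat.dvd_antisymm this (dvd_mul_right q j)))
  by_cases h3 : 3 ∣ orderOf g
  · exact Or.inl (key 3 Nat.prime_three (fun x hx => card_C3 h hx) h3)
  by_cases h7 : 7 ∣ orderOf g
  · exact Or.inr (Or.inl (key 7 (by norm_num) (fun x hx => card_C7 h hx) h7))
  refine Or.inr (Or.inr ?_)
  have hc : (orderOf g).Coprime (3 * 7) :=
    Nat.Coprime.mul_right ((Nat.prime_three.coprime_iff_not_dvd.2 h3).symm)
      (((by norm_num : Nat.Prime 7).coprime_iff_not_dvd.2 h7).symm)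
  exact hc.dvd_of_dvd_mul_right (by simpa using hd)

theorem no_six (g : G) : orderOf g ≠ 6 := fun e => by
  rcases order_cases h g with h1 | h1 | h1 <;> rw [e] at h1 <;> norm_num at h1

/-- A Sylow 2-subgroup is self-normalising. -/
theorem normalizer_eq [Fact (Nat.Prime 2)] (T : Sylow 2 G) : normalizer ((T : Subgroup G) : Set G) = T := by
  classical
  obtain ⟨h1, h2, h3⟩ := sylow_number (m := 21) (k := 3) T (by exact card_P2 h T) (by norm_num)
    (by rw [h]; norm_num) (by norm_num)
  have hN := card_normalizer T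
  obtain ⟨N, hNd⟩ : ∃ N, N = normalizer ((T : Subgroup G) : Set G) := ⟨_, rfl⟩
  rw [← hNd] at hN ⊢
  have hNT : (T : Subgroup G) ≤ N := hNd ▸ le_normalizer
  obtain ⟨n, hn⟩ : ∃ n, Nat.card (Sylow 2 G) = n := ⟨_, rfl⟩
  rw [hn, h] at hN
  rw [hn] at h1 h2 h3
  have := Nat.le_of_dvd (by norm_num) h1
  have hcases : n = 21 ∨ n = 7 ∨ n = 3 := by interval_cases n <;> omega
  rcases hcases with rfl | rfl | rfl
  · exact (eq_of_le_of_card_ge hNT (by rw [card_P2 h]; omega)).symm
  · exfalso
    obtain ⟨e⟩ := nonempty_mulEquiv_perm_four (G := N) (by omega) fun g => by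
      rw [← Subgroup.orderOf_coe]; exact no_six h g
    have hin : ∀ g ∈ N, g * g = 1 → g ∈ (T : Subgroup G) := fun g hg hgg => by
      have hp : IsPGroup 2 (zpowers g) := by
        obtain ⟨j, -, hj⟩ := (Nat.dvd_prime_pow Nat.prime_two (m := 1)).1
          (orderOf_dvd_of_pow_eq_one (show g ^ (2 ^ 1) = 1 by rw [pow_one, pow_two, hgg]))
        exact IsPGroup.of_card (n := j) (by rw [Nat.card_zpowers, hj])
      exact (hp.inf_normalizer_sylow T ▸ (⟨mem_zpowers g, hNd ▸ hg⟩ :
        g ∈ zpowers g ⊓ normalizer ((T : Subgroup G) : Set G)) : g ∈ zpowers g ⊓ (T : Subgroup G)).2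
    have hle : Nat.card {σ : Equiv.Perm (Fin 4) // σ * σ = 1} ≤ Nat.card (T : Subgroup G) :=
      Nat.card_le_card_of_injective
        (fun σ => ⟨(e.symm σ.1 : G), hin _ (e.symm σ.1).2 (by
          rw [← Subgroup.coe_mul, ← map_mul, σ.2, map_one, Subgroup.coe_one])⟩)
        fun a b hab => Subtype.ext (e.symm.injective (Subtype.ext (congrArg (fun t : (T : Subgroup G) => (t : G)) hab)))
    rw [card_P2 h, Nat.card_eq_fintype_card, show Fintype.card {σ : Equiv.Perm (Fin 4) // σ * σ = 1} = 10 by decide] at hle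
    omega
  · exfalso
    have := card_le h N (ne_top_of_card h N (by omega))
    omega

theorem card_sylow2 : Nat.card (Sylow 2 G) = 21 := by
  haveI : Fact (Nat.Prime 2) := ⟨Nat.prime_two⟩
  obtain ⟨T⟩ : Nonempty (Sylow 2 G) := inferInstance
  have := card_normalizer T
  rw [normalizer_eq h T, card_P2 h, h] at this
  omega

theorem not_comm [Fact (Nat.Prime 2)] (T : Sylow 2 G) : ¬ ∀ a b : (T : Subgroup G), a * b = b * a := fun hc => by
  refine false_of_central T (by rw [show Nat.card T = 8 from card_P2 h T]; norm_num)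
    (by rw [show Nat.card T = 8 from card_P2 h T, h]; norm_num) ?_
  rw [normalizer_eq h T]
  exact fun x hx => mem_centralizer_iff.2 fun y hy => congrArg Subtype.val (hc ⟨y, hy⟩ ⟨x, hx⟩)

/-- The central involution of a Sylow 2-subgroup. -/
theorem exists_center [Fact (Nat.Prime 2)] (T : Sylow 2 G) :
    ∃ z : G, z ∈ (T : Subgroup G) ∧ orderOf z = 2 ∧ centralizer ({z} : Set G) = T ∧
      (∀ y ∈ (T : Subgroup G), (∀ t ∈ (T : Subgroup G), t * y = y * t) → y = 1 ∨ y = z) ∧
      ∀ x ∈ (T : Subgroup G), x * x = 1 ∨ x * x = z := by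
  classical
  haveI : Nontrivial (T : Subgroup G) := Finite.one_lt_card_iff_nontrivial.1 (by rw [card_P2 h]; norm_num)
  haveI := (T.isPGroup'.center_nontrivial : Nontrivial (center (T : Subgroup G)))
  have hnc : ¬ IsCyclic ((T : Subgroup G) ⧸ center (T : Subgroup G)) := fun hc => not_comm h T fun a b =>
    commutative_of_cyclic_center_quotient (QuotientGroup.mk' (center (T : Subgroup G))) (by simp) a b
  have hmul := Subgroup.card_eq_card_quotient_mul_card_subgroup (center (T : Subgroup G))
  rw [card_P2 h] at hmul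
  have h1 : 1 < Nat.card (center (T : Subgroup G)) := Finite.one_lt_card
  have hq1 : Nat.card ((T : Subgroup G) ⧸ center (T : Subgroup G)) ≠ 1 := fun e => by
    haveI : Subsingleton ((T : Subgroup G) ⧸ center (T : Subgroup G)) := (Nat.card_eq_one_iff_unique.1 e).1
    exact hnc inferInstance
  have hq2 : Nat.card ((T : Subgroup G) ⧸ center (T : Subgroup G)) ≠ 2 := fun e =>
    hnc (isCyclic_of_prime_card e)
  obtain ⟨c, hc⟩ : ∃ c, Nat.card (center (T : Subgroup G)) = c := ⟨_, rfl⟩
  obtain ⟨d, hd⟩ : ∃ d, Nat.card ((T : Subgroup G) ⧸ center (T : Subgroup G)) = d := ⟨_, rfl⟩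
  rw [hc, hd] at hmul
  rw [hc] at h1
  rw [hd] at hq1 hq2
  have hdle : d ∣ 8 := ⟨c, hmul⟩
  have hd4 : d = 4 := by
    have := Nat.le_of_dvd (by norm_num) hdle
    interval_cases d <;> omega
  have hc2 : c = 2 := by subst hd4; omega
  obtain ⟨z, hz⟩ := exists_prime_orderOf_dvd_card' (G := center (T : Subgroup G)) 2 (by rw [hc, hc2])
  have hz1 : z ≠ 1 := fun e => by rw [e, orderOf_one] at hz; omega
  have := Fintype.ofFinite (center (T : Subgroup G))
  have huniq : ∀ y : center (T : Subgroup G), y = 1 ∨ y = z := fun y => by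
    by_contra hne
    push Not at hne
    have : ({1, z, y} : Finset (center (T : Subgroup G))).card = 3 := by
      rw [Finset.card_insert_of_notMem (by simp [hz1.symm, hne.1.symm]), Finset.card_pair hne.2.symm]
    have h2 := Finset.card_le_univ ({1, z, y} : Finset (center (T : Subgroup G)))
    rw [← Nat.card_eq_fintype_card, hc, hc2] at h2
    omega
  obtain ⟨Z, hZd⟩ : ∃ Z, Z = ((z : (T : Subgroup G)) : G) := ⟨_, rfl⟩
  have hZo : orderOf Z = 2 := by rw [hZd, Subgroup.orderOf_coe, Subgroup.orderOf_coe, hz]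
  have hZc : ∀ t ∈ (T : Subgroup G), t * Z = Z * t := fun t ht => by
    rw [hZd]; exact congrArg Subtype.val (Subgroup.mem_center_iff.1 z.2 ⟨t, ht⟩)
  have hcent : ∀ y ∈ (T : Subgroup G), (∀ t ∈ (T : Subgroup G), t * y = y * t) → y = 1 ∨ y = Z := by
    intro y hy hyc
    rcases huniq ⟨⟨y, hy⟩, Subgroup.mem_center_iff.2 fun t => Subtype.ext (hyc t.1 t.2)⟩ with e | e
    · exact Or.inl (congrArg (fun w : center (T : Subgroup G) => ((w : (T : Subgroup G)) : G)) e)
    · exact Or.inr (hZd ▸ congrArg (fun w : center (T : Subgroup G) => ((w : (T : Subgroup G)) : G)) e)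
  refine ⟨Z, hZd ▸ (z : (T : Subgroup G)).2, hZo, ?_, hcent, ?_⟩
  · refine T.is_maximal' ?_ fun t ht => mem_centralizer_singleton_iff.2 (hZc t ht)
    intro g
    rcases order_cases h (g : G) with h3 | h3 | h3
    · exfalso
      have := card_dvd_of_le (show zpowers Z ≤ centralizer ({(g : G)} : Set G) from
        zpowers_le.2 (mem_centralizer_singleton_iff.2 (mem_centralizer_singleton_iff.1 g.2).symm))
      rw [Nat.card_zpowers, hZo, card_C3 h h3] at this
      norm_num at this
    · exfalso
      have := card_dvd_of_le (show zpowers Z ≤ centralizer ({(g : G)} : Set G) from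
        zpowers_le.2 (mem_centralizer_singleton_iff.2 (mem_centralizer_singleton_iff.1 g.2).symm))
      rw [Nat.card_zpowers, hZo, card_C7 h h3] at this
      norm_num at this
    · exact ⟨3, Subtype.ext (orderOf_dvd_iff_pow_eq_one.1 (h3.trans (by norm_num)))⟩
  · intro x hx
    have hq : (QuotientGroup.mk (⟨x, hx⟩ : (T : Subgroup G)) : (T : Subgroup G) ⧸ center (T : Subgroup G)) ^ 2 = 1 := by
      have hdv := _root_.orderOf_dvd_natCard
        (QuotientGroup.mk (⟨x, hx⟩ : (T : Subgroup G)) : (T : Subgroup G) ⧸ center (T : Subgroup G))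
      rw [hd, hd4] at hdv
      obtain ⟨j, hj, hj'⟩ := (Nat.dvd_prime_pow Nat.prime_two (m := 2)).1 hdv
      interval_cases j
      · exact orderOf_dvd_iff_pow_eq_one.1 (hj' ▸ by norm_num)
      · exact orderOf_dvd_iff_pow_eq_one.1 (hj' ▸ dvd_rfl)
      · exact absurd (isCyclic_of_orderOf_eq_card _ (by rw [hj', hd, hd4]; norm_num)) hnc
    rw [← QuotientGroup.mk_pow, QuotientGroup.eq_one_iff] at hq
    rcases huniq ⟨_, hq⟩ with e | e
    · exact Or.inl (by simpa [pow_two] using congrArg (fun w : center (T : Subgroup G) => ((w : (T : Subgroup G)) : G)) e)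
    · exact Or.inr (by simpa [pow_two, ← hZd] using congrArg (fun w : center (T : Subgroup G) => ((w : (T : Subgroup G)) : G)) e)

/-- Elements have order 1, 2, 3, 4 or 7. -/
theorem orders (g : G) : orderOf g = 1 ∨ orderOf g = 2 ∨ orderOf g = 3 ∨ orderOf g = 4 ∨ orderOf g = 7 := by
  haveI : Fact (Nat.Prime 2) := ⟨Nat.prime_two⟩
  rcases order_cases h g with h3 | h3 | h3
  · omega
  · omega
  obtain ⟨j, hj, hj'⟩ := (Nat.dvd_prime_pow Nat.prime_two (m := 3)).1 h3
  obtain ⟨T, hT⟩ := (IsPGroup.of_card (n := j) (by rw [Nat.card_zpowers, hj']) : IsPGroup 2 (zpowers g)).exists_le_sylow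
  obtain ⟨z, -, hz, -, -, hsq⟩ := exists_center h T
  have h4 : g ^ 4 = 1 := by
    rw [show (4 : ℕ) = 2 * 2 from rfl, pow_mul, pow_two g]
    rcases hsq g (hT (mem_zpowers g)) with e | e
    · rw [e, one_pow]
    · rw [e, ← hz, pow_orderOf_eq_one]
  have hd := orderOf_dvd_of_pow_eq_one h4
  obtain ⟨o, ho⟩ : ∃ o, orderOf g = o := ⟨_, rfl⟩
  rw [ho] at hd ⊢
  have := Nat.le_of_dvd (by norm_num) hd
  interval_cases o <;> omega

end Cfsg.Agent.Small.Order168
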