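import Cfsg.Agent.Lib.Small.Order168Classes

/-!
# Klein four-subgroups and maximal subgroups of a simple group of order 168
-/

set_option autoImplicit false
set_option linter.unusedSectionVars false

namespace Cfsg.Agent.Small.Order168

open Subgroup
open scoped Pointwise

variable {G : Type*} [Group G] [Finite G]

/-- Conjugation as a homomorphism. -/
abbrev cj (g : G) : G →* G := (MulAut.conj g).toMonoidHom

theorem mem_map_cj {g x : G} {H : Subgroup G} : x ∈ H.map (cj g) ↔ g⁻¹ * x * g ∈ H := by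
  constructor
  · rintro ⟨y, hy, rfl⟩
    show g⁻¹ * (g * y * g⁻¹) * g ∈ H
    rwa [show g⁻¹ * (g * y * g⁻¹) * g = y by group]
  · intro hx
    exact ⟨_, hx, show g * (g⁻¹ * x * g) * g⁻¹ = x by group⟩

theorem map_cj_mul (g k : G) (H : Subgroup G) : H.map (cj (g * k)) = (H.map (cj k)).map (cj g) := by
  ext x
  rw [mem_map_cj, mem_map_cj, mem_map_cj]
  simp only [_root_.mul_inv_rev, mul_assoc]

theorem map_cj_eq_self {g : G} {H : Subgroup G} (hg : g ∈ normalizer (H : Set G)) : H.map (cj g) = H := by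
  ext x
  rw [mem_map_cj]
  exact (mem_normalizer_iff''.1 hg x).symm

theorem normalizer_map_cj (g : G) (H : Subgroup G) :
    (normalizer (H : Set G)).map (cj g) = normalizer ((H.map (cj g) : Subgroup G) : Set G) :=
  map_normalizer_eq_of_bijective H (MulAut.conj g).bijective

theorem sylow_smul_eq_map {p : ℕ} [Fact p.Prime] (g : G) (P : Sylow p G) :
    ((g • P : Sylow p G) : Subgroup G) = (P : Subgroup G).map (cj g) := by
  rw [Sylow.coe_subgroup_smul]
  rfl

/-- A group of order four all whose squares are trivial is a four-group. -/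
theorem klein_of_sq {V : Type*} [Group V] (hc : Nat.card V = 4) (hsq : ∀ v : V, v * v = 1) : IsKleinFour V where
  card_four := hc
  exponent_two := by
    rcases (Nat.dvd_prime Nat.prime_two).1 (Monoid.exponent_dvd_of_forall_pow_eq_one fun v : V => by
      rw [pow_two]; exact hsq v) with e | e
    · rw [Monoid.exp_eq_one_iff] at e
      haveI := e
      rw [Nat.card_of_subsingleton (1 : V)] at hc
      omega
    · exact e

theorem klein_sq {V : Type*} [Group V] [IsKleinFour V] (v : V) : v * v = 1 := by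
  rw [← pow_two, ← IsKleinFour.exponent_two (G := V), Monoid.pow_exponent_eq_one]

/-- The four-group on two commuting involutions. -/
def four (z a : G) (hz : z * z = 1) (ha : a * a = 1) (hc : z * a = a * z) : Subgroup G where
  carrier := {1, z, a, z * a}
  one_mem' := Or.inl rfl
  mul_mem' := by
    intro x y hx hy
    simp only [Set.mem_insert_iff, Set.mem_singleton_iff] at hx hy ⊢
    have e1 : z * (z * a) = a := by rw [← mul_assoc, hz, one_mul]
    have e2 : a * (z * a) = z := by rw [← mul_assoc, ← hc, mul_assoc, ha, mul_one]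
    have e3 : (z * a) * z = a := by rw [hc, mul_assoc, hz, mul_one]
    have e4 : (z * a) * a = z := by rw [mul_assoc, ha, mul_one]
    have e5 : (z * a) * (z * a) = 1 := by rw [mul_assoc, e2, hz]
    rcases hx with rfl | rfl | rfl | rfl <;> rcases hy with rfl | rfl | rfl | rfl <;>
      simp [hz, ha, hc.symm, e1, e2, e3, e4, e5]
  inv_mem' := by
    intro x hx
    simp only [Set.mem_insert_iff, Set.mem_singleton_iff] at hx ⊢
    rcases hx with rfl | rfl | rfl | rfl
    · simp
    · exact Or.inr (Or.inl (inv_eq_of_mul_eq_one_left hz))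
    · exact Or.inr (Or.inr (Or.inl (inv_eq_of_mul_eq_one_left ha)))
    · refine Or.inr (Or.inr (Or.inr (inv_eq_of_mul_eq_one_left ?_)))
      rw [mul_assoc, ← mul_assoc a, ← hc, mul_assoc z a a, ha, mul_one, hz]

theorem mem_four {z a x : G} {hz : z * z = 1} {ha : a * a = 1} {hc : z * a = a * z} :
    x ∈ four z a hz ha hc ↔ x = 1 ∨ x = z ∨ x = a ∨ x = z * a := Iff.rfl

theorem card_four {z a : G} {hz : z * z = 1} {ha : a * a = 1} {hc : z * a = a * z} (h1 : z ≠ 1) (h2 : a ≠ 1)
    (h3 : a ≠ z) : Nat.card (four z a hz ha hc) = 4 := by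
  show Nat.card ↥({1, z, a, z * a} : Set G) = 4
  have h4 : z * a ≠ 1 := fun e => h3 (mul_left_cancel (a := z) (by rw [e, hz]))
  have h5 : z * a ≠ z := fun e => h2 (mul_left_cancel (a := z) (by rw [e, mul_one]))
  have h6 : z * a ≠ a := fun e => h1 (mul_right_cancel (b := a) (by rw [e, one_mul]))
  rw [Nat.card_coe_set_eq, Set.ncard_insert_of_notMem (by simp [h1.symm, h2.symm, h4.symm]) (Set.toFinite _),
    Set.ncard_insert_of_notMem (by simp [h3.symm, h5.symm]) (Set.toFinite _), Set.ncard_pair h6.symm]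

theorem klein_four {z a : G} {hz : z * z = 1} {ha : a * a = 1} {hc : z * a = a * z} (h1 : z ≠ 1) (h2 : a ≠ 1)
    (h3 : a ≠ z) : IsKleinFour (four z a hz ha hc) :=
  klein_of_sq (card_four h1 h2 h3) fun v => Subtype.ext (by
    show (v : G) * v = 1
    rcases mem_four.1 v.2 with e | e | e | e <;> rw [e]
    · exact one_mul 1
    · exact hz
    · exact ha
    · rw [mul_assoc, ← mul_assoc a, ← hc, mul_assoc z a a, ha, mul_one, hz])

variable [IsSimpleGroup G] (h : Nat.card G = 168)
include h

theorem normal_of_half [Fact (Nat.Prime 2)] {T : Sylow 2 G} {U : Subgroup G} (hUT : U ≤ (T : Subgroup G))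
    (hU : Nat.card U = 4) : (T : Subgroup G) ≤ normalizer (U : Set G) := by
  refine (normal_subgroupOf_iff_le_normalizer hUT).1 (normal_of_index_eq_two ?_)
  have := (U.subgroupOf (T : Subgroup G)).card_mul_index
  rw [Nat.card_congr (subgroupOfEquivOfLe hUT).toEquiv, hU, card_P2 h] at this
  omega

/-- The four-groups inside a Sylow 2-subgroup. -/
theorem two_fours [Fact (Nat.Prime 2)] (T : Sylow 2 G) :
    ∃ U W : Subgroup G, U ≤ (T : Subgroup G) ∧ W ≤ (T : Subgroup G) ∧ IsKleinFour U ∧ IsKleinFour W ∧ U ≠ W ∧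
      ∀ V : Subgroup G, V ≤ (T : Subgroup G) → IsKleinFour V → V = U ∨ V = W := by
  obtain ⟨r, s, hr, hs, hro, hsr, hout, hconj, hCz, hzo⟩ := frame h T
  obtain ⟨z, hz⟩ : ∃ z, z = r * r := ⟨_, rfl⟩
  rw [← hz] at hCz hzo
  have hzz : z * z = 1 := Fusion.invol_mul_self hzo
  have hzc : ∀ t ∈ (T : Subgroup G), z * t = t * z := fun t ht =>
    ((mem_centralizer_singleton_iff.1 (hCz.symm ▸ ht)).symm)
  have hz1 : z ≠ 1 := fun e => by rw [e, orderOf_one] at hzo; omega
  have hzr : z ∈ zpowers r := hz ▸ mul_mem (mem_zpowers r) (mem_zpowers r)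
  have hzT : z ∈ (T : Subgroup G) := hz ▸ mul_mem hr hr
  have hbad : ∀ a ∈ (T : Subgroup G), a ∉ zpowers r → a * a = 1 ∧ a ≠ 1 ∧ a ≠ z ∧ a * r * a = r⁻¹ := by
    intro a ha har
    have ha2 := (hout a ha).resolve_left har
    have hne : a * r ∉ zpowers r := fun hm => har (by simpa using mul_mem hm (inv_mem (mem_zpowers r)))
    have h2 := Fusion.invol_mul_self ((hout _ (mul_mem ha hr)).resolve_left hne)
    refine ⟨Fusion.invol_mul_self ha2, fun e => har (e ▸ one_mem _), fun e => har (e ▸ hzr), ?_⟩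
    exact eq_inv_of_mul_eq_one_left (by simpa only [mul_assoc] using h2)
  obtain ⟨hss, hs1, hsz, -⟩ := hbad s hs hsr
  have hsrr : s * r ∉ zpowers r := fun hm => hsr (by simpa using mul_mem hm (inv_mem (mem_zpowers r)))
  obtain ⟨huu, hu1, huz, -⟩ := hbad (s * r) (mul_mem hs hr) hsrr
  obtain ⟨U, hU⟩ : ∃ U, U = four z s hzz hss (hzc s hs) := ⟨_, rfl⟩
  obtain ⟨W, hW⟩ : ∃ W, W = four z (s * r) hzz huu (hzc _ (mul_mem hs hr)) := ⟨_, rfl⟩
  refine ⟨U, W, ?_, ?_, hU ▸ klein_four hz1 hs1 hsz, hW ▸ klein_four hz1 hu1 huz, fun e => ?_, fun V hV hK => ?_⟩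
  · rw [hU]
    intro x hx
    rcases mem_four.1 hx with e | e | e | e <;> rw [e]
    · exact one_mem _
    · exact hzT
    · exact hs
    · exact mul_mem hzT hs
  · rw [hW]
    intro x hx
    rcases mem_four.1 hx with e | e | e | e <;> rw [e]
    · exact one_mem _
    · exact hzT
    · exact mul_mem hs hr
    · exact mul_mem hzT (mul_mem hs hr)
  · have hm : s * r ∈ U := e.symm ▸ hW ▸ mem_four.2 (Or.inr (Or.inr (Or.inl rfl)))
    rw [hU] at hm
    rcases mem_four.1 hm with e | e | e | e
    · exact hu1 e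
    · exact huz e
    · have : r = 1 := mul_eq_left.1 e
      rw [this, orderOf_one] at hro
      omega
    · have : r = z := mul_left_cancel (a := s) (by rw [e, hzc s hs])
      rw [this] at hro
      omega
  · haveI := hK
    have hsq : ∀ v ∈ V, v * v = 1 := fun v hv => congrArg Subtype.val (klein_sq (⟨v, hv⟩ : V))
    obtain ⟨a, haV, har⟩ : ∃ a ∈ V, a ∉ zpowers r := by
      by_contra hc
      push Not at hc
      have e : V = zpowers r := eq_of_le_of_card_ge hc (by rw [Nat.card_zpowers, hro, hK.card_four])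
      have := orderOf_dvd_of_pow_eq_one (show r ^ 2 = 1 by rw [pow_two]; exact hsq r (e ▸ mem_zpowers r))
      rw [hro] at this
      norm_num at this
    have haT := hV haV
    obtain ⟨haa, ha1, haz, hara⟩ := hbad a haT har
    have hN := normal_of_half h hV hK.card_four
    have hzV : z ∈ V := by
      have h1 : r * a * r⁻¹ ∈ V := (mem_normalizer_iff.1 (hN hr) a).1 haV
      have h2 := inv_mem (mul_mem haV h1)
      rwa [show a * (r * a * r⁻¹) = a * r * a * r⁻¹ by group, hara, ← _root_.mul_inv_rev, inv_inv, ← hz] at h2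
    have hVeq : ∀ b : G, ∀ hbb : b * b = 1, ∀ hbT : b ∈ (T : Subgroup G), b ≠ 1 → b ≠ z → b ∈ V →
        four z b hzz hbb (hzc b hbT) = V := fun b hbb hbT hb1 hbz hbV => by
      refine eq_of_le_of_card_ge (fun x hx => ?_) (by rw [hK.card_four, card_four hz1 hb1 hbz])
      rcases mem_four.1 hx with e | e | e | e <;> rw [e]
      · exact one_mem _
      · exact hzV
      · exact hbV
      · exact mul_mem hzV hbV
    -- the cosets of the cyclic subgroup
    have hidx : ((zpowers r).subgroupOf (T : Subgroup G)).index = 2 := by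
      have := ((zpowers r).subgroupOf (T : Subgroup G)).card_mul_index
      rw [Nat.card_congr (subgroupOfEquivOfLe (zpowers_le.2 hr)).toEquiv, Nat.card_zpowers, hro, card_P2 h] at this
      omega
    have hsa : s⁻¹ * a ∈ zpowers r := by
      have := (mul_mem_iff_of_index_two hidx (a := (⟨s⁻¹, inv_mem hs⟩ : (T : Subgroup G))) (b := ⟨a, haT⟩)).2
        (by simp only [mem_subgroupOf]; exact ⟨fun hm => absurd (inv_mem_iff.1 hm) hsr, fun hm => absurd hm har⟩)
      exact this
    obtain ⟨i, hi⟩ := (mem_powers_iff_mem_zpowers.2 hsa)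
    replace hi : r ^ i = s⁻¹ * a := hi
    have hi' : a = s * r ^ (i % 4) := by rw [← hro, pow_mod_orderOf, hi, mul_inv_cancel_left]
    have hlt := Nat.mod_lt i (show 4 > 0 by norm_num)
    obtain ⟨j, hj⟩ : ∃ j, i % 4 = j := ⟨_, rfl⟩
    rw [hj] at hi' hlt
    interval_cases j
    · left
      rw [pow_zero, mul_one] at hi'
      exact hU ▸ (hVeq s hss hs hs1 hsz (hi' ▸ haV)).symm
    · right
      rw [pow_one] at hi'
      exact hW ▸ (hVeq (s * r) huu (mul_mem hs hr) hu1 huz (hi' ▸ haV)).symm
    · left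
      rw [pow_two, ← hz] at hi'
      refine hU ▸ (hVeq s hss hs hs1 hsz ?_).symm
      have := mul_mem haV hzV
      rwa [hi', mul_assoc, hzz, mul_one] at this
    · right
      rw [show (3 : ℕ) = 1 + 2 from rfl, pow_add, pow_one, pow_two, ← hz, ← mul_assoc] at hi'
      refine hW ▸ (hVeq (s * r) huu (mul_mem hs hr) hu1 huz ?_).symm
      have := mul_mem haV hzV
      rwa [hi', mul_assoc, hzz, mul_one] at this

/-- The normaliser of a four-group has order 24. -/
theorem card_normalizer_four (U : Subgroup G) (hK : IsKleinFour U) :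
    Nat.card (normalizer (U : Set G)) = 24 := by
  haveI : Fact (Nat.Prime 2) := ⟨Nat.prime_two⟩
  haveI := hK
  obtain ⟨T, hT⟩ := (IsPGroup.of_card (n := 2) (by rw [hK.card_four]; norm_num) : IsPGroup 2 U).exists_le_sylow
  have hTN := normal_of_half h hT hK.card_four
  have hne : normalizer (U : Set G) ≠ ⊤ := fun e => by
    haveI : U.Normal := normalizer_eq_top_iff.1 e
    rcases IsSimpleGroup.eq_bot_or_eq_top_of_normal U inferInstance with e' | e'
    · have := hK.card_four
      rw [e', card_bot] at this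
      omega
    · have := hK.card_four
      rw [e', card_top, h] at this
      omega
  have hle := card_le h _ hne
  have hd : 8 ∣ Nat.card (normalizer (U : Set G)) := card_P2 h T ▸ card_dvd_of_le hTN
  have hd' := h ▸ card_subgroup_dvd_card (normalizer (U : Set G))
  -- a second Sylow subgroup
  obtain ⟨z, hzT, hzo, hzC, hzu, -⟩ := exists_center h T
  obtain ⟨a, haU, ha1, haz⟩ : ∃ a ∈ U, a ≠ 1 ∧ a ≠ z := by
    by_contra hc
    push Not at hc
    have hsub : (U : Set G) ⊆ {1, z} := fun x hx => by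
      by_cases h1 : x = 1
      · exact Or.inl h1
      · exact Or.inr (hc x hx h1)
    have h4 : (U : Set G).ncard = 4 := by rw [← Nat.card_coe_set_eq]; exact hK.card_four
    have h5 := Set.ncard_le_ncard hsub (Set.toFinite _)
    have h6 := Set.ncard_insert_le (1 : G) {z}
    rw [Set.ncard_singleton] at h6
    omega
  have hao : orderOf a = 2 := orderOf_eq_prime (by rw [pow_two]; exact congrArg Subtype.val (klein_sq (⟨a, haU⟩ : U))) ha1
  obtain ⟨T', hT'⟩ := (count24 h).2.2.1 a hao
  have hUT' : U ≤ (T' : Subgroup G) := fun x hx => hT' ▸ mem_centralizer_singleton_iff.2 (by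
    have h1 : ∀ v : U, v * v = 1 := klein_sq
    have inv : ∀ v : U, v⁻¹ = v := fun v => inv_eq_of_mul_eq_one_left (h1 v)
    have : (⟨x, hx⟩ : U) * ⟨a, haU⟩ = ⟨a, haU⟩ * ⟨x, hx⟩ := by
      calc (⟨x, hx⟩ : U) * ⟨a, haU⟩ = ((⟨x, hx⟩ : U) * ⟨a, haU⟩)⁻¹ := (inv _).symm
        _ = ⟨a, haU⟩ * ⟨x, hx⟩ := by rw [_root_.mul_inv_rev, inv, inv]
    exact congrArg Subtype.val this)
  have hT'N := normal_of_half h hUT' hK.card_four
  have h8 : Nat.card (normalizer (U : Set G)) ≠ 8 := fun e => by
    have e1 := eq_of_le_of_card_ge hTN (by rw [card_P2 h, e])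
    have e2 := eq_of_le_of_card_ge hT'N (by rw [card_P2 h, e])
    have e3 : (T : Subgroup G) = T' := e1.trans e2.symm
    exact haz ((hzu a (hT haU) fun t ht => mem_centralizer_singleton_iff.1 (hT'.symm ▸ e3 ▸ ht)).resolve_left ha1)
  obtain ⟨c, hc⟩ : ∃ c, Nat.card (normalizer (U : Set G)) = c := ⟨_, rfl⟩
  rw [hc] at hle hd hd' h8 ⊢
  interval_cases c <;> omega

theorem normalizer_four_equiv (U : Subgroup G) (hK : IsKleinFour U) :
    Nonempty (↥(normalizer (U : Set G)) ≃* Equiv.Perm (Fin 4)) :=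
  SmallOrders.nonempty_mulEquiv_perm_four (card_normalizer_four h U hK) fun g => by
    rw [← Subgroup.orderOf_coe]; exact no_six h g

/-- Four-groups with the same normaliser coincide. -/
theorem four_eq_of_normalizer {U W : Subgroup G} (hU : IsKleinFour U) (hW : IsKleinFour W)
    (he : normalizer (U : Set G) = normalizer (W : Set G)) : U = W := by
  haveI : Fact (Nat.Prime 2) := ⟨Nat.prime_two⟩
  by_contra hne
  have hV : IsPGroup 2 ↥(U ⊔ W) :=
    (IsPGroup.of_card (n := 2) (by rw [hU.card_four]; norm_num) : IsPGroup 2 U).to_sup_of_normal_right'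
      (IsPGroup.of_card (n := 2) (by rw [hW.card_four]; norm_num)) (he ▸ le_normalizer)
  obtain ⟨T, hT⟩ := hV.exists_le_sylow
  have hgt : 4 < Nat.card ↥(U ⊔ W) := by
    by_contra hc
    exact hne ((eq_of_le_of_card_ge le_sup_left (by rw [hU.card_four]; omega)).trans
      (eq_of_le_of_card_ge le_sup_right (by rw [hW.card_four]; omega)).symm)
  have hTeq : (T : Subgroup G) = U ⊔ W := by
    refine (eq_of_le_of_card_ge hT ?_).symm
    obtain ⟨j, hj⟩ := IsPGroup.iff_card.1 hV
    rw [card_P2 h]
    rw [hj] at hgt ⊢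
    have : 3 ≤ j := by
      by_contra hc
      have := Nat.pow_le_pow_right (show 0 < 2 by norm_num) (show j ≤ 2 by omega)
      omega
    exact (Nat.pow_le_pow_right (show 0 < 2 by norm_num) this).trans_eq' (by norm_num)
  have hle : normalizer (U : Set G) ≤ normalizer ((T : Subgroup G) : Set G) := fun g hg => by
    rw [hTeq, mem_normalizer_iff'']
    intro x
    rw [← mem_map_cj, Subgroup.map_sup, map_cj_eq_self hg, map_cj_eq_self (he ▸ hg)]
  have := card_dvd_of_le hle
  rw [card_normalizer_four h U hU, normalizer_eq h T, card_P2 h] at this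
  norm_num at this

/-- Different four-groups of one Sylow subgroup are not conjugate. -/
theorem not_conj [Fact (Nat.Prime 2)] (T : Sylow 2 G) {U W : Subgroup G} (hUT : U ≤ (T : Subgroup G))
    (hWT : W ≤ (T : Subgroup G)) (hU : IsKleinFour U) (hW : IsKleinFour W) (hne : U ≠ W) (g : G) :
    U.map (cj g) ≠ W := by
  intro hg
  have hTW := normal_of_half h hWT hW.card_four
  have hgTW : ((g • T : Sylow 2 G) : Subgroup G) ≤ normalizer (W : Set G) := by
    rw [sylow_smul_eq_map, ← hg, ← normalizer_map_cj]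
    exact Subgroup.map_mono (normal_of_half h hUT hU.card_four)
  obtain ⟨n, hn⟩ := MulAction.exists_smul_eq ↥(normalizer (W : Set G)) ((g • T).subtype hgTW) (T.subtype hTW)
  rw [Sylow.smul_subtype] at hn
  have h1 : ((n : G) * g) • T = T := by rw [mul_smul]; exact Sylow.subtype_injective hn
  have h2 := Sylow.smul_eq_iff_mem_normalizer.1 h1
  have h3 := map_cj_eq_self (normal_of_half h hUT hU.card_four (normalizer_eq h T ▸ h2))
  rw [map_cj_mul, hg, map_cj_eq_self n.2] at h3
  exact hne h3.symm

end Cfsg.Agent.Small.Order168
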