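import Cfsg.Agent.Lib.Small.Order168Klein

/-!
# Maximal subgroups of a simple group of order 168
-/

set_option autoImplicit false
set_option linter.unusedSectionVars false

namespace Cfsg.Agent.Small.Order168

open Subgroup
open scoped Pointwise

variable {G : Type*} [Group G] [Finite G]

theorem map_klein {U : Subgroup G} (hU : IsKleinFour U) {H : Type*} [Group H] (f : G →* H)
    (hf : Function.Injective f) : IsKleinFour (U.map f) := by
  refine klein_of_sq ?_ fun v => ?_
  · rw [Nat.card_congr (U.equivMapOfInjective f hf).symm.toEquiv]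
    exact hU.card_four
  · obtain ⟨u, rfl⟩ := (U.equivMapOfInjective f hf).surjective v
    haveI := hU
    rw [← map_mul, klein_sq u, map_one]

set_option maxRecDepth 100000 in
set_option maxHeartbeats 4000000 in
/-- The even involutions of `S₄` with the identity. -/
def klein4 : Subgroup (Equiv.Perm (Fin 4)) where
  carrier := {σ | σ * σ = 1 ∧ Equiv.Perm.sign σ = 1}
  one_mem' := by simp
  mul_mem' := by
    intro a b ha hb
    revert a b
    simp only [Set.mem_setOf_eq]
    decide
  inv_mem' := by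
    intro a ha
    revert a
    simp only [Set.mem_setOf_eq]
    decide

theorem klein4_normal : klein4.Normal := ⟨fun σ hσ τ => by
  obtain ⟨h1, h2⟩ := hσ
  exact ⟨by rw [show τ * σ * τ⁻¹ * (τ * σ * τ⁻¹) = τ * (σ * σ) * τ⁻¹ by group, h1, mul_one, mul_inv_cancel],
    by simp [h2]⟩⟩

theorem klein4_klein : IsKleinFour klein4 := by
  refine klein_of_sq ?_ fun v => Subtype.ext v.2.1
  rw [show Nat.card klein4 = Nat.card {σ : Equiv.Perm (Fin 4) // σ * σ = 1 ∧ Equiv.Perm.sign σ = 1} from rfl,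
    Nat.card_eq_fintype_card]
  decide

variable [IsSimpleGroup G] (h : Nat.card G = 168)
include h

theorem coatom_of_card (M : Subgroup G) (hM : Nat.card M = 24 ∨ Nat.card M = 21) : IsCoatom M := by
  refine ⟨ne_top_of_card h M (by omega), fun K hK => ?_⟩
  by_contra hne
  have hle := card_le h K hne
  obtain ⟨j, hj⟩ := card_dvd_of_le hK.le
  have hlt : Nat.card M < Nat.card K := by
    by_contra hc
    exact hK.ne (eq_of_le_of_card_ge hK.le (by omega))
  rcases j with _ | _ | j
  · rw [hj] at hlt; omega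
  · rw [hj] at hlt; omega
  · rw [hj] at hle
    rcases hM with e | e <;> rw [e] at hle <;> nlinarith

theorem eq_normalizer_four (M : Subgroup G) (hM : Nat.card M = 24) :
    ∃ V : Subgroup G, IsKleinFour V ∧ M = normalizer (V : Set G) := by
  obtain ⟨e⟩ := SmallOrders.nonempty_mulEquiv_perm_four hM fun g => by
    rw [← Subgroup.orderOf_coe]; exact no_six h g
  haveI := klein4_normal
  obtain ⟨f, hf⟩ : ∃ f, f = M.subtype.comp e.symm.toMonoidHom := ⟨_, rfl⟩
  have hinj : Function.Injective f := hf ▸ M.subtype_injective.comp e.symm.injective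
  have hrange : f.range = M := by
    rw [hf, MonoidHom.range_comp, MonoidHom.range_eq_top.2 e.symm.surjective, ← MonoidHom.range_eq_map, range_subtype]
  have hK := map_klein klein4_klein f hinj
  refine ⟨_, hK, eq_of_le_of_card_ge ?_ (by rw [card_normalizer_four h _ hK, hM])⟩
  refine le_trans ?_ (le_normalizer_map f)
  rw [normalizer_eq_top_iff.2 klein4_normal, ← MonoidHom.range_eq_map, hrange]

omit h in
/-- A unique Sylow subgroup is normalised. -/
theorem le_normalizer_of_card_sylow_one {p : ℕ} [Fact p.Prime] (M : Subgroup G) (P : Sylow p M)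
    (h1 : Nat.card (Sylow p M) = 1) : M ≤ normalizer (((P : Subgroup M).map M.subtype : Subgroup G) : Set G) := by
  haveI : Subsingleton (Sylow p M) := (Nat.card_eq_one_iff_unique.1 h1).1
  haveI := P.normal_of_subsingleton
  refine le_trans ?_ (le_normalizer_map M.subtype)
  rw [normalizer_eq_top_iff.2 inferInstance, ← MonoidHom.range_eq_map, range_subtype]

omit h in
/-- The number of Sylow subgroups of prime order `p` in a subgroup of order `p * m`. -/
theorem sylow_of_sub {p : ℕ} [Fact p.Prime] (M : Subgroup G) {m : ℕ} (hM : Nat.card M = p * m) (hm : ¬ p ∣ m) :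
    (∀ P : Sylow p M, Nat.card (P : Subgroup M) = p) ∧ Nat.card (Sylow p M) ∣ m ∧ Nat.card (Sylow p M) % p = 1 := by
  have hc : ∀ P : Sylow p M, Nat.card (P : Subgroup M) = p := fun P =>
    (SmallOrders.sylow_card_eq (m := m) (k := 1) (by rw [hM, pow_one]) hm P).trans (pow_one p)
  obtain ⟨P⟩ : Nonempty (Sylow p M) := inferInstance
  refine ⟨hc, ?_, by rw [card_sylow_modEq_one p M, Nat.mod_eq_of_lt (Fact.out : p.Prime).one_lt]⟩
  have hi : (P : Subgroup M).index = m := by
    have := (P : Subgroup M).card_mul_index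
    rw [hc, hM] at this
    exact Nat.eq_of_mul_eq_mul_left (Fact.out : p.Prime).pos this
  exact hi ▸ Sylow.card_dvd_index P

/-- A subgroup with a single Sylow subgroup of order 7 or 3 lies in its normaliser. -/
theorem le_normalizer_sylow {p : ℕ} [Fact p.Prime] (hP : ∀ P : Sylow p G, Nat.card (P : Subgroup G) = p)
    (M : Subgroup G) {m : ℕ} (hM : Nat.card M = p * m) (hm : ¬ p ∣ m) (h1 : Nat.card (Sylow p M) = 1) :
    ∃ P : Sylow p G, M ≤ normalizer ((P : Subgroup G) : Set G) := by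
  obtain ⟨Q⟩ : Nonempty (Sylow p M) := inferInstance
  have hc := (sylow_of_sub M hM hm).1 Q
  have hc' : Nat.card ((Q : Subgroup M).map M.subtype) = p := by
    rw [Nat.card_congr ((Q : Subgroup M).equivMapOfInjective _ M.subtype_injective).symm.toEquiv, hc]
  obtain ⟨P, hP'⟩ := (IsPGroup.of_card (n := 1) (by rw [hc', pow_one]) :
    IsPGroup p ((Q : Subgroup M).map M.subtype)).exists_le_sylow
  refine ⟨P, ?_⟩
  rw [← eq_of_le_of_card_ge hP' (by rw [hP, hc'])]
  exact le_normalizer_of_card_sylow_one M Q h1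

/-- Subgroups of order 12 or 24 have four Sylow 3-subgroups. -/
theorem card_sylow3_sub [Fact (Nat.Prime 3)] (M : Subgroup G) (hM : Nat.card M = 12 ∨ Nat.card M = 24) :
    Nat.card (Sylow 3 M) = 4 := by
  obtain ⟨m, hm, hm3⟩ : ∃ m, Nat.card M = 3 * m ∧ (m = 4 ∨ m = 8) := by
    rcases hM with e | e
    · exact ⟨4, by rw [e], Or.inl rfl⟩
    · exact ⟨8, by rw [e], Or.inr rfl⟩
  obtain ⟨-, hd, hmod⟩ := sylow_of_sub M hm (by omega)
  have hne : Nat.card (Sylow 3 M) ≠ 1 := fun h1 => by
    obtain ⟨P, hP⟩ := le_normalizer_sylow h (card_P3 h) M hm (by omega) h1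
    have := Nat.le_of_dvd Nat.card_pos (card_dvd_of_le hP)
    rw [card_N3 h] at this
    omega
  obtain ⟨n, hn⟩ : ∃ n, Nat.card (Sylow 3 M) = n := ⟨_, rfl⟩
  rw [hn] at hd hmod hne ⊢
  have := Nat.le_of_dvd (by omega) hd
  rcases hm3 with rfl | rfl <;> interval_cases n <;> omega

/-- A subgroup of order 12 lies in the normaliser of a four-group. -/
theorem le_of_twelve (M : Subgroup G) (hM : Nat.card M = 12) :
    ∃ K : Subgroup G, Nat.card K = 24 ∧ M ≤ K := by
  classical
  haveI : Fact (Nat.Prime 3) := ⟨Nat.prime_three⟩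
  haveI : Fact (Nat.Prime 2) := ⟨Nat.prime_two⟩
  have hP3 := (sylow_of_sub (p := 3) M (m := 4) hM (by norm_num)).1
  have h8 : Nat.card {g : M // orderOf g = 3} = 8 := by
    rw [count_order_p hP3, card_sylow3_sub h M (Or.inl hM)]
  obtain ⟨V⟩ : Nonempty (Sylow 2 M) := inferInstance
  have hVc : Nat.card (V : Subgroup M) = 4 :=
    (SmallOrders.sylow_card_eq (m := 3) (k := 2) (by rw [hM]; norm_num) (by norm_num) V).trans (by norm_num)
  have hset : ((V : Subgroup M) : Set M) = {g | ¬ orderOf g = 3} := by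
    refine Set.eq_of_subset_of_ncard_le (fun g hg h3 => ?_) ?_
    · have := orderOf_mk g hg ▸ _root_.orderOf_dvd_natCard (⟨g, hg⟩ : (V : Subgroup M))
      rw [hVc, h3] at this
      norm_num at this
    · have hcompl := Set.ncard_add_ncard_compl {g : M | orderOf g = 3}
      have e1 : {g : M | orderOf g = 3}.ncard = 8 := by rw [← Nat.card_coe_set_eq]; exact h8
      have e2 : ((V : Subgroup M) : Set M).ncard = 4 := by rw [← Nat.card_coe_set_eq]; exact hVc
      rw [e1, hM] at hcompl
      rw [e2]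
      show {g : M | orderOf g = 3}ᶜ.ncard ≤ 4
      omega
  have hN : (V : Subgroup M).Normal := ⟨fun g hg t => by
    have h1 : g ∈ {g : M | ¬ orderOf g = 3} := hset ▸ hg
    have h2 : t * g * t⁻¹ ∈ {g : M | ¬ orderOf g = 3} := fun e => h1 (by
      rwa [← MulAut.conj_apply, MulEquiv.orderOf_eq] at e)
    exact (hset.symm ▸ h2 : t * g * t⁻¹ ∈ ((V : Subgroup M) : Set M))⟩
  -- the Sylow subgroup is a four-group
  have hsq : ∀ v ∈ (V : Subgroup M), v * v = 1 := by
    intro v hv
    by_contra hne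
    have hd : orderOf v ∣ 4 := hVc ▸ (orderOf_mk v hv ▸ _root_.orderOf_dvd_natCard (⟨v, hv⟩ : (V : Subgroup M)))
    have ho : orderOf v = 4 := by
      obtain ⟨j, hj, hj'⟩ := (Nat.dvd_prime_pow Nat.prime_two (m := 2)).1 hd
      interval_cases j
      · exact absurd (by rw [orderOf_eq_one_iff.1 hj', one_mul]) hne
      · exact absurd (by rw [← pow_two]; exact orderOf_dvd_iff_pow_eq_one.1 (hj' ▸ dvd_rfl)) hne
      · exact hj'
    have hVz : (V : Subgroup M) = zpowers v :=
      (eq_of_le_of_card_ge (zpowers_le.2 hv) (by rw [Nat.card_zpowers, ho, hVc])).symm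
    obtain ⟨u, hu⟩ := exists_prime_orderOf_dvd_card' (G := M) 3 (by rw [hM]; norm_num)
    have hm2 : u * (v * v) * u⁻¹ ∈ zpowers v := hVz ▸ hN.conj_mem _ (mul_mem hv hv) u
    have ho2 : orderOf (v * v) = 2 := by rw [← pow_two, orderOf_pow' v (by norm_num), ho]; norm_num
    have ho2' : orderOf (u * (v * v) * u⁻¹) = 2 := by rw [← MulAut.conj_apply, MulEquiv.orderOf_eq, ho2]
    obtain ⟨i, hi⟩ := mem_powers_iff_mem_zpowers.2 hm2
    replace hi : v ^ i = u * (v * v) * u⁻¹ := hi
    rw [← hi] at ho2'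
    have hfix : u * (v * v) * u⁻¹ = v * v := by
      rw [← hi, ← pow_mod_orderOf, ho, ← pow_two]
      rw [← pow_mod_orderOf, ho] at ho2'
      have := Nat.mod_lt i (show 4 > 0 by norm_num)
      obtain ⟨j, hj⟩ : ∃ j, i % 4 = j := ⟨_, rfl⟩
      rw [hj] at ho2' this ⊢
      interval_cases j
      · rw [pow_zero, orderOf_one] at ho2'; omega
      · rw [pow_one, ho] at ho2'; omega
      · rfl
      · rw [orderOf_pow' v (by norm_num), ho] at ho2'; norm_num at ho2'
    have hu' : orderOf (u : G) = 3 := by rw [Subgroup.orderOf_coe, hu]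
    have hmem : ((v * v : M) : G) ∈ centralizer ({(u : G)} : Set G) := mem_centralizer_singleton_iff.2
      (congrArg Subtype.val (mul_inv_eq_iff_eq_mul.1 hfix)).symm
    have := orderOf_mk _ hmem ▸ _root_.orderOf_dvd_natCard (⟨_, hmem⟩ : centralizer ({(u : G)} : Set G))
    rw [Subgroup.orderOf_coe, ho2, card_C3 h hu'] at this
    norm_num at this
  have hK := map_klein (klein_of_sq hVc fun v => Subtype.ext (hsq v v.2)) M.subtype M.subtype_injective
  refine ⟨_, card_normalizer_four h _ hK, le_trans ?_ (le_normalizer_map M.subtype)⟩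
  rw [normalizer_eq_top_iff.2 hN, ← MonoidHom.range_eq_map, range_subtype]

/-- Some subgroup of order 24 contains a given normaliser of a Sylow 3-subgroup. -/
theorem le_of_sylow3 [Fact (Nat.Prime 3)] (P : Sylow 3 G) :
    ∃ K : Subgroup G, Nat.card K = 24 ∧ normalizer ((P : Subgroup G) : Set G) ≤ K := by
  haveI : Fact (Nat.Prime 2) := ⟨Nat.prime_two⟩
  obtain ⟨T⟩ : Nonempty (Sylow 2 G) := inferInstance
  obtain ⟨U, -, -, -, hU, -⟩ := two_fours h T
  obtain ⟨N, hN⟩ : ∃ N, N = normalizer (U : Set G) := ⟨_, rfl⟩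
  have hNc : Nat.card N = 24 := hN ▸ card_normalizer_four h U hU
  obtain ⟨Q⟩ : Nonempty (Sylow 3 N) := inferInstance
  have hQc := (sylow_of_sub (p := 3) N (m := 8) hNc (by norm_num)).1 Q
  have hQ' : Nat.card ((Q : Subgroup N).map N.subtype) = 3 := by
    rw [Nat.card_congr ((Q : Subgroup N).equivMapOfInjective _ N.subtype_injective).symm.toEquiv, hQc]
  obtain ⟨R, hR⟩ := (IsPGroup.of_card (n := 1) (by rw [hQ', pow_one]) :
    IsPGroup 3 ((Q : Subgroup N).map N.subtype)).exists_le_sylow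
  have hReq := eq_of_le_of_card_ge hR (by rw [card_P3 h, hQ'])
  have hle : normalizer ((R : Subgroup G) : Set G) ≤ N := by
    have h6 : Nat.card (normalizer ((Q : Subgroup N) : Set N)) = 6 := by
      have := SmallOrders.card_normalizer Q
      rw [card_sylow3_sub h N (Or.inr hNc), hNc] at this
      omega
    have hmap : (normalizer ((Q : Subgroup N) : Set N)).map N.subtype ≤ normalizer ((R : Subgroup G) : Set G) := by
      rw [← hReq]; exact le_normalizer_map N.subtype
    have := eq_of_le_of_card_ge hmap (by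
      rw [Nat.card_congr ((normalizer ((Q : Subgroup N) : Set N)).equivMapOfInjective _ N.subtype_injective).symm.toEquiv,
        h6, card_N3 h])
    rw [← this]
    exact map_subtype_le _
  obtain ⟨g, rfl⟩ := MulAction.exists_smul_eq G R P
  refine ⟨N.map (cj g), ?_, ?_⟩
  · rw [Nat.card_congr (N.equivMapOfInjective _ (MulAut.conj g).injective).symm.toEquiv, hNc]
  · rw [sylow_smul_eq_map, ← normalizer_map_cj]
    exact Subgroup.map_mono hle

/-- Every proper subgroup lies in one of order 21 or 24. -/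
theorem exists_over (M : Subgroup G) (hM : M ≠ ⊤) :
    ∃ K : Subgroup G, (Nat.card K = 24 ∨ Nat.card K = 21) ∧ M ≤ K := by
  haveI : Fact (Nat.Prime 2) := ⟨Nat.prime_two⟩
  haveI : Fact (Nat.Prime 3) := ⟨Nat.prime_three⟩
  haveI : Fact (Nat.Prime 7) := ⟨by norm_num⟩
  have hle := card_le h M hM
  have hd := h ▸ card_subgroup_dvd_card M
  obtain ⟨c, hc⟩ : ∃ c, Nat.card M = c := ⟨_, rfl⟩
  rw [hc] at hle hd
  have h0 : 0 < c := hc ▸ Nat.card_pos
  -- 2-subgroups
  have htwo : (∃ j, c = 2 ^ j) → ∃ K : Subgroup G, (Nat.card K = 24 ∨ Nat.card K = 21) ∧ M ≤ K := by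
    rintro ⟨j, hj⟩
    obtain ⟨T, hT⟩ := (IsPGroup.of_card (n := j) (hc.trans hj) : IsPGroup 2 M).exists_le_sylow
    obtain ⟨U, -, hUT, -, hU, -⟩ := two_fours h T
    exact ⟨_, Or.inl (card_normalizer_four h U hU), hT.trans (normal_of_half h hUT hU.card_four)⟩
  have hseven : ∀ m, c = 7 * m → m ≤ 3 → ∃ K : Subgroup G, (Nat.card K = 24 ∨ Nat.card K = 21) ∧ M ≤ K := by
    intro m hm hm3
    have hnd : ¬ 7 ∣ m := fun hdiv => by
      have := Nat.le_of_dvd (by omega) hdiv
      omega
    obtain ⟨-, hdvd, hmod⟩ := sylow_of_sub (p := 7) M (hc.trans hm) hnd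
    have := Nat.le_of_dvd (by omega) hdvd
    obtain ⟨P, hP⟩ := le_normalizer_sylow h (card_P7 h) M (hc.trans hm) hnd (by omega)
    exact ⟨_, Or.inr (by rw [card_N7 h]), hP⟩
  have hthree : ∀ m, c = 3 * m → m ≤ 2 → ∃ K : Subgroup G, (Nat.card K = 24 ∨ Nat.card K = 21) ∧ M ≤ K := by
    intro m hm hm3
    have hnd : ¬ 3 ∣ m := fun hdiv => by
      have := Nat.le_of_dvd (by omega) hdiv
      omega
    obtain ⟨-, hdvd, hmod⟩ := sylow_of_sub (p := 3) M (hc.trans hm) hnd
    have := Nat.le_of_dvd (by omega) hdvd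
    obtain ⟨P, hP⟩ := le_normalizer_sylow h (card_P3 h) M (hc.trans hm) hnd (by omega)
    obtain ⟨K, hK, hPK⟩ := le_of_sylow3 h P
    exact ⟨K, Or.inl hK, hP.trans hPK⟩
  interval_cases c <;> norm_num at hd
  all_goals first
    | exact htwo ⟨0, rfl⟩
    | exact htwo ⟨1, rfl⟩
    | exact htwo ⟨2, rfl⟩
    | exact htwo ⟨3, rfl⟩
    | exact hseven 1 rfl (by norm_num)
    | exact hseven 2 rfl (by norm_num)
    | exact hseven 3 rfl (by norm_num)
    | exact hthree 1 rfl (by norm_num)
    | exact hthree 2 rfl (by norm_num)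
    | exact ⟨M, Or.inl hc, le_rfl⟩
    | (obtain ⟨K, hK, hMK⟩ := le_of_twelve h M hc
       exact ⟨K, Or.inl hK, hMK⟩)

theorem coatom_card (M : Subgroup G) (hM : IsCoatom M) : Nat.card M = 24 ∨ Nat.card M = 21 := by
  obtain ⟨K, hK, hMK⟩ := exists_over h M hM.1
  rcases eq_or_lt_of_le hMK with e | e
  · exact e ▸ hK
  · exact absurd (hM.2 K e) (ne_top_of_card h K (by omega))

theorem not_comm_21 (M : Subgroup G) (hM : Nat.card M = 21) : ¬ IsMulCommutative ↥M := by
  haveI : Fact (Nat.Prime 7) := ⟨by norm_num⟩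
  intro hc
  obtain ⟨x, hx⟩ := exists_prime_orderOf_dvd_card' (G := M) 7 (by rw [hM]; norm_num)
  have := card_dvd_of_le (show M ≤ centralizer ({(x : G)} : Set G) from fun y hy =>
    mem_centralizer_singleton_iff.2 (congrArg Subtype.val (hc.is_comm.comm (⟨y, hy⟩ : M) x)))
  rw [hM, card_C7 h (by rw [Subgroup.orderOf_coe, hx])] at this
  norm_num at this

/-- The maximal subgroups. -/
theorem maximal :
    (∀ M : Subgroup G, IsCoatom M → Nonempty (↥M ≃* Equiv.Perm (Fin 4)) ∨ (Nat.card ↥M = 21 ∧ ¬ IsMulCommutative ↥M)) ∧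
    (∀ M M' : Subgroup G, IsCoatom M → IsCoatom M' → Nat.card ↥M = 21 → Nat.card ↥M' = 21 →
      ∃ g : G, M' = M.map (MulAut.conj g).toMonoidHom) ∧
    ∃ M₁ M₂ : Subgroup G, IsCoatom M₁ ∧ IsCoatom M₂ ∧ Nonempty (↥M₁ ≃* Equiv.Perm (Fin 4)) ∧
      Nonempty (↥M₂ ≃* Equiv.Perm (Fin 4)) ∧ (∀ g : G, M₂ ≠ M₁.map (MulAut.conj g).toMonoidHom) ∧
      ∀ M : Subgroup G, IsCoatom M → Nonempty (↥M ≃* Equiv.Perm (Fin 4)) →
        ∃ g : G, M = M₁.map (MulAut.conj g).toMonoidHom ∨ M = M₂.map (MulAut.conj g).toMonoidHom := by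
  haveI : Fact (Nat.Prime 2) := ⟨Nat.prime_two⟩
  haveI : Fact (Nat.Prime 7) := ⟨by norm_num⟩
  refine ⟨fun M hM => ?_, fun M M' _ _ hM hM' => ?_, ?_⟩
  · rcases coatom_card h M hM with e | e
    · exact Or.inl (SmallOrders.nonempty_mulEquiv_perm_four e fun g => by
        rw [← Subgroup.orderOf_coe]; exact no_six h g)
    · exact Or.inr ⟨e, not_comm_21 h M e⟩
  · have key : ∀ K : Subgroup G, Nat.card K = 21 → ∃ P : Sylow 7 G, K = normalizer ((P : Subgroup G) : Set G) := by
      intro K hK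
      obtain ⟨-, hdvd, hmod⟩ := sylow_of_sub (p := 7) K (m := 3) hK (by norm_num)
      have := Nat.le_of_dvd (by omega) hdvd
      obtain ⟨P, hP⟩ := le_normalizer_sylow h (card_P7 h) K (m := 3) hK (by norm_num) (by omega)
      exact ⟨P, eq_of_le_of_card_ge hP (by rw [card_N7 h, hK])⟩
    obtain ⟨P, rfl⟩ := key M hM
    obtain ⟨P', rfl⟩ := key M' hM'
    obtain ⟨g, rfl⟩ := MulAction.exists_smul_eq G P P'
    exact ⟨g, by rw [sylow_smul_eq_map]; exact (normalizer_map_cj g _).symm⟩
  · obtain ⟨T⟩ : Nonempty (Sylow 2 G) := inferInstance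
    obtain ⟨U, W, hUT, hWT, hU, hW, hne, hall⟩ := two_fours h T
    refine ⟨_, _, coatom_of_card h _ (Or.inl (card_normalizer_four h U hU)),
      coatom_of_card h _ (Or.inl (card_normalizer_four h W hW)), normalizer_four_equiv h U hU,
      normalizer_four_equiv h W hW, fun g e => ?_, fun M _ hM => ?_⟩
    · refine not_conj h T hUT hWT hU hW hne g ?_
      refine four_eq_of_normalizer h (map_klein hU (cj g) (MulAut.conj g).injective) hW ?_
      rw [← normalizer_map_cj]
      exact e.symm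
    · obtain ⟨e⟩ := hM
      obtain ⟨V, hV, rfl⟩ := eq_normalizer_four h M (by
        rw [Nat.card_congr e.toEquiv, Nat.card_perm, Nat.card_fin]; rfl)
      obtain ⟨T', hT'⟩ := (IsPGroup.of_card (n := 2) (by rw [hV.card_four]; norm_num) : IsPGroup 2 V).exists_le_sylow
      obtain ⟨g, rfl⟩ := MulAction.exists_smul_eq G T T'
      have hsub : V.map (cj g⁻¹) ≤ (T : Subgroup G) := by
        intro x hx
        have := hT' (mem_map_cj.1 hx)
        rw [sylow_smul_eq_map, mem_map_cj] at this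
        simpa [mul_assoc] using this
      refine ⟨g, ?_⟩
      have hback : ∀ X : Subgroup G, V.map (cj g⁻¹) = X →
          normalizer (V : Set G) = (normalizer (X : Set G)).map (cj g) := fun X hX => by
        rw [← hX, normalizer_map_cj, ← map_cj_mul, mul_inv_cancel,
          map_cj_eq_self (one_mem _ : (1 : G) ∈ normalizer (V : Set G))]
      rcases hall _ hsub (map_klein hV _ (MulAut.conj g⁻¹).injective) with e' | e'
      · exact Or.inl (hback U e')
      · exact Or.inr (hback W e')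

theorem klein_facts [Fact (Nat.Prime 2)] (T : Sylow 2 G) :
    Nat.card {U : Subgroup G // U ≤ (T : Subgroup G) ∧ IsKleinFour ↥U} = 2 ∧
    (∀ U W : Subgroup G, U ≤ (T : Subgroup G) → W ≤ (T : Subgroup G) → IsKleinFour ↥U → IsKleinFour ↥W → U ≠ W →
      ∀ g : G, U.map (MulAut.conj g).toMonoidHom ≠ W) ∧
    ∀ U : Subgroup G, IsKleinFour ↥U → Nonempty (↥(normalizer (U : Set G)) ≃* Equiv.Perm (Fin 4)) := by
  refine ⟨?_, fun U W hUT hWT hU hW hne g => not_conj h T hUT hWT hU hW hne g, normalizer_four_equiv h⟩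
  obtain ⟨U, W, hUT, hWT, hU, hW, hne, hall⟩ := two_fours h T
  have e : {V : Subgroup G | V ≤ (T : Subgroup G) ∧ IsKleinFour ↥V} = {U, W} := by
    ext V
    simp only [Set.mem_setOf_eq, Set.mem_insert_iff, Set.mem_singleton_iff]
    refine ⟨fun hV => hall V hV.1 hV.2, ?_⟩
    rintro (rfl | rfl)
    · exact ⟨hUT, hU⟩
    · exact ⟨hWT, hW⟩
  show Nat.card ↥{V : Subgroup G | V ≤ (T : Subgroup G) ∧ IsKleinFour ↥V} = 2
  rw [e, Nat.card_coe_set_eq, Set.ncard_pair hne]

end Cfsg.Agent.Small.Order168
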