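import Cfsg.Agent.Lib.Lead.BlockDegrees

/-!
# Groups whose order divides 21888 and which have several Sylow subgroups of order 19
-/

set_option autoImplicit false

namespace Cfsg.Agent.Small.Order459648

open Cfsg Cfsg.Agent.Lead.BlockDeg
open scoped Pointwise

theorem no_simple {S : Type*} [Group S] [Finite S] [IsSimpleGroup S] {m : ℕ} (hm : m ∣ 1152)
    (hm1 : 1 < m) (hS : Nat.card S = 19 * m) : False := by
  haveI : Fact (Nat.Prime 19) := ⟨by norm_num⟩
  have hm19 : ¬ 19 ∣ m := fun h => by
    have := Nat.dvd_trans h hm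
    omega
  obtain ⟨P, e, hP, ⟨hn1, hn2, hn3⟩, he, he1, he2, he3⟩ := sylow_data hS hm19 hm1
  have hna : ¬ IsMulCommutative S := not_comm (by norm_num) hS hm1
  have key : ∀ d ∈ Nat.divisors 1152, d % 19 = 1 → d ≠ 1 → d = 96 := by decide +kernel
  have hn := key _ (Nat.mem_divisors.mpr ⟨hn1.trans hm, by norm_num⟩) hn2 hn3
  rw [hn] at he3
  have he12 : e ∣ 12 := Nat.dvd_of_mul_dvd_mul_left (by norm_num : 0 < 96) (he3.trans hm)
  have he6 : e ∣ 6 := Nat.dvd_gcd he12 (by simpa using he1 : e ∣ 18)
  have hev : e = 2 ∨ e = 3 ∨ e = 6 := by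
    have := Nat.le_of_dvd (by norm_num) he6
    have h0 : e ≠ 0 := fun h => by simp [h] at he6
    interval_cases e <;> omega
  obtain ⟨l, t, -, hs, ht, hte, rfl⟩ := degree_equation hna P hP he (by omega) (by omega)
  have hl : ∀ s ∈ l, (6 : ℤ) ∣ s := by
    intro s hs'
    obtain ⟨h1, h2, -, h4⟩ := hs s hs'
    have key2 : ∀ d ∈ Nat.divisors 576, 1 < d → (d % 19 = 1 ∨ d % 19 = 18) → 6 ∣ d := by
      decide +kernel
    rw [hn] at h4
    have := key2 _ (Nat.mem_divisors.mpr ⟨h4.trans (Nat.mul_dvd_mul_left 96 he6), by norm_num⟩) h2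
      (by omega)
    exact Int.natCast_dvd.mpr this
  obtain ⟨k, hk⟩ := List.dvd_sum hl
  rw [hS] at ht
  have hcop : Nat.Coprime (1 + l.sum).natAbs 1152 := by
    rw [show (1152 : ℕ) = 2 ^ 7 * 3 ^ 2 by norm_num]
    refine Nat.Coprime.mul_right (Nat.Coprime.pow_right _ ?_) (Nat.Coprime.pow_right _ ?_) <;>
      exact ((Nat.Prime.coprime_iff_not_dvd (by norm_num)).mpr fun h => by
        have := Int.natCast_dvd.mpr h
        omega).symm
  have h19 : (1 + l.sum).natAbs ∣ 19 :=
    hcop.dvd_of_dvd_mul_right (ht.trans (Nat.mul_dvd_mul_left 19 hm))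
  rcases (Nat.dvd_prime (by norm_num)).mp h19 with h | h <;> omega

variable {D : Type*} [Group D] [Finite D]

/-- A normal subgroup `M` of prime-to-19 order with quotient of order 19 is centralised. -/
theorem normal_sylow_of_quotient [Fact (Nat.Prime 19)] (M : Subgroup D) [M.Normal]
    (hM : Nat.card M ∣ 1152) (hidx : M.index = 19) (P : Sylow 19 D) (hP : Nat.card P = 19) :
    (P : Subgroup D).Normal := by
  classical
  set C := Subgroup.centralizer ((P : Subgroup D) : Set D) ⊓ M
  have hR : ∀ (r : ℕ) [Fact r.Prime], r ^ (Nat.card M).factorization r ∣ Nat.card C := by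
    intro r _
    obtain ⟨R⟩ := (inferInstance : Nonempty (Sylow r M))
    set R' : Subgroup D := (R : Subgroup M).map M.subtype
    have hcR : Nat.card R' = r ^ (Nat.card M).factorization r := by
      rw [← R.card_eq_multiplicity, Subgroup.card_map_of_injective M.subtype_injective]
    have hsup : Subgroup.normalizer (R' : Set D) ⊔ M = ⊤ := Sylow.normalizer_sup_eq_top R
    have h19 : 19 ∣ Nat.card (Subgroup.normalizer (R' : Set D)) := by
      set N := Subgroup.normalizer (R' : Set D)
      have h1 : M.relIndex (M ⊔ N) = M.relIndex N := Subgroup.relIndex_sup_left N M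
      rw [sup_comm] at h1
      rw [hsup, Subgroup.relIndex_top_right, hidx] at h1
      exact h1 ▸ Subgroup.relIndex_dvd_card M N
    obtain ⟨y, hy⟩ := exists_prime_orderOf_dvd_card' 19 h19
    have hfix : ∀ r ∈ R', (y : D) * r = r * (y : D) := by
      haveI := Fintype.ofFinite R'
      set φ := Subgroup.normalizerMonoidHom R' y
      set σ : Equiv.Perm R' := φ.toEquiv
      have hσ : σ ^ 19 ^ 1 = 1 := by
        have h2 : φ ^ 19 = 1 := by
          rw [← map_pow, ← hy, pow_orderOf_eq_one, map_one]
        have h3 : σ ^ 19 = (MulAut.toPerm R') (φ ^ 19) := by rw [map_pow]; rfl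
        rw [pow_one, h3, h2, map_one]
      have h2 := Equiv.Perm.card_compl_support_modEq hσ
      rw [← Nat.card_eq_fintype_card, hcR] at h2
      set F : Subgroup R' := MonoidHom.eqLocus φ.toMonoidHom (MonoidHom.id R')
      have hF : Nat.card F = σ.supportᶜ.card := by
        rw [← Nat.card_eq_finsetCard]
        refine Nat.card_congr (Equiv.subtypeEquivRight fun x => ?_)
        rw [Finset.mem_compl, Equiv.Perm.notMem_support]
        rfl
      rw [← hF] at h2
      have hFd : Nat.card F ∣ r ^ (Nat.card M).factorization r := hcR ▸ F.card_subgroup_dvd_card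
      have key : ∀ a ∈ Nat.divisors 1152, ∀ b ∈ Nat.divisors a, IsPrimePow a ∨ a = 1 →
          b % 19 = a % 19 → b = a := by decide +kernel
      have hrp : r.Prime := Fact.out
      have hpp : IsPrimePow (r ^ (Nat.card M).factorization r) ∨
          r ^ (Nat.card M).factorization r = 1 := by
        rcases Nat.eq_zero_or_pos ((Nat.card M).factorization r) with h | h
        · exact Or.inr (by rw [h, pow_zero])
        · exact Or.inl ⟨r, _, hrp.prime, h, rfl⟩
      have h4 := key _ (Nat.mem_divisors.mpr
        ⟨(Nat.ordProj_dvd _ r).trans hM, by norm_num⟩) _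
        (Nat.mem_divisors.mpr ⟨hFd, pow_ne_zero _ hrp.ne_zero⟩) hpp h2
      have hFtop : F = ⊤ := F.eq_top_of_card_eq (h4.trans hcR.symm)
      intro x hx
      have h5 : φ ⟨x, hx⟩ = ⟨x, hx⟩ := (hFtop ▸ Subgroup.mem_top _ : (⟨x, hx⟩ : R') ∈ F)
      have h6 := congrArg Subtype.val h5
      simp only [φ, Subgroup.normalizerMonoidHom_apply_apply_coe] at h6
      exact mul_inv_eq_iff_eq_mul.mp h6
    have hQ : orderOf (y : D) = 19 := by rw [Subgroup.orderOf_coe, hy]
    have hQp : IsPGroup 19 (Subgroup.zpowers (y : D)) :=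
      IsPGroup.of_card (n := 1) (by rw [Nat.card_zpowers, hQ, pow_one])
    obtain ⟨Q, hQle⟩ := hQp.exists_le_sylow
    obtain ⟨g, hg⟩ := MulAction.exists_smul_eq D Q P
    have hcardQ : Nat.card Q = 19 := (Nat.card_congr (Q.equiv P).toEquiv).trans hP
    have hQeq : Subgroup.zpowers (y : D) = (Q : Subgroup D) :=
      Subgroup.eq_of_le_of_card_ge hQle
        (by rw [Nat.card_zpowers, hQ, show Nat.card (Q : Subgroup D) = 19 from hcardQ])
    rw [← hcR, ← Subgroup.card_map_of_injective (f := (MulAut.conj g).toMonoidHom)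
      (MulAut.conj g).injective (K := R')]
    refine Subgroup.card_dvd_of_le ?_
    rintro _ ⟨x, hx, rfl⟩
    refine ⟨?_, (inferInstance : M.Normal).conj_mem x ?_ g⟩
    · change _ ∈ Subgroup.centralizer _
      rw [Subgroup.mem_centralizer_iff]
      intro z hz
      rw [← hg] at hz
      obtain ⟨w, hw, rfl⟩ := hz
      have hcw : w * x = x * w := by
        rw [← hQeq] at hw
        obtain ⟨k, rfl⟩ := Subgroup.mem_zpowers_iff.mp hw
        exact (Commute.zpow_left (hfix x hx) k).eq
      simp only [MulDistribMulAction.toMonoidEnd_apply, MulDistribMulAction.toMonoidHom_apply,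
        MulAut.smul_def, MulEquiv.coe_toMonoidHom, ← map_mul, hcw]
    · obtain ⟨w, -, rfl⟩ := hx
      exact w.2
  have hle : M ≤ Subgroup.centralizer ((P : Subgroup D) : Set D) := by
    have h1 : Nat.card M ∣ Nat.card C := by
      rw [← Nat.factorization_le_iff_dvd Nat.card_pos.ne' Nat.card_pos.ne']
      intro r
      by_cases hr : r.Prime
      · haveI := Fact.mk hr
        exact (hr.pow_dvd_iff_le_factorization Nat.card_pos.ne').mp (hR r)
      · simp [Nat.factorization_eq_zero_of_not_prime _ hr]
    have h2 : C = M := Subgroup.eq_of_le_of_card_ge inf_le_right (Nat.le_of_dvd Nat.card_pos h1)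
    exact h2 ▸ inf_le_left
  have htop : M ⊔ (P : Subgroup D) = ⊤ := by
    refine Subgroup.eq_top_of_card_eq _ (Nat.dvd_antisymm (Subgroup.card_subgroup_dvd_card _) ?_)
    rw [← M.card_mul_index, hidx]
    refine Nat.Coprime.mul_dvd_of_dvd_of_dvd ?_ (Subgroup.card_dvd_of_le le_sup_left)
      ((dvd_of_eq hP.symm).trans (Subgroup.card_dvd_of_le le_sup_right))
    exact (Nat.Coprime.coprime_dvd_left hM (by norm_num))
  rw [← Subgroup.normalizer_eq_top_iff, eq_top_iff, ← htop]
  exact sup_le (hle.trans (Subgroup.centralizer_le_normalizer _)) Subgroup.le_normalizer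

universe u

theorem false_of_card_dvd_aux : ∀ (n : ℕ) {D : Type u} [Group D] [Finite D], Nat.card D = n →
    n ∣ 21888 → 19 ∣ n → Nat.card (Sylow 19 D) ≠ 1 → False := by
  intro n
  induction n using Nat.strong_induction_on with
  | _ n ih =>
    intro D _ _ hn hdvd h19 hS
    haveI : Fact (Nat.Prime 19) := ⟨by norm_num⟩
    obtain ⟨m, rfl⟩ := h19
    have hm : m ∣ 1152 := Nat.dvd_of_mul_dvd_mul_left (by norm_num : 0 < 19) hdvd
    have hm19 : ¬ 19 ∣ m := fun h => by
      have := Nat.dvd_trans h hm
      omega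
    haveI : Nontrivial D := Finite.one_lt_card_iff_nontrivial.mp (by
      have := Nat.card_pos (α := D); omega)
    obtain ⟨M, hMne, hMmax⟩ : ∃ M : {M : Subgroup D // M.Normal}, (M : Subgroup D) ≠ ⊤ ∧
        ∀ K : Subgroup D, K.Normal → (M : Subgroup D) < K → K = ⊤ := by
      obtain ⟨M, hM, hmax⟩ := Set.Finite.exists_maximal
        (s := {K : Subgroup D | K.Normal ∧ K ≠ ⊤}) (Set.toFinite _)
        ⟨⊥, inferInstance, bot_ne_top⟩
      exact ⟨⟨M, hM.1⟩, hM.2, fun K hK hlt => by_contra fun hne =>
        hlt.not_ge (hmax ⟨hK, hne⟩ hlt.le)⟩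
    haveI := M.2
    obtain ⟨P⟩ := (inferInstance : Nonempty (Sylow 19 D))
    have hP : Nat.card P = 19 := by
      have := Small.SmallOrders.sylow_card_eq (k := 1) (by rwa [pow_one]) hm19 P
      rwa [pow_one] at this
    have hidx : Nat.card (M : Subgroup D) * (M : Subgroup D).index = 19 * m := by
      rw [Subgroup.card_mul_index, hn]
    by_cases hM19 : 19 ∣ Nat.card (M : Subgroup D)
    · have hlt : Nat.card (M : Subgroup D) < 19 * m :=
        lt_of_le_of_ne (hn ▸ Subgroup.card_le_card_group _) fun h =>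
          hMne (Subgroup.eq_top_of_card_eq _ (h.trans hn.symm))
      refine ih _ hlt rfl ((Dvd.intro _ hidx).trans hdvd) hM19 fun h1 => hS ?_
      haveI : Subsingleton (Sylow 19 (M : Subgroup D)) := (Nat.card_eq_one_iff_unique.mp h1).1
      haveI : Subsingleton (Sylow 19 D) := by
        refine ⟨fun A B => ?_⟩
        have hle : ∀ A : Sylow 19 D, (A : Subgroup D) ≤ M := by
          intro A x hx
          have hco : Nat.Coprime (M : Subgroup D).index 19 :=
            ((Nat.Prime.coprime_iff_not_dvd (by norm_num)).mpr fun h => by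
              obtain ⟨a, ha⟩ := hM19
              obtain ⟨b, hb⟩ := h
              rw [ha, hb] at hidx
              exact hm19 ⟨a * b, by linarith⟩).symm
          rw [← QuotientGroup.eq_one_iff, ← orderOf_eq_one_iff]
          refine Nat.eq_one_of_dvd_coprimes hco ?_ ?_
          · exact (orderOf_dvd_natCard _).trans (dvd_of_eq rfl)
          · refine ((orderOf_map_dvd (QuotientGroup.mk' (M : Subgroup D)) x)).trans ?_
            rw [← Subgroup.orderOf_mk x hx]
            refine (orderOf_dvd_natCard _).trans (dvd_of_eq ?_)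
            exact (Nat.card_congr (A.equiv P).toEquiv).trans hP
        have h2 : A.subtype (hle A) = B.subtype (hle B) := Subsingleton.elim _ _
        exact Sylow.subtype_injective h2
      exact Nat.card_eq_one_iff_unique.mpr ⟨inferInstance, inferInstance⟩
    · haveI : IsSimpleGroup (D ⧸ (M : Subgroup D)) := by
        haveI : Nontrivial (D ⧸ (M : Subgroup D)) := QuotientGroup.nontrivial_iff.mpr hMne
        refine ⟨fun K hK => ?_⟩
        have hKN := hK.comap (QuotientGroup.mk' (M : Subgroup D))
        have hsurj := QuotientGroup.mk'_surjective (M : Subgroup D)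
        rcases eq_or_lt_of_le (QuotientGroup.le_comap_mk' (M : Subgroup D) K) with h | h
        · left
          apply Subgroup.comap_injective hsurj
          rw [← h, MonoidHom.comap_bot, QuotientGroup.ker_mk']
        · right
          apply Subgroup.comap_injective hsurj
          rw [hMmax _ hKN h, Subgroup.comap_top]
      have hq19 : 19 ∣ (M : Subgroup D).index :=
        ((Nat.Prime.dvd_mul (by norm_num)).mp (Dvd.intro m hidx.symm)).resolve_left hM19
      obtain ⟨k, hk⟩ := hq19
      have hkm : k ∣ m := ⟨Nat.card (M : Subgroup D), by rw [hk] at hidx; linarith⟩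
      rcases Nat.lt_or_ge 1 k with h | h
      · exact no_simple (S := D ⧸ (M : Subgroup D)) (hkm.trans hm) h hk
      · have hi : (M : Subgroup D).index = 19 := by
          have : k ≠ 0 := fun h0 => by
            rw [h0, mul_zero] at hk; exact Subgroup.index_ne_zero_of_finite hk
          omega
        have hMd : Nat.card (M : Subgroup D) ∣ 1152 := by
          rw [hi] at hidx
          exact Dvd.dvd.trans ⟨1, by omega⟩ hm
        haveI := normal_sylow_of_quotient (M : Subgroup D) hMd hi P hP
        haveI : Subsingleton (Sylow 19 D) :=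
          ⟨fun A B => (Sylow.unique_of_normal P inferInstance).uniq A |>.trans
            ((Sylow.unique_of_normal P inferInstance).uniq B).symm⟩
        exact hS (Nat.card_eq_one_iff_unique.mpr ⟨inferInstance, inferInstance⟩)

theorem false_of_card_dvd {D : Type*} [Group D] [Finite D] (hd : Nat.card D ∣ 21888)
    (h19 : 19 ∣ Nat.card D) (hS : Nat.card (Sylow 19 D) ≠ 1) : False :=
  false_of_card_dvd_aux _ rfl hd h19 hS

end Cfsg.Agent.Small.Order459648
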