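import Cfsg.Agent.Lib.Small.ProjLineEven
import Cfsg.Agent.Lib.Small.SimpleOrderTools
import Mathlib.GroupTheory.SpecificGroups.Alternating

/-!
# Simple groups of order 504
-/

set_option autoImplicit false

namespace Cfsg.Agent.Small.OrderFiveHundredFour

open Subgroup SimpleOrderTools

theorem no_twenty_one {n : ℕ} (hn : n < 10) (σ : Equiv.Perm (Fin n)) : orderOf σ ≠ 21 := by
  intro h
  have hlcm : σ.cycleType.lcm = 21 := by rw [Equiv.Perm.lcm_cycleType, h]
  have hsum : σ.cycleType.sum < 10 := by
    rw [Equiv.Perm.sum_cycleType]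
    have := σ.support.card_le_univ
    rw [Fintype.card_fin] at this
    omega
  have hpart : ∀ a ∈ σ.cycleType, a = 3 ∨ a = 7 := fun a ha => by
    have h1 : a ∣ 21 := hlcm ▸ Multiset.dvd_lcm ha
    have h2 := Equiv.Perm.two_le_of_mem_cycleType ha
    have h3 := Multiset.le_sum_of_mem ha
    have h4 : a < 10 := by omega
    interval_cases a <;> omega
  by_cases h3 : (3 : ℕ) ∈ σ.cycleType
  · by_cases h7 : (7 : ℕ) ∈ σ.cycleType
    · obtain ⟨t, ht⟩ := Multiset.exists_cons_of_mem h3
      rw [ht] at h7 hsum
      have := Multiset.le_sum_of_mem ((Multiset.mem_cons.1 h7).resolve_left (by norm_num))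
      rw [Multiset.sum_cons] at hsum
      omega
    · have : σ.cycleType.lcm ∣ 3 := Multiset.lcm_dvd.2 fun a ha => by
        rcases hpart a ha with rfl | rfl
        · exact dvd_rfl
        · exact absurd ha h7
      rw [hlcm] at this
      norm_num at this
  · have : σ.cycleType.lcm ∣ 7 := Multiset.lcm_dvd.2 fun a ha => by
      rcases hpart a ha with rfl | rfl
      · exact absurd ha h3
      · exact dvd_rfl
    rw [hlcm] at this
    norm_num at this

variable {G : Type*} [Group G] [Finite G] [IsSimpleGroup G]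

theorem not_comm (h : Nat.card G = 504) : ¬ IsMulCommutative G :=
  SmallOrders.not_comm_of_card (by rw [h]; norm_num)

theorem index_big (h : Nat.card G = 504) {H : Subgroup G} (hH : H ≠ ⊤) : 8 ≤ H.index := by
  by_contra hlt
  have hd := SmallOrders.card_dvd_index_factorial H hH
  rw [h] at hd
  have h7 : H.index = 7 := by
    have hle : H.index ≤ 7 := by omega
    revert hd
    generalize H.index = n at hle ⊢
    interval_cases n <;> decide
  obtain ⟨f, hf, hfr⟩ := card_dvd_half_factorial (not_comm h) H hH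
  haveI : IsSimpleGroup (alternatingGroup (Fin H.index)) :=
    alternatingGroup.isSimpleGroup (by rw [Nat.card_eq_fintype_card, Fintype.card_fin]; omega)
  have hA : Nat.card (alternatingGroup (Fin H.index)) = 2520 := by
    haveI : Nontrivial (Fin H.index) := by rw [h7]; infer_instance
    rw [nat_card_alternatingGroup, Nat.card_eq_fintype_card, Fintype.card_fin, h7]
    rfl
  let K := f.range.subgroupOf (alternatingGroup (Fin H.index))
  have hK : Nat.card K = 504 := by
    rw [Nat.card_congr (subgroupOfEquivOfLe hfr).toEquiv, ← Nat.card_congr (f.ofInjective hf).toEquiv, h]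
  have hKi := K.card_mul_index
  rw [hK, hA] at hKi
  have h5 : K.index = 5 := by omega
  have := SmallOrders.card_dvd_index_factorial K (fun e => by rw [e, index_top] at h5; omega)
  rw [h5, hA] at this
  norm_num at this

theorem card_le (h : Nat.card G = 504) {H : Subgroup G} (hH : H ≠ ⊤) : Nat.card H ≤ 63 := by
  have h1 := index_big h hH
  have h2 := H.card_mul_index
  rw [h] at h2
  nlinarith

theorem ne_top_of_central (h : Nat.card G = 504) {x : G} (hx : x ≠ 1) :
    centralizer ({x} : Set G) ≠ ⊤ := by
  intro e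
  refine hx (mem_bot.1 (SmallOrders.center_eq_bot (not_comm h) ▸ (mem_center_iff.2 fun g => ?_)))
  have : g ∈ centralizer ({x} : Set G) := e ▸ mem_top g
  exact (mem_centralizer_singleton_iff.1 this)

theorem seven_structure (h : Nat.card G = 504) :
    Nat.card (Sylow 7 G) = 36 ∧ ∀ y : G, orderOf y = 7 →
      Nat.card (centralizer ({y} : Set G)) = 7 ∧ ∃ w : G, w * y * w⁻¹ = y⁻¹ := by
  haveI : Fact (Nat.Prime 7) := ⟨by norm_num⟩
  haveI : Fact (Nat.Prime 3) := ⟨by norm_num⟩
  haveI : Fact (Nat.Prime 2) := ⟨Nat.prime_two⟩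
  have hP : ∀ P : Sylow 7 G, Nat.card P = 7 ^ 1 :=
    SmallOrders.sylow_card_eq (m := 72) (by rw [h]; norm_num) (by norm_num)
  have hn : Nat.card (Sylow 7 G) = 36 := by
    obtain ⟨P⟩ : Nonempty (Sylow 7 G) := inferInstance
    obtain ⟨hd, hm, h1⟩ := SmallOrders.sylow_number P (hP P) one_pos (m := 72) (by rw [h]; norm_num) (by norm_num)
    have h36 : Nat.card (Sylow 7 G) = 8 ∨ Nat.card (Sylow 7 G) = 36 := by
      revert hd hm h1
      generalize Nat.card (Sylow 7 G) = n
      intro hd hm h1
      have := Nat.le_of_dvd (by norm_num) hd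
      interval_cases n <;> omega
    refine h36.resolve_left fun h8 => ?_
    have hN := SmallOrders.card_normalizer P
    rw [h8, h] at hN
    obtain ⟨y, hy, hyP⟩ := exists_generator (Fact.out : Nat.Prime 7) (P := (P : Subgroup G)) (by simpa using hP P)
    set N : Subgroup G := normalizer ((P : Subgroup G) : Set G) with hNdef
    let φ := (P : Subgroup G).normalizerMonoidHom
    obtain ⟨u, hu⟩ := exists_prime_orderOf_dvd_card' (G := φ.ker) 3 (by
      haveI : IsCyclic (P : Subgroup G) := isCyclic_of_prime_card (p := 7) (by simpa using hP P)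
      have h1 := φ.ker.card_mul_index
      have h2 : φ.ker.index ∣ 6 := by
        rw [index_ker]
        have : Nat.card (MulAut (P : Subgroup G)) = 6 := by
          rw [IsCyclic.card_mulAut, show Nat.card (P : Subgroup G) = 7 by simpa using hP P,
            Nat.totient_prime (by norm_num)]
        exact this ▸ card_subgroup_dvd_card φ.range
      have h3 : Nat.card N = 63 := by omega
      rw [h3] at h1
      by_contra h3'
      obtain ⟨t, ht⟩ := h2
      have hcop : Nat.Coprime 9 (Nat.card φ.ker) :=
        ((Nat.Prime.coprime_iff_not_dvd (Fact.out : Nat.Prime 3)).2 h3').pow_left 2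
      have h9 : 9 ∣ φ.ker.index := hcop.dvd_of_dvd_mul_left ⟨7, by rw [h1]⟩
      have := (h9.trans ⟨t, ht⟩)
      omega)
    have huo : orderOf ((u : N) : G) = 3 := by rw [orderOf_coe, orderOf_coe, hu]
    have huy : Commute ((u : N) : G) y := by
      have h1 : (u : N) ∈ φ.ker := u.2
      have h1 : ((u : N) : G) ∈ centralizer ((P : Subgroup G) : Set G) := by
        have h2 : (u : N) ∈ (centralizer ((P : Subgroup G) : Set G)).subgroupOf N :=
          (SetLike.ext_iff.1 (normalizerMonoidHom_ker (P : Subgroup G)) _).1 h1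
        exact mem_subgroupOf.1 h2
      exact ((mem_centralizer_iff.1 h1) y (hyP ▸ mem_zpowers y)).symm
    have h21 : orderOf ((u : N) * y : G) = 21 := by
      rw [huy.orderOf_mul_eq_mul_orderOf_of_coprime (by rw [huo, hy]; decide), huo, hy]
    obtain ⟨f, hf, -⟩ := card_dvd_half_factorial (not_comm h) N (fun e => by
      rw [e, card_top, h] at hN; omega)
    refine no_twenty_one (n := N.index) ?_ (f ((u : N) * y)) (by rw [orderOf_injective f hf, h21])
    have h9 : Nat.card (Sylow 7 G) = N.index := P.card_eq_index_normalizer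
    omega
  refine ⟨hn, fun y hy => ?_⟩
  let P : Sylow 7 G := Sylow.ofCard (zpowers y) ((Nat.card_zpowers y).trans (by
    rw [hy, h, show (504 : ℕ) = 7 ^ 1 * 72 by norm_num, Nat.factorization_mul (by norm_num) (by norm_num),
      Finsupp.add_apply, (Fact.out : Nat.Prime 7).factorization_pow, Finsupp.single_eq_same,
      Nat.factorization_eq_zero_of_not_dvd (by norm_num)]
    norm_num))
  have hN := SmallOrders.card_normalizer P
  rw [hn, h] at hN
  set N : Subgroup G := normalizer ((P : Subgroup G) : Set G) with hNdef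
  set C : Subgroup G := centralizer ({y} : Set G) with hC
  have hCP : centralizer ((P : Subgroup G) : Set G) = C := by
    show centralizer ((zpowers y : Subgroup G) : Set G) = C
    rw [zpowers_eq_closure, centralizer_closure]
  have hCN : C ≤ N := hCP ▸ centralizer_le_normalizer _
  have hPC : zpowers y ≤ C := zpowers_le.2 (mem_centralizer_singleton_iff.2 rfl)
  have hC7 : Nat.card C = 7 := by
    have h1 := card_dvd_of_le hCN
    have h2 := card_dvd_of_le hPC
    rw [Nat.card_zpowers, hy] at h2
    rw [show Nat.card N = 14 by omega] at h1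
    obtain ⟨k, hk⟩ := h2
    have h3 := Nat.le_of_dvd (by norm_num) h1
    rcases (by omega : k = 1 ∨ k = 2 ∨ k = 0) with rfl | rfl | rfl
    · exact hk
    · exfalso
      refine SmallOrders.false_of_central P (by rw [hP]; norm_num) (by rw [hP, h]; norm_num) ?_
      rw [hCP]
      exact (eq_of_le_of_card_ge hCN (by rw [hk]; omega)).ge
    · exact absurd hk (by simpa using Nat.card_pos.ne')
  refine ⟨hC7, ?_⟩
  obtain ⟨⟨r, hrN⟩, hr⟩ := exists_prime_orderOf_dvd_card' (G := N) 2 ⟨7, by omega⟩
  rw [orderOf_mk] at hr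
  refine ⟨r, ?_⟩
  have hmem : r * y * r⁻¹ ∈ zpowers y := (mem_normalizer_iff.1 hrN y).1 (mem_zpowers y)
  obtain ⟨k, hk⟩ := (isOfFinOrder_of_finite y).mem_powers_iff_mem_zpowers.2 hmem
  replace hk : y ^ k = r * y * r⁻¹ := hk
  have hr2 : r * r = 1 := by rw [← pow_two, ← hr, pow_orderOf_eq_one]
  have hkk : y ^ (k * k) = y ^ 1 := by
    rw [pow_mul, hk, conj_pow, hk, pow_one,
      show r * (r * y * r⁻¹) * r⁻¹ = (r * r) * y * (r * r)⁻¹ by group, hr2]
    group
  have hm := pow_eq_pow_iff_modEq.1 hkk
  rw [hy, Nat.ModEq, Nat.mul_mod] at hm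
  have hk' : y ^ k = y ^ (k % 7) := by rw [← hy, pow_mod_orderOf]
  have hk6 : k % 7 = 1 ∨ k % 7 = 6 := by
    have := Nat.mod_lt k (show 7 > 0 by norm_num)
    revert hm
    generalize k % 7 = a at *
    interval_cases a <;> simp
  rcases hk6 with e | e
  · exfalso
    rw [e, pow_one, hk] at hk'
    have : r ∈ C := mem_centralizer_singleton_iff.2 (by
      calc r * y = r * y * r⁻¹ * r := by group
        _ = y * r := by rw [hk'])
    have h2 := orderOf_dvd_natCard (⟨r, this⟩ : C)
    rw [orderOf_mk, hr, hC7] at h2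
    norm_num at h2
  · rw [e, hk] at hk'
    rw [hk', eq_inv_iff_mul_eq_one, ← pow_succ, show 6 + 1 = orderOf y from hy.symm, pow_orderOf_eq_one]

theorem three_structure (h : Nat.card G = 504) :
    (∀ u : G, u ≠ 1 → (∃ k : ℕ, orderOf u = 3 ^ k) → Nat.card (centralizer ({u} : Set G)) = 9) ∧
      224 ≤ Nat.card {g : G // g ≠ 1 ∧ ∃ k : ℕ, orderOf g = 3 ^ k} := by
  haveI : Fact (Nat.Prime 3) := ⟨by norm_num⟩
  haveI : Fact (Nat.Prime 2) := ⟨Nat.prime_two⟩
  haveI : Fact (Nat.Prime 7) := ⟨by norm_num⟩
  have hP : ∀ P : Sylow 3 G, Nat.card P = 3 ^ 2 :=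
    SmallOrders.sylow_card_eq (m := 56) (by rw [h]; norm_num) (by norm_num)
  obtain ⟨P₀⟩ : Nonempty (Sylow 3 G) := inferInstance
  have hn : Nat.card (Sylow 3 G) = 28 := by
    obtain ⟨hd, hm, h1⟩ := SmallOrders.sylow_number P₀ (hP P₀) two_pos (m := 56) (by rw [h]; norm_num) (by norm_num)
    have h8 : 8 ≤ Nat.card (Sylow 3 G) := by
      rw [P₀.card_eq_index_normalizer] at h1 ⊢
      refine index_big h fun e => ?_
      rw [e, index_top] at h1
      exact h1 rfl
    revert hd hm h8
    generalize Nat.card (Sylow 3 G) = n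
    intro hd hm h8
    have := Nat.le_of_dvd (by norm_num) hd
    interval_cases n <;> omega
  have main : ∀ (P : Sylow 3 G) (u : G), u ∈ (P : Subgroup G) → u ≠ 1 →
      Nat.card (centralizer ({u} : Set G)) = 9 ∧ (P : Subgroup G) = centralizer ({u} : Set G) := by
    intro P u huP hu1
    haveI : IsMulCommutative (P : Subgroup G) := IsPGroup.isMulCommutative_of_card_eq_prime_sq (hP P)
    set N : Subgroup G := normalizer ((P : Subgroup G) : Set G) with hNdef
    have hN : Nat.card N = 18 := by
      have h9 : Nat.card (Sylow 3 G) * Nat.card N = Nat.card G := SmallOrders.card_normalizer P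
      rw [hn, h] at h9
      omega
    have hPN : (P : Subgroup G) ≤ N := le_normalizer
    obtain ⟨⟨r, hrN⟩, hr⟩ := exists_prime_orderOf_dvd_card' (G := N) 2 ⟨9, by omega⟩
    rw [orderOf_mk] at hr
    have hr2 : r * r = 1 := by rw [← pow_two, ← hr, pow_orderOf_eq_one]
    have hcommP : ∀ a ∈ (P : Subgroup G), ∀ b ∈ (P : Subgroup G), a * b = b * a := fun a ha b hb =>
      congrArg Subtype.val (mul_comm' (⟨a, ha⟩ : (P : Subgroup G)) ⟨b, hb⟩)
    -- elements of `P` fixed by `r` are fixed by the whole normaliser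
    have hfix : ∀ v ∈ (P : Subgroup G), r * v = v * r → v = 1 := by
      intro v hv hrv
      refine eq_one_of_fixed P (by rw [hP, h]; norm_num) hv fun n hn' => ?_
      have hle : N ≤ centralizer ({v} : Set G) := by
        have hsub : (P : Subgroup G) ⊔ zpowers r ≤ centralizer ({v} : Set G) :=
          sup_le (fun a ha => mem_centralizer_singleton_iff.2 (hcommP a ha v hv))
            (zpowers_le.2 (mem_centralizer_singleton_iff.2 hrv))
        have hsupN : (P : Subgroup G) ⊔ zpowers r ≤ N := sup_le hPN (zpowers_le.2 hrN)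
        refine le_trans (ge_of_eq (eq_of_le_of_card_ge hsupN ?_)) hsub
        rw [hN]
        have h9 := card_dvd_of_le (le_sup_left : (P : Subgroup G) ≤ (P : Subgroup G) ⊔ zpowers r)
        have h2 := card_dvd_of_le (le_sup_right : zpowers r ≤ (P : Subgroup G) ⊔ zpowers r)
        rw [show Nat.card (P : Subgroup G) = 3 ^ 2 from hP P] at h9
        rw [Nat.card_zpowers, hr] at h2
        exact Nat.le_of_dvd Nat.card_pos (Nat.Coprime.mul_dvd_of_dvd_of_dvd (by decide : Nat.Coprime 9 2) h9 h2)
      exact mem_centralizer_singleton_iff.1 (hle hn')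
    have hinv : r * u * r⁻¹ = u⁻¹ := by
      have hru : r * u * r⁻¹ ∈ (P : Subgroup G) := (mem_normalizer_iff.1 hrN u).1 huP
      have h1 : u * (r * u * r⁻¹) = 1 := hfix _ (mul_mem huP hru) (by
        calc r * (u * (r * u * r⁻¹)) = (r * u * r⁻¹) * ((r * r) * u * (r * r)⁻¹) * r := by group
          _ = (r * u * r⁻¹) * u * r := by rw [hr2]; group
          _ = u * (r * u * r⁻¹) * r := by rw [hcommP _ hru _ huP])
      exact (eq_inv_of_mul_eq_one_right h1)
    set C : Subgroup G := centralizer ({u} : Set G) with hCdef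
    have hPC : (P : Subgroup G) ≤ C := fun a ha => mem_centralizer_singleton_iff.2 (hcommP a ha u huP)
    have hrC : r ∉ C := fun hrC => hu1 (hfix u huP (mem_centralizer_singleton_iff.1 hrC))
    -- the normaliser of the cyclic group
    have hcases : Nat.card C = 9 := by
      obtain ⟨k, hk⟩ := card_dvd_of_le hPC
      rw [show Nat.card (P : Subgroup G) = 9 from hP P] at hk
      have hle := card_le h (ne_top_of_central h hu1)
      rw [← hCdef] at hle
      have hdvd : Nat.card C ∣ 504 := h ▸ card_subgroup_dvd_card C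
      set M : Subgroup G := normalizer ((zpowers u : Subgroup G) : Set G) with hM
      have hMne : M ≠ ⊤ := by
        intro e
        haveI : (zpowers u).Normal := normalizer_eq_top_iff.1 e
        rcases IsSimpleGroup.eq_bot_or_eq_top_of_normal (zpowers u) inferInstance with e' | e'
        · exact hu1 (zpowers_eq_bot.1 e')
        · refine not_comm h ⟨⟨fun a b => ?_⟩⟩
          obtain ⟨i, rfl⟩ := mem_zpowers_iff.1 (e' ▸ mem_top a : a ∈ zpowers u)
          obtain ⟨j, rfl⟩ := mem_zpowers_iff.1 (e' ▸ mem_top b : b ∈ zpowers u)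
          rw [← zpow_add, ← zpow_add, add_comm]
      have hCM : C ≤ M := by
        rw [hCdef, hM, ← centralizer_closure, ← zpowers_eq_closure]
        exact centralizer_le_normalizer _
      have hrM : r ∈ M := by
        refine mem_normalizer_iff_map_conj_eq.2 ?_
        rw [MonoidHom.map_zpowers]
        show zpowers (r * u * r⁻¹) = _
        rw [hinv, zpowers_inv]
      have hlt : Nat.card C < Nat.card M := by
        refine lt_of_le_of_ne (card_le_of_le hCM) fun e => hrC ?_
        exact (eq_of_le_of_card_ge hCM e.ge) ▸ hrM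
      obtain ⟨t, ht⟩ := card_dvd_of_le hCM
      have hMle := card_le h hMne
      have hMd : Nat.card M ∣ 504 := h ▸ card_subgroup_dvd_card M
      have hk7 : k ≤ 7 := by omega
      have h2C : 2 * Nat.card C ≤ Nat.card M := by
        rw [ht] at hlt ⊢
        have : 2 ≤ t := by
          rcases t with _ | _ | t <;> simp_all
        nlinarith
      rw [hk] at h2C hdvd ⊢
      have hk3 : k ≤ 3 := by omega
      interval_cases k
      · exact absurd hk Nat.card_pos.ne'
      · rfl
      · -- a unique Sylow subgroup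
        exfalso
        haveI := normal_of_index_eq_two (H := (P : Subgroup G).subgroupOf C) (by
          have h1 := ((P : Subgroup G).subgroupOf C).card_mul_index
          rw [Nat.card_congr (subgroupOfEquivOfLe hPC).toEquiv, show Nat.card (P : Subgroup G) = 9 from hP P,
            hk] at h1
          omega)
        have hCN : C ≤ N := normal_subgroupOf_iff_le_normalizer hPC |>.1 inferInstance
        exact hrC (eq_of_le_of_card_ge hCN (by rw [hN, hk]) ▸ hrN)
      · norm_num at hdvd
    exact ⟨hcases, eq_of_le_of_card_ge hPC (by rw [hcases, show Nat.card (P : Subgroup G) = 9 from hP P])⟩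
  refine ⟨fun u hu1 ⟨k, hk⟩ => ?_, ?_⟩
  · obtain ⟨P, hle⟩ := (IsPGroup.of_card (n := k) (G := zpowers u) (by rw [Nat.card_zpowers, hk])).exists_le_sylow
    exact (main P u (hle (mem_zpowers u)) hu1).1
  · have := count_ti (p := 3) (m := 9) (fun P => by simpa using hP P)
      fun P Q x hx hxP hxQ => Sylow.ext ((main P x hxP hx).2.trans (main Q x hxQ hx).2.symm)
    rw [hn] at this
    exact this

/-- The local data of a simple group of order 504. -/
theorem exists_data (h : Nat.card G = 504) : Nonempty (ProjLineEven.Data G 8) := by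
  classical
  haveI : Fact (Nat.Prime 7) := ⟨by norm_num⟩
  haveI : Fact (Nat.Prime 2) := ⟨Nat.prime_two⟩
  haveI : Fact (Nat.Prime 3) := ⟨by norm_num⟩
  haveI := Fintype.ofFinite G
  obtain ⟨h36, hseven⟩ := seven_structure h
  obtain ⟨hthree, h224⟩ := three_structure h
  have hS : ∀ S : Sylow 2 G, Nat.card S = 2 ^ 3 :=
    SmallOrders.sylow_card_eq (m := 63) (by rw [h]; norm_num) (by norm_num)
  -- an involution with centraliser a Sylow subgroup
  obtain ⟨S, z, hzS, hz, hzC⟩ : ∃ (S : Sylow 2 G) (z : G), z ∈ (S : Subgroup G) ∧ orderOf z = 2 ∧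
      (S : Subgroup G) ≤ centralizer ({z} : Set G) := by
    obtain ⟨S⟩ : Nonempty (Sylow 2 G) := inferInstance
    haveI : Nontrivial (S : Subgroup G) :=
      Finite.one_lt_card_iff_nontrivial.1 (by rw [show Nat.card (S : Subgroup G) = 8 from hS S]; norm_num)
    haveI := S.2.center_nontrivial
    obtain ⟨k, hk⟩ := IsPGroup.iff_card.1 (S.2.to_subgroup (center (S : Subgroup G)))
    obtain ⟨z, hz⟩ := exists_prime_orderOf_dvd_card' (G := center (S : Subgroup G)) 2 (by
      rw [hk]
      refine dvd_pow_self 2 fun e => ?_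
      have := Finite.one_lt_card (α := center (S : Subgroup G))
      rw [hk, e] at this
      omega)
    refine ⟨S, ((z : (S : Subgroup G)) : G), (z : (S : Subgroup G)).2, by rw [orderOf_coe, orderOf_coe, hz],
      fun a ha => mem_centralizer_singleton_iff.2 ?_⟩
    exact congrArg Subtype.val (mem_center_iff.1 z.2 ⟨a, ha⟩)
  have hz1 : z ≠ 1 := fun e => by simp [e] at hz
  have hCz : Nat.card (centralizer ({z} : Set G)) = 8 := by
    obtain ⟨k, hk⟩ := card_dvd_of_le hzC
    rw [show Nat.card (S : Subgroup G) = 8 from hS S] at hk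
    have hd : Nat.card (centralizer ({z} : Set G)) ∣ 504 := h ▸ card_subgroup_dvd_card _
    have hno : ∀ p, p = 3 ∨ p = 7 → ¬ p ∣ Nat.card (centralizer ({z} : Set G)) := by
      intro p hp hdvd
      haveI : Fact p.Prime := ⟨by rcases hp with rfl | rfl <;> norm_num⟩
      obtain ⟨u, hu⟩ := exists_prime_orderOf_dvd_card' p hdvd
      have hzu : z ∈ centralizer ({(u : G)} : Set G) :=
        mem_centralizer_singleton_iff.2 (mem_centralizer_singleton_iff.1 u.2).symm
      have h2 := orderOf_dvd_natCard (⟨z, hzu⟩ : centralizer ({(u : G)} : Set G))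
      rw [orderOf_mk, hz] at h2
      rcases hp with rfl | rfl
      · rw [hthree u (fun e => by rw [← orderOf_coe, e, orderOf_one] at hu; omega)
          ⟨1, by rw [orderOf_coe, hu, pow_one]⟩] at h2
        norm_num at h2
      · rw [(hseven u (by rw [orderOf_coe, hu])).1] at h2
        norm_num at h2
    have h3 := hno 3 (Or.inl rfl)
    have h7 := hno 7 (Or.inr rfl)
    rw [hk] at hd h3 h7 ⊢
    have : k ∣ 63 := Nat.dvd_of_mul_dvd_mul_left (by norm_num : 0 < 8) hd
    have := Nat.le_of_dvd (by norm_num) this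
    interval_cases k <;> omega
  have h63 : Nat.card {g : G // IsConj z g} = 63 := by
    have := card_conjugates z
    rw [hCz, h] at this
    omega
  -- every element is in one of the four kinds
  have hkinds : ∀ g : G, g ≠ 1 → (∃ k : ℕ, orderOf g = 3 ^ k) ∨ (∃ k : ℕ, orderOf g = 7 ^ k) ∨ IsConj z g := by
    have h216 : 216 ≤ Nat.card {g : G // g ≠ 1 ∧ ∃ k : ℕ, orderOf g = 7 ^ k} := by
      have := count_ti (p := 7) (m := 7) (fun P : Sylow 7 G =>
          by simpa using SmallOrders.sylow_card_eq (k := 1) (m := 72) (by rw [h]; norm_num) (by norm_num) P)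
        fun P Q x hx hxP hxQ => by
          have key : ∀ R : Sylow 7 G, x ∈ (R : Subgroup G) → (R : Subgroup G) = zpowers x := fun R hR => by
            have hc : Nat.card (R : Subgroup G) = 7 := by
              simpa using SmallOrders.sylow_card_eq (k := 1) (m := 72) (by rw [h]; norm_num) (by norm_num) R
            refine (eq_of_le_of_card_ge (zpowers_le.2 hR) ?_).symm
            rw [hc, Nat.card_zpowers]
            have := orderOf_dvd_natCard (⟨x, hR⟩ : (R : Subgroup G))
            rw [orderOf_mk, hc] at this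
            rcases (Nat.dvd_prime (by norm_num : Nat.Prime 7)).1 this with e | e
            · exact absurd (orderOf_eq_one_iff.1 e) hx
            · rw [e]
          exact Sylow.ext ((key P hxP).trans (key Q hxQ).symm)
      rwa [h36] at this
    let A := Finset.univ.filter fun g : G => g ≠ 1 ∧ ∃ k : ℕ, orderOf g = 3 ^ k
    let B := Finset.univ.filter fun g : G => g ≠ 1 ∧ ∃ k : ℕ, orderOf g = 7 ^ k
    let Z := Finset.univ.filter fun g : G => IsConj z g
    have hA : 224 ≤ A.card := by rw [← Fintype.card_subtype, ← Nat.card_eq_fintype_card]; exact h224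
    have hB : 216 ≤ B.card := by rw [← Fintype.card_subtype, ← Nat.card_eq_fintype_card]; exact h216
    have hZ : Z.card = 63 := by rw [← Fintype.card_subtype, ← Nat.card_eq_fintype_card]; exact h63
    have hZo : ∀ g ∈ Z, orderOf g = 2 := fun g hg => by
      obtain ⟨c, hc⟩ := isConj_iff.1 (Finset.mem_filter.1 hg).2
      rw [← hc, ← hz]
      exact orderOf_injective (MulAut.conj c).toMonoidHom (MulAut.conj c).injective z
    have hAB : Disjoint A B := Finset.disjoint_left.2 fun g hg hg' => by
      obtain ⟨-, hg1, k, hk⟩ := Finset.mem_filter.1 hg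
      obtain ⟨-, -, l, hl⟩ := Finset.mem_filter.1 hg'
      have : Nat.Coprime (3 ^ k) (7 ^ l) := (by decide : Nat.Coprime 3 7).pow _ _
      rw [← hk, ← hl, Nat.coprime_self] at this
      exact hg1 (orderOf_eq_one_iff.1 this)
    have hABZ : Disjoint (A ∪ B) Z := Finset.disjoint_left.2 fun g hg hg' => by
      have h2 := hZo g hg'
      rcases Finset.mem_union.1 hg with hg | hg <;> obtain ⟨-, hg1, k, hk⟩ := Finset.mem_filter.1 hg <;>
        (rcases Nat.eq_zero_or_pos k with rfl | hk0
         · exact hg1 (orderOf_eq_one_iff.1 (by rw [hk, pow_zero]))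
         · have := Nat.prime_two.eq_one_or_self_of_dvd _ ((dvd_pow_self _ hk0.ne').trans (dvd_of_eq (hk.symm.trans h2)))
           omega)
    have hsub : A ∪ B ∪ Z ⊆ Finset.univ.erase 1 := fun g hg => by
      rw [Finset.mem_erase]
      refine ⟨?_, Finset.mem_univ _⟩
      rcases Finset.mem_union.1 hg with hg | hg
      · rcases Finset.mem_union.1 hg with hg | hg <;> exact (Finset.mem_filter.1 hg).2.1
      · intro e
        have := hZo g hg
        rw [e, orderOf_one] at this
        omega
    have hall : A ∪ B ∪ Z = Finset.univ.erase 1 := Finset.eq_of_subset_of_card_le hsub (by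
      rw [Finset.card_erase_of_mem (Finset.mem_univ _), Finset.card_univ, ← Nat.card_eq_fintype_card, h,
        Finset.card_union_of_disjoint hABZ, Finset.card_union_of_disjoint hAB]
      omega)
    intro g hg
    have : g ∈ A ∪ B ∪ Z := hall ▸ Finset.mem_erase.2 ⟨hg, Finset.mem_univ _⟩
    rcases Finset.mem_union.1 this with hg | hg
    · rcases Finset.mem_union.1 hg with hg | hg
      · exact Or.inl (Finset.mem_filter.1 hg).2.2
      · exact Or.inr (Or.inl (Finset.mem_filter.1 hg).2.2)
    · exact Or.inr (Or.inr (Finset.mem_filter.1 hg).2)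
  have hclass : ∀ T : Sylow 2 G, ∀ s ∈ (T : Subgroup G), s ≠ 1 → IsConj z s := by
    intro T s hs hs1
    obtain ⟨j, hj⟩ := IsPGroup.iff_orderOf.1 T.2 ⟨s, hs⟩
    rw [orderOf_mk] at hj
    have key : ∀ p, p = 3 ∨ p = 7 → ∀ k : ℕ, orderOf s ≠ p ^ k := fun p hp k e => by
      have : Nat.Coprime (p ^ k) (2 ^ j) := (by rcases hp with rfl | rfl <;> decide : Nat.Coprime p 2).pow _ _
      rw [← e, ← hj, Nat.coprime_self] at this
      exact hs1 (orderOf_eq_one_iff.1 this)
    rcases hkinds s hs1 with ⟨k, hk⟩ | ⟨k, hk⟩ | hc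
    · exact absurd hk (key 3 (Or.inl rfl) k)
    · exact absurd hk (key 7 (Or.inr rfl) k)
    · exact hc
  have hsq : ∀ T : Sylow 2 G, ∀ s ∈ (T : Subgroup G), s * s = 1 := fun T s hs => by
    by_cases hs1 : s = 1
    · rw [hs1, one_mul]
    obtain ⟨c, hc⟩ := isConj_iff.1 (hclass T s hs hs1)
    rw [← hc, show c * z * c⁻¹ * (c * z * c⁻¹) = c * (z * z) * c⁻¹ by group, ← pow_two, ← hz,
      pow_orderOf_eq_one]
    group
  have hcentT : ∀ T : Sylow 2 G, ∀ s ∈ (T : Subgroup G), s ≠ 1 →
      centralizer ({s} : Set G) = (T : Subgroup G) := by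
    intro T s hs hs1
    refine (eq_of_le_of_card_ge (fun a ha => mem_centralizer_singleton_iff.2 ?_) ?_).symm
    · have h1 := hsq T _ (mul_mem ha hs)
      rw [mul_eq_one_iff_eq_inv, mul_inv_rev, inv_eq_of_mul_eq_one_right (hsq T a ha),
        inv_eq_of_mul_eq_one_right (hsq T s hs)] at h1
      exact h1
    · have h1 := card_conjugates s
      have h2 : Nat.card {g : G // IsConj s g} = 63 := h63 ▸ Nat.card_congr (Equiv.subtypeEquivRight fun g =>
        ⟨fun e => (hclass T s hs hs1).trans e, fun e => (hclass T s hs hs1).symm.trans e⟩)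
      rw [h2, h] at h1
      rw [show Nat.card (T : Subgroup G) = 8 from hS T]
      omega
  have hn2 : Nat.card (Sylow 2 G) = 9 := by
    have hle := count_ti (p := 2) (m := 8) (fun T => by simpa using hS T)
      fun P Q x hx hxP hxQ => Sylow.ext ((hcentT P x hxP hx).symm.trans (hcentT Q x hxQ hx))
    have hle2 : Nat.card {g : G // g ≠ 1 ∧ ∃ k : ℕ, orderOf g = 2 ^ k} ≤ 63 := by
      rw [← h63]
      refine Nat.card_le_card_of_injective (fun g => ⟨g.1, ?_⟩) fun a b e => Subtype.ext (congrArg Subtype.val e :)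
      obtain ⟨g, hg1, k, hk⟩ := g
      obtain ⟨T, hT⟩ := (IsPGroup.of_card (n := k) (G := zpowers g) (by rw [Nat.card_zpowers, hk])).exists_le_sylow
      exact hclass T g (hT (mem_zpowers g)) hg1
    obtain ⟨hd, -, h1⟩ := SmallOrders.sylow_number S (hS S) (by norm_num) (m := 63) (by rw [h]; norm_num) (by norm_num)
    have h8 : 8 ≤ Nat.card (Sylow 2 G) := by
      rw [S.card_eq_index_normalizer] at h1 ⊢
      refine index_big h fun e => ?_
      rw [e, index_top] at h1
      exact h1 rfl
    have : Nat.card (Sylow 2 G) ≤ 9 := by omega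
    revert hd
    generalize Nat.card (Sylow 2 G) = n at *
    intro hd
    interval_cases n <;> omega
  have hN : Nat.card (normalizer ((S : Subgroup G) : Set G)) = 56 := by
    have := SmallOrders.card_normalizer S
    rw [hn2, h] at this
    omega
  obtain ⟨⟨y, hyN⟩, hy⟩ := exists_prime_orderOf_dvd_card' (G := normalizer ((S : Subgroup G) : Set G)) 7
    ⟨8, by omega⟩
  rw [orderOf_mk] at hy
  obtain ⟨-, w, hw⟩ := hseven y hy
  exact ⟨{
    S := S, y := y, w := w
    four_le := by norm_num
    cardG := by rw [h]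
    cardS := hS S
    sq := hsq S
    cent := fun s hs hs1 g hg => hcentT S s hs hs1 ▸ mem_centralizer_singleton_iff.2 hg
    cardN := hN
    ordy := hy
    memy := hyN
    inv := hw }⟩

end Cfsg.Agent.Small.OrderFiveHundredFour
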