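import Cfsg.Agent.Lib.Small.OrderSearch
import Cfsg.Agent.Lib.Small.CosetCount
import Cfsg.Agent.S0144
import Cfsg.Agent.S0985
import Cfsg.Agent.S0992

/-!
# Certified elimination of the orders of simple groups in a range
-/

set_option autoImplicit false

namespace Cfsg.Agent.Small.OrderRange

open Cfsg Cfsg.Agent.Lead.BlockDeg Cfsg.Agent.Small.DegreeSearch
open scoped Pointwise

/-- Trial division up to the square root. -/
def primeB (p : ℕ) : Bool :=
  decide (2 ≤ p) && (List.range (root p + 1)).all fun k => decide (k < 2 ∨ p ≤ k ∨ p % k ≠ 0)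

theorem prime_of_primeB {p : ℕ} (h : primeB p = true) : p.Prime := by
  simp only [primeB, Bool.and_eq_true, decide_eq_true_eq, List.all_eq_true, List.mem_range] at h
  obtain ⟨h2, h⟩ := h
  refine Nat.prime_def_le_sqrt.mpr ⟨h2, fun k hk hks hdvd => ?_⟩
  have hk2 : k * k ≤ p := Nat.le_sqrt.mp hks
  have hkr : k < root p + 1 := by
    by_contra hlt
    have h3 := Nat.mul_le_mul (not_lt.mp hlt) (not_lt.mp hlt)
    exact absurd (lt_root_sq p) (not_lt.mpr (h3.trans hk2))
  rcases h k hkr with h4 | h4 | h4
  · omega
  · have := Nat.mul_le_mul_left k hk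
    omega
  · exact h4 (Nat.mod_eq_zero_of_dvd hdvd)

/-- No embedding into the alternating group of degree `n`. -/
def hall (n N : ℕ) : Bool := decide (n < 40) && decide ((n.factorial / 2) % N ≠ 0)

/-- The possible numbers of Sylow subgroups. -/
def sylowNums (p m : ℕ) : List ℕ := (divs m).filter fun n => decide (n % p = 1 ∧ n ≠ 1)

/-- One Sylow number is impossible: no embedding, or Burnside's transfer applies. -/
def easyNum (N p a n : ℕ) : Bool := hall n N || decide (a ≤ 2 ∧ n * p ^ a = N)

/-- A reason why no non-abelian simple group has the given order. -/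
inductive Cert
  | keep
  | prime
  | two
  | burn (p a q b : ℕ)
  | sylow (p a : ℕ)
  | inter (p a : ℕ)
  | deg (p : ℕ)

/-- The data of a Sylow subgroup. -/
def sylowOK (N p a : ℕ) : Bool :=
  primeB p && decide (1 ≤ a ∧ N % p ^ a = 0 ∧ (N / p ^ a) % p ≠ 0 ∧ 1 < N / p ^ a)

/-- Checking one certificate. -/
def check (keep : List ℕ) (N : ℕ) : Cert → Bool
  | .keep => keep.contains N
  | .prime => primeB N
  | .two => decide (N % 4 = 2)
  | .burn p a q b => primeB p && primeB q && decide (p ^ a * q ^ b = N)
  | .sylow p a => sylowOK N p a && (sylowNums p (N / p ^ a)).all fun n => easyNum N p a n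
  | .inter p a => sylowOK N p a && decide (2 ≤ a) &&
      (sylowNums p (N / p ^ a)).all fun n => easyNum N p a n ||
        (decide (n % (p * p) ≠ 1) && (divs (N / p ^ a)).all fun k =>
          !((divs k).any fun d => decide (d % p = 1 ∧ d ≠ 1)) ||
            decide (k = N / p ^ a) || hall (N / p ^ a / k) N)
  | .deg p => sylowOK N p 1 && decide (2 < p) &&
      (sylowNums p (N / p)).all fun n => hall n N ||
        (List.range p).all fun e =>
          if e ≠ 1 ∧ (p - 1) % e = 0 ∧ (N / p) % (n * e) = 0 then
            (if (N / p) % 2 = 0 then OrderSearch.checkPair p (N / p) n e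
              else DegreeSearch.check (p * (N / p)) p n e) else true

/-- Checking consecutive certificates. -/
def checkList (keep : List ℕ) : ℕ → List Cert → Bool
  | _, [] => true
  | N, c :: cs => check keep N c && checkList keep (N + 1) cs

theorem checkList_sound (keep : List ℕ) : ∀ (l : List Cert) (lo N : ℕ),
    checkList keep lo l = true → lo ≤ N → N < lo + l.length → ∃ c, check keep N c = true := by
  intro l
  induction l with
  | nil => intro lo N _ h1 h2; simp at h2; omega
  | cons c cs ih =>
    intro lo N h h1 h2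
    rw [checkList, Bool.and_eq_true] at h
    rcases eq_or_lt_of_le h1 with rfl | h1
    · exact ⟨c, h.1⟩
    · exact ih (lo + 1) N h.2 h1 (by simp at h2; omega)

universe u

variable {G : Type u} [Group G] [Fintype G]

theorem hall_false [IsSimpleGroup G] (hna : ¬ IsMulCommutative G) {N n : ℕ} (hG : Nat.card G = N)
    (H : Subgroup G) (hH : H ≠ ⊤) (hidx : H.index = n) (h : hall n N = true) : False := by
  simp only [hall, Bool.and_eq_true, decide_eq_true_eq] at h
  obtain ⟨f, hf⟩ := Small.CosetCount.embed_alternating hna H hH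
  have h1 := Subgroup.card_dvd_of_injective f hf
  have h2 : 2 ≤ H.index := by
    have h3 : H.index ≠ 1 := fun e => hH (Subgroup.index_eq_one.mp e)
    have h4 : H.index ≠ 0 := Subgroup.index_ne_zero_of_finite
    omega
  haveI : Nontrivial (Fin H.index) := Fin.nontrivial_iff_two_le.mpr h2
  rw [nat_card_alternatingGroup, Nat.card_fin, hidx, hG] at h1
  exact h.2 (Nat.mod_eq_zero_of_dvd h1)

theorem normalizer_ne_top [IsSimpleGroup G] {p : ℕ} [Fact p.Prime] (P : Sylow p G)
    (hn : Nat.card (Sylow p G) ≠ 1) : Subgroup.normalizer ((P : Subgroup G) : Set G) ≠ ⊤ :=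
  fun h => hn (by
    have hidx : (Subgroup.normalizer ((P : Subgroup G) : Set G)).index = Nat.card (Sylow p G) :=
      (Sylow.card_eq_index_normalizer P).symm
    rw [← hidx, h, Subgroup.index_top])

theorem easy_false [IsSimpleGroup G] (hna : ¬ IsMulCommutative G) {N p a m : ℕ} [Fact p.Prime]
    (hG : Nat.card G = N) (hN : N = p ^ a * m) (ha : 1 ≤ a) (hm : ¬ p ∣ m) (hm1 : 1 < m)
    (hn : Nat.card (Sylow p G) ≠ 1) (h : easyNum N p a (Nat.card (Sylow p G)) = true) : False := by
  obtain ⟨P⟩ := (inferInstance : Nonempty (Sylow p G))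
  simp only [easyNum, Bool.or_eq_true, decide_eq_true_eq] at h
  rcases h with h | ⟨ha2, h⟩
  · exact hall_false hna hG _ (normalizer_ne_top P hn)
      (Sylow.card_eq_index_normalizer P).symm h
  · have hP : Nat.card P = p ^ a := Small.SmallOrders.sylow_card_eq (hG.trans hN) hm P
    have hNc : Nat.card (Sylow p G) * Nat.card (Subgroup.normalizer ((P : Subgroup G) : Set G)) =
        Nat.card G := Small.SmallOrders.card_normalizer P
    rw [hG, ← h] at hNc
    have hNP := Nat.eq_of_mul_eq_mul_left Nat.card_pos hNc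
    have heq : (P : Subgroup G) = Subgroup.normalizer ((P : Subgroup G) : Set G) :=
      Subgroup.eq_of_le_of_card_ge Subgroup.le_normalizer
        (le_of_eq (hNP.trans hP.symm))
    have hcomm : ∀ x y : ↥(P : Subgroup G), x * y = y * x := by
      intro x y
      obtain rfl | rfl : a = 1 ∨ a = 2 := by omega
      · haveI : IsCyclic ↥(P : Subgroup G) := isCyclic_of_prime_card
          (hP.trans (pow_one p) : Nat.card (P : Subgroup G) = p)
        exact IsCyclic.commutative.is_comm.comm x y
      · exact (IsPGroup.isMulCommutative_of_card_eq_prime_sq (p := p)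
          (G := ↥(P : Subgroup G)) hP).is_comm.comm x y
    refine Small.SmallOrders.false_of_central P
      (lt_of_lt_of_eq (Nat.one_lt_pow (by omega) (Fact.out : p.Prime).one_lt) hP.symm) ?_
      (fun g hg => ?_)
    · rw [hP, hG, hN]
      exact lt_mul_of_one_lt_right (pow_pos (Fact.out : p.Prime).pos _) hm1
    · rw [Subgroup.mem_centralizer_iff]
      intro z hz
      exact congrArg Subtype.val (hcomm ⟨z, hz⟩ ⟨g, heq ▸ hg⟩)

theorem mem_keep_of_check [IsSimpleGroup G] (hna : ¬ IsMulCommutative G) {N : ℕ}
    (hG : Nat.card G = N) (keep : List ℕ) (c : Cert) (h : check keep N c = true) : N ∈ keep := by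
  classical
  cases c with
  | keep => simpa [check] using h
  | prime =>
    exfalso
    haveI : Fact N.Prime := ⟨prime_of_primeB h⟩
    haveI : IsCyclic G := isCyclic_of_prime_card hG
    exact hna IsCyclic.commutative
  | two =>
    exfalso
    simp only [check, decide_eq_true_eq] at h
    obtain ⟨T⟩ := (inferInstance : Nonempty (Sylow 2 G))
    obtain ⟨hK, -⟩ := Cfsg.Agent.S0992.result hna (by rw [hG, Nat.even_iff]; omega)
      (by rw [hG]; omega) T
    have h4 : Nat.card (T : Subgroup G) = 4 := hK.card_four
    have h5 := Subgroup.card_subgroup_dvd_card (T : Subgroup G)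
    rw [h4, hG] at h5
    omega
  | burn p a q b =>
    exfalso
    simp only [check, Bool.and_eq_true, decide_eq_true_eq] at h
    obtain ⟨⟨hp, hq⟩, hN⟩ := h
    have hs := Cfsg.Agent.S0144.result (G := G) p q a b (prime_of_primeB hp) (prime_of_primeB hq)
      (hG.trans hN.symm)
    exact hna ⟨⟨fun x y => IsSimpleGroup.comm_iff_isSolvable.mpr hs x y⟩⟩
  | sylow p a =>
    exfalso
    simp only [check, sylowOK, Bool.and_eq_true, decide_eq_true_eq, List.all_eq_true] at h
    obtain ⟨⟨hp, ha, hdiv, hmp, hm1⟩, hall⟩ := h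
    haveI : Fact p.Prime := ⟨prime_of_primeB hp⟩
    have hN : N = p ^ a * (N / p ^ a) := (Nat.mul_div_cancel' (Nat.dvd_of_mod_eq_zero hdiv)).symm
    have hm : ¬ p ∣ N / p ^ a := fun h' => hmp (Nat.mod_eq_zero_of_dvd h')
    obtain ⟨P⟩ := (inferInstance : Nonempty (Sylow p G))
    obtain ⟨n1, n2, n3⟩ := Small.SmallOrders.sylow_number (k := a) P
      (Small.SmallOrders.sylow_card_eq (hG.trans hN) hm P) ha (hG.trans hN) hm1
    exact easy_false hna hG hN ha hm hm1 n3 (hall _ (by
      simp only [sylowNums, List.mem_filter, decide_eq_true_eq]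
      exact ⟨mem_divs (by omega) n1, n2, n3⟩))
  | inter p a =>
    exfalso
    simp only [check, sylowOK, Bool.and_eq_true, decide_eq_true_eq, List.all_eq_true] at h
    obtain ⟨⟨⟨hp, ha, hdiv, hmp, hm1⟩, ha2⟩, hall⟩ := h
    haveI : Fact p.Prime := ⟨prime_of_primeB hp⟩
    have hp' : p.Prime := Fact.out
    set m := N / p ^ a with hmdef
    have hN : N = p ^ a * m := (Nat.mul_div_cancel' (Nat.dvd_of_mod_eq_zero hdiv)).symm
    have hm : ¬ p ∣ m := fun h' => hmp (Nat.mod_eq_zero_of_dvd h')
    obtain ⟨P₀⟩ := (inferInstance : Nonempty (Sylow p G))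
    obtain ⟨n1, n2, n3⟩ := Small.SmallOrders.sylow_number (k := a) P₀
      (Small.SmallOrders.sylow_card_eq (hG.trans hN) hm P₀) ha (hG.trans hN) hm1
    have h1 := hall _ (by
      simp only [sylowNums, List.mem_filter, decide_eq_true_eq]
      exact ⟨mem_divs (by omega) n1, n2, n3⟩)
    rw [Bool.or_eq_true] at h1
    rcases h1 with h1 | h1
    · exact easy_false hna hG hN ha hm hm1 n3 h1
    simp only [Bool.and_eq_true, decide_eq_true_eq, List.all_eq_true] at h1
    obtain ⟨hmod, hk⟩ := h1
    obtain ⟨P, R, hne, hidx⟩ := Cfsg.Agent.S0985.result (G := G) p 2 (fun h' => hmod (by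
      rw [Nat.ModEq, pow_two, Nat.one_mod_eq_one.mpr] at h'
      · exact h'
      · have := Nat.mul_le_mul hp'.two_le hp'.two_le
        omega))
    rw [show 2 - 1 = 1 from rfl, pow_one] at hidx
    have hPc : ∀ S : Sylow p G, Nat.card (S : Subgroup G) = p ^ a :=
      fun S => Small.SmallOrders.sylow_card_eq (hG.trans hN) hm S
    set D : Subgroup G := (P : Subgroup G) ⊓ (R : Subgroup G)
    have hDidx : D.relIndex (P : Subgroup G) = p := by
      have h2 : D.relIndex (P : Subgroup G) = (R : Subgroup G).relIndex (P : Subgroup G) :=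
        Subgroup.inf_relIndex_left _ _
      rw [h2]
      obtain ⟨i, hi, hi2⟩ := (Nat.dvd_prime_pow hp').mp
        (hPc P ▸ Subgroup.relIndex_dvd_card (R : Subgroup G) (P : Subgroup G))
      change (R : Subgroup G).relIndex (P : Subgroup G) ≤ p at hidx
      rw [hi2] at hidx ⊢
      rcases i with _ | _ | i
      · exfalso
        rw [pow_zero, Subgroup.relIndex_eq_one] at hi2
        exact hne (Sylow.ext (P.is_maximal' R.isPGroup' hi2).symm)
      · rw [pow_one]
      · exfalso
        have : p ^ 2 ≤ p ^ (i + 2) := Nat.pow_le_pow_right hp'.pos (by omega)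
        nlinarith [hp'.two_le]
    have hDcard : Nat.card D * p = p ^ a := by
      have h2 := Subgroup.card_mul_index (D.subgroupOf (P : Subgroup G))
      rw [Nat.card_congr (Subgroup.subgroupOfEquivOfLe inf_le_left).toEquiv, hPc P] at h2
      rw [← h2]
      congr 1
      exact hDidx.symm
    have hle : ∀ S : Sylow p G, D ≤ (S : Subgroup G) →
        (S : Subgroup G) ≤ Subgroup.normalizer (D : Set G) := by
      intro S hDS
      rw [← Subgroup.normal_subgroupOf_iff_le_normalizer hDS]
      refine Subgroup.normal_of_index_eq_minFac_card ?_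
      have h2 := Subgroup.card_mul_index (D.subgroupOf (S : Subgroup G))
      rw [Nat.card_congr (Subgroup.subgroupOfEquivOfLe hDS).toEquiv, hPc S, ← hDcard] at h2
      rw [Nat.eq_of_mul_eq_mul_left Nat.card_pos h2, hPc S, hp'.pow_minFac (by omega)]
    set H := Subgroup.normalizer (D : Set G)
    have hPH : (P : Subgroup G) ≤ H := hle P inf_le_left
    have hRH : (R : Subgroup G) ≤ H := hle R inf_le_right
    have hHne : H ≠ ⊤ := by
      intro h'
      have : D.Normal := Subgroup.normalizer_eq_top_iff.mp h'
      rcases IsSimpleGroup.eq_bot_or_eq_top_of_normal D this with hb | hb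
      · rw [hb, Subgroup.card_bot, one_mul] at hDcard
        have := Nat.pow_right_injective hp'.two_le ((pow_one p).trans hDcard)
        omega
      · have h3 : (P : Subgroup G) = ⊤ := top_le_iff.mp (hb ▸ inf_le_left)
        have h4 := hPc P
        rw [h3, Subgroup.card_top, hG] at h4
        rw [h4] at hN
        have h5 : p ^ a * 1 = p ^ a * m := by rwa [mul_one]
        have := Nat.eq_of_mul_eq_mul_left (pow_pos hp'.pos _) h5
        omega
    have hHc : ∃ k, Nat.card H = p ^ a * k := by
      have := Subgroup.card_dvd_of_le hPH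
      rw [hPc P] at this
      obtain ⟨k, hk'⟩ := this
      exact ⟨k, hk'⟩
    obtain ⟨k, hkc⟩ := hHc
    have hHdvd : k ∣ m := by
      have h2 := Subgroup.card_subgroup_dvd_card H
      rw [hkc, hG, hN] at h2
      exact Nat.dvd_of_mul_dvd_mul_left (pow_pos hp'.pos _) h2
    have hHidx : H.index = m / k := by
      have h2 := Subgroup.card_mul_index H
      rw [hkc, hG, hN, mul_assoc] at h2
      have h3 := Nat.eq_of_mul_eq_mul_left (pow_pos hp'.pos _) h2
      have hk0 : k ≠ 0 := by
        rintro rfl
        rw [mul_zero] at hkc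
        exact Nat.card_pos.ne' hkc
      rw [← h3, Nat.mul_div_cancel_left _ (Nat.pos_of_ne_zero hk0)]
    have h2 := hk k (mem_divs (by omega) hHdvd)
    simp only [Bool.or_eq_true, Bool.not_eq_true', List.any_eq_false, decide_eq_true_eq] at h2
    rcases h2 with (h2 | h2) | h2
    · -- `H` has several Sylow subgroups
      set PH : Sylow p H := P.subtype hPH
      set RH : Sylow p H := R.subtype hRH
      have hn2 : Nat.card (Sylow p H) ∣ k := by
        have h4 := PH.card_dvd_index
        have h5 := (PH : Subgroup H).card_mul_index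
        rw [Sylow.coe_subtype, Nat.card_congr (Subgroup.subgroupOfEquivOfLe hPH).toEquiv, hPc P,
          hkc] at h5
        rw [Sylow.coe_subtype] at h4
        rwa [Nat.eq_of_mul_eq_mul_left (pow_pos hp'.pos _) h5] at h4
      have hn3 : Nat.card (Sylow p H) ≠ 1 := by
        intro h'
        haveI : Subsingleton (Sylow p H) := (Nat.card_eq_one_iff_unique.mp h').1
        exact hne (Sylow.subtype_injective (Subsingleton.elim PH RH))
      have hn4 : Nat.card (Sylow p H) % p = 1 :=
        Eq.trans (card_sylow_modEq_one p H) (Nat.mod_eq_of_lt hp'.one_lt)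
      have hk0 : k ≠ 0 := fun e => by rw [e, mul_zero] at hkc; exact Nat.card_pos.ne' hkc
      exact h2 _ (mem_divs hk0 hn2) ⟨hn4, hn3⟩
    · exact hHne (Subgroup.eq_top_of_card_eq _ (by rw [hkc, hG, hN, h2]))
    · exact hall_false hna hG H hHne hHidx h2
  | deg p =>
    exfalso
    simp only [check, sylowOK, Bool.and_eq_true, decide_eq_true_eq, List.all_eq_true,
      pow_one] at h
    obtain ⟨⟨⟨hp, -, hdiv, hmp, hm1⟩, hp2⟩, hall⟩ := h
    haveI : Fact p.Prime := ⟨prime_of_primeB hp⟩
    set m := N / p with hmdef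
    have hN : N = p * m := (Nat.mul_div_cancel' (Nat.dvd_of_mod_eq_zero hdiv)).symm
    have hm : ¬ p ∣ m := fun h' => hmp (Nat.mod_eq_zero_of_dvd h')
    obtain ⟨P, e, hP, ⟨hn1, hn2, hn3⟩, he, he1, he2, he3⟩ := sylow_data (hG.trans hN) hm hm1
    set n := Nat.card (Sylow p G) with hn
    have h1 := hall n (by
      simp only [sylowNums, List.mem_filter, decide_eq_true_eq]
      exact ⟨mem_divs (by omega) hn1, hn2, hn3⟩)
    rw [Bool.or_eq_true] at h1
    rcases h1 with h1 | h1
    · exact hall_false hna hG _ (normalizer_ne_top P hn3)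
        (Sylow.card_eq_index_normalizer P).symm h1
    rw [List.all_eq_true] at h1
    have hele := Nat.le_of_dvd (by omega : 0 < p - 1) he1
    have h3 := h1 e (List.mem_range.mpr (by omega))
    rw [if_pos ⟨he2, Nat.mod_eq_zero_of_dvd he1, Nat.mod_eq_zero_of_dvd he3⟩] at h3
    split_ifs at h3 with h2
    · exact OrderSearch.false_of_checkPair hna hp2 P hP he he1 he2 (hG.trans hN)
        (Nat.dvd_of_mod_eq_zero h2) hm1 rfl h3
    · exact DegreeSearch.false_of_check hna hp2 P hP he he1 he2 (hG.trans hN) rfl h3

/-- The main consequence of a checked table. -/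
theorem mem_keep [IsSimpleGroup G] (hna : ¬ IsMulCommutative G) (keep : List ℕ) (lo : ℕ)
    (l : List Cert) (hl : checkList keep lo l = true) (h1 : lo ≤ Nat.card G)
    (h2 : Nat.card G < lo + l.length) : Nat.card G ∈ keep := by
  obtain ⟨c, hc⟩ := checkList_sound keep l lo _ hl h1 h2
  exact mem_keep_of_check hna rfl keep c hc

end Cfsg.Agent.Small.OrderRange
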