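import Cfsg.Agent.Lib.Small.InvolutionSearch

/-!
# Orders without simple groups: combined decision procedure
-/

set_option autoImplicit false

namespace Cfsg.Agent.Small.OrderSearch

open Cfsg Cfsg.Agent.Char Cfsg.Agent.Lead.BlockDeg

/-- The candidates for the sizes of classes of involutions. -/
def classSizes (N p : ℕ) : List ℕ :=
  (DegreeSearch.divs N).filter fun K => decide (K % 2 = 1 ∧ K % p = 0)

/-- One pair of the number of Sylow subgroups and the automiser fails. -/
def checkPair (p m n e : ℕ) : Bool :=
  if n * e = m then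
    DegreeSearch.check (p * m) p n e ||
      InvolutionSearch.check (p * m) p e (classSizes (p * m) p)
  else DegreeSearch.check (p * m) p n e

theorem mem_classSizes {N p K : ℕ} (hN : 0 < N) (h1 : K ∣ N) (h2 : ¬ 2 ∣ K) (h3 : p ∣ K) :
    K ∈ classSizes N p := by
  simp only [classSizes, List.mem_filter, decide_eq_true_eq]
  exact ⟨DegreeSearch.mem_divs hN.ne' h1, by omega, Nat.mod_eq_zero_of_dvd h3⟩

universe u

variable {G : Type u} [Group G] [Fintype G]

/-- A checked pair is impossible. -/
theorem false_of_checkPair [IsSimpleGroup G] (hna : ¬ IsMulCommutative G) {p m : ℕ} [Fact p.Prime]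
    (hp2 : 2 < p) (P : Sylow p G) (hP : Nat.card P = p) {e : ℕ}
    (he : (Subgroup.centralizer ((P : Subgroup G) : Set G)).relIndex
      (Subgroup.normalizer ((P : Subgroup G) : Set G)) = e) (he1 : e ∣ p - 1) (he2 : e ≠ 1)
    (hG : Nat.card G = p * m) (hm2 : 2 ∣ m) (hm1 : 1 < m) {n : ℕ}
    (hn : Nat.card (Sylow p G) = n) (h2 : checkPair p m n e = true) : False := by
  have hp : p.Prime := Fact.out
  unfold checkPair at h2
  split_ifs at h2 with hne
  · rw [Bool.or_eq_true] at h2
    rcases h2 with h2 | h2
    · exact DegreeSearch.false_of_check hna hp2 P hP he he1 he2 hG hn h2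
    · refine InvolutionSearch.false_of_check hna hp2 P hP he he1 ?_ hG
        (hm2.trans (Dvd.intro_left p rfl)) _
        (fun K => mem_classSizes (Nat.mul_pos hp.pos (by omega))) h2
      set C := Subgroup.centralizer ((P : Subgroup G) : Set G)
      have hPC : (P : Subgroup G) ≤ C := by
        intro g hg
        rw [Subgroup.mem_centralizer_iff]
        intro b hb
        haveI : IsCyclic ↥(P : Subgroup G) := isCyclic_of_prime_card hP
        exact congrArg Subtype.val (IsCyclic.commutative.is_comm.comm
          (⟨b, hb⟩ : ↥(P : Subgroup G)) ⟨g, hg⟩)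
      have hCN : n * (Nat.card C * e) = p * m := by
        rw [← he, ← hn, ← hG, ← Small.SmallOrders.card_normalizer P, Subgroup.relIndex,
          ← Subgroup.card_mul_index (C.subgroupOf (Subgroup.normalizer ((P : Subgroup G) : Set G))),
          Nat.card_congr
            (Subgroup.subgroupOfEquivOfLe (Subgroup.centralizer_le_normalizer _)).toEquiv]
      refine (Subgroup.eq_of_le_of_card_ge hPC (le_of_eq ?_)).symm
      rw [show Nat.card (P : Subgroup G) = p from hP]
      have h3 : m * Nat.card C = m * p := by
        rw [mul_comm m p, ← hCN, ← hne]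
        ring
      exact Nat.eq_of_mul_eq_mul_left (by omega) h3
  · exact DegreeSearch.false_of_check hna hp2 P hP he he1 he2 hG hn h2


/-- No simple group of order `p * m`, if every possible pair `(n, e)` fails. -/
theorem card_ne [IsSimpleGroup G] {p m : ℕ} (hp : p.Prime) (hp2 : 2 < p) (hm : ¬ p ∣ m)
    (hm2 : 2 ∣ m) (hm1 : 1 < m)
    (hall : ∀ n ∈ (DegreeSearch.divs m).filter (fun n => decide (n % p = 1 ∧ n ≠ 1)),
      (if n < 14 ∧ n.factorial % (p * m) ≠ 0 then true else
        (List.range p).all fun e =>
          if e ≠ 1 ∧ (p - 1) % e = 0 ∧ m % (n * e) = 0 then checkPair p m n e else true) = true) :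
    Nat.card G ≠ p * m := by
  intro hG
  haveI := Fact.mk hp
  obtain ⟨P, e, hP, ⟨hn1, hn2, hn3⟩, he, he1, he2, he3⟩ := sylow_data hG hm hm1
  have hna := not_comm hp hG hm1
  set n := Nat.card (Sylow p G) with hn
  have hnle := Nat.le_of_dvd (by omega) hn1
  have h1 := hall n (by
    simp only [List.mem_filter, decide_eq_true_eq]
    exact ⟨DegreeSearch.mem_divs (by omega) hn1, hn2, hn3⟩)
  have hidx : (Subgroup.normalizer ((P : Subgroup G) : Set G)).index = n :=
    (Sylow.card_eq_index_normalizer P).symm
  split_ifs at h1 with hsmall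
  · refine hsmall.2 (Nat.mod_eq_zero_of_dvd ?_)
    have hne : Subgroup.normalizer ((P : Subgroup G) : Set G) ≠ ⊤ := fun h => hn3 (by
      rw [← hidx, h, Subgroup.index_top])
    have h2 := Small.SmallOrders.card_dvd_index_factorial _ hne
    rwa [hidx, hG] at h2
  rw [List.all_eq_true] at h1
  have hele := Nat.le_of_dvd (by omega : 0 < p - 1) he1
  have h2 := h1 e (List.mem_range.mpr (by omega))
  rw [if_pos ⟨he2, Nat.mod_eq_zero_of_dvd he1, Nat.mod_eq_zero_of_dvd he3⟩] at h2
  exact false_of_checkPair hna hp2 P hP he he1 he2 hG hm2 hm1 hn.symm h2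

end Cfsg.Agent.Small.OrderSearch
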