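import Cfsg.Agent.Lib.Classical.OrthReflect
import Cfsg.Agent.Lib.Classical.WittIndex
import Mathlib.GroupTheory.PGroup
import Mathlib.Algebra.CharP.Lemmas
import Mathlib.Algebra.CharP.Two

/-!
# Two flag stabilisers in an orthogonal group over the field of two elements meet non-trivially
-/

set_option autoImplicit false
set_option linter.unusedSectionVars false

namespace Cfsg.Agent.Small.OrthFlagMeet

open QuadraticMap Module
open Cfsg.Agent.Classical.ORefl
open Cfsg.Agent.Classical.OCount
open scoped Pointwise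

variable {F : Type*} [Field F] {V : Type*} [AddCommGroup V] [Module F V] {Q : QuadraticForm F V}

/-- A chain of totally singular subspaces of dimensions `0, ..., k`. -/
structure IsFlag (Q : QuadraticForm F V) (W : Submodule F V) (k : ℕ) (A : ℕ → Submodule F V) : Prop where
  le : ∀ j, j ≤ k → A j ≤ W
  sing : ∀ j, j ≤ k → ∀ x ∈ A j, Q x = 0
  mono : ∀ j, j < k → A j ≤ A (j + 1)
  dim : ∀ j, j ≤ k → finrank F (A j) = j

theorem polar_sing {S : Submodule F V} (h : ∀ x ∈ S, Q x = 0) {x y : V} (hx : x ∈ S) (hy : y ∈ S) :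
    polar Q x y = 0 := by
  simp [polar, h _ (S.add_mem hx hy), h x hx, h y hy]

theorem IsFlag.mono' {W : Submodule F V} {k : ℕ} {A : ℕ → Submodule F V} (h : IsFlag Q W k A) {i j : ℕ}
    (hij : i ≤ j) (hj : j ≤ k) : A i ≤ A j := by
  induction j, hij using Nat.le_induction with
  | base => exact le_rfl
  | succ j hij ih => exact (ih (by omega)).trans (h.mono j (by omega))

theorem IsFlag.exists_line [FiniteDimensional F V] {W : Submodule F V} {k : ℕ} {A : ℕ → Submodule F V}
    (h : IsFlag Q W k A) (hk : 1 ≤ k) : ∃ e, e ≠ 0 ∧ e ∈ A 1 ∧ A 1 = Submodule.span F {e} := by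
  have hne : A 1 ≠ ⊥ := fun e => by
    have := h.dim 1 hk; rw [e, finrank_bot] at this; omega
  obtain ⟨e, he, he0⟩ := Submodule.exists_mem_ne_zero_of_ne_bot hne
  refine ⟨e, he0, he, (Submodule.eq_of_le_of_finrank_eq ((Submodule.span_singleton_le_iff_mem _ _).2 he) ?_).symm⟩
  rw [finrank_span_singleton he0, h.dim 1 hk]

/-- The subgroup fixing the members of a family of subspaces, as sets. -/
def flagStab (Q : QuadraticForm F V) [FiniteDimensional F V] (k : ℕ) (A : ℕ → Submodule F V) :
    Subgroup (V ≃ₗ[F] V) where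
  carrier := {g | g ∈ Iso Q ∧ ∀ j, j ≤ k → (A j).map (g : V →ₗ[F] V) = A j}
  one_mem' := ⟨one_mem _, fun j _ => Submodule.map_id _⟩
  mul_mem' := by
    rintro g h ⟨hg, hg'⟩ ⟨hh, hh'⟩
    refine ⟨mul_mem hg hh, fun j hj => ?_⟩
    rw [show ((g * h : V ≃ₗ[F] V) : V →ₗ[F] V) = (g : V →ₗ[F] V).comp (h : V →ₗ[F] V) from rfl,
      Submodule.map_comp, hh' j hj, hg' j hj]
  inv_mem' := by
    rintro g ⟨hg, hg'⟩
    refine ⟨inv_mem hg, fun j hj => ?_⟩
    conv_lhs => rw [← hg' j hj, ← Submodule.map_comp]
    rw [show ((g⁻¹ : V ≃ₗ[F] V) : V →ₗ[F] V).comp (g : V →ₗ[F] V) = LinearMap.id from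
      LinearMap.ext fun x => g.symm_apply_apply x, Submodule.map_id]

theorem mem_flagStab [FiniteDimensional F V] {k : ℕ} {A : ℕ → Submodule F V} {g : V ≃ₗ[F] V} (hg : g ∈ Iso Q)
    (h : ∀ j, j ≤ k → ∀ x ∈ A j, g x ∈ A j) : g ∈ flagStab Q k A := by
  refine ⟨hg, fun j hj => Submodule.eq_of_le_of_finrank_eq ?_ (LinearEquiv.finrank_map_eq g (A j))⟩
  rintro _ ⟨x, hx, rfl⟩
  exact h j hj x hx

theorem apply_mem [FiniteDimensional F V] {k : ℕ} {A : ℕ → Submodule F V} {g : V ≃ₗ[F] V}
    (hg : g ∈ flagStab Q k A) {j : ℕ} (hj : j ≤ k) {x : V} (hx : x ∈ A j) : g x ∈ A j := by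
  rw [← hg.2 j hj]
  exact Submodule.mem_map_of_mem hx

/-- Both flag stabilisers contain a common non-trivial element fixing the orthogonal of the ambient subspace. -/
theorem exists_common [FiniteDimensional F V] (hQ : PND Q) (h01 : ∀ a : F, a = 0 ∨ a = 1) :
    ∀ (k : ℕ) (W : Submodule F V), (∀ w ∈ W, (∀ w' ∈ W, polar Q w w' = 0) → w = 0) → finrank F W = 2 * (k + 1) →
      ∀ A B : ℕ → Submodule F V, IsFlag Q W k A → IsFlag Q W k B →
        ∃ g : V ≃ₗ[F] V, g ≠ 1 ∧ g ∈ flagStab Q k A ∧ g ∈ flagStab Q k B ∧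
          ∀ x, (∀ w ∈ W, polar Q w x = 0) → g x = x := by
  intro k
  induction k with
  | zero =>
    intro W hW hdim A B hA hB
    obtain ⟨v, hvW, hv⟩ : ∃ v ∈ W, Q v ≠ 0 := by
      by_contra h
      push Not at h
      have : W = ⊥ := (Submodule.eq_bot_iff _).2 fun w hw => hW w hw fun w' hw' => polar_sing h hw hw'
      rw [this, finrank_bot] at hdim
      omega
    have hbot : ∀ (C : ℕ → Submodule F V), IsFlag Q W 0 C → refl Q v ∈ flagStab Q 0 C := fun C hC =>
      mem_flagStab (refl_mem v) fun j hj x hx => by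
        have : x = 0 := by
          have h0 := hC.dim 0 le_rfl
          rw [Nat.le_zero.1 hj, (Submodule.finrank_eq_zero.1 h0), Submodule.mem_bot] at hx
          exact hx
        rw [this, map_zero]; exact zero_mem _
    refine ⟨refl Q v, fun h => ?_, hbot A hA, hbot B hB, fun x hx => refl_fix (hx v hvW)⟩
    obtain ⟨w, -, hw⟩ : ∃ w ∈ W, polar Q v w ≠ 0 := by
      by_contra h
      push Not at h
      exact hv (by rw [hW v hvW h, QuadraticMap.map_zero])
    have := DFunLike.congr_fun h w
    rw [refl_apply, LinearEquiv.coe_one, id, sub_eq_self, smul_eq_zero, mul_eq_zero, inv_eq_zero] at this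
    exact this.elim (fun h => h.elim hv hw) fun h0 => hv (by rw [h0, QuadraticMap.map_zero])
  | succ k ih =>
    intro W hW hdim A B hA hB
    obtain ⟨e, he0, heA, hA1⟩ := hA.exists_line (by omega)
    obtain ⟨f, hf0, hfB, hB1⟩ := hB.exists_line (by omega)
    have heW : e ∈ W := hA.le 1 (by omega) heA
    have hfW : f ∈ W := hB.le 1 (by omega) hfB
    have he : Q e = 0 := hA.sing 1 (by omega) e heA
    have hf : Q f = 0 := hB.sing 1 (by omega) f hfB
    have hAj : ∀ j, 1 ≤ j → j ≤ k + 1 → e ∈ A j := fun j h1 h2 => hA.mono' h1 h2 heA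
    have hBj : ∀ j, 1 ≤ j → j ≤ k + 1 → f ∈ B j := fun j h1 h2 => hB.mono' h1 h2 hfB
    have hAz : ∀ j, j ≤ k + 1 → ∀ x ∈ A j, polar Q e x = 0 := fun j hj x hx => by
      rcases Nat.eq_zero_or_pos j with rfl | hj0
      · rw [Submodule.finrank_eq_zero.1 (hA.dim 0 (by omega)), Submodule.mem_bot] at hx
        rw [hx]; simp [polar]
      · exact polar_sing (hA.sing j hj) (hAj j hj0 hj) hx
    have hBz : ∀ j, j ≤ k + 1 → ∀ x ∈ B j, polar Q f x = 0 := fun j hj x hx => by
      rcases Nat.eq_zero_or_pos j with rfl | hj0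
      · rw [Submodule.finrank_eq_zero.1 (hB.dim 0 (by omega)), Submodule.mem_bot] at hx
        rw [hx]; simp [polar]
      · exact polar_sing (hB.sing j hj) (hBj j hj0 hj) hx
    have hA0 : ∀ x ∈ A 0, x = 0 := fun x hx => by
      rwa [Submodule.finrank_eq_zero.1 (hA.dim 0 (by omega)), Submodule.mem_bot] at hx
    have hB0 : ∀ x ∈ B 0, x = 0 := fun x hx => by
      rwa [Submodule.finrank_eq_zero.1 (hB.dim 0 (by omega)), Submodule.mem_bot] at hx
    by_cases hef : polar Q e f = 0
    · obtain ⟨v, hvW, hev, hve, hcase⟩ : ∃ v ∈ W, polar Q e v = 0 ∧ v ∉ Submodule.span F {e} ∧ (v = f ∨ e = f) := by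
        by_cases h : f ∈ Submodule.span F {e}
        · obtain ⟨c, rfl⟩ := Submodule.mem_span_singleton.1 h
          rcases h01 c with rfl | rfl
          · simp at hf0
          obtain ⟨w, ⟨hwW, hwe⟩, hw⟩ := SetLike.not_le_iff_exists.1 (show
              ¬ W ⊓ LinearMap.ker (Q.polarBilin e) ≤ Submodule.span F {e} from fun hle => by
            have h1 := Submodule.finrank_mono hle
            rw [finrank_span_singleton he0] at h1
            have h2 := LinearMap.finrank_range_add_finrank_ker ((Q.polarBilin e).domRestrict W)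
            have h3 : finrank F (LinearMap.range ((Q.polarBilin e).domRestrict W)) ≤ 1 :=
              (Submodule.finrank_le _).trans_eq (finrank_self F)
            have h4 : finrank F ↥(LinearMap.ker ((Q.polarBilin e).domRestrict W)) ≤
                finrank F ↥(W ⊓ LinearMap.ker (Q.polarBilin e)) := by
              rw [← Submodule.finrank_map_subtype_eq W]
              refine Submodule.finrank_mono ?_
              rintro _ ⟨x, hx, rfl⟩
              exact ⟨x.2, hx⟩
            omega)
          exact ⟨w, hwW, hwe, hw, Or.inr (one_smul F e).symm⟩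
        · exact ⟨f, hfW, hef, h, Or.inl rfl⟩
      refine ⟨siegel he hev, fun h => ?_, mem_flagStab (siegel_mem he hev) fun j hj x hx => ?_,
        mem_flagStab (siegel_mem he hev) fun j hj x hx => ?_, fun x hx => ?_⟩
      · obtain ⟨w, -, hw⟩ : ∃ w ∈ W, polar Q e w ≠ 0 := by
          by_contra h
          push Not at h
          exact he0 (hW e heW h)
        have := DFunLike.congr_fun h w
        rw [siegel_apply, LinearEquiv.coe_one, id, add_sub_assoc, add_eq_left, sub_eq_zero] at this
        refine hve (Submodule.mem_span_singleton.2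
          ⟨(polar Q e w)⁻¹ * (polar Q v w + Q v * polar Q e w), ?_⟩)
        rw [mul_smul, ← this, smul_smul, inv_mul_cancel₀ hw, one_smul]
      · rw [siegel_apply, hAz j hj x hx, zero_smul, add_zero]
        rcases Nat.eq_zero_or_pos j with rfl | hj0
        · rw [hA0 x hx]; simp [polar]
        · exact Submodule.sub_mem _ hx (Submodule.smul_mem _ _ (hAj j hj0 hj))
      · rcases Nat.eq_zero_or_pos j with rfl | hj0
        · rw [hB0 x hx, map_zero]; exact zero_mem _
        rw [siegel_apply]
        rcases hcase with rfl | rfl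
        · rw [hBz j hj x hx, hf, zero_mul, add_zero, zero_smul, sub_zero]
          exact Submodule.add_mem _ hx (Submodule.smul_mem _ _ (hBj j hj0 hj))
        · rw [hBz j hj x hx, zero_smul, add_zero]
          exact Submodule.sub_mem _ hx (Submodule.smul_mem _ _ (hBj j hj0 hj))
      · rw [siegel_apply, hx e heW, hx v hvW]; simp
    · have hef1 : polar Q e f = 1 := (h01 _).resolve_left hef
      have hfe : polar Q f e = 1 := by rw [polar_comm]; exact hef1
      have hee : polar Q e e = 0 := polar_self_zero he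
      have hff : polar Q f f = 0 := polar_self_zero hf
      let W' : Submodule F V := W ⊓ (LinearMap.ker (Q.polarBilin e) ⊓ LinearMap.ker (Q.polarBilin f))
      have hmem : ∀ x, x ∈ W' ↔ x ∈ W ∧ polar Q e x = 0 ∧ polar Q f x = 0 := fun x => by
        simp only [W', Submodule.mem_inf, LinearMap.mem_ker, polarBilin_apply_apply]
      let pr : V → V := fun x => x - polar Q f x • e - polar Q e x • f
      have hpr : ∀ x ∈ W, pr x ∈ W' := fun x hx => by
        refine (hmem _).2 ⟨Submodule.sub_mem _ (Submodule.sub_mem _ hx (W.smul_mem _ heW)) (W.smul_mem _ hfW), ?_, ?_⟩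
        · simp [pr, polar_sub_right, polar_smul_right, hee, hef1]
        · simp [pr, polar_sub_right, polar_smul_right, hff, hfe]
      have hnd : ∀ w ∈ W', (∀ w' ∈ W', polar Q w w' = 0) → w = 0 := fun w hw h => by
        obtain ⟨hwW, hwe, hwf⟩ := (hmem w).1 hw
        refine hW w hwW fun x hx => ?_
        have := h _ (hpr x hx)
        simpa [pr, polar_sub_right, polar_smul_right, polar_comm Q w e, polar_comm Q w f, hwe, hwf] using this
      have hsplit : W = W' ⊔ (Submodule.span F {e} ⊔ Submodule.span F {f}) := by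
        refine le_antisymm (fun x hx => ?_) (sup_le inf_le_left (sup_le
          ((Submodule.span_singleton_le_iff_mem _ _).2 heW) ((Submodule.span_singleton_le_iff_mem _ _).2 hfW)))
        rw [show x = pr x + (polar Q f x • e + polar Q e x • f) by simp [pr]]
        exact Submodule.add_mem_sup (hpr x hx) (Submodule.add_mem_sup
          (Submodule.smul_mem _ _ (Submodule.mem_span_singleton_self e))
          (Submodule.smul_mem _ _ (Submodule.mem_span_singleton_self f)))
      have hdim' : finrank F W' = 2 * (k + 1) := by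
        have hi1 : Submodule.span F {e} ⊓ Submodule.span F {f} = ⊥ := (Submodule.eq_bot_iff _).2 fun x hx => by
          obtain ⟨a, rfl⟩ := Submodule.mem_span_singleton.1 hx.1
          obtain ⟨b, hb⟩ := Submodule.mem_span_singleton.1 hx.2
          have := congrArg (polar Q f) hb
          rw [polar_smul_right, polar_smul_right, hff, hfe] at this
          simp at this
          rw [← this, zero_smul]
        have hi2 : W' ⊓ (Submodule.span F {e} ⊔ Submodule.span F {f}) = ⊥ :=
          (Submodule.eq_bot_iff _).2 fun x hx => by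
            obtain ⟨y, hy, z, hz, hyz⟩ := Submodule.mem_sup.1 hx.2
            obtain ⟨a, rfl⟩ := Submodule.mem_span_singleton.1 hy
            obtain ⟨b, rfl⟩ := Submodule.mem_span_singleton.1 hz
            obtain ⟨-, h1, h2⟩ := (hmem x).1 hx.1
            rw [← hyz, polar_add_right, polar_smul_right, polar_smul_right] at h1 h2
            simp [hee, hef1, hff, hfe] at h1 h2
            rw [← hyz, h1, h2]; simp
        have h1 := Submodule.finrank_sup_add_finrank_inf_eq (Submodule.span F {e}) (Submodule.span F {f})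
        have h2 := Submodule.finrank_sup_add_finrank_inf_eq W' (Submodule.span F {e} ⊔ Submodule.span F {f})
        rw [← hsplit, hi2, finrank_bot, hdim] at h2
        rw [hi1, finrank_bot, finrank_span_singleton he0, finrank_span_singleton hf0] at h1
        omega
      have mk : ∀ (C : ℕ → Submodule F V) (a b : V), IsFlag Q W (k + 1) C → a ∈ C 1 → a ≠ 0 → b ∈ W →
          polar Q b a = 1 → (∀ j, j ≤ k + 1 → ∀ x ∈ C j, polar Q a x = 0) →
          (∀ x, x ∈ W' ↔ x ∈ W ∧ polar Q a x = 0 ∧ polar Q b x = 0) →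
          IsFlag Q W' k (fun j => C (j + 1) ⊓ LinearMap.ker (Q.polarBilin b)) ∧
            ∀ j, 1 ≤ j → j ≤ k + 1 → C j ≤ (C j ⊓ LinearMap.ker (Q.polarBilin b)) ⊔ Submodule.span F {a} := by
        intro C a b hC haC ha0 hbW hba haz hiff
        have hle : ∀ j, 1 ≤ j → j ≤ k + 1 →
            C j = (C j ⊓ LinearMap.ker (Q.polarBilin b)) ⊔ Submodule.span F {a} := fun j h1 h2 => by
          refine le_antisymm (fun x hx => ?_) (sup_le inf_le_left
            ((Submodule.span_singleton_le_iff_mem _ _).2 (hC.mono' h1 h2 haC)))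
          rw [show x = (x - polar Q b x • a) + polar Q b x • a by abel]
          refine Submodule.add_mem_sup ⟨Submodule.sub_mem _ hx (Submodule.smul_mem _ _ (hC.mono' h1 h2 haC)), ?_⟩
            (Submodule.smul_mem _ _ (Submodule.mem_span_singleton_self a))
          rw [SetLike.mem_coe, LinearMap.mem_ker, polarBilin_apply_apply, polar_sub_right, polar_smul_right, hba]
          simp
        refine ⟨⟨fun j hj x hx => (hiff x).2 ⟨hC.le _ (by omega) hx.1, haz _ (by omega) x hx.1, hx.2⟩,
          fun j hj x hx => hC.sing _ (by omega) x hx.1, fun j hj => inf_le_inf_right _ (hC.mono _ (by omega)),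
          fun j hj => ?_⟩, fun j h1 h2 => (hle j h1 h2).le⟩
        have h := Submodule.finrank_sup_add_finrank_inf_eq (C (j + 1) ⊓ LinearMap.ker (Q.polarBilin b))
          (Submodule.span F {a})
        have hbot : (C (j + 1) ⊓ LinearMap.ker (Q.polarBilin b)) ⊓ Submodule.span F {a} = ⊥ := by
          refine (Submodule.eq_bot_iff _).2 fun x hx => ?_
          obtain ⟨c, rfl⟩ := Submodule.mem_span_singleton.1 hx.2
          have := hx.1.2
          rw [SetLike.mem_coe, LinearMap.mem_ker, polarBilin_apply_apply, polar_smul_right, hba, smul_eq_mul,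
            mul_one] at this
          rw [this, zero_smul]
        rw [← hle (j + 1) (by omega) (by omega), hC.dim _ (by omega), finrank_span_singleton ha0, hbot,
          finrank_bot] at h
        show finrank F ↥(C (j + 1) ⊓ LinearMap.ker (Q.polarBilin b)) = j
        omega
      obtain ⟨hA', hA''⟩ := mk A e f hA heA he0 hfW hfe hAz hmem
      obtain ⟨hB', hB''⟩ := mk B f e hB hfB hf0 heW hef1 hBz fun x => by rw [hmem x]; tauto
      obtain ⟨g, hg1, hgA, hgB, hgfix⟩ := ih W' hnd hdim' _ _ hA' hB'
      have hge : g e = e := hgfix e fun w hw => by rw [polar_comm]; exact ((hmem w).1 hw).2.1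
      have hgf : g f = f := hgfix f fun w hw => by rw [polar_comm]; exact ((hmem w).1 hw).2.2
      refine ⟨g, hg1, mem_flagStab hgA.1 fun j hj x hx => ?_, mem_flagStab hgA.1 fun j hj x hx => ?_,
        fun x hx => hgfix x fun w hw => hx w ((hmem w).1 hw).1⟩
      · rcases Nat.eq_zero_or_pos j with rfl | hj0
        · rw [hA0 x hx, map_zero]; exact zero_mem _
        obtain ⟨y, hy, z, hz, rfl⟩ := Submodule.mem_sup.1 (hA'' j hj0 hj hx)
        obtain ⟨c, rfl⟩ := Submodule.mem_span_singleton.1 hz
        obtain ⟨i, rfl⟩ : ∃ i, j = i + 1 := ⟨j - 1, by omega⟩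
        rw [map_add, map_smul, hge]
        exact Submodule.add_mem _ (apply_mem hgA (by omega : i ≤ k) hy).1
          (Submodule.smul_mem _ _ (hAj _ hj0 hj))
      · rcases Nat.eq_zero_or_pos j with rfl | hj0
        · rw [hB0 x hx, map_zero]; exact zero_mem _
        obtain ⟨y, hy, z, hz, rfl⟩ := Submodule.mem_sup.1 (hB'' j hj0 hj hx)
        obtain ⟨c, rfl⟩ := Submodule.mem_span_singleton.1 hz
        obtain ⟨i, rfl⟩ : ∃ i, j = i + 1 := ⟨j - 1, by omega⟩
        rw [map_add, map_smul, hgf]
        exact Submodule.add_mem _ (apply_mem hgB (by omega : i ≤ k) hy).1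
          (Submodule.smul_mem _ _ (hBj _ hj0 hj))


/-- A `p`-group of isometries fixes a coset of a proper invariant subspace, other than the subspace itself. -/
theorem exists_fixed_coset [Finite V] (h01 : ∀ a : F, a = 0 ∨ a = 1) {P : Subgroup (V ≃ₗ[F] V)} (hP : IsPGroup 2 P)
    {S T : Submodule F V} (hST : S < T) (hS : ∀ g ∈ P, ∀ x ∈ S, g x ∈ S) (hT : ∀ g ∈ P, ∀ x ∈ T, g x ∈ T) :
    ∃ b ∈ T, b ∉ S ∧ ∀ g ∈ P, g b - b ∈ S := by
  classical
  let S' : Submodule F T := S.comap T.subtype
  let act : ↥P → (↥T →ₗ[F] ↥T) := fun g => (g.1 : V →ₗ[F] V).restrict (hT g.1 g.2)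
  have hact : ∀ g, S' ≤ S'.comap (act g) := fun g x hx => hS g.1 g.2 x.1 hx
  letI : MulAction ↥P (↥T ⧸ S') :=
    { smul := fun g q => S'.mapQ S' (act g) (hact g) q
      one_smul := fun q => by
        obtain ⟨x, rfl⟩ := Submodule.Quotient.mk_surjective S' q
        rfl
      mul_smul := fun g h q => by
        obtain ⟨x, rfl⟩ := Submodule.Quotient.mk_surjective S' q
        rfl }
  haveI : Finite (↥T ⧸ S') := Finite.of_surjective _ (Submodule.Quotient.mk_surjective S')
  obtain ⟨t, htT, htS⟩ := SetLike.exists_of_lt hST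
  have h2 : 2 ∣ Nat.card (↥T ⧸ S') := by
    haveI : Finite F := Finite.of_injective (fun c : F => decide (c = 0)) fun a b h => by
      rcases h01 a with rfl | rfl <;> rcases h01 b with rfl | rfl <;> simp_all
    have hF : Nat.card F = 2 :=
      Nat.card_eq_two_iff.2 ⟨0, 1, zero_ne_one, Set.eq_univ_of_forall fun a => by simpa using h01 a⟩
    rw [Module.natCard_eq_pow_finrank (K := F) (V := ↥T ⧸ S'), hF]
    refine dvd_pow_self 2 fun h0 => htS ?_
    haveI : Subsingleton (↥T ⧸ S') := Module.finrank_zero_iff.1 h0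
    exact (Submodule.Quotient.mk_eq_zero S' (x := (⟨t, htT⟩ : T))).1 (Subsingleton.elim _ _)
  obtain ⟨q, hq, hq0⟩ := hP.exists_fixed_point_of_prime_dvd_card_of_fixed_point (α := ↥T ⧸ S') h2
    (a := 0) (fun g => map_zero (S'.mapQ S' (act g) (hact g)))
  obtain ⟨b, rfl⟩ := Submodule.Quotient.mk_surjective S' q
  refine ⟨b.1, b.2, fun h => hq0 ((Submodule.Quotient.mk_eq_zero S').2 h).symm, fun g hg => ?_⟩
  exact (Submodule.Quotient.eq S').1 (hq ⟨g, hg⟩)

variable [FiniteDimensional F V]

/-- A two-group of isometries of a plus type space fixes a flag. -/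
theorem exists_flag [Finite V] (hQ : PND Q) (h01 : ∀ a : F, a = 0 ∨ a = 1) {m : ℕ}
    (hdim : finrank F V = 2 * (m + 1)) {P : Subgroup (V ≃ₗ[F] V)} (hPQ : P ≤ Iso Q) (hP : IsPGroup 2 P) :
    ∃ A : ℕ → Submodule F V, IsFlag Q ⊤ m A ∧ P ≤ flagStab Q m A := by
  suffices H : ∀ i, i ≤ m → ∃ A : ℕ → Submodule F V, IsFlag Q ⊤ i A ∧ P ≤ flagStab Q i A from H m le_rfl
  intro i
  induction i with
  | zero =>
    intro _
    refine ⟨fun _ => ⊥, ⟨fun _ _ => le_top, fun _ _ x hx => by rw [(Submodule.mem_bot F).1 hx]; exact Q.map_zero,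
      fun _ _ => le_rfl, fun j hj => by rw [Nat.le_zero.1 hj]; exact finrank_bot F V⟩, fun g hg =>
      mem_flagStab (hPQ hg) fun j _ x hx => by rw [(Submodule.mem_bot F).1 hx, map_zero]; exact zero_mem _⟩
  | succ i ih =>
    intro hi
    obtain ⟨A, hA, hPA⟩ := ih (by omega)
    let B : LinearMap.BilinForm F V := Q.polarBilin
    have hB : B.Nondegenerate := nondeg hQ
    let U := A i
    let Uo := B.orthogonal U
    have hUo : finrank F Uo = 2 * (m + 1) - i := by
      rw [LinearMap.BilinForm.finrank_orthogonal hB, hdim, hA.dim i le_rfl]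
    have hUinv : ∀ g ∈ P, ∀ x ∈ U, g x ∈ U := fun g hg x hx => apply_mem (hPA hg) le_rfl hx
    have hpol : ∀ g ∈ P, ∀ x y, polar Q (g x) y = polar Q x (g⁻¹ y) := fun g hg x y => by
      conv_lhs => rw [show y = g (g⁻¹ y) from (g.apply_symm_apply y).symm]
      exact polar_iso (hPQ hg) _ _
    have hinvo : ∀ g ∈ P, ∀ (S : Submodule F V), (∀ h ∈ P, ∀ x ∈ S, h x ∈ S) → ∀ x ∈ B.orthogonal S,
        g x ∈ B.orthogonal S := fun g hg S hS x hx y hy => by
      show polar Q y (g x) = 0
      rw [polar_comm, hpol g hg, polar_comm]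
      exact hx _ (hS _ (inv_mem hg) y hy)
    have hUle : U ≤ Uo := fun x hx y hy => polar_sing (hA.sing i le_rfl) hy hx
    obtain ⟨s, hsUo, hsU, hs, hfix⟩ : ∃ s ∈ Uo, s ∉ U ∧ Q s = 0 ∧ ∀ g ∈ P, g s - s ∈ U := by
      obtain ⟨z, hz, hzU, hzP⟩ := exists_fixed_coset h01 hP (S := U) (T := Uo)
        (lt_of_le_of_ne hUle fun h => by
          have := hA.dim i le_rfl
          rw [show A i = U from rfl, h, hUo] at this
          omega) hUinv (fun g hg => hinvo g hg U hUinv)
      by_cases hz0 : Q z = 0
      · exact ⟨z, hz, hzU, hz0, hzP⟩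
      have hQz : Q z = 1 := (h01 _).resolve_left hz0
      let S := U ⊔ Submodule.span F {z}
      let T := Uo ⊓ LinearMap.ker (Q.polarBilin z)
      have hSinv : ∀ g ∈ P, ∀ x ∈ S, g x ∈ S := fun g hg x hx => by
        obtain ⟨u, hu, w, hw, rfl⟩ := Submodule.mem_sup.1 hx
        obtain ⟨c, rfl⟩ := Submodule.mem_span_singleton.1 hw
        rw [map_add, map_smul, show g z = (g z - z) + z by abel, smul_add, ← add_assoc]
        exact Submodule.add_mem_sup (U.add_mem (hUinv g hg u hu) (U.smul_mem _ (hzP g hg)))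
          (Submodule.smul_mem _ _ (Submodule.mem_span_singleton_self z))
      have hzU0 : ∀ u ∈ U, polar Q z u = 0 := fun u hu => by rw [polar_comm]; exact hz u hu
      have hTinv : ∀ g ∈ P, ∀ x ∈ T, g x ∈ T := fun g hg x hx => by
        refine ⟨hinvo g hg U hUinv x hx.1, ?_⟩
        show polar Q z (g x) = 0
        rw [polar_comm, hpol g hg, polar_comm, show g⁻¹ z = (g⁻¹ z - z) + z by abel, polar_add_left,
          show polar Q z x = 0 from hx.2, add_zero]
        exact hx.1 _ (hzP _ (inv_mem hg))
      have hzz : polar Q z z = 0 := by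
        rw [polar_self, hQz]
        rcases h01 ((1 : F) + 1) with h | h
        · rw [two_nsmul]; exact h
        · exact absurd (add_left_cancel (h.trans (add_zero 1).symm)) one_ne_zero
      have hSd : finrank F S ≤ i + 1 := by
        refine (Submodule.finrank_add_le_finrank_add_finrank _ _).trans ?_
        rw [hA.dim i le_rfl]
        have : finrank F (Submodule.span F {z}) = 1 := finrank_span_singleton fun h => hzU (h ▸ zero_mem _)
        omega
      have hTd : finrank F Uo ≤ finrank F T + 1 := by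
        have h2 := LinearMap.finrank_range_add_finrank_ker ((Q.polarBilin z).domRestrict Uo)
        have h3 : finrank F (LinearMap.range ((Q.polarBilin z).domRestrict Uo)) ≤ 1 :=
          (Submodule.finrank_le _).trans_eq (finrank_self F)
        have h4 : finrank F ↥(LinearMap.ker ((Q.polarBilin z).domRestrict Uo)) ≤ finrank F T := by
          rw [← Submodule.finrank_map_subtype_eq Uo]
          refine Submodule.finrank_mono ?_
          rintro _ ⟨x, hx, rfl⟩
          exact ⟨x.2, hx⟩
        omega
      have hST : S ≤ T := sup_le (fun u hu => ⟨hUle hu, hzU0 u hu⟩)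
        ((Submodule.span_singleton_le_iff_mem _ _).2 ⟨hz, hzz⟩)
      obtain ⟨y, hy, hyS, hyP⟩ := exists_fixed_coset h01 hP (S := S) (T := T)
        (lt_of_le_of_ne hST fun h => by rw [h] at hSd; omega) hSinv hTinv
      -- exactly one of `y`, `y + z` is singular
      obtain ⟨s, hs, hsT, hsS⟩ : ∃ s, Q s = 0 ∧ s ∈ T ∧ s - y ∈ S := by
        by_cases hy0 : Q y = 0
        · exact ⟨y, hy0, hy, by simp⟩
        · refine ⟨y + z, ?_, T.add_mem hy (hST (Submodule.mem_sup_right (Submodule.mem_span_singleton_self z))),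
            by simpa using Submodule.mem_sup_right (Submodule.mem_span_singleton_self z)⟩
          rw [QuadraticMap.map_add (f := ⇑Q), (h01 _).resolve_left hy0, hQz, polar_comm,
            show polar Q z y = 0 from hy.2, add_zero]
          rw [polar_self, hQz, two_nsmul] at hzz
          exact hzz
      refine ⟨s, hsT.1, fun h => hyS ?_, hs, fun g hg => ?_⟩
      · simpa using S.sub_mem (Submodule.mem_sup_left h : s ∈ S) hsS
      have hd : g s - s ∈ S := by
        rw [show g s - s = (g (s - y)) - (s - y) + (g y - y) by rw [map_sub]; abel]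
        exact S.add_mem (S.sub_mem (hSinv g hg _ hsS) hsS) (hyP g hg)
      obtain ⟨u, hu, w, hw, huw⟩ := Submodule.mem_sup.1 hd
      obtain ⟨c, rfl⟩ := Submodule.mem_span_singleton.1 hw
      rcases h01 c with rfl | rfl
      · rw [← huw, zero_smul, add_zero]; exact hu
      · exfalso
        rw [one_smul, eq_sub_iff_add_eq] at huw
        have h1 : Q (g s) = 0 := by rw [hPQ hg, hs]
        have e1 : polar Q z s = 0 := hsT.2
        have e2 : polar Q u s = 0 := hsT.1 u hu
        have e3 : polar Q u z = 0 := hz u hu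
        rw [← huw, QuadraticMap.map_add (f := ⇑Q), QuadraticMap.map_add (f := ⇑Q), polar_add_left, e1, e2, e3,
          hA.sing i le_rfl u hu, hs, hQz] at h1
        simp at h1
    refine ⟨fun j => if j ≤ i then A j else U ⊔ Submodule.span F {s}, ⟨fun _ _ => le_top, fun j hj x hx => ?_,
      fun j hj => ?_, fun j hj => ?_⟩, fun g hg => mem_flagStab (hPQ hg) fun j hj x hx => ?_⟩
    · split_ifs at hx with h
      · exact hA.sing j h x hx
      · obtain ⟨u, hu, w, hw, rfl⟩ := Submodule.mem_sup.1 hx
        obtain ⟨c, rfl⟩ := Submodule.mem_span_singleton.1 hw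
        rw [QuadraticMap.map_add (f := ⇑Q), hA.sing i le_rfl u hu, QuadraticMap.map_smul, hs, polar_smul_right,
          show polar Q u s = 0 from hsUo u hu]
        simp
    · by_cases h : j + 1 ≤ i
      · simp only [h, (show j ≤ i by omega), if_true]; exact hA.mono j h
      · have : j = i := by omega
        subst this
        simp only [h, le_refl, if_true, if_false]
        exact le_sup_left
    · show finrank F ↥(if j ≤ i then A j else U ⊔ Submodule.span F {s}) = j
      by_cases h : j ≤ i
      · rw [if_pos h]; exact hA.dim j h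
      · rw [if_neg h]
        obtain rfl : j = i + 1 := by omega
        have h1 := Submodule.finrank_add_le_finrank_add_finrank U (Submodule.span F {s})
        have h2 := Submodule.finrank_lt_finrank_of_lt (lt_of_le_not_ge le_sup_left fun h =>
          hsU (h (Submodule.mem_sup_right (Submodule.mem_span_singleton_self s))) : U < U ⊔ Submodule.span F {s})
        rw [hA.dim i le_rfl] at h1 h2
        have : finrank F (Submodule.span F {s}) = 1 := finrank_span_singleton fun h => hsU (h ▸ zero_mem _)
        omega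
    · show g x ∈ (if j ≤ i then A j else U ⊔ Submodule.span F {s})
      split_ifs at hx ⊢ with h
      · exact apply_mem (hPA hg) h hx
      · obtain ⟨u, hu, w, hw, rfl⟩ := Submodule.mem_sup.1 hx
        obtain ⟨c, rfl⟩ := Submodule.mem_span_singleton.1 hw
        rw [map_add, map_smul, show g s = (g s - s) + s by abel, smul_add, ← add_assoc]
        exact Submodule.add_mem_sup (U.add_mem (hUinv g hg u hu) (U.smul_mem _ (hfix g hg)))
          (Submodule.smul_mem _ _ (Submodule.mem_span_singleton_self s))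

/-- A flag stabiliser in a plus type space is a two-group. -/
theorem flagStab_isPGroup [Finite V] (hQ : PND Q) (h01 : ∀ a : F, a = 0 ∨ a = 1) {m : ℕ}
    (hdim : finrank F V = 2 * (m + 1)) {L : Submodule F V} (hL : ∀ w ∈ L, Q w = 0) (hLd : finrank F L = m + 1)
    {A : ℕ → Submodule F V} (hA : IsFlag Q ⊤ m A) : IsPGroup 2 (flagStab Q m A) := by
  classical
  intro g
  obtain ⟨g, hg⟩ := g
  let B : LinearMap.BilinForm F V := Q.polarBilin
  have hB : B.Nondegenerate := nondeg hQ
  haveI : Finite (Submodule F V) := Finite.of_injective (fun W : Submodule F V => (W : Set V)) SetLike.coe_injective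
  have hcard := Cfsg.Agent.Classical.Witt.card_two Q hB hdim (hA.sing m le_rfl) (by rw [hA.dim m le_rfl]) hL hLd
  obtain ⟨T₀, T₁, hne, huniv⟩ := Nat.card_eq_two_iff.1 hcard
  have hall : ∀ T, T = T₀ ∨ T = T₁ := fun T => by
    have : T ∈ ({T₀, T₁} : Set _) := by rw [huniv]; trivial
    simpa using this
  let σ : {W : Submodule F V // finrank F W = m + 1 ∧ (∀ w ∈ W, Q w = 0) ∧ A m ≤ W} →
      {W : Submodule F V // finrank F W = m + 1 ∧ (∀ w ∈ W, Q w = 0) ∧ A m ≤ W} := fun T =>
    ⟨T.1.map (g : V →ₗ[F] V), by rw [LinearEquiv.finrank_map_eq]; exact T.2.1,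
      by rintro _ ⟨x, hx, rfl⟩; exact (hg.1 x).trans (T.2.2.1 x hx),
      (hg.2 m le_rfl).symm.le.trans (Submodule.map_mono T.2.2.2)⟩
  have hσinj : Function.Injective σ := fun a b h => Subtype.ext
    (Submodule.map_injective_of_injective g.injective (congrArg Subtype.val h))
  have hσ2 : σ (σ T₀) = T₀ := by
    rcases hall (σ T₀) with h | h
    · rw [h, h]
    · rw [h]
      rcases hall (σ T₁) with h' | h'
      · exact h'
      · exact absurd (hσinj (h.trans h'.symm)) hne
  let h : V ≃ₗ[F] V := g * g
  have hh : h ∈ flagStab Q m A := mul_mem hg hg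
  -- the full chain
  let C : ℕ → Submodule F V := fun j => if j ≤ m then A j else T₀.1
  have hCd : ∀ j, j ≤ m + 1 → finrank F (C j) = j := fun j hj => by
    show finrank F ↥(if j ≤ m then A j else T₀.1) = j
    by_cases hjm : j ≤ m
    · rw [if_pos hjm]; exact hA.dim j hjm
    · rw [if_neg hjm, T₀.2.1]; omega
  have hCmono : ∀ j, j ≤ m → C j ≤ C (j + 1) := fun j hj => by
    by_cases hjm : j + 1 ≤ m
    · simp only [C, hj, hjm, if_true]; exact hA.mono j hjm
    · simp only [C, hj, hjm, if_true, if_false]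
      obtain rfl : j = m := by omega
      exact T₀.2.2.2
  have hCinv : ∀ j, j ≤ m + 1 → ∀ x ∈ C j, h x ∈ C j := fun j hj x hx => by
    by_cases hjm : j ≤ m
    · simp only [C, hjm, if_true] at hx ⊢; exact apply_mem hh hjm hx
    · simp only [C, hjm, if_false] at hx ⊢
      rw [← congrArg Subtype.val hσ2]
      exact ⟨g x, ⟨x, hx, rfl⟩, rfl⟩
  have hdrop : ∀ j, j ≤ m → ∀ x ∈ C (j + 1), h x - x ∈ C j := by
    intro j hj x hx
    by_cases hxj : x ∈ C j
    · exact Submodule.sub_mem _ (hCinv j (by omega) x hxj) hxj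
    have hspan : C (j + 1) = C j ⊔ Submodule.span F {x} := by
      refine (Submodule.eq_of_le_of_finrank_le (sup_le (hCmono j hj)
        ((Submodule.span_singleton_le_iff_mem _ _).2 hx)) ?_).symm
      have h2 := Submodule.finrank_lt_finrank_of_lt (lt_of_le_not_ge le_sup_left fun h =>
        hxj (h (Submodule.mem_sup_right (Submodule.mem_span_singleton_self x))) : C j < C j ⊔ Submodule.span F {x})
      rw [hCd j (by omega)] at h2
      rw [hCd (j + 1) (by omega)]
      omega
    have hhx := hCinv (j + 1) (by omega) x hx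
    rw [hspan] at hhx
    obtain ⟨u, hu, w, hw, huw⟩ := Submodule.mem_sup.1 hhx
    obtain ⟨c, rfl⟩ := Submodule.mem_span_singleton.1 hw
    rcases h01 c with rfl | rfl
    · exfalso
      apply hxj
      rw [zero_smul, add_zero] at huw
      have h2 : (C j).map (h : V →ₗ[F] V) = C j := Submodule.eq_of_le_of_finrank_eq
        (by rintro _ ⟨y, hy, rfl⟩; exact hCinv j (by omega) y hy) (LinearEquiv.finrank_map_eq h _)
      rw [← h2] at hu
      obtain ⟨y, hy, hyu⟩ := hu
      rwa [← h.injective (hyu.trans huw)]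
    · rw [← huw, one_smul, add_sub_cancel_right]; exact hu
  have hdropo : ∀ j, j ≤ m → ∀ y ∈ B.orthogonal (C j), h y - y ∈ B.orthogonal (C (j + 1)) := by
    intro j hj y hy z hz
    have hinv : (h : V ≃ₗ[F] V) ∈ Iso Q := hh.1
    show polar Q z (h y - y) = 0
    rw [polar_sub_right]
    conv_lhs => arg 1; rw [show z = h (h⁻¹ z) from (h.apply_symm_apply z).symm, polar_iso hinv]
    rw [← polar_sub_left]
    refine hy _ ?_
    have h2 : (C (j + 1)).map (h : V →ₗ[F] V) = C (j + 1) := Submodule.eq_of_le_of_finrank_eq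
      (by rintro _ ⟨y, hy, rfl⟩; exact hCinv (j + 1) (by omega) y hy) (LinearEquiv.finrank_map_eq h _)
    rw [← h2] at hz
    obtain ⟨w, hw, rfl⟩ := hz
    change h⁻¹ (h w) - h w ∈ C j
    rw [show h⁻¹ (h w) = w from h.symm_apply_apply w, ← neg_sub]
    exact Submodule.neg_mem _ (hdrop j hj w hw)
  let D : Module.End F V := (h : V →ₗ[F] V) - 1
  have hD : ∀ x, D x = h x - x := fun x => rfl
  have h1 : ∀ j, j ≤ m + 1 → ∀ x, (D ^ j) x ∈ B.orthogonal (C j) := by
    intro j
    induction j with
    | zero =>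
      intro _ x y hy
      have : y = 0 := by
        rwa [Submodule.finrank_eq_zero.1 (hCd 0 (by omega)), Submodule.mem_bot] at hy
      show polar Q y _ = 0
      rw [this]; simp [polar]
    | succ j ih =>
      intro hj x
      rw [pow_succ', Module.End.mul_apply, hD]
      exact hdropo j (by omega) _ (ih (by omega) x)
  have hCo : B.orthogonal (C (m + 1)) = C (m + 1) := by
    have hs : ∀ w ∈ C (m + 1), Q w = 0 := by
      simp only [C, show ¬ m + 1 ≤ m by omega, if_false]; exact T₀.2.2.1
    refine (Submodule.eq_of_le_of_finrank_eq (Cfsg.Agent.Classical.Witt.le_orth Q hs) ?_).symm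
    rw [LinearMap.BilinForm.finrank_orthogonal hB, hdim, hCd (m + 1) le_rfl]
    omega
  have h2 : ∀ j, j ≤ m + 1 → ∀ x ∈ C (m + 1), (D ^ j) x ∈ C (m + 1 - j) := by
    intro j
    induction j with
    | zero => intro _ x hx; exact hx
    | succ j ih =>
      intro hj x hx
      rw [pow_succ', Module.End.mul_apply, hD]
      refine hdrop _ (by omega) _ ?_
      rw [show m + 1 - (j + 1) + 1 = m + 1 - j by omega]
      exact ih (by omega) x hx
  have hnil : D ^ (2 * (m + 1)) = 0 := LinearMap.ext fun x => by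
    rw [two_mul, pow_add, Module.End.mul_apply, LinearMap.zero_apply]
    have := h2 (m + 1) le_rfl _ (by rw [← hCo]; exact h1 (m + 1) le_rfl x)
    rwa [Nat.sub_self, Submodule.finrank_eq_zero.1 (hCd 0 (by omega)), Submodule.mem_bot] at this
  refine ⟨2 * (m + 1) + 1, Subtype.ext (LinearEquiv.ext fun x => ?_)⟩
  haveI hchar : CharP F 2 := by
    refine CharTwo.of_one_ne_zero_of_two_eq_zero one_ne_zero ?_
    rcases h01 ((1 : F) + 1) with e | e
    · rw [← one_add_one_eq_two]; exact e
    · exact absurd (add_left_cancel (e.trans (add_zero 1).symm)) one_ne_zero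
  haveI : Nontrivial V := by
    by_contra hV
    rw [not_nontrivial_iff_subsingleton] at hV
    rw [Module.finrank_zero_of_subsingleton] at hdim
    omega
  haveI : CharP (Module.End F V) 2 := charP_of_injective_algebraMap (algebraMap F (Module.End F V)).injective 2
  haveI : Fact (Nat.Prime 2) := ⟨Nat.prime_two⟩
  have hpow : ((1 : Module.End F V) + D) ^ (2 ^ (2 * (m + 1))) = 1 := by
    rw [add_pow_char_pow_of_commute 2 (2 * (m + 1)) (Commute.one_left D), one_pow,
      pow_eq_zero_of_le (Nat.lt_two_pow_self).le hnil, add_zero]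
  have hcoe : ∀ n : ℕ, (((h ^ n : V ≃ₗ[F] V)) : V →ₗ[F] V) = ((1 : Module.End F V) + D) ^ n := by
    intro n
    induction n with
    | zero => simp; rfl
    | succ n ih =>
      rw [pow_succ, pow_succ, ← ih]
      refine LinearMap.ext fun y => ?_
      show (h ^ n) (h y) = (h ^ n) (y + (h y - y))
      rw [add_sub_cancel]
  show (g ^ (2 ^ (2 * (m + 1) + 1))) x = x
  rw [pow_succ' 2, pow_mul, pow_two]
  exact (DFunLike.congr_fun (hcoe _) x).trans (DFunLike.congr_fun hpow x)

end Cfsg.Agent.Small.OrthFlagMeet
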