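import Cfsg.Agent.Lib.Classical.OrthMatrix
import Mathlib.Algebra.CharP.Two

/-!
# First cohomology of an orthogonal group over the field of two elements on its natural module

A cocycle on `Ω` is determined on the products of two transvections along the edges of a tree of non-singular vectors.
-/

set_option autoImplicit false
set_option linter.unusedSectionVars false

namespace Cfsg.Agent.Small.OrthH1Two

open QuadraticMap Matrix
open Cfsg.Agent.Classical (ORefl.toMat ORefl.refl ORefl.refl_mem)
open scoped commutatorElement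

variable {ι : Type} [Fintype ι] [DecidableEq ι] {Q : QuadraticForm (ZMod 2) (ι → ZMod 2)}

set_option quotPrecheck false in
local notation "V" => ι → ZMod 2
set_option quotPrecheck false in
local notation "O" => ↥(Cfsg.isometryGroup (ZMod 2) ⇑Q)

variable (Q) in
noncomputable def t (s : ι → ZMod 2) : O := ORefl.toMat Q ⟨ORefl.refl Q s, ORefl.refl_mem s⟩

def act (g : O) (x : V) : V := (g.1 : Matrix ι ι (ZMod 2)) *ᵥ x

theorem act_mul (g h : O) (x : V) : act (g * h) x = act g (act h x) := (Matrix.mulVec_mulVec _ _ _).symm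

theorem act_one (x : V) : act (1 : O) x = x := Matrix.one_mulVec x

theorem act_add (g : O) (x y : V) : act g (x + y) = act g x + act g y := Matrix.mulVec_add _ _ _

theorem act_smul (g : O) (c : ZMod 2) (x : V) : act g (c • x) = c • act g x := Matrix.mulVec_smul _ _ _

theorem act_zero (g : O) : act g (0 : V) = 0 := Matrix.mulVec_zero _

theorem act_inj {g h : O} (e : ∀ x, act g x = act h x) : g = h :=
  Subtype.ext (Units.ext (Matrix.ext_of_mulVec_single fun i => e _))

theorem add_self' (x : V) : x + x = 0 := funext fun _ => CharTwo.add_self_eq_zero _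

theorem sub_eq_add' (x y : V) : x - y = x + y := funext fun _ => CharTwo.sub_eq_add _ _

theorem polar_self' (x : V) : polar Q x x = 0 := by
  rw [QuadraticMap.polar_self, nsmul_eq_mul]
  exact mul_eq_zero_of_left (by decide) _

theorem polar_act (g : O) (x y : V) : polar Q (act g x) (act g y) = polar Q x y := by
  have h : ∀ z, Q (act g z) = Q z := fun z => g.2 z z
  simp only [QuadraticMap.polar, ← act_add, h]

theorem t_act {s : V} (hs : Q s = 1) (x : V) : act (t Q s) x = x + polar Q s x • s := by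
  rw [act, t, Cfsg.Agent.Classical.ORefl.toMat_apply]
  show ORefl.refl Q s x = _
  rw [Cfsg.Agent.Classical.ORefl.refl_apply, hs, inv_one, one_mul, sub_eq_add']

theorem t_self (s : V) : t Q s * t Q s = 1 := by
  rw [t, ← map_mul]
  exact (congrArg _ (Subtype.ext (Cfsg.Agent.Classical.ORefl.refl_mul_self s))).trans (map_one _)

theorem t_inv (s : V) : (t Q s)⁻¹ = t Q s := inv_eq_of_mul_eq_one_left (t_self s)

theorem conj_t (g : O) {s : V} (hs : Q s = 1) : g * t Q s * g⁻¹ = t Q (act g s) := by
  have hs' : Q (act g s) = 1 := (g.2 s s).trans hs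
  refine mul_inv_eq_of_eq_mul (act_inj fun x => ?_)
  rw [act_mul, act_mul, t_act hs, t_act hs', act_add, act_smul, polar_act]

section Pair

variable {a b : ι → ZMod 2} (ha : Q a = 1) (hb : Q b = 1) (hab : polar Q a b = 1)
include ha hb hab

theorem t_comm : t Q a * t Q b * t Q a = t Q b * t Q a * t Q b := by
  have h1 := conj_t (t Q a) hb
  have h2 := conj_t (t Q b) ha
  rw [t_inv, t_act ha, hab, one_smul] at h1
  rw [t_inv, t_act hb, QuadraticMap.polar_comm, hab, one_smul] at h2
  rw [h1, h2, add_comm]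

theorem pair_eq_commutator : t Q a * t Q b = ⁅t Q b, t Q a⁆ := by
  rw [commutatorElement_def, t_inv, t_inv, ← t_comm ha hb hab, mul_assoc (t Q a * t Q b), t_self, mul_one]

theorem pair_mem : t Q a * t Q b ∈ Cfsg.Omega (ZMod 2) ⇑Q := by
  rw [pair_eq_commutator ha hb hab]
  exact Subgroup.commutator_mem_commutator (Subgroup.mem_top _) (Subgroup.mem_top _)

end Pair

theorem pair_act {a b : V} (ha : Q a = 1) (hb : Q b = 1) (hab : polar Q a b = 1) (x : V) :
    act (t Q a * t Q b) x = x + polar Q b x • b + (polar Q a x + polar Q b x) • a := by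
  rw [act_mul, t_act hb, t_act ha, QuadraticMap.polar_add_right, QuadraticMap.polar_smul_right, hab,
    smul_eq_mul, mul_one]

section Cocycle

variable (f : ↥(Cfsg.Omega (ZMod 2) ⇑Q) → (ι → ZMod 2))
  (hf : ∀ g h, f (g * h) = f g + act g.1 (f h))

include hf

theorem f_one : f 1 = 0 := by
  have h := hf 1 1
  rw [one_mul, show ((1 : ↥(Cfsg.Omega (ZMod 2) ⇑Q)) : O) = 1 from rfl, act_one] at h
  exact left_eq_add.1 h

/-- The value of a cocycle at the product of an adjacent pair is that of a coboundary. -/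
theorem exists_val {a b : ι → ZMod 2} (ha : Q a = 1) (hb : Q b = 1) (hab : polar Q a b = 1) :
    ∃ A B : ZMod 2, f ⟨_, pair_mem ha hb hab⟩ = B • b + (A + B) • a := by
  set r : ↥(Cfsg.Omega (ZMod 2) ⇑Q) := ⟨_, pair_mem ha hb hab⟩ with hr
  set x := f r
  have h3 : r * r * r = 1 := by
    apply Subtype.ext
    show t Q a * t Q b * (t Q a * t Q b) * (t Q a * t Q b) = 1
    calc _ = t Q a * t Q b * t Q a * (t Q b * t Q a * t Q b) := by group
      _ = t Q a * t Q b * t Q a * (t Q a * t Q b * t Q a) := by rw [t_comm ha hb hab]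
      _ = 1 := by
        rw [mul_assoc (t Q a * t Q b) (t Q a), ← mul_assoc (t Q a) (t Q a * t Q b), ← mul_assoc (t Q a) (t Q a),
          t_self, one_mul, ← mul_assoc, mul_assoc (t Q a) (t Q b) (t Q b), t_self, mul_one, t_self]
  have h := congrArg f h3
  rw [f_one f hf, hf, hf] at h
  change x + act (t Q a * t Q b) x + act ((t Q a * t Q b) * (t Q a * t Q b)) x = 0 at h
  rw [act_mul (t Q a * t Q b) (t Q a * t Q b)] at h
  have hba : polar Q b a = 1 := by rw [QuadraticMap.polar_comm]; exact hab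
  refine ⟨polar Q a x + polar Q b x, polar Q a x, ?_⟩
  show x = _
  revert h
  simp only [pair_act ha hb hab, QuadraticMap.polar_add_right, QuadraticMap.polar_smul_right, hab, hba,
    polar_self', smul_eq_mul, mul_one, mul_zero]
  generalize polar Q a x = p
  generalize polar Q b x = q
  intro h
  funext i
  have hi := congrFun h i
  simp only [Pi.add_apply, Pi.smul_apply, Pi.zero_apply, smul_eq_mul] at hi ⊢
  clear h
  revert hi
  generalize x i = u
  generalize a i = v
  generalize b i = w
  revert p q u v w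
  decide

/-- Adjacent pairs determine the same value at their common vertex. -/
theorem chain {a b c : ι → ZMod 2} (ha : Q a = 1) (hb : Q b = 1) (hc : Q c = 1) (hab : polar Q a b = 1)
    (hbc : polar Q b c = 1) (hac : polar Q a c = 0) (hne : a ≠ c) {A B B' C : ZMod 2}
    (h1 : f ⟨_, pair_mem ha hb hab⟩ = B • b + (A + B) • a)
    (h2 : f ⟨_, pair_mem hb hc hbc⟩ = C • c + (B' + C) • b) : B = B' := by
  set r1 : ↥(Cfsg.Omega (ZMod 2) ⇑Q) := ⟨_, pair_mem ha hb hab⟩ with hr1
  set r2 : ↥(Cfsg.Omega (ZMod 2) ⇑Q) := ⟨_, pair_mem hb hc hbc⟩ with hr2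
  have e : ((r1 * r2 : ↥(Cfsg.Omega (ZMod 2) ⇑Q)) : O) = t Q a * t Q c := by
    show t Q a * t Q b * (t Q b * t Q c) = _
    rw [mul_assoc, ← mul_assoc (t Q b), t_self, one_mul]
  have hcomm : t Q c * t Q a = t Q a * t Q c := by
    refine (mul_inv_eq_iff_eq_mul.1 ?_)
    rw [conj_t _ ha, t_act hc, QuadraticMap.polar_comm, hac, zero_smul, add_zero]
  have hsq : (r1 * r2) * (r1 * r2) = 1 := by
    apply Subtype.ext
    rw [Subgroup.coe_mul, e, ← mul_assoc, mul_assoc (t Q a), hcomm, ← mul_assoc, t_self, one_mul, t_self]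
    rfl
  have h := congrArg f hsq
  rw [f_one f hf, hf, e, act_mul, t_act hc, t_act ha, hf r1 r2, h1, h2] at h
  have hba : polar Q b a = 1 := by rw [QuadraticMap.polar_comm]; exact hab
  have hcb : polar Q c b = 1 := by rw [QuadraticMap.polar_comm]; exact hbc
  have hca : polar Q c a = 0 := by rw [QuadraticMap.polar_comm]; exact hac
  rw [show (r1 : O) = t Q a * t Q b from rfl] at h
  simp only [pair_act ha hb hab, QuadraticMap.polar_add_right, QuadraticMap.polar_smul_right, hab, hba, hbc, hcb,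
    hac, hca, polar_self', smul_eq_mul, mul_one, mul_zero] at h
  by_contra hB
  apply hne
  funext i
  have hi := congrFun h i
  simp only [Pi.add_apply, Pi.smul_apply, Pi.zero_apply, smul_eq_mul] at hi
  clear h h1 h2
  revert hi hB
  generalize a i = v
  generalize b i = w
  generalize c i = u
  revert A B B' C u v w
  decide

end Cocycle

section Tree

variable {n : ℕ} (s d : Fin (n + 2) → (ι → ZMod 2)) (par : Fin (n + 2) → Fin (n + 2))

/-- A tree of non-singular vectors generating the isometry group by their transvections. -/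
structure Tree : Prop where
  norm : ∀ i, Q (s i) = 1
  lt : ∀ i, i ≠ 0 → par i < i
  adj : ∀ i, i ≠ 0 → polar Q (s (par i)) (s i) = 1
  grand : ∀ i, i ≠ 0 → par i ≠ 0 → polar Q (s (par (par i))) (s i) = 0 ∧ s (par (par i)) ≠ s i
  root : ∀ i, i ≠ 0 → par i = 0 → i = 1
  dual : ∀ i j, polar Q (s i) (d j) = if i = j then 1 else 0
  gen : Subgroup.closure (Set.range fun i => t Q (s i)) = ⊤

variable {s d par}

theorem Tree.coboundary (hT : Tree (Q := Q) s d par) (f : ↥(Cfsg.Omega (ZMod 2) ⇑Q) → (ι → ZMod 2))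
    (hf : ∀ g h, f (g * h) = f g + act g.1 (f h)) :
    ∃ v, ∀ g : ↥(Cfsg.Omega (ZMod 2) ⇑Q), f g = act g.1 v - v := by
  classical
  have hE : ∀ i : {i : Fin (n + 2) // i ≠ 0}, ∃ A B : ZMod 2,
      f ⟨_, pair_mem (hT.norm _) (hT.norm _) (hT.adj i.1 i.2)⟩ = B • s i.1 + (A + B) • s (par i.1) :=
    fun i => exists_val f hf (hT.norm _) (hT.norm _) (hT.adj i.1 i.2)
  choose A B hAB using hE
  have h10 : (1 : Fin (n + 2)) ≠ 0 := Fin.zero_ne_one.symm
  have hp1 : par 1 = 0 := by
    have := hT.lt 1 h10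
    rw [Fin.lt_def, Fin.val_one] at this
    exact Fin.ext (by rw [Fin.val_zero]; omega)
  let c : Fin (n + 2) → ZMod 2 := fun i => if h : i = 0 then A ⟨1, h10⟩ else B ⟨i, h⟩
  have hA : ∀ i : {i : Fin (n + 2) // i ≠ 0}, A i = c (par i.1) := by
    rintro ⟨i, hi⟩
    by_cases hp : par i = 0
    · obtain rfl := hT.root i hi hp
      simp only [c, hp, dif_pos]
    · simp only [c, dif_neg hp]
      obtain ⟨h0, hne⟩ := hT.grand i hi hp
      exact (chain f hf (hT.norm _) (hT.norm _) (hT.norm _) (hT.adj _ hp) (hT.adj i hi) h0 hne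
        (hAB ⟨_, hp⟩) (hAB ⟨i, hi⟩)).symm
  let v : ι → ZMod 2 := ∑ j, c j • d j
  have hv : ∀ i, polar Q (s i) v = c i := fun i => by
    rw [← QuadraticMap.polarBilin_apply_apply, map_sum]
    simp only [map_smul, QuadraticMap.polarBilin_apply_apply, hT.dual, smul_eq_mul, mul_ite, mul_one, mul_zero,
      Finset.sum_ite_eq, Finset.mem_univ, if_true]
  let K : Subgroup O :=
    { carrier := {g | ∃ hg : g ∈ Cfsg.Omega (ZMod 2) ⇑Q, f ⟨g, hg⟩ = act g v + v}
      one_mem' := ⟨one_mem _, by rw [show (⟨1, one_mem _⟩ : ↥(Cfsg.Omega (ZMod 2) ⇑Q)) = 1 from rfl, f_one f hf,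
        act_one, add_self']⟩
      mul_mem' := by
        rintro g h ⟨hg, eg⟩ ⟨hh, eh⟩
        refine ⟨mul_mem hg hh, ?_⟩
        rw [show (⟨g * h, mul_mem hg hh⟩ : ↥(Cfsg.Omega (ZMod 2) ⇑Q)) = ⟨g, hg⟩ * ⟨h, hh⟩ from rfl, hf, eg, eh,
          act_add, act_mul, show ((⟨g, hg⟩ : ↥(Cfsg.Omega (ZMod 2) ⇑Q)) : O) = g from rfl]
        rw [show act g v + v + (act g (act h v) + act g v) = act g (act h v) + v + (act g v + act g v) by abel,
          add_self', add_zero]
      inv_mem' := by
        rintro g ⟨hg, eg⟩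
        refine ⟨inv_mem hg, ?_⟩
        have := hf (⟨g, hg⟩⁻¹) ⟨g, hg⟩
        rw [inv_mul_cancel, f_one f hf, eg, show ((⟨g, hg⟩⁻¹ : ↥(Cfsg.Omega (ZMod 2) ⇑Q)) : O) = g⁻¹ from rfl,
          act_add, ← act_mul, inv_mul_cancel, act_one] at this
        have e : ∀ x y : ι → ZMod 2, (0 : ι → ZMod 2) = x + y → x = y := fun x y h => by
          rw [← add_zero x, ← add_self' y, ← add_assoc, ← h, zero_add]
        rw [show (⟨g⁻¹, inv_mem hg⟩ : ↥(Cfsg.Omega (ZMod 2) ⇑Q)) = ⟨g, hg⟩⁻¹ from rfl, e _ _ this]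
        exact add_comm _ _ }
  have hr : ∀ i, i ≠ 0 → t Q (s (par i)) * t Q (s i) ∈ K := fun i hi =>
    ⟨pair_mem (hT.norm _) (hT.norm _) (hT.adj i hi), by
      rw [hAB ⟨i, hi⟩, hA ⟨i, hi⟩, pair_act (hT.norm _) (hT.norm _) (hT.adj i hi), hv, hv,
        show c i = B ⟨i, hi⟩ from dif_neg hi]
      funext k
      simp only [Pi.add_apply, Pi.smul_apply, smul_eq_mul]
      generalize c (par i) = p
      generalize B ⟨i, hi⟩ = q
      generalize v k = u
      generalize s i k = w
      generalize s (par i) k = z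
      revert p q u w z
      decide⟩
  have h0 : ∀ i, t Q (s i) * t Q (s 0) ∈ K := by
    intro i
    induction i using WellFoundedLT.induction with
    | ind i ih =>
      by_cases hi : i = 0
      · rw [hi, t_self]; exact one_mem _
      · have := mul_mem (inv_mem (hr i hi)) (ih _ (hT.lt i hi))
        rwa [_root_.mul_inv_rev, t_inv, t_inv, mul_assoc, ← mul_assoc (t Q (s (par i))) (t Q (s (par i))), t_self,
          one_mul] at this
  have hkl : ∀ i j, t Q (s i) * t Q (s j) ∈ K := fun i j => by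
    have := mul_mem (h0 i) (inv_mem (h0 j))
    rwa [_root_.mul_inv_rev, t_inv, t_inv, mul_assoc, ← mul_assoc (t Q (s 0)) (t Q (s 0)), t_self, one_mul] at this
  -- the subgroup generated by the pairs
  let H : Subgroup O := Subgroup.closure (Set.range fun ij : Fin (n + 2) × Fin (n + 2) => t Q (s ij.1) * t Q (s ij.2))
  have hHK : H ≤ K := (Subgroup.closure_le _).2 (by rintro _ ⟨⟨i, j⟩, rfl⟩; exact hkl i j)
  have hgenH : ∀ i j, t Q (s i) * t Q (s j) ∈ H := fun i j => Subgroup.subset_closure ⟨(i, j), rfl⟩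
  have hnorm : ∀ i, ∀ h ∈ H, t Q (s i) * h * t Q (s i) ∈ H := by
    intro i h hh
    induction hh using Subgroup.closure_induction with
    | mem x hx =>
      obtain ⟨⟨j, k⟩, rfl⟩ := hx
      have := mul_mem (hgenH i j) (hgenH k i)
      simpa only [mul_assoc] using this
    | one => rw [mul_one, t_self]; exact one_mem _
    | mul x y _ _ hx hy =>
      have := mul_mem hx hy
      rwa [show t Q (s i) * x * t Q (s i) * (t Q (s i) * y * t Q (s i)) =
        t Q (s i) * x * (t Q (s i) * t Q (s i)) * y * t Q (s i) by group, t_self, mul_one,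
        mul_assoc (t Q (s i)) x y] at this
    | inv x _ hx =>
      have := inv_mem hx
      rwa [_root_.mul_inv_rev, _root_.mul_inv_rev, t_inv, ← mul_assoc] at this
  haveI hN : H.Normal := by
    rw [← Subgroup.normalizer_eq_top_iff, eq_top_iff, ← hT.gen, Subgroup.closure_le]
    rintro _ ⟨i, rfl⟩
    rw [SetLike.mem_coe, Subgroup.mem_normalizer_iff]
    intro h
    refine ⟨fun hh => by rw [t_inv]; exact hnorm i h hh, fun hh => ?_⟩
    have := hnorm i _ hh
    rwa [t_inv, ← mul_assoc, ← mul_assoc, t_self, one_mul, mul_assoc, t_self, mul_one] at this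
  have hq : ∀ g : O, QuotientGroup.mk' H g ∈ Subgroup.zpowers (QuotientGroup.mk' H (t Q (s 0))) := by
    intro g
    have hg : g ∈ Subgroup.closure (Set.range fun i => t Q (s i)) := by rw [hT.gen]; exact Subgroup.mem_top _
    refine (Subgroup.closure_le (K := (Subgroup.zpowers _).comap (QuotientGroup.mk' H))).2 ?_ hg
    rintro _ ⟨i, rfl⟩
    rw [SetLike.mem_coe, Subgroup.mem_comap,
      show QuotientGroup.mk' H (t Q (s i)) = QuotientGroup.mk' H (t Q (s 0)) from
        QuotientGroup.eq.2 (by rw [t_inv]; exact hgenH i 0)]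
    exact Subgroup.mem_zpowers _
  have hΩ : Cfsg.Omega (ZMod 2) ⇑Q ≤ H := by
    rw [Cfsg.Omega, commutator_def, Subgroup.commutator_le]
    intro g _ h _
    obtain ⟨k, hk⟩ := hq g
    obtain ⟨l, hl⟩ := hq h
    rw [← QuotientGroup.eq_one_iff]
    show QuotientGroup.mk' H ⁅g, h⁆ = 1
    rw [map_commutatorElement, ← hk, ← hl, commutatorElement_eq_one_iff_commute]
    exact Commute.zpow_zpow_self _ k l
  refine ⟨v, fun g => ?_⟩
  obtain ⟨_, h⟩ := hHK (hΩ g.2)
  rw [sub_eq_add']
  exact h

end Tree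

/-! ### Certificates for generation -/

/-- The subgroup generated by the transvections of a set contains those of every vector it reaches. -/
theorem t_step {G : Subgroup O} {w u : V} (hw : Q w = 1) (hu : Q u = 1) (huw : polar Q u w = 1)
    (hGw : t Q w ∈ G) (hGu : t Q u ∈ G) : t Q (w + u) ∈ G := by
  have := mul_mem (mul_mem hGu hGw) hGu
  have e := conj_t (t Q u) hw
  rw [t_inv, t_act hu, huw, one_smul] at e
  rwa [e] at this

/-- Every entry of a checked list is reached. -/
theorem chain_mem {n : ℕ} {G : Subgroup O} (s : Fin n → V) (dec : ℕ → V) (hs : ∀ i, Q (s i) = 1)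
    (hG : ∀ i, t Q (s i) ∈ G) (base : List ℕ) (hbase : ∀ c ∈ base, Q (dec c) = 1 ∧ t Q (dec c) ∈ G) :
    ∀ (L : List (ℕ × ℕ × Fin n)),
      (∀ k (h : k < L.length), L[k].2.1 ∈ base ++ (L.take k).map Prod.fst ∧
        polar Q (s L[k].2.2) (dec L[k].2.1) = 1 ∧ dec L[k].1 = dec L[k].2.1 + s L[k].2.2) →
      ∀ c ∈ base ++ L.map Prod.fst, Q (dec c) = 1 ∧ t Q (dec c) ∈ G := by
  intro L
  induction L using List.reverseRecOn with
  | nil => intro _ c hc; simp at hc; exact hbase c hc
  | append_singleton L e ih =>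
    intro h c hc
    have ih' := ih fun k hk => by
      have := h k (by simp; omega)
      rwa [List.getElem_append_left hk, List.take_append_of_le_length hk.le] at this
    rw [List.map_append, ← List.append_assoc, List.mem_append] at hc
    rcases hc with hc | hc
    · exact ih' c hc
    · obtain ⟨h1, h2, h3⟩ := h L.length (by simp)
      simp only [List.getElem_concat_length, List.take_left'] at h1 h2 h3
      obtain rfl : c = e.1 := by simpa using hc
      obtain ⟨hq, hm⟩ := ih' _ h1
      refine ⟨?_, ?_⟩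
      · rw [h3, QuadraticMap.map_add (f := ⇑Q) (x := dec e.2.1), hq, hs, QuadraticMap.polar_comm, h2]; decide
      · rw [h3]; exact t_step hq (hs _) h2 hm (hG _)

end Cfsg.Agent.Small.OrthH1Two
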