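import Cfsg.Prelude.Def_Classical
import Cfsg.Agent.Lib.Classical.OrthClosed

/-!
The group O⁺₄(2) as a wreath product.
-/

set_option autoImplicit false

namespace Cfsg.Agent.Small.O4Two

open Matrix

abbrev I := Fin 2 ⊕ Fin 2
abbrev O := ↥(Cfsg.isometryGroup (ZMod 2) (Cfsg.quadFormPlus 2 (ZMod 2)))

/-- The three non-zero vectors of the plane. -/
def vec : Fin 3 → Fin 2 → ZMod 2 := ![![1, 0], ![0, 1], ![1, 1]]

/-- A permutation of three letters as a matrix of size two. -/
def T (s : Equiv.Perm (Fin 3)) : Matrix (Fin 2) (Fin 2) (ZMod 2) :=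
  Matrix.of fun i j => vec (s (if j = 0 then 0 else 1)) i

/-- Position of a coordinate in a square of size two. -/
def pos : I → Fin 2 × Fin 2
  | .inl i => (0, i)
  | .inr i => (1, if i = 0 then 1 else 0)

/-- Left multiplication. -/
def lft (s : Equiv.Perm (Fin 3)) : Matrix I I (ZMod 2) :=
  Matrix.of fun i j => if (pos i).2 = (pos j).2 then T s (pos i).1 (pos j).1 else 0

/-- Right multiplication. -/
def rgt (s : Equiv.Perm (Fin 3)) : Matrix I I (ZMod 2) :=
  Matrix.of fun i j => if (pos i).1 = (pos j).1 then T s (pos i).2 (pos j).2 else 0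

theorem lft_one : lft 1 = 1 := by decide +kernel
theorem rgt_one : rgt 1 = 1 := by decide +kernel
theorem lft_mul : ∀ s t, lft (s * t) = lft s * lft t := by decide +kernel
theorem rgt_mul : ∀ s t, rgt (s * t) = rgt s * rgt t := by decide +kernel
theorem lft_rgt : ∀ s t, lft s * rgt t = rgt t * lft s := by decide +kernel
theorem lft_inj : ∀ s, lft s = 1 → s = 1 := by decide +kernel
theorem rgt_inj : ∀ s, rgt s = 1 → s = 1 := by decide +kernel
theorem lft_eq_rgt : ∀ s t, lft s = rgt t → s = 1 := by decide +kernel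

theorem lft_form : ∀ s : Equiv.Perm (Fin 3), ∀ v : I → ZMod 2,
    Cfsg.quadFormPlus 2 (ZMod 2) (lft s *ᵥ v) = Cfsg.quadFormPlus 2 (ZMod 2) v := by
  unfold Cfsg.quadFormPlus
  decide +kernel

theorem rgt_form : ∀ s : Equiv.Perm (Fin 3), ∀ v : I → ZMod 2,
    Cfsg.quadFormPlus 2 (ZMod 2) (rgt s *ᵥ v) = Cfsg.quadFormPlus 2 (ZMod 2) v := by
  unfold Cfsg.quadFormPlus
  decide +kernel

/-- The left factor. -/
def L : Equiv.Perm (Fin 3) →* O :=
  (MonoidHom.toHomUnits ⟨⟨lft, lft_one⟩, lft_mul⟩).codRestrict _ fun s v _ => lft_form s v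

/-- The right factor. -/
def R : Equiv.Perm (Fin 3) →* O :=
  (MonoidHom.toHomUnits ⟨⟨rgt, rgt_one⟩, rgt_mul⟩).codRestrict _ fun s v _ => rgt_form s v

/-- The exchange of the two factors. -/
def swapMat : Matrix I I (ZMod 2) :=
  Matrix.of fun i j => if pos j = ((pos i).2, (pos i).1) then 1 else 0

theorem swap_sq : swapMat * swapMat = 1 := by decide +kernel

theorem swap_form : ∀ v : I → ZMod 2,
    Cfsg.quadFormPlus 2 (ZMod 2) (swapMat *ᵥ v) = Cfsg.quadFormPlus 2 (ZMod 2) v := by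
  unfold Cfsg.quadFormPlus
  decide +kernel

theorem swap_conj : ∀ s, swapMat * lft s * swapMat = rgt s := by decide +kernel

/-- The exchange as an element. -/
def g : O := ⟨⟨swapMat, swapMat, swap_sq, swap_sq⟩, fun v _ => swap_form v⟩

theorem result :
    Nat.card O = 72 ∧
    ∃ (A B : Subgroup O),
      Nonempty (↥A ≃* Equiv.Perm (Fin 3)) ∧ Nonempty (↥B ≃* Equiv.Perm (Fin 3)) ∧ A ⊓ B = ⊥ ∧
      (∀ a ∈ A, ∀ b ∈ B, a * b = b * a) ∧
      (A ⊔ B).index = 2 ∧ ∃ g : O, A.map (MulAut.conj g).toMonoidHom = B := by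
  have hcard : Nat.card O = 72 := by
    refine (Cfsg.Agent.Classical.OCount.card_GO_plus (F := ZMod 2) 1).trans ?_
    simp [ZMod.card]
  have hLi : Function.Injective L := (injective_iff_map_eq_one L).2 fun s hs =>
    lft_inj s (congrArg (fun x : O => ((x.1 : GL I (ZMod 2)) : Matrix I I (ZMod 2))) hs)
  have hRi : Function.Injective R := (injective_iff_map_eq_one R).2 fun s hs =>
    rgt_inj s (congrArg (fun x : O => ((x.1 : GL I (ZMod 2)) : Matrix I I (ZMod 2))) hs)
  have hcomm : ∀ s t, Commute (L s) (R t) := fun s t =>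
    Subtype.ext (Units.ext (lft_rgt s t))
  refine ⟨hcard, L.range, R.range, ⟨(MonoidHom.ofInjective hLi).symm⟩, ⟨(MonoidHom.ofInjective hRi).symm⟩,
    ?_, ?_, ?_, g, ?_⟩
  · rw [eq_bot_iff]
    rintro x ⟨⟨s, rfl⟩, t, ht⟩
    rw [Subgroup.mem_bot, lft_eq_rgt s t
      (congrArg (fun x : O => ((x.1 : GL I (ZMod 2)) : Matrix I I (ZMod 2))) ht).symm, map_one]
  · rintro _ ⟨s, rfl⟩ _ ⟨t, rfl⟩
    exact hcomm s t
  · have hinj : Function.Injective (L.noncommCoprod R hcomm) := by
      refine (injective_iff_map_eq_one _).2 ?_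
      rintro ⟨s, t⟩ hst
      rw [MonoidHom.noncommCoprod_apply] at hst
      have h1 : L s = R t⁻¹ := by rw [map_inv]; exact eq_inv_of_mul_eq_one_left hst
      have hs : s = 1 := lft_eq_rgt s t⁻¹
        (congrArg (fun x : O => ((x.1 : GL I (ZMod 2)) : Matrix I I (ZMod 2))) h1)
      subst hs
      rw [map_one, one_mul] at hst
      have ht : t = 1 := hRi (hst.trans (map_one R).symm)
      rw [ht]
      rfl
    have h36 : Nat.card ↥(L.range ⊔ R.range) = 36 := by
      rw [← MonoidHom.noncommCoprod_range L R hcomm,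
        ← Nat.card_congr (MonoidHom.ofInjective hinj).toEquiv, Nat.card_prod, Nat.card_perm, Nat.card_fin]
      rfl
    have h := (L.range ⊔ R.range).card_mul_index
    rw [h36, hcard] at h
    omega
  · rw [MonoidHom.map_range]
    refine congrArg MonoidHom.range (MonoidHom.ext fun s => Subtype.ext (Units.ext ?_))
    exact swap_conj s

end Cfsg.Agent.Small.O4Two
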