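import Cfsg.Agent.Lib.Small.PGLOrder

/-!
# Sylow 2-subgroups of `PGL(2, q)`, `q + 1` a power of two, meet nontrivially
-/

set_option autoImplicit false
set_option linter.unusedSectionVars false

namespace Cfsg.Agent.Small.PGL2Sylow

open Matrix

open scoped MatrixGroups Pointwise

variable {F : Type*} [Field F]

theorem sq_eq (A : Matrix (Fin 2) (Fin 2) F) :
    A * A = A.trace • A - A.det • (1 : Matrix (Fin 2) (Fin 2) F) := by
  ext i j
  fin_cases i <;> fin_cases j <;>
    simp [Matrix.mul_apply, Fin.sum_univ_two, Matrix.trace_fin_two, Matrix.det_fin_two] <;> ring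

theorem commutant (A X : Matrix (Fin 2) (Fin 2) F) (hA : ∀ a : F, A ≠ a • 1) (h : X * A = A * X) :
    ∃ a b : F, X = a • (1 : Matrix (Fin 2) (Fin 2) F) + b • A := by
  have e := fun i j => congrFun (congrFun h i) j
  simp only [Matrix.mul_apply, Fin.sum_univ_two] at e
  by_cases h01 : A 0 1 = 0
  · by_cases h10 : A 1 0 = 0
    · have hd : A 0 0 - A 1 1 ≠ 0 := fun hd => hA (A 0 0) (by
        ext i j
        fin_cases i <;> fin_cases j <;> simp [h01, h10, (sub_eq_zero.1 hd).symm])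
      have x01 : X 0 1 = 0 := by
        have h1 : X 0 1 * (A 0 0 - A 1 1) = 0 := by linear_combination (-1 : F) * e 0 1 + (X 0 0 - X 1 1) * h01
        exact (mul_eq_zero.1 h1).resolve_right hd
      have x10 : X 1 0 = 0 := by
        have h1 : X 1 0 * (A 0 0 - A 1 1) = 0 := by linear_combination e 1 0 + (X 0 0 - X 1 1) * h10
        exact (mul_eq_zero.1 h1).resolve_right hd
      refine ⟨X 0 0 - (X 0 0 - X 1 1) / (A 0 0 - A 1 1) * A 0 0, (X 0 0 - X 1 1) / (A 0 0 - A 1 1), ?_⟩
      ext i j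
      fin_cases i <;> fin_cases j <;> simp [h01, h10, x01, x10] <;> field_simp <;> ring
    · refine ⟨X 1 1 - X 1 0 / A 1 0 * A 1 1, X 1 0 / A 1 0, ?_⟩
      ext i j
      fin_cases i <;> fin_cases j <;> simp <;> field_simp
      · linear_combination (-1 : F) * e 1 0
      · linear_combination (-1 : F) * e 1 1
  · refine ⟨X 0 0 - X 0 1 / A 0 1 * A 0 0, X 0 1 / A 0 1, ?_⟩
    ext i j
    fin_cases i <;> fin_cases j <;> simp <;> field_simp
    · linear_combination (-1 : F) * e 0 0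
    · linear_combination (-1 : F) * e 0 1

variable [Fintype F]

/-- The sign of an element centralising the class of a traceless lift. -/
theorem sign_of_commute (h2 : (2 : F) ≠ 0) (A g : GL (Fin 2) F) {c : F} (hc : A.1 * A.1 = c • 1) (hc0 : c ≠ 0)
    (h : Commute (QuotientGroup.mk g : GL (Fin 2) F ⧸ Subgroup.center _) (QuotientGroup.mk A)) :
    g.1 * A.1 = A.1 * g.1 ∨ g.1 * A.1 = -(A.1 * g.1) := by
  have h1 : (A * g)⁻¹ * (g * A) ∈ Subgroup.center (GL (Fin 2) F) := QuotientGroup.eq.1 h.symm.eq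
  rw [Matrix.GeneralLinearGroup.center_eq_range_scalar] at h1
  obtain ⟨s, hs⟩ := h1
  have hgA : g.1 * A.1 = (s : F) • (A.1 * g.1) := by
    have e : g * A = A * g * Matrix.GeneralLinearGroup.scalar (Fin 2) s := by rw [hs, mul_inv_cancel_left]
    have e' := congrArg Units.val e
    simp only [Units.val_mul] at e'
    rw [e', Matrix.GeneralLinearGroup.coe_scalar, Matrix.scalar_apply, ← Matrix.smul_one_eq_diagonal, Matrix.mul_smul,
      mul_one]
  have e2 : ((s : F) * s - 1) • (c • g.1) = 0 := by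
    rw [sub_smul, one_smul, sub_eq_zero]
    have hl : g.1 * (A.1 * A.1) = ((s : F) * s) • ((A.1 * A.1) * g.1) := by
      rw [← mul_assoc, hgA, Matrix.smul_mul, mul_assoc A.1, hgA, Matrix.mul_smul, smul_smul, mul_assoc]
    rw [hc, Matrix.mul_smul, mul_one, Matrix.smul_mul, one_mul] at hl
    exact hl.symm
  have hg0 : g.1 ≠ 0 := g.ne_zero
  have e3 : (s : F) * s - 1 = 0 := by
    by_contra hne
    rw [smul_eq_zero_iff_right hne, smul_eq_zero_iff_right hc0] at e2
    exact hg0 e2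
  have e4 : ((s : F) - 1) * ((s : F) + 1) = 0 := by linear_combination e3
  rcases mul_eq_zero.1 e4 with h | h
  · left; rw [hgA, sub_eq_zero.1 h, one_smul]
  · right; rw [hgA, eq_neg_of_add_eq_zero_left h, neg_one_smul]

/-- The centraliser of the class of a traceless involution lift is small. -/
theorem card_centralizer_le (h2 : (2 : F) ≠ 0) (A : GL (Fin 2) F) (ht : A.1.trace = 0)
    (hA : ∀ a : F, A.1 ≠ a • 1) :
    Nat.card (Subgroup.centralizer ({(QuotientGroup.mk A : GL (Fin 2) F ⧸ Subgroup.center _)} : Set _)) ≤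
        2 * (Fintype.card F + 1) ∧
      ((∃ s, s * s = -A.1.det) →
        Nat.card (Subgroup.centralizer ({(QuotientGroup.mk A : GL (Fin 2) F ⧸ Subgroup.center _)} : Set _)) ≤
          2 * (Fintype.card F - 1)) := by
  classical
  obtain ⟨c, hc⟩ : ∃ c, c = -A.1.det := ⟨_, rfl⟩
  have hAA : A.1 * A.1 = c • 1 := by rw [sq_eq, ht, zero_smul, zero_sub, hc, neg_smul]
  have hd : A.1.det ≠ 0 := ((Matrix.isUnit_iff_isUnit_det _).1 A.isUnit).ne_zero
  have hc0 : c ≠ 0 := by rw [hc, neg_ne_zero]; exact hd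
  have hdet : ∀ a b : F, (a • (1 : Matrix (Fin 2) (Fin 2) F) + b • A.1).det = a * a - c * (b * b) := fun a b => by
    rw [Matrix.trace_fin_two] at ht
    rw [hc]
    simp [Matrix.det_fin_two]
    linear_combination (a * b) * ht
  obtain ⟨W, hW⟩ : ∃ W, W = {p : F × F // p.1 * p.1 - c * (p.2 * p.2) ≠ 0} := ⟨_, rfl⟩
  obtain ⟨C, hC⟩ : ∃ C, C = Subgroup.centralizer ({(QuotientGroup.mk A : GL (Fin 2) F ⧸ Subgroup.center _)} : Set _) :=
    ⟨_, rfl⟩
  obtain ⟨P, hP⟩ : ∃ P, P = {g : GL (Fin 2) F // g.1 * A.1 = A.1 * g.1} := ⟨_, rfl⟩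
  obtain ⟨M, hM⟩ : ∃ M, M = {g : GL (Fin 2) F // g.1 * A.1 = -(A.1 * g.1)} := ⟨_, rfl⟩
  have hPW : Nat.card P ≤ Nat.card W := by
    subst hP; subst hW
    choose a b hab using fun g : {g : GL (Fin 2) F // g.1 * A.1 = A.1 * g.1} => commutant A.1 g.1.1 hA g.2
    refine Nat.card_le_card_of_injective (fun g => ⟨(a g, b g), ?_⟩) fun g g' e => ?_
    · show a g * a g - c * (b g * b g) ≠ 0
      rw [← hdet, ← hab]
      exact ((Matrix.isUnit_iff_isUnit_det _).1 g.1.isUnit).ne_zero
    · have e1 := congrArg (fun p : {p : F × F // p.1 * p.1 - c * (p.2 * p.2) ≠ 0} => p.1) e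
      simp only [Prod.mk.injEq] at e1
      exact Subtype.ext (Units.ext (by rw [hab g, hab g', e1.1, e1.2]))
  have hMP : Nat.card M ≤ Nat.card P := by
    subst hP; subst hM
    rcases isEmpty_or_nonempty {g : GL (Fin 2) F // g.1 * A.1 = -(A.1 * g.1)} with h | ⟨⟨g₀, hg₀⟩⟩
    · rw [Nat.card_of_isEmpty]; exact Nat.zero_le _
    refine Nat.card_le_card_of_injective (fun g => ⟨g₀ * g.1, ?_⟩) fun g g' e => Subtype.ext ?_
    · rw [Units.val_mul, mul_assoc, g.2, mul_neg, ← mul_assoc, hg₀, neg_mul, neg_neg, mul_assoc]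
    · exact mul_left_cancel (congrArg Subtype.val e)
  have hCPM : (Fintype.card F - 1) * Nat.card C ≤ 2 * Nat.card W := by
    rw [← PGLOrder.card_center (F := F) (d := 2) (by norm_num), mul_comm, ← Nat.card_prod]
    refine le_trans ?_ (show Nat.card P + Nat.card M ≤ 2 * Nat.card W by omega)
    subst hC; subst hP; subst hM
    rw [← Nat.card_sum]
    have hsign : ∀ g : GL (Fin 2) F, (QuotientGroup.mk g : GL (Fin 2) F ⧸ Subgroup.center _) ∈
        Subgroup.centralizer ({(QuotientGroup.mk A : GL (Fin 2) F ⧸ Subgroup.center _)} : Set _) →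
        g.1 * A.1 = A.1 * g.1 ∨ g.1 * A.1 = -(A.1 * g.1) := fun g hg =>
      sign_of_commute h2 A g hAA hc0 (Subgroup.mem_centralizer_singleton_iff.1 hg)
    let lift : ↥(Subgroup.centralizer ({(QuotientGroup.mk A : GL (Fin 2) F ⧸ Subgroup.center _)} : Set _)) ×
        ↥(Subgroup.center (GL (Fin 2) F)) → GL (Fin 2) F := fun x => Quotient.out x.1.1 * x.2.1
    have hmk : ∀ x, (QuotientGroup.mk (lift x) : GL (Fin 2) F ⧸ Subgroup.center _) = x.1.1 := fun x => by
      rw [QuotientGroup.mk_mul_of_mem _ x.2.2]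
      exact Quotient.out_eq _
    have hinj : Function.Injective lift := fun x y e => by
      have e1 : x.1 = y.1 := Subtype.ext (by rw [← hmk x, ← hmk y, e])
      refine Prod.ext e1 (Subtype.ext ?_)
      change Quotient.out x.1.1 * x.2.1 = Quotient.out y.1.1 * y.2.1 at e
      rw [e1] at e
      exact mul_left_cancel e
    refine Nat.card_le_card_of_injective
      (fun x => if h : (lift x).1 * A.1 = A.1 * (lift x).1 then Sum.inl ⟨lift x, h⟩ else
        Sum.inr ⟨lift x, (hsign _ (by rw [hmk]; exact x.1.2)).resolve_left h⟩) fun x y e => hinj ?_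
    simp only at e
    split_ifs at e <;> simp_all
  have hW0 : Nat.card W ≤ Fintype.card F * Fintype.card F - 1 := by
    subst hW
    rw [Nat.card_eq_fintype_card, Fintype.card_subtype, ← Fintype.card_prod]
    refine Nat.le_sub_one_of_lt (Finset.card_lt_univ_of_notMem (x := ((0 : F), (0 : F))) ?_)
    simp
  have hq : 1 < Fintype.card F := Fintype.one_lt_card
  subst hC
  refine ⟨?_, fun hs => ?_⟩
  · have e : Fintype.card F * Fintype.card F - 1 = (Fintype.card F - 1) * (Fintype.card F + 1) := by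
      obtain ⟨r, hr⟩ : ∃ r, Fintype.card F = r + 1 := ⟨_, (Nat.sub_add_cancel hq.le).symm⟩
      rw [hr, Nat.add_sub_cancel]
      have : (r + 1) * (r + 1) = r * (r + 1 + 1) + 1 := by ring
      omega
    rw [e] at hW0
    refine Nat.le_of_mul_le_mul_left (hCPM.trans ?_) (Nat.sub_pos_of_lt hq)
    calc 2 * Nat.card W ≤ 2 * ((Fintype.card F - 1) * (Fintype.card F + 1)) := Nat.mul_le_mul_left 2 hW0
      _ = _ := by ring
  · obtain ⟨s, hs⟩ := hs
    rw [← hc] at hs
    have hW1 : Nat.card W ≤ (Fintype.card F - 1) * (Fintype.card F - 1) := by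
      subst hW
      have hs0 : s ≠ 0 := fun h => hc0 (by rw [← hs, h, mul_zero])
      rw [← Nat.card_eq_fintype_card, ← Nat.card_units, ← Nat.card_prod]
      refine Nat.card_le_card_of_injective (fun p =>
        (Units.mk0 (p.1.1 - s * p.1.2) fun h => p.2 (by linear_combination (p.1.1 + s * p.1.2) * h + (p.1.2 * p.1.2) * hs),
          Units.mk0 (p.1.1 + s * p.1.2) fun h => p.2 (by linear_combination (p.1.1 - s * p.1.2) * h + (p.1.2 * p.1.2) * hs)))
        fun p p' e => ?_
      simp only [Prod.mk.injEq, Units.ext_iff, Units.val_mk0] at e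
      have h1 : (2 : F) * (p.1.1 - p'.1.1) = 0 := by linear_combination e.1 + e.2
      have h2' : (2 : F) * s * (p.1.2 - p'.1.2) = 0 := by linear_combination e.2 - e.1
      exact Subtype.ext (Prod.ext (sub_eq_zero.1 ((mul_eq_zero.1 h1).resolve_left h2))
        (sub_eq_zero.1 ((mul_eq_zero.1 h2').resolve_left (mul_ne_zero h2 hs0))))
    refine Nat.le_of_mul_le_mul_left (hCPM.trans ?_) (Nat.sub_pos_of_lt hq)
    calc 2 * Nat.card W ≤ 2 * ((Fintype.card F - 1) * (Fintype.card F - 1)) := Nat.mul_le_mul_left 2 hW1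
      _ = _ := by ring

/-- Two Sylow 2-subgroups meet nontrivially. -/
theorem inter_ne_bot {k : ℕ} (hk : Fintype.card F + 1 = 2 ^ k) (hq : 7 ≤ Fintype.card F)
    (H : Sylow 2 (GL (Fin 2) F ⧸ Subgroup.center (GL (Fin 2) F)))
    (x : GL (Fin 2) F ⧸ Subgroup.center (GL (Fin 2) F)) :
    (H : Subgroup (GL (Fin 2) F ⧸ Subgroup.center (GL (Fin 2) F))) ⊓ MulAut.conj x • (H : Subgroup (GL (Fin 2) F ⧸ Subgroup.center (GL (Fin 2) F))) ≠ ⊥ := by
  classical
  obtain ⟨q, hqd⟩ : ∃ q, q = Fintype.card F := ⟨_, rfl⟩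
  obtain ⟨j, rfl⟩ : ∃ j, k = j + 1 := ⟨k - 1, by
    rcases k with _ | k
    · rw [pow_zero] at hk; omega
    · omega⟩
  have h2 : (2 : F) ≠ 0 := by
    intro h
    haveI : CharP F 2 := CharTwo.of_one_ne_zero_of_two_eq_zero one_ne_zero h
    obtain ⟨r, -, hr⟩ := FiniteField.card F 2
    have h1 : 2 ∣ Fintype.card F := hr ▸ dvd_pow_self 2 r.2.ne'
    have h3 : 2 ∣ 2 ^ (j + 1) := dvd_pow_self 2 (by omega)
    omega
  -- the order of the Sylow subgroup
  have hcard : Nat.card (GL (Fin 2) F ⧸ Subgroup.center (GL (Fin 2) F)) = q * (q + 1) * (q - 1) := by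
    have h1 := Subgroup.card_eq_card_quotient_mul_card_subgroup (Subgroup.center (GL (Fin 2) F))
    rw [Matrix.card_GL_field, Fin.prod_univ_two, PGLOrder.card_center (by norm_num), ← hqd] at h1
    refine Nat.eq_of_mul_eq_mul_right (show 0 < q - 1 by omega) (h1.symm.trans ?_)
    obtain ⟨r, rfl⟩ : ∃ r, q = r + 1 := ⟨q - 1, by omega⟩
    simp only [Fin.val_zero, Fin.val_one, pow_zero, pow_one, Nat.add_sub_cancel]
    rw [show (r + 1) ^ 2 = r * (r + 2) + 1 by ring, Nat.add_sub_cancel,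
      show r * (r + 2) + 1 - (r + 1) = r * (r + 1) by rw [show r * (r + 2) + 1 = r * (r + 1) + (r + 1) by ring, Nat.add_sub_cancel]]
    ring
  have hHlow : 2 * (q + 1) ≤ Nat.card H := by
    refine Nat.le_of_dvd Nat.card_pos ?_
    rw [hqd, hk, ← pow_succ']
    refine H.pow_dvd_card_of_pow_dvd_card ?_
    rw [hcard, hqd, hk, pow_succ]
    exact mul_dvd_mul (dvd_mul_left _ _) (by omega)
  have hH1 : Nontrivial H := Finite.one_lt_card_iff_nontrivial.1 (by omega)
  haveI := (H.isPGroup'.center_nontrivial : Nontrivial (Subgroup.center H))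
  obtain ⟨z, hz⟩ := exists_prime_orderOf_dvd_card' (G := Subgroup.center H) 2 (by
    obtain ⟨i, hi⟩ := IsPGroup.iff_card.1 (H.isPGroup'.to_subgroup (Subgroup.center H))
    have : i ≠ 0 := fun h => by rw [h, pow_zero] at hi; have := Finite.one_lt_card (α := Subgroup.center H); omega
    exact hi ▸ dvd_pow_self 2 this)
  obtain ⟨Z, hZd⟩ : ∃ Z, Z = ((z : H) : GL (Fin 2) F ⧸ Subgroup.center (GL (Fin 2) F)) := ⟨_, rfl⟩
  have hZo : orderOf Z = 2 := by rw [hZd, Subgroup.orderOf_coe, Subgroup.orderOf_coe, hz]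
  obtain ⟨A, hA⟩ := QuotientGroup.mk_surjective Z
  have hAns : ∀ a : F, A.1 ≠ a • 1 := fun a h => by
    have hmem : A ∈ Subgroup.center (GL (Fin 2) F) := by
      rw [Matrix.GeneralLinearGroup.mem_center_iff_val_mem_range_scalar]
      exact ⟨a, by rw [h, Matrix.scalar_apply, Matrix.smul_one_eq_diagonal]⟩
    rw [← hA, (QuotientGroup.eq_one_iff A).2 hmem, orderOf_one] at hZo
    omega
  have hAA : A * A ∈ Subgroup.center (GL (Fin 2) F) := by
    rw [← QuotientGroup.eq_one_iff, QuotientGroup.mk_mul, hA, ← pow_two]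
    exact orderOf_dvd_iff_pow_eq_one.1 (by rw [hZo])
  have ht : A.1.trace = 0 := by
    obtain ⟨c, hc⟩ := Matrix.GeneralLinearGroup.mem_center_iff_val_mem_range_scalar.1 hAA
    rw [Units.val_mul, sq_eq, Matrix.scalar_apply, ← Matrix.smul_one_eq_diagonal] at hc
    by_contra hne
    refine hAns ((c + A.1.det) / A.1.trace) ?_
    rw [div_eq_inv_mul, ← smul_smul, add_smul, hc, sub_add_cancel, inv_smul_smul₀ hne]
  have hZc : ∀ h ∈ H, Commute h Z := fun h hh => by
    rw [hZd]
    exact congrArg Subtype.val (Subgroup.mem_center_iff.1 z.2 ⟨h, hh⟩)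
  obtain ⟨hle, hsq⟩ := card_centralizer_le h2 A ht hAns
  rw [hA, ← hqd] at hle hsq
  have hHle : (H : Subgroup (GL (Fin 2) F ⧸ Subgroup.center (GL (Fin 2) F))) ≤ Subgroup.centralizer {Z} := fun h hh =>
    Subgroup.mem_centralizer_singleton_iff.2 (hZc h hh).eq
  have hHC : (H : Subgroup (GL (Fin 2) F ⧸ Subgroup.center (GL (Fin 2) F))) = Subgroup.centralizer {Z} :=
    Subgroup.eq_of_le_of_card_ge hHle (hle.trans hHlow)
  have hns : ∀ s : F, s * s ≠ -A.1.det := fun s hs => by
    have := (Subgroup.card_le_of_le hHle).trans (hsq ⟨s, hs⟩)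
    omega
  -- the conjugate
  obtain ⟨X, hX⟩ := QuotientGroup.mk_surjective x
  obtain ⟨A', hA'⟩ : ∃ A', A' = X * A * X⁻¹ := ⟨_, rfl⟩
  have hA'Z : (QuotientGroup.mk A' : GL (Fin 2) F ⧸ Subgroup.center _) = x * Z * x⁻¹ := by
    rw [hA', QuotientGroup.mk_mul, QuotientGroup.mk_mul, QuotientGroup.mk_inv, hX, hA]
  have ht' : A'.1.trace = 0 := by rw [hA', Units.val_mul, Units.val_mul, Matrix.trace_units_conj, ht]
  have hd' : A'.1.det = A.1.det := by rw [hA', Units.val_mul, Units.val_mul, Matrix.det_units_conj]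
  have hmem : ∀ r : GL (Fin 2) F ⧸ Subgroup.center (GL (Fin 2) F), Commute r Z → Commute r (x * Z * x⁻¹) →
      r ∈ (H : Subgroup (GL (Fin 2) F ⧸ Subgroup.center (GL (Fin 2) F))) ⊓ MulAut.conj x • (H : Subgroup (GL (Fin 2) F ⧸ Subgroup.center (GL (Fin 2) F))) := fun r h1 h3 => by
    refine ⟨by rw [hHC]; exact Subgroup.mem_centralizer_singleton_iff.2 h1.eq, ?_⟩
    show r ∈ MulAut.conj x • (H : Subgroup (GL (Fin 2) F ⧸ Subgroup.center (GL (Fin 2) F)))
    rw [Subgroup.mem_pointwise_smul_iff_inv_smul_mem, MulAut.smul_def, MulAut.inv_apply, MulAut.conj_symm_apply, hHC,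
      Subgroup.mem_centralizer_singleton_iff]
    calc x⁻¹ * r * x * Z = x⁻¹ * (r * (x * Z * x⁻¹)) * x := by group
      _ = Z * (x⁻¹ * r * x) := by rw [h3.eq]; group
  have hfin : ∀ r : GL (Fin 2) F ⧸ Subgroup.center (GL (Fin 2) F), Commute r Z → Commute r (x * Z * x⁻¹) → r ≠ 1 →
      (H : Subgroup (GL (Fin 2) F ⧸ Subgroup.center (GL (Fin 2) F))) ⊓ MulAut.conj x • (H : Subgroup (GL (Fin 2) F ⧸ Subgroup.center (GL (Fin 2) F))) ≠ ⊥ := fun r h1 h3 h4 hbot => by
    have := hmem r h1 h3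
    rw [hbot, Subgroup.mem_bot] at this
    exact h4 this
  obtain ⟨R, hR⟩ : ∃ R, R = A.1 * A'.1 - A'.1 * A.1 := ⟨_, rfl⟩
  by_cases hR0 : R = 0
  · obtain ⟨a, b, hab⟩ := commutant A.1 A'.1 hAns (sub_eq_zero.1 (hR ▸ hR0)).symm
    have ha : a = 0 := by
      have h1 := congrArg Matrix.trace hab
      rw [ht', Matrix.trace_add, Matrix.trace_smul, Matrix.trace_smul, Matrix.trace_one, ht, smul_zero, add_zero,
        Fintype.card_fin, smul_eq_mul, Nat.cast_ofNat] at h1
      exact (mul_eq_zero.1 h1.symm).resolve_right h2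
    rw [ha, zero_smul, zero_add] at hab
    refine hfin Z (Commute.refl Z) ?_ (fun h => by rw [h, orderOf_one] at hZo; omega)
    rw [← hA'Z, ← hA]
    show QuotientGroup.mk A * QuotientGroup.mk A' = QuotientGroup.mk A' * QuotientGroup.mk A
    rw [← QuotientGroup.mk_mul, ← QuotientGroup.mk_mul]
    congr 1
    apply Units.ext
    rw [Units.val_mul, Units.val_mul, hab, Matrix.mul_smul, Matrix.smul_mul]
  · have hs1 : A.1 * A.1 = (-A.1.det) • 1 := by rw [sq_eq, ht, zero_smul, zero_sub, neg_smul]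
    have hs2 : A'.1 * A'.1 = (-A.1.det) • 1 := by rw [sq_eq, ht', zero_smul, zero_sub, neg_smul, hd']
    have hRA : R * A.1 = -(A.1 * R) := by
      rw [hR, sub_mul, mul_sub, neg_sub, mul_assoc A'.1, hs1, Matrix.mul_smul, mul_one, ← mul_assoc A.1 A.1, hs1,
        Matrix.smul_mul, one_mul, mul_assoc]
    have hRA' : R * A'.1 = -(A'.1 * R) := by
      rw [hR, sub_mul, mul_sub, neg_sub, mul_assoc A.1 A'.1, hs2, Matrix.mul_smul, mul_one, ← mul_assoc A'.1 A'.1, hs2,
        Matrix.smul_mul, one_mul, mul_assoc]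
    have htR : R.trace = 0 := by rw [hR, Matrix.trace_sub, Matrix.trace_mul_comm, sub_self]
    have hdR : R.det ≠ 0 := by
      intro hd
      have hRR : R * R = 0 := by rw [sq_eq, htR, hd, zero_smul, zero_smul, sub_zero]
      obtain ⟨v, hv⟩ : ∃ v, R *ᵥ v ≠ 0 := by
        by_contra h
        push Not at h
        exact hR0 (Matrix.ext_of_mulVec_single fun i => by rw [h, Matrix.zero_mulVec])
      obtain ⟨w, hw⟩ : ∃ w, w = R *ᵥ v := ⟨_, rfl⟩
      rw [← hw] at hv
      have hRw : R *ᵥ w = 0 := by rw [hw, Matrix.mulVec_mulVec, hRR, Matrix.zero_mulVec]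
      have hRAw : R *ᵥ (A.1 *ᵥ w) = 0 := by
        rw [Matrix.mulVec_mulVec, hRA, Matrix.neg_mulVec, ← Matrix.mulVec_mulVec, hRw, Matrix.mulVec_zero, neg_zero]
      obtain ⟨u, hu⟩ : ∃ u, u = A.1 *ᵥ w := ⟨_, rfl⟩
      rw [← hu] at hRAw
      have hdep : w 0 * u 1 - w 1 * u 0 = 0 := by
        by_contra hne
        refine hR0 ?_
        have hM : R * !![w 0, u 0; w 1, u 1] = 0 := by
          ext i j
          have h1 := congrFun hRw i
          have h3 := congrFun hRAw i
          simp [Matrix.mulVec, dotProduct, Fin.sum_univ_two] at h1 h3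
          fin_cases j <;> simp [Matrix.mul_apply, Fin.sum_univ_two, h1, h3]
        have hu2 : IsUnit (!![w 0, u 0; w 1, u 1]).det := by
          rw [Matrix.det_fin_two_of, isUnit_iff_ne_zero, mul_comm (u 0)]
          exact hne
        rw [← Matrix.mul_nonsing_inv_cancel_right _ R hu2, hM, Matrix.zero_mul]
      obtain ⟨e, he⟩ : ∃ e : F, u = e • w := by
        by_cases h0 : w 0 = 0
        · have h1 : w 1 ≠ 0 := fun h1 => hv (funext fun i => by fin_cases i <;> assumption)
          refine ⟨u 1 / w 1, funext fun i => ?_⟩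
          fin_cases i
          · simpa [h0, h1] using hdep
          · simp [h1]
        · refine ⟨u 0 / w 0, funext fun i => ?_⟩
          fin_cases i <;> simp <;> field_simp
          linear_combination hdep
      refine hns e ?_
      have h1 : A.1 *ᵥ (A.1 *ᵥ w) = (e * e) • w := by rw [← hu, he, Matrix.mulVec_smul, ← hu, he, smul_smul]
      rw [Matrix.mulVec_mulVec, hs1, Matrix.smul_mulVec, Matrix.one_mulVec] at h1
      exact (smul_left_injective F hv h1).symm
    obtain ⟨Ru, hRu⟩ : ∃ Ru : GL (Fin 2) F, Ru.1 = R := ⟨GeneralLinearGroup.mkOfDetNeZero R hdR, rfl⟩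
    have key : ∀ B : GL (Fin 2) F, Ru.1 * B.1 = -(B.1 * Ru.1) →
        Commute (QuotientGroup.mk Ru : GL (Fin 2) F ⧸ Subgroup.center _) (QuotientGroup.mk B) := fun B hB => by
      show QuotientGroup.mk Ru * QuotientGroup.mk B = QuotientGroup.mk B * QuotientGroup.mk Ru
      rw [← QuotientGroup.mk_mul, ← QuotientGroup.mk_mul, QuotientGroup.eq,
        Matrix.GeneralLinearGroup.mem_center_iff_val_mem_range_scalar]
      refine ⟨-1, ?_⟩
      rw [map_neg, map_one, Units.val_mul]
      have : (B * Ru).1 = -((Ru * B).1) := by rw [Units.val_mul, Units.val_mul, hB, neg_neg]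
      rw [this, mul_neg, Units.inv_mul]
    refine hfin (QuotientGroup.mk Ru) (hA ▸ key A (by rw [hRu]; exact hRA))
      (hA'Z ▸ key A' (by rw [hRu]; exact hRA')) fun h => ?_
    obtain ⟨a, ha⟩ := Matrix.GeneralLinearGroup.mem_center_iff_val_mem_range_scalar.1 ((QuotientGroup.eq_one_iff Ru).1 h)
    rw [hRu, Matrix.scalar_apply] at ha
    rw [← ha, Matrix.trace_diagonal, Finset.sum_const, Finset.card_univ, Fintype.card_fin, two_nsmul, ← two_mul] at htR
    refine hR0 ?_
    rw [← ha, (mul_eq_zero.1 htR).resolve_left h2, Matrix.diagonal_zero]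

end Cfsg.Agent.Small.PGL2Sylow
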