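import Mathlib
import Cfsg.Agent.Lib.Small.Semisimple

/-!
# Conjugacy classes of involutions of `PGL_n(q)`, `q` odd
-/

set_option autoImplicit false
set_option linter.unusedSectionVars false

namespace Cfsg.Agent.Small.PGLInvolutions

open Polynomial Matrix

universe u

variable {F : Type u} [Field F] [Fintype F] {n : ℕ}

omit [Fintype F] in
theorem mem_center_iff' {g : GL (Fin n) F} :
    g ∈ Subgroup.center (GL (Fin n) F) ↔ ∃ c : Fˣ, (g : Matrix (Fin n) (Fin n) F) = (c : F) • 1 := by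
  rw [Matrix.GeneralLinearGroup.center_eq_range_scalar]
  constructor
  · rintro ⟨c, rfl⟩
    exact ⟨c, by rw [Matrix.smul_one_eq_diagonal]; rfl⟩
  · rintro ⟨c, hc⟩
    exact ⟨c, Units.ext (by rw [hc, Matrix.smul_one_eq_diagonal]; rfl)⟩

omit [Fintype F] in
theorem mk_eq_mk_iff {g h : GL (Fin n) F} :
    (g : GL (Fin n) F ⧸ Subgroup.center (GL (Fin n) F)) = h ↔
      ∃ c : Fˣ, (h : Matrix (Fin n) (Fin n) F) = (c : F) • (g : Matrix (Fin n) (Fin n) F) := by
  rw [QuotientGroup.eq, mem_center_iff']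
  refine exists_congr fun c => ?_
  rw [Units.val_mul]
  constructor
  · intro hc
    rw [← one_mul (h : Matrix (Fin n) (Fin n) F), ← Units.mul_inv g, mul_assoc, hc, Matrix.mul_smul, mul_one]
  · intro hc
    rw [hc, Matrix.mul_smul, Units.inv_mul]

omit [Fintype F] in
theorem conj_mk_iff {g h : GL (Fin n) F} :
    ConjClasses.mk (g : GL (Fin n) F ⧸ Subgroup.center (GL (Fin n) F)) = ConjClasses.mk (h : GL (Fin n) F ⧸ _) ↔
      ∃ (P : GL (Fin n) F) (c : Fˣ), (h : Matrix (Fin n) (Fin n) F) =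
        (c : F) • ((P * g * P⁻¹ : GL (Fin n) F) : Matrix (Fin n) (Fin n) F) := by
  rw [ConjClasses.mk_eq_mk_iff_isConj, isConj_iff]
  constructor
  · rintro ⟨P', hP⟩
    obtain ⟨P, rfl⟩ := QuotientGroup.mk_surjective P'
    rw [← QuotientGroup.mk_inv, ← QuotientGroup.mk_mul, ← QuotientGroup.mk_mul, mk_eq_mk_iff] at hP
    exact ⟨P, hP⟩
  · rintro ⟨P, hP⟩
    refine ⟨(P : GL (Fin n) F ⧸ _), ?_⟩
    rw [← QuotientGroup.mk_inv, ← QuotientGroup.mk_mul, ← QuotientGroup.mk_mul, mk_eq_mk_iff]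
    exact hP

omit [Fintype F] in
/-- A monic polynomial whose irreducible factors are all `f` is a power of `f`. -/
theorem eq_pow_of_factor {f : F[X]} (hf : Irreducible f) (hfm : f.Monic) :
    ∀ (d : ℕ) (P : F[X]), P.natDegree = d → P.Monic → (∀ g, Irreducible g → g ∣ P → g ∣ f) →
      ∃ k, P = f ^ k := by
  intro d
  induction d using Nat.strong_induction_on with
  | _ d ih =>
    intro P hd hP hfac
    by_cases hu : IsUnit P
    · exact ⟨0, by rw [pow_zero, hP.isUnit_iff.1 hu]⟩
    obtain ⟨g, hg, hgP⟩ := WfDvdMonoid.exists_irreducible_factor hu hP.ne_zero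
    have hfP : f ∣ P := ((hg.associated_of_dvd hf (hfac g hg hgP)).symm.dvd).trans hgP
    obtain ⟨Q, rfl⟩ := hfP
    have hQ : Q.Monic := hfm.of_mul_monic_left hP
    obtain ⟨k, hk⟩ := ih Q.natDegree (by
      rw [← hd, hfm.natDegree_mul hQ]
      have := hf.natDegree_pos
      omega) Q rfl hQ fun g hg h => hfac g hg (h.mul_left f)
    exact ⟨k + 1, by rw [hk, pow_succ']⟩

omit [Fintype F] in
theorem dvd_quad {g : Matrix (Fin n) (Fin n) F} {c : F} (hg : g * g = c • 1) {f : F[X]} (hf : Irreducible f)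
    (hdvd : f ∣ g.charpoly) : f ∣ X ^ 2 - C c := by
  refine (Semisimple.dvd_minpoly_of_dvd_charpoly g hf hdvd).trans (minpoly.dvd F g ?_)
  rw [map_sub, map_pow, aeval_X, aeval_C, pow_two, hg, Algebra.algebraMap_eq_smul_one, sub_self]

omit [Fintype F] in
theorem charpoly_one {g : Matrix (Fin n) (Fin n) F} (hg : g * g = 1) :
    ∃ b, b ≤ n ∧ g.charpoly = (X + 1) ^ b * (X - 1) ^ (n - b) := by
  classical
  have hP := Matrix.charpoly_monic g
  have hdeg : g.charpoly.natDegree = n := by rw [Matrix.charpoly_natDegree_eq_dim, Fintype.card_fin]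
  obtain ⟨Q, hQ, hQ1⟩ := Polynomial.exists_eq_pow_rootMultiplicity_mul_and_not_dvd g.charpoly hP.ne_zero (-1)
  rw [map_neg, map_one, sub_neg_eq_add] at hQ hQ1
  have hm : ((X : F[X]) + 1).Monic := by simpa using monic_X_add_C (1 : F)
  have hQm : Q.Monic := (hm.pow _).of_mul_monic_left (hQ ▸ hP)
  obtain ⟨k, hk⟩ := eq_pow_of_factor (f := X - 1) (by simpa using irreducible_X_sub_C (1 : F))
    (by simpa using monic_X_sub_C (1 : F)) _ Q rfl hQm fun f hf hfQ => by
      have h := dvd_quad (c := 1) (by rw [hg, one_smul]) hf (hQ.symm ▸ hfQ.mul_left _ : f ∣ g.charpoly)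
      rw [map_one, show (X : F[X]) ^ 2 - 1 = (X + 1) * (X - 1) by ring] at h
      rcases hf.prime.dvd_mul.1 h with h | h
      · refine absurd ?_ hQ1
        have hi : Irreducible ((X : F[X]) + 1) := by simpa using irreducible_X_sub_C (-1 : F)
        exact (hf.associated_of_dvd hi h).symm.dvd.trans hfQ
      · exact h
  rw [hk] at hQ
  have h1 : g.charpoly.natDegree = g.charpoly.rootMultiplicity (-1) + k := by
    conv_lhs => rw [hQ]
    rw [(hm.pow _).natDegree_mul (by simpa using (monic_X_sub_C (1 : F)).pow k), natDegree_pow, natDegree_pow,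
      show (X : F[X]) + 1 = X + C 1 by rw [map_one], natDegree_X_add_C,
      show (X : F[X]) - 1 = X - C 1 by rw [map_one], natDegree_X_sub_C, mul_one, mul_one]
  refine ⟨g.charpoly.rootMultiplicity (-1), by omega, ?_⟩
  rw [show n - g.charpoly.rootMultiplicity (-1) = k by omega]
  exact hQ

omit [Fintype F] in
theorem charpoly_sq {g : Matrix (Fin n) (Fin n) F} {c : F} (hc : ¬ IsSquare c) (hg : g * g = c • 1) :
    ∃ k, n = 2 * k ∧ g.charpoly = (X ^ 2 - C c) ^ k := by
  have hm : ((X : F[X]) ^ 2 - C c).Monic := monic_X_pow_sub_C c two_ne_zero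
  have hd : ((X : F[X]) ^ 2 - C c).natDegree = 2 := natDegree_X_pow_sub_C
  have hi : Irreducible ((X : F[X]) ^ 2 - C c) := by
    rw [irreducible_iff_roots_eq_zero_of_degree_le_three (by omega) (by omega), Multiset.eq_zero_iff_forall_notMem]
    intro x hx
    rw [mem_roots hm.ne_zero, IsRoot, eval_sub, eval_pow, eval_X, eval_C, sub_eq_zero] at hx
    exact hc ⟨x, by rw [← hx, pow_two]⟩
  obtain ⟨k, hk⟩ := eq_pow_of_factor hi hm _ g.charpoly rfl (Matrix.charpoly_monic g) fun f hf h => dvd_quad hg hf h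
  refine ⟨k, ?_, hk⟩
  have := congrArg natDegree hk
  rw [Matrix.charpoly_natDegree_eq_dim, Fintype.card_fin, natDegree_pow, hd] at this
  omega

theorem coprime_order {p : ℕ} [Fact p.Prime] [CharP F p] (h2 : p ≠ 2) {g : GL (Fin n) F} {c : Fˣ}
    (hg : (g : Matrix (Fin n) (Fin n) F) * g = (c : F) • 1) : (orderOf g).Coprime p := by
  have h1 : g ^ (2 * (Fintype.card F - 1)) = 1 := by
    refine Units.ext ?_
    rw [Units.val_pow_eq_pow_val, pow_mul, pow_two, hg, _root_.smul_pow, one_pow,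
      FiniteField.pow_card_sub_one_eq_one _ c.ne_zero, one_smul, Units.val_one]
  refine Nat.Coprime.coprime_dvd_left (orderOf_dvd_of_pow_eq_one h1) ?_
  rw [Nat.coprime_comm, (Fact.out : p.Prime).coprime_iff_not_dvd]
  intro h
  rcases (Fact.out : p.Prime).dvd_mul.1 h with h | h
  · exact h2 ((Nat.prime_dvd_prime_iff_eq Fact.out Nat.prime_two).1 h)
  · obtain ⟨e, he⟩ := FiniteField.card F p
    have hpq : p ∣ Fintype.card F := by rw [he.2]; exact dvd_pow_self p e.ne_zero
    have := Nat.dvd_sub hpq h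
    rw [Nat.sub_sub_self Fintype.card_pos, Nat.dvd_one] at this
    exact (Fact.out : p.Prime).ne_one this

omit [Fintype F] in
theorem exists_diag (b : ℕ) (hb : b ≤ n) :
    ∃ D : GL (Fin n) F, (D : Matrix (Fin n) (Fin n) F) * D = 1 ∧
      (D : Matrix (Fin n) (Fin n) F).charpoly = (X + 1) ^ b * (X - 1) ^ (n - b) ∧
      (-(D : Matrix (Fin n) (Fin n) F)).charpoly = (X - 1) ^ b * (X + 1) ^ (n - b) := by
  classical
  obtain ⟨d, hd⟩ : ∃ d : Fin n → F, ∀ j, d j = if (j : ℕ) < b then -1 else 1 := ⟨_, fun _ => rfl⟩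
  have hdd : Matrix.diagonal d * Matrix.diagonal d = 1 := by
    rw [Matrix.diagonal_mul_diagonal, ← Matrix.diagonal_one]
    congr 1
    funext j
    rw [hd]
    split_ifs <;> simp
  refine ⟨⟨Matrix.diagonal d, Matrix.diagonal d, hdd, hdd⟩, hdd, ?_, ?_⟩
  · show (Matrix.diagonal d).charpoly = _
    rw [Matrix.charpoly_diagonal]
    simp only [hd]
    rw [Fin.prod_univ_eq_prod_range (fun j => (X : F[X]) - C (if j < b then (-1 : F) else 1)),
      ← Finset.prod_range_mul_prod_Ico _ hb,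
      Finset.prod_congr rfl (g := fun _ => (X : F[X]) + 1) fun j hj => by
        rw [if_pos (Finset.mem_range.1 hj), map_neg, map_one, sub_neg_eq_add],
      Finset.prod_congr rfl (s₁ := Finset.Ico b n) (g := fun _ => (X : F[X]) - 1) fun j hj => by
        rw [if_neg (by have := Finset.mem_Ico.1 hj; omega), map_one],
      Finset.prod_const, Finset.prod_const, Finset.card_range, Nat.card_Ico]
  · show (-Matrix.diagonal d).charpoly = _
    rw [Matrix.diagonal_neg, Matrix.charpoly_diagonal]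
    simp only [hd]
    rw [Fin.prod_univ_eq_prod_range (fun j => (X : F[X]) - C (-(if j < b then (-1 : F) else 1))),
      ← Finset.prod_range_mul_prod_Ico _ hb,
      Finset.prod_congr rfl (g := fun _ => (X : F[X]) - 1) fun j hj => by
        rw [if_pos (Finset.mem_range.1 hj), neg_neg, map_one],
      Finset.prod_congr rfl (s₁ := Finset.Ico b n) (g := fun _ => (X : F[X]) + 1) fun j hj => by
        rw [if_neg (by have := Finset.mem_Ico.1 hj; omega), map_neg, map_one, sub_neg_eq_add],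
      Finset.prod_const, Finset.prod_const, Finset.card_range, Nat.card_Ico]

omit [Fintype F] in
theorem exists_mu {μ : F} (hμ : μ ≠ 0) (hn : Even n) :
    ∃ D : GL (Fin n) F, (D : Matrix (Fin n) (Fin n) F) * D = μ • 1 := by
  obtain ⟨m, rfl⟩ := hn
  let e : Fin m ⊕ Fin m ≃ Fin (m + m) := finSumFinEquiv
  let M : Matrix (Fin m ⊕ Fin m) (Fin m ⊕ Fin m) F := Matrix.fromBlocks 0 1 (μ • 1) 0
  have hM : M * M = μ • 1 := by
    simp only [M, Matrix.fromBlocks_multiply, zero_mul, mul_zero, add_zero, zero_add, one_mul, mul_one]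
    rw [← Matrix.fromBlocks_one, Matrix.fromBlocks_smul, smul_zero]
  obtain ⟨A, hA⟩ : ∃ A, A = Matrix.reindexAlgEquiv F F e M := ⟨_, rfl⟩
  have hAA : A * A = μ • 1 := by rw [hA, ← map_mul, hM, map_smul, map_one]
  exact ⟨⟨A, μ⁻¹ • A, by rw [Matrix.mul_smul, hAA, smul_smul, inv_mul_cancel₀ hμ, one_smul],
    by rw [Matrix.smul_mul, hAA, smul_smul, inv_mul_cancel₀ hμ, one_smul]⟩, hAA⟩

theorem main {q : ℕ} (hF : Fintype.card F = q) (hq : Odd q) (hn : 2 ≤ n) :
    Nat.card {C : ConjClasses (GL (Fin n) F ⧸ Subgroup.center (GL (Fin n) F)) //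
      ∃ g : GL (Fin n) F ⧸ Subgroup.center (GL (Fin n) F), ConjClasses.mk g = C ∧ orderOf g = 2} =
      n / 2 + (if Even n then 1 else 0) := by
  classical
  obtain ⟨p, hp⟩ := CharP.exists F
  haveI := hp
  haveI : Fact p.Prime := ⟨CharP.char_is_prime F p⟩
  haveI : Nonempty (Fin n) := ⟨⟨0, by omega⟩⟩
  have hp2 : p ≠ 2 := by
    rintro rfl
    obtain ⟨e, he⟩ := FiniteField.card F 2
    rw [he.2] at hF
    exact Nat.not_even_iff_odd.2 hq (hF ▸ (Nat.even_pow.2 ⟨even_two, e.ne_zero⟩))
  haveI : NeZero (2 : F) := ⟨fun h => hp2 (by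
    have h' : ((2 : ℕ) : F) = 0 := by exact_mod_cast h
    exact (Nat.prime_dvd_prime_iff_eq Fact.out Nat.prime_two).1 ((CharP.cast_eq_zero_iff F p 2).1 h'))⟩
  have hne : (-1 : F) ≠ 1 := fun h => (two_ne_zero (α := F)) (by linear_combination -h)
  obtain ⟨μ, hμ⟩ : ∃ μ : F, ¬ IsSquare μ := FiniteField.exists_nonsquare (by rw [ringChar.eq F p]; exact hp2)
  have hμ0 : μ ≠ 0 := fun h => hμ (h ▸ IsSquare.zero)
  have horder : ∀ g : GL (Fin n) F,
      orderOf (g : GL (Fin n) F ⧸ Subgroup.center (GL (Fin n) F)) = 2 ↔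
        (∃ c : Fˣ, (g : Matrix (Fin n) (Fin n) F) * g = (c : F) • 1) ∧
          ¬ ∃ c : Fˣ, (g : Matrix (Fin n) (Fin n) F) = (c : F) • 1 := by
    intro g
    rw [orderOf_eq_prime_iff, ← QuotientGroup.mk_pow, QuotientGroup.eq_one_iff, mem_center_iff', Ne,
      QuotientGroup.eq_one_iff, mem_center_iff', pow_two, Units.val_mul]
  have hdiag : ∀ i : Fin (n / 2), ∃ D : GL (Fin n) F, (D : Matrix (Fin n) (Fin n) F) * D = 1 ∧
      (D : Matrix (Fin n) (Fin n) F).charpoly = (X + 1) ^ ((i : ℕ) + 1) * (X - 1) ^ (n - ((i : ℕ) + 1)) ∧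
      (-(D : Matrix (Fin n) (Fin n) F)).charpoly = (X - 1) ^ ((i : ℕ) + 1) * (X + 1) ^ (n - ((i : ℕ) + 1)) :=
    fun i => exists_diag _ (by have := i.2; omega)
  choose D hD1 hD2 hD3 using hdiag
  choose M hM using fun h : Even n => exists_mu (F := F) hμ0 h
  -- the root multiplicity of `-1`
  have hmult : ∀ a b : ℕ, rootMultiplicity (-1 : F) ((X + 1) ^ a * (X - 1) ^ b) = a := by
    intro a b
    have hne' : ((X : F[X]) + 1) ^ a * (X - 1) ^ b ≠ 0 :=
      mul_ne_zero (pow_ne_zero _ (by simpa using (monic_X_add_C (1 : F)).ne_zero))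
        (pow_ne_zero _ (by simpa using X_sub_C_ne_zero (1 : F)))
    rw [rootMultiplicity_mul hne', show (X : F[X]) + 1 = X - C (-1 : F) by simp,
      rootMultiplicity_X_sub_C_pow, rootMultiplicity_eq_zero]
    · omega
    · intro h
      rw [IsRoot, eval_pow, eval_sub, eval_X, eval_one] at h
      exact hne (sub_eq_zero.1 (pow_eq_zero_iff'.1 h).1)
  have hnscalar : ∀ i, ¬ ∃ c : Fˣ, (D i : Matrix (Fin n) (Fin n) F) = (c : F) • 1 := by
    rintro i ⟨c, hc⟩
    have h1 := hD1 i
    rw [hc, Matrix.smul_mul, Matrix.mul_smul, mul_one, smul_smul] at h1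
    have hc1 : (c : F) * c = 1 := by simpa using congrFun (congrFun h1 ⟨0, by omega⟩) ⟨0, by omega⟩
    have h2 := hD2 i
    rw [hc, Matrix.smul_one_eq_diagonal, Matrix.charpoly_diagonal, Finset.prod_const, Finset.card_univ,
      Fintype.card_fin] at h2
    have hlt := i.2
    have h3 := congrArg (eval (-1 : F)) h2
    have h4 := congrArg (eval (1 : F)) h2
    simp [zero_pow, show n - ((i : ℕ) + 1) ≠ 0 by omega, sub_eq_zero, show n ≠ 0 by omega] at h3 h4
    exact hne (h3.trans h4.symm)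
  let f : Fin (n / 2) ⊕ PLift (Even n) →
      {C : ConjClasses (GL (Fin n) F ⧸ Subgroup.center (GL (Fin n) F)) //
        ∃ g : GL (Fin n) F ⧸ Subgroup.center (GL (Fin n) F), ConjClasses.mk g = C ∧ orderOf g = 2} :=
    fun x => match x with
    | .inl i => ⟨ConjClasses.mk (D i : GL (Fin n) F ⧸ _), _, rfl,
        (horder _).2 ⟨⟨1, by rw [hD1, Units.val_one, one_smul]⟩, hnscalar i⟩⟩
    | .inr h => ⟨ConjClasses.mk (M h.down : GL (Fin n) F ⧸ _), _, rfl,
        (horder _).2 ⟨⟨Units.mk0 μ hμ0, hM h.down⟩, by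
          rintro ⟨c, hc⟩
          have h1 := hM h.down
          rw [hc, Matrix.smul_mul, Matrix.mul_smul, mul_one, smul_smul] at h1
          have hc1 : (c : F) * c = μ := by simpa using congrFun (congrFun h1 ⟨0, by omega⟩) ⟨0, by omega⟩
          exact hμ ⟨c, hc1.symm⟩⟩⟩
  have hcard : Nat.card (Fin (n / 2) ⊕ PLift (Even n)) = n / 2 + if Even n then 1 else 0 := by
    rw [Nat.card_sum, Nat.card_fin]
    split_ifs with h
    · haveI : Unique (PLift (Even n)) := ⟨⟨⟨h⟩⟩, fun _ => rfl⟩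
      rw [Nat.card_unique]
    · haveI : IsEmpty (PLift (Even n)) := ⟨fun x => h x.down⟩
      rw [Nat.card_of_isEmpty]
  rw [← hcard]
  symm
  refine Nat.card_congr (Equiv.ofBijective f ⟨?_, ?_⟩)
  · -- injective
    have hsq : ∀ (g h P : GL (Fin n) F) (c : Fˣ) (a b : F), (g : Matrix (Fin n) (Fin n) F) * g = a • 1 →
        (h : Matrix (Fin n) (Fin n) F) * h = b • 1 →
        (h : Matrix (Fin n) (Fin n) F) = (c : F) • ((P * g * P⁻¹ : GL (Fin n) F) : Matrix (Fin n) (Fin n) F) →
        b = (c : F) * c * a := by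
      intro g h P c a b hg hh he
      rw [he, Matrix.smul_mul, Matrix.mul_smul, smul_smul, ← Units.val_mul (P * g * P⁻¹),
        show P * g * P⁻¹ * (P * g * P⁻¹) = P * (g * g) * P⁻¹ by group, Units.val_mul, Units.val_mul,
        Units.val_mul, hg, Matrix.mul_smul, mul_one, Matrix.smul_mul, Units.mul_inv, smul_smul] at hh
      have := congrFun (congrFun hh ⟨0, by omega⟩) ⟨0, by omega⟩
      simpa using this.symm
    intro x y hxy
    have h := congrArg Subtype.val hxy
    rcases x with i | u <;> rcases y with j | v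
    · obtain ⟨P, c, hc⟩ := conj_mk_iff.1 h
      have hcc := hsq _ _ _ c 1 1 (by rw [hD1, one_smul]) (by rw [hD1, one_smul]) hc
      rw [mul_one, eq_comm, mul_self_eq_one_iff] at hcc
      have hi := i.2
      have hj := j.2
      congr 1
      refine Fin.ext ?_
      rcases hcc with h1 | h1
      · rw [h1, one_smul] at hc
        have e := hD2 j
        rw [hc, Units.val_mul, Units.val_mul, Matrix.coe_units_inv, Matrix.charpoly_units_conj, hD2] at e
        have := congrArg (rootMultiplicity (-1 : F)) e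
        rw [hmult, hmult] at this
        omega
      · rw [h1] at hc
        have e := hD2 j
        rw [hc, neg_one_smul, Units.val_mul, Units.val_mul, ← Matrix.neg_mul, ← Matrix.mul_neg,
          Matrix.coe_units_inv, Matrix.charpoly_units_conj, hD3] at e
        have := congrArg (rootMultiplicity (-1 : F)) e
        rw [mul_comm, hmult, hmult] at this
        omega
    · obtain ⟨P, c, hc⟩ := conj_mk_iff.1 h
      have hcc := hsq _ _ _ c 1 μ (by rw [hD1, one_smul]) (hM v.down) hc
      exact absurd ⟨(c : F), by rw [hcc, mul_one]⟩ hμ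
    · obtain ⟨P, c, hc⟩ := conj_mk_iff.1 h.symm
      have hcc := hsq _ _ _ c 1 μ (by rw [hD1, one_smul]) (hM u.down) hc
      exact absurd ⟨(c : F), by rw [hcc, mul_one]⟩ hμ
    · exact congrArg Sum.inr (Subsingleton.elim _ _)
  · -- surjective
    rintro ⟨C, g', rfl, hg2⟩
    obtain ⟨g, rfl⟩ := QuotientGroup.mk_surjective g'
    obtain ⟨⟨c, hc⟩, hns⟩ := (horder g).1 hg2
    have hscale : ∀ t : Fˣ, ∃ g1 : GL (Fin n) F,
        (g1 : Matrix (Fin n) (Fin n) F) = (t : F) • (g : Matrix (Fin n) (Fin n) F) := fun t =>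
      ⟨t • g, rfl⟩
    by_cases hsqc : IsSquare (c : F)
    · obtain ⟨s, hs⟩ := hsqc
      have hs0 : s ≠ 0 := fun h => c.ne_zero (by rw [hs, h, zero_mul])
      obtain ⟨g1, hg1⟩ := hscale (Units.mk0 s⁻¹ (inv_ne_zero hs0))
      rw [Units.val_mk0] at hg1
      have hg11 : (g1 : Matrix (Fin n) (Fin n) F) * g1 = 1 := by
        rw [hg1, Matrix.smul_mul, Matrix.mul_smul, hc, smul_smul, smul_smul, hs]
        rw [show s⁻¹ * s⁻¹ * (s * s) = 1 by field_simp, one_smul]
      obtain ⟨b, hbn, hb⟩ := charpoly_one hg11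
      have hg1eq : (g1 : GL (Fin n) F ⧸ Subgroup.center (GL (Fin n) F)) = g :=
        mk_eq_mk_iff.2 ⟨Units.mk0 s hs0, by rw [hg1, smul_smul, Units.val_mk0, mul_inv_cancel₀ hs0, one_smul]⟩
      obtain ⟨E, hE1, hE2, hE3⟩ := exists_diag (F := F) b hbn
      have hconj := Semisimple.isConj_of_charpoly p g1 E
        (coprime_order hp2 (c := 1) (by rw [hg11, Units.val_one, one_smul]))
        (coprime_order hp2 (c := 1) (by rw [hE1, Units.val_one, one_smul])) (hb.trans hE2.symm)
      have hb0 : b ≠ 0 ∧ b ≠ n := by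
        obtain ⟨P, hP⟩ := isConj_iff.1 hconj
        have hsc : ∀ t : Fˣ, (E : Matrix (Fin n) (Fin n) F) = (t : F) • 1 → False := fun t ht => hns (by
          refine ⟨Units.mk0 s hs0 * t, ?_⟩
          have hg1t : (g1 : Matrix (Fin n) (Fin n) F) = (t : F) • 1 := by
            rw [show g1 = P⁻¹ * E * P by rw [← hP]; group, Units.val_mul, Units.val_mul, ht, Matrix.mul_smul, mul_one,
              Matrix.smul_mul, Units.inv_mul]
          rw [Units.val_mul, Units.val_mk0, mul_smul, ← hg1t, hg1, smul_smul, mul_inv_cancel₀ hs0, one_smul])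
        constructor
        · intro h0
          obtain ⟨O, hO⟩ : ∃ O : GL (Fin n) F, (O : Matrix (Fin n) (Fin n) F) = 1 := ⟨1, rfl⟩
          obtain ⟨P', hP'⟩ := isConj_iff.1 (Semisimple.isConj_of_charpoly p O E
            (by rw [show O = 1 from Units.ext hO, orderOf_one]; exact Nat.coprime_one_left _)
            (coprime_order hp2 (c := 1) (by rw [hE1, Units.val_one, one_smul]))
            (by rw [hE2, hO, h0, pow_zero, one_mul, Nat.sub_zero, Matrix.charpoly_one, Fintype.card_fin]))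
          refine hsc 1 ?_
          rw [← hP', show O = 1 from Units.ext hO, mul_one, mul_inv_cancel, Units.val_one, Units.val_one, one_smul]
        · intro h0
          obtain ⟨O, hO⟩ : ∃ O : GL (Fin n) F, (O : Matrix (Fin n) (Fin n) F) = (-1 : F) • 1 :=
            ⟨(-1 : Fˣ) • 1, rfl⟩
          obtain ⟨P', hP'⟩ := isConj_iff.1 (Semisimple.isConj_of_charpoly p O E
            (coprime_order hp2 (c := 1) (by rw [hO, Matrix.smul_mul, Matrix.mul_smul, mul_one, smul_smul]; simp))
            (coprime_order hp2 (c := 1) (by rw [hE1, Units.val_one, one_smul]))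
            (by rw [hE2, hO, h0, Nat.sub_self, pow_zero, mul_one, Matrix.smul_one_eq_diagonal,
              Matrix.charpoly_diagonal, Finset.prod_const, Finset.card_univ, Fintype.card_fin, map_neg, map_one,
              sub_neg_eq_add]))
          refine hsc (-1) ?_
          rw [← hP', Units.val_mul, Units.val_mul, hO, Matrix.mul_smul, mul_one, Matrix.smul_mul, Units.mul_inv]
          rfl
      by_cases hb2 : b ≤ n / 2
      · refine ⟨.inl ⟨b - 1, by omega⟩, Subtype.ext ?_⟩
        show ConjClasses.mk (D ⟨b - 1, by omega⟩ : GL (Fin n) F ⧸ Subgroup.center (GL (Fin n) F)) =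
          ConjClasses.mk (g : GL (Fin n) F ⧸ Subgroup.center (GL (Fin n) F))
        rw [← hg1eq]
        obtain ⟨P, hP⟩ := isConj_iff.1 (Semisimple.isConj_of_charpoly p (D ⟨b - 1, by omega⟩) g1
          (coprime_order hp2 (c := 1) (by rw [hD1, Units.val_one, one_smul]))
          (coprime_order hp2 (c := 1) (by rw [hg11, Units.val_one, one_smul]))
          (by rw [hD2, hb]; simp only [show b - 1 + 1 = b by omega]))
        exact conj_mk_iff.2 ⟨P, 1, by rw [hP, Units.val_one, one_smul]⟩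
      · refine ⟨.inl ⟨n - b - 1, by omega⟩, Subtype.ext ?_⟩
        show ConjClasses.mk (D ⟨n - b - 1, by omega⟩ : GL (Fin n) F ⧸ Subgroup.center (GL (Fin n) F)) =
          ConjClasses.mk (g : GL (Fin n) F ⧸ Subgroup.center (GL (Fin n) F))
        rw [← hg1eq]
        obtain ⟨N, hN⟩ : ∃ N : GL (Fin n) F, (N : Matrix (Fin n) (Fin n) F) =
            -(D ⟨n - b - 1, by omega⟩ : Matrix (Fin n) (Fin n) F) := ⟨-(D ⟨n - b - 1, by omega⟩), rfl⟩
        obtain ⟨P, hP⟩ := isConj_iff.1 (Semisimple.isConj_of_charpoly p N g1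
          (coprime_order hp2 (c := 1) (by rw [hN, neg_mul_neg, hD1, Units.val_one, one_smul]))
          (coprime_order hp2 (c := 1) (by rw [hg11, Units.val_one, one_smul]))
          (by rw [hN, hD3, hb]; simp only [show n - b - 1 + 1 = n - b by omega, Nat.sub_sub_self hbn]; ring))
        refine conj_mk_iff.2 ⟨P, -1, ?_⟩
        rw [← hP, Units.val_mul, Units.val_mul, hN, Units.val_mul, Units.val_mul, Matrix.mul_neg, Matrix.neg_mul]
        simp
    · obtain ⟨t, ht⟩ : ∃ t : F, t * t * c = μ := by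
        obtain ⟨s, hs⟩ : IsSquare (μ / (c : F)) := by
          have h1 := (quadraticChar_neg_one_iff_not_isSquare).2 hμ
          have h2 := (quadraticChar_neg_one_iff_not_isSquare).2 hsqc
          rw [← quadraticChar_one_iff_isSquare (div_ne_zero hμ0 c.ne_zero)]
          have h3 : quadraticChar F (μ / (c : F)) * quadraticChar F (c : F) = quadraticChar F μ := by
            rw [← map_mul, div_mul_cancel₀ _ c.ne_zero]
          rw [h1, h2] at h3
          linarith
        exact ⟨s, by rw [← hs, div_mul_cancel₀ _ c.ne_zero]⟩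
      have ht0 : t ≠ 0 := fun h => hμ0 (by rw [← ht, h]; simp)
      obtain ⟨g1, hg1⟩ := hscale (Units.mk0 t ht0)
      rw [Units.val_mk0] at hg1
      have hg11 : (g1 : Matrix (Fin n) (Fin n) F) * g1 = μ • 1 := by
        rw [hg1, Matrix.smul_mul, Matrix.mul_smul, hc, smul_smul, smul_smul, ht]
      obtain ⟨k, hnk, hk⟩ := charpoly_sq hμ hg11
      have heven : Even n := ⟨k, by omega⟩
      refine ⟨.inr ⟨heven⟩, Subtype.ext ?_⟩
      show ConjClasses.mk (M heven : GL (Fin n) F ⧸ Subgroup.center (GL (Fin n) F)) = _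
      obtain ⟨k', hnk', hk'⟩ := charpoly_sq hμ (hM heven)
      obtain rfl : k' = k := by omega
      obtain ⟨P, hP⟩ := isConj_iff.1 (Semisimple.isConj_of_charpoly p (M heven) g1
        (coprime_order hp2 (c := Units.mk0 μ hμ0) (hM heven))
        (coprime_order hp2 (c := Units.mk0 μ hμ0) hg11) (hk'.trans hk.symm))
      refine conj_mk_iff.2 ⟨P, Units.mk0 t⁻¹ (inv_ne_zero ht0), ?_⟩
      rw [hP, hg1, smul_smul, Units.val_mk0, inv_mul_cancel₀ ht0, one_smul]

end Cfsg.Agent.Small.PGLInvolutions
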