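import Cfsg.Agent.Lib.Small.FieldMatrix

/-!
The largest element order of PGL_d(q).
-/

set_option autoImplicit false

namespace Cfsg.Agent.Small.PGLOrder

open Matrix Polynomial

variable {F : Type*} [Field F] [Fintype F] {d : ℕ}

theorem card_center (hd : 1 ≤ d) :
    Nat.card (Subgroup.center (GL (Fin d) F)) = Fintype.card F - 1 := by
  haveI : Nonempty (Fin d) := ⟨⟨0, hd⟩⟩
  rw [Matrix.GeneralLinearGroup.center_eq_range_scalar]
  rw [Nat.card_congr (MonoidHom.ofInjective (f := Matrix.GeneralLinearGroup.scalar (Fin d)) ?_).symm.toEquiv,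
    Nat.card_units, Nat.card_eq_fintype_card]
  intro a b h
  exact Units.ext (Matrix.scalar_inj.1 (congrArg Units.val h))

theorem order_le (hd : 1 ≤ d) (g : GL (Fin d) F) :
    (Fintype.card F - 1) * orderOf (QuotientGroup.mk g : GL (Fin d) F ⧸ Subgroup.center (GL (Fin d) F)) ≤
      Fintype.card F ^ d - 1 := by
  classical
  haveI : Nonempty (Fin d) := ⟨⟨0, hd⟩⟩
  set Z := Subgroup.center (GL (Fin d) F) with hZ
  let H : Subgroup (GL (Fin d) F) := (Subgroup.zpowers (QuotientGroup.mk g : GL (Fin d) F ⧸ Z)).comap (QuotientGroup.mk' Z)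
  have hcard : Nat.card H = (Fintype.card F - 1) *
      orderOf (QuotientGroup.mk g : GL (Fin d) F ⧸ Z) := by
    have hle : Z ≤ H := fun z hz => by
      show QuotientGroup.mk' Z z ∈ Subgroup.zpowers (QuotientGroup.mk g : GL (Fin d) F ⧸ Z)
      rw [QuotientGroup.mk'_apply, (QuotientGroup.eq_one_iff z).2 hz]
      exact one_mem _
    have h1 := Subgroup.card_eq_card_quotient_mul_card_subgroup (Z.subgroupOf H)
    rw [Nat.card_congr (Subgroup.subgroupOfEquivOfLe hle).toEquiv, card_center hd] at h1
    have h2 : Nat.card (H ⧸ Z.subgroupOf H) = Nat.card (Subgroup.zpowers (QuotientGroup.mk g : GL (Fin d) F ⧸ Z)) := by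
      let f : H →* GL (Fin d) F ⧸ Z := (QuotientGroup.mk' Z).comp H.subtype
      have hker : f.ker = Z.subgroupOf H := by
        rw [← MonoidHom.comap_ker, QuotientGroup.ker_mk']
        rfl
      have hrange : f.range = Subgroup.zpowers (QuotientGroup.mk g : GL (Fin d) F ⧸ Z) := by
        rw [MonoidHom.range_comp, Subgroup.range_subtype,
          Subgroup.map_comap_eq_self_of_surjective (QuotientGroup.mk'_surjective Z)]
      rw [← hker, Nat.card_congr (QuotientGroup.quotientKerEquivRange f).toEquiv, hrange]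
    rw [h1, h2, Nat.card_zpowers, mul_comm]
  rw [← hcard]
  -- every element is a polynomial in g
  let comb : (Fin d → F) → Matrix (Fin d) (Fin d) F := fun c => ∑ i : Fin d, c i • (g : Matrix (Fin d) (Fin d) F) ^ (i : ℕ)
  have hpoly : ∀ P : F[X], ∃ c, comb c = aeval (g : Matrix (Fin d) (Fin d) F) P := by
    intro P
    refine ⟨fun i => (P %ₘ (g : Matrix (Fin d) (Fin d) F).charpoly).coeff i, ?_⟩
    have hdeg : (P %ₘ (g : Matrix (Fin d) (Fin d) F).charpoly).natDegree < d := by
      have h := natDegree_modByMonic_lt P (g : Matrix (Fin d) (Fin d) F).charpoly_monic (fun h1 => by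
        have := congrArg natDegree h1
        rw [Matrix.charpoly_natDegree_eq_dim, Fintype.card_fin, natDegree_one] at this
        omega)
      rwa [Matrix.charpoly_natDegree_eq_dim, Fintype.card_fin] at h
    conv_rhs => rw [← modByMonic_add_div P (g : Matrix (Fin d) (Fin d) F).charpoly]
    rw [map_add, map_mul, Matrix.aeval_self_charpoly, zero_mul, add_zero, aeval_eq_sum_range' hdeg, Finset.sum_range]
  have hH : ∀ x : H, ∃ c, comb c = (x : GL (Fin d) F).val := by
    rintro ⟨x, hx⟩
    obtain ⟨i, hi⟩ := Submonoid.mem_powers_iff _ _ |>.1 (mem_powers_iff_mem_zpowers.2 hx)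
    rw [QuotientGroup.mk'_apply] at hi
    rw [← QuotientGroup.mk_pow, QuotientGroup.eq] at hi
    rw [hZ, Matrix.GeneralLinearGroup.mem_center_iff_val_eq_scalar] at hi
    obtain ⟨a, ha⟩ := hi
    obtain ⟨c, hc⟩ := hpoly (X ^ i * C a)
    refine ⟨c, hc.trans ?_⟩
    rw [map_mul, map_pow, aeval_X, aeval_C, Algebra.algebraMap_eq_smul_one, ← Units.val_pow_eq_pow_val]
    have : (a • (1 : Matrix (Fin d) (Fin d) F)) = ((g ^ i)⁻¹ * x : GL (Fin d) F).val := by
      rw [← ha, Matrix.smul_one_eq_diagonal]
      rfl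
    rw [this, ← Units.val_mul, mul_inv_cancel_left]
  choose c hc using hH
  have hinj : Function.Injective (fun x : H => (⟨c x, fun h0 => by
      have := hc x
      rw [h0] at this
      simp only [comb, Pi.zero_apply, zero_smul, Finset.sum_const_zero] at this
      exact not_isUnit_zero (this ▸ (x : GL (Fin d) F).isUnit)⟩ : {v : Fin d → F // v ≠ 0})) := by
    intro x y h
    apply Subtype.ext; apply Units.ext
    rw [← hc x, ← hc y, show c x = c y from congrArg Subtype.val h]
  refine (Nat.card_le_card_of_injective _ hinj).trans ?_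
  rw [Nat.card_eq_fintype_card, Fintype.card_subtype_compl, Fintype.card_fun, Fintype.card_fin, Fintype.card_subtype_eq]

theorem main (hd : 1 ≤ d) :
    (∀ g : (GL (Fin d) F ⧸ Subgroup.center (GL (Fin d) F)), (Fintype.card F - 1) * orderOf g ≤ Fintype.card F ^ d - 1) ∧
    (∃ g : (GL (Fin d) F ⧸ Subgroup.center (GL (Fin d) F)), (Fintype.card F - 1) * orderOf g = Fintype.card F ^ d - 1) := by
  refine ⟨fun g => ?_, ?_⟩
  · obtain ⟨g, rfl⟩ := QuotientGroup.mk_surjective g
    exact order_le hd g
  · obtain ⟨s, hs⟩ := Cfsg.Agent.Small.exists_singer (F := F) d hd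
    refine ⟨QuotientGroup.mk s, le_antisymm (order_le hd s) ?_⟩
    set t := orderOf (QuotientGroup.mk s : GL (Fin d) F ⧸ Subgroup.center (GL (Fin d) F)) with ht
    have hmem : s ^ t ∈ Subgroup.center (GL (Fin d) F) := by
      rw [← QuotientGroup.eq_one_iff, QuotientGroup.mk_pow, ht, pow_orderOf_eq_one]
    have h1 : (s ^ t) ^ (Fintype.card F - 1) = 1 := by
      have := pow_card_eq_one' (G := Subgroup.center (GL (Fin d) F)) (x := ⟨_, hmem⟩)
      rw [card_center hd] at this
      exact congrArg Subtype.val this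
    rw [← pow_mul] at h1
    have h2 := orderOf_dvd_of_pow_eq_one h1
    rw [hs, Nat.card_eq_fintype_card] at h2
    have htpos : 0 < t := orderOf_pos _
    have hq := Fintype.one_lt_card (α := F)
    rw [mul_comm]
    exact Nat.le_of_dvd (Nat.mul_pos htpos (by omega)) h2

end Cfsg.Agent.Small.PGLOrder
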