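import Cfsg.Agent.Lib.Small.SmallOrders
import Cfsg.Agent.Lib.Classical.Dickson.PGLMax

/-!
# Simple groups of order `p (p ^ 2 - 1) / 2` for small primes `p`

Any such group acts on its `p + 1` Sylow `p`-subgroups, and a finite check pins the action down.
-/

set_option autoImplicit false

namespace Cfsg.Agent.Small.PSLOrderIso

open Subgroup

variable {p : ℕ}

/-- the candidate for an element exchanging the two marked points -/
def flipW (d : ℕ) (g v c c' : ZMod p) (k : ℕ) : Option (ZMod p) → Option (ZMod p)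
  | none => some 0
  | some x => if x = 0 then none else
      some ((List.range d).foldr
        (fun i r => if x = g ^ i then c * g ^ (k * i) else if x = v * g ^ i then c' * g ^ (k * i) else r) 0)

/-- the finite data that pins the action down -/
structure Check (p d : ℕ) [NeZero p] (g v : ZMod p) : Prop where
  size : 2 * d + 1 = p
  unit : g ^ d = 1
  cover : ∀ x : ZMod p, x ≠ 0 → ∃ i < d, x = g ^ i ∨ x = v * g ^ i
  roots : ∀ x : ZMod p, x ^ d = 1 → ∃ i < d, x = g ^ i
  vne : v ≠ 0
  flip : ∀ k < d, ∀ c c' : ZMod p, (c = 1 ∨ c = v) → c' ≠ 0 → ∀ x₀ : ZMod p,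
    flipW d g v c c' k (some x₀) = some (-1) → ∀ i < d,
    (∀ x : Option (ZMod p), flipW d g v c c' k ((flipW d g v c c' k x).map (· + 1)) =
      (flipW d g v c c' k (x.map fun y => g ^ i * (y - x₀))).map (· + c)) →
    k + 1 = d ∧ c = c' * v ∧ ∃ j < d, -c = g ^ j

/-- the translation by one -/
def shiftP (p : ℕ) : Equiv.Perm (Option (ZMod p)) := Equiv.optionCongr (Equiv.addRight (1 : ZMod p))

/-- the multiplication by a unit -/
def scaleP [Fact p.Prime] {a : ZMod p} (ha : a ≠ 0) : Equiv.Perm (Option (ZMod p)) :=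
  Equiv.optionCongr (Equiv.mulLeft₀ a ha)

/-- minus the reciprocal, as a map -/
def negInvFun : Option (ZMod p) → Option (ZMod p)
  | none => some 0
  | some x => if x = 0 then none else some (-x⁻¹)

theorem negInv_involutive [Fact p.Prime] : Function.Involutive (negInvFun (p := p)) := by
  intro o
  cases o with
  | none => simp [negInvFun]
  | some x =>
    by_cases hx : x = 0
    · simp [negInvFun, hx]
    · simp [negInvFun, hx, inv_neg]

/-- minus the reciprocal, as a permutation -/
def negInv [Fact p.Prime] : Equiv.Perm (Option (ZMod p)) := negInv_involutive.toPerm _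

theorem foldr_value {d : ℕ} {g v c c' : ZMod p} {k : ℕ} {x y : ZMod p} :
    ∀ l : List ℕ, (∀ i ∈ l, (x = g ^ i → c * g ^ (k * i) = y) ∧ (x = v * g ^ i → c' * g ^ (k * i) = y)) →
      (∃ i ∈ l, x = g ^ i ∨ x = v * g ^ i) →
      l.foldr (fun i r => if x = g ^ i then c * g ^ (k * i) else
        if x = v * g ^ i then c' * g ^ (k * i) else r) 0 = y
  | [], _, ⟨i, hi, _⟩ => absurd hi (by simp)
  | a :: l, h, he => by
    simp only [List.foldr_cons]
    split_ifs with h1 h2
    · exact (h a (List.mem_cons_self ..)).1 h1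
    · exact (h a (List.mem_cons_self ..)).2 h2
    · refine foldr_value (d := d) l (fun i hi => h i (List.mem_cons_of_mem _ hi)) ?_
      obtain ⟨i, hi, hx⟩ := he
      rcases List.mem_cons.1 hi with e | e
      · exact absurd hx (by rw [e]; tauto)
      · exact ⟨i, e, hx⟩

section Main

variable [Fact p.Prime] {G : Type*} [Group G] [Finite G]

/-- **The action on Sylow subgroups is the standard one.** -/
theorem exists_rep [IsSimpleGroup G] {d : ℕ} {g v : ZMod p} (C : Check p d g v) (hg : g ≠ 0)
    (hcard : Nat.card G = p * d * (p + 1)) (hn : Nat.card (Sylow p G) = p + 1) :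
    ∃ f : G →* Equiv.Perm (Option (ZMod p)),
      Function.Injective f ∧ f.range = closure {shiftP p, scaleP hg, negInv} := by
  classical
  have hp : p.Prime := Fact.out
  obtain ⟨P0⟩ : Nonempty (Sylow p G) := inferInstance
  have hd0 : 0 < d := by
    rcases Nat.eq_zero_or_pos d with h | h
    · exact absurd (C.size ▸ hp : Nat.Prime (2 * d + 1)) (by rw [h]; exact Nat.not_prime_one)
    · exact h
  have hdp : d < p := by have := C.size; omega
  have hndvd : ¬ p ∣ d * (p + 1) := by
    rw [hp.dvd_mul]
    rintro (h | h)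
    · exact absurd (Nat.le_of_dvd hd0 h) (by omega)
    · exact absurd ((Nat.dvd_add_right dvd_rfl).1 h) hp.not_dvd_one
  have hP : Nat.card P0 = p := by
    have := SmallOrders.sylow_card_eq (G := G) (p := p) (k := 1) (by rw [pow_one, hcard, mul_assoc]) hndvd P0
    rwa [pow_one] at this
  obtain ⟨x, hx⟩ : ∃ x : G, x ∈ (P0 : Subgroup G) ∧ x ≠ 1 := by
    haveI : Nontrivial (P0 : Subgroup G) := Finite.one_lt_card_iff_nontrivial.1 (hP.symm ▸ hp.one_lt)
    obtain ⟨⟨x, hx⟩, hne⟩ := exists_ne (1 : (P0 : Subgroup G))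
    exact ⟨x, hx, fun e => hne (Subtype.ext e)⟩
  have hord : orderOf x = p := by
    have h := orderOf_dvd_natCard (⟨x, hx.1⟩ : (P0 : Subgroup G))
    rw [orderOf_mk, show Nat.card (P0 : Subgroup G) = p from hP] at h
    exact (hp.eq_one_or_self_of_dvd _ h).resolve_left fun e => hx.2 (orderOf_eq_one_iff.1 e)
  have hzp : zpowers x = (P0 : Subgroup G) := eq_of_le_of_card_ge (zpowers_le.2 hx.1)
    (by rw [Nat.card_zpowers, hord]; exact hP.le)
  have hxP : x • P0 = P0 := Sylow.smul_eq_iff_mem_normalizer.2 (le_normalizer hx.1)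
  have hmove : ∀ Q : Sylow p G, x • Q = Q → Q = P0 := by
    intro Q h
    have h' : x ∈ (P0 : Subgroup G) ⊓ normalizer ((Q : Subgroup G) : Set G) :=
      ⟨hx.1, Sylow.smul_eq_iff_mem_normalizer.1 h⟩
    replace h' : x ∈ (P0 : Subgroup G) ⊓ (Q : Subgroup G) := (IsPGroup.inf_normalizer_sylow P0.2 Q).le h'
    have hle : (P0 : Subgroup G) ≤ Q := hzp ▸ zpowers_le.2 h'.2
    exact Sylow.ext (P0.3 Q.2 hle)
  obtain ⟨Q0, hQ0⟩ : ∃ Q : Sylow p G, Q ≠ P0 := by
    haveI : Nontrivial (Sylow p G) := Finite.one_lt_card_iff_nontrivial.1 (by rw [hn]; have := hp.two_le; omega)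
    exact exists_ne P0
  have hxpow : ∀ n m : ℕ, (n : ZMod p) = (m : ZMod p) → x ^ n = x ^ m := fun n m e => by
    rw [← pow_mod_orderOf x n, ← pow_mod_orderOf x m, hord, (ZMod.natCast_eq_natCast_iff' n m p).1 e]
  have hxP' : ∀ n : ℕ, x ^ n • P0 = P0 := fun n => by
    induction n with
    | zero => rw [pow_zero, one_smul]
    | succ n ih => rw [pow_succ, mul_smul, hxP, ih]
  -- coordinates
  let e0 : Option (ZMod p) → Sylow p G := fun o => o.elim P0 (fun i => x ^ i.val • Q0)
  have hne : ∀ i : ZMod p, x ^ i.val • Q0 ≠ P0 := fun i h => hQ0 (smul_left_cancel _ (h.trans (hxP' _).symm))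
  have hinj : Function.Injective e0 := by
    rintro (_ | i) (_ | j) h
    · rfl
    · exact absurd h.symm (hne j)
    · exact absurd h (hne i)
    · by_contra hij
      have hij' : i ≠ j := fun e => hij (by rw [e])
      have h' : x ^ (i - j).val • Q0 = Q0 := by
        apply smul_left_cancel (x ^ j.val)
        rw [← mul_smul, ← pow_add, hxpow (j.val + (i - j).val) i.val (by push_cast [ZMod.natCast_val]; simp)]
        exact h
      have hne0 : i - j ≠ 0 := sub_ne_zero.2 hij'
      have hfix : ∀ n : ℕ, x ^ ((i - j).val * n) • Q0 = Q0 := fun n => by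
        induction n with
        | zero => simp
        | succ n ih => rw [Nat.mul_succ, pow_add, mul_smul, h', ih]
      refine hQ0 (hmove Q0 ?_)
      have := hfix ((i - j)⁻¹ : ZMod p).val
      rwa [hxpow _ 1 (by push_cast [ZMod.natCast_val]; simp [hne0]), pow_one] at this
  have hbij : Function.Bijective e0 := by
    rw [Nat.bijective_iff_injective_and_card]
    exact ⟨hinj, by rw [Finite.card_option, Nat.card_zmod, hn]⟩
  let E : Option (ZMod p) ≃ Sylow p G := Equiv.ofBijective e0 hbij
  let f : G →* Equiv.Perm (Option (ZMod p)) :=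
    (Equiv.permCongrHom E.symm).toMonoidHom.comp (MulAction.toPermHom G (Sylow p G))
  have hf : ∀ h o, f h o = E.symm (h • E o) := fun h o => rfl
  have hfmul : ∀ h k o, f (h * k) o = f h (f k o) := fun h k o => by rw [map_mul, Equiv.Perm.mul_apply]
  have hfinj : Function.Injective f := by
    rw [← MonoidHom.ker_eq_bot_iff]
    refine (IsSimpleGroup.eq_bot_or_eq_top_of_normal _ inferInstance).resolve_right fun e => ?_
    have h1 : f x (some 0) = some 0 := by
      rw [show f x = 1 from MonoidHom.mem_ker.1 (by rw [e]; exact mem_top x)]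
      rfl
    rw [hf, Equiv.symm_apply_eq] at h1
    exact hQ0 (hmove Q0 (by simpa [E, e0] using h1))
  have hxn : ∀ (n : ℕ), f (x ^ n) none = none ∧ ∀ i : ZMod p, f (x ^ n) (some i) = some (i + n) := by
    intro n
    refine ⟨by rw [hf, Equiv.symm_apply_eq]; exact hxP' n, fun i => ?_⟩
    rw [hf, Equiv.symm_apply_eq]
    show x ^ n • x ^ i.val • Q0 = x ^ (i + n).val • Q0
    rw [← mul_smul, ← pow_add, hxpow (n + i.val) (i + n).val (by push_cast [ZMod.natCast_val]; simp [add_comm])]
  have hshift : f x = shiftP p := Equiv.ext fun o => by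
    have h := hxn 1
    rw [pow_one] at h
    cases o with
    | none => exact h.1
    | some i => rw [h.2 i, Nat.cast_one]; rfl
  -- the stabiliser of the marked point
  let N : Subgroup G := MulAction.stabilizer G P0
  have hNmem : ∀ n : G, n ∈ N ↔ f n none = none := fun n => by
    rw [MulAction.mem_stabilizer_iff, hf, Equiv.symm_apply_eq]
    rfl
  have hNcard : Nat.card N = p * d := by
    have h := MulAction.index_stabilizer_of_transitive G P0
    rw [hn] at h
    have h2 := N.card_mul_index
    rw [h, hcard] at h2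
    exact Nat.eq_of_mul_eq_mul_right (by omega) h2
  have hsome : ∀ n : G, f n none = none → ∀ i : ZMod p, ∃ j, f n (some i) = some j := fun n hnn i => by
    cases hj : f n (some i) with
    | none => exact absurd ((f n).injective (hj.trans hnn.symm)) (by simp)
    | some j => exact ⟨j, rfl⟩
  have haff : ∀ n : G, f n none = none → ∃ a b : ZMod p, ∀ i : ZMod p, f n (some i) = some (a * i + b) := by
    intro n hnn
    have hm : n * x * n⁻¹ ∈ (P0 : Subgroup G) :=
      (mem_normalizer_iff.1 (Sylow.smul_eq_iff_mem_normalizer.1 ((hNmem n).2 hnn)) x).1 hx.1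
    rw [← hzp, ← mem_powers_iff_mem_zpowers] at hm
    obtain ⟨m, hm⟩ := hm
    obtain ⟨b, hb⟩ := hsome n hnn 0
    refine ⟨m, b, fun i => ?_⟩
    have key : ∀ t : ℕ, f n (some (t : ZMod p)) = some ((m : ZMod p) * t + b) := by
      intro t
      induction t with
      | zero => simpa using hb
      | succ t ih =>
        have h1 : f n (f (x ^ 1) (some (t : ZMod p))) = f (x ^ m) (f n (some (t : ZMod p))) := by
          rw [← hfmul, ← hfmul, pow_one, show n * x = x ^ m * n by
            rw [show x ^ m = n * x * n⁻¹ from hm, inv_mul_cancel_right]]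
        rw [(hxn 1).2, ih, (hxn m).2, Nat.cast_one] at h1
        rw [Nat.cast_succ, h1]
        congr 1
        ring
    simpa [ZMod.natCast_val] using key i.val
  have hroot : ∀ n : G, f n none = none → ∀ a b : ZMod p, (∀ i, f n (some i) = some (a * i + b)) →
      a ≠ 0 ∧ ∃ i < d, a = g ^ i := by
    intro n hnn a b h
    have ha : a ≠ 0 := fun e => by
      have h0 := h 0
      have h1 := h 1
      rw [e, zero_mul] at h0 h1
      exact absurd ((f n).injective (h0.trans h1.symm)) (by simp)
    have hpw : ∀ t : ℕ, ∃ b', ∀ i, f (n ^ t) (some i) = some (a ^ t * i + b') := by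
      intro t
      induction t with
      | zero => exact ⟨0, fun i => by simp⟩
      | succ t ih =>
        obtain ⟨b', hb'⟩ := ih
        exact ⟨a ^ t * b + b', fun i => by rw [pow_succ n, hfmul, h, hb']; congr 1; ring⟩
    obtain ⟨b', hb'⟩ := hpw (p * d)
    have hn1 : n ^ (p * d) = 1 := by
      have h' := pow_card_eq_one' (x := (⟨n, (hNmem n).2 hnn⟩ : N))
      rw [hNcard] at h'
      exact congrArg Subtype.val h'
    have e0 := hb' 0
    have e1 := hb' 1
    rw [hn1, map_one, Equiv.Perm.one_apply, Option.some_inj] at e0 e1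
    have had : a ^ d = 1 := by
      have : a ^ (p * d) = 1 := by linear_combination e0 - e1
      rwa [pow_mul, ZMod.pow_card] at this
    exact ⟨ha, C.roots a had⟩
  have hfull : ∀ i < d, ∀ b : ZMod p, ∃ n : G, f n none = none ∧ ∀ z, f n (some z) = some (g ^ i * z + b) := by
    choose A B hAB using fun n : N => haff n ((hNmem n).1 n.2)
    let ψ : N → ZMod p × ZMod p := fun n => (A n, B n)
    have hψ : Function.Injective ψ := by
      intro n m e
      apply Subtype.ext
      apply hfinj
      ext1 o
      cases o with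
      | none => rw [(hNmem n).1 n.2, (hNmem m).1 m.2]
      | some z => rw [hAB, hAB, show A n = A m from congrArg Prod.fst e, show B n = B m from congrArg Prod.snd e]
    haveI := Fintype.ofFinite N
    let T : Finset (ZMod p × ZMod p) := ((Finset.range d).image fun i => g ^ i) ×ˢ Finset.univ
    have hsub : Finset.univ.image ψ ⊆ T := by
      intro z hz
      obtain ⟨n, -, rfl⟩ := Finset.mem_image.1 hz
      obtain ⟨-, i, hi, hA⟩ := hroot n ((hNmem n).1 n.2) _ _ (hAB n)
      exact Finset.mem_product.2 ⟨Finset.mem_image.2 ⟨i, Finset.mem_range.2 hi, hA.symm⟩, Finset.mem_univ _⟩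
    have hTc : T.card ≤ (Finset.univ.image ψ).card := by
      rw [Finset.card_image_of_injective _ hψ, Finset.card_univ, ← Nat.card_eq_fintype_card, hNcard,
        Finset.card_product, Finset.card_univ, ZMod.card, mul_comm p d]
      exact Nat.mul_le_mul_right p (Finset.card_image_le.trans (Finset.card_range d).le)
    intro i hi b
    have hmem : (g ^ i, b) ∈ Finset.univ.image ψ := by
      rw [Finset.eq_of_subset_of_card_le hsub hTc]
      exact Finset.mem_product.2 ⟨Finset.mem_image.2 ⟨i, Finset.mem_range.2 hi, rfl⟩, Finset.mem_univ _⟩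
    obtain ⟨n, -, e⟩ := Finset.mem_image.1 hmem
    exact ⟨n, (hNmem n).1 n.2, fun z => by
      rw [hAB n z, show A n = g ^ i from congrArg Prod.fst e, show B n = b from congrArg Prod.snd e]⟩
  obtain ⟨s, hs0, hs⟩ : ∃ s : G, f s none = none ∧ ∀ z, f s (some z) = some (g * z) := by
    rcases lt_or_ge 1 d with h | h
    · obtain ⟨s, h0, h1⟩ := hfull 1 h 0
      exact ⟨s, h0, fun z => by rw [h1, pow_one, add_zero]⟩
    · have hg1 : g = 1 := by rw [← pow_one g, show 1 = d by omega, C.unit]
      exact ⟨1, by simp, fun z => by simp [hg1]⟩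
  have hspow : ∀ m : ℕ, f (s ^ m) none = none ∧ ∀ z, f (s ^ m) (some z) = some (g ^ m * z) := by
    intro m
    induction m with
    | zero => simp
    | succ m ih =>
      exact ⟨by rw [pow_succ, hfmul, hs0, ih.1], fun z => by rw [pow_succ s, hfmul, hs, ih.2, pow_succ, mul_assoc]⟩
  have hscale : f s = scaleP hg := Equiv.ext fun o => by
    cases o with
    | none => exact hs0
    | some z => exact hs z
  -- an element exchanging the two marked points
  obtain ⟨w0, hw0, hw0'⟩ : ∃ w : G, f w none = some 0 ∧ f w (some 0) = none := by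
    obtain ⟨h, hh⟩ := MulAction.exists_smul_eq G P0 Q0
    have hh0 : f h none = some 0 := by
      rw [hf, Equiv.symm_apply_eq]
      show h • P0 = x ^ (0 : ZMod p).val • Q0
      rw [hh, ZMod.val_zero, pow_zero, one_smul]
    obtain ⟨j, hj⟩ : ∃ j, f h (some j) = none := by
      obtain ⟨o, ho⟩ := (f h).surjective none
      cases o with
      | none => exact absurd (hh0.symm.trans ho) (by simp)
      | some j => exact ⟨j, ho⟩
    exact ⟨h * x ^ j.val, by rw [hfmul, (hxn _).1, hh0],
      by rw [hfmul, (hxn _).2, ZMod.natCast_val, ZMod.cast_id, zero_add, hj]⟩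
  obtain ⟨w, hw, hw', c, hc1, hc⟩ : ∃ w : G, f w none = some 0 ∧ f w (some 0) = none ∧
      ∃ c : ZMod p, f w (some 1) = some c ∧ (c = 1 ∨ c = v) := by
    obtain ⟨c0, hc0⟩ : ∃ c0, f w0 (some 1) = some c0 := by
      cases hj : f w0 (some 1) with
      | none => exact absurd ((f w0).injective (hj.trans hw0'.symm)) (by simp)
      | some c => exact ⟨c, rfl⟩
    have hc0' : c0 ≠ 0 := fun e => absurd ((f w0).injective (hc0.trans (e ▸ hw0.symm))) (by simp)
    obtain ⟨j, hj, hjc⟩ := C.cover c0 hc0'
    have hgd : g ^ (d - j) * g ^ j = 1 := by rw [← pow_add, Nat.sub_add_cancel hj.le, C.unit]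
    refine ⟨s ^ (d - j) * w0, by rw [hfmul, hw0, (hspow _).2, mul_zero],
      by rw [hfmul, hw0', (hspow _).1], g ^ (d - j) * c0, by rw [hfmul, hc0, (hspow _).2], ?_⟩
    rcases hjc with e | e
    · left; rw [e, hgd]
    · right; rw [e]; linear_combination v * hgd
  have hwsome : ∀ y : ZMod p, y ≠ 0 → ∃ z, f w (some y) = some z ∧ z ≠ 0 := fun y hy => by
    cases hj : f w (some y) with
    | none => exact absurd ((f w).injective (hj.trans hw'.symm)) (by simp [hy])
    | some z => exact ⟨z, rfl, fun e => absurd ((f w).injective (hj.trans (e ▸ hw.symm))) (by simp)⟩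
  obtain ⟨k, hk, hwk⟩ : ∃ k < d, ∀ y z, f w (some y) = some z → f w (some (g * y)) = some (g ^ k * z) := by
    have hcj : ∀ o, f (w * s * w⁻¹) (f w o) = f w (f s o) := fun o => by
      rw [← hfmul, ← hfmul, inv_mul_cancel_right]
    have h0 : f (w * s * w⁻¹) none = none := by rw [← hw', hcj, hs, mul_zero]
    have h00 : f (w * s * w⁻¹) (some 0) = some 0 := by rw [← hw, hcj, hs0]
    obtain ⟨a, b, hab⟩ := haff _ h0
    obtain ⟨-, k, hk, rfl⟩ := hroot _ h0 a b hab
    have hb : b = 0 := by
      have := (hab 0).symm.trans h00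
      simpa using this
    refine ⟨k, hk, fun y z e => ?_⟩
    rw [← hs y, ← hcj, e, hab, hb, add_zero]
  obtain ⟨c', hc', hc'0⟩ := hwsome v C.vne
  have hwi : ∀ i : ℕ, f w (some (g ^ i)) = some (c * g ^ (k * i)) ∧
      f w (some (v * g ^ i)) = some (c' * g ^ (k * i)) := by
    intro i
    induction i with
    | zero => simp [hc1, hc']
    | succ i ih =>
      refine ⟨?_, ?_⟩
      · rw [pow_succ', hwk _ _ ih.1, Nat.mul_succ, pow_add]; congr 1; ring
      · rw [pow_succ', ← mul_assoc, mul_comm v g, mul_assoc, hwk _ _ ih.2, Nat.mul_succ, pow_add]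
        congr 1; ring
  have hW : ∀ o, f w o = flipW d g v c c' k o := by
    rintro (_ | y)
    · exact hw
    · by_cases hy : y = 0
      · rw [hy, hw']; simp [flipW]
      · obtain ⟨z, hz, -⟩ := hwsome y hy
        rw [hz]
        simp only [flipW, if_neg hy, Option.some_inj]
        refine (foldr_value (d := d) _ (fun i _ => ⟨fun e => ?_, fun e => ?_⟩) ?_).symm
        · rw [e] at hz
          exact Option.some_inj.1 ((hwi i).1.symm.trans hz)
        · rw [e] at hz
          exact Option.some_inj.1 ((hwi i).2.symm.trans hz)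
        · obtain ⟨i, hi, h⟩ := C.cover y hy
          exact ⟨i, List.mem_range.2 hi, h⟩
  obtain ⟨x₀, hx₀⟩ : ∃ x₀, f w (some x₀) = some (-1) := by
    obtain ⟨o, ho⟩ := (f w).surjective (some (-1))
    cases o with
    | none => exact absurd (hw.symm.trans ho) (by simp)
    | some x₀ => exact ⟨x₀, ho⟩
  have hmap1 : ∀ o : Option (ZMod p), f x o = o.map (· + 1) := fun o => by
    rw [hshift]
    cases o <;> rfl
  have hmapc : ∀ o : Option (ZMod p), f (x ^ c.val) o = o.map (· + c) := by
    rintro (_ | i)
    · exact (hxn _).1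
    · rw [(hxn _).2, ZMod.natCast_val, ZMod.cast_id]
      rfl
  have hfc : ∀ o, f ((x ^ c.val)⁻¹) (f (x ^ c.val) o) = o := fun o => by
    rw [← hfmul, inv_mul_cancel, map_one, Equiv.Perm.one_apply]
  have hwi0 : ∀ o, f w⁻¹ (f w o) = o := fun o => by
    rw [← hfmul, inv_mul_cancel, map_one, Equiv.Perm.one_apply]
  set u : G := w * x * w with hu
  have hn0 : f (w⁻¹ * (x ^ c.val)⁻¹ * u) none = none := by
    have h1 : f u none = f (x ^ c.val) (some 0) := by
      rw [hu, hfmul, hfmul, hw, hmap1, hmapc]
      simp [hc1]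
    rw [hfmul, h1, hfmul, hfc]
    have h2 := hwi0 none
    rwa [hw] at h2
  obtain ⟨a, b, hab⟩ := haff _ hn0
  obtain ⟨ha0, i, hi, hai⟩ := hroot _ hn0 a b hab
  have huz : ∀ o, f u o = (f w (f (w⁻¹ * (x ^ c.val)⁻¹ * u) o)).map (· + c) := fun o => by
    rw [← hmapc, ← hfmul, ← hfmul]
    congr 2
    group
  have hb : b = -(a * x₀) := by
    have h1 := huz (some x₀)
    rw [hu, hfmul, hfmul, hx₀, hmap1, Option.map_some, neg_add_cancel, hw', hab] at h1
    have h3 : f w (some (a * x₀ + b)) = none := by simpa using h1.symm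
    have h2 := Option.some_inj.1 ((f w).injective (h3.trans hw'.symm))
    linear_combination h2
  obtain ⟨hkd, hcc, j, hj, hjc⟩ := C.flip k hk c c' hc hc'0 x₀ (by rw [← hW, hx₀]) i hi (by
    intro o
    rw [← hW, ← hW, ← hW, ← hmap1]
    show f w (f x (f w o)) = _
    rw [← hfmul, ← hfmul, ← hu, huz]
    congr 2
    cases o with
    | none => exact hn0
    | some z => rw [hab, hb, hai, Option.map_some]; congr 1; ring)
  have hflip : f (s ^ (d - j) * w) = negInv := Equiv.ext fun o => by
    rw [hfmul]
    cases o with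
    | none => rw [hw, (hspow _).2, mul_zero]; rfl
    | some y =>
      by_cases hy : y = 0
      · rw [hy, hw', (hspow _).1]
        simp [negInv, negInvFun]
      obtain ⟨z, hz, -⟩ := hwsome y hy
      have hyz : y * z = c := by
        obtain ⟨i, -, h⟩ := C.cover y hy
        rcases h with e | e
        · rw [e] at hz ⊢
          rw [← Option.some_inj.1 ((hwi i).1.symm.trans hz), ← mul_left_comm, ← pow_add,
            show i + k * i = d * i by rw [← hkd]; ring, pow_mul, C.unit, one_pow, mul_one]
        · rw [e] at hz ⊢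
          rw [← Option.some_inj.1 ((hwi i).2.symm.trans hz), mul_mul_mul_comm, ← pow_add,
            show i + k * i = d * i by rw [← hkd]; ring, pow_mul, C.unit, one_pow, mul_one, hcc, mul_comm]
      rw [hz, (hspow _).2]
      simp only [negInv, Function.Involutive.coe_toPerm, negInvFun, if_neg hy, Option.some_inj]
      have hgd : g ^ (d - j) * g ^ j = 1 := by rw [← pow_add, Nat.sub_add_cancel hj.le, C.unit]
      field_simp
      linear_combination g ^ (d - j) * hyz + hgd * (-1 : ZMod p) + g ^ (d - j) * hjc * (-1 : ZMod p)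
  refine ⟨f, hfinj, le_antisymm ?_ ?_⟩
  · set M := closure {shiftP p, scaleP hg, (negInv : Equiv.Perm (Option (ZMod p)))} with hM
    have hxM : f x ∈ M := hshift ▸ subset_closure (by simp)
    have hsM : f s ∈ M := hscale ▸ subset_closure (by simp)
    have hwM : f w ∈ M := by
      have h2 : f (s ^ (d - j) * w) ∈ M := hflip ▸ subset_closure (by simp)
      rw [map_mul, map_pow] at h2
      exact (M.mul_mem_cancel_left (M.pow_mem hsM _)).1 h2
    have hNM : ∀ n, f n none = none → f n ∈ M := by
      intro n hn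
      obtain ⟨a, b, hab⟩ := haff n hn
      obtain ⟨-, i, -, rfl⟩ := hroot n hn a b hab
      have : f n = f (x ^ b.val * s ^ i) := Equiv.ext fun o => by
        cases o with
        | none => rw [hn, hfmul, (hspow i).1, (hxn _).1]
        | some z => rw [hab, hfmul, (hspow i).2, (hxn _).2, ZMod.natCast_val, ZMod.cast_id]
      rw [this, map_mul, map_pow, map_pow]
      exact M.mul_mem (M.pow_mem hxM _) (M.pow_mem hsM _)
    rintro _ ⟨h, rfl⟩
    cases hh : f h none with
    | none => exact hNM h hh
    | some j' =>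
      have h1 : f (x ^ j'.val * w) none = some j' := by
        rw [hfmul, hw, (hxn _).2, ZMod.natCast_val, ZMod.cast_id, zero_add]
      have h2 : f ((x ^ j'.val * w)⁻¹ * h) none = none := by
        rw [hfmul, hh, ← h1, ← hfmul, inv_mul_cancel, map_one, Equiv.Perm.one_apply]
      have h3 := hNM _ h2
      rw [map_mul, map_inv, map_mul, map_pow] at h3
      exact (M.mul_mem_cancel_left (M.inv_mem (M.mul_mem (M.pow_mem hxM _) hwM))).1 h3
  · rw [closure_le]
    intro q hq
    rcases hq with rfl | rfl | rfl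
    · exact ⟨x, hshift⟩
    · exact ⟨s, hscale⟩
    · exact ⟨_, hflip⟩

theorem card_sylow [IsSimpleGroup G] {d : ℕ} {g v : ZMod p} (C : Check p d g v)
    (hK : Nat.card G = p * d * (p + 1))
    (hdiv : ∀ n ∈ (d * (p + 1)).divisors, n % p = 1 → n ≠ 1 → n = p + 1) : Nat.card (Sylow p G) = p + 1 := by
  have hp : p.Prime := Fact.out
  have hd0 : 0 < d := by
    rcases Nat.eq_zero_or_pos d with h | h
    · exact absurd (C.size ▸ hp : Nat.Prime (2 * d + 1)) (by rw [h]; exact Nat.not_prime_one)
    · exact h
  obtain ⟨P⟩ : Nonempty (Sylow p G) := inferInstance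
  have hndvd : ¬ p ∣ d * (p + 1) := by
    rw [hp.dvd_mul]
    rintro (h | h)
    · exact absurd (Nat.le_of_dvd hd0 h) (by have := C.size; omega)
    · exact absurd ((Nat.dvd_add_right dvd_rfl).1 h) hp.not_dvd_one
  have hK' : Nat.card G = p ^ 1 * (d * (p + 1)) := by rw [hK, pow_one, mul_assoc]
  have h1 : 1 < d * (p + 1) := by nlinarith [hp.two_le]
  obtain ⟨ha, hb, hc⟩ := SmallOrders.sylow_number P (SmallOrders.sylow_card_eq hK' hndvd P) Nat.one_pos hK' h1
  exact hdiv _ (Nat.mem_divisors.2 ⟨ha, by omega⟩) hb hc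

/-- two such groups are isomorphic -/
theorem iso [IsSimpleGroup G] {H : Type*} [Group H] [Finite H] [IsSimpleGroup H] {d : ℕ} {g v : ZMod p}
    (C : Check p d g v) (hg : g ≠ 0)
    (hG : Nat.card G = p * d * (p + 1)) (hnG : Nat.card (Sylow p G) = p + 1)
    (hH : Nat.card H = p * d * (p + 1)) (hnH : Nat.card (Sylow p H) = p + 1) : Nonempty (G ≃* H) := by
  obtain ⟨f, hf, hfr⟩ := exists_rep C hg hG hnG
  obtain ⟨f', hf', hfr'⟩ := exists_rep C hg hH hnH
  exact ⟨(f.ofInjective hf).trans ((MulEquiv.subgroupCongr (hfr.trans hfr'.symm)).trans (f'.ofInjective hf').symm)⟩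

/-- a simple group with this order is the projective special linear group -/
theorem iso_psl [IsSimpleGroup G] {d : ℕ} {g v : ZMod p} (C : Check p d g v) (hg : g ≠ 0) (h5 : 5 ≤ p)
    (hG : Nat.card G = p * d * (p + 1)) {F : Type*} [Field F] [Fintype F] (hF : Fintype.card F = p)
    (hdiv : ∀ n ∈ (d * (p + 1)).divisors, n % p = 1 → n ≠ 1 → n = p + 1) :
    Nonempty (G ≃* Matrix.ProjectiveSpecialLinearGroup (Fin 2) F) := by
  have hp : p.Prime := Fact.out
  have h2 : (2 : F) ≠ 0 := by
    apply SL2C.not_two_dvd_iff.1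
    rw [hF]
    intro h
    rcases hp.eq_one_or_self_of_dvd 2 h with e | e <;> omega
  have hcard : Nat.card (Matrix.ProjectiveSpecialLinearGroup (Fin 2) F) = p * d * (p + 1) := by
    have h := Classical.Dickson.card_P2 (F := F)
    rw [Classical.Dickson.two_dvd_pred h2, hF] at h
    have hs : p ^ 2 - 1 = 2 * d * (p + 1) := by
      have h2 : (2 * d + 1) ^ 2 = 2 * d * (2 * d + 1 + 1) + 1 := by ring
      rw [← C.size]
      omega
    rw [hs] at h
    nlinarith [h]
  haveI := Matrix.ProjectiveSpecialLinearGroup.rank_two_simple (F := F) (by rw [Nat.card_eq_fintype_card]; omega)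
  exact iso C hg hG (card_sylow C hG hdiv) hcard (card_sylow C hcard hdiv)


end Main

end Cfsg.Agent.Small.PSLOrderIso
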