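import Mathlib
import Cfsg.Prelude.Def_Classical
import Cfsg.Prelude.Def_LieClassical

/-!
# The quadratic extension of a finite field and restriction of scalars for unitary groups

For fields with `q` and `q²` elements: an embedding, the conjugation, roots of anisotropic binary
forms and norms, and homomorphisms into isometry groups transported along a linear bijection.
-/

set_option autoImplicit false
set_option linter.unusedSectionVars false

namespace Cfsg.Agent.Small.QuadExt

open Polynomial

variable {F K : Type*} [Field F] [Fintype F] [Field K] [Fintype K] {q : ℕ}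

/-- An embedding with the conjugation fixing exactly its image. -/
structure Setup (F K : Type*) [Field F] [Field K] (q : ℕ) where
  emb : F →+* K
  conj : K →+* K
  conj_eq : ∀ x, conj x = x ^ q
  conj_conj : ∀ x, conj (conj x) = x
  conj_emb : ∀ a, conj (emb a) = emb a
  fixed : ∀ x, conj x = x → ∃ a, emb a = x

theorem exists_setup (hF : Fintype.card F = q) (hK : Fintype.card K = q ^ 2) : Nonempty (Setup F K q) := by
  classical
  obtain ⟨p, hp⟩ := CharP.exists F
  have := Fact.mk (CharP.char_is_prime F p)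
  obtain ⟨f₀, hp', hf₀⟩ := FiniteField.card F p
  obtain ⟨f, hf⟩ : ∃ f : ℕ, Fintype.card F = p ^ f := ⟨_, hf₀⟩
  obtain ⟨r, hr⟩ := CharP.exists K
  have := Fact.mk (CharP.char_is_prime K r)
  obtain ⟨g₀, hr', hg₀⟩ := FiniteField.card K r
  obtain ⟨g, hg0, hg⟩ : ∃ g : ℕ, g ≠ 0 ∧ Fintype.card K = r ^ g := ⟨_, g₀.ne_zero, hg₀⟩
  have hrp : r = p := by
    have : r ∣ p ^ (f * 2) := by
      rw [pow_mul, ← hf, hF, ← hK, hg]
      exact dvd_pow_self r hg0
    exact (Nat.prime_dvd_prime_iff_eq hr' hp').mp (hr'.dvd_of_dvd_pow this)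
  subst hrp
  let _ : Algebra (ZMod r) F := ZMod.algebra F r
  let _ : Algebra (ZMod r) K := ZMod.algebra K r
  have hdF : Module.finrank (ZMod r) F = f := by
    have := Module.card_eq_pow_finrank (K := ZMod r) (V := F)
    rw [hf, ZMod.card] at this
    exact (Nat.pow_right_injective hr'.two_le this).symm
  have hdK : Module.finrank (ZMod r) K = 2 * f := by
    have := Module.card_eq_pow_finrank (K := ZMod r) (V := K)
    rw [hK, ← hF, hf, ZMod.card, ← pow_mul] at this
    have := Nat.pow_right_injective hr'.two_le this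
    omega
  obtain ⟨ι⟩ := FiniteField.nonempty_algHom_of_finrank_dvd (F := ZMod r) (K := F) (L := K)
    (by rw [hdF, hdK]; exact dvd_mul_left _ _)
  have hq : q = r ^ f := hF.symm.trans hf
  refine ⟨⟨ι.toRingHom, iterateFrobenius K r f, fun x => by rw [iterateFrobenius_def, hq], fun x => ?_, fun a => ?_, ?_⟩⟩
  · rw [iterateFrobenius_def, iterateFrobenius_def, ← pow_mul, ← pow_add, ← two_mul, mul_comm 2 f, pow_mul,
      ← hq, ← hK, FiniteField.pow_card]
  · rw [iterateFrobenius_def, ← map_pow, ← hq, ← hF, FiniteField.pow_card]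
  · intro x hx
    rw [iterateFrobenius_def, ← hq] at hx
    by_contra hne
    have hq1 : 1 < q := hF ▸ Fintype.one_lt_card
    set P : K[X] := X ^ q - X with hP
    have hP0 : P ≠ 0 := FiniteField.X_pow_card_sub_X_ne_zero K hq1
    have hdeg : P.natDegree = q := FiniteField.X_pow_card_sub_X_natDegree_eq K hq1
    have hsub : insert x (Finset.univ.image ι) ⊆ P.roots.toFinset := by
      intro y hy
      rw [Multiset.mem_toFinset, mem_roots hP0, IsRoot.def, hP, eval_sub, eval_pow, eval_X, sub_eq_zero]
      rcases Finset.mem_insert.mp hy with rfl | hy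
      · exact hx
      · obtain ⟨a, -, rfl⟩ := Finset.mem_image.mp hy
        rw [← map_pow, ← hF, FiniteField.pow_card]
    have h1 := (Finset.card_le_card hsub).trans (P.roots.toFinset_card_le.trans (P.card_roots'))
    rw [Finset.card_insert_of_notMem (by simpa using hne), Finset.card_image_of_injective _ (show Function.Injective ι from ι.toRingHom.injective),
      Finset.card_univ, hF, hdeg] at h1
    omega

variable (S : Setup F K q)

/-- A root of a binary form without zeros splits in the extension. -/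
theorem exists_root (hF : Fintype.card F = q) (hK : Fintype.card K = q ^ 2) (a b : F)
    (hab : ∀ z₁ z₂ : F, z₁ ^ 2 + a * z₁ * z₂ + b * z₂ ^ 2 = 0 → z₁ = 0 ∧ z₂ = 0) :
    ∃ r : K, r + S.conj r = -S.emb a ∧ r * S.conj r = S.emb b ∧ r ≠ S.conj r := by
  obtain ⟨P, hP⟩ : ∃ P : F[X], P = X ^ 2 + C a * X + C b := ⟨_, rfl⟩
  have hm : P.Monic := by rw [hP]; monicity!
  have hd : P.natDegree = 2 := by rw [hP]; compute_degree!
  have hirr : Irreducible P := by
    rw [hm.irreducible_iff_roots_eq_zero_of_degree_le_three (by omega) (by omega)]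
    refine Multiset.eq_zero_of_forall_notMem fun z hz => ?_
    rw [mem_roots hm.ne_zero, IsRoot.def, hP] at hz
    have := hab z 1 (by simpa using hz)
    exact one_ne_zero this.2
  have : Fact (Irreducible P) := ⟨hirr⟩
  let _ : Algebra F K := S.emb.toAlgebra
  have h1 : Module.finrank F (AdjoinRoot P) = 2 := by
    rw [(AdjoinRoot.powerBasis hm.ne_zero).finrank, AdjoinRoot.powerBasis_dim, hd]
  have h2 : Module.finrank F K = 2 := by
    have := Module.card_eq_pow_finrank (K := F) (V := K)
    rw [hK, hF] at this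
    exact (Nat.pow_right_injective (hF ▸ Fintype.one_lt_card) this).symm
  obtain ⟨φ⟩ := FiniteField.nonempty_algHom_of_finrank_dvd (F := F) (K := AdjoinRoot P) (L := K)
    (by rw [h1, h2])
  set r : K := φ (AdjoinRoot.root P) with hr
  have hroot : r ^ 2 + S.emb a * r + S.emb b = 0 := by
    have h : aeval (AdjoinRoot.root P) P = 0 := by rw [AdjoinRoot.aeval_eq, AdjoinRoot.mk_self]
    have h' := congrArg φ h
    rw [map_zero, ← aeval_algHom_apply, ← hr, hP] at h'
    simpa [RingHom.algebraMap_toAlgebra] using h'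
  have hne : r ≠ S.conj r := by
    intro he
    obtain ⟨z, hz⟩ := S.fixed r he.symm
    have h0 : z ^ 2 + a * z * 1 + b * 1 ^ 2 = 0 := by
      apply S.emb.injective
      simp [hz, hroot]
    exact one_ne_zero (hab z 1 h0).2
  have hroot' : S.conj r ^ 2 + S.emb a * S.conj r + S.emb b = 0 := by
    have := congrArg S.conj hroot
    simpa [S.conj_emb] using this
  have hsum : r + S.conj r = -S.emb a := by
    have : (r - S.conj r) * (r + S.conj r + S.emb a) = 0 := by linear_combination hroot - hroot'
    have := (mul_eq_zero.mp this).resolve_left (sub_ne_zero.mpr hne)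
    linear_combination this
  exact ⟨r, hsum, by linear_combination -hroot + r * hsum, hne⟩

theorem exists_norm_neg_one (hF : Fintype.card F = q) (hK : Fintype.card K = q ^ 2) :
    ∃ ν : K, ν * S.conj ν = -1 := by
  obtain ⟨g, hg⟩ := IsCyclic.exists_zpow_surjective (G := Kˣ)
  have hq : 1 < q := hF ▸ Fintype.one_lt_card
  have hneg : ((-1 : Kˣ)) ^ (q - 1) = 1 := by
    have h : (-1 : F) ^ (q - 1) = 1 := hF ▸ FiniteField.pow_card_sub_one_eq_one (-1 : F) (neg_ne_zero.mpr one_ne_zero)
    have h' := congrArg S.emb h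
    apply Units.ext
    simpa using h'
  obtain ⟨k, hk⟩ := hg (-1)
  have hord : orderOf g = q ^ 2 - 1 := by
    rw [orderOf_eq_card_of_forall_mem_zpowers fun x => Subgroup.mem_zpowers_iff.mpr (hg x), Nat.card_units,
      Nat.card_eq_fintype_card, hK]
  simp only at hk
  rw [← hk, ← zpow_natCast, ← zpow_mul, ← orderOf_dvd_iff_zpow_eq_one, hord] at hneg
  have hsq : ((q ^ 2 - 1 : ℕ) : ℤ) = ((q : ℤ) + 1) * ((q - 1 : ℕ) : ℤ) := by
    rw [Nat.cast_sub (Nat.one_le_pow _ _ (by omega)), Nat.cast_sub hq.le]
    push_cast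
    ring
  rw [hsq] at hneg
  obtain ⟨j, hj⟩ := (mul_dvd_mul_iff_right (by omega : ((q - 1 : ℕ) : ℤ) ≠ 0)).mp hneg
  refine ⟨((g ^ j : Kˣ) : K), ?_⟩
  rw [S.conj_eq, ← pow_succ', ← Units.val_pow_eq_pow_val, ← zpow_natCast, ← zpow_mul]
  rw [show (j * ((q + 1 : ℕ) : ℤ)) = k by rw [hj]; push_cast; ring, hk]
  simp

theorem exists_norm_one_ne_one (hF : Fintype.card F = q) (hK : Fintype.card K = q ^ 2) :
    ∃ ζ : K, ζ * S.conj ζ = 1 ∧ ζ ≠ 1 := by
  obtain ⟨g, hg⟩ := IsCyclic.exists_zpow_surjective (G := Kˣ)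
  have hq : 1 < q := hF ▸ Fintype.one_lt_card
  have hord : orderOf g = q ^ 2 - 1 := by
    rw [orderOf_eq_card_of_forall_mem_zpowers fun x => Subgroup.mem_zpowers_iff.mpr (hg x), Nat.card_units,
      Nat.card_eq_fintype_card, hK]
  have hsq : (q - 1) * (q + 1) = q ^ 2 - 1 := by
    obtain ⟨k, rfl⟩ : ∃ k, q = k + 1 := ⟨q - 1, by omega⟩
    have : (k + 1) ^ 2 = k * (k + 1 + 1) + 1 := by ring
    rw [Nat.add_sub_cancel]
    omega
  refine ⟨((g ^ (q - 1) : Kˣ) : K), ?_, ?_⟩
  · rw [S.conj_eq, ← pow_succ', ← Units.val_pow_eq_pow_val, ← pow_mul, hsq, ← hord, pow_orderOf_eq_one, Units.val_one]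
  · intro h
    have h1 : g ^ (q - 1) = 1 := Units.ext h
    have h2 := Nat.le_of_dvd (by omega) (orderOf_dvd_of_pow_eq_one h1)
    rw [hord] at h2
    have : q * 2 ≤ q ^ 2 := by rw [pow_two]; exact Nat.mul_le_mul_left q hq
    omega

/-- An element outside the ground field. -/
theorem exists_not_fixed (hF : Fintype.card F = q) (hK : Fintype.card K = q ^ 2) : ∃ w : K, S.conj w ≠ w := by
  by_contra h
  push Not at h
  have hsur : Function.Surjective S.emb := fun x => S.fixed x (h x)
  have := Fintype.card_le_of_surjective _ hsur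
  rw [hF, hK] at this
  have hq : 1 < q := hF ▸ Fintype.one_lt_card
  nlinarith

/-- The function `x ↦ (x - x̄)/(w - w̄)`, with values in the ground field. -/
theorem exists_coord (hF : Fintype.card F = q) (hK : Fintype.card K = q ^ 2) :
    ∃ lam : K → F, (∀ x y, lam (x + y) = lam x + lam y) ∧ (∀ c x, lam (S.emb c * x) = c * lam x) ∧
      ∀ x, lam x = 0 ↔ S.conj x = x := by
  obtain ⟨w, hw⟩ := exists_not_fixed S hF hK
  have hfix : ∀ x, ∃ a, S.emb a = (x - S.conj x) / (w - S.conj w) := fun x => S.fixed _ (by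
    rw [map_div₀, map_sub, map_sub, S.conj_conj, S.conj_conj, ← neg_sub x, ← neg_sub w, neg_div_neg_eq])
  choose lam hlam using hfix
  refine ⟨lam, fun x y => S.emb.injective ?_, fun c x => S.emb.injective ?_, fun x => ?_⟩
  · rw [map_add S.emb, hlam, hlam, hlam, map_add]
    ring
  · rw [map_mul S.emb, hlam, hlam, map_mul, S.conj_emb]
    ring
  · rw [← S.emb.injective.eq_iff, hlam, map_zero, div_eq_zero_iff, or_iff_left (sub_ne_zero.mpr (Ne.symm hw)),
      sub_eq_zero]
    exact eq_comm

/-- A faithful representation preserving a function gives a homomorphism into the isometry group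
of the pulled back function. -/
theorem embed_isometry {k : Type*} [Field k] {ι : Type} [Fintype ι] [DecidableEq ι] {V X : Type*}
    [AddCommGroup V] [Module k V] {G : Type*} [Group G] (Φ : (ι → k) ≃ₗ[k] V) (ρ : G →* (V →ₗ[k] V))
    (hρ : Function.Injective ρ) (N : V → X) (e : k → X) (he : Function.Injective e) (Q : (ι → k) → k)
    (hN : ∀ w, N (Φ w) = e (Q w)) (hpres : ∀ g v, N (ρ g v) = N v) :
    ∃ φ : G →* ↥(Cfsg.isometryGroup k Q), Function.Injective φ := by
  let M : G →* Matrix ι ι k :=
    { toFun := fun g => LinearMap.toMatrix' ((Φ.symm.toLinearMap.comp (ρ g)).comp Φ.toLinearMap)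
      map_one' := by
        rw [map_one, show (Φ.symm.toLinearMap.comp (1 : V →ₗ[k] V)).comp Φ.toLinearMap = LinearMap.id from
          LinearMap.ext fun x => Φ.symm_apply_apply x, LinearMap.toMatrix'_id]
      map_mul' := fun g h => by
        rw [← LinearMap.toMatrix'_comp]
        congr 1
        ext x i
        simp [map_mul] }
  have hM : ∀ g w, Φ ((M g).mulVec w) = ρ g (Φ w) := fun g w => by
    rw [← Matrix.toLin'_apply]
    simp [M]
  refine ⟨M.toHomUnits.codRestrict _ fun g u _ => he ?_, fun g h hgh => hρ ?_⟩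
  · show e (Q ((M g).mulVec u)) = e (Q u)
    rw [← hN, ← hN, hM, hpres]
  · apply LinearMap.ext
    intro v
    obtain ⟨w, rfl⟩ := Φ.surjective v
    rw [← hM, ← hM]
    have := congrArg (fun x : ↥(Cfsg.isometryGroup k Q) => ((x : GL ι k) : Matrix ι ι k)) hgh
    change M g = M h at this
    rw [this]

end Cfsg.Agent.Small.QuadExt
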