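import Mathlib

/-!
Primary decomposition of a square matrix, in the form: an idempotent polynomial in the matrix or
a minimal polynomial which is a power of an irreducible.
-/

set_option autoImplicit false

namespace Cfsg.Agent.Small

open Polynomial

variable {F : Type*} [Field F] {R : Type*} [Ring R] [Algebra F R]

/-- Either some polynomial in `A` is an idempotent other than `0` and `1`, or the minimal
polynomial of `A` is a power of an irreducible. -/
theorem primary_or_idempotent_poly [Nontrivial R] (A : R) (hint : IsIntegral F A) :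
    (∃ e : F[X], aeval A e * aeval A e = aeval A e ∧ aeval A e ≠ 0 ∧ aeval A e ≠ 1) ∨
    ∃ (f : F[X]) (k : ℕ), f.Monic ∧ Irreducible f ∧ 1 ≤ k ∧ minpoly F A = f ^ k := by
  set μ := minpoly F A with hμ
  obtain ⟨f, hfm, hfi, hfd⟩ := exists_monic_irreducible_factor μ (minpoly.not_isUnit F A)
  obtain ⟨k, rest, hrest, hμeq⟩ := WfDvdMonoid.max_power_factor (minpoly.ne_zero hint) hfi
  rw [← hμ] at hμeq
  have hcop : IsCoprime (f ^ k) rest := ((hfi.coprime_iff_not_dvd).mpr hrest).pow_left
  have hk1 : 1 ≤ k := by
    rcases Nat.eq_zero_or_pos k with rfl | hk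
    · rw [pow_zero, one_mul] at hμeq
      exact absurd (hμeq ▸ hfd) hrest
    · exact hk
  have hμ0 : f ^ k * rest ≠ 0 := hμeq ▸ minpoly.ne_zero hint
  by_cases hu : IsUnit rest
  · right
    have hrm : rest.Monic := (hfm.pow k).of_mul_monic_left (hμeq ▸ minpoly.monic hint)
    rw [hrm.eq_one_of_isUnit hu, mul_one] at hμeq
    exact ⟨f, k, hfm, hfi, hk1, hμeq⟩
  · left
    obtain ⟨u, v, huv⟩ := hcop
    have hzero : aeval A (f ^ k * rest) = 0 := by rw [← hμeq, hμ, minpoly.aeval]
    refine ⟨u * f ^ k, ?_, ?_, ?_⟩
    · rw [← map_mul]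
      have : u * f ^ k * (u * f ^ k) = u * f ^ k - (u * v) * (f ^ k * rest) := by
        linear_combination (u * f ^ k) * huv
      rw [this, map_sub, map_mul _ (u * v), hzero, mul_zero, sub_zero]
    · intro h
      obtain ⟨c, hc⟩ : f ^ k * rest ∣ u * f ^ k := hμeq ▸ minpoly.dvd F A h
      have hr' : rest ∣ u := by
        refine ⟨c, mul_right_cancel₀ (pow_ne_zero k hfi.ne_zero) ?_⟩
        linear_combination hc
      apply hu
      rw [isUnit_iff_dvd_one, ← huv]
      exact dvd_add (hr'.mul_right _) (dvd_mul_left _ _)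
    · intro h
      have hv : aeval A (v * rest) = 0 := by
        have := congrArg (aeval A) huv
        rwa [map_add, h, map_one, add_eq_left] at this
      have hd : f ^ k * rest ∣ v * rest := hμeq ▸ minpoly.dvd F A hv
      have hf' : f ∣ v :=
        (dvd_pow_self f (by omega)).trans
          ((mul_dvd_mul_iff_right (right_ne_zero_of_mul hμ0)).mp hd)
      apply hfi.not_isUnit
      rw [isUnit_iff_dvd_one, ← huv]
      exact dvd_add (dvd_mul_of_dvd_right (dvd_pow_self f (by omega)) _) (hf'.mul_right _)

end Cfsg.Agent.Small
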