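import Cfsg.Agent.Lib.Small.SemisimpleCount
import Mathlib.RingTheory.Polynomial.Cyclotomic.Factorization
import Mathlib.Data.Sym.Card
import Mathlib.RingTheory.Polynomial.Cyclotomic.Eval

/-!
Conjugacy classes of elements of a given prime order in a general linear group.
-/

set_option autoImplicit false

namespace Cfsg.Agent.Small.PrimeOrderClasses

open Polynomial UniqueFactorizationMonoid

variable {K : Type*} [Field K]

theorem filterMap_spec {α : Type*} (m : Multiset (Option α)) :
    (m.filterMap id).card ≤ m.card ∧
      (m.filterMap id).map some + Multiset.replicate (m.card - (m.filterMap id).card) none = m := by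
  induction m using Multiset.induction with
  | empty => simp
  | cons a m ih =>
    cases a with
    | none =>
      rw [Multiset.filterMap_cons_none none m (show id (none : Option α) = none from rfl), Multiset.card_cons]
      refine ⟨ih.1.trans (Nat.le_succ _), ?_⟩
      rw [Nat.succ_sub ih.1, Multiset.replicate_succ, Multiset.add_cons, ih.2]
    | some b =>
      rw [Multiset.filterMap_cons_some id (some b) m (show id (some b) = some b from rfl), Multiset.card_cons,
        Multiset.card_cons]
      refine ⟨Nat.succ_le_succ ih.1, ?_⟩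
      rw [Nat.add_sub_add_right, Multiset.map_cons, Multiset.cons_add, ih.2]

/-- Multisets of bounded size as multisets of fixed size with padding. -/
def symEquiv (α : Type*) (N : ℕ) : Sym (Option α) N ≃ {M : Multiset α // M.card ≤ N} where
  toFun s := ⟨(s : Multiset (Option α)).filterMap id, (filterMap_spec _).1.trans s.2.le⟩
  invFun M := ⟨M.1.map some + Multiset.replicate (N - M.1.card) none, by
    rw [Multiset.card_add, Multiset.card_map, Multiset.card_replicate]
    have := M.2
    omega⟩
  left_inv s := by
    apply Sym.coe_injective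
    show _ + Multiset.replicate _ _ = (s : Multiset (Option α))
    conv_rhs => rw [← (filterMap_spec (s : Multiset (Option α))).2]
    rw [show (s : Multiset (Option α)).card = N from s.2]
  right_inv M := by
    apply Subtype.ext
    show Multiset.filterMap id (M.1.map some + Multiset.replicate (N - M.1.card) none) = M.1
    rw [Multiset.filterMap_add, Multiset.filterMap_map]
    have h : ∀ k, Multiset.filterMap id (Multiset.replicate k (none : Option α)) = 0 := by
      intro k
      induction k with
      | zero => rfl
      | succ k ih => rw [Multiset.replicate_succ, Multiset.filterMap_cons_none none _ rfl, ih]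
    rw [h, add_zero, Function.id_comp, Multiset.filterMap_some]

theorem exists_mat (r : ℕ) (M : Multiset K[X]) (hM : ∀ q ∈ M, q.Monic ∧ q ∣ X ^ r - 1) :
    ∀ n, (M.map natDegree).sum = n →
      ∃ A : Matrix (Fin n) (Fin n) K, A.charpoly = M.prod ∧ A ^ r = 1 := by
  induction M using Multiset.induction with
  | empty =>
    intro n hn
    obtain rfl : n = 0 := by simpa using hn.symm
    exact ⟨1, by simp [Matrix.charpoly, Matrix.det_isEmpty], Subsingleton.elim _ _⟩
  | cons q M ih =>
    intro n hn
    rw [Multiset.map_cons, Multiset.sum_cons] at hn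
    subst hn
    obtain ⟨hm, hd⟩ := hM q (Multiset.mem_cons_self _ _)
    obtain ⟨A, hA, hAr⟩ := ih (fun q' hq' => hM q' (Multiset.mem_cons_of_mem hq')) _ rfl
    obtain ⟨B, hB⟩ := Semisimple.exists_matrix q hm rfl
    have hBr : B ^ r = 1 := by
      obtain ⟨s, hs⟩ := hd
      have := congrArg (aeval B) hs
      have h0 := Matrix.aeval_self_charpoly B
      rw [hB] at h0
      rw [map_mul, h0, zero_mul, map_sub, map_pow, aeval_X, map_one, sub_eq_zero] at this
      exact this
    refine ⟨Matrix.reindex finSumFinEquiv finSumFinEquiv (Matrix.fromBlocks B 0 0 A), ?_, ?_⟩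
    · rw [Matrix.charpoly_reindex, Matrix.charpoly_fromBlocks_zero₁₂, hB, hA, Multiset.prod_cons]
    · rw [← Matrix.reindexAlgEquiv_apply K K, ← map_pow, Matrix.fromBlocks_diagonal_pow, hBr, hAr,
        Matrix.fromBlocks_one, map_one]

theorem card_classes [Fintype K] (p f : ℕ) [Fact p.Prime] [CharP K p] (hK : Fintype.card K = p ^ f)
    (n r i t : ℕ) (hr : r.Prime) (hrp : r ≠ p) (hi : i = orderOf ((Fintype.card K : ℕ) : ZMod r))
    (ht : t * i = r - 1) :
    Nat.card {C : ConjClasses (GL (Fin n) K) // ∃ g, ConjClasses.mk g = C ∧ orderOf g = r} =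
      (n / i + t).choose t - 1 := by
  classical
  haveI : Fact r.Prime := ⟨hr⟩
  haveI : NeZero r := ⟨hr.ne_zero⟩
  have hcop : p.Coprime r := (Nat.coprime_primes (Fact.out : p.Prime) hr).2 (Ne.symm hrp)
  have hord : orderOf (ZMod.unitOfCoprime _ (hcop.pow_left f)) = i := by
    rw [hi, ← orderOf_units, ZMod.coe_unitOfCoprime, hK]
  have hipos : 0 < i := by rw [← hord]; exact orderOf_pos _
  have hrK : (r : K) ≠ 0 := fun h => hrp (((Nat.prime_dvd_prime_iff_eq (Fact.out : p.Prime) hr).1
    ((CharP.cast_eq_zero_iff K p r).1 h)).symm)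
  let S : Finset K[X] := (normalizedFactors (cyclotomic r K)).toFinset
  have hS : ∀ q ∈ S, q.Monic ∧ Irreducible q ∧ q.natDegree = i ∧ q ∣ X ^ r - 1 ∧ q ≠ X - 1 := by
    intro q hq
    rw [Multiset.mem_toFinset] at hq
    have hirr := irreducible_of_normalized_factor q hq
    refine ⟨?_, hirr, (natDegree_of_mem_normalizedFactors_cyclotomic hK hcop hq).trans hord, ?_, ?_⟩
    · rw [← normalize_normalized_factor q hq]; exact monic_normalize hirr.ne_zero
    · exact (dvd_of_mem_normalizedFactors hq).trans ⟨X - 1, (cyclotomic_prime_mul_X_sub_one K r).symm⟩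
    · rintro rfl
      have := dvd_of_mem_normalizedFactors hq
      rw [← C_1, dvd_iff_isRoot, IsRoot, eval_one_cyclotomic_prime] at this
      exact hrK this
  have hScard : Fintype.card S = t := by
    rw [Fintype.card_coe, normalizedFactors_cyclotomic_card hK hcop, hord, Nat.totient_prime hr, ← ht,
      Nat.mul_div_cancel _ hipos]
  have hfac : ∀ q : K[X], Irreducible q → q.Monic → q ∣ X ^ r - 1 → q = X - 1 ∨ q ∈ S := by
    intro q hq hm hd
    rw [← cyclotomic_prime_mul_X_sub_one K r] at hd
    rcases hq.prime.dvd_or_dvd hd with h | h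
    · refine Or.inr (Multiset.mem_toFinset.2 ?_)
      obtain ⟨q', hq', hass⟩ := exists_mem_normalizedFactors_of_dvd (cyclotomic_ne_zero r K) hq h
      have hm' : q'.Monic := by
        rw [← normalize_normalized_factor q' hq']
        exact monic_normalize (irreducible_of_normalized_factor q' hq').ne_zero
      rwa [eq_of_monic_of_associated hm hm' hass]
    · refine Or.inl (eq_of_monic_of_associated hm (by simpa using monic_X_sub_C (1 : K)) ?_)
      exact hq.associated_of_dvd (by simpa using irreducible_X_sub_C (1 : K)) h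
  have hdeg1 : (X - 1 : K[X]).natDegree = 1 := by rw [← C_1, natDegree_X_sub_C]
  -- the bijection with bounded multisets of factors
  let T := {M : Multiset S // M.card ≤ n / i}
  let fac : T → Multiset K[X] := fun M =>
    Multiset.replicate (n - i * M.1.card) (X - 1) + M.1.map Subtype.val
  have hle : ∀ M : T, i * M.1.card ≤ n := fun M =>
    (Nat.mul_le_mul_left i M.2).trans (Nat.mul_div_le n i)
  have hfacS : ∀ (M : T), ∀ q ∈ fac M, q.Monic ∧ Irreducible q ∧ q ∣ X ^ r - 1 := by
    intro M q hq
    rcases Multiset.mem_add.1 hq with h | h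
    · rw [Multiset.eq_of_mem_replicate h]
      refine ⟨monic_X_sub_C (1 : K), ?_, sub_one_dvd_pow_sub_one X r⟩
      have := irreducible_X_sub_C (1 : K)
      rwa [map_one] at this
    · obtain ⟨⟨q', hq'⟩, -, rfl⟩ := Multiset.mem_map.1 h
      obtain ⟨h1, h2, -, h4, -⟩ := hS q' hq'
      exact ⟨h1, h2, h4⟩
  have hsum : ∀ M : T, ((fac M).map natDegree).sum = n := by
    intro M
    have e : (M.1.map Subtype.val).map natDegree = Multiset.replicate M.1.card i := by
      rw [Multiset.map_map]
      refine Multiset.eq_replicate.2 ⟨Multiset.card_map _ _, fun d hd => ?_⟩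
      obtain ⟨q, -, rfl⟩ := Multiset.mem_map.1 hd
      exact (hS _ q.2).2.2.1
    simp only [fac, Multiset.map_add, Multiset.sum_add, e, Multiset.map_replicate, Multiset.sum_replicate,
      hdeg1, smul_eq_mul, mul_one]
    have := hle M
    rw [mul_comm M.1.card i]
    omega
  have hex : ∀ M : T, ∃ g : GL (Fin n) K,
      (g : Matrix (Fin n) (Fin n) K).charpoly = (fac M).prod ∧ g ^ r = 1 := by
    intro M
    obtain ⟨A, hA, hAr⟩ := exists_mat r (fac M) (fun q hq => ⟨(hfacS M q hq).1, (hfacS M q hq).2.2⟩) n (hsum M)
    exact ⟨Units.ofPowEqOne A r hAr hr.ne_zero, hA, Units.pow_ofPowEqOne hAr hr.ne_zero⟩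
  choose g hg hgr using hex
  have hcopr : ∀ x : GL (Fin n) K, x ^ r = 1 → (orderOf x).Coprime p := fun x hx =>
    Nat.Coprime.coprime_dvd_left (orderOf_dvd_of_pow_eq_one hx) hcop.symm
  let Φ : T → {C : ConjClasses (GL (Fin n) K) // ∃ x, ConjClasses.mk x = C ∧ x ^ r = 1} :=
    fun M => ⟨ConjClasses.mk (g M), g M, rfl, hgr M⟩
  have hΦ : Function.Bijective Φ := by
    constructor
    · intro M M' h
      have h' := Semisimple.charpoly_eq_of_isConj_GL
        (ConjClasses.mk_eq_mk_iff_isConj.1 (congrArg Subtype.val h))
      rw [hg, hg] at h'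
      have e : ∀ M : T, (normalizedFactors (fac M).prod).filter (fun q => q ≠ X - 1) = M.1.map Subtype.val := by
        intro M
        rw [normalizedFactors_prod_eq _ fun q hq => (hfacS M q hq).2.1,
          Multiset.map_congr rfl fun q hq => (hfacS M q hq).1.normalize_eq_self, Multiset.map_id',
          Multiset.filter_add, Multiset.filter_eq_nil.2 fun q hq => not_not.2 (Multiset.eq_of_mem_replicate hq),
          zero_add, Multiset.filter_eq_self.2 fun q hq => ?_]
        obtain ⟨⟨q', hq'⟩, -, rfl⟩ := Multiset.mem_map.1 hq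
        exact (hS q' hq').2.2.2.2
      have := congrArg (fun P => (normalizedFactors P).filter (fun q => q ≠ X - 1)) h'
      simp only [e] at this
      exact Subtype.ext (Multiset.map_injective Subtype.val_injective this)
    · rintro ⟨C, x, rfl, hx⟩
      obtain ⟨P, hP⟩ : ∃ P, P = (x : Matrix (Fin n) (Fin n) K).charpoly := ⟨_, rfl⟩
      have hPm : P.Monic := hP ▸ Matrix.charpoly_monic _
      have hPd : P.natDegree = n := by
        rw [hP, Matrix.charpoly_natDegree_eq_dim, Fintype.card_fin]
      have hann : aeval (x : Matrix (Fin n) (Fin n) K) (X ^ r - 1 : K[X]) = 0 := by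
        rw [map_sub, map_pow, aeval_X, map_one, ← Units.val_pow_eq_pow_val, hx, Units.val_one, sub_self]
      have hmem : ∀ q ∈ normalizedFactors P, q.Monic ∧ (q = X - 1 ∨ q ∈ S) := by
        intro q hq
        have hirr := irreducible_of_normalized_factor q hq
        have hqm : q.Monic := by
          rw [← normalize_normalized_factor q hq]; exact monic_normalize hirr.ne_zero
        refine ⟨hqm, hfac q hirr hqm ?_⟩
        exact (Semisimple.dvd_minpoly_of_dvd_charpoly _ hirr (hP ▸ dvd_of_mem_normalizedFactors hq)).trans
          (minpoly.dvd K _ hann)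
      obtain ⟨M0, hM0⟩ : ∃ M0 : Multiset S,
          M0.map Subtype.val = (normalizedFactors P).filter (fun q => q ≠ X - 1) := by
        refine ⟨(((normalizedFactors P).filter (fun q => q ≠ X - 1)).attach.map fun q => ⟨q.1, ?_⟩), ?_⟩
        · obtain ⟨h1, h2⟩ := Multiset.mem_filter.1 q.2
          exact (hmem _ h1).2.resolve_left h2
        · rw [Multiset.map_map]
          exact Multiset.attach_map_val _
      have hsplit : normalizedFactors P =
          Multiset.replicate ((normalizedFactors P).count (X - 1)) (X - 1) + M0.map Subtype.val := by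
        rw [hM0, ← Multiset.filter_eq' , Multiset.filter_add_not]
      have hprod : (normalizedFactors P).prod = P := by
        refine eq_of_monic_of_associated ?_ hPm (prod_normalizedFactors hPm.ne_zero)
        have := monic_multiset_prod_of_monic (normalizedFactors P) id fun q hq => (hmem q hq).1
        rwa [Multiset.map_id] at this
      have hdeg : (normalizedFactors P).count (X - 1) + i * M0.card = n := by
        have := congrArg natDegree hprod
        rw [natDegree_multiset_prod_of_monic _ fun q hq => (hmem q hq).1, hPd, hsplit, Multiset.map_add,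
          Multiset.sum_add, Multiset.map_replicate, Multiset.sum_replicate, hdeg1, smul_eq_mul, mul_one] at this
        have e : (M0.map Subtype.val).map natDegree = Multiset.replicate M0.card i := by
          rw [Multiset.map_map]
          refine Multiset.eq_replicate.2 ⟨Multiset.card_map _ _, fun d hd => ?_⟩
          obtain ⟨q, -, rfl⟩ := Multiset.mem_map.1 hd
          exact (hS _ q.2).2.2.1
        rw [e, Multiset.sum_replicate, smul_eq_mul, mul_comm M0.card i] at this
        exact this
      refine ⟨⟨M0, (Nat.le_div_iff_mul_le hipos).2 (by rw [mul_comm]; omega)⟩, Subtype.ext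
        (ConjClasses.mk_eq_mk_iff_isConj.2 (Semisimple.isConj_of_charpoly p _ x (hcopr _ (hgr _)) (hcopr x hx) ?_))⟩
      rw [hg, ← hP]
      conv_rhs => rw [← hprod, hsplit]
      rw [show (normalizedFactors P).count (X - 1) = n - i * M0.card by omega]
  have hcard : Nat.card {C : ConjClasses (GL (Fin n) K) // ∃ x, ConjClasses.mk x = C ∧ x ^ r = 1} =
      (n / i + t).choose t := by
    rw [← Nat.card_congr (Equiv.ofBijective Φ hΦ), ← Nat.card_congr (symEquiv S (n / i)),
      Nat.card_eq_fintype_card, Sym.card_sym_eq_choose, Fintype.card_option, hScard,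
      Nat.add_right_comm t 1, Nat.add_sub_cancel, Nat.add_comm t, Nat.choose_symm_add]
  have hins : {C : ConjClasses (GL (Fin n) K) | ∃ x, ConjClasses.mk x = C ∧ x ^ r = 1} =
      insert (ConjClasses.mk 1) {C | ∃ x, ConjClasses.mk x = C ∧ orderOf x = r} := by
    ext C
    constructor
    · rintro ⟨x, rfl, hx⟩
      rcases eq_or_ne x 1 with rfl | hne
      · exact Set.mem_insert _ _
      · exact Set.mem_insert_of_mem _ ⟨x, rfl, orderOf_eq_prime hx hne⟩
    · rintro (rfl | ⟨x, rfl, hx⟩)
      · exact ⟨1, rfl, one_pow r⟩
      · exact ⟨x, rfl, hx ▸ pow_orderOf_eq_one x⟩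
  have hnot : ConjClasses.mk 1 ∉ {C : ConjClasses (GL (Fin n) K) | ∃ x, ConjClasses.mk x = C ∧ orderOf x = r} := by
    rintro ⟨x, hx, ho⟩
    obtain rfl : x = 1 := isConj_one_left.1 (ConjClasses.mk_eq_mk_iff_isConj.1 hx)
    rw [orderOf_one] at ho
    exact hr.one_lt.ne ho
  haveI : Finite (ConjClasses (GL (Fin n) K)) := Finite.of_surjective _ ConjClasses.mk_surjective
  have hncard := Set.ncard_insert_of_notMem hnot (Set.toFinite _)
  rw [← hins, ← Nat.card_coe_set_eq, ← Nat.card_coe_set_eq] at hncard
  rw [← hcard]
  exact (Nat.eq_sub_of_add_eq hncard.symm)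

end Cfsg.Agent.Small.PrimeOrderClasses
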