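import Cfsg.Agent.Lib.Small.SmallOrders

/-!
# Recognition of groups acting as a projective line of even order

A self-centralising elementary abelian subgroup of order q with an element of order q - 1 in its
normaliser and an inverting element pins down the group.
-/

set_option autoImplicit false

namespace Cfsg.Agent.Small.ProjLineEven

open Subgroup

universe uG uF

variable {G : Type uG} [Group G] [Finite G]

/-- The local data of a group of degree `q + 1`. -/
structure Data (G : Type uG) [Group G] (q : ℕ) where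
  S : Subgroup G
  y : G
  w : G
  four_le : 4 ≤ q
  cardG : Nat.card G = (q + 1) * (q * (q - 1))
  cardS : Nat.card S = q
  sq : ∀ s ∈ S, s * s = 1
  cent : ∀ s ∈ S, s ≠ 1 → ∀ g : G, g * s = s * g → g ∈ S
  cardN : Nat.card (normalizer (S : Set G)) = q * (q - 1)
  ordy : orderOf y = q - 1
  memy : y ∈ normalizer (S : Set G)
  inv : w * y * w⁻¹ = y⁻¹

namespace Data

variable {q : ℕ} (D : Data G q)

theorem comm {a b : G} (ha : a ∈ D.S) (hb : b ∈ D.S) : a * b = b * a := by
  have h := D.sq _ (mul_mem ha hb)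
  rw [mul_eq_one_iff_eq_inv, mul_inv_rev] at h
  rw [h, inv_eq_of_mul_eq_one_right (D.sq a ha), inv_eq_of_mul_eq_one_right (D.sq b hb)]

theorem pow_mem_eq_one {k : ℕ} (h : D.y ^ k ∈ D.S) : D.y ^ k = 1 := by
  have h1 : orderOf (D.y ^ k) ∣ q - 1 := D.ordy ▸ orderOf_pow_dvd k
  have h2 : orderOf (D.y ^ k) ∣ 2 := orderOf_dvd_of_pow_eq_one (by rw [pow_two]; exact D.sq _ h)
  rw [← orderOf_eq_one_iff]
  rcases (Nat.dvd_prime Nat.prime_two).1 h2 with e | e
  · exact e
  -- the order of `S` is even then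
  exfalso
  have h3 : 2 ∣ q := by
    have := orderOf_dvd_natCard (⟨_, h⟩ : D.S)
    rwa [orderOf_mk, e, D.cardS] at this
  rw [e] at h1
  have := D.four_le
  omega

theorem fpf {k : ℕ} {s : G} (hs : s ∈ D.S) (h1 : s ≠ 1) (h : D.y ^ k * s = s * D.y ^ k) : D.y ^ k = 1 :=
  D.pow_mem_eq_one (D.cent s hs h1 _ h)

theorem ti {g s : G} (hs : s ∈ D.S) (h1 : s ≠ 1) (h : g⁻¹ * s * g ∈ D.S) :
    g ∈ normalizer (D.S : Set G) := by
  have hc : ∀ v ∈ D.S, g * v * g⁻¹ ∈ D.S := fun v hv => D.cent s hs h1 _ <| by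
    have e : v * (g⁻¹ * s * g) = g⁻¹ * s * g * v := D.comm hv h
    calc g * v * g⁻¹ * s = g * (v * (g⁻¹ * s * g)) * g⁻¹ := by group
      _ = g * (g⁻¹ * s * g * v) * g⁻¹ := by rw [e]
      _ = s * (g * v * g⁻¹) := by group
  refine mem_normalizer_iff_map_conj_eq.2 (eq_of_le_of_card_ge ?_ ?_)
  · rintro _ ⟨v, hv, rfl⟩
    exact hc v hv
  · rw [card_map_of_injective (MulAut.conj g).injective]

theorem exists_mul {n : G} (hn : n ∈ normalizer (D.S : Set G)) :
    ∃ (s : G) (k : ℕ), s ∈ D.S ∧ n = s * D.y ^ k := by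
  let φ : D.S × Fin (q - 1) → normalizer (D.S : Set G) := fun p =>
    ⟨(p.1 : G) * D.y ^ (p.2 : ℕ), mul_mem (le_normalizer p.1.2) (pow_mem D.memy _)⟩
  have hinj : Function.Injective φ := by
    have key : ∀ (a b : G) (i j : ℕ), a ∈ D.S → b ∈ D.S → i ≤ j → j < q - 1 →
        a * D.y ^ i = b * D.y ^ j → a = b ∧ i = j := by
      intro a b i j ha hb hij hj e
      have h : D.y ^ (j - i) = b⁻¹ * a := by
        rw [pow_sub _ hij, eq_inv_mul_iff_mul_eq, ← mul_assoc, ← e]; group
      have h1 : D.y ^ (j - i) = 1 := D.pow_mem_eq_one (h ▸ mul_mem (inv_mem hb) ha)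
      have h2 := Nat.eq_zero_of_dvd_of_lt (D.ordy ▸ orderOf_dvd_of_pow_eq_one h1) (by omega)
      have h3 : i = j := by omega
      subst h3
      exact ⟨mul_right_cancel e, rfl⟩
    rintro ⟨a, i⟩ ⟨b, j⟩ e
    have e : (a : G) * D.y ^ (i : ℕ) = b * D.y ^ (j : ℕ) := congrArg Subtype.val e
    rcases le_total (i : ℕ) (j : ℕ) with h | h
    · obtain ⟨h1, h2⟩ := key _ _ _ _ a.2 b.2 h j.2 e
      exact Prod.ext (Subtype.ext h1) (Fin.ext h2)
    · obtain ⟨h1, h2⟩ := key _ _ _ _ b.2 a.2 h i.2 e.symm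
      exact Prod.ext (Subtype.ext h1.symm) (Fin.ext h2.symm)
  have hbij : Function.Bijective φ := (Nat.bijective_iff_injective_and_card φ).2
    ⟨hinj, by rw [Nat.card_prod, Nat.card_fin, D.cardS, D.cardN]⟩
  obtain ⟨⟨s, i⟩, h⟩ := hbij.2 ⟨n, hn⟩
  exact ⟨s, i, s.2, (congrArg Subtype.val h).symm⟩

theorem w_not_mem : D.w ∉ normalizer (D.S : Set G) := by
  intro hw
  obtain ⟨s, k, hs, hk⟩ := D.exists_mul hw
  have e : s * D.y * s⁻¹ = D.y⁻¹ := by
    rw [← D.inv, hk]; group
  have hy1 : D.y⁻¹ * (s * D.y * s⁻¹) ∈ D.S := by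
    have h : D.y⁻¹ * s * D.y ∈ D.S := by
      simpa using (mem_normalizer_iff.1 (inv_mem D.memy) s).1 hs
    have : D.y⁻¹ * (s * D.y * s⁻¹) = (D.y⁻¹ * s * D.y) * s⁻¹ := by group
    rw [this]
    exact mul_mem h (inv_mem hs)
  rw [e] at hy1
  have h2 : D.y ^ 2 ∈ D.S := by rw [pow_two]; simpa only [inv_inv, mul_inv_rev] using inv_mem hy1
  have := Nat.le_of_dvd (by norm_num) (D.ordy ▸ orderOf_dvd_of_pow_eq_one (D.pow_mem_eq_one h2))
  have := D.four_le
  omega

/-- conjugation by `y` on `S` -/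
def twist : AddMonoid.End (Additive D.S) :=
  { toFun := fun a => Additive.ofMul
      ⟨D.y * (a.toMul : G) * D.y⁻¹, (mem_normalizer_iff.1 D.memy _).1 a.toMul.2⟩
    map_zero' := by apply Additive.toMul.injective; apply Subtype.ext; simp
    map_add' := fun a b => by
      apply Additive.toMul.injective; apply Subtype.ext
      show D.y * ((a.toMul : G) * (b.toMul : G)) * D.y⁻¹ =
        D.y * (a.toMul : G) * D.y⁻¹ * (D.y * (b.toMul : G) * D.y⁻¹)
      group }

theorem twist_pow (k : ℕ) (a : Additive D.S) :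
    (((D.twist ^ k) a).toMul : G) = D.y ^ k * (a.toMul : G) * (D.y ^ k)⁻¹ := by
  induction k with
  | zero => simp
  | succ k ih =>
    rw [pow_succ']
    show D.y * (((D.twist ^ k) a).toMul : G) * D.y⁻¹ = _
    rw [ih, pow_succ']; group

/-- A field structure on `S` for which `y` acts as a generator of the multiplicative group. -/
theorem exists_coord {F : Type uF} [Field F] [Fintype F] (hF : Fintype.card F = q) :
    ∃ (φ : F → G) (ζ : F), ζ ≠ 0 ∧ (∀ x, φ x ∈ D.S) ∧ Function.Injective φ ∧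
      (∀ a ∈ D.S, ∃ x, φ x = a) ∧ φ 0 = 1 ∧ (∀ a b, φ (a + b) = φ a * φ b) ∧
      (∀ (k : ℕ) (x : F), φ (ζ ^ k * x) = D.y ^ k * φ x * (D.y ^ k)⁻¹) ∧
      ∀ x : F, x ≠ 0 → ∃ k : ℕ, x = ζ ^ k := by
  classical
  have hq := D.four_le
  obtain ⟨⟨s0, hs0⟩, hs01⟩ : ∃ s : D.S, s ≠ 1 := by
    haveI : Nontrivial D.S := Finite.one_lt_card_iff_nontrivial.1 (by rw [D.cardS]; omega)
    exact exists_ne 1
  have hs01' : s0 ≠ 1 := fun e => hs01 (Subtype.ext e)
  set A := Additive D.S with hA
  letI : AddCommGroup A :=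
    { (inferInstance : AddGroup A) with
      add_comm := fun a b => Additive.toMul.injective (Subtype.ext (D.comm a.toMul.2 b.toMul.2)) }
  obtain ⟨a0, ha0⟩ : ∃ a0 : A, a0 = Additive.ofMul ⟨s0, hs0⟩ := ⟨_, rfl⟩
  have ha00 : a0 ≠ 0 := by
    rw [ha0]; intro e
    exact hs01 (congrArg Additive.toMul e)
  -- the orbit of the marked element is everything
  have horb : ∀ a : A, a ≠ 0 → ∃ k : ℕ, (D.twist ^ k) a0 = a := by
    let ψ : Fin (q - 1) → {a : A // a ≠ 0} := fun k => ⟨(D.twist ^ (k : ℕ)) a0, fun e => by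
      have h := D.twist_pow k a0
      rw [e, ha0] at h
      have h : (1 : G) = D.y ^ (k : ℕ) * s0 * (D.y ^ (k : ℕ))⁻¹ := by simpa using h
      exact hs01' (by
        calc s0 = (D.y ^ (k : ℕ))⁻¹ * (D.y ^ (k : ℕ) * s0 * (D.y ^ (k : ℕ))⁻¹) * D.y ^ (k : ℕ) := by group
          _ = 1 := by rw [← h]; group)⟩
    have hψ : Function.Injective ψ := by
      suffices key : ∀ i j : Fin (q - 1), (i : ℕ) ≤ j →
          D.y ^ (i : ℕ) * s0 * (D.y ^ (i : ℕ))⁻¹ = D.y ^ (j : ℕ) * s0 * (D.y ^ (j : ℕ))⁻¹ → i = j by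
        intro i j e
        have e : ((D.twist ^ (i : ℕ)) a0).toMul = ((D.twist ^ (j : ℕ)) a0).toMul :=
          congrArg (fun x : {a : A // a ≠ 0} => x.1.toMul) e
        have e := congrArg (fun z : D.S => (z : G)) e
        rw [D.twist_pow, D.twist_pow, ha0] at e
        rcases le_total (i : ℕ) j with h | h
        · exact key i j h e
        · exact (key j i h e.symm).symm
      intro i j hij e
      have h : D.y ^ ((j : ℕ) - i) * s0 = s0 * D.y ^ ((j : ℕ) - i) := by
        have hji : D.y ^ (j : ℕ) = D.y ^ (i : ℕ) * D.y ^ ((j : ℕ) - i) := by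
          rw [← pow_add]; congr 1; omega
        rw [hji] at e
        calc D.y ^ ((j : ℕ) - i) * s0
            = (D.y ^ (i : ℕ))⁻¹ * (D.y ^ (i : ℕ) * D.y ^ ((j : ℕ) - i) * s0 *
                (D.y ^ (i : ℕ) * D.y ^ ((j : ℕ) - i))⁻¹) * D.y ^ (i : ℕ) * D.y ^ ((j : ℕ) - i) := by group
          _ = s0 * D.y ^ ((j : ℕ) - i) := by rw [← e]; group
      have h2 := Nat.eq_zero_of_dvd_of_lt (D.ordy ▸ orderOf_dvd_of_pow_eq_one (D.fpf hs0 hs01' h))
        (by have := j.2; omega)
      exact Fin.ext (by omega)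
    have hcard : Nat.card {a : A // a ≠ 0} = q - 1 := by
      haveI := Fintype.ofFinite A
      rw [Nat.card_eq_fintype_card, Fintype.card_subtype_compl, Fintype.card_subtype_eq,
        ← Nat.card_eq_fintype_card]
      rw [show Nat.card A = Nat.card D.S from Nat.card_congr Additive.toMul, D.cardS]
    have hb : Function.Bijective ψ :=
      (Nat.bijective_iff_injective_and_card ψ).2 ⟨hψ, by rw [Nat.card_fin, hcard]⟩
    intro a ha
    obtain ⟨k, hk⟩ := hb.2 ⟨a, ha⟩
    exact ⟨k, congrArg Subtype.val hk⟩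
  -- the ring generated by the twist
  let R : Subring (AddMonoid.End A) := Subring.closure {D.twist}
  letI : CommRing R := Subring.closureCommRingOfComm (by simp)
  let Y : R := ⟨D.twist, Subring.subset_closure rfl⟩
  have hY : ∀ k : ℕ, ((Y ^ k : R) : AddMonoid.End A) = D.twist ^ k := fun k => SubmonoidClass.coe_pow Y k
  have heinj : Function.Injective (fun r : R => (r : AddMonoid.End A) a0) := by
    intro r r' e
    apply Subtype.ext
    refine AddMonoidHom.ext fun a => ?_
    rcases eq_or_ne a 0 with rfl | ha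
    · exact (map_zero _).trans (map_zero _).symm
    · obtain ⟨k, rfl⟩ := horb a ha
      have hc : ∀ r : R, (r : AddMonoid.End A) ((D.twist ^ k) a0) = (D.twist ^ k) ((r : AddMonoid.End A) a0) := by
        intro r
        have := congrArg (fun t : R => (t : AddMonoid.End A) a0) (mul_comm r (Y ^ k))
        simpa [hY] using this
      show (r : AddMonoid.End A) _ = (r' : AddMonoid.End A) _
      rw [hc, hc]
      exact congrArg _ e
  have hesurj : Function.Surjective (fun r : R => (r : AddMonoid.End A) a0) := by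
    intro a
    rcases eq_or_ne a 0 with rfl | ha
    · exact ⟨0, rfl⟩
    · obtain ⟨k, hk⟩ := horb a ha
      exact ⟨Y ^ k, by show ((Y ^ k : R) : AddMonoid.End A) a0 = a; rw [hY, hk]⟩
  haveI : Finite R := Finite.of_injective _ heinj
  have hRfield : IsField R := by
    refine ⟨⟨0, 1, fun e => ha00 ?_⟩, mul_comm, fun {r} hr => ?_⟩
    · have := congrArg (fun t : R => (t : AddMonoid.End A) a0) e
      simpa using this.symm
    · have hne : (r : AddMonoid.End A) a0 ≠ 0 := fun e => hr (heinj (by simpa using e))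
      obtain ⟨k, hk⟩ := horb _ hne
      have hrk : r = Y ^ k := heinj (by
        show _ = ((Y ^ k : R) : AddMonoid.End A) a0
        rw [hY, hk])
      refine ⟨Y ^ (k * (q - 2)), ?_⟩
      rw [hrk, ← pow_add, show k + k * (q - 2) = (q - 1) * k by
        rw [show q - 1 = 1 + (q - 2) by omega, Nat.add_mul, Nat.one_mul, Nat.mul_comm (q - 2) k], pow_mul]
      suffices h : Y ^ (q - 1) = 1 by rw [h, one_pow]
      apply Subtype.ext
      rw [hY]
      refine AddMonoidHom.ext fun a => ?_
      apply Additive.toMul.injective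
      apply Subtype.ext
      refine (D.twist_pow (q - 1) a).trans ?_
      rw [← D.ordy, pow_orderOf_eq_one, inv_one, one_mul, mul_one]
      rfl
  letI : Field R := hRfield.toField
  haveI : Fintype R := Fintype.ofFinite R
  let e : F ≃+* R := FiniteField.ringEquivOfCardEq (K := F) (K' := R) (by
    rw [hF, ← Nat.card_eq_fintype_card, Nat.card_congr (Equiv.ofBijective _ ⟨heinj, hesurj⟩),
      show Nat.card A = Nat.card D.S from Nat.card_congr Additive.toMul, D.cardS])
  refine ⟨fun x => (((e x : R) : AddMonoid.End A) a0).toMul, e.symm Y, ?_, fun x => Subtype.mem _,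
    fun x x' h => ?_, fun a ha => ?_, ?_, fun a b => ?_, fun k x => ?_, fun x hx => ?_⟩
  · intro h
    have h1 : Y = 0 := e.symm.injective (h.trans (map_zero _).symm)
    have h2 := congrArg (fun t : R => (t : AddMonoid.End A) a0) h1
    have h3 : ((D.twist a0).toMul : G) = 1 := by
      rw [show D.twist a0 = 0 from h2]; rfl
    rw [← pow_one D.twist, D.twist_pow, pow_one, ha0] at h3
    exact hs01' (by
      calc s0 = D.y⁻¹ * (D.y * s0 * D.y⁻¹) * D.y := by group
        _ = 1 := by rw [show D.y * s0 * D.y⁻¹ = 1 from h3]; group)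
  · exact e.injective (heinj (Additive.toMul.injective (Subtype.ext h)))
  · obtain ⟨r, hr⟩ := hesurj (Additive.ofMul (⟨a, ha⟩ : D.S))
    refine ⟨e.symm r, ?_⟩
    show (((e (e.symm r) : R) : AddMonoid.End A) a0).toMul = a
    rw [e.apply_symm_apply, show (r : AddMonoid.End A) a0 = _ from hr]
    rfl
  · show ((((e 0 : R)) : AddMonoid.End A) a0).toMul = (1 : G)
    rw [map_zero]; rfl
  · simp only [map_add]
    rfl
  · simp only [map_mul, map_pow, e.apply_symm_apply]
    have h := D.twist_pow k (((e x : R) : AddMonoid.End A) a0)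
    rw [← hY] at h
    exact h
  · have hne : ((e x : R) : AddMonoid.End A) a0 ≠ 0 := fun h => hx (by
      have : e x = 0 := heinj (by simpa using h)
      exact e.injective (this.trans (map_zero e).symm))
    obtain ⟨k, hk⟩ := horb _ hne
    refine ⟨k, e.injective ?_⟩
    rw [map_pow, e.apply_symm_apply]
    exact heinj (by show _ = ((Y ^ k : R) : AddMonoid.End A) a0; rw [hY, hk])

end Data

section Line

variable {F : Type uF} [Field F]

/-- translation -/
def transP (a : F) : Equiv.Perm (Option F) := Equiv.optionCongr (Equiv.addLeft a)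

/-- multiplication -/
def multP (u : Fˣ) : Equiv.Perm (Option F) := Equiv.optionCongr (Equiv.mulLeft₀ (u : F) u.ne_zero)

open Classical in
/-- reciprocal, as a map -/
noncomputable def recipFun : Option F → Option F
  | none => some 0
  | some x => if x = 0 then none else some x⁻¹

theorem recip_involutive : Function.Involutive (recipFun (F := F)) := by
  intro o
  cases o with
  | none => simp [recipFun]
  | some x =>
    by_cases hx : x = 0
    · simp [recipFun, hx]
    · simp [recipFun, hx]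

/-- reciprocal -/
noncomputable def recip : Equiv.Perm (Option F) := recip_involutive.toPerm _

variable (F)

/-- the group of the projective line -/
noncomputable def lineGroup : Subgroup (Equiv.Perm (Option F)) :=
  closure ((Set.range (transP (F := F)) ∪ Set.range multP) ∪ {recip})

variable {F}

theorem exists_rep [Fintype F] [IsSimpleGroup G] {q : ℕ} (D : Data G q) (hF : Fintype.card F = q) :
    ∃ f : G →* Equiv.Perm (Option F), Function.Injective f ∧ f.range = lineGroup F := by
  classical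
  have hq := D.four_le
  obtain ⟨φ, ζ, hζ, hφS, hφinj, hφsurj, hφ0, hφadd, hφy, hφgen⟩ := D.exists_coord hF
  set N : Subgroup G := normalizer (D.S : Set G) with hN
  let pt : Option F → G ⧸ N := fun o => o.elim ((1 : G) : G ⧸ N) fun x => ((φ x * D.w : G) : G ⧸ N)
  have hφN : ∀ x, φ x ∈ N := fun x => le_normalizer (hφS x)
  have hptinj : Function.Injective pt := by
    rintro (_ | a) (_ | b) h
    · rfl
    · exfalso
      have h : (1 : G)⁻¹ * (φ b * D.w) ∈ N := QuotientGroup.eq.1 h
      rw [inv_one, one_mul] at h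
      exact D.w_not_mem ((N.mul_mem_cancel_left (hφN b)).1 h)
    · exfalso
      have h : (1 : G)⁻¹ * (φ a * D.w) ∈ N := QuotientGroup.eq.1 h.symm
      rw [inv_one, one_mul] at h
      exact D.w_not_mem ((N.mul_mem_cancel_left (hφN a)).1 h)
    · have h : (φ a * D.w)⁻¹ * (φ b * D.w) ∈ N := QuotientGroup.eq.1 h
      by_contra hab
      have hs : (φ a)⁻¹ * φ b ∈ D.S := mul_mem (inv_mem (hφS a)) (hφS b)
      have hs1 : (φ a)⁻¹ * φ b ≠ 1 := fun e => hab (congrArg some (hφinj (inv_mul_eq_one.1 e)))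
      obtain ⟨s, k, hsS, hk⟩ := D.exists_mul h
      have h2 : D.w⁻¹ * ((φ a)⁻¹ * φ b) * D.w = s * D.y ^ k := by rw [← hk]; group
      have hsq : (s * D.y ^ k) * (s * D.y ^ k) = 1 := by
        rw [← h2, show D.w⁻¹ * ((φ a)⁻¹ * φ b) * D.w * (D.w⁻¹ * ((φ a)⁻¹ * φ b) * D.w) =
          D.w⁻¹ * (((φ a)⁻¹ * φ b) * ((φ a)⁻¹ * φ b)) * D.w by group, D.sq _ hs]
        group
      have hy1 : D.y ^ k = 1 := by
        have hc : D.y ^ k * s * (D.y ^ k)⁻¹ ∈ D.S := (mem_normalizer_iff.1 (pow_mem D.memy k) s).1 hsS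
        have h2k : D.y ^ (k + k) ∈ D.S := by
          have : D.y ^ (k + k) = (s * (D.y ^ k * s * (D.y ^ k)⁻¹))⁻¹ * ((s * D.y ^ k) * (s * D.y ^ k)) := by
            rw [pow_add]; group
          rw [this, hsq, mul_one]
          exact inv_mem (mul_mem hsS hc)
        have hd := D.ordy ▸ orderOf_dvd_of_pow_eq_one (D.pow_mem_eq_one h2k)
        refine orderOf_dvd_iff_pow_eq_one.1 (D.ordy ▸ ?_)
        have heven : 2 ∣ q := by
          have := orderOf_dvd_natCard (⟨_, hs⟩ : D.S)
          rw [orderOf_mk, D.cardS, orderOf_eq_prime (by rw [pow_two]; exact D.sq _ hs) hs1] at this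
          exact this
        have hodd : Nat.Coprime (q - 1) 2 := by
          rw [Nat.coprime_comm, Nat.Prime.coprime_iff_not_dvd Nat.prime_two]; omega
        exact hodd.dvd_of_dvd_mul_left (by rwa [two_mul])
      rw [hy1, mul_one] at h2
      exact D.w_not_mem (D.ti hs hs1 (h2 ▸ hsS))
  have hindex : N.index = q + 1 := by
    have h := N.card_mul_index
    rw [D.cardN, D.cardG, mul_comm (q + 1)] at h
    exact Nat.eq_of_mul_eq_mul_left (Nat.mul_pos (by omega) (by omega)) h
  have hptbij : Function.Bijective pt := (Nat.bijective_iff_injective_and_card pt).2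
    ⟨hptinj, by rw [Finite.card_option, Nat.card_eq_fintype_card, hF, ← hindex]; rfl⟩
  let E : Option F ≃ G ⧸ N := Equiv.ofBijective pt hptbij
  let f : G →* Equiv.Perm (Option F) :=
    (Equiv.permCongrHom E.symm).toMonoidHom.comp (MulAction.toPermHom G (G ⧸ N))
  have hf : ∀ h o, f h o = E.symm (h • E o) := fun h o => rfl
  have hE : ∀ (h : G) (o o' : Option F), h • pt o = pt o' → f h o = o' := fun h o o' e => by
    rw [hf, Equiv.symm_apply_eq]; exact e
  have hmem : ∀ h : G, ((h : G) : G ⧸ N) = ((1 : G) : G ⧸ N) ↔ h ∈ N := fun h => by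
    rw [QuotientGroup.eq, mul_one, inv_mem_iff]
  have hNone : ∀ n ∈ N, f n none = none := fun n hn => hE n none none (by
    show ((n * 1 : G) : G ⧸ N) = ((1 : G) : G ⧸ N)
    rw [hmem, mul_one]; exact hn)
  have hw0 : f D.w none = some 0 := hE _ _ _ (by
    show ((D.w * 1 : G) : G ⧸ N) = ((φ 0 * D.w : G) : G ⧸ N)
    rw [hφ0, one_mul, mul_one])
  have hfinj : Function.Injective f := by
    rw [← MonoidHom.ker_eq_bot_iff]
    refine (IsSimpleGroup.eq_bot_or_eq_top_of_normal _ inferInstance).resolve_right fun e => ?_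
    rw [show f D.w = 1 from MonoidHom.mem_ker.1 (by rw [e]; exact mem_top _)] at hw0
    exact absurd hw0 (by simp)
  have hfmul : ∀ h k o, f (h * k) o = f h (f k o) := fun h k o => by rw [map_mul, Equiv.Perm.mul_apply]
  have hT : ∀ a, f (φ a) = transP a := fun a => Equiv.ext fun o => by
    cases o with
    | none => exact hNone _ (hφN a)
    | some x => exact hE _ _ _ (by
        show ((φ a * (φ x * D.w) : G) : G ⧸ N) = ((φ (a + x) * D.w : G) : G ⧸ N)
        rw [hφadd, mul_assoc])
  have hkk : ∀ k : ℕ, D.w⁻¹ * D.y ^ k * D.w = (D.y ^ k)⁻¹ := fun k => by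
    induction k with
    | zero => simp
    | succ k ih =>
      have hy : D.w⁻¹ * D.y * D.w = D.y⁻¹ := by
        have h := congrArg (·⁻¹) D.inv
        simp only [inv_inv, mul_inv_rev] at h
        calc D.w⁻¹ * D.y * D.w = D.w⁻¹ * (D.w * (D.y⁻¹ * D.w⁻¹)) * D.w := by rw [h]
          _ = D.y⁻¹ := by group
      calc D.w⁻¹ * D.y ^ (k + 1) * D.w = (D.w⁻¹ * D.y * D.w) * (D.w⁻¹ * D.y ^ k * D.w) := by
            rw [pow_succ']; group
        _ = D.y⁻¹ * (D.y ^ k)⁻¹ := by rw [ih, hy]
        _ = (D.y ^ (k + 1))⁻¹ := by rw [pow_succ]; group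
  have hM : ∀ (k : ℕ) (x : F), f (D.y ^ k) (some x) = some (ζ ^ k * x) := fun k x => hE _ _ _ (by
    show ((D.y ^ k * (φ x * D.w) : G) : G ⧸ N) = ((φ (ζ ^ k * x) * D.w : G) : G ⧸ N)
    rw [hφy, QuotientGroup.eq]
    have : (D.y ^ k * (φ x * D.w))⁻¹ * (D.y ^ k * φ x * (D.y ^ k)⁻¹ * D.w) =
        D.w⁻¹ * (D.y ^ k)⁻¹ * D.w := by group
    rw [this]
    have h := congrArg (·⁻¹) (hkk k)
    simp only [mul_inv_rev, inv_inv, ← mul_assoc] at h
    rw [h]
    exact pow_mem D.memy k)
  have hMk : ∀ (k : ℕ) (u : Fˣ), (u : F) = ζ ^ k → f (D.y ^ k) = multP u := fun k u hu => Equiv.ext fun o => by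
    cases o with
    | none => exact hNone _ (pow_mem D.memy k)
    | some x =>
      rw [hM]
      show _ = some ((u : F) * x)
      rw [hu]
  have hM1 : ∀ x, f D.y (some x) = some (ζ * x) := fun x => by simpa using hM 1 x
  have hwy : ∀ (k : ℕ) (o : Option F), f D.w (f (D.y ^ k) o) = f ((D.y ^ k)⁻¹) (f D.w o) := fun k o => by
    rw [← hfmul, ← hfmul]
    congr 2
    calc D.w * D.y ^ k = D.w * D.y ^ k * D.w⁻¹ * D.w := by group
      _ = (D.y ^ k)⁻¹ * D.w := by
        congr 1
        rw [← conj_pow, D.inv, inv_pow]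
  -- the inverting element exchanges the two fixed points
  have hfix : ∀ x, f D.y (some x) = some x → x = 0 := fun x h => by
    rw [hM1, Option.some_inj] at h
    by_contra hx
    have h1 : ζ = 1 := mul_right_cancel₀ hx (h.trans (one_mul x).symm)
    have : Fintype.card F ≤ 2 := by
      have hsub : ∀ z : F, z = 0 ∨ z = 1 := fun z => by
        rcases eq_or_ne z 0 with h0 | h0
        · exact Or.inl h0
        · obtain ⟨k, rfl⟩ := hφgen z h0
          exact Or.inr (by rw [h1, one_pow])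
      calc Fintype.card F = (Finset.univ : Finset F).card := rfl
        _ ≤ ({0, 1} : Finset F).card := Finset.card_le_card fun z _ => by simpa using hsub z
        _ ≤ 2 := Finset.card_le_two
    omega
  have hw00 : f D.w (some 0) = none := by
    have h := hwy 1 (some 0)
    rw [hM, mul_zero] at h
    cases hj : f D.w (some 0) with
    | none => rfl
    | some z =>
      rw [hj, pow_one] at h
      have h2 : f D.y (some z) = some z := by
        conv_lhs => rw [h, ← hfmul, mul_inv_cancel, map_one, Equiv.Perm.one_apply]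
      have hz := hfix z h2
      rw [hz] at hj
      exact absurd ((f D.w).injective (hj.trans hw0.symm)) (by simp)
  obtain ⟨c, hc⟩ : ∃ c, f D.w (some 1) = some c := by
    cases hj : f D.w (some 1) with
    | none => exact absurd ((f D.w).injective (hj.trans hw00.symm)) (by simp)
    | some c => exact ⟨c, rfl⟩
  have hc0 : c ≠ 0 := fun e => absurd ((f D.w).injective (hc.trans (e ▸ hw0.symm))) (by simp)
  obtain ⟨j, hj⟩ := hφgen c hc0
  have hflip : f ((D.y ^ j)⁻¹ * D.w) = recip := Equiv.ext fun o => by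
    have hinvM : ∀ k z, f ((D.y ^ k)⁻¹) (some z) = some ((ζ ^ k)⁻¹ * z) := fun k z => by
      rw [map_inv, Equiv.Perm.inv_eq_iff_eq, hM, ← mul_assoc, mul_inv_cancel₀ (pow_ne_zero _ hζ), one_mul]
    have hinv0 : f ((D.y ^ j)⁻¹) none = none := hNone _ (inv_mem (pow_mem D.memy j))
    rw [hfmul]
    cases o with
    | none => rw [hw0, hinvM, mul_zero]; rfl
    | some x =>
      by_cases hx : x = 0
      · rw [hx, hw00, hinv0]; simp [recip, recipFun]
      · obtain ⟨k, rfl⟩ := hφgen x hx
        have h := hwy k (some 1)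
        rw [hM, mul_one, hc, hinvM] at h
        rw [h, hinvM]
        simp only [recip, Function.Involutive.coe_toPerm, recipFun, if_neg hx, Option.some_inj]
        rw [hj]
        field_simp
  refine ⟨f, hfinj, le_antisymm ?_ ?_⟩
  · have hTm : ∀ a, f (φ a) ∈ lineGroup F := fun a => hT a ▸ subset_closure (Or.inl (Or.inl ⟨a, rfl⟩))
    have hMm : ∀ k, f (D.y ^ k) ∈ lineGroup F := fun k =>
      hMk k (Units.mk0 (ζ ^ k) (pow_ne_zero _ hζ)) rfl ▸ subset_closure (Or.inl (Or.inr ⟨_, rfl⟩))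
    have hWm : f D.w ∈ lineGroup F := by
      have h : f ((D.y ^ j)⁻¹ * D.w) ∈ lineGroup F := hflip ▸ subset_closure (Or.inr rfl)
      rw [map_mul, map_inv] at h
      exact ((lineGroup F).mul_mem_cancel_left (inv_mem (hMm j))).1 h
    have hNm : ∀ n ∈ N, f n ∈ lineGroup F := fun n hn => by
      obtain ⟨s, k, hs, rfl⟩ := D.exists_mul hn
      obtain ⟨a, rfl⟩ := hφsurj s hs
      rw [map_mul]
      exact mul_mem (hTm a) (hMm k)
    rintro _ ⟨h, rfl⟩
    obtain ⟨o, ho⟩ : ∃ o, pt o = ((h : G) : G ⧸ N) := hptbij.2 _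
    cases o with
    | none => exact hNm h ((hmem h).1 ho.symm)
    | some x =>
      have h' : (φ x * D.w)⁻¹ * h ∈ N := QuotientGroup.eq.1 ho
      rw [show h = φ x * D.w * ((φ x * D.w)⁻¹ * h) by group, map_mul, map_mul]
      exact mul_mem (mul_mem (hTm x) hWm) (hNm _ h')
  · rw [lineGroup, closure_le]
    rintro p ((⟨a, rfl⟩ | ⟨u, rfl⟩) | hp)
    · exact ⟨φ a, hT a⟩
    · obtain ⟨k, hk⟩ := hφgen u u.ne_zero
      exact ⟨D.y ^ k, hMk k u hk⟩
    · rw [Set.mem_singleton_iff] at hp
      exact ⟨_, hflip.trans hp.symm⟩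

/-- Two simple groups with such data are isomorphic. -/
theorem iso {H : Type*} [Group H] [Finite H] [IsSimpleGroup H] [IsSimpleGroup G] {q : ℕ}
    (D : Data G q) (D' : Data H q) (F : Type uF) [Field F] [Fintype F] (hF : Fintype.card F = q) :
    Nonempty (G ≃* H) := by
  obtain ⟨f, hf, hfr⟩ := exists_rep (F := F) D hF
  obtain ⟨f', hf', hfr'⟩ := exists_rep (F := F) D' hF
  exact ⟨(f.ofInjective hf).trans ((MulEquiv.subgroupCongr (hfr.trans hfr'.symm)).trans (f'.ofInjective hf').symm)⟩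

end Line

end Cfsg.Agent.Small.ProjLineEven
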