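import Cfsg.Agent.Lib.Small.Semisimple
import Mathlib.FieldTheory.KummerPolynomial
import Mathlib.GroupTheory.GroupAction.Quotient
import Mathlib.Data.Sym.Card
import Mathlib.Data.Finsupp.Multiset

/-!
Classes of prime order r in a group of matrices modulo its scalars, when r divides the order of the scalars:
rotation orbits of eigenvalue multiplicities, plus the classes whose lifts have irreducible minimal polynomial.
-/

set_option autoImplicit false
set_option linter.unusedSectionVars false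
set_option linter.unusedFintypeInType false
set_option linter.style.haveILetI false

namespace Cfsg.Agent.Small.ProjPrimeClasses

open Polynomial Matrix

/-- Multiplicity tuples with total `n`, none equal to `n`. -/
def Tup (n r : ℕ) [NeZero r] : Type := {a : ZMod r → ℕ // ∑ j, a j = n ∧ ∀ j, a j < n}

instance (n r : ℕ) [NeZero r] : Finite (Tup n r) :=
  Finite.of_injective (fun a j => (⟨a.1 j, a.2.2 j⟩ : Fin n)) fun a b h =>
    Subtype.ext (funext fun j => congrArg Fin.val (congrFun h j))

instance (n r : ℕ) [NeZero r] : VAdd (ZMod r) (Tup n r) :=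
  ⟨fun s a => ⟨fun j => a.1 (j + s), (Equiv.sum_comp (Equiv.addRight s) a.1).trans a.2.1, fun _ => a.2.2 _⟩⟩

theorem tup_vadd_apply {n r : ℕ} [NeZero r] (s : ZMod r) (a : Tup n r) (j : ZMod r) :
    (s +ᵥ a).1 j = a.1 (j + s) := rfl

instance (n r : ℕ) [NeZero r] : AddAction (ZMod r) (Tup n r) where
  zero_vadd a := Subtype.ext (funext fun j => by rw [tup_vadd_apply, add_zero])
  add_vadd s t a := Subtype.ext (funext fun j => by rw [tup_vadd_apply, tup_vadd_apply, tup_vadd_apply, add_assoc])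

theorem card_tup {n r : ℕ} [NeZero r] (hn : 1 ≤ n) :
    Nat.card (Tup n r) = (n + r - 1).choose (r - 1) - r := by
  classical
  have hr : 0 < r := Nat.pos_of_ne_zero (NeZero.ne r)
  let A := {a : ZMod r → ℕ // ∑ j, a j = n}
  haveI : Fintype A := Fintype.ofEquiv _ (Sym.equivNatSumOfFintype (ZMod r) n)
  have hA : Fintype.card A = (n + r - 1).choose (r - 1) := by
    rw [← Fintype.card_congr (Sym.equivNatSumOfFintype (ZMod r) n), Sym.card_sym_eq_choose, ZMod.card,
      show r + n - 1 = n + r - 1 by omega]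
    conv_rhs => rw [← Nat.choose_symm (by omega)]
    congr 1
    omega
  let bad : ZMod r → A := fun j => ⟨Pi.single j n, by simp⟩
  have hbad : Function.Injective bad := fun i j h => by
    have h' := congrFun (congrArg Subtype.val h) i
    by_contra hne
    simp [bad, hne] at h'
    omega
  have hiff : ∀ a : A, (∀ j, a.1 j < n) ↔ a ∉ Finset.univ.image bad := by
    intro a
    rw [Finset.mem_image]
    constructor
    · rintro h ⟨j, -, rfl⟩
      have := h j
      simp [bad] at this
    · intro h j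
      by_contra hj
      refine h ⟨j, Finset.mem_univ _, Subtype.ext (funext fun i => ?_)⟩
      have h1 : a.1 j + ∑ i ∈ Finset.univ.erase j, a.1 i = n :=
        (Finset.add_sum_erase _ _ (Finset.mem_univ j)).trans a.2
      by_cases hi : i = j
      · subst hi
        simp [bad]
        omega
      · have h2 : a.1 i ≤ ∑ i ∈ Finset.univ.erase j, a.1 i :=
          Finset.single_le_sum (fun _ _ => Nat.zero_le _) (Finset.mem_erase.2 ⟨hi, Finset.mem_univ _⟩)
        simp [bad, hi]
        omega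
  let E : Tup n r ≃ {a : A // a ∉ Finset.univ.image bad} :=
    { toFun := fun a => ⟨⟨a.1, a.2.1⟩, (hiff _).1 a.2.2⟩
      invFun := fun a => ⟨a.1.1, a.1.2, (hiff _).2 a.2⟩
      left_inv := fun a => rfl
      right_inv := fun a => rfl }
  rw [Nat.card_congr E, Nat.card_eq_fintype_card, Fintype.card_subtype_compl, Fintype.card_coe,
    Finset.card_image_of_injective _ hbad, Finset.card_univ, ZMod.card, hA]

theorem card_orbits {n r : ℕ} [hr : Fact r.Prime] (hn : 1 ≤ n) :
    r * Nat.card (Quotient (AddAction.orbitRel (ZMod r) (Tup n r))) =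
      (n + r - 1).choose (r - 1) - r + (r - 1) * (if r ∣ n then 1 else 0) := by
  classical
  haveI := Fintype.ofFinite (Tup n r)
  haveI := Fintype.ofFinite (Quotient (AddAction.orbitRel (ZMod r) (Tup n r)))
  have h := AddAction.sum_card_fixedBy_eq_card_orbits_mul_card_addGroup (ZMod r) (Tup n r)
  rw [ZMod.card] at h
  rw [Nat.card_eq_fintype_card, mul_comm, ← h, ← card_tup (r := r) hn,
    ← Finset.add_sum_erase _ _ (Finset.mem_univ (0 : ZMod r))]
  congr 1
  · rw [← Nat.card_eq_fintype_card]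
    exact Nat.card_congr (Equiv.subtypeUnivEquiv fun a => zero_vadd _ a)
  · rw [Finset.sum_congr rfl (g := fun _ => if r ∣ n then 1 else 0) fun s hs => ?_, Finset.sum_const,
      Finset.card_erase_of_mem (Finset.mem_univ _), Finset.card_univ, ZMod.card, smul_eq_mul]
    have hs0 : s ≠ 0 := (Finset.mem_erase.1 hs).1
    have hconst : ∀ a : Tup n r, s +ᵥ a = a → ∀ j, a.1 j = a.1 0 := by
      intro a ha j
      have h1 : ∀ k : ℕ, a.1 ((k : ZMod r) * s) = a.1 0 := by
        intro k
        induction k with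
        | zero => simp
        | succ k ih =>
          rw [← ih, Nat.cast_succ, add_mul, one_mul, ← tup_vadd_apply s a, ha]
      have h2 := h1 (j * s⁻¹).val
      rwa [ZMod.natCast_zmod_val, mul_assoc, inv_mul_cancel₀ hs0, mul_one] at h2
    have hsum : ∀ a : Tup n r, s +ᵥ a = a → n = r * a.1 0 := fun a ha => by
      refine a.2.1.symm.trans ?_
      rw [Finset.sum_congr rfl fun j _ => hconst a ha j, Finset.sum_const, Finset.card_univ, ZMod.card,
        smul_eq_mul]
    rw [← Nat.card_eq_fintype_card]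
    split_ifs with hd
    · obtain ⟨k, rfl⟩ := hd
      have hk : k < r * k := by
        have := hr.out.two_le
        nlinarith
      haveI : Unique {a : Tup (r * k) r // s +ᵥ a = a} :=
        { default := ⟨⟨fun _ => k, by simp [ZMod.card], fun _ => hk⟩, Subtype.ext rfl⟩
          uniq := fun a => Subtype.ext (Subtype.ext (funext fun j => by
            show a.1.1 j = k
            rw [hconst a.1 a.2 j]
            exact (Nat.eq_of_mul_eq_mul_left hr.out.pos (hsum a.1 a.2)).symm)) }
      exact Nat.card_unique (α := {a : Tup (r * k) r // s +ᵥ a = a})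
    · haveI : IsEmpty {a : Tup n r // s +ᵥ a = a} := ⟨fun a => hd ⟨_, hsum a.1 a.2⟩⟩
      exact Nat.card_of_isEmpty (α := {a : Tup n r // s +ᵥ a = a})

section Poly

variable {K : Type*} [Field K]

theorem eq_pow_of_factor {f : K[X]} (hf : Irreducible f) (hfm : f.Monic) :
    ∀ (d : ℕ) (P : K[X]), P.natDegree = d → P.Monic → (∀ g, Irreducible g → g ∣ P → g ∣ f) →
      ∃ k, P = f ^ k := by
  intro d
  induction d using Nat.strong_induction_on with
  | _ d ih =>
    intro P hd hP hfac
    by_cases hu : IsUnit P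
    · exact ⟨0, by rw [pow_zero, hP.isUnit_iff.1 hu]⟩
    obtain ⟨g, hg, hgP⟩ := WfDvdMonoid.exists_irreducible_factor hu hP.ne_zero
    have hfP : f ∣ P := ((hg.associated_of_dvd hf (hfac g hg hgP)).symm.dvd).trans hgP
    obtain ⟨Q, rfl⟩ := hfP
    have hQ : Q.Monic := hfm.of_mul_monic_left hP
    obtain ⟨k, hk⟩ := ih Q.natDegree (by
      rw [← hd, hfm.natDegree_mul hQ]
      have := hf.natDegree_pos
      omega) Q rfl hQ fun g hg h => hfac g hg (h.mul_left f)
    exact ⟨k + 1, by rw [hk, pow_succ']⟩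

variable {r : ℕ} [NeZero r]

/-- The polynomial with prescribed multiplicities of prescribed roots. -/
noncomputable def E (ζ : ZMod r → K) (a : ZMod r → ℕ) : K[X] := ∏ j, (X - C (ζ j)) ^ a j

theorem E_ne (ζ : ZMod r → K) (a : ZMod r → ℕ) : E ζ a ≠ 0 :=
  Finset.prod_ne_zero_iff.2 fun j _ => pow_ne_zero _ (X_sub_C_ne_zero _)

theorem natDegree_E (ζ : ZMod r → K) (a : ZMod r → ℕ) : (E ζ a).natDegree = ∑ j, a j := by
  rw [E, natDegree_prod_of_monic _ _ fun j _ => (monic_X_sub_C _).pow _]
  exact Finset.sum_congr rfl fun j _ => by rw [natDegree_pow, natDegree_X_sub_C, mul_one]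

theorem rootMult_E (ζ : ZMod r → K) (hζ : Function.Injective ζ) (a : ZMod r → ℕ) (j : ZMod r) :
    (E ζ a).rootMultiplicity (ζ j) = a j := by
  classical
  have hne := E_ne ζ a
  rw [E, ← Finset.mul_prod_erase _ _ (Finset.mem_univ j)] at hne ⊢
  rw [rootMultiplicity_mul hne, rootMultiplicity_X_sub_C_pow, rootMultiplicity_eq_zero, add_zero]
  simp only [IsRoot.def, eval_prod, eval_pow, eval_sub, eval_X, eval_C]
  exact Finset.prod_ne_zero_iff.2 fun k hk =>
    pow_ne_zero _ (sub_ne_zero.2 fun e => (Finset.mem_erase.1 hk).1 (hζ e).symm)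

theorem E_injective (ζ : ZMod r → K) (hζ : Function.Injective ζ) {a b : ZMod r → ℕ} (h : E ζ a = E ζ b) : a = b :=
  funext fun j => by rw [← rootMult_E ζ hζ a j, h, rootMult_E ζ hζ b j]

theorem exists_E (ζ : ZMod r → K) : ∀ (d : ℕ) (P : K[X]), P.natDegree = d → P.Monic →
    (∀ g : K[X], Irreducible g → g ∣ P → ∃ j, g ∣ X - C (ζ j)) → ∃ a, P = E ζ a := by
  classical
  intro d
  induction d using Nat.strong_induction_on with
  | _ d ih =>
    intro P hd hP hfac
    by_cases hu : IsUnit P
    · exact ⟨0, by simp [E, hP.isUnit_iff.1 hu]⟩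
    obtain ⟨g, hg, hgP⟩ := WfDvdMonoid.exists_irreducible_factor hu hP.ne_zero
    obtain ⟨j, hj⟩ := hfac g hg hgP
    obtain ⟨Q, rfl⟩ : X - C (ζ j) ∣ P := ((hg.associated_of_dvd (irreducible_X_sub_C _) hj).symm.dvd).trans hgP
    have hQ : Q.Monic := (monic_X_sub_C _).of_mul_monic_left hP
    obtain ⟨a, ha⟩ := ih Q.natDegree (by
      rw [← hd, (monic_X_sub_C _).natDegree_mul hQ, natDegree_X_sub_C]
      omega) Q rfl hQ fun g hg h => hfac g hg (h.mul_left _)
    refine ⟨a + Pi.single j 1, ?_⟩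
    simp only [E, Pi.add_apply, pow_add, Finset.prod_mul_distrib]
    rw [← E, ← ha, mul_comm]
    congr 1
    rw [Finset.prod_eq_single j (fun k _ hk => by rw [Pi.single_eq_of_ne hk, pow_zero]) (by simp),
      Pi.single_eq_same, pow_one]

end Poly

/-- The hypotheses on the matrix group. -/
structure Setup {K : Type*} [Field K] [Fintype K] {n : ℕ} {G : Type*} [Group G] (r N p : ℕ)
    (φ : G →* Matrix (Fin n) (Fin n) K) : Prop where
  inj : Function.Injective φ
  two_le : 2 ≤ n
  prime : r.Prime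
  dvd : r ∣ N
  dvd_card : N ∣ Fintype.card K - 1
  root : ∀ c : Kˣ, (c ^ r) ^ N = 1 → c ^ N = 1
  copN : (r * N).Coprime p
  mono : ∀ (π : Equiv.Perm (Fin n)) (w : Fin n → Kˣ), (∀ i, w i ^ N = 1) →
    ∃ g, φ g = Matrix.of fun i j => if i = π j then ((w j : Kˣ) : K) else 0
  scal : ∀ g (c : Kˣ), φ g = Matrix.scalar (Fin n) (c : K) → c ^ N = 1
  conj : ∀ g h : G, (orderOf g).Coprime p → (orderOf h).Coprime p → (φ g).charpoly = (φ h).charpoly → IsConj g h

theorem mono_mul {K : Type*} [Field K] {n : ℕ} (π : Equiv.Perm (Fin n)) (u v : Fin n → K) :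
    (Matrix.of fun i j => if j = π i then u i else 0) * (Matrix.of fun i j => if i = π j then v j else 0) =
      Matrix.diagonal fun i => u i * v i := by
  ext i k
  rw [Matrix.mul_apply, Finset.sum_eq_single (π i) (fun j _ hj => by simp [hj]) (by simp), Matrix.diagonal_apply]
  by_cases h : i = k
  · subst h
    simp
  · simp [h]

namespace Setup

variable {K : Type*} [Field K] [Fintype K] {n : ℕ} {G : Type*} [Group G] {r N p : ℕ}
  {φ : G →* Matrix (Fin n) (Fin n) K} (H : Setup r N p φ)
include H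

theorem N_pos : 0 < N := Nat.pos_of_dvd_of_pos H.dvd_card (by have := Fintype.one_lt_card (α := K); omega)

theorem exists_gen : ∃ t : Kˣ, orderOf t = N ∧ ∀ c : Kˣ, c ^ N = 1 → ∃ e : ℕ, t ^ e = c := by
  classical
  obtain ⟨u, hu⟩ := IsCyclic.exists_generator (α := Kˣ)
  have hord : orderOf u = Fintype.card K - 1 := by
    rw [orderOf_eq_card_of_forall_mem_zpowers hu, Nat.card_eq_fintype_card, Fintype.card_units]
  obtain ⟨m, hm⟩ := H.dvd_card
  have hm0 : m ≠ 0 := by
    intro h
    rw [h, mul_zero] at hm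
    have := Fintype.one_lt_card (α := K)
    omega
  refine ⟨u ^ m, ?_, fun c hc => ?_⟩
  · rw [orderOf_pow_of_dvd hm0 (by rw [hord, hm]; exact dvd_mul_left _ _), hord, hm,
      Nat.mul_div_cancel _ (Nat.pos_of_ne_zero hm0)]
  · obtain ⟨e, rfl⟩ : ∃ e : ℕ, u ^ e = c := by
      obtain ⟨z, hz⟩ := mem_powers_iff_mem_zpowers.2 (hu c)
      exact ⟨z, hz⟩
    have : m ∣ e := by
      have h := orderOf_dvd_of_pow_eq_one (x := u) (n := e * N) (by rw [pow_mul]; exact hc)
      rw [hord, hm, mul_comm e] at h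
      exact Nat.dvd_of_mul_dvd_mul_left H.N_pos h
    obtain ⟨k, rfl⟩ := this
    exact ⟨k, (pow_mul u m k).symm⟩

theorem exists_sc : ∃ sc : ↥(rootsOfUnity N K) →* G, ∀ c, φ (sc c) = Matrix.scalar (Fin n) ((c : Kˣ) : K) := by
  classical
  choose g hg using fun c : ↥(rootsOfUnity N K) => H.mono 1 (fun _ => (c : Kˣ)) fun _ => (mem_rootsOfUnity N _).1 c.2
  have hg' : ∀ c, φ (g c) = Matrix.scalar (Fin n) ((c : Kˣ) : K) := fun c => by
    rw [hg, Matrix.scalar_apply]
    ext i j
    rw [Matrix.of_apply, Matrix.diagonal_apply, Equiv.Perm.one_apply]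
  refine ⟨{ toFun := g, map_one' := H.inj ?_, map_mul' := fun a b => H.inj ?_ }, hg'⟩
  · rw [hg', map_one, OneMemClass.coe_one, Units.val_one, map_one]
  · rw [map_mul, hg', hg', hg', ← map_mul, Subgroup.coe_mul, Units.val_mul]

theorem mem_center_iff {sc : ↥(rootsOfUnity N K) →* G} (hsc : ∀ c, φ (sc c) = Matrix.scalar (Fin n) ((c : Kˣ) : K))
    (x : G) : x ∈ Subgroup.center G ↔ ∃ c, sc c = x := by
  classical
  constructor
  swap
  · rintro ⟨c, rfl⟩
    refine Subgroup.mem_center_iff.2 fun g => H.inj ?_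
    rw [map_mul, map_mul, hsc]
    exact (Matrix.scalar_commute _ (fun _ => Commute.all _ _) _).symm.eq
  intro hx
  obtain ⟨t, ht, hgen⟩ := H.exists_gen
  have htN : t ^ N = 1 := by rw [← ht]; exact pow_orderOf_eq_one t
  have ht1 : (t : K) ≠ 1 := fun h => by
    rw [Units.val_eq_one] at h
    rw [h, orderOf_one] at ht
    have := H.prime.two_le.trans (Nat.le_of_dvd H.N_pos H.dvd)
    omega
  have hcomm : ∀ g, φ g * φ x = φ x * φ g := fun g => by
    rw [← map_mul, ← map_mul, Subgroup.mem_center_iff.1 hx g]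
  have hoff : ∀ i j, i ≠ j → φ x i j = 0 := by
    intro i j hij
    obtain ⟨g, hg⟩ := H.mono 1 (fun k => if k = i then t else 1) fun k => by split_ifs <;> simp [htN]
    have e : φ g = Matrix.diagonal fun k => if k = i then (t : K) else 1 := by
      rw [hg]
      ext a b
      rw [Matrix.of_apply, Matrix.diagonal_apply, Equiv.Perm.one_apply]
      split_ifs <;> simp_all
    have h := congrFun (congrFun (hcomm g) i) j
    rw [e, Matrix.diagonal_mul, Matrix.mul_diagonal, if_pos rfl, if_neg (Ne.symm hij), mul_one] at h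
    exact (mul_eq_zero.1 (show ((t : K) - 1) * φ x i j = 0 by linear_combination h)).resolve_left
      (sub_ne_zero.2 ht1)
  let i₀ : Fin n := ⟨0, by have := H.two_le; omega⟩
  have heq : ∀ i, φ x i i = φ x i₀ i₀ := by
    intro i
    obtain ⟨g, hg⟩ := H.mono (Equiv.swap i i₀) (fun _ => 1) fun _ => one_pow _
    have h := congrFun (congrFun (hcomm g) i) i₀
    rw [Matrix.mul_apply, Matrix.mul_apply, hg] at h
    simp only [Matrix.of_apply, Units.val_one, ite_mul, one_mul, zero_mul, mul_ite, mul_one, mul_zero] at h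
    rw [Finset.sum_eq_single i₀ (fun k _ hk => ?_) (by simp), Finset.sum_eq_single i (fun k _ hk => ?_) (by simp),
      Equiv.swap_apply_right, if_pos rfl, if_pos rfl] at h
    · exact h.symm
    · rw [Equiv.swap_apply_right, if_neg hk]
    · rw [if_neg]
      intro e
      exact hk ((Equiv.swap i i₀).injective (e.symm.trans (Equiv.swap_apply_right i i₀).symm))
  have hxs : φ x = Matrix.scalar (Fin n) (φ x i₀ i₀) := by
    rw [Matrix.scalar_apply]
    ext i j
    by_cases h : i = j
    · subst h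
      rw [Matrix.diagonal_apply_eq, heq]
    · rw [hoff i j h, Matrix.diagonal_apply_ne _ h]
  have hu : φ x i₀ i₀ ≠ 0 := fun h0 => by
    rw [h0, map_zero] at hxs
    have := congrArg φ (mul_inv_cancel x)
    rw [map_mul, map_one, hxs, zero_mul] at this
    simpa using congrFun (congrFun this i₀) i₀
  have hN := H.scal x (Units.mk0 _ hu) hxs
  exact ⟨⟨Units.mk0 _ hu, (mem_rootsOfUnity N _).2 hN⟩, H.inj ((hsc _).trans hxs.symm)⟩

theorem coprime_of_pow {g : G} {sc : ↥(rootsOfUnity N K) →* G} {c : ↥(rootsOfUnity N K)} (hg : g ^ r = sc c) :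
    (orderOf g).Coprime p := by
  refine Nat.Coprime.coprime_dvd_left (orderOf_dvd_of_pow_eq_one ?_) H.copN
  rw [pow_mul, hg, ← map_pow, show c ^ N = 1 from Subtype.ext ((mem_rootsOfUnity N _).1 c.2), map_one]

omit H in
theorem charpoly_conj {g h : G} (hc : IsConj g h) : (φ g).charpoly = (φ h).charpoly := by
  obtain ⟨u, rfl⟩ := isConj_iff.1 hc
  rw [map_mul, map_mul]
  let U : GL (Fin n) K := ⟨φ u, φ u⁻¹, by rw [← map_mul, mul_inv_cancel, map_one],
    by rw [← map_mul, inv_mul_cancel, map_one]⟩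
  have h := Matrix.charpoly_units_conj U (φ g)
  rw [← Matrix.coe_units_inv] at h
  exact h.symm

/-- The number of classes of elements of order `r` modulo the centre. -/
theorem card_classes :
    Nat.card {C : ConjClasses (G ⧸ Subgroup.center G) //
      ∃ g : G ⧸ Subgroup.center G, ConjClasses.mk g = C ∧ orderOf g = r} =
      ((n + r - 1).choose (r - 1) - r - (if r ∣ n then 1 else 0)) / r + r * (if r ∣ n then 1 else 0) := by
  classical
  haveI : Fact r.Prime := ⟨H.prime⟩
  haveI : Nonempty (Fin n) := ⟨⟨0, by have := H.two_le; omega⟩⟩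
  haveI : Finite G := Finite.of_injective _ H.inj
  obtain ⟨sc, hsc⟩ := H.exists_sc
  have hcen := H.mem_center_iff hsc
  have hcc : ∀ (c : ↥(rootsOfUnity N K)) (g : G), sc c * g = g * sc c := fun c g =>
    (Subgroup.mem_center_iff.1 ((hcen _).2 ⟨c, rfl⟩) g).symm
  have hscinj : Function.Injective sc := fun a b h => by
    have h' := congrArg φ h
    rw [hsc, hsc, Matrix.scalar_inj] at h'
    exact Subtype.ext (Units.ext h')
  have hmk : ∀ g h : G, ConjClasses.mk (g : G ⧸ Subgroup.center G) = ConjClasses.mk (h : G ⧸ _) ↔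
      ∃ c, IsConj (sc c * g) h := by
    intro g h
    rw [ConjClasses.mk_eq_mk_iff_isConj, isConj_iff]
    constructor
    · rintro ⟨u', hu⟩
      obtain ⟨u, rfl⟩ := QuotientGroup.mk_surjective u'
      rw [← QuotientGroup.mk_inv, ← QuotientGroup.mk_mul, ← QuotientGroup.mk_mul, QuotientGroup.eq, hcen] at hu
      obtain ⟨c, hc⟩ := hu
      refine ⟨c, isConj_iff.2 ⟨u, ?_⟩⟩
      rw [hcc c g, ← mul_assoc, mul_assoc (u * g), hcc, ← mul_assoc, hc, mul_inv_cancel_left]
    · rintro ⟨c, hc⟩
      obtain ⟨u, rfl⟩ := isConj_iff.1 hc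
      refine ⟨(u : G ⧸ _), ?_⟩
      rw [← QuotientGroup.mk_inv, ← QuotientGroup.mk_mul, ← QuotientGroup.mk_mul, QuotientGroup.eq, hcen]
      refine ⟨c, ?_⟩
      rw [hcc c g, show u * (g * sc c) * u⁻¹ = u * g * (sc c * u⁻¹) by group, hcc c u⁻¹]
      group
  have hord : ∀ g : G, orderOf (g : G ⧸ Subgroup.center G) = r ↔ (∃ c, g ^ r = sc c) ∧ ¬ ∃ c, g = sc c := by
    intro g
    rw [orderOf_eq_prime_iff, ← QuotientGroup.mk_pow, QuotientGroup.eq_one_iff, hcen, Ne,
      QuotientGroup.eq_one_iff, hcen]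
    simp only [eq_comm]
  -- generator and roots
  obtain ⟨t, ht, hgen⟩ := H.exists_gen
  have htN : t ^ N = 1 := by rw [← ht]; exact pow_orderOf_eq_one t
  let τ : ↥(rootsOfUnity N K) := ⟨t, (mem_rootsOfUnity N _).2 htN⟩
  have hτ : ∀ c : ↥(rootsOfUnity N K), ∃ e : ℕ, τ ^ e = c := fun c => by
    obtain ⟨e, he⟩ := hgen c ((mem_rootsOfUnity N _).1 c.2)
    exact ⟨e, Subtype.ext he⟩
  have hτord : orderOf τ = N := by rw [← Subgroup.orderOf_coe]; exact ht
  obtain ⟨M, hM⟩ := H.dvd
  have hMpos : 0 < M := Nat.pos_of_ne_zero fun h => H.N_pos.ne' (by rw [hM, h, mul_zero])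
  let ω := τ ^ M
  have hωord : orderOf ω = r := by
    rw [orderOf_pow_of_dvd hMpos.ne' (by rw [hτord, hM]; exact dvd_mul_left _ _), hτord, hM,
      Nat.mul_div_cancel _ hMpos]
  let ζ : ZMod r → ↥(rootsOfUnity N K) := fun j => ω ^ j.val
  have hζadd : ∀ i j, ζ (i + j) = ζ i * ζ j := fun i j => by
    simp only [ζ, ← pow_add, ZMod.val_add]
    conv_lhs => rw [show (i.val + j.val) % r = (i.val + j.val) % orderOf ω by rw [hωord]]
    exact pow_mod_orderOf _ _
  have hζinj : Function.Injective ζ := fun i j h => by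
    refine ZMod.val_injective r (pow_injOn_Iio_orderOf ?_ ?_ h) <;> rw [Set.mem_Iio, hωord] <;> exact ZMod.val_lt _
  have hζr : ∀ j, ζ j ^ r = 1 := fun j => by
    show (ω ^ j.val) ^ r = 1
    rw [← pow_mul, mul_comm, pow_mul, show ω ^ r = 1 by rw [← hωord]; exact pow_orderOf_eq_one ω, one_pow]
  let z : ZMod r → K := fun j => (((ζ j : ↥(rootsOfUnity N K)) : Kˣ) : K)
  have hzinj : Function.Injective z := fun i j h => hζinj (Subtype.ext (Units.ext h))
  have hzr : ∀ j, z j ^ r = 1 := fun j => by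
    show (((ζ j : ↥(rootsOfUnity N K)) : Kˣ) : K) ^ r = 1
    rw [← Units.val_pow_eq_pow_val, ← SubgroupClass.coe_pow, hζr]
    rfl
  have hroots : ∀ c : ↥(rootsOfUnity N K), c ^ r = 1 → ∃ j, ζ j = c := by
    intro c hc
    obtain ⟨e, rfl⟩ := hτ c
    rw [← pow_mul] at hc
    have h := orderOf_dvd_of_pow_eq_one hc
    rw [hτord, hM, mul_comm e r] at h
    obtain ⟨k, rfl⟩ := Nat.dvd_of_mul_dvd_mul_left H.prime.pos h
    refine ⟨(k : ZMod r), ?_⟩
    simp only [ζ, ω, ZMod.val_natCast]
    rw [← pow_mul τ]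
    refine (pow_eq_pow_iff_modEq).2 ?_
    rw [hτord, hM, mul_comm r M]
    exact Nat.ModEq.mul_left' _ (Nat.mod_modEq k r)
  -- diagonal representatives
  have hD : ∀ a : Tup n r, ∃ (g : G) (σ : Fin n → ZMod r), φ g = Matrix.diagonal (fun i => z (σ i)) ∧
      ∀ j, (Finset.univ.filter fun i => σ i = j).card = a.1 j := by
    intro a
    let e : Fin n ≃ Σ j : ZMod r, Fin (a.1 j) := Fintype.equivOfCardEq (by simp [a.2.1])
    obtain ⟨g, hg⟩ := H.mono 1 (fun i => ((ζ (e i).1 : ↥(rootsOfUnity N K)) : Kˣ))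
      fun i => (mem_rootsOfUnity N _).1 (ζ (e i).1).2
    refine ⟨g, fun i => (e i).1, ?_, fun j => ?_⟩
    · rw [hg]
      ext i k
      rw [Matrix.of_apply, Matrix.diagonal_apply, Equiv.Perm.one_apply]
      by_cases h : i = k
      · subst h
        simp [z]
      · rw [if_neg h, if_neg h]
    · rw [← Fintype.card_subtype, Fintype.card_congr ((e.subtypeEquiv (q := fun x => x.1 = j) fun i => Iff.rfl).trans
        (Equiv.sigmaSubtype j)), Fintype.card_fin]
  choose D σ hDm hDc using hD
  have hscal : ∀ (c : ↥(rootsOfUnity N K)) (v : Fin n → K) (g : G), φ g = Matrix.diagonal v →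
      φ (sc c * g) = Matrix.diagonal fun i => ((c : Kˣ) : K) * v i := fun c v g hg => by
    rw [map_mul, hsc, hg, Matrix.scalar_apply, Matrix.diagonal_mul_diagonal]
  have hDcp : ∀ a, (φ (D a)).charpoly = E z a.1 := fun a => by
    rw [hDm, Matrix.charpoly_diagonal, E, ← Finset.prod_fiberwise Finset.univ (σ a)]
    refine Finset.prod_congr rfl fun j _ => ?_
    rw [Finset.prod_congr rfl (g := fun _ => (X : K[X]) - C (z j)) fun i hi => by rw [(Finset.mem_filter.1 hi).2],
      Finset.prod_const, hDc]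
  have hshift : ∀ a s, (φ (sc (ζ s) * D a)).charpoly = E z fun j => a.1 (j - s) := fun a s => by
    rw [hscal _ _ _ (hDm a), Matrix.charpoly_diagonal, E, ← Finset.prod_fiberwise Finset.univ (fun i => σ a i + s)]
    refine Finset.prod_congr rfl fun j _ => ?_
    rw [Finset.prod_congr rfl (g := fun _ => (X : K[X]) - C (z j)) fun i hi => ?_, Finset.prod_const]
    · congr 1
      rw [← hDc a (j - s)]
      exact congrArg Finset.card (Finset.filter_congr fun i _ => eq_sub_iff_add_eq.symm)
    · rw [← (Finset.mem_filter.1 hi).2]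
      simp only [z, hζadd (σ a i) s, Subgroup.coe_mul, Units.val_mul, mul_comm]
  have hDr : ∀ a, D a ^ r = 1 := fun a => H.inj (by
    rw [map_pow, hDm, Matrix.diagonal_pow, map_one, ← Matrix.diagonal_one]
    exact congrArg _ (funext fun i => hzr (σ a i)))
  have hDcop : ∀ a, (orderOf (D a)).Coprime p := fun a => H.coprime_of_pow (sc := sc) (c := 1) (by rw [map_one, hDr])
  have hDns : ∀ a, ¬ ∃ c, D a = sc c := by
    rintro a ⟨c, hc⟩
    obtain ⟨j, rfl⟩ := hroots c (hscinj (by rw [map_pow, ← hc, hDr, map_one]))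
    have hcp := hDcp a
    rw [hc, hsc, Matrix.scalar_apply, Matrix.charpoly_diagonal, Finset.prod_const, Finset.card_univ,
      Fintype.card_fin] at hcp
    have h1 := congrArg (rootMultiplicity (z j)) hcp
    rw [rootMult_E z hzinj] at h1
    have h2 := rootMultiplicity_X_sub_C_pow (z j) n
    have := a.2.2 j
    simp only [z] at h1 h2 this ⊢
    omega
  -- the irreducible representatives
  have hpow : ∀ e : ℕ, ¬ r ∣ e → ∀ b : K, b ^ r ≠ ((t : K)) ^ e := by
    intro e he b hb
    have hb0 : b ≠ 0 := fun h => by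
      rw [h, zero_pow H.prime.ne_zero] at hb
      exact pow_ne_zero e t.ne_zero hb.symm
    have hbr : (Units.mk0 b hb0) ^ r = t ^ e := Units.ext (by simpa using hb)
    obtain ⟨k, hk⟩ := hgen _ (H.root _ (by rw [hbr, ← pow_mul, mul_comm, pow_mul, htN, one_pow]))
    rw [← hk, ← pow_mul, pow_eq_pow_iff_modEq, ht] at hbr
    have h3 : k * r ≡ e [MOD r] := hbr.of_dvd H.dvd
    exact he ((Nat.modEq_zero_iff_dvd).1 (h3.symm.trans (Nat.modEq_zero_iff_dvd.2 (dvd_mul_left _ _))))
  have hcpirr : ∀ (g : G) (e : ℕ), ¬ r ∣ e → g ^ r = sc (τ ^ e) →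
      ∃ k, n = r * k ∧ (φ g).charpoly = (X ^ r - C ((t : K) ^ e)) ^ k := by
    intro g e he hg
    have hi : Irreducible ((X : K[X]) ^ r - C ((t : K) ^ e)) := X_pow_sub_C_irreducible_of_prime H.prime (hpow e he)
    have hm := monic_X_pow_sub_C ((t : K) ^ e) H.prime.ne_zero
    obtain ⟨k, hk⟩ := eq_pow_of_factor hi hm _ (φ g).charpoly rfl (Matrix.charpoly_monic _) fun f hf hdvd => by
      refine (Semisimple.dvd_minpoly_of_dvd_charpoly (φ g) hf hdvd).trans (minpoly.dvd K _ ?_)
      have h1 := congrArg φ hg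
      rw [map_pow, hsc] at h1
      rw [map_sub, map_pow, aeval_X, aeval_C, h1, sub_eq_zero, Matrix.algebraMap_eq_diagonal, Matrix.scalar_apply]
      simp [τ]
    refine ⟨k, ?_, hk⟩
    have := congrArg natDegree hk
    rw [Matrix.charpoly_natDegree_eq_dim, Fintype.card_fin, natDegree_pow, natDegree_X_pow_sub_C] at this
    linarith
  have hMex : ∀ e : ℕ, r ∣ n → ∃ g : G, g ^ r = sc (τ ^ e) := by
    intro e hd
    obtain ⟨k, hk⟩ := hd
    let eq : Fin n ≃ Fin k × ZMod r := Fintype.equivOfCardEq (by simp [hk, mul_comm])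
    let π : Equiv.Perm (Fin n) := (eq.trans (Equiv.prodCongr (Equiv.refl _) (Equiv.addRight 1))).trans eq.symm
    let w : Fin n → Kˣ := fun i => if (eq i).2 = 0 then t ^ e else 1
    obtain ⟨g, hg⟩ := H.mono π w fun i => by
      simp only [w]
      split_ifs
      · rw [← pow_mul, mul_comm, pow_mul, htN, one_pow]
      · rw [one_pow]
    have hstep : ∀ (i : Fin n) (s : ℕ), φ g ^ s *ᵥ Pi.single i (1 : K) =
        (∏ u ∈ Finset.range s, (w (eq.symm ((eq i).1, (eq i).2 + u)) : K)) •
          Pi.single (eq.symm ((eq i).1, (eq i).2 + s)) 1 := by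
      intro i s
      induction s with
      | zero => rw [pow_zero, Matrix.one_mulVec, Finset.range_zero, Finset.prod_empty, one_smul, Nat.cast_zero, add_zero,
          Prod.mk.eta, Equiv.symm_apply_apply]
      | succ s ih =>
        rw [pow_succ', ← Matrix.mulVec_mulVec, ih, Matrix.mulVec_smul, Finset.prod_range_succ, mul_smul]
        congr 1
        rw [Matrix.mulVec_single_one, hg]
        funext a
        have hπ : π (eq.symm ((eq i).1, (eq i).2 + s)) = eq.symm ((eq i).1, (eq i).2 + ((s + 1 : ℕ) : ZMod r)) := by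
          simp [π, add_assoc]
        simp only [Matrix.col_apply, Matrix.of_apply, hπ, Pi.smul_apply, smul_eq_mul, Pi.single_apply, mul_ite, mul_one,
          mul_zero]
    refine ⟨g, H.inj ?_⟩
    rw [map_pow, hsc]
    refine Matrix.ext_of_mulVec_single fun i => ?_
    rw [hstep i r, ZMod.natCast_self, add_zero, Prod.mk.eta, Equiv.symm_apply_apply]
    have hprod : ∏ u ∈ Finset.range r, (w (eq.symm ((eq i).1, (eq i).2 + u)) : K) = (t : K) ^ e := by
      let u₀ := (-(eq i).2).val
      rw [Finset.prod_eq_single u₀ (fun u hu hne => ?_) (fun h => absurd (Finset.mem_range.2 (ZMod.val_lt _)) h)]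
      · simp [w, u₀]
      · simp only [w, Equiv.apply_symm_apply]
        rw [if_neg, Units.val_one]
        intro h
        refine hne ?_
        show u = (-(eq i).2).val
        rw [neg_eq_of_add_eq_zero_right h, ZMod.val_natCast, Nat.mod_eq_of_lt (Finset.mem_range.1 hu)]
    rw [hprod, Matrix.scalar_apply, Matrix.diagonal_mulVec_single, mul_one]
    funext a
    simp [Pi.single_apply, τ]
  choose Mi hMi using hMex
  -- the bijection
  let Cls := {C : ConjClasses (G ⧸ Subgroup.center G) //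
      ∃ g : G ⧸ Subgroup.center G, ConjClasses.mk g = C ∧ orderOf g = r}
  let f1 : Quotient (AddAction.orbitRel (ZMod r) (Tup n r)) → Cls := fun o =>
    Quotient.liftOn' o (fun a => ⟨ConjClasses.mk (D a : G ⧸ _), _, rfl,
      (hord _).2 ⟨⟨1, by rw [hDr, map_one]⟩, hDns a⟩⟩) (by
      rintro a b h
      obtain ⟨s, rfl⟩ : ∃ s : ZMod r, s +ᵥ b = a := h
      refine Subtype.ext ((hmk _ _).2 ⟨ζ s, H.conj _ _ ?_ (hDcop b) ?_⟩)
      · exact H.coprime_of_pow (sc := sc) (c := 1) (by
          rw [Commute.mul_pow (show Commute _ _ from hcc _ _), ← map_pow, hζr, hDr, map_one, one_mul])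
      · rw [hshift, hDcp]
        congr 1
        funext j
        rw [tup_vadd_apply, sub_add_cancel])
  have hnd : ∀ j : Fin (r - 1), ¬ r ∣ (j : ℕ) + 1 := fun j h => by
    have := Nat.le_of_dvd (Nat.succ_pos _) h
    have := j.isLt
    omega
  let f2 : PLift (r ∣ n) × Fin (r - 1) → Cls := fun x =>
    ⟨ConjClasses.mk (Mi ((x.2 : ℕ) + 1) x.1.down : G ⧸ _), _, rfl, (hord _).2 ⟨⟨_, hMi _ _⟩, by
      rintro ⟨c, hc⟩
      have h1 := hMi ((x.2 : ℕ) + 1) x.1.down
      rw [hc, ← map_pow] at h1
      have h2 := congrArg (fun u : ↥(rootsOfUnity N K) => (((u : Kˣ) : K))) (hscinj h1)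
      simp only [SubgroupClass.coe_pow, Units.val_pow_eq_pow_val, τ] at h2
      exact hpow _ (hnd x.2) _ h2⟩⟩
  have hkey : ∀ (g h : G) (c₁ c₂ c : ↥(rootsOfUnity N K)), g ^ r = sc c₁ → h ^ r = sc c₂ → IsConj (sc c * g) h →
      c ^ r * c₁ = c₂ := by
    intro g h c₁ c₂ c hg hh hc
    obtain ⟨u, hu⟩ := isConj_iff.1 hc
    refine hscinj ?_
    rw [← hh, ← hu, conj_pow, Commute.mul_pow (show Commute _ _ from hcc _ _), hg, ← map_pow, ← map_mul,
      ← hcc, mul_inv_cancel_right]
  have hbij : Function.Bijective (Sum.elim f1 f2) := by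
    constructor
    · rintro (o | x) (o' | x') he
      · congr 1
        induction o using Quotient.inductionOn' with
        | _ a =>
        induction o' using Quotient.inductionOn' with
        | _ b =>
        obtain ⟨c, hc⟩ := (hmk _ _).1 (congrArg Subtype.val he)
        have h1 := hkey _ _ 1 1 c (by rw [hDr, map_one]) (by rw [hDr, map_one]) hc
        rw [mul_one] at h1
        obtain ⟨s, rfl⟩ := hroots c h1
        have h2 := charpoly_conj (φ := φ) hc
        rw [hshift, hDcp] at h2
        have h3 := E_injective z hzinj h2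
        refine Quotient.sound' ⟨s, Subtype.ext (funext fun j => ?_)⟩
        show b.1 (j + s) = a.1 j
        rw [← h3]
        simp
      · exfalso
        induction o using Quotient.inductionOn' with
        | _ a =>
        obtain ⟨c, hc⟩ := (hmk _ _).1 (congrArg Subtype.val he)
        have h1 := hkey _ _ 1 _ c (by rw [hDr, map_one]) (hMi _ x'.1.down) hc
        rw [mul_one] at h1
        have h2 := congrArg (fun u : ↥(rootsOfUnity N K) => (((u : Kˣ) : K))) h1
        simp only [SubgroupClass.coe_pow, Units.val_pow_eq_pow_val, τ] at h2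
        exact hpow _ (hnd x'.2) _ h2
      · exfalso
        induction o' using Quotient.inductionOn' with
        | _ a =>
        obtain ⟨c, hc⟩ := (hmk _ _).1 (congrArg Subtype.val he).symm
        have h1 := hkey _ _ 1 _ c (by rw [hDr, map_one]) (hMi _ x.1.down) hc
        rw [mul_one] at h1
        have h2 := congrArg (fun u : ↥(rootsOfUnity N K) => (((u : Kˣ) : K))) h1
        simp only [SubgroupClass.coe_pow, Units.val_pow_eq_pow_val, τ] at h2
        exact hpow _ (hnd x.2) _ h2
      · congr 1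
        obtain ⟨c, hc⟩ := (hmk _ _).1 (congrArg Subtype.val he)
        have h1 := hkey _ _ _ _ c (hMi _ x.1.down) (hMi _ x'.1.down) hc
        obtain ⟨e, rfl⟩ := hτ c
        rw [← pow_mul, ← pow_add, pow_eq_pow_iff_modEq, hτord] at h1
        have h2 : e * r + ((x.2 : ℕ) + 1) ≡ (x'.2 : ℕ) + 1 [MOD r] := h1.of_dvd H.dvd
        have h3 : (x.2 : ℕ) + 1 ≡ (x'.2 : ℕ) + 1 [MOD r] := by
          rw [Nat.ModEq, Nat.mul_add_mod' e r] at h2
          exact h2
        have := x.2.isLt
        have := x'.2.isLt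
        have h4 := h3.eq_of_lt_of_lt (by omega) (by omega)
        exact Prod.ext (Subsingleton.elim _ _) (Fin.ext (by omega))
    · rintro ⟨C, g', rfl, hg'⟩
      obtain ⟨g, rfl⟩ := QuotientGroup.mk_surjective g'
      obtain ⟨⟨c, hc⟩, hns⟩ := (hord g).1 hg'
      obtain ⟨e, rfl⟩ := hτ c
      obtain ⟨g₁, hg₁, hmkg⟩ : ∃ g₁, g₁ ^ r = sc (τ ^ (e % r)) ∧
          ConjClasses.mk (g₁ : G ⧸ Subgroup.center G) = ConjClasses.mk (g : G ⧸ _) := by
        refine ⟨sc ((τ ^ (e / r))⁻¹) * g, ?_, (hmk _ _).2 ⟨τ ^ (e / r), ?_⟩⟩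
        · rw [Commute.mul_pow (show Commute _ _ from hcc _ _), hc, ← map_pow, ← map_mul]
          congr 1
          rw [inv_pow, ← pow_mul, inv_mul_eq_iff_eq_mul, ← pow_add, Nat.div_add_mod']
        · rw [← mul_assoc, ← map_mul, mul_inv_cancel, map_one, one_mul]
      have hns1 : ¬ ∃ c, g₁ = sc c := by
        rintro ⟨c', rfl⟩
        obtain ⟨c'', hcg⟩ := (hmk _ _).1 hmkg
        obtain ⟨u, hu⟩ := isConj_iff.1 hcg
        refine hns ⟨c'' * c', ?_⟩
        rw [← hu, ← map_mul, ← hcc, mul_inv_cancel_right]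
      have hcop := H.coprime_of_pow hg₁
      by_cases he : r ∣ e
      · rw [Nat.mod_eq_zero_of_dvd he, pow_zero, map_one] at hg₁
        obtain ⟨a, ha⟩ := exists_E z _ (φ g₁).charpoly rfl (Matrix.charpoly_monic _) fun f hf hdvd => by
          have hd := (Semisimple.dvd_minpoly_of_dvd_charpoly (φ g₁) hf hdvd).trans (minpoly.dvd K _
            (show aeval (φ g₁) (∏ j, (X - C (z j))) = 0 by
              have e1 : (∏ j, ((X : K[X]) - C (z j))) = X ^ r - 1 := by
                refine eq_of_monic_of_dvd_of_natDegree_le (monic_prod_of_monic _ _ fun j _ => monic_X_sub_C _)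
                  (monic_X_pow_sub_C (1 : K) H.prime.ne_zero) (Finset.prod_dvd_of_coprime
                    (fun i _ j _ hij => isCoprime_X_sub_C_of_isUnit_sub (sub_ne_zero.2 (hzinj.ne hij)).isUnit)
                    fun j _ => ?_) ?_ |>.symm
                · rw [dvd_iff_isRoot, IsRoot, eval_sub, eval_pow, eval_X, eval_C, hzr, sub_self]
                · rw [natDegree_X_pow_sub_C, natDegree_prod_of_monic _ _ fun j _ => monic_X_sub_C _]
                  simp
              rw [e1, map_sub, map_pow, aeval_X, map_one, ← map_pow, hg₁, map_one, sub_self]))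
          obtain ⟨j, -, hj⟩ := hf.prime.exists_mem_finset_dvd hd
          exact ⟨j, hj⟩
        have hsum : ∑ j, a j = n := by
          rw [← natDegree_E z, ← ha, Matrix.charpoly_natDegree_eq_dim, Fintype.card_fin]
        have hlt : ∀ j, a j < n := by
          intro j
          by_contra hj
          refine hns1 ⟨ζ j, ?_⟩
          have ha' : a = Pi.single j n := by
            funext i
            have h1 : a j + ∑ i ∈ Finset.univ.erase j, a i = n :=
              (Finset.add_sum_erase _ _ (Finset.mem_univ j)).trans hsum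
            rcases eq_or_ne i j with rfl | hi
            · rw [Pi.single_eq_same]; omega
            · have h2 : a i ≤ ∑ i ∈ Finset.univ.erase j, a i :=
                Finset.single_le_sum (fun _ _ => Nat.zero_le _) (Finset.mem_erase.2 ⟨hi, Finset.mem_univ _⟩)
              rw [Pi.single_eq_of_ne hi]; omega
          have hsr : sc (ζ j) ^ r = sc 1 := by rw [← map_pow, hζr]
          obtain ⟨u, hu⟩ := isConj_iff.1 (H.conj (sc (ζ j)) g₁ (H.coprime_of_pow hsr) hcop (by
            rw [ha, ha', hsc, Matrix.scalar_apply, Matrix.charpoly_diagonal, Finset.prod_const, Finset.card_univ,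
              Fintype.card_fin, E, Finset.prod_eq_single j (fun k _ hk => by rw [Pi.single_eq_of_ne hk, pow_zero])
              (by simp), Pi.single_eq_same]))
          rw [← hu, ← hcc, mul_inv_cancel_right]
        refine ⟨Sum.inl (Quotient.mk'' ⟨a, hsum, hlt⟩), Subtype.ext ?_⟩
        refine Eq.trans ?_ hmkg
        exact (hmk _ _).2 ⟨1, by rw [map_one, one_mul]; exact H.conj _ _ (hDcop _) hcop ((hDcp _).trans ha.symm)⟩
      · have he' : ¬ r ∣ e % r := fun h => he ((Nat.dvd_mod_iff dvd_rfl).1 h)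
        obtain ⟨k, hk, hcp⟩ := hcpirr g₁ _ he' hg₁
        have hpos : 0 < e % r := Nat.pos_of_ne_zero fun h => he' (h ▸ dvd_zero r)
        have hlt := Nat.mod_lt e H.prime.pos
        refine ⟨Sum.inr (⟨⟨k, hk⟩⟩, ⟨e % r - 1, by omega⟩), Subtype.ext ?_⟩
        refine Eq.trans ?_ hmkg
        refine (hmk _ _).2 ⟨1, ?_⟩
        rw [map_one, one_mul]
        refine H.conj _ _ (H.coprime_of_pow (hMi _ _)) hcop ?_
        obtain ⟨k', hk', hcp'⟩ := hcpirr (Mi ((e % r - 1) + 1) ⟨k, hk⟩) (e % r - 1 + 1)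
          (by rwa [Nat.sub_add_cancel hpos]) (hMi _ _)
        rw [hcp, hcp', Nat.sub_add_cancel hpos, Nat.eq_of_mul_eq_mul_left H.prime.pos (hk'.symm.trans hk)]
  haveI := Fintype.ofFinite (Tup n r)
  rw [← Nat.card_congr (Equiv.ofBijective _ hbij), Nat.card_sum, Nat.card_prod, Nat.card_fin]
  have horb := card_orbits (r := r) (n := n) (by have := H.two_le; omega)
  have hr2 := H.prime.two_le
  by_cases hd : r ∣ n
  · haveI : Unique (PLift (r ∣ n)) := ⟨⟨⟨hd⟩⟩, fun _ => rfl⟩
    simp only [if_pos hd, mul_one, Nat.card_unique, one_mul] at horb ⊢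
    obtain ⟨X0, hX0⟩ : ∃ X0, X0 = Nat.card (Quotient (AddAction.orbitRel (ZMod r) (Tup n r))) := ⟨_, rfl⟩
    rw [← hX0] at horb ⊢
    have hX1 : 1 ≤ X0 := by
      rcases Nat.eq_zero_or_pos X0 with h | h
      · rw [h, mul_zero] at horb; omega
      · exact h
    obtain ⟨Y, rfl⟩ : ∃ Y, X0 = Y + 1 := ⟨X0 - 1, by omega⟩
    rw [mul_add, mul_one] at horb
    rw [show (n + r - 1).choose (r - 1) - r - 1 = r * Y by omega, Nat.mul_div_cancel_left _ H.prime.pos]
    omega
  · haveI : IsEmpty (PLift (r ∣ n)) := ⟨fun x => hd x.down⟩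
    simp only [if_neg hd, mul_zero, Nat.card_of_isEmpty, zero_mul, add_zero, Nat.sub_zero] at horb ⊢
    rw [← horb, Nat.mul_div_cancel_left _ H.prime.pos]

end Setup

end Cfsg.Agent.Small.ProjPrimeClasses
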