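import Mathlib
import Cfsg.Agent.Lib.Small.QuadStandard
import Cfsg.Agent.Lib.Classical.WittIndex

/-!
Quadratic forms over the field of two elements with the standard polar form: zero counts, types, Witt indices.
-/

set_option autoImplicit false

namespace Cfsg.Agent.Small.QuadTwo

open QuadraticMap Module Cfsg

/-- The additive character of the two-element field. -/
def sgn (a : ZMod 2) : ℤ := if a = 0 then 1 else -1

theorem sgn_add : ∀ a b : ZMod 2, sgn (a + b) = sgn a * sgn b := by decide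

theorem sgn_sum {ι : Type*} (s : Finset ι) (g : ι → ZMod 2) : sgn (∑ i ∈ s, g i) = ∏ i ∈ s, sgn (g i) := by
  classical
  induction s using Finset.induction with
  | empty => simp [sgn]
  | insert a s ha ih => rw [Finset.sum_insert ha, Finset.prod_insert ha, sgn_add, ih]

theorem sum_sgn_plus (m : ℕ) :
    ∑ v : Fin m ⊕ Fin m → ZMod 2, sgn (quadFormPlus m (ZMod 2) v) = 2 ^ m := by
  classical
  rw [← ((Equiv.arrowProdEquivProdArrow (Fin m) (fun _ => ZMod 2) (fun _ => ZMod 2)).trans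
    (Equiv.sumArrowEquivProdArrow _ _ _).symm).sum_comp]
  simp only [quadFormPlus, sgn_sum, Equiv.trans_apply, Equiv.arrowProdEquivProdArrow_apply,
    Equiv.sumArrowEquivProdArrow_symm_apply_inl, Equiv.sumArrowEquivProdArrow_symm_apply_inr]
  rw [← Fintype.prod_sum fun (_ : Fin m) (p : ZMod 2 × ZMod 2) => sgn (p.1 * p.2)]
  rw [Finset.prod_const, Finset.card_univ, Fintype.card_fin,
    show (∑ p : ZMod 2 × ZMod 2, sgn (p.1 * p.2)) = 2 from by decide]

theorem sum_sgn_minus (k : ℕ) :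
    ∑ v : (Fin k ⊕ Fin k) ⊕ Fin 2 → ZMod 2, sgn (quadFormMinus k (ZMod 2) 1 1 v) = -(2 ^ (k + 1)) := by
  classical
  rw [← (Equiv.sumArrowEquivProdArrow _ _ _).symm.sum_comp, Fintype.sum_prod_type]
  simp only [quadFormMinus, sgn_add, Equiv.sumArrowEquivProdArrow_symm_apply_inl,
    Equiv.sumArrowEquivProdArrow_symm_apply_inr]
  rw [← Finset.sum_mul_sum]
  have h1 := sum_sgn_plus k
  simp only [quadFormPlus] at h1
  rw [h1]
  have h2 : (∑ z : Fin 2 → ZMod 2, sgn (z 0 ^ 2) * sgn (1 * z 0 * z 1) * sgn (1 * z 1 ^ 2)) = -2 := by decide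
  rw [h2]
  ring

/-- The number of zeros of a function into the two-element field. -/
noncomputable def zeros {α : Type*} (q : α → ZMod 2) : ℕ := Nat.card {v : α // q v = 0}

theorem two_mul_zeros {α : Type*} [Fintype α] (q : α → ZMod 2) :
    2 * (zeros q : ℤ) = Fintype.card α + ∑ v, sgn (q v) := by
  classical
  have h : ∀ v, sgn (q v) = 2 * (if q v = 0 then (1 : ℤ) else 0) - 1 := fun v => by
    rw [sgn]
    split <;> ring
  simp only [h, Finset.sum_sub_distrib, ← Finset.mul_sum, Finset.sum_boole, Finset.sum_const, Finset.card_univ,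
    nsmul_eq_mul, mul_one]
  rw [zeros, Nat.card_eq_fintype_card, Fintype.card_subtype]
  ring

theorem zeros_comp {α β : Type*} (q : β → ZMod 2) (e : α ≃ β) : zeros (q ∘ e) = zeros q :=
  Nat.card_congr (e.subtypeEquiv fun _ => Iff.rfl)

theorem two_zeros_plus {m : ℕ} (hm : 1 ≤ m) :
    zeros (quadFormPlus m (ZMod 2)) = 2 ^ (2 * m - 1) + 2 ^ (m - 1) := by
  have h := two_mul_zeros (quadFormPlus m (ZMod 2))
  rw [sum_sgn_plus] at h
  simp only [Fintype.card_fun, Fintype.card_sum, Fintype.card_fin, ZMod.card] at h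
  obtain ⟨k, rfl⟩ : ∃ k, m = k + 1 := ⟨m - 1, by omega⟩
  have h' : (2 * zeros (quadFormPlus (k + 1) (ZMod 2)) : ℤ) = 2 * ((2 ^ (2 * (k + 1) - 1) + 2 ^ (k + 1 - 1) : ℕ) : ℤ) := by
    rw [h, show 2 * (k + 1) - 1 = 2 * k + 1 by omega, show k + 1 - 1 = k by omega]
    push_cast
    ring
  omega

theorem two_zeros_minus' (k : ℕ) :
    zeros (quadFormMinus k (ZMod 2) 1 1) = 2 ^ (2 * k + 1) - 2 ^ k := by
  have h := two_mul_zeros (quadFormMinus k (ZMod 2) 1 1)
  rw [sum_sgn_minus] at h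
  simp only [Fintype.card_fun, Fintype.card_sum, Fintype.card_fin, ZMod.card] at h
  have hle : 2 ^ k ≤ 2 ^ (2 * k + 1) := Nat.pow_le_pow_right (by norm_num) (by omega)
  have h' : (2 * zeros (quadFormMinus k (ZMod 2) 1 1) : ℤ) = 2 * ((2 ^ (2 * k + 1) : ℕ) : ℤ) - 2 * ((2 ^ k : ℕ) : ℤ) := by
    rw [h]
    push_cast
    ring
  omega

theorem two_zeros_minus {m : ℕ} (hm : 1 ≤ m) :
    zeros (quadFormMinus (m - 1) (ZMod 2) 1 1) = 2 ^ (2 * m - 1) - 2 ^ (m - 1) := by
  rw [two_zeros_minus' (m - 1), show 2 * m - 1 = 2 * (m - 1) + 1 by omega]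

theorem plus_ne_minus {m : ℕ} (hm : 1 ≤ m) :
    zeros (quadFormPlus m (ZMod 2)) ≠ zeros (quadFormMinus (m - 1) (ZMod 2) 1 1) := by
  rw [two_zeros_plus hm, two_zeros_minus hm]
  have : 0 < 2 ^ (m - 1) := Nat.two_pow_pos _
  have : 2 ^ (m - 1) ≤ 2 ^ (2 * m - 1) := Nat.pow_le_pow_right (by norm_num) (by omega)
  omega

variable {m : ℕ}

/-- The hyperbolic form as a quadratic form. -/
noncomputable def plusQ (F : Type*) [Field F] (m : ℕ) : QuadraticForm F (Fin m ⊕ Fin m → F) :=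
  LinearMap.BilinMap.toQuadraticMap (LinearMap.mk₂ F (fun u v => ∑ i : Fin m, u (.inl i) * v (.inr i))
    (fun a b c => by simp [add_mul, Finset.sum_add_distrib])
    (fun a b c => by simp [mul_assoc, Finset.mul_sum])
    (fun a b c => by simp [mul_add, Finset.sum_add_distrib])
    (fun a b c => by simp [mul_left_comm, Finset.mul_sum]))

theorem plusQ_apply {F : Type*} [Field F] (v : Fin m ⊕ Fin m → F) : plusQ F m v = quadFormPlus m F v := rfl

theorem polar_plusQ {F : Type*} [Field F] (u v : Fin m ⊕ Fin m → F) :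
    polar (plusQ F m) u v = ∑ i, (u (.inl i) * v (.inr i) + u (.inr i) * v (.inl i)) := by
  simp only [polar, plusQ_apply, quadFormPlus, Pi.add_apply, ← Finset.sum_sub_distrib]
  exact Finset.sum_congr rfl fun i _ => by ring

theorem plusQ_nondeg {F : Type*} [Field F] : (polarBilin (plusQ F m)).Nondegenerate := by
  classical
  have h : ∀ v : Fin m ⊕ Fin m → F, (∀ w, polar (plusQ F m) v w = 0) → v = 0 := fun v hv => by
    ext k
    rcases k with i | i
    · simpa [polar_plusQ, Pi.single_apply] using hv (Pi.single (Sum.inr i) 1)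
    · simpa [polar_plusQ, Pi.single_apply] using hv (Pi.single (Sum.inl i) 1)
  exact ⟨h, fun v hv => h v fun w => by rw [polar_comm]; exact hv w⟩

/-- A function with the standard polar form, as a quadratic form. -/
noncomputable def mkForm (q : (Fin m ⊕ Fin m → ZMod 2) → ZMod 2)
    (hq : ∀ u v : Fin m ⊕ Fin m → ZMod 2, q (u + v) = q u + q v + (quadFormPlus m (ZMod 2) (u + v) -
      quadFormPlus m (ZMod 2) u - quadFormPlus m (ZMod 2) v)) :
    QuadraticForm (ZMod 2) (Fin m ⊕ Fin m → ZMod 2) :=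
  have hp : ∀ u v, polar q u v = polar (plusQ (ZMod 2) m) u v := fun u v => by
    rw [polar, hq, polar, plusQ_apply, plusQ_apply, plusQ_apply]
    ring
  QuadraticMap.ofPolar q
    (fun a x => by
      rcases (show a = 0 ∨ a = 1 from by revert a; decide) with rfl | rfl
      · have h0 := hq 0 0
        simp [quadFormPlus] at h0
        simp [h0]
      · simp)
    (fun x x' y => by rw [hp, hp, hp, polar_add_left])
    (fun a x y => by rw [hp, hp, polar_smul_left])

theorem mkForm_apply (q : (Fin m ⊕ Fin m → ZMod 2) → ZMod 2) (hq) (v) : mkForm q hq v = q v := rfl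

theorem mkForm_nondeg (q : (Fin m ⊕ Fin m → ZMod 2) → ZMod 2) (hq) :
    (polarBilin (mkForm q hq)).Nondegenerate := by
  have h : polarBilin (mkForm q hq) = polarBilin (plusQ (ZMod 2) m) := LinearMap.ext₂ fun u v => by
    simp only [polarBilin_apply_apply, polar, mkForm_apply, plusQ_apply, hq u v]
    ring
  rw [h]
  exact plusQ_nondeg

theorem classify (hm : 1 ≤ m) (q : (Fin m ⊕ Fin m → ZMod 2) → ZMod 2)
    (hq : ∀ u v : Fin m ⊕ Fin m → ZMod 2, q (u + v) = q u + q v + (quadFormPlus m (ZMod 2) (u + v) -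
      quadFormPlus m (ZMod 2) u - quadFormPlus m (ZMod 2) v)) :
    (∃ g : (Fin m ⊕ Fin m → ZMod 2) ≃ₗ[ZMod 2] (Fin m ⊕ Fin m → ZMod 2),
        ∀ v, q v = quadFormPlus m (ZMod 2) (g v)) ∨
      (∃ g : (Fin m ⊕ Fin m → ZMod 2) ≃ₗ[ZMod 2] ((Fin (m - 1) ⊕ Fin (m - 1)) ⊕ Fin 2 → ZMod 2),
        ∀ v, q v = quadFormMinus (m - 1) (ZMod 2) 1 1 (g v)) := by
  classical
  rcases QuadBasis.even_basis (mkForm q hq) hm (by simp; ring) (mkForm_nondeg q hq) with
    ⟨b, hb1, hb2, hb3⟩ | ⟨b, ζ, hζ, hb1, hb2, hb3, hb4, hx, hxy, hy⟩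
  · refine Or.inl ⟨b.equivFun, fun v => ?_⟩
    have hF : QuadBasis.Frame (mkForm q hq) ⊤ m (fun i => b (.inl i)) fun i => b (.inr i) :=
      ⟨fun _ => trivial, fun _ => trivial, fun i => (hb1 i).1, fun i => (hb1 i).2, hb2, fun i j => (hb3 i j).1,
        fun i j => (hb3 i j).2⟩
    have h := QuadBasis.frame_value _ hF (κ := Fin 0) Fin.elim0 (fun c => c.elim0) (fun i => b.repr v (.inl i))
      (fun i => b.repr v (.inr i)) Fin.elim0
    have hv : ∑ i, (b.repr v (.inl i) • b (.inl i) + b.repr v (.inr i) • b (.inr i)) = v := by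
      rw [Finset.sum_add_distrib, ← Fintype.sum_sum_type (fun i => b.repr v i • b i), b.sum_repr]
    simp only [Finset.univ_eq_empty, Finset.sum_empty, add_zero, QuadraticMap.map_zero, hv] at h
    exact h
  · have hζ1 : ζ = 1 := by
      have h : ∀ a : ZMod 2, a ≠ 0 → a = 1 := by decide
      exact h ζ fun e => hζ 0 (by rw [e]; ring)
    subst hζ1
    refine Or.inr ⟨b.equivFun, fun v => ?_⟩
    have hF : QuadBasis.Frame (mkForm q hq) ⊤ (m - 1) (fun i => b (.inl (.inl i))) fun i => b (.inl (.inr i)) :=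
      ⟨fun _ => trivial, fun _ => trivial, fun i => (hb1 i).1, fun i => (hb1 i).2, hb2, fun i j => (hb3 i j).1,
        fun i j => (hb3 i j).2⟩
    have h := QuadBasis.frame_value _ hF (fun k => b (.inr k)) (fun k i => hb4 i k)
      (fun i => b.repr v (.inl (.inl i))) (fun i => b.repr v (.inl (.inr i))) (fun k => b.repr v (.inr k))
    have hv : ∑ i, (b.repr v (.inl (.inl i)) • b (.inl (.inl i)) + b.repr v (.inl (.inr i)) • b (.inl (.inr i))) +
        ∑ k, b.repr v (.inr k) • b (.inr k) = v := by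
      conv_rhs => rw [← b.sum_repr v]
      rw [Fintype.sum_sum_type, Fintype.sum_sum_type, Finset.sum_add_distrib]
    rw [hv, Fin.sum_univ_two, QuadBasis.q_add, QuadBasis.q_smul, QuadBasis.q_smul, QuadBasis.p_smul_left,
      QuadBasis.p_smul_right, hx, hxy, hy] at h
    rw [← mkForm_apply q hq v, h]
    simp only [quadFormMinus, Basis.equivFun_apply]
    ring

theorem plus_iff (hm : 1 ≤ m) (q : (Fin m ⊕ Fin m → ZMod 2) → ZMod 2)
    (hq : ∀ u v : Fin m ⊕ Fin m → ZMod 2, q (u + v) = q u + q v + (quadFormPlus m (ZMod 2) (u + v) -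
      quadFormPlus m (ZMod 2) u - quadFormPlus m (ZMod 2) v)) :
    (∃ g : (Fin m ⊕ Fin m → ZMod 2) ≃ₗ[ZMod 2] (Fin m ⊕ Fin m → ZMod 2),
        ∀ v, q v = quadFormPlus m (ZMod 2) (g v)) ↔ zeros q = zeros (quadFormPlus m (ZMod 2)) := by
  constructor
  · rintro ⟨g, hg⟩
    rw [show q = quadFormPlus m (ZMod 2) ∘ g.toEquiv from funext hg, zeros_comp]
  · intro h
    refine (classify hm q hq).resolve_right ?_
    rintro ⟨g, hg⟩
    rw [show q = quadFormMinus (m - 1) (ZMod 2) 1 1 ∘ g.toEquiv from funext hg, zeros_comp] at h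
    exact plus_ne_minus hm h.symm

theorem minus_iff (hm : 1 ≤ m) (q : (Fin m ⊕ Fin m → ZMod 2) → ZMod 2)
    (hq : ∀ u v : Fin m ⊕ Fin m → ZMod 2, q (u + v) = q u + q v + (quadFormPlus m (ZMod 2) (u + v) -
      quadFormPlus m (ZMod 2) u - quadFormPlus m (ZMod 2) v)) :
    (∃ g : (Fin m ⊕ Fin m → ZMod 2) ≃ₗ[ZMod 2] ((Fin (m - 1) ⊕ Fin (m - 1)) ⊕ Fin 2 → ZMod 2),
        ∀ v, q v = quadFormMinus (m - 1) (ZMod 2) 1 1 (g v)) ↔
      zeros q ≠ zeros (quadFormPlus m (ZMod 2)) := by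
  constructor
  · rintro ⟨g, hg⟩ h
    rw [show q = quadFormMinus (m - 1) (ZMod 2) 1 1 ∘ g.toEquiv from funext hg, zeros_comp] at h
    exact plus_ne_minus hm h.symm
  · intro h
    exact (classify hm q hq).resolve_left fun h' => h ((plus_iff hm q hq).mp h')

theorem zeros_shift (q : (Fin m ⊕ Fin m → ZMod 2) → ZMod 2)
    (hq : ∀ u v : Fin m ⊕ Fin m → ZMod 2, q (u + v) = q u + q v + (quadFormPlus m (ZMod 2) (u + v) -
      quadFormPlus m (ZMod 2) u - quadFormPlus m (ZMod 2) v)) (w : Fin m ⊕ Fin m → ZMod 2) :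
    zeros (fun v => q v + (quadFormPlus m (ZMod 2) (v + w) - quadFormPlus m (ZMod 2) v -
      quadFormPlus m (ZMod 2) w)) = Nat.card {v // q v = q w} :=
  Nat.card_congr ((Equiv.addRight w).subtypeEquiv fun v => by
    simp only [Equiv.coe_addRight, hq v w]
    constructor
    · intro h
      linear_combination h
    · intro h
      linear_combination h)

theorem card_eq_one (q : (Fin m ⊕ Fin m → ZMod 2) → ZMod 2) :
    Nat.card {v // q v = 1} + zeros q = 2 ^ (2 * m) := by
  classical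
  have h : ∀ v, q v = 1 ↔ ¬ q v = 0 := fun v => by
    generalize q v = a
    revert a
    decide
  rw [zeros, Nat.card_congr (Equiv.subtypeEquivRight h), add_comm, ← Nat.card_sum,
    Nat.card_congr (Equiv.sumCompl _), Nat.card_fun, Nat.card_sum, Nat.card_fin, Nat.card_zmod, two_mul]

theorem zeros_eq_or (hm : 1 ≤ m) (q : (Fin m ⊕ Fin m → ZMod 2) → ZMod 2)
    (hq : ∀ u v : Fin m ⊕ Fin m → ZMod 2, q (u + v) = q u + q v + (quadFormPlus m (ZMod 2) (u + v) -
      quadFormPlus m (ZMod 2) u - quadFormPlus m (ZMod 2) v)) :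
    zeros q = 2 ^ (2 * m - 1) + 2 ^ (m - 1) ∨ zeros q = 2 ^ (2 * m - 1) - 2 ^ (m - 1) := by
  rcases classify hm q hq with ⟨g, hg⟩ | ⟨g, hg⟩
  · exact Or.inl (by rw [show q = quadFormPlus m (ZMod 2) ∘ g.toEquiv from funext hg, zeros_comp, two_zeros_plus hm])
  · exact Or.inr (by
      rw [show q = quadFormMinus (m - 1) (ZMod 2) 1 1 ∘ g.toEquiv from funext hg, zeros_comp, two_zeros_minus hm])

/-- The elliptic form as a quadratic form. -/
noncomputable def minusQ (k : ℕ) : QuadraticForm (ZMod 2) ((Fin k ⊕ Fin k) ⊕ Fin 2 → ZMod 2) :=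
  LinearMap.BilinMap.toQuadraticMap (LinearMap.mk₂ (ZMod 2)
    (fun u v => (∑ i : Fin k, u (.inl (.inl i)) * v (.inl (.inr i))) +
      (u (.inr 0) * v (.inr 0) + 1 * u (.inr 0) * v (.inr 1) + 1 * u (.inr 1) * v (.inr 1)))
    (fun a b c => by simp [add_mul, Finset.sum_add_distrib]; ring)
    (fun a b c => by simp [mul_add, mul_assoc, Finset.mul_sum])
    (fun a b c => by simp [mul_add, Finset.sum_add_distrib]; ring)
    (fun a b c => by simp [mul_add, mul_left_comm, Finset.mul_sum]))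

theorem minusQ_apply (k : ℕ) (v : (Fin k ⊕ Fin k) ⊕ Fin 2 → ZMod 2) :
    minusQ k v = quadFormMinus k (ZMod 2) 1 1 v := by
  simp only [minusQ, LinearMap.BilinMap.toQuadraticMap_apply, LinearMap.mk₂_apply, quadFormMinus]
  ring

theorem polar_minusQ (k : ℕ) (u v : (Fin k ⊕ Fin k) ⊕ Fin 2 → ZMod 2) :
    polar (minusQ k) u v = ∑ i, (u (.inl (.inl i)) * v (.inl (.inr i)) + u (.inl (.inr i)) * v (.inl (.inl i))) +
      (u (.inr 0) * v (.inr 1) + u (.inr 1) * v (.inr 0)) := by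
  have htwo : (2 : ZMod 2) = 0 := rfl
  simp only [polar, minusQ_apply, quadFormMinus, Pi.add_apply, one_mul]
  have h : ∑ i : Fin k, (u (.inl (.inl i)) + v (.inl (.inl i))) * (u (.inl (.inr i)) + v (.inl (.inr i))) -
      ∑ i : Fin k, u (.inl (.inl i)) * u (.inl (.inr i)) - ∑ i : Fin k, v (.inl (.inl i)) * v (.inl (.inr i)) =
      ∑ i, (u (.inl (.inl i)) * v (.inl (.inr i)) + u (.inl (.inr i)) * v (.inl (.inl i))) := by
    rw [← Finset.sum_sub_distrib, ← Finset.sum_sub_distrib]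
    exact Finset.sum_congr rfl fun i _ => by ring
  linear_combination h + (u (.inr 0) * v (.inr 0) + u (.inr 1) * v (.inr 1)) * htwo

theorem minusQ_nondeg (k : ℕ) : (polarBilin (minusQ k)).Nondegenerate := by
  classical
  have h : ∀ v, (∀ w, polar (minusQ k) v w = 0) → v = 0 := fun v hv => by
    ext j
    rcases j with (i | i) | i
    · simpa [polar_minusQ, Pi.single_apply] using hv (Pi.single (Sum.inl (Sum.inr i)) 1)
    · simpa [polar_minusQ, Pi.single_apply] using hv (Pi.single (Sum.inl (Sum.inl i)) 1)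
    · fin_cases i
      · simpa [polar_minusQ, Pi.single_apply] using hv (Pi.single (Sum.inr 1) 1)
      · simpa [polar_minusQ, Pi.single_apply] using hv (Pi.single (Sum.inr 0) 1)
  exact ⟨h, fun v hv => h v fun w => by rw [polar_comm]; exact hv w⟩

theorem minus_witt {k : ℕ} (U : Submodule (ZMod 2) ((Fin k ⊕ Fin k) ⊕ Fin 2 → ZMod 2))
    (hU : ∀ u ∈ U, quadFormMinus k (ZMod 2) 1 1 u = 0) : finrank (ZMod 2) U ≤ k := by
  classical
  let ι : (Fin k → ZMod 2) →ₗ[ZMod 2] ((Fin k ⊕ Fin k) ⊕ Fin 2 → ZMod 2) :=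
    { toFun := fun a => Sum.elim (Sum.elim a 0) 0
      map_add' := fun a b => by ext (i | i) <;> (try cases i) <;> simp
      map_smul' := fun c a => by ext (i | i) <;> (try cases i) <;> simp }
  have hι : Function.Injective ι := fun a b h => funext fun i => congrFun h (Sum.inl (Sum.inl i))
  have h := Classical.Witt.finrank_eq_of_maximal (minusQ k) (minusQ_nondeg k) (U := LinearMap.range ι) (L := U)
    (fun w hw => by
      obtain ⟨a, rfl⟩ := hw
      simp [minusQ_apply, quadFormMinus, ι])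
    (fun w hw => (minusQ_apply k w).trans (hU w hw)) (fun W hUW hW => le_antisymm (fun w hw => ?_) hUW)
  · rwa [LinearMap.finrank_range_of_inj hι, finrank_fin_fun] at h
  · have hy : ∀ i, w (.inl (.inr i)) = 0 := fun i => by
      have hp : polar (minusQ k) (ι (Pi.single i 1)) w = 0 := by
        rw [polar, hW _ (W.add_mem (hUW ⟨_, rfl⟩) hw), hW _ (hUW ⟨_, rfl⟩), hW w hw]
        simp
      simpa [polar_minusQ, ι, Pi.single_apply] using hp
    have hz := hW w hw
    rw [minusQ_apply, quadFormMinus] at hz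
    simp only [hy, mul_zero, Finset.sum_const_zero, zero_add] at hz
    have hb : ∀ a b : ZMod 2, a ^ 2 + 1 * a * b + 1 * b ^ 2 = 0 → a = 0 ∧ b = 0 := by decide
    obtain ⟨h0, h1⟩ := hb _ _ hz
    refine ⟨fun i => w (.inl (.inl i)), funext fun j => ?_⟩
    rcases j with (i | i) | i
    · simp [ι]
    · simp [ι, hy]
    · fin_cases i <;> simp [ι, h0, h1]

/-- The form attached to a vector. -/
def qw (w : Fin m ⊕ Fin m → ZMod 2) (v : Fin m ⊕ Fin m → ZMod 2) : ZMod 2 :=
  quadFormPlus m (ZMod 2) v + (quadFormPlus m (ZMod 2) (v + w) - quadFormPlus m (ZMod 2) v -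
    quadFormPlus m (ZMod 2) w)

theorem qw_polar (w u v : Fin m ⊕ Fin m → ZMod 2) :
    qw w (u + v) = qw w u + qw w v + (quadFormPlus m (ZMod 2) (u + v) - quadFormPlus m (ZMod 2) u -
      quadFormPlus m (ZMod 2) v) := by
  have h := polar_add_left (plusQ (ZMod 2) m) u v w
  simp only [polar, plusQ_apply] at h
  simp only [qw]
  linear_combination h

/-- Forms with the standard polar form correspond to vectors. -/
noncomputable def formsEquiv : (Fin m ⊕ Fin m → ZMod 2) ≃
    {q : (Fin m ⊕ Fin m → ZMod 2) → ZMod 2 // ∀ u v : Fin m ⊕ Fin m → ZMod 2, q (u + v) = q u + q v +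
      (quadFormPlus m (ZMod 2) (u + v) - quadFormPlus m (ZMod 2) u - quadFormPlus m (ZMod 2) v)} :=
  Equiv.ofBijective (fun w => ⟨qw w, qw_polar w⟩) (by
    constructor
    · intro a b hab
      have hab' : ∀ v, qw a v = qw b v := congrFun (congrArg Subtype.val hab)
      refine sub_eq_zero.mp (plusQ_nondeg.1 (a - b) fun v => ?_)
      show polar (plusQ (ZMod 2) m) (a - b) v = 0
      rw [polar_sub_left, polar_comm _ a, polar_comm _ b, sub_eq_zero]
      have := hab' v
      simp only [qw, add_right_inj] at this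
      exact this
    · rintro ⟨q, hq⟩
      obtain ⟨w, hw⟩ : ∃ w, polarBilin (plusQ (ZMod 2) m) w = (
          { toFun := fun v => q v - quadFormPlus m (ZMod 2) v
            map_add' := fun u v => by rw [hq]; ring
            map_smul' := fun c v => by
              rcases (show c = 0 ∨ c = 1 from by revert c; decide) with rfl | rfl
              · have h0 := hq 0 0
                simp [quadFormPlus] at h0
                simp [h0, quadFormPlus]
              · simp } : (Fin m ⊕ Fin m → ZMod 2) →ₗ[ZMod 2] ZMod 2) :=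
        ⟨(LinearMap.BilinForm.toDual _ plusQ_nondeg).symm _, LinearMap.ext fun v =>
          LinearMap.BilinForm.apply_toDual_symm_apply (hB := plusQ_nondeg) _ v⟩
      refine ⟨w, Subtype.ext (funext fun v => ?_)⟩
      have h := LinearMap.congr_fun hw v
      rw [polarBilin_apply_apply, polar_comm] at h
      simp only [polar, plusQ_apply, LinearMap.coe_mk, AddHom.coe_mk] at h
      show qw w v = q v
      simp only [qw]
      linear_combination h)

theorem card_forms : Nat.card {q : (Fin m ⊕ Fin m → ZMod 2) → ZMod 2 // ∀ u v : Fin m ⊕ Fin m → ZMod 2,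
    q (u + v) = q u + q v + (quadFormPlus m (ZMod 2) (u + v) - quadFormPlus m (ZMod 2) u -
      quadFormPlus m (ZMod 2) v)} = 2 ^ (2 * m) := by
  rw [← Nat.card_congr formsEquiv, Nat.card_fun, Nat.card_sum, Nat.card_fin, Nat.card_zmod, two_mul]

theorem qw_type (hm : 1 ≤ m) (w : Fin m ⊕ Fin m → ZMod 2) :
    zeros (qw w) = zeros (quadFormPlus m (ZMod 2)) ↔ quadFormPlus m (ZMod 2) w = 0 := by
  have hz : zeros (qw w) = Nat.card {v // quadFormPlus m (ZMod 2) v = quadFormPlus m (ZMod 2) w} :=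
    zeros_shift (quadFormPlus m (ZMod 2)) (fun u v => by ring) w
  have hone := card_eq_one (quadFormPlus m (ZMod 2))
  rcases (show quadFormPlus m (ZMod 2) w = 0 ∨ quadFormPlus m (ZMod 2) w = 1 from by
    generalize quadFormPlus m (ZMod 2) w = a; revert a; decide) with h | h
  · rw [hz, h]
    exact iff_of_true rfl rfl
  · rw [hz, h]
    refine iff_of_false (fun e => ?_) one_ne_zero
    rw [e, two_zeros_plus hm] at hone
    have hpow : 2 ^ (2 * m) = 2 * 2 ^ (2 * m - 1) := by rw [← pow_succ']; congr 1; omega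
    have := Nat.two_pow_pos (m - 1)
    omega

theorem card_plus (hm : 1 ≤ m) :
    Nat.card {q : (Fin m ⊕ Fin m → ZMod 2) → ZMod 2 // (∀ u v : Fin m ⊕ Fin m → ZMod 2,
      q (u + v) = q u + q v + (quadFormPlus m (ZMod 2) (u + v) - quadFormPlus m (ZMod 2) u -
        quadFormPlus m (ZMod 2) v)) ∧ ∃ g : (Fin m ⊕ Fin m → ZMod 2) ≃ₗ[ZMod 2] (Fin m ⊕ Fin m → ZMod 2),
          ∀ v, q v = quadFormPlus m (ZMod 2) (g v)} = 2 ^ (2 * m - 1) + 2 ^ (m - 1) := by
  rw [← two_zeros_plus hm, zeros]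
  refine (Nat.card_congr (((formsEquiv (m := m)).subtypeEquiv (q := fun q => ∃ g : (Fin m ⊕ Fin m → ZMod 2) ≃ₗ[ZMod 2]
    (Fin m ⊕ Fin m → ZMod 2), ∀ v, q.1 v = quadFormPlus m (ZMod 2) (g v)) fun w => ?_).trans
      (Equiv.subtypeSubtypeEquivSubtypeInter _ (fun q : (Fin m ⊕ Fin m → ZMod 2) → ZMod 2 =>
        ∃ g : (Fin m ⊕ Fin m → ZMod 2) ≃ₗ[ZMod 2] (Fin m ⊕ Fin m → ZMod 2),
          ∀ v, q v = quadFormPlus m (ZMod 2) (g v))))).symm
  exact ((qw_type hm w).symm.trans (plus_iff hm (qw w) (qw_polar w)).symm)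

theorem card_minus (hm : 1 ≤ m) :
    Nat.card {q : (Fin m ⊕ Fin m → ZMod 2) → ZMod 2 // (∀ u v : Fin m ⊕ Fin m → ZMod 2,
      q (u + v) = q u + q v + (quadFormPlus m (ZMod 2) (u + v) - quadFormPlus m (ZMod 2) u -
        quadFormPlus m (ZMod 2) v)) ∧ ∃ g : (Fin m ⊕ Fin m → ZMod 2) ≃ₗ[ZMod 2]
          ((Fin (m - 1) ⊕ Fin (m - 1)) ⊕ Fin 2 → ZMod 2),
          ∀ v, q v = quadFormMinus (m - 1) (ZMod 2) 1 1 (g v)} = 2 ^ (2 * m - 1) - 2 ^ (m - 1) := by
  have hc : Nat.card {w : Fin m ⊕ Fin m → ZMod 2 // quadFormPlus m (ZMod 2) w = 1} =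
      2 ^ (2 * m - 1) - 2 ^ (m - 1) := by
    have hone := card_eq_one (quadFormPlus m (ZMod 2))
    rw [two_zeros_plus hm] at hone
    have hpow : 2 ^ (2 * m) = 2 * 2 ^ (2 * m - 1) := by rw [← pow_succ']; congr 1; omega
    omega
  rw [← hc]
  refine (Nat.card_congr (((formsEquiv (m := m)).subtypeEquiv (q := fun q => ∃ g : (Fin m ⊕ Fin m → ZMod 2) ≃ₗ[ZMod 2]
    ((Fin (m - 1) ⊕ Fin (m - 1)) ⊕ Fin 2 → ZMod 2), ∀ v, q.1 v = quadFormMinus (m - 1) (ZMod 2) 1 1 (g v))
      fun w => ?_).trans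
      (Equiv.subtypeSubtypeEquivSubtypeInter _ (fun q : (Fin m ⊕ Fin m → ZMod 2) → ZMod 2 =>
        ∃ g : (Fin m ⊕ Fin m → ZMod 2) ≃ₗ[ZMod 2] ((Fin (m - 1) ⊕ Fin (m - 1)) ⊕ Fin 2 → ZMod 2),
          ∀ v, q v = quadFormMinus (m - 1) (ZMod 2) 1 1 (g v))))).symm
  refine Iff.trans ?_ (minus_iff hm (qw w) (qw_polar w)).symm
  rw [Ne, qw_type hm w]
  generalize quadFormPlus m (ZMod 2) w = a
  revert a
  decide

end Cfsg.Agent.Small.QuadTwo
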