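import Cfsg.Prelude.Def_ClassicalGeometry
import Mathlib.LinearAlgebra.SymplecticGroup
import Mathlib.LinearAlgebra.Matrix.Rank
import Mathlib.LinearAlgebra.FiniteDimensional.Lemmas
import Mathlib.RingTheory.Nilpotent.Basic

/-!
Small invariant subspaces of a regular unipotent symplectic element are totally isotropic.
-/

set_option autoImplicit false

namespace Cfsg.Agent.Small.RegIso

open Matrix Module

variable {F : Type*} [Field F]

theorem finrank_ker_pow_le {V : Type*} [AddCommGroup V] [Module F V] [FiniteDimensional F V]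
    (N : Module.End F V) (h : finrank F (LinearMap.ker N) ≤ 1) :
    ∀ k, finrank F (LinearMap.ker (N ^ k)) ≤ k := by
  intro k
  induction k with
  | zero =>
    rw [pow_zero, show LinearMap.ker (1 : Module.End F V) = ⊥ from LinearMap.ker_id, finrank_bot]
  | succ k ih =>
    let φ : LinearMap.ker (N ^ (k + 1)) →ₗ[F] LinearMap.ker (N ^ k) :=
      (N.domRestrict _).codRestrict _ fun x => by
        rw [LinearMap.mem_ker, LinearMap.domRestrict_apply, ← Module.End.mul_apply, ← pow_succ]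
        exact LinearMap.mem_ker.1 x.2
    have h1 := φ.finrank_range_add_finrank_ker
    have h2 : finrank F (LinearMap.range φ) ≤ k := ((LinearMap.range φ).finrank_le).trans ih
    have h3 : finrank F (LinearMap.ker φ) ≤ 1 := by
      refine le_trans ?_ h
      let ι : LinearMap.ker φ →ₗ[F] LinearMap.ker N :=
        ((LinearMap.ker (N ^ (k + 1))).subtype.domRestrict _).codRestrict _ fun x =>
          LinearMap.mem_ker.2 (congrArg Subtype.val (LinearMap.mem_ker.1 x.2))
      exact LinearMap.finrank_le_finrank_of_injective (f := ι) fun a b hab =>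
        Subtype.ext (Subtype.ext (congrArg Subtype.val hab :))
    omega

theorem isotropic {m : ℕ} (u : Matrix.symplecticGroup (Fin m) F)
    (hnil : ((u : Matrix (Fin m ⊕ Fin m) (Fin m ⊕ Fin m) F) - 1) ^ (2 * m) = 0)
    (hreg : ((u : Matrix (Fin m ⊕ Fin m) (Fin m ⊕ Fin m) F) - 1).rank = 2 * m - 1)
    (W : Submodule F (Fin m ⊕ Fin m → F))
    (hW : ∀ v ∈ W, (u : Matrix (Fin m ⊕ Fin m) (Fin m ⊕ Fin m) F).mulVec v ∈ W)
    (hdim : 2 * finrank F W ≤ 2 * m) : ∀ v ∈ W, ∀ w ∈ W, Cfsg.sympForm m F v w = 0 := by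
  set A : Matrix (Fin m ⊕ Fin m) (Fin m ⊕ Fin m) F := (u : Matrix (Fin m ⊕ Fin m) (Fin m ⊕ Fin m) F) with hA
  set B : Matrix (Fin m ⊕ Fin m) (Fin m ⊕ Fin m) F := ((u⁻¹ : Matrix.symplecticGroup (Fin m) F) : Matrix (Fin m ⊕ Fin m) (Fin m ⊕ Fin m) F) with hB
  have hAB : A * B = 1 := congrArg Subtype.val (mul_inv_cancel u)
  have hBA : B * A = 1 := congrArg Subtype.val (inv_mul_cancel u)
  set N : Module.End F (Fin m ⊕ Fin m → F) := Matrix.toLin' (A - 1) with hN
  have hdimV : finrank F (Fin m ⊕ Fin m → F) = 2 * m := by simp; omega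
  have hker : finrank F (LinearMap.ker N) ≤ 1 := by
    have h1 := N.finrank_range_add_finrank_ker
    have h2 : finrank F (LinearMap.range N) = 2 * m - 1 := hreg
    omega
  have hN2 : N ^ (2 * m) = 0 := by rw [hN, ← Matrix.toLin'_pow, hnil, map_zero]
  -- W is inside the kernel of N ^ m
  have hWinv : ∀ v ∈ W, N v ∈ W := by
    intro v hv
    simp only [hN, map_sub, Matrix.toLin'_one, LinearMap.sub_apply, LinearMap.id_apply, Matrix.toLin'_apply]
    exact W.sub_mem (hW v hv) hv
  have hWker : ∀ v ∈ W, (N ^ m) v = 0 := by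
    intro v hv
    have hnilW : IsNilpotent (N.restrict hWinv) := by
      refine ⟨2 * m, ?_⟩
      rw [Module.End.pow_restrict]
      ext x
      show (N ^ (2 * m)) _ _ = _
      rw [hN2]
      rfl
    have h := hnilW.charpoly_eq_X_pow_finrank
    have hc := LinearMap.aeval_self_charpoly (N.restrict hWinv)
    rw [h, map_pow, Polynomial.aeval_X, Module.End.pow_restrict] at hc
    have h' := congrArg (fun f => ((f ⟨v, hv⟩ : W) : Fin m ⊕ Fin m → F)) hc
    have h'' : (N ^ finrank F W) v = 0 := h'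
    obtain ⟨j, hj⟩ : ∃ j, m = j + finrank F W := ⟨m - finrank F W, by omega⟩
    have e : N ^ m = N ^ j * N ^ finrank F W := by rw [← pow_add, ← hj]
    rw [e, Module.End.mul_apply, h'', map_zero]
  have hle : LinearMap.range (N ^ m) ≤ LinearMap.ker (N ^ m) := by
    rintro _ ⟨x, rfl⟩
    rw [LinearMap.mem_ker, ← Module.End.mul_apply, ← pow_add, ← two_mul, hN2, LinearMap.zero_apply]
  have heq : LinearMap.range (N ^ m) = LinearMap.ker (N ^ m) := by
    refine Submodule.eq_of_le_of_finrank_le hle ?_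
    have h1 := (N ^ m).finrank_range_add_finrank_ker
    have h2 := finrank_ker_pow_le N hker m
    omega
  have hform : ∀ a b, Cfsg.sympForm m F (A *ᵥ a) (A *ᵥ b) = Cfsg.sympForm m F a b := by
    intro a b
    rw [Cfsg.sympForm, Cfsg.sympForm, Matrix.mulVec_mulVec, ← Matrix.vecMul_transpose A a,
      ← Matrix.dotProduct_mulVec, Matrix.mulVec_mulVec, ← Matrix.mul_assoc, SymplecticGroup.mem_iff'.1 u.2]
  have hadj : ∀ a b, Cfsg.sympForm m F ((A - 1) *ᵥ a) b = Cfsg.sympForm m F a ((B - 1) *ᵥ b) := by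
    intro a b
    have h1 := hform a (B *ᵥ b)
    rw [Matrix.mulVec_mulVec, hAB, Matrix.one_mulVec] at h1
    simp only [Cfsg.sympForm] at h1 ⊢
    rw [Matrix.sub_mulVec, Matrix.one_mulVec, sub_dotProduct, Matrix.sub_mulVec, Matrix.one_mulVec,
      Matrix.mulVec_sub, dotProduct_sub, h1]
  have hadjk : ∀ k a b, Cfsg.sympForm m F ((A - 1) ^ k *ᵥ a) b = Cfsg.sympForm m F a ((B - 1) ^ k *ᵥ b) := by
    intro k
    induction k with
    | zero => simp
    | succ k ih =>
      intro a b
      rw [pow_succ', ← Matrix.mulVec_mulVec, hadj, ih, Matrix.mulVec_mulVec, ← pow_succ]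
  intro v hv w hw
  obtain ⟨a, rfl⟩ : v ∈ LinearMap.range (N ^ m) := heq ▸ LinearMap.mem_ker.2 (hWker v hv)
  obtain ⟨b, rfl⟩ : w ∈ LinearMap.range (N ^ m) := heq ▸ LinearMap.mem_ker.2 (hWker w hw)
  simp only [hN, ← Matrix.toLin'_pow, Matrix.toLin'_apply]
  rw [hadjk, Matrix.mulVec_mulVec]
  have hB1 : B - 1 = -B * (A - 1) := by rw [neg_mul, mul_sub, hBA, mul_one, neg_sub]
  have hcomm : Commute (-B) (A - 1) := by
    show -B * (A - 1) = (A - 1) * -B
    rw [neg_mul, mul_neg, mul_sub, sub_mul, hBA, hAB, mul_one, one_mul]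
  rw [hB1, hcomm.mul_pow, Matrix.mul_assoc, ← pow_add, ← two_mul, hnil, Matrix.mul_zero, Matrix.zero_mulVec,
    Cfsg.sympForm, Matrix.mulVec_zero, dotProduct_zero]

end Cfsg.Agent.Small.RegIso
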