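import Mathlib.LinearAlgebra.Matrix.SpecialLinearGroup
import Mathlib.LinearAlgebra.Matrix.Rank
import Mathlib.LinearAlgebra.Projection
import Mathlib.LinearAlgebra.Dimension.DivisionRing
import Mathlib.FieldTheory.Finite.Basic

/-!
Involutions of SL_n in characteristic two are classified by the rank of a - 1.
-/

set_option autoImplicit false

namespace Cfsg.Agent.Small.SLInvolution

open Module

variable {F : Type*} [Field F] {n : ℕ}

/-- A square-zero map in standard coordinates. -/
theorem exists_coords {V : Type*} [AddCommGroup V] [Module F V] [FiniteDimensional F V]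
    (N : Module.End F V) (hN : N * N = 0) (r : ℕ) (hr : finrank F (LinearMap.range N) = r) :
    ∃ (e : ((Fin r → F) × (Fin r → F) × (Fin (finrank F V - 2 * r) → F)) ≃ₗ[F] V),
      ∀ x y z, N (e (x, y, z)) = e (0, x, 0) := by
  subst hr
  obtain ⟨C, hC⟩ := Submodule.exists_isCompl (LinearMap.ker N)
  have hle : LinearMap.range N ≤ LinearMap.ker N := by
    rintro _ ⟨x, rfl⟩
    exact congrArg (fun f : Module.End F V => f x) hN
  obtain ⟨K, hK⟩ := Submodule.exists_isCompl ((LinearMap.range N).comap (LinearMap.ker N).subtype)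
  have h1 := Submodule.finrank_add_eq_of_isCompl hC
  have h2 := N.finrank_range_add_finrank_ker
  have h3 := Submodule.finrank_add_eq_of_isCompl hK
  have h4 : finrank F ((LinearMap.range N).comap (LinearMap.ker N).subtype) = finrank F (LinearMap.range N) :=
    (Submodule.comapSubtypeEquivOfLe hle).finrank_eq
  obtain ⟨f⟩ : Nonempty ((Fin (finrank F (LinearMap.range N)) → F) ≃ₗ[F] C) :=
    ⟨LinearEquiv.ofFinrankEq _ _ (by rw [finrank_fin_fun]; omega)⟩
  obtain ⟨g⟩ : Nonempty ((Fin (finrank F V - 2 * finrank F (LinearMap.range N)) → F) ≃ₗ[F] K) :=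
    ⟨LinearEquiv.ofFinrankEq _ _ (by rw [finrank_fin_fun]; omega)⟩
  let Ψ : ((Fin (finrank F (LinearMap.range N)) → F) × (Fin (finrank F (LinearMap.range N)) → F) ×
        (Fin (finrank F V - 2 * finrank F (LinearMap.range N)) → F)) →ₗ[F] V :=
    (C.subtype ∘ₗ f.toLinearMap).coprod
      ((N ∘ₗ C.subtype ∘ₗ f.toLinearMap).coprod ((LinearMap.ker N).subtype ∘ₗ K.subtype ∘ₗ g.toLinearMap))
  have hNN : ∀ w, N (N w) = 0 := fun w => hle ⟨w, rfl⟩
  have hΨ : ∀ x y z, Ψ (x, y, z) = (f x : V) + (N (f y : V) + ((g z : LinearMap.ker N) : V)) := fun _ _ _ => rfl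
  have hact : ∀ x y z, N (Ψ (x, y, z)) = N (f x : V) := by
    intro x y z
    rw [hΨ, map_add, map_add, hNN, LinearMap.mem_ker.1 (g z : LinearMap.ker N).2, add_zero, add_zero]
  have hinj : Function.Injective Ψ := by
    rw [injective_iff_map_eq_zero]
    rintro ⟨x, y, z⟩ h
    have hx : x = 0 := by
      have h' := congrArg N h
      rw [hact, map_zero] at h'
      have : (f x : V) = 0 := Submodule.disjoint_def.1 hC.disjoint _ (LinearMap.mem_ker.2 h') (f x).2
      exact f.injective (Subtype.ext (by simpa using this))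
    subst hx
    rw [hΨ, map_zero, Submodule.coe_zero, zero_add] at h
    have hz : (g z : LinearMap.ker N) = 0 := by
      refine Submodule.disjoint_def.1 hK.disjoint _ ?_ (g z).2
      show ((g z : LinearMap.ker N) : V) ∈ LinearMap.range N
      rw [eq_neg_of_add_eq_zero_right h]
      exact neg_mem ⟨_, rfl⟩
    have hy : N (f y : V) = 0 := by rw [hz] at h; simpa using h
    have hfy : (f y : V) = 0 := Submodule.disjoint_def.1 hC.disjoint _ (LinearMap.mem_ker.2 hy) (f y).2
    have e1 : y = 0 := f.injective (Subtype.ext (by simpa using hfy))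
    have e2 : z = 0 := g.injective (Subtype.ext (by simpa using hz))
    simp [e1, e2]
  have hdim : finrank F ((Fin (finrank F (LinearMap.range N)) → F) × (Fin (finrank F (LinearMap.range N)) → F) ×
        (Fin (finrank F V - 2 * finrank F (LinearMap.range N)) → F)) = finrank F V := by
    rw [finrank_prod, finrank_prod, finrank_fin_fun, finrank_fin_fun]
    omega
  refine ⟨LinearEquiv.ofInjectiveOfFinrankEq Ψ hinj hdim, fun x y z => ?_⟩
  show N (Ψ (x, y, z)) = Ψ (0, x, 0)
  rw [hact, hΨ]
  simp

open Matrix in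
theorem isConj_iff_rank [Fintype F] [CharP F 2] (a b : Matrix.SpecialLinearGroup (Fin n) F)
    (ha : orderOf a = 2) (hb : orderOf b = 2) :
    IsConj a b ↔ ((a : Matrix (Fin n) (Fin n) F) - 1).rank = ((b : Matrix (Fin n) (Fin n) F) - 1).rank := by
  constructor
  · intro h
    obtain ⟨c, rfl⟩ := isConj_iff.1 h
    have hc1 : IsUnit ((c : Matrix (Fin n) (Fin n) F)).det := by rw [c.2]; exact isUnit_one
    have hc2 : IsUnit ((c⁻¹ : Matrix.SpecialLinearGroup (Fin n) F) : Matrix (Fin n) (Fin n) F).det := by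
      rw [(c⁻¹).2]; exact isUnit_one
    have : ((c * a * c⁻¹ : Matrix.SpecialLinearGroup (Fin n) F) : Matrix (Fin n) (Fin n) F) - 1 =
        (c : Matrix (Fin n) (Fin n) F) * ((a : Matrix (Fin n) (Fin n) F) - 1) *
          ((c⁻¹ : Matrix.SpecialLinearGroup (Fin n) F) : Matrix (Fin n) (Fin n) F) := by
      rw [mul_sub, sub_mul, mul_one, ← SpecialLinearGroup.coe_mul c c⁻¹, mul_inv_cancel,
        SpecialLinearGroup.coe_one, SpecialLinearGroup.coe_mul, SpecialLinearGroup.coe_mul]
    rw [this, Matrix.rank_mul_eq_left_of_isUnit_det _ _ hc2, Matrix.rank_mul_eq_right_of_isUnit_det _ _ hc1]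
  · intro hrank
    have hsq : ∀ c : Matrix.SpecialLinearGroup (Fin n) F, orderOf c = 2 →
        (Matrix.toLin' ((c : Matrix (Fin n) (Fin n) F) - 1)) * Matrix.toLin' ((c : Matrix (Fin n) (Fin n) F) - 1) =
          (0 : Module.End F (Fin n → F)) := by
      intro c hc
      have h1 : (c : Matrix (Fin n) (Fin n) F) * c = 1 := by
        rw [← SpecialLinearGroup.coe_mul, ← pow_two, ← hc, pow_orderOf_eq_one, SpecialLinearGroup.coe_one]
      have h2 : ((2 : ℕ) : F) = 0 := CharP.cast_eq_zero F 2
      show Matrix.toLin' _ ∘ₗ Matrix.toLin' _ = 0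
      rw [← Matrix.toLin'_mul, mul_sub, sub_mul, h1, one_mul, mul_one]
      have : (1 : Matrix (Fin n) (Fin n) F) - c - (c - 1) = (2 : ℕ) • ((1 : Matrix (Fin n) (Fin n) F) - c) := by
        rw [two_nsmul]; abel
      rw [this, ← Nat.cast_smul_eq_nsmul F, h2, zero_smul, map_zero]
    set Na : Module.End F (Fin n → F) := Matrix.toLin' ((a : Matrix (Fin n) (Fin n) F) - 1) with hNa
    set Nb : Module.End F (Fin n → F) := Matrix.toLin' ((b : Matrix (Fin n) (Fin n) F) - 1) with hNb
    have hr : finrank F (LinearMap.range Na) = finrank F (LinearMap.range Nb) := hrank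
    have hpos : 0 < finrank F (LinearMap.range Na) := by
      rw [pos_iff_ne_zero]
      intro h0
      rw [Submodule.finrank_eq_zero, LinearMap.range_eq_bot, hNa, ← map_zero (Matrix.toLin' (R := F) (m := Fin n) (n := Fin n))] at h0
      have : a = 1 := Subtype.ext (by rw [SpecialLinearGroup.coe_one]; exact sub_eq_zero.1 (Matrix.toLin'.injective h0))
      rw [this, orderOf_one] at ha
      exact absurd ha (by norm_num)
    rw [hr] at hpos
    generalize hr' : finrank F (LinearMap.range Nb) = r at hr hpos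
    obtain ⟨ea, hea⟩ := exists_coords Na (hsq a ha) r hr
    obtain ⟨eb, heb⟩ := exists_coords Nb (hsq b hb) r hr'
    let P : (Fin n → F) ≃ₗ[F] (Fin n → F) := ea.symm.trans eb
    obtain ⟨d, hd⟩ : IsSquare ((LinearMap.det (P : (Fin n → F) →ₗ[F] (Fin n → F)))⁻¹) :=
      FiniteField.isSquare_of_char_two (ringChar.eq F 2) _
    let S : Module.End F (Fin r → F) := Matrix.toLin' (Matrix.diagonal (Function.update 1 ⟨0, hpos⟩ d))
    have hS : LinearMap.det S = d := by
      rw [LinearMap.det_toLin', Matrix.det_diagonal, Finset.prod_update_of_mem (Finset.mem_univ _)]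
      simp
    let D : Module.End F (Fin n → F) := ea.conj (S.prodMap (S.prodMap LinearMap.id))
    let M : Module.End F (Fin n → F) := (P : (Fin n → F) →ₗ[F] (Fin n → F)) ∘ₗ D
    have hdet : LinearMap.det M = 1 := by
      have hD : LinearMap.det D = d * d := by
        simp only [D]
        rw [LinearEquiv.conj_apply, LinearMap.comp_assoc, LinearMap.det_conj, LinearMap.det_prodMap,
          LinearMap.det_prodMap, LinearMap.det_id, mul_one, hS]
      simp only [M]
      rw [LinearMap.det_comp, hD, ← hd, mul_inv_cancel₀ (LinearEquiv.isUnit_det' P).ne_zero]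
    have hMN : ∀ v, M (Na v) = Nb (M v) := by
      intro v
      obtain ⟨⟨x, y, z⟩, rfl⟩ := ea.surjective v
      simp [M, D, P, LinearEquiv.conj_apply_apply, hea, heb]
    obtain ⟨c, hc⟩ : ∃ c : Matrix.SpecialLinearGroup (Fin n) F, (c : Matrix (Fin n) (Fin n) F) = LinearMap.toMatrix' M :=
      ⟨⟨LinearMap.toMatrix' M, by rw [LinearMap.det_toMatrix', hdet]⟩, rfl⟩
    refine isConj_iff.2 ⟨c, mul_inv_eq_iff_eq_mul.2 (Subtype.ext ?_)⟩
    apply Matrix.toLin'.injective
    refine LinearMap.ext fun v => ?_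
    rw [SpecialLinearGroup.coe_mul, SpecialLinearGroup.coe_mul, Matrix.toLin'_mul, Matrix.toLin'_mul, hc,
      Matrix.toLin'_toMatrix', LinearMap.comp_apply, LinearMap.comp_apply]
    have h := hMN v
    simp only [hNa, hNb, map_sub, Matrix.toLin'_one, LinearMap.sub_apply, LinearMap.id_apply] at h
    exact sub_left_inj.1 h

end Cfsg.Agent.Small.SLInvolution
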