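import Mathlib
import Cfsg.Agent.Lib.Classical.LinBasic
import Cfsg.Agent.Lib.Small.PSLn.Simple

/-!
Subgroups of `GL_n(F)` normalised by `SL_n(F)`.
-/

set_option autoImplicit false

namespace Cfsg.Agent.Small.SLNormalised

open Matrix

theorem exists_sq_ne_one {F : Type*} [Field F] [Fintype F] (h : 4 ≤ Fintype.card F) :
    ∃ a : F, a ≠ 0 ∧ a ^ 2 ≠ 1 := by
  classical
  have hcard : ({0, 1, -1} : Finset F).card < (Finset.univ : Finset F).card :=
    lt_of_le_of_lt Finset.card_le_three (by rw [Finset.card_univ]; omega)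
  obtain ⟨a, -, ha⟩ := Finset.exists_mem_notMem_of_card_lt_card hcard
  simp only [Finset.mem_insert, Finset.mem_singleton, not_or] at ha
  exact ⟨a, ha.1, fun h => (sq_eq_one_iff.mp h).elim ha.2.1 ha.2.2⟩

theorem dichotomy {F : Type*} [Field F] [Fintype F] (n : ℕ) (hn : 1 ≤ n)
    (hex : ¬ (n = 2 ∧ Fintype.card F ≤ 3)) (G : Subgroup (GL (Fin n) F))
    (hG : ∀ s : Matrix.SpecialLinearGroup (Fin n) F, ∀ g ∈ G,
      (Matrix.SpecialLinearGroup.toGL s) * g * (Matrix.SpecialLinearGroup.toGL s)⁻¹ ∈ G) :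
    (∀ g ∈ G, ∃ c : F, (g : Matrix (Fin n) (Fin n) F) = c • (1 : Matrix (Fin n) (Fin n) F)) ∨
      (Matrix.SpecialLinearGroup.toGL : Matrix.SpecialLinearGroup (Fin n) F →* _).range ≤ G := by
  classical
  rcases hn.eq_or_lt with h1 | h2
  · left
    intro g _
    subst h1
    refine ⟨(g : Matrix (Fin 1) (Fin 1) F) 0 0, ?_⟩
    ext i j
    fin_cases i
    fin_cases j
    simp
  have h4 : n = 2 → 4 ≤ Fintype.card F := fun h => by
    have := fun h' => hex ⟨h, h'⟩
    omega
  have hperf : commutator (Matrix.SpecialLinearGroup (Fin n) F) = ⊤ := by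
    rcases eq_or_lt_of_le (Nat.succ_le_of_lt h2) with h | h
    · subst h
      obtain ⟨a, ha, ha2⟩ := exists_sq_ne_one (h4 rfl)
      exact SL2.commutator_eq_top ha ha2
    · exact Classical.sl_commutator_eq_top (by rw [Fintype.card_fin]; omega)
  have hsimple : IsSimpleGroup (Matrix.ProjectiveSpecialLinearGroup (Fin n) F) := by
    rcases eq_or_lt_of_le (Nat.succ_le_of_lt h2) with h | h
    · subst h
      exact Matrix.ProjectiveSpecialLinearGroup.rank_two_simple' (exists_sq_ne_one (h4 rfl))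
    · exact PSLn.psl_simple (by omega)
  obtain ⟨H, hH⟩ : ∃ H, H = G.comap (Matrix.SpecialLinearGroup.toGL : Matrix.SpecialLinearGroup (Fin n) F →* GL (Fin n) F) := ⟨_, rfl⟩
  have hHn : H.Normal := ⟨fun x hx s => by
    rw [hH, Subgroup.mem_comap] at hx ⊢
    rw [map_mul, map_mul, map_inv]
    exact hG s _ hx⟩
  by_cases hHc : H ≤ Subgroup.center (Matrix.SpecialLinearGroup (Fin n) F)
  · left
    intro g hg
    have hdet : ∀ s : Matrix.SpecialLinearGroup (Fin n) F, ∃ c, Matrix.SpecialLinearGroup.toGL c = Matrix.SpecialLinearGroup.toGL s * g * (Matrix.SpecialLinearGroup.toGL s)⁻¹ * g⁻¹ := by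
      intro s
      have hd : Matrix.GeneralLinearGroup.det (Matrix.SpecialLinearGroup.toGL s * g * (Matrix.SpecialLinearGroup.toGL s)⁻¹ * g⁻¹) = 1 := by
        rw [map_mul, map_mul, map_mul, map_inv, map_inv]
        rw [mul_inv_cancel_comm, mul_inv_cancel]
      obtain ⟨x, hx⟩ : ∃ x, x = Matrix.SpecialLinearGroup.toGL s * g * (Matrix.SpecialLinearGroup.toGL s)⁻¹ * g⁻¹ :=
        ⟨_, rfl⟩
      rw [← hx] at hd ⊢
      have hd' : x.1.det = 1 := (Matrix.GeneralLinearGroup.val_det_apply x).symm.trans (by rw [hd, Units.val_one])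
      exact ⟨⟨x.1, hd'⟩, Units.ext rfl⟩
    choose c hc using hdet
    have hcH : ∀ s, c s ∈ H := fun s => by
      rw [hH, Subgroup.mem_comap, hc]
      exact mul_mem (hG s g hg) (inv_mem hg)
    have hcent : ∀ s (x : GL (Fin n) F), Matrix.SpecialLinearGroup.toGL (c s) * x = x * Matrix.SpecialLinearGroup.toGL (c s) := by
      intro s x
      obtain ⟨r, -, hr⟩ := Matrix.SpecialLinearGroup.mem_center_iff.mp (hHc (hcH s))
      refine Units.ext ?_
      rw [Units.val_mul, Units.val_mul]
      show (c s : Matrix (Fin n) (Fin n) F) * _ = _ * (c s : Matrix (Fin n) (Fin n) F)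
      rw [← hr]
      exact (Matrix.scalar_commute r (fun r' => mul_comm r r') _).eq
    have hhom : ∀ s t, c (s * t) = c s * c t := by
      intro s t
      apply Matrix.SpecialLinearGroup.toGL_injective
      rw [map_mul _ (c s), hc (s * t), map_mul]
      calc Matrix.SpecialLinearGroup.toGL s * Matrix.SpecialLinearGroup.toGL t * g * (Matrix.SpecialLinearGroup.toGL s * Matrix.SpecialLinearGroup.toGL t)⁻¹ * g⁻¹
          = Matrix.SpecialLinearGroup.toGL s * (Matrix.SpecialLinearGroup.toGL t * g * (Matrix.SpecialLinearGroup.toGL t)⁻¹ * g⁻¹) * g * (Matrix.SpecialLinearGroup.toGL s)⁻¹ * g⁻¹ := by group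
        _ = (Matrix.SpecialLinearGroup.toGL t * g * (Matrix.SpecialLinearGroup.toGL t)⁻¹ * g⁻¹) * (Matrix.SpecialLinearGroup.toGL s * g * (Matrix.SpecialLinearGroup.toGL s)⁻¹ * g⁻¹) := by
          rw [← hc t, ← hcent t (Matrix.SpecialLinearGroup.toGL s)]
          group
        _ = Matrix.SpecialLinearGroup.toGL (c s) * Matrix.SpecialLinearGroup.toGL (c t) := by rw [← hc s, ← hc t, hcent t]
    obtain ⟨χ, hχ⟩ : ∃ χ : Matrix.SpecialLinearGroup (Fin n) F →* Matrix.SpecialLinearGroup (Fin n) F,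
        ∀ s, χ s = c s :=
      ⟨MonoidHom.mk' c hhom, fun s => rfl⟩
    have hle : commutator (Matrix.SpecialLinearGroup (Fin n) F) ≤ χ.ker := by
      rw [commutator_def, Subgroup.commutator_le]
      intro a _ b _
      rw [MonoidHom.mem_ker, map_commutatorElement, commutatorElement_eq_one_iff_mul_comm, hχ, hχ]
      exact (Subgroup.mem_center_iff.mp (hHc (hcH b)) (c a))
    have htriv : ∀ s, c s = 1 := fun s => by
      rw [← hχ s]
      exact MonoidHom.mem_ker.mp (hle (hperf ▸ Subgroup.mem_top s))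
    obtain ⟨r, hr⟩ := Matrix.mem_range_scalar_of_commute_transvectionStruct (M := (g : Matrix (Fin n) (Fin n) F))
      fun t => by
        have := hc t.toSpecialLinearGroup
        rw [htriv, map_one, eq_comm, mul_inv_eq_one, mul_inv_eq_iff_eq_mul] at this
        have := congrArg Units.val this
        rw [Units.val_mul, Units.val_mul] at this
        exact this
    exact ⟨r, by rw [← hr]; exact Matrix.scalar_apply r |>.trans (Matrix.smul_one_eq_diagonal r).symm⟩
  · right
    have hmap : H.map (QuotientGroup.mk' (Subgroup.center (Matrix.SpecialLinearGroup (Fin n) F))) = ⊤ :=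
      (hsimple.eq_bot_or_eq_top_of_normal _ (hHn.map _ (QuotientGroup.mk'_surjective _))).resolve_left
        fun h => hHc (by
          rw [← QuotientGroup.ker_mk' (Subgroup.center (Matrix.SpecialLinearGroup (Fin n) F))]
          exact (Subgroup.map_eq_bot_iff _).mp h)
    have htop : ∀ a : Matrix.SpecialLinearGroup (Fin n) F, ∃ h ∈ H, ∃ z ∈ Subgroup.center _, a = h * z := by
      intro a
      obtain ⟨h, hh, he⟩ : QuotientGroup.mk' (Subgroup.center _) a ∈ H.map (QuotientGroup.mk' _) :=
        hmap ▸ Subgroup.mem_top _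
      obtain ⟨z, hz, hz'⟩ := (QuotientGroup.mk'_eq_mk' _).mp he
      exact ⟨h, hh, z, hz, hz'.symm⟩
    have hle : commutator (Matrix.SpecialLinearGroup (Fin n) F) ≤ H := by
      rw [commutator_def, Subgroup.commutator_le]
      intro a _ b _
      obtain ⟨h, hh, z, hz, rfl⟩ := htop a
      obtain ⟨h', hh', z', hz', rfl⟩ := htop b
      have e1 : QuotientGroup.mk' H h = 1 := (QuotientGroup.eq_one_iff h).mpr hh
      have e2 : QuotientGroup.mk' H h' = 1 := (QuotientGroup.eq_one_iff h').mpr hh'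
      rw [← QuotientGroup.ker_mk' H, MonoidHom.mem_ker, map_commutatorElement,
        commutatorElement_eq_one_iff_mul_comm, map_mul _ h z, map_mul _ h' z', e1, e2, one_mul, one_mul, ← map_mul,
        ← map_mul, Subgroup.mem_center_iff.mp hz z']
    rintro _ ⟨s, rfl⟩
    have : s ∈ H := hle (hperf ▸ Subgroup.mem_top s)
    rwa [hH] at this

end Cfsg.Agent.Small.SLNormalised
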