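import Cfsg.Agent.Lib.Small.SLThreeSquare

/-!
# Products of two elements of order thirteen in `SL₃` over the field with three elements
-/

set_option autoImplicit false
set_option linter.unusedSectionVars false

namespace Cfsg.Agent.Small.SLThreeGen

open Matrix
open scoped MatrixGroups

variable {F : Type*} [Field F]

local notation "S3" => Matrix.SpecialLinearGroup (Fin 3) F
local notation "M3" => Matrix (Fin 3) (Fin 3) F
local notation "Z3" => Matrix (Fin 3) (Fin 3) (ZMod 3)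

/-- The Krylov matrix of the first basis vector. -/
def kry {R : Type*} [CommRing R] (X : Matrix (Fin 3) (Fin 3) R) : Matrix (Fin 3) (Fin 3) R :=
  !![1, X 0 0, (X * X) 0 0; 0, X 1 0, (X * X) 1 0; 0, X 2 0, (X * X) 2 0]

/-- The companion matrix of `T³ - T - 1`. -/
def comp13 (R : Type*) [CommRing R] : Matrix (Fin 3) (Fin 3) R := !![0, 0, 1; 1, 0, 1; 0, 1, 0]

theorem comp13_det {R : Type*} [CommRing R] : (comp13 R).det = 1 := by
  simp [comp13, Matrix.det_fin_three]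

/-- Membership in the class. -/
abbrev InClass (X : Z3) : Prop := (kry X).det ≠ 0 ∧ X * kry X = kry X * comp13 (ZMod 3)

/-- Candidate left factors with their inverses. -/
def table : List (Z3 × Z3) :=
  [(!![1, 0, 1; 1, 1, 1; 0, 1, 1], !![0, 1, 2; 2, 1, 0; 1, 2, 1]),
   (!![1, 0, 1; 2, 1, 2; 0, 2, 1], !![0, 2, 2; 1, 1, 0; 1, 1, 1]),
   (!![1, 0, 2; 2, 1, 1; 0, 1, 1], !![0, 2, 1; 1, 1, 0; 2, 2, 1]),
   (!![2, 1, 1; 1, 1, 2; 1, 2, 0], !![2, 2, 1; 2, 2, 0; 1, 0, 1]),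
   (!![2, 2, 2; 2, 0, 2; 2, 2, 1], !![2, 2, 1; 2, 1, 0; 1, 0, 2]),
   (!![0, 0, 2; 1, 0, 1; 1, 2, 0], !![1, 1, 0; 1, 1, 2; 2, 0, 0]),
   (!![1, 2, 1; 2, 2, 0; 2, 1, 0], !![0, 1, 1; 0, 1, 2; 1, 0, 1]),
   (!![0, 0, 2; 2, 0, 0; 2, 1, 0], !![0, 2, 0; 0, 2, 1; 2, 0, 0]),
   (!![0, 1, 2; 0, 0, 1; 1, 2, 0], !![1, 1, 1; 1, 1, 0; 0, 1, 0]),
   (!![1, 2, 1; 1, 2, 2; 0, 2, 0], !![2, 2, 2; 0, 0, 2; 2, 1, 0]),
   (!![1, 0, 1; 1, 2, 1; 1, 2, 0], !![1, 2, 1; 1, 2, 0; 0, 1, 2]),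
   (!![0, 0, 1; 1, 0, 0; 1, 1, 0], !![0, 1, 0; 0, 2, 1; 1, 0, 0]),
   (!![0, 1, 0; 0, 2, 2; 2, 0, 1], !![2, 2, 2; 1, 0, 0; 2, 2, 0])]

theorem table_companion : ∀ b c : ZMod 3,
    ∃ p ∈ table, p.1 * p.2 = 1 ∧ InClass p.1 ∧ InClass (p.2 * !![0, 0, 1; 1, 0, b; 0, 1, c]) := by
  decide +kernel

theorem table_block : ∀ a b c d f : ZMod 3, -a * f = 1 →
    ∃ p ∈ table, p.1 * p.2 = 1 ∧ InClass p.1 ∧ InClass (p.2 * !![0, a, b; 1, c, d; 0, 0, f]) := by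
  decide +kernel

theorem exists_sol_three [Fintype F] (h : Fintype.card F = 3) (x A : S3) (hx : x.1 = comp13 F)
    (hA : ∀ s : F, A.1 ≠ !![s, 0, 0; 0, s, 0; 0, 0, s]) :
    ∃ P Q : S3, A = P * x * P⁻¹ * (Q * x * Q⁻¹) := by
  classical
  have hc : ringChar F = 3 := by
    obtain ⟨n, hp, hn⟩ := FiniteField.card F (ringChar F)
    rw [hn] at h
    exact (Nat.prime_dvd_prime_iff_eq hp Nat.prime_three).1 (h ▸ dvd_pow_self _ n.pos.ne')
  haveI : CharP F 3 := hc ▸ ringChar.charP F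
  let φ : ZMod 3 →+* F := ZMod.castHom dvd_rfl F
  have hφ : Function.Bijective φ := by
    rw [Fintype.bijective_iff_injective_and_card]
    exact ⟨φ.injective, by rw [ZMod.card, h]⟩
  let Φ := φ.mapMatrix (m := Fin 3)
  have hE : ∀ δ : F, δ ≠ 0 → ∃ E : M3, E.det = δ ∧ E * x.1 = x.1 * E := by
    intro δ hδ
    refine ⟨Matrix.scalar (Fin 3) δ, ?_, ((Matrix.scalar_commute δ (fun r => Commute.all _ _) _).eq)⟩
    have h2 : δ ^ 2 = 1 := by simpa [h] using FiniteField.pow_card_sub_one_eq_one δ hδ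
    simp
    linear_combination δ * h2
  have key : ∀ (G : M3) (B X Y : Z3), G.det ≠ 0 → A.1 * G = G * Φ B → X * Y = 1 → InClass X →
      InClass (Y * B) → ∃ P Q : S3, A = P * x * P⁻¹ * (Q * x * Q⁻¹) := by
    intro G B X Y hG hB hXY hX hYB
    have hd : ∀ K : Z3, K.det ≠ 0 → (Φ K).det ≠ 0 := fun K hK => by
      rw [← RingHom.map_det]; exact fun h0 => hK (φ.injective (h0.trans (map_zero φ).symm))
    have hC : Φ (comp13 (ZMod 3)) = x.1 := by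
      rw [hx]; ext i j; fin_cases i <;> fin_cases j <;> simp [Φ, comp13]
    refine eq_mul_conj x A hG (hd _ hX.1) (hd _ hYB.1) hE (L := Φ X) (U := Φ (Y * B)) ?_ ?_ ?_
    · rw [← map_mul, ← mul_assoc X, hXY, one_mul, hB]
    · rw [← map_mul, hX.2, map_mul, hC]
    · rw [← map_mul, hYB.2, map_mul, hC]
  obtain ⟨G₀, r₁, r₂, m, n, k, l, hG₀, hB, hdB⟩ := exists_first_col A.1 hA 0
  rw [A.2] at hdB
  by_cases hk : k = 0
  · subst hk
    obtain ⟨a, rfl⟩ := hφ.2 r₁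
    obtain ⟨b, rfl⟩ := hφ.2 r₂
    obtain ⟨c, rfl⟩ := hφ.2 m
    obtain ⟨d, rfl⟩ := hφ.2 n
    obtain ⟨f, rfl⟩ := hφ.2 l
    rw [Matrix.det_fin_three] at hdB
    simp at hdB
    obtain ⟨p, -, h1, h2, h3⟩ := table_block a b c d f
      (hφ.1 (by rw [map_mul, map_neg, map_one]; linear_combination hdB))
    refine key G₀ _ _ _ hG₀ ?_ h1 h2 h3
    rw [hB]
    congr 1
    ext i j; fin_cases i <;> fin_cases j <;> simp [Φ]
  · obtain ⟨B, h1, h2, h3⟩ := conj_cols !![0, r₁, r₂; 1, m, n; 0, k, l] !![1, 0, r₁; 0, 1, m; 0, 0, k]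
      (by rw [Matrix.det_fin_three]; simpa using hk)
    have c0 : ∀ i, B i 0 = ![0, 1, 0] i := h3 0 _ fun i => by
      fin_cases i <;> simp [Matrix.mul_apply, Matrix.mulVec, dotProduct, Fin.sum_univ_three]
    have c1 : ∀ i, B i 1 = ![0, 0, 1] i := h3 1 _ fun i => by
      fin_cases i <;> simp [Matrix.mul_apply, Matrix.mulVec, dotProduct, Fin.sum_univ_three]
    have e00 := c0 0; have e10 := c0 1; have e20 := c0 2
    have e01 := c1 0; have e11 := c1 1; have e21 := c1 2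
    simp at e00 e10 e20 e01 e11 e21
    have e02 : B 0 2 = 1 := by
      rw [hdB, Matrix.det_fin_three] at h2
      simp [e00, e10, e20, e01, e11, e21] at h2
      linear_combination h2
    obtain ⟨b, hb⟩ := hφ.2 (B 1 2)
    obtain ⟨c, hc'⟩ := hφ.2 (B 2 2)
    obtain ⟨p, -, g1, g2, g3⟩ := table_companion b c
    refine key (G₀ * !![1, 0, r₁; 0, 1, m; 0, 0, k]) _ _ _ ?_ ?_ g1 g2 g3
    · rw [Matrix.det_mul, Matrix.det_fin_three !![1, 0, r₁; 0, 1, m; 0, 0, k]]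
      simpa using ⟨hG₀, hk⟩
    · rw [← mul_assoc A.1, hB, mul_assoc, h1, ← mul_assoc]
      congr 1
      conv_lhs => rw [Matrix.eta_fin_three B, e00, e10, e20, e01, e11, e21, e02, ← hb, ← hc']
      ext i j; fin_cases i <;> fin_cases j <;> simp [Φ]

end Cfsg.Agent.Small.SLThreeGen
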