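import Cfsg.Agent.Lib.Classical.LinBasic

/-!
# Two conjugate regular unipotent elements generating the special linear group of degree three
-/

set_option autoImplicit false
set_option linter.unusedSectionVars false

namespace Cfsg.Agent.Small.SLThreeGen

open Matrix
open scoped MatrixGroups commutatorElement

variable {F : Type*} [Field F]

local notation "S3" => Matrix.SpecialLinearGroup (Fin 3) F

/-- The transvection `1 + c E_ij` of `SL₃`. -/
def x (i j : Fin 3) (h : i ≠ j) (c : F) : S3 := SpecialLinearGroup.transvection h c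

theorem x_add (i j : Fin 3) (h : i ≠ j) (c d : F) : x i j h (c + d) = x i j h c * x i j h d := by
  apply Subtype.ext
  simp [x, SpecialLinearGroup.transvection_coe, mul_add, add_mul, h.symm, Matrix.single_add]
  abel

theorem comm_mem {H : Subgroup S3} {a b : S3} (ha : a ∈ H) (hb : b ∈ H) : ⁅a, b⁆ ∈ H := by
  rw [commutatorElement_def]
  exact mul_mem (mul_mem (mul_mem ha hb) (inv_mem ha)) (inv_mem hb)

theorem x_comm_mem {H : Subgroup S3} (i k j : Fin 3) (hij : i ≠ j) (hik : i ≠ k) (hkj : k ≠ j) {c d : F}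
    (hc : x i k hik c ∈ H) (hd : x k j hkj d ∈ H) : x i j hij (c * d) ∈ H := by
  have := comm_mem hc hd
  rwa [x, x, Cfsg.Agent.Classical.sl_transvection_commutator hij hik hkj] at this

/-- Parameters of a family of elements of `H`. -/
def params (H : Subgroup S3) (f : F → S3) (hf : ∀ a b, f (a + b) = f a * f b) : AddSubgroup F where
  carrier := {c | f c ∈ H}
  add_mem' := by intro a b ha hb; simpa [hf] using mul_mem ha hb
  zero_mem' := by
    have : f 0 = 1 := by
      have := hf 0 0
      rw [add_zero] at this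
      exact mul_left_cancel (a := f 0) (by rw [mul_one]; exact this.symm)
    simp [this]
  neg_mem' := by
    intro a (ha : f a ∈ H)
    have h0 : f 0 = 1 := by
      have := hf 0 0
      rw [add_zero] at this
      exact mul_left_cancel (a := f 0) (by rw [mul_one]; exact this.symm)
    have : f (-a) = (f a)⁻¹ := by
      rw [eq_inv_iff_mul_eq_one, ← hf, neg_add_cancel, h0]
    change f (-a) ∈ H
    rw [this]
    exact inv_mem ha

/-- The ring of multipliers of an additive subgroup. -/
def multRing (S : AddSubgroup F) : Subring F where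
  carrier := {r | ∀ s ∈ S, r * s ∈ S}
  mul_mem' := by intro a b ha hb s hs; rw [mul_assoc]; exact ha _ (hb s hs)
  one_mem' := by intro s hs; rwa [one_mul]
  add_mem' := by intro a b ha hb s hs; rw [add_mul]; exact add_mem (ha s hs) (hb s hs)
  zero_mem' := by intro s _; rw [zero_mul]; exact zero_mem S
  neg_mem' := by intro a ha s hs; rw [neg_mul]; exact neg_mem (ha s hs)

theorem eq_univ_of_multRing {S : AddSubgroup F} (hR : multRing S = ⊤) {s : F} (hs : s ∈ S) (hs0 : s ≠ 0)
    (r : F) : r ∈ S := by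
  have : r * s⁻¹ ∈ multRing S := by rw [hR]; exact Subring.mem_top _
  simpa [hs0] using this s hs

/-- All six root subgroups generate. -/
theorem eq_top_of_forall {H : Subgroup S3} (h : ∀ (i j : Fin 3) (hij : i ≠ j) (c : F), x i j hij c ∈ H) :
    H = ⊤ := by
  rw [eq_top_iff, ← Cfsg.Agent.Classical.sl_closure_transvections, Subgroup.closure_le]
  rintro g ⟨i, j, hij, c, rfl⟩
  exact h i j hij c

theorem eq_top_of_six {H : Subgroup S3}
    (h01 : ∀ c : F, x 0 1 (by decide) c ∈ H) (h12 : ∀ c : F, x 1 2 (by decide) c ∈ H)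
    (h02 : ∀ c : F, x 0 2 (by decide) c ∈ H) (h10 : ∀ c : F, x 1 0 (by decide) c ∈ H)
    (h21 : ∀ c : F, x 2 1 (by decide) c ∈ H) (h20 : ∀ c : F, x 2 0 (by decide) c ∈ H) : H = ⊤ := by
  refine eq_top_of_forall fun i j hij c => ?_
  fin_cases i <;> fin_cases j
  all_goals first
    | exact absurd rfl hij
    | exact h01 c
    | exact h12 c
    | exact h02 c
    | exact h10 c
    | exact h21 c
    | exact h20 c

/-- Three root elements on the roots `13, 21, 32` generate when the product of their parameters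
generates the field. -/
theorem eq_top_of_three {H : Subgroup S3} {A B C : F} (hA : x 0 2 (by decide) A ∈ H)
    (hB : x 1 0 (by decide) B ∈ H) (hC : x 2 1 (by decide) C ∈ H) (h0 : A * B * C ≠ 0)
    (hgen : ∀ K : Subring F, A * B * C ∈ K → K = ⊤) : H = ⊤ := by
  have hA0 : A ≠ 0 := fun h => h0 (by rw [h]; ring)
  have hB0 : B ≠ 0 := fun h => h0 (by rw [h]; ring)
  have hC0 : C ≠ 0 := fun h => h0 (by rw [h]; ring)
  let S := params H (x 0 2 (by decide)) (x_add 0 2 (by decide))
  have h1 : ∀ s ∈ S, x 0 1 (by decide) (s * C) ∈ H := fun s hs =>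
    x_comm_mem 0 2 1 (by decide) (by decide) (by decide) hs hC
  have h2 : ∀ s ∈ S, x 1 2 (by decide) (B * s) ∈ H := fun s hs =>
    x_comm_mem 1 0 2 (by decide) (by decide) (by decide) hB hs
  have hS : ∀ r, r ∈ S := by
    refine eq_univ_of_multRing (hgen _ ?_) hA hA0
    intro s hs
    have : x 0 2 (by decide) (A * C * (B * s)) ∈ H :=
      x_comm_mem 0 1 2 (by decide) (by decide) (by decide) (h1 A hA) (h2 s hs)
    have e : A * B * C * s = A * C * (B * s) := by ring
    change x 0 2 _ (A * B * C * s) ∈ H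
    rw [e]; exact this
  have k01 : ∀ c, x 0 1 (by decide) c ∈ H := fun c => by
    simpa [mul_assoc, inv_mul_cancel₀ hC0] using h1 (c * C⁻¹) (hS _)
  have k12 : ∀ c, x 1 2 (by decide) c ∈ H := fun c => by
    simpa [← mul_assoc, mul_inv_cancel₀ hB0] using h2 (B⁻¹ * c) (hS _)
  have hCB : x 2 0 (by decide) (C * B) ∈ H :=
    x_comm_mem 2 1 0 (by decide) (by decide) (by decide) hC hB
  have k10 : ∀ c, x 1 0 (by decide) c ∈ H := fun c => by
    have := x_comm_mem 1 2 0 (by decide) (by decide) (by decide) (k12 (c * (C * B)⁻¹)) hCB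
    rwa [inv_mul_cancel_right₀ (mul_ne_zero hC0 hB0)] at this
  have k21 : ∀ c, x 2 1 (by decide) c ∈ H := fun c => by
    have := x_comm_mem 2 0 1 (by decide) (by decide) (by decide) hCB (k01 ((C * B)⁻¹ * c))
    rwa [mul_inv_cancel_left₀ (mul_ne_zero hC0 hB0)] at this
  have k20 : ∀ c, x 2 0 (by decide) c ∈ H := fun c => by
    have := x_comm_mem 2 1 0 (by decide) (by decide) (by decide) (k21 (c * B⁻¹)) hB
    simpa [mul_assoc, inv_mul_cancel₀ hB0] using this
  exact eq_top_of_six k01 k12 hS k10 k21 k20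

/-- A matrix given by its entries, as an element of `SL₃`. -/
def mk (M : Matrix (Fin 3) (Fin 3) F) (h : M.det = 1) : S3 := ⟨M, h⟩

theorem mk_coe (M : Matrix (Fin 3) (Fin 3) F) (h : M.det = 1) : (mk M h : Matrix (Fin 3) (Fin 3) F) = M := rfl

theorem det_one_three {a b c d e f g h k : F}
    (hh : a * e * k - a * f * h - b * d * k + b * f * g + c * d * h - c * e * g = 1) :
    Matrix.det !![a, b, c; d, e, f; g, h, k] = 1 := by
  rw [Matrix.det_fin_three]
  simpa using hh

/-- The regular unipotent element `1 + s E₁₂ + E₂₃`. -/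
def uni (s : F) : S3 := mk !![1, s, 0; 0, 1, 1; 0, 0, 1] (det_one_three (by ring))

theorem uni_regular {s : F} (hs : s ≠ 0) :
    IsNilpotent ((uni s : Matrix (Fin 3) (Fin 3) F) - 1) ∧ ((uni s : Matrix (Fin 3) (Fin 3) F) - 1) ^ (3 - 1) ≠ 0 := by
  have h1 : (uni s : Matrix (Fin 3) (Fin 3) F) - 1 = !![0, s, 0; 0, 0, 1; 0, 0, 0] := by
    ext i j; fin_cases i <;> fin_cases j <;> simp [uni, mk_coe]
  rw [h1]
  refine ⟨⟨3, ?_⟩, fun h => hs ?_⟩
  · ext i j; fin_cases i <;> fin_cases j <;> simp [pow_succ, Matrix.mul_apply, Fin.sum_univ_three]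
  · have := congrFun (congrFun h 0) 2
    simpa [pow_succ, Matrix.mul_apply, Fin.sum_univ_three] using this

theorem ext3 {A B : S3} (h : A.1 = B.1) : A = B := Subtype.ext h

theorem vmul (A B : S3) : (A * B).1 = A.1 * B.1 := rfl

theorem vone : (1 : S3).1 = !![1, 0, 0; 0, 1, 0; 0, 0, 1] := by
  rw [← Matrix.one_fin_three]; rfl

theorem vmk (M : Matrix (Fin 3) (Fin 3) F) (h : M.det = 1) : (mk M h).1 = M := rfl

theorem vuni (s : F) : (uni s).1 = !![1, s, 0; 0, 1, 1; 0, 0, 1] := rfl

theorem v01 (h : (0 : Fin 3) ≠ 1) (c : F) : (x 0 1 h c).1 = !![1, c, 0; 0, 1, 0; 0, 0, 1] := by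
  change Matrix.transvection (0 : Fin 3) 1 c = _
  ext a b; fin_cases a <;> fin_cases b <;> simp [Matrix.transvection]

theorem v02 (h : (0 : Fin 3) ≠ 2) (c : F) : (x 0 2 h c).1 = !![1, 0, c; 0, 1, 0; 0, 0, 1] := by
  change Matrix.transvection (0 : Fin 3) 2 c = _
  ext a b; fin_cases a <;> fin_cases b <;> simp [Matrix.transvection]

theorem v10 (h : (1 : Fin 3) ≠ 0) (c : F) : (x 1 0 h c).1 = !![1, 0, 0; c, 1, 0; 0, 0, 1] := by
  change Matrix.transvection (1 : Fin 3) 0 c = _
  ext a b; fin_cases a <;> fin_cases b <;> simp [Matrix.transvection]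

theorem v12 (h : (1 : Fin 3) ≠ 2) (c : F) : (x 1 2 h c).1 = !![1, 0, 0; 0, 1, c; 0, 0, 1] := by
  change Matrix.transvection (1 : Fin 3) 2 c = _
  ext a b; fin_cases a <;> fin_cases b <;> simp [Matrix.transvection]

theorem v20 (h : (2 : Fin 3) ≠ 0) (c : F) : (x 2 0 h c).1 = !![1, 0, 0; 0, 1, 0; c, 0, 1] := by
  change Matrix.transvection (2 : Fin 3) 0 c = _
  ext a b; fin_cases a <;> fin_cases b <;> simp [Matrix.transvection]

theorem v21 (h : (2 : Fin 3) ≠ 1) (c : F) : (x 2 1 h c).1 = !![1, 0, 0; 0, 1, 0; 0, c, 1] := by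
  change Matrix.transvection (2 : Fin 3) 1 c = _
  ext a b; fin_cases a <;> fin_cases b <;> simp [Matrix.transvection]

end Cfsg.Agent.Small.SLThreeGen
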