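import Cfsg.Agent.Lib.Small.SLThreePair

/-!
# Every non-scalar element of `SL₃` is a product of two conjugates of a fixed semisimple element
-/

set_option autoImplicit false
set_option linter.unusedSectionVars false

namespace Cfsg.Agent.Small.SLThreeGen

open Matrix
open scoped MatrixGroups

variable {F : Type*} [Field F]

local notation "S3" => Matrix.SpecialLinearGroup (Fin 3) F
local notation "M3" => Matrix (Fin 3) (Fin 3) F

/-- Columns of a conjugated matrix. -/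
theorem conj_cols (A G : M3) (hG : G.det ≠ 0) : ∃ B : M3, A * G = G * B ∧ B.det = A.det ∧
    ∀ (j : Fin 3) (w : Fin 3 → F), (∀ i, (A * G) i j = (G *ᵥ w) i) → ∀ i, B i j = w i := by
  have hu : IsUnit G.det := Ne.isUnit hG
  refine ⟨G⁻¹ * (A * G), ?_, ?_, ?_⟩
  · rw [← mul_assoc, Matrix.mul_nonsing_inv G hu, one_mul]
  · rw [Matrix.det_mul, Matrix.det_mul, Matrix.det_nonsing_inv, Ring.inverse_eq_inv']
    field_simp
  · intro j w h i
    have h1 : (fun l => (A * G) l j) = G *ᵥ w := funext h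
    have h2 : (G⁻¹ * (A * G)) i j = (G⁻¹ *ᵥ fun l => (A * G) l j) i := rfl
    rw [h2, h1, Matrix.mulVec_mulVec, Matrix.nonsing_inv_mul G hu, Matrix.one_mulVec]

/-- A non-scalar matrix is similar to one with first column `(a, 1, 0)`. -/
theorem exists_first_col (A : M3) (hA : ∀ s : F, A ≠ !![s, 0, 0; 0, s, 0; 0, 0, s]) (a : F) :
    ∃ (G : M3) (r₁ r₂ m n k l : F), G.det ≠ 0 ∧ A * G = G * !![a, r₁, r₂; 1, m, n; 0, k, l] ∧
      Matrix.det !![a, r₁, r₂; 1, m, n; 0, k, l] = A.det := by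
  suffices H : ∃ v z : Fin 3 → F, (Matrix.det !![v 0, (A *ᵥ v) 0 - a * v 0, z 0;
      v 1, (A *ᵥ v) 1 - a * v 1, z 1; v 2, (A *ᵥ v) 2 - a * v 2, z 2]) ≠ 0 by
    obtain ⟨v, z, hG⟩ := H
    set G : M3 := !![v 0, (A *ᵥ v) 0 - a * v 0, z 0;
      v 1, (A *ᵥ v) 1 - a * v 1, z 1; v 2, (A *ᵥ v) 2 - a * v 2, z 2] with hGdef
    obtain ⟨B, h1, h2, h3⟩ := conj_cols A G hG
    have hc : ∀ i, B i 0 = ![a, 1, 0] i := h3 0 ![a, 1, 0] fun i => by
      fin_cases i <;> simp [hGdef, Matrix.mul_apply, Matrix.mulVec, dotProduct, Fin.sum_univ_three] <;> ring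
    have hB : B = !![a, B 0 1, B 0 2; 1, B 1 1, B 1 2; 0, B 2 1, B 2 2] := by
      have c0 := hc 0; have c1 := hc 1; have c2 := hc 2
      simp at c0 c1 c2
      conv_lhs => rw [Matrix.eta_fin_three B]
      rw [c0, c1, c2]
    exact ⟨G, B 0 1, B 0 2, B 1 1, B 1 2, B 2 1, B 2 2, hG, hB ▸ h1, hB ▸ h2⟩
  simp only [Matrix.det_fin_three, Matrix.mulVec, dotProduct, Fin.sum_univ_three]
  by_cases h10 : A 1 0 ≠ 0
  · exact ⟨![1, 0, 0], ![0, 0, 1], by simp; exact h10⟩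
  by_cases h20 : A 2 0 ≠ 0
  · exact ⟨![1, 0, 0], ![0, 1, 0], by simp; exact h20⟩
  by_cases h01 : A 0 1 ≠ 0
  · exact ⟨![0, 1, 0], ![0, 0, 1], by simp; exact h01⟩
  by_cases h21 : A 2 1 ≠ 0
  · exact ⟨![0, 1, 0], ![1, 0, 0], by simp; exact h21⟩
  by_cases h02 : A 0 2 ≠ 0
  · exact ⟨![0, 0, 1], ![0, 1, 0], by simp; exact h02⟩
  by_cases h12 : A 1 2 ≠ 0
  · exact ⟨![0, 0, 1], ![1, 0, 0], by simp; exact h12⟩
  push Not at h10 h20 h01 h21 h02 h12
  by_cases h : A 0 0 ≠ A 1 1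
  · exact ⟨![1, 1, 0], ![0, 0, 1], by simp [h01, h10]; intro h'; exact h (by linear_combination -h')⟩
  push Not at h
  refine ⟨![1, 0, 1], ![0, 1, 0], ?_⟩
  simp [h02, h20]
  intro h'
  apply hA (A 0 0)
  have h22 : A 2 2 = A 0 0 := by linear_combination -h'
  conv_lhs => rw [Matrix.eta_fin_three A]
  rw [h10, h20, h01, h21, h02, h12, ← h, h22]

/-- Assemble two conjugates from similarities. -/
theorem eq_mul_conj (x A : S3) {G L U Pl Pu : M3} (hG : G.det ≠ 0) (hPl : Pl.det ≠ 0) (hPu : Pu.det ≠ 0)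
    (hE : ∀ δ : F, δ ≠ 0 → ∃ E : M3, E.det = δ ∧ E * x.1 = x.1 * E)
    (hA : A.1 * G = G * (L * U)) (hL : L * Pl = Pl * x.1) (hU : U * Pu = Pu * x.1) :
    ∃ P Q : S3, A = P * x * P⁻¹ * (Q * x * Q⁻¹) := by
  have one : ∀ (Z P : M3), P.det ≠ 0 → Z * P = P * x.1 →
      ∃ S : S3, (S * x * S⁻¹).1 * G = G * Z := by
    intro Z P hP hZ
    obtain ⟨E, hEd, hEc⟩ := hE (G.det * P.det)⁻¹ (inv_ne_zero (mul_ne_zero hG hP))
    have hd : (G * P * E).det = 1 := by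
      rw [Matrix.det_mul, Matrix.det_mul, hEd, mul_inv_cancel₀ (mul_ne_zero hG hP)]
    refine ⟨⟨G * P * E, hd⟩, ?_⟩
    set S : S3 := ⟨G * P * E, hd⟩ with hS
    set X := S * x * S⁻¹ with hX
    have hmul : X * S = S * x := by rw [hX, inv_mul_cancel_right]
    have h : X.1 * (G * P * E) = G * P * E * x.1 := by
      have := congrArg Subtype.val hmul
      rwa [vmul, vmul] at this
    have hPE : IsUnit (P * E).det := by
      rw [Matrix.det_mul, hEd]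
      exact (mul_ne_zero hP (inv_ne_zero (mul_ne_zero hG hP))).isUnit
    have h' : X.1 * G * (P * E) = G * Z * (P * E) := by
      simp only [mul_assoc] at h ⊢
      rw [h, hEc, ← mul_assoc P, ← hZ, mul_assoc]
    have := congrArg (fun M => M * (P * E)⁻¹) h'
    simpa [mul_assoc, Matrix.mul_nonsing_inv _ hPE] using this
  obtain ⟨P, hP⟩ := one L Pl hPl hL
  obtain ⟨Q, hQ⟩ := one U Pu hPu hU
  refine ⟨P, Q, ext3 ?_⟩
  have : (P * x * P⁻¹ * (Q * x * Q⁻¹)).1 * G = A.1 * G := by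
    rw [vmul, mul_assoc, hQ, ← mul_assoc, hP, mul_assoc, hA]
  have := congrArg (fun M => M * G⁻¹) this
  simpa [mul_assoc, Matrix.mul_nonsing_inv _ hG.isUnit] using this.symm

/-- A lower triangular matrix with distinct diagonal entries is diagonalisable. -/
theorem lower_diag (a b c d e f : F) (h1 : a ≠ b) (h2 : a ≠ c) (h3 : b ≠ c) :
    ∃ P : M3, P.det ≠ 0 ∧ !![a, 0, 0; d, b, 0; e, f, c] * P = P * !![a, 0, 0; 0, b, 0; 0, 0, c] := by
  have e1 : a - b ≠ 0 := sub_ne_zero.2 h1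
  have e2 : a - c ≠ 0 := sub_ne_zero.2 h2
  have e3 : b - c ≠ 0 := sub_ne_zero.2 h3
  refine ⟨!![1, 0, 0; d / (a - b), 1, 0; (e + f * (d / (a - b))) / (a - c), f / (b - c), 1], ?_, ?_⟩
  · rw [det_one_three (by ring)]; exact one_ne_zero
  · simp only [Matrix.mul_fin_three]
    simp
    refine ⟨?_, ?_, ?_⟩ <;> field_simp <;> ring

/-- An upper triangular matrix with distinct diagonal entries is diagonalisable. -/
theorem upper_diag (a b c d e f : F) (h1 : a ≠ b) (h2 : a ≠ c) (h3 : b ≠ c) :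
    ∃ P : M3, P.det ≠ 0 ∧ !![a, d, e; 0, b, f; 0, 0, c] * P = P * !![a, 0, 0; 0, b, 0; 0, 0, c] := by
  have e1 : b - a ≠ 0 := sub_ne_zero.2 h1.symm
  have e2 : c - a ≠ 0 := sub_ne_zero.2 h2.symm
  have e3 : c - b ≠ 0 := sub_ne_zero.2 h3.symm
  refine ⟨!![1, d / (b - a), (e + d * (f / (c - b))) / (c - a); 0, 1, f / (c - b); 0, 0, 1], ?_, ?_⟩
  · rw [det_one_three (by ring)]; exact one_ne_zero
  · simp only [Matrix.mul_fin_three]
    simp
    repeat' apply And.intro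
    all_goals (first | trivial | (field_simp; ring))

/-- The triangular factorisation. -/
theorem exists_LU (A : M3) (hA : ∀ s : F, A ≠ !![s, 0, 0; 0, s, 0; 0, 0, s]) (hdet : A.det = 1)
    {g : F} (hg : g ≠ 0) :
    ∃ (G : M3) (c₁ c₂ r₁ r₂ x : F), G.det ≠ 0 ∧
      A * G = G * (!![1, 0, 0; c₁, g, 0; c₂, g⁻¹, g⁻¹] * !![1, r₁, r₂; 0, g, x; 0, 0, g⁻¹]) := by
  obtain ⟨G₀, r₁, r₂, m, n, k, l, hG₀, hB, hdB⟩ := exists_first_col A hA 1
  rw [hdet, Matrix.det_fin_three] at hdB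
  simp at hdB
  have main : ∀ (G : M3) (r₁ r₂ m n k l : F), G.det ≠ 0 → A * G = G * !![1, r₁, r₂; 1, m, n; 0, k, l] →
      (m - r₁) * l - (n - r₂) * k = 1 → (k ≠ 0 ∨ n - r₂ ≠ 0 ∨ m - r₁ ≠ l) →
      ∃ (G : M3) (c₁ c₂ s₁ s₂ x : F), G.det ≠ 0 ∧
        A * G = G * (!![1, 0, 0; c₁, g, 0; c₂, g⁻¹, g⁻¹] * !![1, s₁, s₂; 0, g, x; 0, 0, g⁻¹]) := by
    intro G r₁ r₂ m n k l hG hB hS hns
    obtain ⟨v₁, v₂, hδ⟩ : ∃ v₁ v₂ : F,
        v₁ * (k * v₁ + l * v₂ - g * g * v₂) - v₂ * ((m - r₁) * v₁ + (n - r₂) * v₂ - g * g * v₁) ≠ 0 := by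
      by_cases hk : k ≠ 0
      · exact ⟨1, 0, by simpa using hk⟩
      by_cases hn : n - r₂ ≠ 0
      · exact ⟨0, 1, by simp; intro h; exact hn (by linear_combination -h)⟩
      push Not at hk hn
      refine ⟨1, 1, fun h => ?_⟩
      rcases hns with h' | h' | h'
      · exact h' hk
      · exact h' hn
      · exact h' (by linear_combination -h + hk - hn)
    set w₁ := (m - r₁) * v₁ + (n - r₂) * v₂ - g * g * v₁ with hw₁
    set w₂ := k * v₁ + l * v₂ - g * g * v₂ with hw₂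
    set δ := v₁ * w₂ - v₂ * w₁ with hδdef
    set u₁ := (m - r₁) * w₁ + (n - r₂) * w₂ with hu₁
    set u₂ := k * w₁ + l * w₂ with hu₂
    set X := (w₂ * u₁ - w₁ * u₂) / δ with hX
    refine ⟨G * !![1, 0, 0; 0, v₁, w₁; 0, v₂, w₂], w₂ / δ, -v₂ / δ, r₁ * v₁ + r₂ * v₂,
      r₁ * w₁ + r₂ * w₂, X / g, ?_, ?_⟩
    · rw [Matrix.det_mul]
      refine mul_ne_zero hG ?_
      rw [Matrix.det_fin_three]
      simp
      intro h
      exact hδ (by linear_combination h)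
    · rw [← mul_assoc A, hB, mul_assoc, mul_assoc]
      congr 1
      simp only [Matrix.mul_fin_three]
      simp
      refine ⟨?_, ?_⟩ <;> grind
  by_cases hns : k ≠ 0 ∨ n - r₂ ≠ 0 ∨ m - r₁ ≠ l
  · exact main G₀ r₁ r₂ m n k l hG₀ hB (by linear_combination hdB) hns
  push Not at hns
  obtain ⟨hk, hn, hm⟩ := hns
  refine main (G₀ * !![1, 0, 1; 0, 1, 0; 0, 0, 1]) (r₁ - k) (1 + r₂ - l) m (1 + n) k l ?_ ?_ ?_ ?_
  · rw [Matrix.det_mul, det_one_three (by ring), mul_one]; exact hG₀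
  · rw [← mul_assoc A, hB, mul_assoc, mul_assoc]
    congr 1
    simp only [Matrix.mul_fin_three]
    simp
  · subst hk
    linear_combination hdB
  · refine Or.inr (Or.inl fun h => ?_)
    have hl : l = 0 := by linear_combination h - hn
    subst hk hl
    simp at hdB

end Cfsg.Agent.Small.SLThreeGen
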