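import Cfsg.Agent.Lib.Small.SLnBlocks
import Cfsg.Agent.Lib.Char.CentralBlocks
import Cfsg.Agent.Lib.Lead.GLBasic

/-!
The blocks of `SL_n(q)` in the defining characteristic: one more than the order of the centre.
-/

set_option autoImplicit false
set_option linter.unusedSectionVars false

namespace Cfsg.Agent.Small.SLnSt

open Matrix Finset Cfsg Cfsg.Agent.Char Cfsg.Agent.Small.PSLn

variable {n : ℕ} {F : Type*} [Field F] [Fintype F]

noncomputable local instance fintypeSL : Fintype (Matrix.SpecialLinearGroup (Fin n) F) :=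
  Fintype.ofFinite _

theorem choose_two_pos (hn : 2 ≤ n) : 0 < n.choose 2 := Nat.choose_pos hn

/-- A regular element commuting with the unitriangular group is central. -/
theorem central_of_centralizes [NeZero n] (hn : 2 ≤ n) (p : ℕ) [Fact p.Prime] [CharP F p]
    {y : Matrix.SpecialLinearGroup (Fin n) F} (hreg : ¬ p ∣ orderOf y)
    (h : ∀ u ∈ UTg n F, y * u = u * y) :
    y ∈ Subgroup.center (Matrix.SpecialLinearGroup (Fin n) F) := by
  have hp : p.Prime := Fact.out
  have key : ∀ i j : Fin n, i < j → (∀ k, k ≠ i → y.1 k i = 0) ∧ y.1 i i = y.1 j j ∧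
      ∀ l, l ≠ j → y.1 j l = 0 := by
    intro i j hij
    have h1 : y.1 * Matrix.single i j (1 : F) = Matrix.single i j (1 : F) * y.1 := by
      have h2 := congrArg Subtype.val (h _ (tr_mem hij 1))
      change y.1 * (SpecialLinearGroup.transvection hij.ne (1 : F)).1 =
        (SpecialLinearGroup.transvection hij.ne (1 : F)).1 * y.1 at h2
      rwa [SpecialLinearGroup.transvection_coe, mul_add, add_mul, mul_one, one_mul,
        add_right_inj] at h2
    refine ⟨fun k hk => ?_, ?_, fun l hl => ?_⟩
    · have h2 := congrFun (congrFun h1 k) j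
      rwa [Matrix.mul_single_apply_same, Matrix.single_mul_apply_of_ne _ _ _ _ _ hk, mul_one] at h2
    · have h2 := congrFun (congrFun h1 i) j
      rwa [Matrix.mul_single_apply_same, Matrix.single_mul_apply_same, mul_one, one_mul] at h2
    · have h2 := congrFun (congrFun h1 i) l
      rw [Matrix.mul_single_apply_of_ne _ _ _ _ _ hl, Matrix.single_mul_apply_same, one_mul] at h2
      exact h2.symm
  set a : Fin n := ⟨0, by omega⟩
  set z : Fin n := ⟨n - 1, by omega⟩
  have haz : a < z := by rw [Fin.lt_def]; simp only [a, z]; omega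
  have hdiag : ∀ i, y.1 i i = y.1 a a := by
    intro i
    rcases Nat.eq_zero_or_pos i.val with h0 | h0
    · rw [show i = a from Fin.ext h0]
    · exact ((key a i (Fin.lt_def.2 h0)).2.1).symm
  have hoff : ∀ i j, i ≠ j → ¬ (i = a ∧ j = z) → y.1 i j = 0 := by
    intro i j hij hne
    by_cases hia : i = a
    · have hjz : j < z := by
        have h1 : j ≠ z := fun e => hne ⟨hia, e⟩
        have h2 : j.val ≠ n - 1 := fun e => h1 (Fin.ext e)
        rw [Fin.lt_def]
        simp only [z]
        omega
      exact (key j z hjz).1 i hij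
    · refine (key a i (Fin.lt_def.2 ?_)).2.2 j hij.symm
      rcases Nat.eq_zero_or_pos i.val with h0 | h0
      · exact absurd (Fin.ext h0) hia
      · exact h0
  set c := y.1 a a
  set N := y.1 - c • (1 : Matrix (Fin n) (Fin n) F) with hN
  have hN0 : ∀ i j, ¬ (i = a ∧ j = z) → N i j = 0 := by
    intro i j hne
    rw [hN, Matrix.sub_apply, Matrix.smul_apply, Matrix.one_apply]
    rcases eq_or_ne i j with rfl | hij
    · rw [if_pos rfl, hdiag i, smul_eq_mul, mul_one, sub_self]
    · rw [if_neg hij, hoff i j hij hne, smul_zero, sub_zero]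
  have hN2 : N ^ 2 = 0 := by
    ext i j
    rw [pow_two, Matrix.mul_apply, Matrix.zero_apply]
    refine Finset.sum_eq_zero fun k _ => ?_
    by_cases h1 : i = a ∧ k = z
    · rw [hN0 k j fun h2 => haz.ne (h2.1.symm.trans h1.2), mul_zero]
    · rw [hN0 i k h1, zero_mul]
  haveI : Nonempty (Fin n) := ⟨0⟩
  have hyp : (y ^ p).1 = (c ^ p) • (1 : Matrix (Fin n) (Fin n) F) := by
    rw [Matrix.SpecialLinearGroup.coe_pow,
      show y.1 = N + c • (1 : Matrix (Fin n) (Fin n) F) by rw [hN, sub_add_cancel],
      add_pow_char_of_commute p ((Commute.one_right N).smul_right c), smul_pow, one_pow,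
      ← Nat.sub_add_cancel hp.two_le, pow_add, hN2, mul_zero, zero_add]
  have hcp : y ^ p ∈ Subgroup.center (Matrix.SpecialLinearGroup (Fin n) F) :=
    Subgroup.mem_center_iff.2 fun g => Subtype.ext (by
      rw [Matrix.SpecialLinearGroup.coe_mul, Matrix.SpecialLinearGroup.coe_mul, hyp,
        Matrix.mul_smul, Matrix.smul_mul, Matrix.mul_one, Matrix.one_mul])
  obtain ⟨k, hk⟩ := exists_pow_eq_self_of_coprime ((hp.coprime_iff_not_dvd).2 hreg)
  rw [← hk]
  exact pow_mem hcp k

/-- The data for the count of blocks. -/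
theorem exists_data (hn : 2 ≤ n) (p : ℕ) [Fact p.Prime] [CharP F p] {M : Ideal AlgInt}
    (hM : IsPModular p M) : ∃ st : IrrCharacter (Matrix.SpecialLinearGroup (Fin n) F),
      (st : Matrix.SpecialLinearGroup (Fin n) F → ℂ) 1 = (Fintype.card F : ℂ) ^ n.choose 2 ∧
        CentralBlocks.Data p M st := by
  classical
  haveI : NeZero n := ⟨by omega⟩
  have hp : p.Prime := Fact.out
  obtain ⟨st, hst⟩ := exists_steinberg (n := n) (F := F) p
  have hd := steinberg_dexp p hst
  have hpos : 0 < (Nat.card (Matrix.SpecialLinearGroup (Fin n) F)).factorization p := by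
    by_contra h0
    have h1 := ppart_card (n := n) (F := F) p
    rw [Nat.eq_zero_of_not_pos h0, pow_zero] at h1
    exact (Nat.one_lt_pow (choose_two_pos hn).ne' Fintype.one_lt_card).ne h1
  refine ⟨st, hst, ⟨hd, fun χ hχ => eq_of_full p χ st hχ hd, fun z => ?_, hpos,
    fun B hB => defect_dichotomy p hM hB, fun C hC => ?_, not_dvd_center p⟩⟩
  · obtain ⟨k, ρ, hN, hv, hi, he⟩ := exists_module p st hd
    obtain ⟨v, hv0, hvB⟩ := exists_up_fixed hv hi
    obtain ⟨r, -, hr⟩ := Matrix.SpecialLinearGroup.mem_center_iff.1 z.2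
    have hzU : IsUp (z : Matrix.SpecialLinearGroup (Fin n) F) := fun i j h => by
      rw [← hr, Matrix.scalar_apply, Matrix.diagonal_apply_ne _ h.ne']
    have h1 : ρ (z : Matrix.SpecialLinearGroup (Fin n) F) = 1 := by
      refine LinearMap.ext fun x => ?_
      show ρ (z : Matrix.SpecialLinearGroup (Fin n) F) x = x
      have hx : x ∈ orbitSpan ρ v := by rw [orbitSpan_top hi hv0]; trivial
      refine Submodule.span_induction
        (p := fun x _ => ρ (z : Matrix.SpecialLinearGroup (Fin n) F) x = x) ?_ (map_zero _)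
        (fun a b _ _ ha hb => by rw [map_add, ha, hb]) (fun c a _ ha => by rw [map_smul, ha]) hx
      rintro _ ⟨g, rfl⟩
      show ρ _ (ρ g v) = ρ g v
      rw [← rho_mul, ← Subgroup.mem_center_iff.1 z.2 g, rho_mul, hvB _ hzU]
    have h2 : ρ.character (z : Matrix.SpecialLinearGroup (Fin n) F) = ρ.character 1 := by
      show LinearMap.trace ℂ _ (ρ (z : Matrix.SpecialLinearGroup (Fin n) F)) =
        LinearMap.trace ℂ _ (ρ 1)
      rw [h1, map_one ρ]
    refine Units.ext ?_
    rw [CentralBlocks.mu_val, Units.val_one, ← he, h2, he]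
    exact div_self (irr_one_ne_zero st.2)
  · obtain ⟨hreg, hfull⟩ := hC
    set y := C.out
    set Cy := Subgroup.centralizer ({y} : Set (Matrix.SpecialLinearGroup (Fin n) F))
    obtain ⟨S⟩ := (inferInstance : Nonempty (Sylow p ↥Cy))
    have hS : Nat.card ↥((S : Subgroup ↥Cy).map Cy.subtype) =
        p ^ (Nat.card (Matrix.SpecialLinearGroup (Fin n) F)).factorization p := by
      rw [Subgroup.card_map_of_injective Cy.subtype_injective, S.card_eq_multiplicity, hfull]
    have hU : Nat.card ↥(UTg n F) =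
        p ^ (Nat.card (Matrix.SpecialLinearGroup (Fin n) F)).factorization p := by
      rw [ppart_card, card_UTg]
    obtain ⟨h, hh⟩ := MulAction.exists_smul_eq (Matrix.SpecialLinearGroup (Fin n) F)
      (Sylow.ofCard (UTg n F) hU) (Sylow.ofCard _ hS)
    have hc : ∀ u ∈ UTg n F, h⁻¹ * y * h * u = u * (h⁻¹ * y * h) := by
      intro u hu
      have hm : h * u * h⁻¹ ∈
          (Sylow.ofCard _ hS : Subgroup (Matrix.SpecialLinearGroup (Fin n) F)) := by
        rw [← hh, Sylow.coe_subgroup_smul]
        exact Subgroup.mem_map.2 ⟨u, hu, rfl⟩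
      rw [Sylow.coe_ofCard] at hm
      have h2 := Subgroup.mem_centralizer_singleton_iff.1 (Subgroup.map_subtype_le _ hm)
      calc h⁻¹ * y * h * u = h⁻¹ * (y * (h * u * h⁻¹)) * h := by group
        _ = h⁻¹ * ((h * u * h⁻¹) * y) * h := by rw [h2]
        _ = _ := by group
    have hreg' : ¬ p ∣ orderOf (h⁻¹ * y * h) := by
      rw [show h⁻¹ * y * h = MulAut.conj h⁻¹ y by simp, MulEquiv.orderOf_eq]
      exact hreg
    have hz := central_of_centralizes hn p hreg' hc
    have he : y = h⁻¹ * y * h := by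
      have h3 := Subgroup.mem_center_iff.1 hz h
      calc y = h * (h⁻¹ * y * h) * h⁻¹ := by group
        _ = (h⁻¹ * y * h) * h * h⁻¹ := by rw [h3]
        _ = h⁻¹ * y * h := by group
    rw [he]
    exact hz

theorem card_blocks (hn : 2 ≤ n) (p : ℕ) [Fact p.Prime] [CharP F p] {M : Ideal AlgInt}
    (hM : IsPModular p M) :
    Nat.card {B : Set (IrrCharacter (Matrix.SpecialLinearGroup (Fin n) F)) // IsPBlock M B} =
      Nat.gcd n (Fintype.card F - 1) + 1 := by
  haveI : Nonempty (Fin n) := ⟨⟨0, by omega⟩⟩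
  obtain ⟨st, -, d⟩ := exists_data (F := F) hn p hM
  rw [d.card_blocks hM, Cfsg.Agent.Lead.GLBasic.card_center_SL]

end Cfsg.Agent.Small.SLnSt
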