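import Cfsg.Agent.Lib.Classical.UnitaryOrders

/-!
The involutions of `SU_3(q)`, `q` odd, as non-isotropic points, and their commuting graph.
-/

set_option autoImplicit false
set_option linter.style.haveILetI false
set_option linter.unusedSectionVars false

namespace Cfsg.Agent.Small.SU3Inv

open Matrix Module Cfsg.Agent.Classical Cfsg.Agent.Classical.UCount

variable {F : Type*} [Field F] [Fintype F] {σ : F ≃+* F} {q : ℕ} (hσ : IsUSigma q σ) (hq : Odd q)
include hσ hq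

/-- The form. -/
local notation "hh" => Cfsg.hermForm 3 F q

omit hq in
theorem herm : IsHermND σ (Cfsg.hermForm 3 F q) := by
  have hf := hσ.isUnitaryForm (n := 3)
  refine ⟨hf.add_left, hf.smul_left, fun x y => (hf.herm y x).symm, fun v hv => ?_⟩
  by_contra hne
  obtain ⟨⟨w, hw⟩, -⟩ := hf.nondegenerate v hne
  exact hw (by rw [hf.herm w v, hv w, map_zero])

theorem two_ne : (2 : F) ≠ 0 := by
  intro h
  obtain ⟨p, hchar⟩ := CharP.exists F
  obtain ⟨k, hp, hc⟩ := FiniteField.card F p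
  have h2 : p ∣ 2 := (CharP.cast_eq_zero_iff F p 2).1 (by simpa using h)
  have hp2 : p = 2 := (Nat.prime_dvd_prime_iff_eq hp Nat.prime_two).1 h2
  rw [hσ.card, hp2] at hc
  have h3 : Odd (q ^ 2) := hq.pow
  rw [hc] at h3
  exact (Nat.not_odd_iff_even.2 (Nat.even_pow.2 ⟨even_two, k.ne_zero⟩)) h3

omit hq in
theorem three_le : 2 ≤ q := hσ.two_le

theorem neg_one_ne : (-1 : F) ≠ 1 := fun h => two_ne hσ hq (by linear_combination -h)

omit hq in
theorem unitNum_one : unitNum q 1 = q + 1 := by simp [unitNum]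

omit hq in
theorem unitNum_two : unitNum q 2 = (q + 1) * (q * (q - 1)) := by
  have hq2 := hσ.two_le
  obtain ⟨k, rfl⟩ : ∃ k, q = k + 1 := ⟨q - 1, by omega⟩
  simp only [unitNum, Nat.add_sub_cancel]
  simp only [Nat.mul_zero, Nat.sub_zero, pow_zero, Nat.mul_one]
  exact Nat.sub_eq_of_eq_add (by ring)

omit hq in
theorem unitNum_three : unitNum q 3 = (q + 1) * (q ^ 2 * (q ^ 2 - q + 1)) := by
  have h2 := unitNum_two hσ
  have hq2 := hσ.two_le
  rw [show unitNum q 3 = (q + 1) * q ^ (2 * 2) - q * unitNum q 2 from rfl, h2]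
  obtain ⟨k, rfl⟩ : ∃ k, q = k + 1 := ⟨q - 1, by omega⟩
  rw [show (k + 1) ^ 2 - (k + 1) = (k + 1) * k by
    exact Nat.sub_eq_of_eq_add (by ring)]
  simp only [Nat.add_sub_cancel]
  exact Nat.sub_eq_of_eq_add (by ring)

omit hq in
theorem orth_symm {x y : Fin 3 → F} (h : hh x y = 0) : hh y x = 0 := by
  rw [← (herm hσ).symm, h, map_zero]

omit hq in
theorem scale_unit {w : Fin 3 → F} (hw : hh w w ≠ 0) : ∃ c : F, c ≠ 0 ∧ hh (c • w) (c • w) = 1 := by
  obtain ⟨x, hx0, hx⟩ := hσ.norm_surjective (inv_ne_zero hw) (by rw [map_inv₀, (herm hσ).fixed])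
  exact ⟨x, hx0, by rw [(herm hσ).smul_left, (herm hσ).smul_right, ← mul_assoc, hx, inv_mul_cancel₀ hw]⟩

/-- Unit vectors in the perpendicular space of a unit vector. -/
abbrev Perp (a : Fin 3 → F) := LinearMap.ker ((herm hσ).func a)

omit hq in
theorem finrank_perp {a : Fin 3 → F} (ha : hh a a ≠ 0) : finrank F (Perp hσ a) = 2 := by
  have h := (herm hσ).finrank_ker a ha
  have h3 : finrank F (Fin 3 → F) = 3 := Module.finrank_fin_fun F
  show finrank F (LinearMap.ker ((herm hσ).func a)) = 2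
  omega

omit hq in
theorem perp_herm {a : Fin 3 → F} (ha : hh a a ≠ 0) :
    IsHermND σ (fun x y : Perp hσ a => hh (x : Fin 3 → F) y) := (herm hσ).res_ker a ha

omit hq in
theorem card_perp_unit {a : Fin 3 → F} (ha : hh a a ≠ 0) :
    Nat.card {u : Fin 3 → F // hh u u = 1 ∧ hh u a = 0} = (q + 1) * (q * (q - 1)) := by
  rw [← unitNum_two hσ, ← card_norm hσ 2 (perp_herm hσ ha) (finrank_perp hσ ha) one_ne_zero (map_one σ)]
  exact Nat.card_congr
    { toFun := fun u => ⟨⟨u.1, u.2.2⟩, u.2.1⟩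
      invFun := fun u => ⟨u.1.1, u.2, u.1.2⟩
      left_inv := fun _ => rfl
      right_inv := fun _ => rfl }

omit hq in
theorem card_perp_two {a b : Fin 3 → F} (ha : hh a a ≠ 0) (hb : hh b b ≠ 0) (hab : hh b a = 0) :
    Nat.card {u : Fin 3 → F // hh u u = 1 ∧ hh u a = 0 ∧ hh u b = 0} = q + 1 := by
  have H := perp_herm hσ ha
  let b' : Perp hσ a := ⟨b, hab⟩
  have hd : finrank F (LinearMap.ker (H.func b')) = 1 := by
    have h := H.finrank_ker b' hb
    rw [finrank_perp hσ ha] at h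
    omega
  rw [← unitNum_one hσ, ← card_norm hσ 1 (H.res_ker b' hb) hd one_ne_zero (map_one σ)]
  exact Nat.card_congr
    { toFun := fun u => ⟨⟨⟨u.1, u.2.2.1⟩, u.2.2.2⟩, u.2.1⟩
      invFun := fun u => ⟨u.1.1.1, u.2, u.1.1.2, u.1.2⟩
      left_inv := fun _ => rfl
      right_inv := fun _ => rfl }

omit hq in
theorem exists_perp {a : Fin 3 → F} (ha : hh a a ≠ 0) : ∃ u, hh u u = 1 ∧ hh u a = 0 := by
  have h := card_perp_unit hσ ha
  have hq2 := hσ.two_le
  obtain ⟨⟨u, hu⟩⟩ : Nonempty {u : Fin 3 → F // hh u u = 1 ∧ hh u a = 0} := by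
    refine (Nat.card_pos_iff.1 ?_).1
    rw [h]
    exact Nat.mul_pos (by omega) (Nat.mul_pos (by omega) (by omega))
  exact ⟨u, hu⟩

omit hq in
theorem exists_perp_two {a b : Fin 3 → F} (ha : hh a a ≠ 0) (hb : hh b b ≠ 0) (hab : hh b a = 0) :
    ∃ u, hh u u = 1 ∧ hh u a = 0 ∧ hh u b = 0 := by
  obtain ⟨⟨u, hu⟩⟩ : Nonempty {u : Fin 3 → F // hh u u = 1 ∧ hh u a = 0 ∧ hh u b = 0} := by
    refine (Nat.card_pos_iff.1 ?_).1
    rw [card_perp_two hσ ha hb hab]
    omega
  exact ⟨u, hu⟩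

/-- The action of a special unitary element. -/
abbrev act (g : ↥(Cfsg.SU 3 F q)) (x : Fin 3 → F) : Fin 3 → F :=
  ((g : Matrix.SpecialLinearGroup (Fin 3) F) : Matrix (Fin 3) (Fin 3) F) *ᵥ x

omit hq in
theorem act_inj {g g' : ↥(Cfsg.SU 3 F q)} (h : ∀ x, act g x = act g' x) : g = g' :=
  Subtype.ext (Subtype.ext (Matrix.toLin'.injective (LinearMap.ext fun x => h x)))

omit hq in
theorem act_mul (g g' : ↥(Cfsg.SU 3 F q)) (x : Fin 3 → F) : act (g * g') x = act g (act g' x) := by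
  simp [act, Matrix.mulVec_mulVec]

omit hq in
theorem act_one (x : Fin 3 → F) : act (1 : ↥(Cfsg.SU 3 F q)) x = x := by simp [act]

omit hq in
theorem act_form (g : ↥(Cfsg.SU 3 F q)) (x y : Fin 3 → F) : hh (act g x) (act g y) = hh x y := g.2 x y

omit hq in
theorem mk_SU (M : Matrix (Fin 3) (Fin 3) F) (hd : M.det = 1) (hf : ∀ x y, hh (M *ᵥ x) (M *ᵥ y) = hh x y) :
    ∃ g : ↥(Cfsg.SU 3 F q), ∀ x, act g x = M *ᵥ x := ⟨⟨⟨M, hd⟩, hf⟩, fun _ => rfl⟩

omit hq in
theorem sum_left3 (u : Fin 3 → F) (f : Fin 3 → (Fin 3 → F)) (z : Fin 3 → F) :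
    hh (∑ j, u j • f j) z = ∑ j, u j * hh (f j) z := by
  rw [(herm hσ).sum_left]
  exact Finset.sum_congr rfl fun j _ => (herm hσ).smul_left _ _ _

omit hq in
theorem orthonormal_det (f : Fin 3 → (Fin 3 → F)) (hf : ∀ i j, hh (f i) (f j) = if i = j then 1 else 0) :
    ∃ M : Matrix (Fin 3) (Fin 3) F, (∀ x, M *ᵥ x = ∑ j, x j • f j) ∧ (∀ x y, hh (M *ᵥ x) (M *ᵥ y) = hh x y) ∧
      M.det * σ M.det = 1 := by
  obtain ⟨M, hM⟩ : ∃ M : Matrix (Fin 3) (Fin 3) F, M = Matrix.of fun i j => f j i := ⟨_, rfl⟩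
  have hcol : ∀ x, M *ᵥ x = ∑ j, x j • f j := fun x => by
    funext i; simp [hM, Matrix.mulVec, dotProduct, mul_comm]
  have hpres : ∀ x y, hh (M *ᵥ x) (M *ᵥ y) = hh x y := by
    intro x y
    rw [hcol, hcol, sum_left3 hσ, hσ.hermForm_eq]
    refine Finset.sum_congr rfl fun i _ => ?_
    rw [← (herm hσ).symm (∑ j, y j • f j), sum_left3 hσ, map_sum,
      Finset.sum_eq_single i (fun j _ hj => by rw [hf, if_neg hj, mul_zero, map_zero]) (by simp), hf, if_pos rfl,
      mul_one]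
  refine ⟨M, hcol, hpres, ?_⟩
  have hu : IsUnit M.det := by
    rw [← Matrix.isUnit_iff_isUnit_det, ← Matrix.mulVec_injective_iff_isUnit]
    intro x y hxy
    refine sub_eq_zero.1 ((herm hσ).nondeg _ fun w => ?_)
    rw [← hpres, Matrix.mulVec_sub, sub_eq_zero.2 hxy, (herm hσ).zero_left]
  exact det_norm hσ (g := Matrix.GeneralLinearGroup.mkOfDetNeZero M hu.ne_zero) (mem_GU_iff.mpr hpres)

omit hq in
theorem exists_move {v : Fin 3 → F} (hv : hh v v = 1) :
    ∃ g : ↥(Cfsg.SU 3 F q), act g (Pi.single 0 1) = v := by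
  have H := herm hσ
  obtain ⟨a, ha, hav⟩ := exists_perp hσ (a := v) (by rw [hv]; exact one_ne_zero)
  obtain ⟨b, hb, hbv, hba⟩ := exists_perp_two hσ (a := v) (b := a) (by rw [hv]; exact one_ne_zero)
    (by rw [ha]; exact one_ne_zero) hav
  have hon : ∀ c : F, c * σ c = 1 → ∀ i j, hh (![v, a, c • b] i) (![v, a, c • b] j) = if i = j then 1 else 0 := by
    intro c hc i j
    fin_cases i <;> fin_cases j <;>
      simp [H.smul_left, H.smul_right, hv, ha, hb, hav, hbv, hba, orth_symm hσ hav, orth_symm hσ hbv,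
        orth_symm hσ hba, hc]
  obtain ⟨M, hM, -, hdet⟩ := orthonormal_det hσ ![v, a, b] (fun i j => by simpa using hon 1 (by simp) i j)
  have hd0 : M.det ≠ 0 := left_ne_zero_of_mul_eq_one hdet
  obtain ⟨c, hc⟩ : ∃ c : F, c = M.det⁻¹ := ⟨_, rfl⟩
  obtain ⟨M', hM', hpres, -⟩ := orthonormal_det hσ ![v, a, c • b]
    (hon c (by rw [hc, map_inv₀, ← mul_inv, hdet, inv_one]))
  have hMM : M' = M * Matrix.diagonal ![1, 1, c] := by
    refine Matrix.toLin'.injective (LinearMap.ext fun x => ?_)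
    rw [Matrix.toLin'_apply, Matrix.toLin'_apply, ← Matrix.mulVec_mulVec, hM', hM]
    simp [Fin.sum_univ_three, Matrix.mulVec_diagonal, smul_smul, mul_comm]
  obtain ⟨g, hg⟩ := mk_SU hσ M' (by
    rw [hMM, Matrix.det_mul, Matrix.det_diagonal, Fin.prod_univ_three]
    simp [hc, hd0]) hpres
  exact ⟨g, by rw [hg, hM']; simp [Fin.sum_univ_three]⟩

omit hq in
theorem exists_refl {v : Fin 3 → F} (hv : hh v v = 1) :
    ∃ t : ↥(Cfsg.SU 3 F q), ∀ x, act t x = (2 * hh x v) • v - x := by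
  have H := herm hσ
  obtain ⟨g, hg⟩ := exists_move hσ hv
  obtain ⟨d, hd⟩ := mk_SU hσ (Matrix.diagonal ![(1 : F), -1, -1])
    (by rw [Matrix.det_diagonal, Fin.prod_univ_three]; simp) (fun x y => by
      simp [hσ.hermForm_eq, Fin.sum_univ_three, Matrix.mulVec_diagonal])
  have he : ∀ y : Fin 3 → F, hh y (Pi.single 0 1) = y 0 := fun y => by
    simp [hσ.hermForm_eq, Fin.sum_univ_three]
  refine ⟨g * d * g⁻¹, fun x => ?_⟩
  obtain ⟨y, rfl⟩ : ∃ y, x = act g y := ⟨act g⁻¹ x, by rw [← act_mul hσ, mul_inv_cancel, act_one hσ]⟩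
  rw [act_mul hσ, ← act_mul hσ g⁻¹ g, inv_mul_cancel, act_one hσ, act_mul hσ, hd]
  have h1 : hh (act g y) v = y 0 := by rw [← hg, act_form hσ, he]
  rw [h1, ← hg]
  show ((g : Matrix.SpecialLinearGroup (Fin 3) F) : Matrix (Fin 3) (Fin 3) F) *ᵥ _ = _
  rw [← Matrix.mulVec_smul, ← Matrix.mulVec_sub]
  congr 1
  funext i
  fin_cases i <;> simp [Matrix.mulVec_diagonal] <;> ring

/-- The involution of a unit vector. -/
noncomputable def refl (v : {v : Fin 3 → F // hh v v = 1}) : ↥(Cfsg.SU 3 F q) :=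
  (exists_refl hσ v.2).choose

omit hq in
theorem refl_apply (v : {v : Fin 3 → F // hh v v = 1}) (x : Fin 3 → F) :
    act (refl hσ v) x = (2 * hh x v.1) • v.1 - x := (exists_refl hσ v.2).choose_spec x

omit hq in
theorem refl_self (v : {v : Fin 3 → F // hh v v = 1}) : act (refl hσ v) v.1 = v.1 := by
  rw [refl_apply, v.2, mul_one, two_smul, add_sub_cancel_right]

omit hq in
theorem refl_sq (v : {v : Fin 3 → F // hh v v = 1}) : refl hσ v * refl hσ v = 1 := by
  refine act_inj hσ fun x => ?_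
  rw [act_mul hσ, act_one hσ, refl_apply, refl_apply, (herm hσ).sub_left, (herm hσ).smul_left, v.2]
  module

theorem refl_ne_one (v : {v : Fin 3 → F // hh v v = 1}) : refl hσ v ≠ 1 := by
  intro h
  obtain ⟨u, hu, huv⟩ := exists_perp hσ (a := v.1) (by rw [v.2]; exact one_ne_zero)
  have h1 := refl_apply hσ v u
  rw [h, act_one hσ, huv, mul_zero, zero_smul, zero_sub] at h1
  have h2 : (2 : F) • u = 0 := by rw [two_smul]; nth_rewrite 1 [h1]; exact neg_add_cancel u
  have h3 : u = 0 := (smul_eq_zero.1 h2).resolve_left (two_ne hσ hq)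
  rw [h3, (herm hσ).zero_left] at hu
  exact zero_ne_one hu

theorem refl_eq_iff (v w : {v : Fin 3 → F // hh v v = 1}) :
    refl hσ v = refl hσ w ↔ ∃ c : F, w.1 = c • v.1 := by
  constructor
  · intro h
    have h1 := refl_apply hσ v w.1
    rw [h, refl_self] at h1
    refine ⟨hh w.1 v.1, smul_right_injective (Fin 3 → F) (two_ne hσ hq) ?_⟩
    show (2 : F) • w.1 = (2 : F) • (hh w.1 v.1 • v.1)
    rw [smul_smul, two_smul, eq_sub_iff_add_eq.1 h1]
  · rintro ⟨c, hc⟩
    refine act_inj hσ fun x => ?_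
    have h1 : σ c * c = 1 := by
      have := w.2
      rw [hc, (herm hσ).smul_left, (herm hσ).smul_right, v.2, mul_one] at this
      rwa [mul_comm]
    rw [refl_apply, refl_apply, hc, (herm hσ).smul_right, smul_smul,
      show 2 * (σ c * hh x v.1) * c = 2 * hh x v.1 * (σ c * c) by ring, h1, mul_one]

theorem commute_iff (v w : {v : Fin 3 → F // hh v v = 1}) :
    Commute (refl hσ v) (refl hσ w) ↔ refl hσ v = refl hσ w ∨ hh w.1 v.1 = 0 := by
  constructor
  · intro h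
    by_cases h0 : hh w.1 v.1 = 0
    · exact Or.inr h0
    refine Or.inl ((refl_eq_iff hσ hq v w).2 ⟨hh w.1 v.1, ?_⟩)
    have h1 := congrArg (fun g => act g w.1) h.eq
    simp only [act_mul hσ, refl_self, refl_apply hσ v] at h1
    rw [refl_apply hσ w, (herm hσ).sub_left, (herm hσ).smul_left, w.2] at h1
    have h2 : (4 * hh w.1 v.1) • (hh v.1 w.1 • w.1 - v.1) = 0 := by
      rw [← sub_eq_zero] at h1
      linear_combination (norm := module) (-1 : F) • h1
    have h3 := (smul_eq_zero.1 h2).resolve_left (mul_ne_zero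
      (by rw [show (4 : F) = 2 * 2 by norm_num]; exact mul_ne_zero (two_ne hσ hq) (two_ne hσ hq)) h0)
    rw [sub_eq_zero] at h3
    have h4 : hh v.1 w.1 * hh w.1 v.1 = 1 := by
      have := congrArg (fun x => hh x v.1) h3
      simpa [(herm hσ).smul_left, v.2] using this
    calc w.1 = (hh w.1 v.1 * hh v.1 w.1) • w.1 := by rw [mul_comm, h4, one_smul]
      _ = hh w.1 v.1 • v.1 := by rw [mul_smul, h3]
  · rintro (h | h)
    · rw [h]
    · refine act_inj hσ fun x => ?_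
      rw [act_mul hσ, act_mul hσ, refl_apply, refl_apply, refl_apply, refl_apply, (herm hσ).sub_left,
        (herm hσ).sub_left, (herm hσ).smul_left, (herm hσ).smul_left, h, orth_symm hσ h]
      module

theorem exists_refl_eq (t : ↥(Cfsg.SU 3 F q)) (ht : t ≠ 1) (ht2 : t * t = 1) :
    ∃ v, refl hσ v = t := by
  classical
  have H := herm hσ
  let T : (Fin 3 → F) →ₗ[F] (Fin 3 → F) :=
    Matrix.toLin' ((t : Matrix.SpecialLinearGroup (Fin 3) F) : Matrix (Fin 3) (Fin 3) F)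
  have hTa : ∀ x, T x = act t x := fun x => Matrix.toLin'_apply _ _
  have hTT : ∀ x, T (T x) = x := fun x => by rw [hTa, hTa, ← act_mul hσ, ht2, act_one hσ]
  let A : Submodule F (Fin 3 → F) := LinearMap.ker (T - 1)
  let B : Submodule F (Fin 3 → F) := LinearMap.ker (T + 1)
  have hmA : ∀ x, x ∈ A ↔ T x = x := fun x => by simp [A, sub_eq_zero]
  have hmB : ∀ x, x ∈ B ↔ T x = -x := fun x => by simp [B, add_eq_zero_iff_eq_neg]
  have h2 := two_ne hσ hq
  have hc : IsCompl A B := by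
    refine ⟨Submodule.disjoint_def.2 fun x hx hx' => ?_, codisjoint_iff.2 (eq_top_iff.2 fun x _ => ?_)⟩
    · rw [hmA] at hx
      rw [hmB, hx] at hx'
      refine (smul_eq_zero.1 (?_ : (2 : F) • x = 0)).resolve_left h2
      rw [two_smul]; nth_rewrite 1 [hx']; exact neg_add_cancel x
    · refine Submodule.mem_sup.2 ⟨(2 : F)⁻¹ • (x + T x), ?_, (2 : F)⁻¹ • (x - T x), ?_, ?_⟩
      · rw [hmA, map_smul, map_add, hTT, add_comm]
      · rw [hmB, map_smul, map_sub, hTT, ← smul_neg, neg_sub]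
      · rw [← smul_add, show x + T x + (x - T x) = (2 : F) • x by rw [two_smul]; abel, inv_smul_smul₀ h2]
  have horth : ∀ a ∈ A, ∀ b ∈ B, hh a b = 0 := by
    intro a ha b hb
    have h := act_form hσ t a b
    rw [← hTa, ← hTa, (hmA a).1 ha, (hmB b).1 hb, ← neg_one_smul F b, H.smul_right, map_neg, map_one] at h
    refine (mul_eq_zero.1 (?_ : 2 * hh a b = 0)).resolve_left h2
    linear_combination -h
  have hdet : LinearMap.det T = 1 := by
    rw [LinearMap.det_toLin']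
    exact (t : Matrix.SpecialLinearGroup (Fin 3) F).2
  have hdet2 : LinearMap.det T = (-1) ^ finrank F B := by
    have e : T = (Submodule.prodEquivOfIsCompl A B hc).toLinearMap ∘ₗ
        (LinearMap.id.prodMap ((-1 : F) • LinearMap.id)) ∘ₗ
        (Submodule.prodEquivOfIsCompl A B hc).symm.toLinearMap := by
      refine LinearMap.ext fun x => ?_
      obtain ⟨⟨a, b⟩, rfl⟩ := (Submodule.prodEquivOfIsCompl A B hc).surjective x
      simp only [LinearMap.comp_apply, LinearEquiv.coe_coe, LinearEquiv.symm_apply_apply]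
      simp only [Submodule.coe_prodEquivOfIsCompl', LinearMap.prodMap_apply, LinearMap.id_apply, LinearMap.smul_apply,
        map_add, (hmA _).1 a.2, (hmB _).1 b.2, neg_one_smul, Submodule.coe_neg]
    rw [e, LinearMap.det_conj, LinearMap.det_prodMap, LinearMap.det_id, one_mul, LinearMap.det_smul,
      LinearMap.det_id, mul_one]
  have hsum := Submodule.finrank_add_eq_of_isCompl hc
  rw [Module.finrank_fin_fun] at hsum
  have hB0 : finrank F B ≠ 0 := by
    intro h0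
    refine ht (act_inj hσ fun x => ?_)
    rw [act_one hσ, ← hTa, ← hmA]
    have : A = ⊤ := Submodule.eq_top_of_finrank_eq (by rw [Module.finrank_fin_fun]; omega)
    rw [this]
    trivial
  have hA1 : finrank F A = 1 := by
    have h1 : (-1 : F) ^ finrank F B = 1 := hdet2.symm.trans hdet
    rcases (show finrank F B = 1 ∨ finrank F B = 2 ∨ finrank F B = 3 by omega) with h | h | h
    · rw [h, pow_one] at h1; exact absurd h1 (neg_one_ne hσ hq)
    · omega
    · rw [h, show (-1 : F) ^ 3 = -1 by norm_num] at h1; exact absurd h1 (neg_one_ne hσ hq)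
  obtain ⟨a, ha0, hspan⟩ : ∃ a : A, a ≠ 0 ∧ ∀ w : A, ∃ c : F, c • a = w := finrank_eq_one_iff'.1 hA1
  have hsplit : ∀ x : Fin 3 → F, ∃ c : F, ∃ b ∈ B, x = c • (a : Fin 3 → F) + b := by
    intro x
    obtain ⟨w, hw, b, hb, rfl⟩ := Submodule.mem_sup.1 (hc.sup_eq_top ▸ Submodule.mem_top : x ∈ A ⊔ B)
    obtain ⟨c, hc'⟩ := hspan ⟨w, hw⟩
    exact ⟨c, b, hb, by rw [← Submodule.coe_smul, hc']⟩
  have haa : hh (a : Fin 3 → F) (a : Fin 3 → F) ≠ 0 := by
    intro h0
    refine ha0 (Subtype.ext (H.nondeg _ fun x => ?_))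
    obtain ⟨c, b, hb, rfl⟩ := hsplit x
    rw [H.add_right, H.smul_right, h0, horth _ a.2 b hb, mul_zero, add_zero]
  obtain ⟨k, hk0, hk⟩ := scale_unit hσ haa
  refine ⟨⟨k • (a : Fin 3 → F), hk⟩, act_inj hσ fun x => ?_⟩
  obtain ⟨c, b, hb, rfl⟩ := hsplit x
  have hkk : σ k * k * hh (a : Fin 3 → F) a = 1 := by
    rw [H.smul_left, H.smul_right] at hk
    rw [← hk]; ring
  rw [refl_apply, ← hTa, map_add, map_smul, (hmA _).1 a.2, (hmB _).1 hb, H.add_left, H.smul_left,
    H.smul_right, H.smul_right, orth_symm hσ (horth _ a.2 b hb), mul_zero, add_zero, smul_smul,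
    show 2 * (c * (σ k * hh (a : Fin 3 → F) a)) * k = 2 * c * (σ k * k * hh (a : Fin 3 → F) a) by ring, hkk]
  module

/-- A set of involutions has `q + 1` unit vectors to each member. -/
theorem card_lift (P : ↥(Cfsg.SU 3 F q) → Prop) :
    Nat.card {v : {v : Fin 3 → F // hh v v = 1} // P (refl hσ v)} =
      Nat.card {x : ↥(Cfsg.SU 3 F q) // x ≠ 1 ∧ x * x = 1 ∧ P x} * (q + 1) := by
  classical
  haveI : Finite ↥(Cfsg.SU 3 F q) := inferInstance
  let π : {v : {v : Fin 3 → F // hh v v = 1} // P (refl hσ v)} →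
      {x : ↥(Cfsg.SU 3 F q) // x ≠ 1 ∧ x * x = 1 ∧ P x} :=
    fun v => ⟨refl hσ v.1, refl_ne_one hσ hq v.1, refl_sq hσ v.1, v.2⟩
  haveI := Fintype.ofFinite {x : ↥(Cfsg.SU 3 F q) // x ≠ 1 ∧ x * x = 1 ∧ P x}
  rw [← Nat.card_congr (Equiv.sigmaFiberEquiv π), Nat.card_sigma]
  rw [Finset.sum_congr rfl (g := fun _ => q + 1) fun x _ => ?_, Finset.sum_const, smul_eq_mul, Finset.card_univ,
    Nat.card_eq_fintype_card]
  obtain ⟨v, hv⟩ := exists_refl_eq hσ hq x.1 x.2.1 x.2.2.1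
  rw [← card_norm_fibre hσ one_ne_zero (map_one σ)]
  have hmem : ∀ c : {c : F // c * σ c = 1}, hh (c.1 • v.1) (c.1 • v.1) = 1 := fun c => by
    rw [(herm hσ).smul_left, (herm hσ).smul_right, v.2, mul_one, c.2]
  have heq : ∀ c : {c : F // c * σ c = 1}, refl hσ ⟨c.1 • v.1, hmem c⟩ = x.1 := fun c => by
    rw [← hv]; exact ((refl_eq_iff hσ hq v _).2 ⟨c.1, rfl⟩).symm
  refine (Nat.card_eq_of_bijective (fun c : {c : F // c * σ c = 1} =>
    (⟨⟨⟨c.1 • v.1, hmem c⟩, by rw [heq c]; exact x.2.2.2⟩, Subtype.ext (heq c)⟩ : {y // π y = x})) ⟨?_, ?_⟩).symm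
  · intro c c' h
    refine Subtype.ext (smul_left_injective F (?_ : v.1 ≠ 0) (congrArg (fun y : {y // π y = x} => y.1.1.1) h))
    intro h0
    have h1 := v.2
    rw [h0, (herm hσ).zero_left] at h1
    exact zero_ne_one h1
  · rintro ⟨⟨w, hw⟩, hwx⟩
    obtain ⟨c, hc⟩ := (refl_eq_iff hσ hq v w).1 (hv.trans (congrArg Subtype.val hwx).symm)
    refine ⟨⟨c, ?_⟩, Subtype.ext (Subtype.ext (Subtype.ext hc.symm))⟩
    have := w.2
    rwa [hc, (herm hσ).smul_left, (herm hσ).smul_right, v.2, mul_one] at this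

theorem card_involutions : Nat.card {x : ↥(Cfsg.SU 3 F q) // x ≠ 1 ∧ x * x = 1} = q ^ 2 * (q ^ 2 - q + 1) := by
  refine Nat.eq_of_mul_eq_mul_right (show 0 < q + 1 by omega) ?_
  rw [mul_comm (q ^ 2 * _), ← unitNum_three hσ,
    ← card_norm hσ 3 (herm hσ) (Module.finrank_fin_fun F) one_ne_zero (map_one σ),
    Nat.card_congr (Equiv.subtypeUnivEquiv (p := fun v : {v : Fin 3 → F // hh v v = 1} => True) fun _ => trivial).symm,
    card_lift hσ hq fun _ => True]
  congr 1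
  exact Nat.card_congr (Equiv.subtypeEquivRight fun x => by simp)

theorem conj_all (t x : ↥(Cfsg.SU 3 F q)) (ht : t ≠ 1) (ht2 : t * t = 1) (hx : x ≠ 1) (hx2 : x * x = 1) :
    ∃ g, g * t * g⁻¹ = x := by
  obtain ⟨v, rfl⟩ := exists_refl_eq hσ hq t ht ht2
  obtain ⟨w, rfl⟩ := exists_refl_eq hσ hq x hx hx2
  obtain ⟨g1, h1⟩ := exists_move hσ v.2
  obtain ⟨g2, h2⟩ := exists_move hσ w.2
  refine ⟨g2 * g1⁻¹, act_inj hσ fun y => ?_⟩
  obtain ⟨g, hg⟩ : ∃ g, g = g2 * g1⁻¹ := ⟨_, rfl⟩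
  have hgv : act g v.1 = w.1 := by rw [hg, act_mul hσ, ← h1, ← act_mul hσ g1⁻¹, inv_mul_cancel, act_one hσ, h2]
  rw [← hg]
  obtain ⟨z, rfl⟩ : ∃ z, y = act g z := ⟨act g⁻¹ y, by rw [← act_mul hσ, mul_inv_cancel, act_one hσ]⟩
  rw [act_mul hσ, ← act_mul hσ g⁻¹, inv_mul_cancel, act_one hσ, act_mul hσ, refl_apply, refl_apply]
  conv_rhs => rw [← hgv, act_form hσ]
  show ((g : Matrix.SpecialLinearGroup (Fin 3) F) : Matrix (Fin 3) (Fin 3) F) *ᵥ _ = _
  rw [Matrix.mulVec_sub, Matrix.mulVec_smul]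

theorem card_centralizer (t : ↥(Cfsg.SU 3 F q)) (ht : t ≠ 1) (ht2 : t * t = 1) :
    Nat.card ↥(Subgroup.centralizer ({t} : Set ↥(Cfsg.SU 3 F q))) = q * (q + 1) * (q ^ 2 - 1) := by
  classical
  have hSU := card_SU (q := q) hσ (n := 3) (by norm_num)
  rw [card_GU hσ 3, show Finset.range 3 = {0, 1, 2} by decide] at hSU
  simp [-Nat.card_eq_fintype_card] at hSU
  let G := ↥(Cfsg.SU 3 F q)
  have horb : MulAction.orbit (ConjAct G) t = {x : G | x ≠ 1 ∧ x * x = 1} := by
    ext x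
    rw [MulAction.mem_orbit_iff, Set.mem_ofPred_eq]
    constructor
    · rintro ⟨g, rfl⟩
      rw [ConjAct.smul_def]
      exact ⟨fun h => ht (by simpa using h), by rw [conj_mul, ht2, mul_one, mul_inv_cancel]⟩
    · rintro ⟨hx, hx2⟩
      obtain ⟨g, hg⟩ := conj_all hσ hq t x ht ht2 hx hx2
      exact ⟨ConjAct.toConjAct g, by rw [ConjAct.smul_def]; simpa using hg⟩
  have horb' := congrArg (fun s : Set G => Nat.card s) horb
  have hos := (MulAction.stabilizer (ConjAct G) t).index_mul_card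
  rw [MulAction.index_stabilizer, ← Nat.card_coe_set_eq] at hos
  rw [horb', show Nat.card ({x : G | x ≠ 1 ∧ x * x = 1} : Set G) = q ^ 2 * (q ^ 2 - q + 1) from
    card_involutions hσ hq] at hos
  have hstab : Nat.card (MulAction.stabilizer (ConjAct G) t) = Nat.card ↥(Subgroup.centralizer ({t} : Set G)) := by
    refine Nat.card_congr (ConjAct.ofConjAct.toEquiv.subtypeEquiv fun g => ?_)
    rw [MulAction.mem_stabilizer_iff, ConjAct.smul_def, Subgroup.mem_centralizer_singleton_iff, mul_inv_eq_iff_eq_mul]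
    rfl
  rw [hstab, show Nat.card (ConjAct G) = Nat.card G from rfl] at hos
  have hq2 := hσ.two_le
  refine Nat.eq_of_mul_eq_mul_left (show 0 < (q + 1) * (q ^ 2 * (q ^ 2 - q + 1)) from
    Nat.mul_pos (by omega) (Nat.mul_pos (by positivity) (by omega))) ?_
  rw [mul_assoc, hos, hSU]
  obtain ⟨k, rfl⟩ : ∃ k, q = k + 1 := ⟨q - 1, by omega⟩
  rw [show (k + 1) ^ 2 - (k + 1) = (k + 1) * k by exact Nat.sub_eq_of_eq_add (by ring),
    show (k + 1) ^ 2 - 1 = k * (k + 2) by exact Nat.sub_eq_of_eq_add (by ring)]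
  ring

theorem card_commuting (v : {v : Fin 3 → F // hh v v = 1}) :
    Nat.card {x : ↥(Cfsg.SU 3 F q) // x ≠ 1 ∧ x * x = 1 ∧ x ≠ refl hσ v ∧ Commute (refl hσ v) x} = q * (q - 1) := by
  refine Nat.eq_of_mul_eq_mul_right (show 0 < q + 1 by omega) ?_
  rw [← card_lift hσ hq fun x => x ≠ refl hσ v ∧ Commute (refl hσ v) x,
    mul_comm (q * (q - 1)), ← card_perp_unit hσ (a := v.1) (by rw [v.2]; exact one_ne_zero)]
  refine Nat.card_congr ((Equiv.subtypeEquivRight fun w => ?_).trans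
    (Equiv.subtypeSubtypeEquivSubtypeInter (fun u : Fin 3 → F => hh u u = 1) (fun u => hh u v.1 = 0)))
  rw [commute_iff hσ hq]
  constructor
  · rintro ⟨h1, h2 | h2⟩
    · exact absurd h2.symm h1
    · exact h2
  · intro h
    refine ⟨fun he => ?_, Or.inr h⟩
    obtain ⟨c, hc⟩ := (refl_eq_iff hσ hq v w).1 he.symm
    rw [hc, (herm hσ).smul_left, v.2, mul_one] at h
    have := w.2
    rw [hc, h, zero_smul, (herm hσ).zero_left] at this
    exact zero_ne_one this

theorem card_third (v w : {v : Fin 3 → F // hh v v = 1}) (hne : refl hσ w ≠ refl hσ v) (hc : Commute (refl hσ v) (refl hσ w)) :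
    Nat.card {y : ↥(Cfsg.SU 3 F q) //
      y ≠ 1 ∧ y * y = 1 ∧ y ≠ refl hσ v ∧ y ≠ refl hσ w ∧ Commute (refl hσ v) y ∧ Commute (refl hσ w) y} = 1 := by
  have hwv : hh w.1 v.1 = 0 := ((commute_iff hσ hq v w).1 hc).resolve_left fun h => hne h.symm
  refine Nat.eq_of_mul_eq_mul_right (show 0 < q + 1 by omega) ?_
  rw [← card_lift hσ hq fun y => y ≠ refl hσ v ∧ y ≠ refl hσ w ∧ Commute (refl hσ v) y ∧ Commute (refl hσ w) y,
    one_mul, ← card_perp_two hσ (a := v.1) (b := w.1) (by rw [v.2]; exact one_ne_zero)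
      (by rw [w.2]; exact one_ne_zero) hwv]
  refine Nat.card_congr ((Equiv.subtypeEquivRight fun u => ?_).trans
    (Equiv.subtypeSubtypeEquivSubtypeInter (fun u : Fin 3 → F => hh u u = 1)
      (fun u => hh u v.1 = 0 ∧ hh u w.1 = 0)))
  rw [commute_iff hσ hq, commute_iff hσ hq]
  constructor
  · rintro ⟨h1, h2, h3, h4⟩
    exact ⟨h3.resolve_left fun h => h1 h.symm, h4.resolve_left fun h => h2 h.symm⟩
  · rintro ⟨h1, h2⟩
    refine ⟨fun he => ?_, fun he => ?_, Or.inr h1, Or.inr h2⟩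
    · obtain ⟨c, hc⟩ := (refl_eq_iff hσ hq v u).1 he.symm
      rw [hc, (herm hσ).smul_left, v.2, mul_one] at h1
      have := u.2
      rw [hc, h1, zero_smul, (herm hσ).zero_left] at this
      exact zero_ne_one this
    · obtain ⟨c, hc⟩ := (refl_eq_iff hσ hq w u).1 he.symm
      rw [hc, (herm hσ).smul_left, w.2, mul_one] at h2
      have := u.2
      rw [hc, h2, zero_smul, (herm hσ).zero_left] at this
      exact zero_ne_one this

/-- No common perpendicular unit vector. -/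
theorem far_iff (v w : {v : Fin 3 → F // hh v v = 1}) :
    (¬ Commute (refl hσ v) (refl hσ w) ∧
      ∀ y : ↥(Cfsg.SU 3 F q), y ≠ 1 → y * y = 1 → ¬ (Commute (refl hσ v) y ∧ Commute y (refl hσ w))) ↔
    hh w.1 v.1 * σ (hh w.1 v.1) = 1 ∧ w.1 ≠ hh w.1 v.1 • v.1 := by
  have H := herm hσ
  have hz0 : hh (w.1 - hh w.1 v.1 • v.1) v.1 = 0 := by rw [H.sub_left, H.smul_left, v.2, mul_one, sub_self]
  have hzz : hh (w.1 - hh w.1 v.1 • v.1) (w.1 - hh w.1 v.1 • v.1) = 1 - hh w.1 v.1 * σ (hh w.1 v.1) := by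
    rw [H.sub_left, H.sub_right, H.smul_left, H.sub_right, H.smul_right, H.smul_right, w.2, v.2, ← H.symm w.1 v.1]
    ring
  constructor
  · rintro ⟨h1, h2⟩
    have hne : w.1 ≠ hh w.1 v.1 • v.1 := fun h => h1 ((commute_iff hσ hq v w).2
      (Or.inl ((refl_eq_iff hσ hq v w).2 ⟨_, h⟩)))
    refine ⟨?_, hne⟩
    by_contra hN
    obtain ⟨u, hu, huv, huz⟩ := exists_perp_two hσ (a := v.1) (b := w.1 - hh w.1 v.1 • v.1)
      (by rw [v.2]; exact one_ne_zero) (by rw [hzz]; exact sub_ne_zero.2 fun h => hN h.symm) hz0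
    have huw : hh u w.1 = 0 := by
      rw [H.sub_right, H.smul_right, huv, mul_zero, sub_zero] at huz
      exact huz
    exact h2 (refl hσ ⟨u, hu⟩) (refl_ne_one hσ hq _) (refl_sq hσ _)
      ⟨(commute_iff hσ hq v ⟨u, hu⟩).2 (Or.inr huv),
       (commute_iff hσ hq ⟨u, hu⟩ w).2 (Or.inr (orth_symm hσ huw))⟩
  · rintro ⟨hN, hne⟩
    have hnc : ¬ Commute (refl hσ v) (refl hσ w) := by
      intro h
      rcases (commute_iff hσ hq v w).1 h with h' | h'
      · obtain ⟨c, hc⟩ := (refl_eq_iff hσ hq v w).1 h'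
        exact hne (by rw [hc, H.smul_left, v.2, mul_one])
      · rw [h', zero_mul] at hN
        exact zero_ne_one hN
    refine ⟨hnc, ?_⟩
    rintro y hy hy2 ⟨hvy, hyw⟩
    obtain ⟨u, rfl⟩ := exists_refl_eq hσ hq y hy hy2
    rcases (commute_iff hσ hq v u).1 hvy with h | huv
    · exact hnc (h ▸ hyw)
    rcases (commute_iff hσ hq u w).1 hyw with h | hwu
    · exact hnc (h ▸ hvy)
    obtain ⟨b, hb⟩ : ∃ b, b = w.1 - hh w.1 v.1 • v.1 := ⟨_, rfl⟩
    have hb0 : hh b v.1 = 0 := hb ▸ hz0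
    have hbu : hh b u.1 = 0 := by rw [hb, H.sub_left, H.smul_left, hwu, orth_symm hσ huv, mul_zero, sub_zero]
    have hbb : hh b b = 0 := by rw [hb, hzz, hN, sub_self]
    obtain ⟨e, he, hev, heu⟩ := exists_perp_two hσ (a := v.1) (b := u.1) (by rw [v.2]; exact one_ne_zero)
      (by rw [u.2]; exact one_ne_zero) huv
    -- the vector `b` lies on the line of `e`, which is not isotropic
    have hbe : b = hh b e • e := by
      refine sub_eq_zero.1 (H.nondeg _ fun x => ?_)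
      obtain ⟨r, hr⟩ : ∃ r, r = b - hh b e • e := ⟨_, rfl⟩
      rw [← hr]
      have r1 : hh r v.1 = 0 := by rw [hr, H.sub_left, H.smul_left, hb0, hev, mul_zero, sub_zero]
      have r2 : hh r u.1 = 0 := by rw [hr, H.sub_left, H.smul_left, hbu, heu, mul_zero, sub_zero]
      have r3 : hh r e = 0 := by rw [hr, H.sub_left, H.smul_left, he, mul_one, sub_self]
      obtain ⟨M, hM, hpres, hdet⟩ := orthonormal_det hσ ![v.1, u.1, e] (fun i j => by
        fin_cases i <;> fin_cases j <;>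
          simp [v.2, u.2, he, huv, hev, heu, orth_symm hσ huv, orth_symm hσ hev, orth_symm hσ heu])
      have hu' : IsUnit M := (Matrix.isUnit_iff_isUnit_det M).2 (IsUnit.of_mul_eq_one _ hdet)
      obtain ⟨y, hy⟩ := Matrix.mulVec_surjective_iff_isUnit.2 hu' x
      rw [← hy, hM, Fin.sum_univ_three]
      simp [H.add_right, H.smul_right, r1, r2, r3]
    rw [hbe, H.smul_left, H.smul_right, he, mul_one] at hbb
    rcases mul_eq_zero.1 hbb with h | h
    · rw [h, zero_smul] at hbe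
      exact hne (sub_eq_zero.1 (hb ▸ hbe))
    · rw [map_eq_zero] at h
      rw [h, zero_smul] at hbe
      exact hne (sub_eq_zero.1 (hb ▸ hbe))

theorem card_far (v : {v : Fin 3 → F // hh v v = 1}) :
    Nat.card {x : ↥(Cfsg.SU 3 F q) // x ≠ 1 ∧ x * x = 1 ∧ ¬ Commute (refl hσ v) x ∧
      ∀ y : ↥(Cfsg.SU 3 F q), y ≠ 1 → y * y = 1 → ¬ (Commute (refl hσ v) y ∧ Commute y x)} =
      (q + 1) * (q ^ 2 - 1) := by
  classical
  have H := herm hσ
  have hq2 := hσ.two_le
  refine Nat.eq_of_mul_eq_mul_right (show 0 < q + 1 by omega) ?_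
  rw [← card_lift hσ hq fun x => ¬ Commute (refl hσ v) x ∧
    ∀ y : ↥(Cfsg.SU 3 F q), y ≠ 1 → y * y = 1 → ¬ (Commute (refl hσ v) y ∧ Commute y x),
    Nat.card_congr (Equiv.subtypeEquivRight fun w => far_iff hσ hq v w)]
  have hv0 : hh v.1 v.1 ≠ 0 := by rw [v.2]; exact one_ne_zero
  have hvz : ∀ z, hh z v.1 = 0 → hh v.1 z = 0 := fun z hz => orth_symm hσ hz
  let e : {w : {w : Fin 3 → F // hh w w = 1} //
        hh w.1 v.1 * σ (hh w.1 v.1) = 1 ∧ w.1 ≠ hh w.1 v.1 • v.1} ≃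
      {a : F // a * σ a = 1} × {z : Perp hσ v.1 // hh (z : Fin 3 → F) z = 0 ∧ z ≠ 0} :=
    { toFun := fun w => (⟨hh w.1.1 v.1, w.2.1⟩,
        ⟨⟨w.1.1 - hh w.1.1 v.1 • v.1, by
          rw [LinearMap.mem_ker, IsHermND.func_apply, H.sub_left, H.smul_left, v.2, mul_one, sub_self]⟩, by
          refine ⟨?_, fun h => w.2.2 (sub_eq_zero.1 (congrArg Subtype.val h))⟩
          show hh (w.1.1 - hh w.1.1 v.1 • v.1) (w.1.1 - hh w.1.1 v.1 • v.1) = 0
          have h2 := w.2.1
          rw [H.sub_left, H.sub_right, H.smul_left, H.sub_right, H.smul_right, H.smul_right, w.1.2, v.2,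
            ← H.symm w.1.1 v.1]
          linear_combination -h2⟩)
      invFun := fun p => ⟨⟨p.1.1 • v.1 + (p.2.1 : Fin 3 → F), by
          rw [H.apply_self_split v.1, p.1.2, v.2, one_mul, p.2.2.1, add_zero]⟩, by
          have hz : hh (p.2.1 : Fin 3 → F) v.1 = 0 := p.2.1.2
          have hh1 : hh (p.1.1 • v.1 + (p.2.1 : Fin 3 → F)) v.1 = p.1.1 := by
            rw [H.add_left, H.smul_left, v.2, mul_one, hz, add_zero]
          refine ⟨by rw [hh1]; exact p.1.2, fun h => p.2.2.2 (Subtype.ext ?_)⟩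
          rw [hh1] at h
          exact add_eq_left.1 h⟩
      left_inv := fun w => Subtype.ext (Subtype.ext (by simp))
      right_inv := fun p => by
        have hz : hh (p.2.1 : Fin 3 → F) v.1 = 0 := p.2.1.2
        have hh1 : hh (p.1.1 • v.1 + (p.2.1 : Fin 3 → F)) v.1 = p.1.1 := by
          rw [H.add_left, H.smul_left, v.2, mul_one, hz, add_zero]
        refine Prod.ext (Subtype.ext hh1) (Subtype.ext (Subtype.ext ?_))
        simp [hh1] }
  rw [Nat.card_congr e, Nat.card_prod, card_norm_fibre hσ one_ne_zero (map_one σ)]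
  -- the isotropic vectors of the perpendicular plane
  haveI := Fintype.ofFinite (Perp hσ v.1)
  let Q : Perp hσ v.1 → F := fun z => hh (z : Fin 3 → F) z
  have hS : (Finset.univ.filter fun t : F => σ t = t ∧ t ≠ 0).card = q - 1 := by
    rw [← card_fixed_units hσ, Nat.card_eq_fintype_card, Fintype.card_subtype]
  have hfib : ∀ t ∈ Finset.univ.filter (fun t : F => σ t = t ∧ t ≠ 0),
      (Finset.univ.filter fun z : Perp hσ v.1 => Q z = t).card = (q + 1) * (q * (q - 1)) := by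
    intro t ht
    obtain ⟨-, ht1, ht2⟩ := Finset.mem_filter.1 ht
    rw [← Fintype.card_subtype, ← Nat.card_eq_fintype_card, ← unitNum_two hσ]
    exact card_norm hσ 2 (perp_herm hσ hv0) (finrank_perp hσ hv0) ht2 ht1
  have htot := Finset.card_eq_sum_card_fiberwise (f := Q)
    (t := insert 0 (Finset.univ.filter fun t : F => σ t = t ∧ t ≠ 0)) (s := Finset.univ) (fun z _ => by
      rw [Finset.coe_insert, Set.mem_insert_iff, Finset.mem_coe, Finset.mem_filter]
      exact or_iff_not_imp_left.mpr fun h0 => ⟨Finset.mem_univ _, H.fixed _, h0⟩)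
  rw [Finset.card_univ, Finset.sum_insert (by simp), Finset.sum_congr rfl hfib, Finset.sum_const, hS, smul_eq_mul,
    ← Nat.card_eq_fintype_card, Module.natCard_eq_pow_finrank (K := F), Nat.card_eq_fintype_card, hσ.card,
    finrank_perp hσ hv0] at htot
  have hiso : Nat.card {z : Perp hσ v.1 // hh (z : Fin 3 → F) z = 0 ∧ z ≠ 0} =
      (Finset.univ.filter fun z : Perp hσ v.1 => Q z = 0).card - 1 := by
    have h0 : (0 : Perp hσ v.1) ∈ Finset.univ.filter fun z : Perp hσ v.1 => Q z = 0 :=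
      Finset.mem_filter.2 ⟨Finset.mem_univ _, H.zero_left _⟩
    rw [← Finset.card_erase_of_mem h0, Nat.card_eq_fintype_card, Fintype.card_subtype]
    congr 1
    ext z
    simp only [Finset.mem_filter, Finset.mem_univ, true_and, Finset.mem_erase, Q]
    tauto
  rw [hiso, mul_assoc ((q + 1) : ℕ)]
  congr 1
  obtain ⟨k, rfl⟩ : ∃ k, q = k + 1 := ⟨q - 1, by omega⟩
  simp only [Nat.add_sub_cancel] at htot
  rw [show (k + 1) ^ 2 - 1 = k * (k + 2) by exact Nat.sub_eq_of_eq_add (by ring)]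
  generalize (Finset.univ.filter fun z : Perp hσ v.1 => Q z = 0).card = i at htot ⊢
  have hi : i = k * (k + 2) * (k + 1 + 1) + 1 := by nlinarith
  rw [hi]
  simp only [Nat.add_sub_cancel]

theorem card_near (v : {v : Fin 3 → F // hh v v = 1}) :
    Nat.card {x : ↥(Cfsg.SU 3 F q) // x ≠ 1 ∧ x * x = 1 ∧ ¬ Commute (refl hσ v) x ∧
      ∃ y : ↥(Cfsg.SU 3 F q), y ≠ 1 ∧ y * y = 1 ∧ Commute (refl hσ v) y ∧ Commute y x} =
      q * (q - 2) * (q ^ 2 - 1) := by
  classical
  haveI := Fintype.ofFinite ↥(Cfsg.SU 3 F q)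
  have h1 := card_commuting hσ hq v
  have h2 := card_far hσ hq v
  have h3 := card_involutions hσ hq
  simp only [Nat.card_eq_fintype_card, Fintype.card_subtype] at h1 h2 h3 ⊢
  have hA : (Finset.univ.filter fun x : ↥(Cfsg.SU 3 F q) => x ≠ 1 ∧ x * x = 1 ∧ Commute (refl hσ v) x) =
      insert (refl hσ v) (Finset.univ.filter fun x : ↥(Cfsg.SU 3 F q) =>
        x ≠ 1 ∧ x * x = 1 ∧ x ≠ refl hσ v ∧ Commute (refl hσ v) x) := by
    ext x
    simp only [Finset.mem_filter, Finset.mem_univ, true_and, Finset.mem_insert]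
    by_cases hx : x = refl hσ v
    · subst hx
      simp [refl_ne_one hσ hq v, refl_sq hσ v]
    · simp [hx]
  have hsplit := Finset.card_filter_add_card_filter_not
    (s := Finset.univ.filter fun x : ↥(Cfsg.SU 3 F q) => x ≠ 1 ∧ x * x = 1) (fun x => Commute (refl hσ v) x)
  simp only [Finset.filter_filter, and_assoc] at hsplit
  rw [hA, Finset.card_insert_of_notMem (by simp), h1, h3] at hsplit
  have hsplit2 := Finset.card_filter_add_card_filter_not
    (s := Finset.univ.filter fun x : ↥(Cfsg.SU 3 F q) => x ≠ 1 ∧ x * x = 1 ∧ ¬ Commute (refl hσ v) x)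
    (fun x => ∃ y : ↥(Cfsg.SU 3 F q), y ≠ 1 ∧ y * y = 1 ∧ Commute (refl hσ v) y ∧ Commute y x)
  simp only [Finset.filter_filter, and_assoc, not_exists, not_and] at hsplit2
  simp only [not_and] at h2
  rw [h2] at hsplit2
  have hq2 := hσ.two_le
  obtain ⟨k, rfl⟩ : ∃ k, q = k + 2 := ⟨q - 2, by omega⟩
  rw [show (k + 2) ^ 2 - 1 = (k + 1) * (k + 3) by exact Nat.sub_eq_of_eq_add (by ring)] at hsplit2 ⊢
  rw [show (k + 2) ^ 2 - (k + 2) = (k + 2) * (k + 1) by exact Nat.sub_eq_of_eq_add (by ring)] at hsplit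
  simp only [Nat.add_sub_cancel, show k + 2 - 1 = k + 1 by omega] at hsplit hsplit2 ⊢
  nlinarith

theorem path (v w : {v : Fin 3 → F // hh v v = 1}) :
    ∃ y z : ↥(Cfsg.SU 3 F q), y ≠ 1 ∧ y * y = 1 ∧ z ≠ 1 ∧ z * z = 1 ∧
      Commute (refl hσ v) y ∧ Commute y z ∧ Commute z (refl hσ w) := by
  have H := herm hσ
  by_cases hc : Commute (refl hσ v) (refl hσ w)
  · exact ⟨refl hσ w, refl hσ w, refl_ne_one hσ hq w, refl_sq hσ w, refl_ne_one hσ hq w, refl_sq hσ w, hc,
      Commute.refl _, Commute.refl _⟩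
  have hne : refl hσ v ≠ refl hσ w := fun h => hc (h ▸ Commute.refl _)
  have hwv : hh w.1 v.1 ≠ 0 := fun h => hc ((commute_iff hσ hq v w).2 (Or.inr h))
  obtain ⟨a, ha⟩ : ∃ a, a = hh w.1 v.1 := ⟨_, rfl⟩
  obtain ⟨z, hz⟩ : ∃ z, z = w.1 - a • v.1 := ⟨_, rfl⟩
  have hzv : hh z v.1 = 0 := by rw [hz, H.sub_left, H.smul_left, v.2, mul_one, ha, sub_self]
  have hzz : hh z z = 1 - a * σ a := by
    rw [hz, H.sub_left, H.sub_right, H.smul_left, H.sub_right, H.smul_right, H.smul_right, w.2, v.2,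
      ← H.symm w.1 v.1, ← ha]
    ring
  obtain ⟨u, hu, huv, hN⟩ : ∃ u, hh u u = 1 ∧ hh u v.1 = 0 ∧ hh w.1 u * σ (hh w.1 u) ≠ 1 := by
    have hwu : ∀ u, hh u v.1 = 0 → hh w.1 u = hh z u := fun u hu => by
      rw [hz, H.sub_left, H.smul_left, orth_symm hσ hu, mul_zero, sub_zero]
    by_cases hz0 : hh z z = 0
    · obtain ⟨u1, h1, h1v⟩ := exists_perp hσ (a := v.1) (by rw [v.2]; exact one_ne_zero)
      obtain ⟨u2, h2, h2v, h21⟩ := exists_perp_two hσ (a := v.1) (b := u1) (by rw [v.2]; exact one_ne_zero)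
        (by rw [h1]; exact one_ne_zero) h1v
      by_contra hcon
      push Not at hcon
      have e1 := hcon u1 h1 h1v
      have e2 := hcon u2 h2 h2v
      rw [hwu _ h1v] at e1
      rw [hwu _ h2v] at e2
      have hdec : z = hh z u1 • u1 + hh z u2 • u2 := by
        refine sub_eq_zero.1 (H.nondeg _ fun x => ?_)
        obtain ⟨r, hr⟩ : ∃ r, r = z - (hh z u1 • u1 + hh z u2 • u2) := ⟨_, rfl⟩
        rw [← hr]
        have h12 := orth_symm hσ h21
        have r0 : hh r v.1 = 0 := by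
          rw [hr, H.sub_left, H.add_left, H.smul_left, H.smul_left, hzv, h1v, h2v]; simp
        have r1 : hh r u1 = 0 := by rw [hr, H.sub_left, H.add_left, H.smul_left, H.smul_left, h1, h21]; simp
        have r2 : hh r u2 = 0 := by rw [hr, H.sub_left, H.add_left, H.smul_left, H.smul_left, h2, h12]; simp
        obtain ⟨M, hM, hpres, hdet⟩ := orthonormal_det hσ ![v.1, u1, u2] (fun i j => by
          fin_cases i <;> fin_cases j <;>
            simp [v.2, h1, h2, h1v, h2v, h21, h12, orth_symm hσ h1v, orth_symm hσ h2v])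
        have hu' : IsUnit M := (Matrix.isUnit_iff_isUnit_det M).2 (IsUnit.of_mul_eq_one _ hdet)
        obtain ⟨y, hy⟩ := Matrix.mulVec_surjective_iff_isUnit.2 hu' x
        rw [← hy, hM, Fin.sum_univ_three]
        simp [H.add_right, H.smul_right, r0, r1, r2]
      refine two_ne hσ hq (?_ : (2 : F) = 0)
      rw [hdec, H.add_left, H.add_right, H.add_right] at hz0
      simp only [H.smul_left, H.smul_right, h1, h2, h21, orth_symm hσ h21, mul_one, mul_zero, add_zero, zero_add] at hz0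
      linear_combination hz0 - e1 - e2
    · obtain ⟨c, hc0, hcu⟩ := scale_unit hσ hz0
      refine ⟨c • z, hcu, by rw [H.smul_left, hzv, mul_zero], fun h => hwv ?_⟩
      rw [hwu _ (by rw [H.smul_left, hzv, mul_zero])] at h
      have h1 : hh z z = 1 := by
        rw [H.smul_right, map_mul, hσ.involutive, H.fixed] at h
        rw [H.smul_left, H.smul_right] at hcu
        linear_combination h - hh z z * hcu
      rw [hzz] at h1
      have h2 : a * σ a = 0 := by linear_combination -h1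
      rcases mul_eq_zero.1 h2 with h3 | h3
      · rw [← ha]; exact h3
      · rw [← ha]; exact (map_eq_zero σ).1 h3
  have hne' : refl hσ ⟨u, hu⟩ ≠ refl hσ w := by
    intro h
    obtain ⟨c, hc'⟩ := (refl_eq_iff hσ hq _ w).1 h
    exact hwv (by rw [hc', H.smul_left, huv, mul_zero])
  by_cases hcw : Commute (refl hσ ⟨u, hu⟩) (refl hσ w)
  · exact ⟨refl hσ ⟨u, hu⟩, refl hσ w, refl_ne_one hσ hq _, refl_sq hσ _, refl_ne_one hσ hq w, refl_sq hσ w,
      (commute_iff hσ hq v _).2 (Or.inr huv), hcw, Commute.refl _⟩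
  have hfar := (not_congr (far_iff hσ hq ⟨u, hu⟩ w)).2 (fun h => hN h.1)
  rw [not_and] at hfar
  have := hfar hcw
  push Not at this
  obtain ⟨y, hy, hy2, hy3, hy4⟩ := this
  exact ⟨refl hσ ⟨u, hu⟩, y, refl_ne_one hσ hq _, refl_sq hσ _, hy, hy2,
    (commute_iff hσ hq v _).2 (Or.inr huv), hy3, hy4⟩

end Cfsg.Agent.Small.SU3Inv
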