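import Mathlib

/-!
The abstract form of Shintani descent.
-/

set_option autoImplicit false

namespace Cfsg.Agent.Small.Shintani

variable {X : Type*} [Group X] (σ : MulAut X)

theorem mem_fix {τ : MulAut X} {x : X} :
    x ∈ (MulEquiv.toMonoidHom τ).eqLocus (MonoidHom.id X) ↔ τ x = x := Iff.rfl

theorem pow_succ_apply (n : ℕ) (x : X) : (σ ^ (n + 1)) x = σ ((σ ^ n) x) := by
  rw [pow_succ']; rfl

theorem pow_succ_apply' (n : ℕ) (x : X) : (σ ^ (n + 1)) x = (σ ^ n) (σ x) := by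
  rw [pow_succ]; rfl

theorem norm_eq {g a : X} (ha : g = a * (σ a)⁻¹) (d : ℕ) :
    ((List.range d).map (fun i => (σ ^ i) g)).prod = a * ((σ ^ d) a)⁻¹ := by
  induction d with
  | zero => simp
  | succ n ih =>
    rw [List.range_succ, List.map_append, List.prod_append, ih]
    simp only [List.map_cons, List.map_nil, List.prod_cons, List.prod_nil, mul_one]
    rw [ha, map_mul, map_inv, ← pow_succ_apply']
    group

theorem sigma_x {g a : X} {e : ℕ} (hg : (σ ^ e) g = g) (ha : g = a * (σ a)⁻¹) :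
    σ (((σ ^ e) a)⁻¹ * a) = ((σ ^ e) a)⁻¹ * a := by
  rw [map_mul, map_inv, ← pow_succ_apply]
  rw [ha, map_mul, map_inv, ← pow_succ_apply'] at hg
  have h : ((σ ^ (e + 1)) a)⁻¹ = ((σ ^ e) a)⁻¹ * (a * (σ a)⁻¹) := by rw [← hg, inv_mul_cancel_left]
  rw [h]
  group

theorem pow_e_eq (a : X) (e : ℕ) : (σ ^ e) a = a * (((σ ^ e) a)⁻¹ * a)⁻¹ := by group

theorem fixed_pow {x : X} (h : σ x = x) (n : ℕ) : (σ ^ n) x = x := by
  induction n with
  | zero => rfl
  | succ n ih => rw [pow_succ_apply, ih, h]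

theorem pow_mul_apply {a x : X} {e : ℕ} (ha : (σ ^ e) a = a * x⁻¹) (hx : σ x = x) (n : ℕ) :
    (σ ^ (e * n)) a = a * (x ^ n)⁻¹ := by
  induction n with
  | zero => simp
  | succ n ih =>
    rw [show e * (n + 1) = e + e * n by ring, pow_add, MulAut.mul_apply, ih, map_mul, map_inv,
      fixed_pow σ (x := x ^ n) (by rw [map_pow, hx]), ha, pow_succ]
    group

theorem twist_iff {g g' a b k : X} (ha : g = a * (σ a)⁻¹) (hb : g' = b * (σ b)⁻¹) :
    g' = k * g * (σ k)⁻¹ ↔ σ ((k * a)⁻¹ * b) = (k * a)⁻¹ * b := by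
  subst ha hb
  rw [map_mul, map_inv, map_mul]
  constructor
  · intro h
    calc (σ k * σ a)⁻¹ * σ b = (k * a)⁻¹ * (k * (a * (σ a)⁻¹) * (σ k)⁻¹) * σ b := by group
      _ = (k * a)⁻¹ * b := by rw [← h]; group
  · intro h
    calc b * (σ b)⁻¹ = k * a * ((k * a)⁻¹ * b) * (σ b)⁻¹ := by group
      _ = k * (a * (σ a)⁻¹) * (σ k)⁻¹ := by rw [← h]; group

end Cfsg.Agent.Small.Shintani
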