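import Cfsg.Agent.Lib.Small.Shintani

/-!
Shintani descent and fixed points on coset spaces, abstract form.
-/

set_option autoImplicit false

namespace Cfsg.Agent.Small.Shintani

theorem fixed_cosets {X : Type*} [Group X] (σ : MulAut X) (e : ℕ)
    (Y : Subgroup X) (hY : ∀ y : X, y ∈ Y ↔ σ y ∈ Y)
    (hYL : ∀ y ∈ Y, ∃ a ∈ Y, y = a * (σ a)⁻¹) (hYLe : ∀ y ∈ Y, ∃ a ∈ Y, y = a * ((σ ^ e) a)⁻¹)
    (g : X) (_hg : (σ ^ e) g = g) (a : X) (ha : g = a * (σ a)⁻¹) :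
    Nat.card {k : ↥((MulEquiv.toMonoidHom (σ ^ e)).eqLocus (MonoidHom.id X)) // (k : X)⁻¹ * g * σ k ∈ Y} *
        Nat.card ↥(Y ⊓ (MulEquiv.toMonoidHom σ).eqLocus (MonoidHom.id X)) =
      Nat.card {h : ↥((MulEquiv.toMonoidHom σ).eqLocus (MonoidHom.id X)) //
          (h : X)⁻¹ * (((σ ^ e) a)⁻¹ * a) * h ∈ Y} *
        Nat.card ↥(Y ⊓ (MulEquiv.toMonoidHom (σ ^ e)).eqLocus (MonoidHom.id X)) := by
  classical
  have hYe : ∀ n : ℕ, ∀ b ∈ Y, (σ ^ n) b ∈ Y := by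
    intro n
    induction n with
    | zero => exact fun b hb => by simpa using hb
    | succ k ih => exact fun b hb => by rw [pow_succ_apply]; exact (hY _).mp (ih b hb)
  obtain ⟨x, hx⟩ : ∃ x, x = ((σ ^ e) a)⁻¹ * a := ⟨_, rfl⟩
  rw [← hx]
  let P := {p : X × X // (σ ^ e) p.1 = p.1 ∧ p.2 ∈ Y ∧ p.1⁻¹ * g * σ p.1 = p.2 * (σ p.2)⁻¹}
  let Q := {p : X × X // σ p.1 = p.1 ∧ p.2 ∈ Y ∧ p.1⁻¹ * x * p.1 = ((σ ^ e) p.2)⁻¹ * p.2}
  choose b hbY hb using fun k : {k : ↥((MulEquiv.toMonoidHom (σ ^ e)).eqLocus (MonoidHom.id X)) //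
    (k : X)⁻¹ * g * σ k ∈ Y} => hYL _ k.2
  have hsA : ∀ K c, ((K : {k : ↥((MulEquiv.toMonoidHom (σ ^ e)).eqLocus (MonoidHom.id X)) //
      (k : X)⁻¹ * g * σ k ∈ Y}).1.1)⁻¹ * g * σ K.1.1 = c * (σ c)⁻¹ → σ ((b K)⁻¹ * c) = (b K)⁻¹ * c := by
    intro K c h3
    have h4 := (hb K).symm.trans h3
    rw [map_mul, map_inv]
    calc (σ (b K))⁻¹ * σ c = (b K)⁻¹ * (b K * (σ (b K))⁻¹) * σ c := by group
      _ = (b K)⁻¹ * c := by rw [h4]; group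
  let toA : P → {k : ↥((MulEquiv.toMonoidHom (σ ^ e)).eqLocus (MonoidHom.id X)) //
      (k : X)⁻¹ * g * σ k ∈ Y} := fun p => ⟨⟨p.1.1, p.2.1⟩, by
    show p.1.1⁻¹ * g * σ p.1.1 ∈ Y
    rw [p.2.2.2]; exact mul_mem p.2.2.1 (inv_mem ((hY _).mp p.2.2.1))⟩
  have e1 : ({k : ↥((MulEquiv.toMonoidHom (σ ^ e)).eqLocus (MonoidHom.id X)) // (k : X)⁻¹ * g * σ k ∈ Y} ×
      ↥(Y ⊓ (MulEquiv.toMonoidHom σ).eqLocus (MonoidHom.id X))) ≃ P :=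
    { toFun := fun p => ⟨(p.1.1.1, b p.1 * p.2.1), p.1.1.2, mul_mem (hbY _) p.2.2.1, by
        have hy : σ p.2.1 = p.2.1 := p.2.2.2
        show _ = _ * (σ (b p.1 * p.2.1))⁻¹
        rw [map_mul, hy, hb p.1]
        group⟩
      invFun := fun p => (toA p, ⟨(b (toA p))⁻¹ * p.1.2,
        Subgroup.mem_inf.mpr ⟨Y.mul_mem (Y.inv_mem (hbY _)) p.2.2.1, hsA (toA p) _ p.2.2.2⟩⟩)
      left_inv := fun p => Prod.ext rfl (Subtype.ext (inv_mul_cancel_left _ _))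
      right_inv := fun p => Subtype.ext (Prod.ext rfl (mul_inv_cancel_left _ _)) }
  have hQe : ∀ y ∈ Y, ∃ c ∈ Y, y = ((σ ^ e) c)⁻¹ * c := by
    intro y hy
    obtain ⟨c, hc, hc'⟩ := hYLe y⁻¹ (inv_mem hy)
    refine ⟨c⁻¹, inv_mem hc, ?_⟩
    rw [← inv_inv y, hc', map_inv]
    group
  choose d hdY hd using fun k : {h : ↥((MulEquiv.toMonoidHom σ).eqLocus (MonoidHom.id X)) //
    (h : X)⁻¹ * x * h ∈ Y} => hQe _ k.2
  have hsB : ∀ K c, ((K : {h : ↥((MulEquiv.toMonoidHom σ).eqLocus (MonoidHom.id X)) //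
      (h : X)⁻¹ * x * h ∈ Y}).1.1)⁻¹ * x * K.1.1 = ((σ ^ e) c)⁻¹ * c →
      (σ ^ e) (c * (d K)⁻¹) = c * (d K)⁻¹ := by
    intro K c h3
    have h4 := (hd K).symm.trans h3
    rw [map_mul, map_inv]
    calc (σ ^ e) c * ((σ ^ e) (d K))⁻¹ = (σ ^ e) c * (((σ ^ e) (d K))⁻¹ * d K) * (d K)⁻¹ := by group
      _ = c * (d K)⁻¹ := by rw [h4]; group
  let toB : Q → {h : ↥((MulEquiv.toMonoidHom σ).eqLocus (MonoidHom.id X)) //
      (h : X)⁻¹ * x * h ∈ Y} := fun p => ⟨⟨p.1.1, p.2.1⟩, by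
    show p.1.1⁻¹ * x * p.1.1 ∈ Y
    rw [p.2.2.2]; exact mul_mem (inv_mem (hYe e _ p.2.2.1)) p.2.2.1⟩
  have e2 : ({h : ↥((MulEquiv.toMonoidHom σ).eqLocus (MonoidHom.id X)) // (h : X)⁻¹ * x * h ∈ Y} ×
      ↥(Y ⊓ (MulEquiv.toMonoidHom (σ ^ e)).eqLocus (MonoidHom.id X))) ≃ Q :=
    { toFun := fun p => ⟨(p.1.1.1, p.2.1 * d p.1), p.1.1.2, mul_mem p.2.2.1 (hdY _), by
        have hy : (σ ^ e) p.2.1 = p.2.1 := p.2.2.2
        show _ = ((σ ^ e) (p.2.1 * d p.1))⁻¹ * _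
        rw [map_mul, hy, hd p.1]
        group⟩
      invFun := fun p => (toB p, ⟨p.1.2 * (d (toB p))⁻¹,
        Subgroup.mem_inf.mpr ⟨Y.mul_mem p.2.2.1 (Y.inv_mem (hdY _)), hsB (toB p) _ p.2.2.2⟩⟩)
      left_inv := fun p => Prod.ext rfl (Subtype.ext (mul_inv_cancel_right _ _))
      right_inv := fun p => Subtype.ext (Prod.ext rfl (inv_mul_cancel_right _ _)) }
  have e3 : P ≃ Q :=
    { toFun := fun p => ⟨(a⁻¹ * p.1.1 * p.1.2, p.1.2), by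
        obtain ⟨⟨k, c⟩, h1, h2, h3⟩ := p
        have h4 : σ (a⁻¹ * k * c) = a⁻¹ * k * c := by
          rw [map_mul, map_mul, map_inv]
          calc (σ a)⁻¹ * σ k * σ c = a⁻¹ * (a * (σ a)⁻¹) * σ k * σ c := by group
            _ = a⁻¹ * k * (k⁻¹ * g * σ k) * σ c := by rw [← ha]; group
            _ = a⁻¹ * k * c := by rw [h3]; group
        refine ⟨h4, h2, ?_⟩
        have h5 : (σ ^ e) (a⁻¹ * k * c) = a⁻¹ * k * c := fixed_pow σ h4 e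
        rw [map_mul, map_mul, map_inv, show (σ ^ e) k = k from h1] at h5
        show (a⁻¹ * k * c)⁻¹ * x * (a⁻¹ * k * c) = ((σ ^ e) c)⁻¹ * c
        calc (a⁻¹ * k * c)⁻¹ * x * (a⁻¹ * k * c)
            = (a⁻¹ * k * c)⁻¹ * (((σ ^ e) a)⁻¹ * k * (σ ^ e) c) * ((σ ^ e) c)⁻¹ * c := by rw [hx]; group
          _ = ((σ ^ e) c)⁻¹ * c := by rw [h5]; group⟩
      invFun := fun p => ⟨(a * p.1.1 * p.1.2⁻¹, p.1.2), by
        obtain ⟨⟨h, c⟩, h1, h2, h3⟩ := p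
        have h4 : (σ ^ e) (a * h * c⁻¹) = a * h * c⁻¹ := by
          rw [map_mul, map_mul, map_inv, fixed_pow σ (show σ h = h from h1) e]
          calc (σ ^ e) a * h * ((σ ^ e) c)⁻¹ = (σ ^ e) a * h * (((σ ^ e) c)⁻¹ * c) * c⁻¹ := by group
            _ = a * h * c⁻¹ := by rw [← h3, hx]; group
        refine ⟨h4, h2, ?_⟩
        show (a * h * c⁻¹)⁻¹ * g * σ (a * h * c⁻¹) = c * (σ c)⁻¹
        rw [map_mul, map_mul, map_inv, show σ h = h from h1, ha]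
        group⟩
      left_inv := fun p => Subtype.ext (Prod.ext (by simp [mul_assoc]) rfl)
      right_inv := fun p => Subtype.ext (Prod.ext (by simp [mul_assoc]) rfl) }
  rw [← Nat.card_prod, ← Nat.card_prod, Nat.card_congr e1, Nat.card_congr e2, Nat.card_congr e3]

end Cfsg.Agent.Small.Shintani
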