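import Mathlib

/-!
The centraliser of an element whose prime order is a primitive divisor of `q ^ n - 1`.
-/

set_option autoImplicit false

namespace Cfsg.Agent.Small.SingerCentralizer

open Polynomial

theorem degree_ge {F : Type*} [Field F] [Fintype F] {q n r : ℕ} (hF : Fintype.card F = q) (hr : r.Prime)
    (hi : orderOf (q : ZMod r) = n) (f : F[X]) (hf : Irreducible f) (hfr : f ∣ X ^ r - 1) (hd : f.natDegree < n) :
    f ∣ X - 1 := by
  have := Fact.mk hf
  have : Module.Finite F (AdjoinRoot f) :=
    Module.Finite.of_basis (AdjoinRoot.powerBasis hf.ne_zero).basis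
  have : Finite (AdjoinRoot f) := Module.finite_of_finite F
  have hcard : Nat.card (AdjoinRoot f) = q ^ f.natDegree := by
    rw [Module.natCard_eq_pow_finrank (K := F) (V := AdjoinRoot f), Nat.card_eq_fintype_card, hF,
      (AdjoinRoot.powerBasis hf.ne_zero).finrank, AdjoinRoot.powerBasis_dim]
  have hα : AdjoinRoot.root f ^ r = 1 := by
    rw [← sub_eq_zero, ← AdjoinRoot.mk_X, ← map_pow, ← map_one (AdjoinRoot.mk f), ← map_sub,
      AdjoinRoot.mk_eq_zero]
    exact hfr
  have h0 : AdjoinRoot.root f ≠ 0 := fun h => by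
    rw [h, zero_pow hr.ne_zero] at hα
    exact zero_ne_one hα
  rw [← AdjoinRoot.mk_eq_zero, map_sub, map_one, AdjoinRoot.mk_X, sub_eq_zero]
  obtain ⟨u, hu⟩ : ∃ u : (AdjoinRoot f)ˣ, u = Units.mk0 _ h0 := ⟨_, rfl⟩
  have h1 : orderOf u ∣ r := orderOf_dvd_of_pow_eq_one (Units.ext (by rw [hu]; simpa using hα))
  have h2 : orderOf u ∣ q ^ f.natDegree - 1 := by
    have := orderOf_dvd_natCard u
    rwa [Nat.card_units, hcard] at this
  rcases hr.eq_one_or_self_of_dvd _ h1 with h | h
  · have := congrArg Units.val (orderOf_eq_one_iff.mp h)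
    rwa [hu] at this
  · exfalso
    rw [h] at h2
    have hq0 : 1 ≤ q ^ f.natDegree := Nat.one_le_pow _ _ (hF ▸ Fintype.card_pos)
    have h3 : ((q : ZMod r)) ^ f.natDegree = 1 := by
      rw [← Nat.cast_pow, ← Nat.sub_add_cancel hq0, Nat.cast_add, (ZMod.natCast_eq_zero_iff _ _).mpr h2,
        zero_add, Nat.cast_one]
    have h4 := orderOf_dvd_of_pow_eq_one h3
    rw [hi] at h4
    have := Nat.le_of_dvd hf.natDegree_pos h4
    omega

theorem centralizer_cyclic {F : Type*} [Field F] [Fintype F] {p q : ℕ} [Fact p.Prime] [CharP F p]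
    (hF : Fintype.card F = q) {n r : ℕ} (hn : 1 ≤ n) (hr : r.Prime) (hrp : r ≠ p)
    (hi : orderOf (q : ZMod r) = n) (x : GL (Fin n) F) (hx : orderOf x = r) :
    IsCyclic ↥(Subgroup.centralizer ({x} : Set (GL (Fin n) F))) ∧
      Nat.card ↥(Subgroup.centralizer ({x} : Set (GL (Fin n) F))) = q ^ n - 1 := by
  classical
  have : Nonempty (Fin n) := ⟨⟨0, hn⟩⟩
  obtain ⟨M, hM⟩ : ∃ M, M = (x : Matrix (Fin n) (Fin n) F) := ⟨_, rfl⟩
  have hMr : minpoly F M ∣ X ^ r - 1 := minpoly.dvd F M (by
    rw [map_sub, map_pow, aeval_X, map_one, hM, ← Units.val_pow_eq_pow_val, ← hx, pow_orderOf_eq_one,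
      Units.val_one, sub_self])
  have hr0 : (r : F) ≠ 0 := by
    rw [Ne, CharP.cast_eq_zero_iff F p]
    exact fun h => hrp ((Nat.prime_dvd_prime_iff_eq Fact.out hr).mp h).symm
  have hsq : Squarefree (minpoly F M) :=
    Squarefree.squarefree_of_dvd hMr (separable_X_pow_sub_C (1 : F) hr0 one_ne_zero |>.squarefree)
  obtain ⟨f, hfi, hfm, hfd⟩ : ∃ f, Irreducible f ∧ f ∣ minpoly F M ∧ n ≤ f.natDegree := by
    by_contra h
    push Not at h
    have hint : IsIntegral F M := IsIntegral.of_finite F M
    have hall : ∀ g, Irreducible g → g ∣ minpoly F M → g ∣ X - 1 := fun g hg hgm =>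
      degree_ge hF hr hi g hg (hgm.trans hMr) (h g hg hgm)
    have hdvd : minpoly F M ∣ X - 1 := by
      obtain ⟨k, hk⟩ : ∃ k, minpoly F M ∣ (X - 1 : F[X]) ^ k := by
        refine ⟨(UniqueFactorizationMonoid.normalizedFactors (minpoly F M)).card, ?_⟩
        refine (UniqueFactorizationMonoid.prod_normalizedFactors (minpoly.ne_zero hint)).dvd_iff_dvd_left.mp ?_
        rw [← Multiset.prod_replicate, ← Multiset.map_const', ← Multiset.map_id' (UniqueFactorizationMonoid.normalizedFactors _)]
        simp only [Multiset.map_map]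
        exact Multiset.prod_dvd_prod_of_dvd _ _ fun a ha => hall a
          (UniqueFactorizationMonoid.irreducible_of_normalized_factor a ha)
          (UniqueFactorizationMonoid.dvd_of_mem_normalizedFactors ha)
      rcases Nat.eq_zero_or_pos k with hk0 | hk0
      · subst hk0
        exact hk.trans (one_dvd _)
      · exact (hsq.dvd_pow_iff_dvd hk0.ne').mp hk
    have h1 : aeval M (X - 1 : F[X]) = 0 := by
      obtain ⟨c, hc⟩ := hdvd
      rw [hc, map_mul, minpoly.aeval, zero_mul]
    rw [map_sub, aeval_X, map_one, sub_eq_zero, hM] at h1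
    rw [show x = 1 from Units.ext h1, orderOf_one] at hx
    exact hr.one_lt.ne hx
  have hdeg : (minpoly F M).natDegree ≤ n := by
    have := natDegree_le_of_dvd (Matrix.minpoly_dvd_charpoly M) (M.charpoly_monic.ne_zero)
    rwa [Matrix.charpoly_natDegree_eq_dim, Fintype.card_fin] at this
  have hint : IsIntegral F M := IsIntegral.of_finite F M
  have hfn : f.natDegree = n :=
    le_antisymm ((natDegree_le_of_dvd hfm (minpoly.ne_zero hint)).trans hdeg) hfd
  have hfM : aeval M f = 0 := by
    obtain ⟨c, hc⟩ : minpoly F M ∣ f := (associated_of_dvd_of_natDegree_le hfm (minpoly.ne_zero hint)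
      (by omega)).symm.dvd
    rw [hc, map_mul, minpoly.aeval, zero_mul]
  have := Fact.mk hfi
  let φ : AdjoinRoot f →ₐ[F] Matrix (Fin n) (Fin n) F :=
    Ideal.Quotient.liftₐ (Ideal.span {f}) (aeval M) fun a ha => by
      obtain ⟨c, rfl⟩ := Ideal.mem_span_singleton.mp ha
      rw [map_mul, hfM, zero_mul]
  have hφ : Function.Injective φ := RingHom.injective φ.toRingHom
  have hφM : φ (AdjoinRoot.root f) = M := by
    show aeval M X = M
    exact aeval_X M
  have : Module.Finite F (AdjoinRoot f) :=
    Module.Finite.of_basis (AdjoinRoot.powerBasis hfi.ne_zero).basis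
  have : Finite (AdjoinRoot f) := Module.finite_of_finite F
  let v : Fin n → F := Pi.single ⟨0, hn⟩ 1
  let ev : AdjoinRoot f →ₗ[F] (Fin n → F) :=
    { toFun := fun a => (φ a).mulVec v
      map_add' := fun a b => by rw [map_add, Matrix.add_mulVec]
      map_smul' := fun c a => by rw [map_smul, Matrix.smul_mulVec, RingHom.id_apply] }
  have hev : Function.Bijective ev := by
    have hinj : Function.Injective ev := by
      rw [← LinearMap.ker_eq_bot, eq_bot_iff]
      intro a ha
      rw [LinearMap.mem_ker] at ha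
      by_contra hne
      have hv : ev (a⁻¹ * a) = (φ a⁻¹).mulVec (ev a) := by
        show (φ (a⁻¹ * a)).mulVec v = (φ a⁻¹).mulVec ((φ a).mulVec v)
        rw [map_mul, Matrix.mulVec_mulVec]
      rw [inv_mul_cancel₀ (fun h => hne (by rw [h]; exact Submodule.zero_mem _)), ha, Matrix.mulVec_zero] at hv
      have := congrFun (show (φ 1).mulVec v = 0 from hv) ⟨0, hn⟩
      simp [v] at this
    refine ⟨hinj, (LinearMap.injective_iff_surjective_of_finrank_eq_finrank ?_).mp hinj⟩
    rw [(AdjoinRoot.powerBasis hfi.ne_zero).finrank, AdjoinRoot.powerBasis_dim, hfn, Module.finrank_fin_fun]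
  let Φ : (AdjoinRoot f)ˣ →* GL (Fin n) F := Units.map φ.toMonoidHom
  have hΦ : Function.Injective Φ := Units.map_injective hφ
  have hrange : Φ.range = Subgroup.centralizer ({x} : Set (GL (Fin n) F)) := by
    ext g
    rw [Subgroup.mem_centralizer_singleton_iff]
    constructor
    · rintro ⟨a, rfl⟩
      refine Units.ext ?_
      show φ a.1 * (x : Matrix (Fin n) (Fin n) F) = (x : Matrix (Fin n) (Fin n) F) * φ a.1
      rw [← hM, ← hφM, ← map_mul, ← map_mul, mul_comm]
    · intro hg
      obtain ⟨a, ha⟩ := hev.2 ((g : Matrix (Fin n) (Fin n) F).mulVec v)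
      have hgM : (g : Matrix (Fin n) (Fin n) F) * M = M * (g : Matrix (Fin n) (Fin n) F) := by
        rw [hM]
        exact congrArg Units.val hg
      have hgφ : ∀ b, (g : Matrix (Fin n) (Fin n) F) * φ b = φ b * (g : Matrix (Fin n) (Fin n) F) := by
        intro b
        induction b using AdjoinRoot.induction_on with
        | ih P =>
          show (g : Matrix (Fin n) (Fin n) F) * aeval M P = aeval M P * (g : Matrix (Fin n) (Fin n) F)
          induction P using Polynomial.induction_on with
          | C c => rw [aeval_C]; exact (Algebra.commutes c _).symm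
          | add P Q hP hQ => rw [map_add, mul_add, add_mul, hP, hQ]
          | monomial k c h =>
            rw [pow_succ, ← mul_assoc, map_mul _ _ X, aeval_X, ← mul_assoc, h, mul_assoc, hgM, mul_assoc]
      have hga : (g : Matrix (Fin n) (Fin n) F) = φ a := by
        refine Matrix.ext_iff_mulVec.mpr fun w => ?_
        obtain ⟨b, rfl⟩ := hev.2 w
        show (g : Matrix (Fin n) (Fin n) F).mulVec ((φ b).mulVec v) = (φ a).mulVec ((φ b).mulVec v)
        rw [Matrix.mulVec_mulVec, hgφ, ← Matrix.mulVec_mulVec, ← ha]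
        show (φ b).mulVec ((φ a).mulVec v) = _
        rw [Matrix.mulVec_mulVec, Matrix.mulVec_mulVec, ← map_mul, ← map_mul, mul_comm]
      have ha0 : a ≠ 0 := fun h => by
        have := g.isUnit
        rw [hga, h, map_zero] at this
        exact not_isUnit_zero this
      exact ⟨Units.mk0 a ha0, Units.ext hga.symm⟩
  rw [← hrange]
  refine ⟨isCyclic_of_surjective (MonoidHom.ofInjective hΦ).toMonoidHom (MonoidHom.ofInjective hΦ).surjective, ?_⟩
  rw [← Nat.card_congr (MonoidHom.ofInjective hΦ).toEquiv, Nat.card_units,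
    Module.natCard_eq_pow_finrank (K := F) (V := AdjoinRoot f), Nat.card_eq_fintype_card, hF,
    (AdjoinRoot.powerBasis hfi.ne_zero).finrank, AdjoinRoot.powerBasis_dim, hfn]

end Cfsg.Agent.Small.SingerCentralizer
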