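import Mathlib
import Cfsg.Agent.Lib.Small.SymplecticElems

/-!
Restriction of scalars embeds `Sp_2a` over a quadratic extension into `Sp_4a` over the ground field.
-/

set_option autoImplicit false

namespace Cfsg.Agent.Small.SpFieldExt

open Matrix

variable {F K : Type*} [Field F] [Field K] [Algebra F K] {d a n : ℕ}

/-- Entrywise restriction of scalars on square matrices. -/
noncomputable def blow (b : Module.Basis (Fin d) F K) (e : Fin a × Fin d ≃ Fin n) :
    Matrix (Fin a) (Fin a) K →+* Matrix (Fin n) (Fin n) F :=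
  ((Matrix.reindexAlgEquiv F F e).toRingHom.comp
    (Matrix.compRingEquiv (Fin a) (Fin d) F).toRingHom).comp (Algebra.leftMulMatrix b).toRingHom.mapMatrix

theorem blow_apply (b : Module.Basis (Fin d) F K) (e : Fin a × Fin d ≃ Fin n) (M : Matrix (Fin a) (Fin a) K)
    (i j : Fin n) :
    blow b e M i j = Algebra.leftMulMatrix b (M (e.symm i).1 (e.symm j).1) (e.symm i).2 (e.symm j).2 := rfl

theorem blow_injective (b : Module.Basis (Fin d) F K) (e : Fin a × Fin d ≃ Fin n) :
    Function.Injective (blow b e) := by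
  intro M N h
  ext i j
  refine Algebra.leftMulMatrix_injective b (Matrix.ext fun k l => ?_)
  simpa [blow_apply] using congrFun (congrFun h (e (i, k))) (e (j, l))

/-- The block diagonal trace matrix. -/
noncomputable def gram (b : Module.Basis (Fin d) F K) (e : Fin a × Fin d ≃ Fin n) : Matrix (Fin n) (Fin n) F :=
  Matrix.reindexAlgEquiv F F e (Matrix.compRingEquiv (Fin a) (Fin d) F
    (Matrix.diagonal fun _ => Algebra.traceMatrix F b))

theorem blow_transpose (b : Module.Basis (Fin d) F K) (e : Fin a × Fin d ≃ Fin n) (M : Matrix (Fin a) (Fin a) K) :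
    (blow b e M)ᵀ * gram b e = gram b e * blow b e Mᵀ := by
  have h1 : (blow b e M)ᵀ = Matrix.reindexAlgEquiv F F e (Matrix.compRingEquiv (Fin a) (Fin d) F
      (Matrix.of fun i j => (Algebra.leftMulMatrix b (M j i))ᵀ)) := rfl
  have h2 : blow b e Mᵀ = Matrix.reindexAlgEquiv F F e (Matrix.compRingEquiv (Fin a) (Fin d) F
      (Matrix.of fun i j => Algebra.leftMulMatrix b (M j i))) := rfl
  rw [h1, h2, gram, ← map_mul, ← map_mul, ← map_mul, ← map_mul]
  refine congrArg _ (congrArg _ (Matrix.ext fun i j => ?_))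
  rw [Matrix.mul_diagonal, Matrix.diagonal_mul]
  exact leftMul_trace_symm b (M j i)

theorem isUnit_gram [FiniteDimensional F K] [Algebra.IsSeparable F K] (b : Module.Basis (Fin d) F K)
    (e : Fin a × Fin d ≃ Fin n) : IsUnit (gram b e) := by
  refine IsUnit.map (Matrix.reindexAlgEquiv F F e) (IsUnit.map (Matrix.compRingEquiv (Fin a) (Fin d) F) ?_)
  have h : IsUnit (Algebra.traceMatrix F b) :=
    (Matrix.isUnit_iff_isUnit_det _).mpr (isUnit_det_traceMatrix b)
  exact (Pi.isUnit_iff (x := fun _ : Fin a => Algebra.traceMatrix F b) |>.mpr fun _ => h).map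
    (Matrix.diagonalRingHom (Fin a) (Matrix (Fin d) (Fin d) F))

theorem gram_transpose (b : Module.Basis (Fin d) F K) (e : Fin a × Fin d ≃ Fin n) :
    (gram b e)ᵀ = gram b e := by
  ext i j
  show (Matrix.diagonal fun _ : Fin a => Algebra.traceMatrix F b) (e.symm j).1 (e.symm i).1 (e.symm j).2 (e.symm i).2 =
    (Matrix.diagonal fun _ : Fin a => Algebra.traceMatrix F b) (e.symm i).1 (e.symm j).1 (e.symm i).2 (e.symm j).2
  by_cases h : (e.symm i).1 = (e.symm j).1
  · rw [h, Matrix.diagonal_apply_eq]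
    simp [Algebra.traceMatrix_apply, Algebra.traceForm_apply, mul_comm]
  · rw [Matrix.diagonal_apply_ne _ h, Matrix.diagonal_apply_ne _ (Ne.symm h)]
    simp

theorem exists_embedding [FiniteDimensional F K] [Algebra.IsSeparable F K] (b : Module.Basis (Fin d) F K)
    (e : Fin a × Fin d ≃ Fin n) :
    ∃ φ : ↥(Matrix.symplecticGroup (Fin a) K) →* ↥(Matrix.symplecticGroup (Fin n) F), Function.Injective φ := by
  obtain ⟨G, hG⟩ : ∃ G, G = gram b e := ⟨_, rfl⟩
  have hGu : IsUnit G.det := (Matrix.isUnit_iff_isUnit_det _).mp (hG ▸ isUnit_gram b e)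
  have hGt : Gᵀ = G := hG ▸ gram_transpose b e
  let BL : Matrix (Fin a ⊕ Fin a) (Fin a ⊕ Fin a) K →* Matrix (Fin n ⊕ Fin n) (Fin n ⊕ Fin n) F :=
    { toFun := fun A => fromBlocks (blow b e A.toBlocks₁₁) (blow b e A.toBlocks₁₂)
        (blow b e A.toBlocks₂₁) (blow b e A.toBlocks₂₂)
      map_one' := by
        have e1 : (1 : Matrix (Fin a ⊕ Fin a) (Fin a ⊕ Fin a) K).toBlocks₁₁ = 1 := by
          ext i j; simp [toBlocks₁₁, Matrix.one_apply]
        have e2 : (1 : Matrix (Fin a ⊕ Fin a) (Fin a ⊕ Fin a) K).toBlocks₁₂ = 0 := by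
          ext i j; simp [toBlocks₁₂]
        have e3 : (1 : Matrix (Fin a ⊕ Fin a) (Fin a ⊕ Fin a) K).toBlocks₂₁ = 0 := by
          ext i j; simp [toBlocks₂₁]
        have e4 : (1 : Matrix (Fin a ⊕ Fin a) (Fin a ⊕ Fin a) K).toBlocks₂₂ = 1 := by
          ext i j; simp [toBlocks₂₂, Matrix.one_apply]
        rw [e1, e2, e3, e4, map_one, map_zero, fromBlocks_one]
      map_mul' := fun A B => by
        conv_lhs => rw [← fromBlocks_toBlocks A, ← fromBlocks_toBlocks B, fromBlocks_multiply]
        simp [fromBlocks_multiply, map_add, map_mul] }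
  have hBLinj : Function.Injective BL := by
    intro A B h
    obtain ⟨h1, h2, h3, h4⟩ := fromBlocks_inj.mp h
    rw [← fromBlocks_toBlocks A, ← fromBlocks_toBlocks B, blow_injective b e h1, blow_injective b e h2,
      blow_injective b e h3, blow_injective b e h4]
  obtain ⟨D, hD⟩ : ∃ D : Matrix (Fin n ⊕ Fin n) (Fin n ⊕ Fin n) F, D = fromBlocks 1 0 0 G := ⟨_, rfl⟩
  obtain ⟨D', hD'⟩ : ∃ D' : Matrix (Fin n ⊕ Fin n) (Fin n ⊕ Fin n) F, D' = fromBlocks 1 0 0 G⁻¹ := ⟨_, rfl⟩
  have hDD : D' * D = 1 := by simp [hD, hD', fromBlocks_multiply, Matrix.nonsing_inv_mul _ hGu]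
  have hDD' : D * D' = 1 := by simp [hD, hD', fromBlocks_multiply, Matrix.mul_nonsing_inv _ hGu]
  have hW : Dᵀ * J (Fin n) F * D = fromBlocks 0 (-G) G 0 := by
    simp [hD, J, fromBlocks_transpose, fromBlocks_multiply, hGt]
  have hLW : ∀ A ∈ Matrix.symplecticGroup (Fin a) K,
      (BL A)ᵀ * fromBlocks 0 (-G) G 0 * BL A = fromBlocks 0 (-G) G 0 := by
    intro A hA
    have h := SymplecticGroup.mem_iff'.mp hA
    rw [← fromBlocks_toBlocks A] at h
    simp only [J, fromBlocks_transpose, fromBlocks_multiply, fromBlocks_inj, mul_zero, mul_one,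
      add_zero, zero_add, Matrix.mul_neg, Matrix.neg_mul] at h
    obtain ⟨h1, h2, h3, h4⟩ := h
    simp only [BL, MonoidHom.coe_mk, OneHom.coe_mk, fromBlocks_transpose, fromBlocks_multiply, mul_zero,
      add_zero, zero_add, Matrix.mul_neg, Matrix.neg_mul, hG, blow_transpose, Matrix.mul_assoc,
      ← map_mul]
    simp only [← Matrix.mul_neg, ← Matrix.mul_add, ← map_neg, ← map_add]
    simp only [Matrix.mul_neg]
    rw [h1, h2, h3, h4]
    simp
  let φ₀ : ↥(Matrix.symplecticGroup (Fin a) K) →* Matrix (Fin n ⊕ Fin n) (Fin n ⊕ Fin n) F :=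
    { toFun := fun A => D * BL A.1 * D'
      map_one' := by
        show D * BL 1 * D' = 1
        rw [map_one, mul_one, hDD']
      map_mul' := fun A B => by
        rw [show ((A * B : ↥(Matrix.symplecticGroup (Fin a) K)) : Matrix _ _ K) = A.1 * B.1 from rfl, map_mul]
        calc D * (BL A.1 * BL B.1) * D' = D * BL A.1 * ((D' * D) * (BL B.1 * D')) := by
              rw [hDD]; simp [mul_assoc]
          _ = D * BL A.1 * D' * (D * BL B.1 * D') := by simp only [mul_assoc] }
  refine ⟨φ₀.codRestrict _ fun A => ?_, fun A B h => ?_⟩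
  · rw [SymplecticGroup.mem_iff']
    show (D * BL A.1 * D')ᵀ * J (Fin n) F * (D * BL A.1 * D') = J (Fin n) F
    calc _ = D'ᵀ * ((BL A.1)ᵀ * (Dᵀ * J (Fin n) F * D) * BL A.1) * D' := by
          simp only [transpose_mul, mul_assoc]
      _ = D'ᵀ * (Dᵀ * J (Fin n) F * D) * D' := by rw [hW, hLW A.1 A.2]
      _ = (D * D')ᵀ * J (Fin n) F * (D * D') := by simp only [transpose_mul, mul_assoc]
      _ = J (Fin n) F := by rw [hDD']; simp
  · have h1 : D * BL A.1 * D' = D * BL B.1 * D' := congrArg Subtype.val h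
    have h2 : D' * (D * BL A.1 * D') * D = D' * (D * BL B.1 * D') * D := by rw [h1]
    simp only [← mul_assoc, hDD, one_mul] at h2
    simp only [mul_assoc, hDD, mul_one] at h2
    exact Subtype.ext (hBLinj h2)

theorem sp_quadratic {K F : Type*} [Field K] [Fintype K] [Field F] [Fintype F] {q : ℕ}
    (hK : Fintype.card K = q ^ 2) (hF : Fintype.card F = q) (a : ℕ) :
    ∃ φ : ↥(Matrix.symplecticGroup (Fin a) K) →* ↥(Matrix.symplecticGroup (Fin (2 * a)) F),
      Function.Injective φ := by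
  obtain ⟨p, hp⟩ := CharP.exists F
  have := Fact.mk (CharP.char_is_prime F p)
  obtain ⟨f₀, hp', hf₀⟩ := FiniteField.card F p
  obtain ⟨f, hf⟩ : ∃ f : ℕ, Fintype.card F = p ^ f := ⟨_, hf₀⟩
  obtain ⟨r, hr⟩ := CharP.exists K
  have := Fact.mk (CharP.char_is_prime K r)
  obtain ⟨g₀, hr', hg₀⟩ := FiniteField.card K r
  obtain ⟨g, hg0, hg⟩ : ∃ g : ℕ, g ≠ 0 ∧ Fintype.card K = r ^ g := ⟨_, g₀.ne_zero, hg₀⟩
  have hrp : r = p := by
    have : r ∣ p ^ (f * 2) := by
      rw [pow_mul, ← hf, hF, ← hK, hg]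
      exact dvd_pow_self r hg0
    exact (Nat.prime_dvd_prime_iff_eq hr' hp').mp (hr'.dvd_of_dvd_pow this)
  subst hrp
  let _ : Algebra (ZMod r) F := ZMod.algebra F r
  let _ : Algebra (ZMod r) K := ZMod.algebra K r
  have hdF : Module.finrank (ZMod r) F = f := by
    have := Module.card_eq_pow_finrank (K := ZMod r) (V := F)
    rw [hf, ZMod.card] at this
    exact (Nat.pow_right_injective hr'.two_le this).symm
  have hdK : Module.finrank (ZMod r) K = 2 * f := by
    have := Module.card_eq_pow_finrank (K := ZMod r) (V := K)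
    rw [hK, ← hF, hf, ZMod.card, ← pow_mul] at this
    have := Nat.pow_right_injective hr'.two_le this
    omega
  obtain ⟨ι⟩ := FiniteField.nonempty_algHom_of_finrank_dvd (F := ZMod r) (K := F) (L := K)
    (by rw [hdF, hdK]; exact dvd_mul_left _ _)
  let _ : Algebra F K := ι.toRingHom.toAlgebra
  have : FiniteDimensional F K := Module.Finite.of_finite
  have h2 : Module.finrank F K = 2 := by
    have := Module.card_eq_pow_finrank (K := F) (V := K)
    rw [hK, hF] at this
    exact (Nat.pow_right_injective (hF ▸ Fintype.one_lt_card) this).symm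
  exact exists_embedding (Module.finBasisOfFinrankEq F K h2)
    ((Equiv.prodComm _ _).trans finProdFinEquiv)

end Cfsg.Agent.Small.SpFieldExt
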