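import Mathlib

/-!
Products of two conjugates of an elliptic element of the Levi subgroup `GL₂` of `Sp₄(F)`:
every non-central element of `Sp₄(F)` is such a product.
-/

set_option autoImplicit false

open Matrix

namespace Cfsg.Agent.Small.SpFourThompson

variable {F : Type*} [Field F]

/-- The class of elements of `GL₂` with given trace and determinant. -/
def InC (τ d : F) (A : Matrix (Fin 2) (Fin 2) F) : Prop := A.trace = τ ∧ A.det = d

/-- `X² - τ X + d` has no root and `d ≠ 1`. -/
def Good (τ d : F) : Prop := d ≠ 0 ∧ d ≠ 1 ∧ ∀ x : F, x * x - τ * x + d ≠ 0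

theorem exists_good [Fintype F] (h3 : 3 ≤ Fintype.card F) : ∃ τ d : F, Good τ d := by
  classical
  obtain ⟨d, hd⟩ : ∃ d : F, d ∉ ({0, 1} : Finset F) := by
    by_contra h
    push Not at h
    have := Finset.card_le_card (s := (Finset.univ : Finset F)) (t := {0, 1}) fun x _ => h x
    have := Finset.card_le_two (a := (0 : F)) (b := 1)
    rw [Finset.card_univ] at *
    omega
  simp only [Finset.mem_insert, Finset.mem_singleton, not_or] at hd
  obtain ⟨τ, hτ⟩ : ∃ τ : F, τ ∉ (Finset.univ.erase 0).image (fun x => x + d / x) := by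
    by_contra h
    push Not at h
    have h1 := Finset.card_le_card (s := (Finset.univ : Finset F))
      (t := (Finset.univ.erase 0).image (fun x => x + d / x)) fun x _ => h x
    have h2 := Finset.card_image_le (s := (Finset.univ : Finset F).erase 0) (f := fun x => x + d / x)
    rw [Finset.card_erase_of_mem (Finset.mem_univ _), Finset.card_univ] at h2
    rw [Finset.card_univ] at h1
    omega
  refine ⟨τ, d, hd.1, hd.2, fun x hx => ?_⟩
  by_cases h0 : x = 0
  · subst h0; simp at hx; exact hd.1 hx
  · refine hτ (Finset.mem_image.2 ⟨x, Finset.mem_erase.2 ⟨h0, Finset.mem_univ _⟩, ?_⟩)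
    field_simp
    linear_combination hx

theorem trace2 (A : Matrix (Fin 2) (Fin 2) F) : A.trace = A 0 0 + A 1 1 := Matrix.trace_fin_two A

theorem apply_one_zero_ne {τ d : F} (hg : Good τ d) {A : Matrix (Fin 2) (Fin 2) F} (hA : InC τ d A) :
    A 1 0 ≠ 0 := by
  intro h
  obtain ⟨h1, h2⟩ := hA
  rw [trace2] at h1
  rw [det_fin_two] at h2
  apply hg.2.2 (A 0 0)
  linear_combination (A 0 0) * h1 - h2 - A 0 1 * h

/-- Companion matrix of `X² - t X + e`. -/
def comp2 (t e : F) : Matrix (Fin 2) (Fin 2) F := !![0, -e; 1, t]

theorem comp2_inC (t e : F) : InC t e (comp2 t e) :=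
  ⟨by simp [comp2, trace2], by simp [comp2, det_fin_two]⟩

theorem InC.conj {τ d : F} {A P : Matrix (Fin 2) (Fin 2) F} (hA : InC τ d A) (hP : IsUnit P.det) :
    InC τ d (P * A * P⁻¹) := by
  refine ⟨?_, ?_⟩
  · rw [trace_mul_cycle, nonsing_inv_mul P hP, one_mul, hA.1]
  · rw [det_mul, det_mul, det_nonsing_inv, mul_comm P.det, mul_assoc, Ring.mul_inverse_cancel _ hP,
      mul_one, hA.2]

/-- A matrix which does not fix the line through `v` is conjugate to a companion matrix. -/
theorem exists_conj_comp2 {M : Matrix (Fin 2) (Fin 2) F}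
    (h : ¬ ∃ c : F, M = c • (1 : Matrix (Fin 2) (Fin 2) F)) :
    ∃ P : Matrix (Fin 2) (Fin 2) F, IsUnit P.det ∧ M * P = P * comp2 M.trace M.det := by
  have key : ∀ a b : F, a * (M 1 0 * a + M 1 1 * b) - b * (M 0 0 * a + M 0 1 * b) ≠ 0 →
      ∃ P : Matrix (Fin 2) (Fin 2) F, IsUnit P.det ∧ M * P = P * comp2 M.trace M.det := by
    intro a b hab
    refine ⟨!![a, M 0 0 * a + M 0 1 * b; b, M 1 0 * a + M 1 1 * b], ?_, ?_⟩
    · rw [isUnit_iff_ne_zero, det_fin_two]
      simpa [mul_comm] using hab
    · ext i j
      fin_cases i <;> fin_cases j <;>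
        simp [comp2, Matrix.mul_apply, Fin.sum_univ_two, trace2, det_fin_two] <;> ring
  by_cases h10 : M 1 0 = 0
  · by_cases h01 : M 0 1 = 0
    · refine key 1 1 ?_
      intro he
      refine h ⟨M 0 0, ?_⟩
      rw [h10, h01] at he
      have h11 : M 1 1 = M 0 0 := by linear_combination he
      ext i j
      fin_cases i <;> fin_cases j <;> simp [h10, h01, h11]
    · refine key 0 1 ?_
      simpa using h01
  · refine key 1 0 ?_
    simpa using h10

/-- `u ≠ 0` linear, two unknowns: prescribed image of a vector outside its line. -/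
theorem exists_inC_map {τ d : F} {a b p r : F} (h : a * r - b * p ≠ 0) :
    ∃ A : Matrix (Fin 2) (Fin 2) F, InC τ d A ∧ A *ᵥ ![a, b] = ![p, r] := by
  have hP : IsUnit (!![a, p; b, r] : Matrix (Fin 2) (Fin 2) F).det := by
    rw [isUnit_iff_ne_zero, det_fin_two]
    simpa [mul_comm] using h
  refine ⟨_, (comp2_inC τ d).conj hP, ?_⟩
  have hv : (!![a, p; b, r] : Matrix (Fin 2) (Fin 2) F) *ᵥ ![1, 0] = ![a, b] := by
    ext i; fin_cases i <;> simp [Matrix.mulVec, dotProduct, Fin.sum_univ_two]
  rw [← hv, Matrix.mulVec_mulVec, Matrix.mul_assoc, nonsing_inv_mul _ hP, mul_one,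
    ← Matrix.mulVec_mulVec]
  ext i; fin_cases i <;> simp [comp2, Matrix.mulVec, dotProduct, Fin.sum_univ_two]

/-- A product of two members of the class with prescribed second column. -/
theorem exists_col [Fintype F] (h3 : 3 ≤ Fintype.card F) {τ d : F} {p r : F} (h : p ≠ 0 ∨ r ≠ 0) :
    ∃ A B : Matrix (Fin 2) (Fin 2) F, InC τ d A ∧ InC τ d B ∧
      (A * B) *ᵥ ![0, 1] = ![p, r] := by
  classical
  obtain ⟨a, ha, ha'⟩ : ∃ a : F, a ≠ 0 ∧ a * r - p ≠ 0 := by
    by_contra hc
    push Not at hc
    have h2 : ∀ x : F, x = 0 ∨ x * r - p = 0 := fun x => (em (x = 0)).imp id (hc x)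
    have hr : r ≠ 0 := by
      intro hr
      rcases h with h | h
      · rcases h2 1 with h' | h'
        · exact one_ne_zero h'
        · rw [hr] at h'; exact h (by linear_combination -h')
      · exact h hr
    have := Finset.card_le_card (s := (Finset.univ : Finset F)) (t := {0, p / r}) fun x _ => by
      rcases h2 x with h' | h'
      · simp [h']
      · have : x = p / r := by field_simp; linear_combination h'
        simp [this]
    have := Finset.card_le_two (a := (0 : F)) (b := p / r)
    rw [Finset.card_univ] at *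
    omega
  obtain ⟨B, hB, hBv⟩ := exists_inC_map (τ := τ) (d := d) (a := (0 : F)) (b := 1) (p := a) (r := 1)
    (by simpa using ha)
  obtain ⟨A, hA, hAv⟩ := exists_inC_map (τ := τ) (d := d) (a := a) (b := 1) (p := p) (r := r)
    (by simpa using ha')
  exact ⟨A, B, hA, hB, by rw [← Matrix.mulVec_mulVec, hBv, hAv]⟩

/-- A non-degenerate affine conic has a point. -/
theorem conic [Fintype F] (t δ b c e : F) (hD : t * t - 4 * δ ≠ 0) :
    ∃ x z : F, x * x + t * x * z + δ * z * z + b * x + c * z + e = 0 := by
  obtain ⟨x₀, z₀, h1, h2⟩ : ∃ x₀ z₀ : F, 2 * x₀ + t * z₀ + b = 0 ∧ t * x₀ + 2 * δ * z₀ + c = 0 :=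
    ⟨(2 * δ * b - t * c) / (t * t - 4 * δ), (2 * c - t * b) / (t * t - 4 * δ),
      by linear_combination (-b) * mul_inv_cancel₀ hD, by linear_combination (-c) * mul_inv_cancel₀ hD⟩
  obtain ⟨X, Z, hXZ⟩ : ∃ X Z : F, X * X + t * X * Z + δ * Z * Z =
      -(x₀ * x₀ + t * x₀ * z₀ + δ * z₀ * z₀ + b * x₀ + c * z₀ + e) := by
    generalize -(x₀ * x₀ + t * x₀ * z₀ + δ * z₀ * z₀ + b * x₀ + c * z₀ + e) = v
    by_cases h2c : (2 : F) = 0
    · have hc : ringChar F = 2 := by
        haveI := ringChar.charP F
        have h' : ((2 : ℕ) : F) = 0 := by exact_mod_cast h2c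
        rw [CharP.cast_eq_zero_iff F (ringChar F)] at h'
        rcases (Nat.dvd_prime Nat.prime_two).1 h' with h' | h'
        · exact absurd h' (CharP.ringChar_ne_one)
        · exact h'
      obtain ⟨s, hs⟩ := FiniteField.isSquare_of_char_two hc v
      exact ⟨s, 0, by rw [hs]; ring⟩
    · have h4 : (4 : F) ≠ 0 := by
        have : (4 : F) = 2 * 2 := by norm_num
        rw [this]; exact mul_ne_zero h2c h2c
      have hodd : Fintype.card F % 2 = 1 := by
        refine FiniteField.odd_card_of_char_ne_two ?_
        intro hc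
        haveI := ringChar.charP F
        apply h2c
        have := CharP.cast_eq_zero F (ringChar F)
        rw [hc] at this
        exact_mod_cast this
      obtain ⟨α, β, hab⟩ := FiniteField.exists_root_sum_quadratic
        (f := Polynomial.X ^ 2 - Polynomial.C v)
        (g := Polynomial.C (-(t * t - 4 * δ) / 4) * Polynomial.X ^ 2)
        (Polynomial.degree_X_pow_sub_C (by norm_num) v)
        (Polynomial.degree_C_mul_X_pow 2 (div_ne_zero (neg_ne_zero.2 hD) h4)) hodd
      simp only [Polynomial.eval_sub, Polynomial.eval_pow, Polynomial.eval_X, Polynomial.eval_C,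
        Polynomial.eval_mul] at hab
      refine ⟨α - t * β / 2, β, ?_⟩
      field_simp at hab ⊢
      linear_combination hab
  exact ⟨X + x₀, Z + z₀, by linear_combination hXZ + X * h1 + Z * h2⟩

/-- Values of `B ↦ tr(M B)` on the class. -/
theorem exists_trace [Fintype F] {τ d : F} (hg : Good τ d) {M : Matrix (Fin 2) (Fin 2) F}
    (hD : M.trace * M.trace - 4 * M.det ≠ 0) (a : F) : ∃ B, InC τ d B ∧ (M * B).trace = a := by
  have hns : ¬ ∃ c : F, M = c • (1 : Matrix (Fin 2) (Fin 2) F) := by
    rintro ⟨c, rfl⟩
    apply hD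
    simp [trace2, det_fin_two]
    ring
  obtain ⟨P, hP, hMP⟩ := exists_conj_comp2 hns
  set t := M.trace with ht
  set δ := M.det with hδ
  obtain ⟨x, z, hxz⟩ := conic t δ (-τ) (a - t * τ) d hD
  have hz : z ≠ 0 := by
    intro h0
    apply hg.2.2 x
    rw [h0] at hxz
    linear_combination hxz
  set B : Matrix (Fin 2) (Fin 2) F := !![x, (x * (τ - x) - d) / z; z, τ - x] with hB
  have hBC : InC τ d B := by
    refine ⟨by simp [hB, trace2], ?_⟩
    rw [hB, det_fin_two]
    simp
    field_simp
    ring
  refine ⟨_, hBC.conj hP, ?_⟩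
  rw [← Matrix.mul_assoc, ← Matrix.mul_assoc, hMP, Matrix.mul_assoc P, trace_mul_cycle,
    ← Matrix.mul_assoc, nonsing_inv_mul P hP, one_mul]
  simp [hB, comp2, trace2, Matrix.mul_apply, Fin.sum_univ_two]
  field_simp
  linear_combination (-1 : F) * hxz

/-- A linear condition on products of two members of the class can be met. -/
theorem exists_pair [Fintype F] (h3 : 3 ≤ Fintype.card F) {τ d : F} (hg : Good τ d)
    {K : Matrix (Fin 2) (Fin 2) F} (hK : IsUnit K.det) (a : F) :
    ∃ A B : Matrix (Fin 2) (Fin 2) F, InC τ d A ∧ InC τ d B ∧ (K * (A * B)).trace = a := by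
  classical
  obtain ⟨A, hA, hD⟩ : ∃ A, InC τ d A ∧ (K * A).trace * (K * A).trace - 4 * (K * A).det ≠ 0 := by
    have hK0 : K.det ≠ 0 := hK.ne_zero
    by_cases hsc : ∃ c : F, K = c • (1 : Matrix (Fin 2) (Fin 2) F)
    · obtain ⟨c, rfl⟩ := hsc
      refine ⟨_, comp2_inC τ d, ?_⟩
      have hc : c ≠ 0 := by
        rintro rfl
        simp [det_fin_two] at hK0
      simp [comp2, trace2, det_fin_two, Matrix.mul_apply, Fin.sum_univ_two]
      intro h
      have h' : c * c * (τ * τ - 4 * d) = 0 := by linear_combination h
      rcases mul_eq_zero.1 h' with h' | h'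
      · exact hc (mul_self_eq_zero.1 h')
      · by_cases h2 : (2 : F) = 0
        · have hτ : τ = 0 := mul_self_eq_zero.1 (by linear_combination h' + 2 * d * h2)
          haveI := ringChar.charP F
          have hcc : ringChar F = 2 := by
            have h'' : ((2 : ℕ) : F) = 0 := by exact_mod_cast h2
            rw [CharP.cast_eq_zero_iff F (ringChar F)] at h''
            rcases (Nat.dvd_prime Nat.prime_two).1 h'' with h3 | h3
            · exact absurd h3 CharP.ringChar_ne_one
            · exact h3
          obtain ⟨s, hs⟩ := FiniteField.isSquare_of_char_two hcc d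
          apply hg.2.2 s
          rw [hτ, hs]
          linear_combination (s * s) * h2
        · apply hg.2.2 (τ / 2)
          field_simp
          linear_combination -h'
    · obtain ⟨P, hP, hKP⟩ := exists_conj_comp2 hsc
      set t₀ := K.trace with ht₀
      set δ := K.det with hδ
      have hdet : ∀ A, InC τ d A → (K * A).det = δ * d := fun A hA => by rw [det_mul, hA.2]
      by_cases hdisc : t₀ * t₀ - 4 * δ = 0
      · -- repeated eigenvalue `k`
        obtain ⟨k, hk1, hk2⟩ : ∃ k : F, t₀ = 2 * k ∧ δ = k * k := by
          by_cases h2 : (2 : F) = 0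
          · haveI := ringChar.charP F
            have hcc : ringChar F = 2 := by
              have h'' : ((2 : ℕ) : F) = 0 := by exact_mod_cast h2
              rw [CharP.cast_eq_zero_iff F (ringChar F)] at h''
              rcases (Nat.dvd_prime Nat.prime_two).1 h'' with h3 | h3
              · exact absurd h3 CharP.ringChar_ne_one
              · exact h3
            obtain ⟨k, hk⟩ := FiniteField.isSquare_of_char_two hcc δ
            refine ⟨k, ?_, hk⟩
            have : t₀ = 0 := mul_self_eq_zero.1 (by linear_combination hdisc + 2 * δ * h2)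
            rw [this, h2, zero_mul]
          · refine ⟨t₀ / 2, by field_simp, ?_⟩
            field_simp
            linear_combination -hdisc
        have hk0 : k ≠ 0 := fun h => hK0 (by rw [hk2, h, mul_zero])
        obtain ⟨w, hw, hw'⟩ : ∃ w : F, w ≠ 0 ∧
            (k * τ + w) * (k * τ + w) - 4 * (k * k * d) ≠ 0 := by
          by_contra hc
          push Not at hc
          by_cases hsq : ∃ s : F, s * s = 4 * (k * k * d)
          · obtain ⟨s, hs⟩ := hsq
            have hall : ∀ w : F, w ∈ ({0, s - k * τ, -s - k * τ} : Finset F) := fun w => by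
              by_cases h0 : w = 0
              · simp [h0]
              · have h1 : (k * τ + w - s) * (k * τ + w + s) = 0 := by
                  linear_combination hc w h0 - hs
                rcases mul_eq_zero.1 h1 with h | h
                · have : w = s - k * τ := by linear_combination h
                  simp [this]
                · have : w = -s - k * τ := by linear_combination h
                  simp [this]
            have h4 := Finset.card_le_card (s := (Finset.univ : Finset F))
              (t := {0, s - k * τ, -s - k * τ}) fun x _ => hall x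
            have h5 := Finset.card_le_three (a := (0 : F)) (b := s - k * τ) (c := -s - k * τ)
            rw [Finset.card_univ] at h4
            have hq : Fintype.card F = 3 := by omega
            -- over three elements `d = -1` is not a square
            have h2 : (2 : F) ≠ 0 := by
              intro h2
              have h3' : ((3 : ℕ) : F) = 0 := by rw [← hq]; exact Nat.cast_card_eq_zero F
              apply one_ne_zero (α := F)
              push_cast at h3'
              linear_combination h3' - h2
            have hy : (s / (2 * k)) * (s / (2 * k)) = d := by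
              field_simp
              linear_combination hs
            have hy0 : s / (2 * k) ≠ 0 := fun h => hg.1 (by rw [← hy, h, mul_zero])
            have hp := FiniteField.pow_card_sub_one_eq_one (s / (2 * k)) hy0
            rw [hq] at hp
            apply hg.2.1
            rw [← hy, ← hp]
            ring
          · exact hsq ⟨k * τ + 1, sub_eq_zero.1 (hc 1 one_ne_zero)⟩
        have hz : -d / w ≠ 0 := div_ne_zero (neg_ne_zero.2 hg.1) hw
        set z := -d / w with hzdef
        set x := -(k * z) with hx
        set B : Matrix (Fin 2) (Fin 2) F := !![x, (x * (τ - x) - d) / z; z, τ - x] with hB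
        have hBC : InC τ d B := by
          refine ⟨by simp [hB, trace2], ?_⟩
          rw [hB, det_fin_two]
          simp
          field_simp
          ring
        refine ⟨_, hBC.conj hP, ?_⟩
        have ht : (K * (P * B * P⁻¹)).trace = k * τ + w := by
          rw [← Matrix.mul_assoc, ← Matrix.mul_assoc, hKP, Matrix.mul_assoc P, trace_mul_cycle,
            ← Matrix.mul_assoc, nonsing_inv_mul P hP, one_mul]
          simp [hB, hx, comp2, trace2, Matrix.mul_apply, Fin.sum_univ_two, hk1, hk2]
          rw [hzdef]
          field_simp [hg.1]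
          ring
        rw [ht, hdet _ (hBC.conj hP), hk2]
        exact hw'
      · obtain ⟨t, ht⟩ : ∃ t : F, t * t - 4 * (δ * d) ≠ 0 := by
          by_contra hc
          push Not at hc
          have h0 : 4 * (δ * d) = 0 := by linear_combination -hc 0
          exact one_ne_zero (α := F) (by linear_combination hc 1 + h0)
        obtain ⟨B, hB, hBt⟩ := exists_trace hg hdisc t
        exact ⟨B, hB, by rw [hBt, hdet B hB]; exact ht⟩
  obtain ⟨B, hB, hBt⟩ := exists_trace hg hD a
  exact ⟨A, B, hA, hB, by rw [← Matrix.mul_assoc]; exact hBt⟩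

end Cfsg.Agent.Small.SpFourThompson
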