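import Cfsg.Agent.Lib.Lead.GLBasic
import Mathlib.LinearAlgebra.SymplecticGroup
import Mathlib.LinearAlgebra.Dimension.FreeAndStrongRankCondition
import Mathlib.GroupTheory.Perm.Cycle.Type
import Mathlib.GroupTheory.SpecificGroups.Cyclic

/-!
A faithful representation of Sp_{2n}(q) over F_q has degree at least 2n: an elementary abelian
subgroup built from the tori of order q + 1 of SL_2(q)^n needs that much room.
-/

set_option autoImplicit false

namespace Cfsg.Agent.Small.SpMinDegree

open Module

variable {F : Type*} [Field F]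

section Restrict

variable {V : Type*} [AddCommGroup V] [Module F V] (p : Submodule F V)

/-- Invertible maps preserving a subspace in both directions. -/
def stabUnits : Subgroup (Module.End F V)ˣ where
  carrier := {c | (∀ v ∈ p, c.val v ∈ p) ∧ (∀ v ∈ p, c.inv v ∈ p)}
  one_mem' := ⟨fun _ h => h, fun _ h => h⟩
  mul_mem' := fun {a b} ha hb => ⟨fun v hv => ha.1 _ (hb.1 v hv), fun v hv => hb.2 _ (ha.2 v hv)⟩
  inv_mem' := fun {a} ha => ⟨ha.2, ha.1⟩

/-- Restriction to the subspace. -/
def restrictHom : stabUnits p →* (Module.End F p)ˣ :=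
  MonoidHom.toHomUnits
    { toFun := fun c => c.1.val.restrict c.2.1
      map_one' := rfl
      map_mul' := fun _ _ => rfl }

theorem coe_restrictHom (c : stabUnits p) (v : p) :
    (((restrictHom p c).val v : p) : V) = c.1.val v := rfl

end Restrict

/-- The hypothesis on an elementary abelian group of maps. -/
structure Lifted {V : Type*} [AddCommGroup V] [Module F V] (ℓ m s : ℕ) (E : Subgroup (Module.End F V)ˣ) : Prop where
  comm : ∀ a ∈ E, ∀ b ∈ E, a * b = b * a
  expo : ∀ a ∈ E, a ^ ℓ = 1
  lift : ∀ e ∈ E, ∃ a : (Module.End F V)ˣ, a ^ m = 1 ∧ a ^ s = e ∧ ∀ b ∈ E, a * b = b * a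

variable {ℓ m s : ℕ}

theorem Lifted.mono {V : Type*} [AddCommGroup V] [Module F V] {E E' : Subgroup (Module.End F V)ˣ}
    (h : Lifted ℓ m s E) (hle : E' ≤ E) : Lifted ℓ m s E' :=
  ⟨fun a ha b hb => h.comm a (hle ha) b (hle hb), fun a ha => h.expo a (hle ha), fun e he => by
    obtain ⟨a, h1, h2, h3⟩ := h.lift e (hle he)
    exact ⟨a, h1, h2, fun b hb => h3 b (hle hb)⟩⟩

/-- Restricting the data to a subspace that every map commuting with `z` preserves. -/
theorem Lifted.restrict {V : Type*} [AddCommGroup V] [Module F V] {E : Subgroup (Module.End F V)ˣ}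
    (h : Lifted ℓ m s E) {z : (Module.End F V)ˣ} (hz : z ∈ E) (p : Submodule F V)
    (hp : ∀ c : (Module.End F V)ˣ, c * z = z * c → c ∈ stabUnits p) :
    Lifted ℓ m s ((E.subgroupOf (stabUnits p)).map (restrictHom p)) := by
  refine ⟨?_, ?_, ?_⟩
  · rintro _ ⟨a, ha, rfl⟩ _ ⟨b, hb, rfl⟩
    rw [← map_mul, ← map_mul]
    exact congrArg _ (Subtype.ext (h.comm _ ha _ hb))
  · rintro _ ⟨a, ha, rfl⟩
    rw [← map_pow, show a ^ ℓ = 1 from Subtype.ext (h.expo _ ha), map_one]
  · rintro _ ⟨e, he, rfl⟩
    obtain ⟨a, h1, h2, h3⟩ := h.lift _ he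
    refine ⟨restrictHom p ⟨a, hp a (h3 z hz)⟩, ?_, ?_, ?_⟩
    · rw [← map_pow, ← map_one (restrictHom p)]
      exact congrArg _ (Subtype.ext h1)
    · rw [← map_pow]
      exact congrArg _ (Subtype.ext h2)
    · rintro _ ⟨b, hb, rfl⟩
      rw [← map_mul, ← map_mul]
      exact congrArg _ (Subtype.ext (h3 _ hb))

variable [hℓp : Fact ℓ.Prime]

/-- A group all of whose non-identity elements fix no non-zero vector has at most ℓ elements. -/
theorem card_le_of_fpf {V : Type*} [AddCommGroup V] [Module F V] [Nontrivial V]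
    (hℓ : (ℓ : F) ≠ 0) (E : Subgroup (Module.End F V)ˣ) [Finite E]
    (hcomm : ∀ a ∈ E, ∀ b ∈ E, a * b = b * a) (hexp : ∀ a ∈ E, a ^ ℓ = 1)
    (hfpf : ∀ e ∈ E, e ≠ 1 → ∀ v, e.val v = v → v = 0) : Nat.card E ≤ ℓ := by
  have hprime := hℓp.out
  by_contra hlt
  obtain ⟨e1, he1, hne1⟩ : ∃ e ∈ E, e ≠ 1 := by
    by_contra hc
    apply hlt
    have : E = ⊥ := (Subgroup.eq_bot_iff_forall E).2 fun x hx => not_not.1 fun h => hc ⟨x, hx, h⟩
    rw [this, Subgroup.card_bot]
    exact hprime.one_lt.le
  have hle : Subgroup.zpowers e1 ≤ E := Subgroup.zpowers_le.2 he1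
  have hc1 : Nat.card (Subgroup.zpowers e1) = ℓ := by
    rw [Nat.card_zpowers, orderOf_eq_prime (hexp _ he1) hne1]
  obtain ⟨e2, he2, he2'⟩ : ∃ e ∈ E, e ∉ Subgroup.zpowers e1 := by
    by_contra hc
    apply hlt
    have : E = Subgroup.zpowers e1 := le_antisymm (fun x hx => not_not.1 fun h => hc ⟨x, hx, h⟩) hle
    rw [this, hc1]
  -- the pieces of a vector
  obtain ⟨v, hv⟩ := exists_ne (0 : V)
  have hsum : ∀ e ∈ E, e ≠ 1 → ∀ w : V, ∑ i ∈ Finset.range ℓ, (e ^ i).val w = 0 := by
    intro e he hne w
    refine hfpf e he hne _ ?_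
    rw [map_sum]
    have hstep : ∀ i, e.val ((e ^ i).val w) = (e ^ (i + 1)).val w := fun i => by
      rw [pow_succ', Units.val_mul, Module.End.mul_apply]
    simp only [hstep]
    have hs := Finset.sum_range_succ' (fun i => (e ^ i).val w) ℓ
    rw [Finset.sum_range_succ] at hs
    have h0 : (e ^ ℓ).val w = (e ^ 0).val w := by rw [hexp e he, pow_zero]
    rw [h0] at hs
    exact (add_right_cancel hs).symm
  -- sum over the lines through e1^i e2 and the line through e1
  have hne2 : ∀ i : ℕ, e1 ^ i * e2 ≠ 1 := by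
    intro i h
    apply he2'
    rw [mul_eq_one_iff_inv_eq] at h
    rw [← h]
    exact inv_mem (pow_mem (Subgroup.mem_zpowers e1) i)
  have htot : ∑ i ∈ Finset.range ℓ, ∑ j ∈ Finset.range ℓ, ((e1 ^ i * e2) ^ j).val v = 0 :=
    Finset.sum_eq_zero fun i _ => hsum _ (mul_mem (pow_mem he1 i) he2) (hne2 i) v
  rw [Finset.sum_comm] at htot
  have hj : ∀ j ∈ Finset.range ℓ, j ≠ 0 →
      ∑ i ∈ Finset.range ℓ, ((e1 ^ i * e2) ^ j).val v = 0 := by
    intro j hjr hj0
    have hcp : ∀ i : ℕ, (e1 ^ i * e2) ^ j = (e1 ^ j) ^ i * e2 ^ j := by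
      intro i
      rw [(Commute.pow_left (hcomm _ he1 _ he2 : Commute e1 e2) i).mul_pow, ← pow_mul, mul_comm i j, pow_mul]
    have hne : e1 ^ j ≠ 1 := by
      intro h
      have := Nat.le_of_dvd (Nat.pos_of_ne_zero hj0) (orderOf_dvd_of_pow_eq_one h)
      rw [orderOf_eq_prime (hexp _ he1) hne1] at this
      exact absurd (Finset.mem_range.1 hjr) (by omega)
    have := hsum _ (pow_mem he1 j) hne ((e2 ^ j).val v)
    simpa only [hcp, Units.val_mul, Module.End.mul_apply] using this
  rw [Finset.sum_eq_single 0 hj (fun h => absurd (Finset.mem_range.2 hprime.pos) h)] at htot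
  simp only [pow_zero, Units.val_one, Module.End.one_apply, Finset.sum_const, Finset.card_range] at htot
  rw [← Nat.cast_smul_eq_nsmul F, smul_eq_zero] at htot
  exact hv (htot.resolve_left hℓ)

variable [Fintype F]

theorem card_sq_le (hℓ : (ℓ : F) ≠ 0)
    (hscal : ∀ a : Fˣ, a ^ m = 1 → a ^ s = 1) :
    ∀ (d : ℕ) {V : Type*} [AddCommGroup V] [Module F V] [FiniteDimensional F V]
      (E : Subgroup (Module.End F V)ˣ), finrank F V = d → Lifted ℓ m s E → Nat.card E ^ 2 ≤ ℓ ^ d := by
  intro d
  induction d using Nat.strong_induction_on with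
  | _ d ih =>
    intro V _ _ _ E hd hE
    haveI : Finite (Module.End F V) := Module.finite_of_finite F
    have hprime := hℓp.out
    rcases Nat.eq_zero_or_pos d with rfl | hpos
    · haveI : Subsingleton V := Module.finrank_zero_iff.1 hd
      haveI : Subsingleton (Module.End F V)ˣ := ⟨fun a b => Units.ext (LinearMap.ext fun v => Subsingleton.elim _ _)⟩
      simp
    haveI : Nontrivial V := Module.nontrivial_of_finrank_pos (R := F) (hd.symm ▸ hpos)
    by_cases hsplit : ∃ z ∈ E, z ≠ 1 ∧ ∃ v, v ≠ 0 ∧ z.val v = v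
    · obtain ⟨z, hz, hz1, v, hv, hzv⟩ := hsplit
      set T : Module.End F V := z.val - 1 with hT
      have hcomm : ∀ c : (Module.End F V)ˣ, c * z = z * c →
          c ∈ stabUnits (LinearMap.range T) ∧ c ∈ stabUnits (LinearMap.ker T) := by
        intro c hc
        have key : ∀ b : (Module.End F V)ˣ, b * z = z * b → ∀ w, T (b.val w) = b.val (T w) := by
          intro b hb w
          have h := congrArg (fun u : (Module.End F V)ˣ => u.val w) hb
          simp only [Units.val_mul, Module.End.mul_apply] at h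
          simp only [hT, LinearMap.sub_apply, Module.End.one_apply, map_sub, h]
        have hc' : c⁻¹ * z = z * c⁻¹ := (Commute.inv_left (hc : Commute c z))
        refine ⟨⟨?_, ?_⟩, ⟨?_, ?_⟩⟩
        · rintro _ ⟨w, rfl⟩; exact ⟨c.val w, key c hc w⟩
        · rintro _ ⟨w, rfl⟩; exact ⟨(c⁻¹).val w, key _ hc' w⟩
        · intro w hw
          rw [LinearMap.mem_ker] at hw ⊢
          rw [key c hc, hw, map_zero]
        · intro w hw
          rw [LinearMap.mem_ker] at hw ⊢
          exact (key _ hc' w).trans (by rw [hw, map_zero])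
      have hW : ∀ c ∈ E, c ∈ stabUnits (LinearMap.range T) := fun c hc => (hcomm c (hE.comm c hc z hz)).1
      have hU : ∀ c ∈ E, c ∈ stabUnits (LinearMap.ker T) := fun c hc => (hcomm c (hE.comm c hc z hz)).2
      have hdisj : Disjoint (LinearMap.range T) (LinearMap.ker T) := by
        rw [Submodule.disjoint_def]
        rintro y ⟨x, rfl⟩ hy
        rw [LinearMap.mem_ker] at hy
        have hzy : z.val (T x) = T x := by
          simpa [hT, sub_eq_zero] using hy
        have hpow : ∀ i : ℕ, (z ^ i).val x = x + i • T x := by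
          intro i
          induction i with
          | zero => simp
          | succ i ihi =>
            rw [pow_succ', Units.val_mul, Module.End.mul_apply, ihi, map_add, map_nsmul, hzy, succ_nsmul]
            simp only [hT, LinearMap.sub_apply, Module.End.one_apply]
            abel
        have h1 := hpow ℓ
        rw [hE.expo z hz, Units.val_one, Module.End.one_apply, left_eq_add, ← Nat.cast_smul_eq_nsmul F,
          smul_eq_zero] at h1
        exact h1.resolve_left hℓ
      have hdim := LinearMap.finrank_range_add_finrank_ker T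
      have hW0 : finrank F (LinearMap.range T) ≠ 0 := by
        intro h0
        rw [Submodule.finrank_eq_zero, LinearMap.range_eq_bot, hT, sub_eq_zero] at h0
        exact hz1 (Units.ext h0)
      have hU0 : finrank F (LinearMap.ker T) ≠ 0 := by
        intro h0
        rw [Submodule.finrank_eq_zero] at h0
        apply hv
        rw [← Submodule.mem_bot F, ← h0, LinearMap.mem_ker, hT, LinearMap.sub_apply, hzv,
          Module.End.one_apply, sub_self]
      have htop : LinearMap.range T ⊔ LinearMap.ker T = ⊤ := by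
        apply Submodule.eq_top_of_finrank_eq
        have := Submodule.finrank_sup_add_finrank_inf_eq (LinearMap.range T) (LinearMap.ker T)
        rw [hdisj.eq_bot, finrank_bot] at this
        omega
      -- restriction to the range
      let φ : E →* (Module.End F (LinearMap.range T))ˣ :=
        (restrictHom _).comp (Subgroup.inclusion (K := stabUnits (LinearMap.range T)) hW)
      have hrange : φ.range = (E.subgroupOf (stabUnits (LinearMap.range T))).map (restrictHom _) := by
        ext x
        constructor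
        · rintro ⟨e, rfl⟩
          exact ⟨⟨e.1, hW _ e.2⟩, e.2, rfl⟩
        · rintro ⟨e, he, rfl⟩
          exact ⟨⟨e.1, he⟩, rfl⟩
      have h1 := ih (finrank F (LinearMap.range T)) (by omega) φ.range rfl
        (hrange ▸ hE.restrict hz _ (fun c hc => (hcomm c hc).1))
      let K : Subgroup (Module.End F V)ˣ := φ.ker.map E.subtype
      have hKle : K ≤ E := Subgroup.map_subtype_le _
      let ψ : K →* (Module.End F (LinearMap.ker T))ˣ :=
        (restrictHom _).comp (Subgroup.inclusion (K := stabUnits (LinearMap.ker T)) fun c hc => hU c (hKle hc))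
      have hψ : Function.Injective ψ := by
        intro a b h
        apply Subtype.ext; apply Units.ext; apply LinearMap.ext
        intro w
        obtain ⟨u, hu, u', hu', rfl⟩ := Submodule.mem_sup.1 (htop.symm ▸ Submodule.mem_top (x := w))
        have e1 : ∀ c : K, c.1.val u = u := by
          rintro ⟨_, c, hc, rfl⟩
          have := congrArg (fun g : (Module.End F (LinearMap.range T))ˣ => ((g.val ⟨u, hu⟩ : _) : V)) (MonoidHom.mem_ker.1 hc)
          exact this
        have e2 := congrArg (fun g : (Module.End F (LinearMap.ker T))ˣ => ((g.val ⟨u', hu'⟩ : _) : V)) h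
        simp only [map_add, e1]
        exact congrArg _ e2
      have hz' := (hE.mono hKle)
      have hψr : Lifted ℓ m s ψ.range := by
        refine ⟨?_, ?_, ?_⟩
        · rintro _ ⟨a, rfl⟩ _ ⟨b, rfl⟩
          rw [← map_mul, ← map_mul]
          exact congrArg _ (Subtype.ext (hz'.comm _ a.2 _ b.2))
        · rintro _ ⟨a, rfl⟩
          rw [← map_pow, show a ^ ℓ = 1 from Subtype.ext (hz'.expo _ a.2), map_one]
        · rintro _ ⟨e, rfl⟩
          obtain ⟨a, ha1, ha2, ha3⟩ := hE.lift _ (hKle e.2)
          refine ⟨restrictHom _ ⟨a, (hcomm a (ha3 z hz)).2⟩, ?_, ?_, ?_⟩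
          · rw [← map_pow, ← map_one (restrictHom _)]
            exact congrArg _ (Subtype.ext ha1)
          · rw [← map_pow]
            exact congrArg _ (Subtype.ext ha2)
          · rintro _ ⟨b, rfl⟩
            show restrictHom _ _ * restrictHom _ _ = restrictHom _ _ * restrictHom _ _
            rw [← map_mul, ← map_mul]
            exact congrArg _ (Subtype.ext (ha3 _ (hKle b.2)))
      have h2 := ih (finrank F (LinearMap.ker T)) (by omega) ψ.range rfl hψr
      rw [Nat.card_congr (MonoidHom.ofInjective hψ).symm.toEquiv] at h2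
      have hcardK : Nat.card K = Nat.card φ.ker :=
        Subgroup.card_map_of_injective (K := φ.ker) E.subtype_injective
      rw [hcardK] at h2
      rw [Subgroup.card_eq_card_quotient_mul_card_subgroup φ.ker,
        Nat.card_congr (QuotientGroup.quotientKerEquivRange φ).toEquiv, mul_pow, ← hd, ← hdim, pow_add]
      exact Nat.mul_le_mul h1 h2
    · simp only [not_exists, not_and] at hsplit
      have hcard := card_le_of_fpf hℓ E hE.comm hE.expo
        fun e he hne v hv => not_not.1 fun hv0 => hsplit e he hne v hv0 hv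
      by_cases hd1 : d = 1
      · have h1 : Nat.card E = 1 := by
          rw [Nat.card_eq_one_iff_unique]
          refine ⟨⟨fun a b => Subtype.ext ?_⟩, inferInstance⟩
          have key : ∀ e ∈ E, e = 1 := by
            intro e he
            obtain ⟨a, ha1, ha2, -⟩ := hE.lift e he
            let φ : F ≃ₐ[F] Module.End F V :=
              AlgEquiv.ofBijective (Algebra.ofId F (Module.End F V)) ⟨(algebraMap F (Module.End F V)).injective,
                fun f => by
                  obtain ⟨v, hv⟩ := exists_ne (0 : V)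
                  obtain ⟨c, hc⟩ := exists_smul_eq_of_finrank_eq_one (hd.trans hd1) hv (f v)
                  refine ⟨c, LinearMap.ext fun w => ?_⟩
                  obtain ⟨t, rfl⟩ := exists_smul_eq_of_finrank_eq_one (hd.trans hd1) hv w
                  show c • (t • v) = f (t • v)
                  rw [map_smul, ← hc, smul_comm]⟩
            let χ : Fˣ ≃* (Module.End F V)ˣ := Units.mapEquiv φ.toMulEquiv
            obtain ⟨c, rfl⟩ := χ.surjective a
            rw [← ha2, ← map_pow, hscal c (χ.injective (by rw [map_pow, ha1, map_one])), map_one]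
          rw [key _ a.2, key _ b.2]
        rw [h1, one_pow]
        exact Nat.one_le_pow _ _ hprime.pos
      · calc Nat.card E ^ 2 ≤ ℓ ^ 2 := Nat.pow_le_pow_left hcard 2
          _ ≤ ℓ ^ d := Nat.pow_le_pow_right hprime.pos (by omega)

/-! ### The subgroup of Sp -/

variable {n : ℕ}

/-- The product of `n` copies of SL_2 inside Sp_{2n}. -/
noncomputable def sl2Pow : (Fin n → Matrix.SpecialLinearGroup (Fin 2) F) →* Matrix.symplecticGroup (Fin n) F where
  toFun g := ⟨Matrix.fromBlocks (Matrix.diagonal fun i => (g i).1 0 0) (Matrix.diagonal fun i => (g i).1 0 1)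
      (Matrix.diagonal fun i => (g i).1 1 0) (Matrix.diagonal fun i => (g i).1 1 1), by
    have hdet : ∀ i, (g i).1 0 0 * (g i).1 1 1 - (g i).1 0 1 * (g i).1 1 0 = 1 := fun i => by
      have := (g i).2
      rwa [Matrix.det_fin_two] at this
    rw [SymplecticGroup.mem_iff, Matrix.J, Matrix.fromBlocks_transpose, Matrix.fromBlocks_multiply,
      Matrix.fromBlocks_multiply]
    simp only [Matrix.diagonal_transpose, Matrix.mul_zero, Matrix.mul_one, Matrix.mul_neg, zero_add, add_zero,
      Matrix.diagonal_mul_diagonal, Matrix.neg_mul]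
    congr 1
    · rw [← Matrix.diagonal_zero, Matrix.diagonal_neg, Matrix.diagonal_add]
      exact congrArg Matrix.diagonal (funext fun i => by ring)
    · rw [← Matrix.diagonal_one, Matrix.diagonal_neg, Matrix.diagonal_neg, Matrix.diagonal_add]
      exact congrArg Matrix.diagonal (funext fun i => by linear_combination (-1 : F) * hdet i)
    · rw [← Matrix.diagonal_one, Matrix.diagonal_neg, Matrix.diagonal_add]
      exact congrArg Matrix.diagonal (funext fun i => by linear_combination hdet i)
    · rw [← Matrix.diagonal_zero, Matrix.diagonal_neg, Matrix.diagonal_add]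
      exact congrArg Matrix.diagonal (funext fun i => by ring)⟩
  map_one' := by
    apply Subtype.ext
    simp [Matrix.fromBlocks_one]
  map_mul' g h := by
    apply Subtype.ext
    simp only [Submonoid.coe_mul, Matrix.fromBlocks_multiply, Matrix.diagonal_mul_diagonal, Matrix.diagonal_add]
    simp [Pi.mul_apply, Matrix.mul_apply, Fin.sum_univ_two]

omit [Fintype F] in
theorem sl2Pow_injective : Function.Injective (sl2Pow (F := F) (n := n)) := by
  intro g h hgh
  have hm := congrArg Subtype.val hgh
  simp only [sl2Pow, MonoidHom.coe_mk, OneHom.coe_mk] at hm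
  obtain ⟨ha, hb, hc, hd⟩ := Matrix.fromBlocks_inj.1 hm
  funext i
  apply Subtype.ext
  ext a b
  fin_cases a <;> fin_cases b
  · exact congrFun (Matrix.diagonal_injective ha) i
  · exact congrFun (Matrix.diagonal_injective hb) i
  · exact congrFun (Matrix.diagonal_injective hc) i
  · exact congrFun (Matrix.diagonal_injective hd) i

theorem dvd_card_SL2 {ℓ : ℕ} (h : ℓ ∣ Fintype.card F + 1) :
    ℓ ∣ Nat.card (Matrix.SpecialLinearGroup (Fin 2) F) := by
  have h1 := Cfsg.Agent.Lead.GLBasic.card_GL_eq (F := F) 2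
  rw [Matrix.card_GL_field, Fin.prod_univ_two] at h1
  obtain ⟨q, hq⟩ : ∃ q, Fintype.card F = q + 2 := ⟨Fintype.card F - 2, by have := Fintype.one_lt_card (α := F); omega⟩
  rw [hq] at h1 h
  have h2 : Nat.card (Matrix.SpecialLinearGroup (Fin 2) F) = (q + 2) * ((q + 2 + 1) * (q + 1)) := by
    refine Nat.eq_of_mul_eq_mul_left (show 0 < q + 1 by omega) ?_
    rw [show q + 2 - 1 = q + 1 by omega] at h1
    rw [← h1]
    simp only [Fin.val_zero, Fin.val_one, pow_zero, pow_one]
    rw [show (q + 2) ^ 2 - 1 = (q + 3) * (q + 1) from Nat.sub_eq_of_eq_add (by ring),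
      show (q + 2) ^ 2 - (q + 2) = (q + 2) * (q + 1) from Nat.sub_eq_of_eq_add (by ring)]
    ring
  rw [h2]
  exact (h.mul_right _).mul_left _

omit hℓp in
theorem exists_torus_element : ∃ (ℓ m s : ℕ) (a : Matrix.SpecialLinearGroup (Fin 2) F), ℓ.Prime ∧ (ℓ : F) ≠ 0 ∧
    (∀ c : Fˣ, c ^ m = 1 → c ^ s = 1) ∧ a ^ m = 1 ∧ orderOf (a ^ s) = ℓ := by
  classical
  have hq : ((Fintype.card F : ℕ) : F) = 0 := Nat.cast_card_eq_zero F
  by_cases hodd : ∃ ℓ, ℓ.Prime ∧ ℓ ∣ Fintype.card F + 1 ∧ ℓ ≠ 2
  · obtain ⟨ℓ, hl, hdvd, hl2⟩ := hodd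
    haveI : Fact ℓ.Prime := ⟨hl⟩
    obtain ⟨a, ha⟩ := exists_prime_orderOf_dvd_card' ℓ (dvd_card_SL2 hdvd)
    refine ⟨ℓ, ℓ, 1, a, hl, ?_, ?_, ha ▸ pow_orderOf_eq_one a, by rw [pow_one, ha]⟩
    · intro h0
      have h1 : ((Fintype.card F + 1 : ℕ) : F) = 0 := by
        obtain ⟨k, hk⟩ := hdvd
        rw [hk, Nat.cast_mul, h0, zero_mul]
      rw [Nat.cast_add, hq, zero_add, Nat.cast_one] at h1
      exact one_ne_zero h1
    · intro c hc
      have hcd : orderOf c ∣ Fintype.card F - 1 := Fintype.card_units F ▸ orderOf_dvd_card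
      rcases (Nat.dvd_prime hl).1 (orderOf_dvd_of_pow_eq_one hc) with h | h
      · rw [pow_one]; exact orderOf_eq_one_iff.1 h
      · rw [h] at hcd
        exfalso
        have h2 : ℓ ∣ 2 := by
          have := Nat.dvd_sub hdvd hcd
          rwa [show Fintype.card F + 1 - (Fintype.card F - 1) = 2 by
            have := Fintype.one_lt_card (α := F); omega] at this
        exact hl2 ((Nat.prime_dvd_prime_iff_eq hl Nat.prime_two).1 h2)
  · simp only [not_exists, not_and, not_not] at hodd
    have hpow : Fintype.card F + 1 = 2 ^ (Fintype.card F + 1).primeFactorsList.length :=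
      Nat.eq_prime_pow_of_unique_prime_dvd (by omega) fun hd hdvd => hodd _ hd hdvd
    have hq3 : 4 ∣ Fintype.card F + 1 := by
      rw [hpow]
      have h1 : 2 ≤ (Fintype.card F + 1).primeFactorsList.length := by
        by_contra hc
        have := Fintype.one_lt_card (α := F)
        have h3 : 2 ^ (Fintype.card F + 1).primeFactorsList.length ≤ 2 ^ 1 :=
          Nat.pow_le_pow_right (by norm_num) (by omega)
        omega
      exact (show 4 = 2 ^ 2 by norm_num) ▸ Nat.pow_dvd_pow 2 h1
    have h2F : (2 : F) ≠ 0 := by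
      intro h0
      have h1 : ((Fintype.card F + 1 : ℕ) : F) = 0 := by
        obtain ⟨k, hk⟩ := hq3
        rw [hk]; push_cast
        rw [show (4 : F) = 2 * 2 by norm_num, h0]; simp
      rw [Nat.cast_add, hq, zero_add, Nat.cast_one] at h1
      exact one_ne_zero h1
    obtain ⟨a, ha⟩ : ∃ a : Matrix.SpecialLinearGroup (Fin 2) F, (a : Matrix (Fin 2) (Fin 2) F) = !![0, 1; -1, 0] :=
      ⟨⟨!![0, 1; -1, 0], by simp [Matrix.det_fin_two]⟩, rfl⟩
    have hsq : ((a ^ 2 : Matrix.SpecialLinearGroup (Fin 2) F) : Matrix (Fin 2) (Fin 2) F) = !![-1, 0; 0, -1] := by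
      rw [Matrix.SpecialLinearGroup.coe_pow, ha, pow_two]
      simp [Matrix.mul_fin_two]
    have h4 : a ^ 4 = 1 := by
      apply Subtype.ext
      rw [show (4 : ℕ) = 2 * 2 from rfl, pow_mul, Matrix.SpecialLinearGroup.coe_pow, hsq, pow_two]
      simp [Matrix.mul_fin_two, Matrix.one_fin_two]
    haveI : Fact (Nat.Prime 2) := ⟨Nat.prime_two⟩
    refine ⟨2, 4, 2, a, Nat.prime_two, by exact_mod_cast h2F, ?_, h4, orderOf_eq_prime (by rw [← pow_mul]; exact h4) ?_⟩
    · intro c hc
      have hcd : orderOf c ∣ Fintype.card F - 1 := Fintype.card_units F ▸ orderOf_dvd_card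
      have h4' := orderOf_dvd_of_pow_eq_one hc
      apply orderOf_dvd_iff_pow_eq_one.1
      have h5 : orderOf c ∣ Nat.gcd 4 (Fintype.card F - 1) := Nat.dvd_gcd h4' hcd
      have h6 : Nat.gcd 4 (Fintype.card F - 1) ∣ 2 := by
        have := Fintype.one_lt_card (α := F)
        obtain ⟨k, hk⟩ := hq3
        have := Nat.dvd_sub ((Nat.gcd_dvd_left 4 (Fintype.card F - 1)).mul_right k) (Nat.gcd_dvd_right 4 (Fintype.card F - 1))
        rwa [show 4 * k - (Fintype.card F - 1) = 2 by omega] at this
      exact h5.trans h6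
    · intro h
      have := congrFun (congrFun (congrArg Subtype.val h) 0) 0
      rw [hsq] at this
      simp at this
      exact h2F (by linear_combination -this)

theorem min_degree (n : ℕ) {d : ℕ}
    (ρ : ↥(Matrix.symplecticGroup (Fin n) F) →* GL (Fin d) F) (hρ : Function.Injective ρ) : 2 * n ≤ d := by
  obtain ⟨ℓ, m, s, a, hl, hl0, hscal, ham, has⟩ := exists_torus_element (F := F)
  haveI : Fact ℓ.Prime := ⟨hl⟩
  let tau : GL (Fin d) F →* (Module.End F (Fin d → F))ˣ :=
    Units.map (Matrix.toLinAlgEquiv' (R := F) (n := Fin d)).toRingEquiv.toMonoidHom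
  have htau : Function.Injective tau := fun x y h => Units.ext
    ((Matrix.toLinAlgEquiv' (R := F) (n := Fin d)).injective (congrArg Units.val h))
  let Φ : (Fin n → Matrix.SpecialLinearGroup (Fin 2) F) →* (Module.End F (Fin d → F))ˣ :=
    tau.comp (ρ.comp sl2Pow)
  have hΦ : Function.Injective Φ := htau.comp (hρ.comp sl2Pow_injective)
  let ι : (Fin n → Subgroup.zpowers (a ^ s)) →* (Fin n → Matrix.SpecialLinearGroup (Fin 2) F) :=
    { toFun := fun g i => (g i).1
      map_one' := rfl
      map_mul' := fun _ _ => rfl }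
  have hinj : Function.Injective (Φ.comp ι) := hΦ.comp fun g h e => funext fun i => Subtype.ext (congrFun e i)
  have hE : Lifted ℓ m s (Φ.comp ι).range := by
    refine ⟨?_, ?_, ?_⟩
    · rintro _ ⟨x, rfl⟩ _ ⟨y, rfl⟩
      rw [← map_mul, ← map_mul]
      congr 1
      funext i
      exact Subtype.ext (Subgroup.mem_zpowers_iff.1 (x i).2 |>.elim fun u hu => by
        obtain ⟨v, hv⟩ := Subgroup.mem_zpowers_iff.1 (y i).2
        show (x i).1 * (y i).1 = (y i).1 * (x i).1
        rw [← hu, ← hv, ← zpow_add, ← zpow_add, add_comm])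
    · rintro _ ⟨x, rfl⟩
      rw [← map_pow, show x ^ ℓ = 1 from funext fun i => by
        rw [Pi.pow_apply, Pi.one_apply, ← has, ← Nat.card_zpowers]
        exact pow_card_eq_one', map_one]
    · rintro _ ⟨x, rfl⟩
      choose u hu using fun i => Subgroup.mem_zpowers_iff.1 (x i).2
      refine ⟨Φ fun i => a ^ u i, ?_, ?_, ?_⟩
      · rw [← map_pow, show (fun i => a ^ u i) ^ m = 1 from funext fun i => by
          rw [Pi.pow_apply, Pi.one_apply, ← zpow_natCast, ← zpow_mul, mul_comm, zpow_mul, zpow_natCast, ham, one_zpow],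
          map_one]
      · rw [← map_pow]
        show Φ _ = Φ (ι x)
        congr 1
        funext i
        show (a ^ u i) ^ s = (x i).1
        rw [← hu i, ← zpow_natCast, ← zpow_mul, mul_comm, zpow_mul, zpow_natCast]
      · rintro _ ⟨y, rfl⟩
        show Φ _ * Φ (ι y) = Φ (ι y) * Φ _
        rw [← map_mul, ← map_mul]
        congr 1
        funext i
        obtain ⟨v, hv⟩ := Subgroup.mem_zpowers_iff.1 (y i).2
        show a ^ u i * (y i).1 = (y i).1 * a ^ u i
        rw [← hv]
        exact ((Commute.refl a).pow_right s).zpow_zpow (u i) v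
  have key := card_sq_le (ℓ := ℓ) hl0 hscal d (Φ.comp ι).range (Module.finrank_fin_fun F) hE
  rw [Nat.card_congr (MonoidHom.ofInjective hinj).symm.toEquiv, Nat.card_fun, Nat.card_zpowers, has,
    Nat.card_eq_fintype_card, Fintype.card_fin, ← pow_mul, mul_comm] at key
  exact (Nat.pow_le_pow_iff_right hl.one_lt).1 key

end Cfsg.Agent.Small.SpMinDegree
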