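import Cfsg.Agent.Lib.Small.SymplecticClasses
import Cfsg.Agent.Lib.Small.UnitaryConj
import Cfsg.Agent.Lib.Classical.UnitaryCount
import Cfsg.Agent.Lib.Classical.UnitaryForm

/-!
# Fixed-point-free elements of order three in symplectic groups
-/

set_option autoImplicit false
set_option linter.unusedSectionVars false

namespace Cfsg.Agent.Small.SpOrderThree

open Matrix Polynomial UniqueFactorizationMonoid Cfsg.Agent.Small

open scoped MatrixGroups

variable {F : Type*} [Field F] {m : ℕ}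

/-- The model of an element `a + ω c`. -/
def blk (a c : Matrix (Fin m) (Fin m) F) : Matrix (Fin m ⊕ Fin m) (Fin m ⊕ Fin m) F :=
  Matrix.fromBlocks a (-c) c (a - c)

theorem blk_mem_iff (a c : Matrix (Fin m) (Fin m) F) :
    blk a c ∈ Matrix.symplecticGroup (Fin m) F ↔ aᵀ * a - cᵀ * a + cᵀ * c = 1 ∧ aᵀ * c = cᵀ * a := by
  rw [SymplecticGroup.mem_iff', blk, Matrix.J, Matrix.fromBlocks_transpose, Matrix.fromBlocks_multiply,
    Matrix.fromBlocks_multiply, Matrix.fromBlocks_inj]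
  simp only [Matrix.mul_zero, zero_add, add_zero, Matrix.mul_one, Matrix.mul_neg, Matrix.neg_mul, neg_neg,
    Matrix.transpose_neg, Matrix.transpose_sub, Matrix.sub_mul, Matrix.mul_sub]
  constructor
  · rintro ⟨h1, h2, h3, h4⟩
    have e : aᵀ * c = cᵀ * a := by linear_combination (norm := abel) -h1
    exact ⟨by linear_combination (norm := abel) h3, e⟩
  · rintro ⟨h1, h2⟩
    exact ⟨by linear_combination (norm := abel) -h2, by linear_combination (norm := abel) -h1 + h2,
      by linear_combination (norm := abel) h1, by linear_combination (norm := abel) -h2⟩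

theorem blk_injective : Function.Injective fun t : Matrix (Fin m) (Fin m) F × Matrix (Fin m) (Fin m) F =>
    blk t.1 t.2 := fun t t' h => by
  simp only [blk, Matrix.fromBlocks_inj] at h
  exact Prod.ext h.1 h.2.2.1

/-- The standard element of order three. -/
def x₀ : Matrix (Fin m ⊕ Fin m) (Fin m ⊕ Fin m) F := blk 0 1

theorem commute_x₀_iff (X : Matrix (Fin m ⊕ Fin m) (Fin m ⊕ Fin m) F) :
    X * x₀ = x₀ * X ↔ ∃ a c, X = blk a c := by
  constructor
  · intro h
    rw [← Matrix.fromBlocks_toBlocks X, x₀, blk, Matrix.fromBlocks_multiply, Matrix.fromBlocks_multiply,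
      Matrix.fromBlocks_inj] at h
    simp only [Matrix.mul_zero, zero_add, Matrix.zero_mul, Matrix.mul_neg, Matrix.mul_one, Matrix.neg_mul,
      Matrix.one_mul, zero_sub] at h
    obtain ⟨h1, -, h3, -⟩ := h
    refine ⟨X.toBlocks₁₁, X.toBlocks₂₁, ?_⟩
    conv_lhs => rw [← Matrix.fromBlocks_toBlocks X]
    rw [blk, Matrix.fromBlocks_inj]
    exact ⟨rfl, h1, rfl, by rw [h3, sub_eq_add_neg]⟩
  · rintro ⟨a, c, rfl⟩
    simp only [x₀, blk, Matrix.fromBlocks_multiply, Matrix.mul_zero, zero_add, add_zero, Matrix.zero_mul,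
      Matrix.mul_neg, Matrix.mul_one, Matrix.neg_mul, Matrix.one_mul, zero_sub, Matrix.fromBlocks_inj]
    refine ⟨?_, ?_, ?_, ?_⟩ <;> first | trivial | abel

theorem x₀_mem : (x₀ : Matrix (Fin m ⊕ Fin m) (Fin m ⊕ Fin m) F) ∈ Matrix.symplecticGroup (Fin m) F := by
  rw [x₀, blk_mem_iff]
  simp

theorem x₀_sq : (x₀ : Matrix (Fin m ⊕ Fin m) (Fin m ⊕ Fin m) F) ^ 2 + x₀ + 1 = 0 := by
  rw [pow_two, x₀, blk, Matrix.fromBlocks_multiply, ← Matrix.fromBlocks_one, Matrix.fromBlocks_add,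
    Matrix.fromBlocks_add, ← Matrix.fromBlocks_zero, Matrix.fromBlocks_inj]
  simp

variable [Fintype F] {q : ℕ}

theorem irreducible_quad (hF : Fintype.card F = q) (hq : q % 3 = 2) : Irreducible (X ^ 2 + X + 1 : F[X]) := by
  have hd : (X ^ 2 + X + 1 : F[X]).natDegree = 2 := by compute_degree!
  refine (Polynomial.irreducible_iff_roots_eq_zero_of_degree_le_three hd.ge (by rw [hd]; norm_num)).2 ?_
  refine Multiset.eq_zero_of_forall_notMem fun z hz => ?_
  rw [mem_roots', IsRoot] at hz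
  have hz' : z ^ 2 + z + 1 = 0 := by simpa using hz.2
  have hz0 : z ≠ 0 := fun e => by simp [e] at hz'
  have h3 : z ^ 3 = 1 := by linear_combination (z - 1) * hz'
  obtain ⟨u, hu⟩ : ∃ u, q = 3 * u + 2 := ⟨q / 3, by omega⟩
  have h1 := FiniteField.pow_card_sub_one_eq_one z hz0
  rw [hF, hu, show 3 * u + 2 - 1 = 3 * u + 1 by omega, pow_succ, pow_mul, h3, one_pow, one_mul] at h1
  rw [h1] at hz'
  have h30 : ((3 : ℕ) : F) = 0 := by push_cast; linear_combination hz'
  obtain ⟨p, hp⟩ := CharP.exists F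
  obtain ⟨f, hpp, hf⟩ := FiniteField.card F p
  have h3p : p = 3 := (Nat.prime_dvd_prime_iff_eq hpp Nat.prime_three).1 ((CharP.cast_eq_zero_iff F p 3).1 h30)
  rw [hF, h3p] at hf
  have h33 : (3 : ℕ) ∣ q := hf ▸ dvd_pow_self 3 f.ne_zero
  omega

theorem charpoly_eq (hF : Fintype.card F = q) (hq : q % 3 = 2) (A : Matrix (Fin m ⊕ Fin m) (Fin m ⊕ Fin m) F)
    (hA : A ^ 2 + A + 1 = 0) : A.charpoly = (X ^ 2 + X + 1) ^ m := by
  classical
  obtain ⟨f, hf⟩ : ∃ f : F[X], f = X ^ 2 + X + 1 := ⟨_, rfl⟩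
  have hirr : Irreducible f := hf ▸ irreducible_quad hF hq
  have hfm : f.Monic := by rw [hf]; monicity!
  have hann : aeval A f = 0 := by rw [hf, map_add, map_add, map_pow, aeval_X, map_one, hA]
  have hP := Matrix.charpoly_monic A
  have hall : normalizedFactors A.charpoly = Multiset.replicate (normalizedFactors A.charpoly).card f := by
    refine Multiset.eq_replicate.2 ⟨rfl, fun g hg => ?_⟩
    have hgi := irreducible_of_normalized_factor g hg
    have hgm : g.Monic := by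
      rw [← normalize_normalized_factor g hg]; exact monic_normalize hgi.ne_zero
    exact eq_of_monic_of_associated hgm hfm (hgi.associated_of_dvd hirr
      ((Semisimple.dvd_minpoly_of_dvd_charpoly A hgi (dvd_of_mem_normalizedFactors hg)).trans (minpoly.dvd F A hann)))
  have hprod : f ^ (normalizedFactors A.charpoly).card = A.charpoly := by
    refine eq_of_monic_of_associated (hfm.pow _) hP ?_
    have h := prod_normalizedFactors hP.ne_zero
    rwa [hall, Multiset.prod_replicate] at h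
  have hdeg := congrArg natDegree hprod
  rw [hfm.natDegree_pow, Matrix.charpoly_natDegree_eq_dim, Fintype.card_sum, Fintype.card_fin] at hdeg
  have hd : f.natDegree = 2 := by rw [hf]; compute_degree!
  rw [hd] at hdeg
  rw [← hprod, ← hf, show (normalizedFactors A.charpoly).card = m by omega]

variable {L : Type*} [Field L] [Algebra F L]

/-- The element `a + ω c`. -/
def embed (ω : L) (t : Matrix (Fin m) (Fin m) F × Matrix (Fin m) (Fin m) F) : Matrix (Fin m) (Fin m) L :=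
  t.1.map (algebraMap F L) + ω • t.2.map (algebraMap F L)

set_option maxHeartbeats 1000000 in
theorem card_commutant [StarRing L] [Fintype L] (ω : L) (hω : ω ^ 2 + ω + 1 = 0)
    (hωb : ∀ y : L, ∃! t : F × F, algebraMap F L t.1 + ω * algebraMap F L t.2 = y)
    (hωs : star ω = ω ^ 2) (hFs : ∀ a : F, star (algebraMap F L a) = algebraMap F L a) :
    Nat.card {X : Matrix (Fin m ⊕ Fin m) (Fin m ⊕ Fin m) F //
        X ∈ Matrix.symplecticGroup (Fin m) F ∧ X * x₀ = x₀ * X} =
      Nat.card {M : Matrix (Fin m) (Fin m) L // Mᴴ * M = 1} := by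
  have hbij : Function.Bijective (embed (F := F) (m := m) ω) := by
    refine ⟨fun s t h => ?_, fun M => ?_⟩
    · have h' : ∀ i j, (s.1 i j, s.2 i j) = (t.1 i j, t.2 i j) := fun i j =>
        (hωb (embed ω t i j)).unique (by rw [← h]; rfl) rfl
      exact Prod.ext (Matrix.ext fun i j => (Prod.mk.injEq _ _ _ _ ▸ h' i j).1)
        (Matrix.ext fun i j => (Prod.mk.injEq _ _ _ _ ▸ h' i j).2)
    · choose t ht using fun i j => (hωb (M i j)).exists
      exact ⟨(Matrix.of fun i j => (t i j).1, Matrix.of fun i j => (t i j).2), Matrix.ext fun i j => ht i j⟩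
  have hmap : ∀ A B : Matrix (Fin m) (Fin m) F, (A * B).map (algebraMap F L) =
      A.map (algebraMap F L) * B.map (algebraMap F L) := fun A B => Matrix.map_mul
  have hherm : ∀ t : Matrix (Fin m) (Fin m) F × Matrix (Fin m) (Fin m) F,
      (embed ω t)ᴴ * embed ω t = embed ω (t.1ᵀ * t.1 - t.2ᵀ * t.1 + t.2ᵀ * t.2, t.1ᵀ * t.2 - t.2ᵀ * t.1) := by
    intro t
    have hct : ∀ A : Matrix (Fin m) (Fin m) F, (A.map (algebraMap F L))ᴴ = Aᵀ.map (algebraMap F L) := fun A => by
      ext i j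
      simp [hFs]
    have h3 : ω * ω ^ 2 = 1 := by linear_combination (ω - 1) * hω
    have h3' : ω ^ 2 * ω = 1 := by rw [mul_comm, h3]
    have h2 : ω ^ 2 = -1 - ω := by linear_combination hω
    simp only [embed, Matrix.conjTranspose_add, Matrix.conjTranspose_smul, hct, hωs, Matrix.add_mul,
      Matrix.mul_add, Matrix.smul_mul, Matrix.mul_smul, smul_smul, Matrix.map_add (algebraMap F L) (map_add _),
      Matrix.map_sub (algebraMap F L) (map_sub _), hmap, h3, h3', one_smul]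
    match_scalars <;> first | ring1 | linear_combination hω | linear_combination (ω - 1) * hω
  have hone : embed (F := F) (m := m) ω (1, 0) = 1 := by
    rw [embed, Matrix.map_one _ (map_zero _) (map_one _), Matrix.map_zero _ (map_zero _), smul_zero, add_zero]
  have hiff : ∀ t : Matrix (Fin m) (Fin m) F × Matrix (Fin m) (Fin m) F,
      (embed ω t)ᴴ * embed ω t = 1 ↔ blk t.1 t.2 ∈ Matrix.symplecticGroup (Fin m) F := fun t => by
    rw [hherm, ← hone, hbij.1.eq_iff, Prod.mk.injEq, sub_eq_zero, blk_mem_iff]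
  symm
  refine (Nat.card_congr (Equiv.subtypeEquiv (Equiv.ofBijective _ hbij)
    (p := fun t => blk t.1 t.2 ∈ Matrix.symplecticGroup (Fin m) F) fun t => (hiff t).symm)).symm.trans ?_
  refine Nat.card_eq_of_bijective (fun t => ⟨blk t.1.1 t.1.2, t.2, (commute_x₀_iff _).2 ⟨_, _, rfl⟩⟩) ⟨?_, ?_⟩
  · exact fun s t h => Subtype.ext (blk_injective (congrArg Subtype.val h))
  · rintro ⟨X, hX, hc⟩
    obtain ⟨a, c, rfl⟩ := (commute_x₀_iff X).1 hc
    exact ⟨⟨(a, c), hX⟩, rfl⟩

theorem card_centralizer (hF : Fintype.card F = q) (hq : q % 3 = 2) (x : Matrix.symplecticGroup (Fin m) F)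
    (hx3 : x ^ 3 = 1) (hfpf : IsUnit ((x : Matrix (Fin m ⊕ Fin m) (Fin m ⊕ Fin m) F) - 1)) :
    Nat.card ↥(Subgroup.centralizer ({x} : Set ↥(Matrix.symplecticGroup (Fin m) F))) =
      q ^ (m * (m - 1) / 2) * ∏ i ∈ Finset.range m, (if Even i then q ^ (i + 1) + 1 else q ^ (i + 1) - 1) := by
  classical
  obtain ⟨p, hp⟩ := CharP.exists F
  obtain ⟨f, hpp, hf⟩ := FiniteField.card F p
  haveI : Fact p.Prime := ⟨hpp⟩
  have hp3 : Nat.Coprime 3 p := by
    refine (Nat.coprime_primes Nat.prime_three hpp).2 fun e => ?_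
    have h33 : (3 : ℕ) ∣ q := by rw [← hF, hf, ← e]; exact dvd_pow_self 3 f.ne_zero
    omega
  have hxsq : x.1 ^ 2 + x.1 + 1 = 0 := by
    have h : (x.1 - 1) * (x.1 ^ 2 + x.1 + 1) = 0 := by
      have h3 : x.1 ^ 3 = 1 := by rw [← SubmonoidClass.coe_pow, hx3, OneMemClass.coe_one]
      rw [mul_add, mul_add, sub_mul, sub_mul, sub_mul, one_mul, one_mul, one_mul, mul_one, ← pow_succ', h3, ← pow_two]
      abel
    exact (hfpf.mul_right_eq_zero).1 h
  obtain ⟨y, hy⟩ : ∃ y : Matrix.symplecticGroup (Fin m) F, y.1 = x₀ := ⟨⟨x₀, x₀_mem⟩, rfl⟩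
  have hysq : y.1 ^ 2 + y.1 + 1 = 0 := by rw [hy]; exact x₀_sq
  have hy3 : y ^ 3 = 1 := Subtype.ext (by
    rw [SubmonoidClass.coe_pow, OneMemClass.coe_one]
    have h : y.1 ^ 3 - 1 = (y.1 - 1) * (y.1 ^ 2 + y.1 + 1) := by
      rw [mul_add, mul_add, sub_mul, sub_mul, sub_mul, one_mul, one_mul, one_mul, mul_one, ← pow_succ', ← pow_two]
      abel
    rw [← sub_eq_zero, h, hysq, mul_zero])
  obtain ⟨c, hc⟩ := isConj_iff.1 (SymplecticClasses.conj_of_charpoly p y x
    (Nat.Coprime.coprime_dvd_left (orderOf_dvd_of_pow_eq_one hy3) hp3)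
    (Nat.Coprime.coprime_dvd_left (orderOf_dvd_of_pow_eq_one hx3) hp3)
    (by rw [charpoly_eq hF hq _ hysq, charpoly_eq hF hq _ hxsq]))
  have e1 : Nat.card ↥(Subgroup.centralizer ({x} : Set ↥(Matrix.symplecticGroup (Fin m) F))) =
      Nat.card {X : Matrix (Fin m ⊕ Fin m) (Fin m ⊕ Fin m) F //
        X ∈ Matrix.symplecticGroup (Fin m) F ∧ X * x₀ = x₀ * X} := by
    refine Nat.card_eq_of_bijective (fun g => ⟨(c⁻¹ * g.1 * c).1, (c⁻¹ * g.1 * c).2, ?_⟩) ⟨?_, ?_⟩
    · have hg : g.1 * x = x * g.1 := (Subgroup.mem_centralizer_singleton_iff.1 g.2)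
      rw [← hy, ← Submonoid.coe_mul, ← Submonoid.coe_mul]
      refine congrArg Subtype.val ?_
      obtain ⟨g1, hg1⟩ : ∃ g1, g1 = g.1 := ⟨_, rfl⟩
      rw [← hg1] at hg ⊢
      rw [← hc] at hg
      calc c⁻¹ * g1 * c * y = c⁻¹ * (g1 * (c * y * c⁻¹)) * c := by group
        _ = c⁻¹ * (c * y * c⁻¹ * g1) * c := by rw [hg]
        _ = y * (c⁻¹ * g1 * c) := by group
    · intro g h e
      have := congrArg Subtype.val e
      exact Subtype.ext (mul_left_cancel (mul_right_cancel (Subtype.ext this : c⁻¹ * g.1 * c = c⁻¹ * h.1 * c)))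
    · rintro ⟨X, hX, hXc⟩
      obtain ⟨Y, hY⟩ : ∃ Y : Matrix.symplecticGroup (Fin m) F, Y.1 = X := ⟨⟨X, hX⟩, rfl⟩
      have hYy : Y * y = y * Y := Subtype.ext (by rw [Submonoid.coe_mul, Submonoid.coe_mul, hY, hy, hXc])
      refine ⟨⟨c * Y * c⁻¹, Subgroup.mem_centralizer_singleton_iff.2 ?_⟩, Subtype.ext ?_⟩
      · rw [← hc]
        calc c * Y * c⁻¹ * (c * y * c⁻¹) = c * (Y * y) * c⁻¹ := by group
          _ = c * (y * Y) * c⁻¹ := by rw [hYy]
          _ = c * y * c⁻¹ * (c * Y * c⁻¹) := by group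
      · show (c⁻¹ * (c * Y * c⁻¹) * c).1 = X
        rw [← hY]
        congr 1
        group
  rw [e1]
  haveI : Fact (Irreducible (X ^ 2 + X + 1 : F[X])) := ⟨irreducible_quad hF hq⟩
  have hfm : (X ^ 2 + X + 1 : F[X]).Monic := by monicity!
  have hfd : (X ^ 2 + X + 1 : F[X]).natDegree = 2 := by compute_degree!
  obtain ⟨ω, hω⟩ : ∃ ω, ω = AdjoinRoot.root (X ^ 2 + X + 1 : F[X]) := ⟨_, rfl⟩
  have hω' : ω ^ 2 + ω + 1 = 0 := by
    have h := AdjoinRoot.eval₂_root (X ^ 2 + X + 1 : F[X])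
    rw [eval₂_add, eval₂_add, eval₂_X_pow, eval₂_X, eval₂_one, ← hω] at h
    exact h
  let pb := AdjoinRoot.powerBasis' hfm
  have hdim : pb.dim = 2 := hfd
  haveI : Module.Finite F (AdjoinRoot (X ^ 2 + X + 1 : F[X])) := pb.finite
  haveI : Finite (AdjoinRoot (X ^ 2 + X + 1 : F[X])) := Module.finite_of_finite F
  letI : Fintype (AdjoinRoot (X ^ 2 + X + 1 : F[X])) := Fintype.ofFinite _
  have hL : Fintype.card (AdjoinRoot (X ^ 2 + X + 1 : F[X])) = q ^ 2 := by
    rw [Module.card_eq_pow_finrank (K := F), hF, pb.finrank, hdim]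
  have hb : ∀ z : AdjoinRoot (X ^ 2 + X + 1 : F[X]), ∃! t : F × F,
      algebraMap F _ t.1 + ω * algebraMap F _ t.2 = z := by
    intro z
    obtain ⟨b, hb⟩ : ∃ b : Module.Basis (Fin 2) F (AdjoinRoot (X ^ 2 + X + 1 : F[X])),
        b = pb.basis.reindex (finCongr hdim) := ⟨_, rfl⟩
    have hb0 : b 0 = 1 := by rw [hb, Module.Basis.reindex_apply, pb.basis_eq_pow]; simp
    have hb1 : b 1 = ω := by
      rw [hb, Module.Basis.reindex_apply, pb.basis_eq_pow, hω]
      exact pow_one _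
    have hrepr : ∀ t : F × F, b.equivFun.symm ![t.1, t.2] = algebraMap F _ t.1 + ω * algebraMap F _ t.2 := fun t => by
      rw [Module.Basis.equivFun_symm_apply, Fin.sum_univ_two, hb0, hb1]
      simp [Algebra.smul_def, mul_comm]
    refine ⟨(b.equivFun z 0, b.equivFun z 1), ?_, fun t ht => ?_⟩
    · simp only
      rw [← hrepr (b.equivFun z 0, b.equivFun z 1)]
      conv_rhs => rw [← b.equivFun.symm_apply_apply z]
      congr 1
      funext i
      fin_cases i <;> rfl
    · simp only at ht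
      rw [← hrepr] at ht
      rw [← ht, LinearEquiv.apply_symm_apply]
      rfl
  obtain ⟨p', e', σ, -, -, -, -, hσ⟩ := Cfsg.Agent.Classical.exists_usigma hL
  letI : StarRing (AdjoinRoot (X ^ 2 + X + 1 : F[X])) :=
    Hermitian.starRingOfInvolution (σ : AdjoinRoot (X ^ 2 + X + 1 : F[X]) →+* _) hσ.involutive
  have hstar : ∀ z : AdjoinRoot (X ^ 2 + X + 1 : F[X]), star z = z ^ q := fun z => hσ.apply_eq z
  have hωs : star ω = ω ^ 2 := by
    have h3 : ω ^ 3 = 1 := by linear_combination (ω - 1) * hω'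
    rw [hstar, show q = 3 * (q / 3) + 2 by omega, pow_add, pow_mul, h3, one_pow, one_mul]
  rw [card_commutant ω hω' hb hωs (fun a => by rw [hstar, ← map_pow, ← hF, FiniteField.pow_card]),
    ← Cfsg.Agent.Classical.UCount.card_GU hσ m]
  refine (Nat.card_eq_of_bijective (fun g => ⟨g.1.1, (PSUn.mem_GU_iff_star hstar _).1 g.2⟩) ⟨?_, ?_⟩).symm
  · exact fun g h e => Subtype.ext (Units.ext (congrArg Subtype.val e))
  · rintro ⟨M, hM⟩
    exact ⟨⟨⟨M, Mᴴ, mul_eq_one_comm.1 hM, hM⟩, (PSUn.mem_GU_iff_star hstar _).2 hM⟩, rfl⟩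

end Cfsg.Agent.Small.SpOrderThree
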