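import Mathlib

/-!
Even and odd parts of truncated polynomials: the combinatorics behind a Lagrangian subspace invariant
under `g + g⁻¹` for a unipotent pair.
-/

set_option autoImplicit false
set_option linter.unusedSimpArgs false

open Polynomial

namespace Cfsg.Agent.Small.SpOre

variable {F : Type*} [Field F]

/-- `∑_{i < n} a i X^{2i} G^i`. -/
noncomputable def ev (G : F[X]) (n : ℕ) (a : ℕ → F) : F[X] :=
  ∑ i ∈ Finset.range n, C (a i) * (X ^ 2 * G) ^ i

theorem ev_coeff_low {G : F[X]} {n : ℕ} {a : ℕ → F} {j : ℕ} (h : ∀ i, i < j → i < n → a i = 0)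
    (hj : j < n) :
    (ev G n a).coeff (2 * j) = a j * (G.coeff 0) ^ j ∧ ∀ l, l < 2 * j → (ev G n a).coeff l = 0 := by
  have key : ∀ i, i ∈ Finset.range n → ∀ l, l < 2 * i → (C (a i) * (X ^ 2 * G) ^ i).coeff l = 0 := by
    intro i _ l hl
    rw [mul_pow, ← pow_mul, coeff_C_mul, coeff_X_pow_mul', if_neg (by omega), mul_zero]
  have hlow : ∀ i ∈ Finset.range n, i < j → ∀ l, (C (a i) * (X ^ 2 * G) ^ i).coeff l = 0 := by
    intro i hi hij l
    rw [h i hij (Finset.mem_range.1 hi), map_zero, zero_mul, coeff_zero]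
  refine ⟨?_, fun l hl => ?_⟩
  · rw [ev, finsetSum_coeff, Finset.sum_eq_single j]
    · rw [mul_pow, ← pow_mul, coeff_C_mul, coeff_X_pow_mul', if_pos le_rfl, Nat.sub_self,
        coeff_zero_eq_eval_zero, eval_pow, ← coeff_zero_eq_eval_zero]
    · intro i hi hij
      rcases lt_or_gt_of_ne hij with h' | h'
      · exact hlow i hi h' _
      · exact key i hi _ (by omega)
    · intro hn; exact absurd (Finset.mem_range.2 hj) hn
  · rw [ev, finsetSum_coeff]
    refine Finset.sum_eq_zero fun i hi => ?_
    rcases lt_or_ge i j with h' | h'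
    · exact hlow i hi h' _
    · exact key i hi _ (by omega)

/-- A product by `X^s T` with `T` of non-zero constant term, compared modulo `X^e`. -/
theorem parity {G T : F[X]} (hG : G.coeff 0 ≠ 0) (hT : T.coeff 0 ≠ 0) {e s n : ℕ}
    (hn : ∀ i, i < n → 2 * i + s < e) {a a' : ℕ → F}
    (h : (X : F[X]) ^ e ∣ X * (X ^ s * T * ev G n a) - X ^ s * T * ev G n a') :
    (∀ i, i < n → a' i = 0) ∧ ∀ i, i < n → 2 * i + s + 1 < e → a i = 0 := by
  rw [X_pow_dvd_iff] at h
  have co : ∀ (b : ℕ → F) (j : ℕ), j < n → (∀ i, i < j → i < n → b i = 0) →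
      (X ^ s * T * ev G n b).coeff (2 * j + s) = b j * (G.coeff 0) ^ j * T.coeff 0 ∧
      ∀ l, l < 2 * j + s → (X ^ s * T * ev G n b).coeff l = 0 := by
    intro b j hj hb
    obtain ⟨e1, e2⟩ := ev_coeff_low (G := G) hb hj
    have hlow : ∀ l, l < 2 * j → (ev G n b).coeff l = 0 := e2
    refine ⟨?_, fun l hl => ?_⟩
    · rw [mul_assoc, coeff_X_pow_mul, coeff_mul, Finset.sum_eq_single (0, 2 * j)]
      · rw [e1]; ring
      · rintro ⟨x, y⟩ hxy hne
        rw [Finset.HasAntidiagonal.mem_antidiagonal] at hxy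
        dsimp only
        rw [hlow y (by rcases Nat.eq_zero_or_pos x with h0 | h0
                       · exfalso; apply hne; simp only [Prod.mk.injEq]; omega
                       · omega), mul_zero]
      · simp
    · rw [mul_assoc, coeff_X_pow_mul']
      split_ifs with hs
      · rw [coeff_mul]
        refine Finset.sum_eq_zero ?_
        rintro ⟨x, y⟩ hxy
        rw [Finset.HasAntidiagonal.mem_antidiagonal] at hxy
        dsimp only
        rw [hlow y (by omega), mul_zero]
      · rfl
  have main : ∀ j, (∀ i, i < j → i < n → a' i = 0) ∧ ∀ i, i < j → i < n → 2 * i + s + 1 < e → a i = 0 := by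
    intro j
    induction j with
    | zero => exact ⟨fun i hi => absurd hi (Nat.not_lt_zero i), fun i hi => absurd hi (Nat.not_lt_zero i)⟩
    | succ j ih =>
      obtain ⟨ih', iha⟩ := ih
      by_cases hj : j < n
      swap
      · exact ⟨fun i hi hin => ih' i (by omega) hin, fun i hi hin => iha i (by omega) hin⟩
      have haz : ∀ i, i < j → i < n → a i = 0 := fun i h1 h2 => iha i h1 h2 (by have := hn j hj; omega)
      obtain ⟨ea', ea'low⟩ := co a' j hj ih'
      obtain ⟨ea, ealow⟩ := co a j hj haz
      have hc := h (2 * j + s) (hn j hj)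
      have hX : (X * (X ^ s * T * ev G n a)).coeff (2 * j + s) = 0 := by
        rcases Nat.eq_zero_or_pos (2 * j + s) with h0 | h0
        · rw [h0, coeff_X_mul_zero]
        · rw [show 2 * j + s = (2 * j + s - 1) + 1 by omega, coeff_X_mul]
          exact ealow _ (by omega)
      rw [coeff_sub, hX, ea', zero_sub, neg_eq_zero] at hc
      have haj' : a' j = 0 :=
        (mul_eq_zero.1 ((mul_eq_zero.1 hc).resolve_right hT)).resolve_right (pow_ne_zero _ hG)
      have ih'' : ∀ i, i < j + 1 → i < n → a' i = 0 := fun i hi hin => by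
        rcases Nat.lt_succ_iff_lt_or_eq.1 hi with h1 | rfl
        · exact ih' i h1 hin
        · exact haj'
      refine ⟨ih'', fun i hi hin hie => ?_⟩
      rcases Nat.lt_succ_iff_lt_or_eq.1 hi with h1 | rfl
      · exact iha i h1 hin hie
      have hc' := h (2 * i + s + 1) hie
      rw [coeff_sub, coeff_X_mul, ea] at hc'
      have hz : (X ^ s * T * ev G n a').coeff (2 * i + s + 1) = 0 := by
        by_cases hi1 : i + 1 < n
        · exact (co a' (i + 1) hi1 ih'').2 _ (by omega)
        · have : ev G n a' = 0 := by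
            refine Finset.sum_eq_zero fun l hl => ?_
            rw [ih'' l (by have := Finset.mem_range.1 hl; omega) (Finset.mem_range.1 hl), map_zero, zero_mul]
          rw [this, mul_zero, coeff_zero]
      rw [hz, sub_zero] at hc'
      exact (mul_eq_zero.1 ((mul_eq_zero.1 hc').resolve_right hT)).resolve_right (pow_ne_zero _ hG)
  exact ⟨fun i hi => (main (i + 1)).1 i (by omega) hi, fun i hi => (main (i + 1)).2 i (by omega) hi⟩

/-- The combination vanishes modulo `X^e` only if all its coefficients do. -/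
theorem parity_indep {G T : F[X]} (hG : G.coeff 0 ≠ 0) (hT : T.coeff 0 ≠ 0) {e s n : ℕ}
    (hn : ∀ i, i < n → 2 * i + s < e) {a : ℕ → F} (h : (X : F[X]) ^ e ∣ X ^ s * T * ev G n a) :
    ∀ i, i < n → a i = 0 := by
  refine (parity hG hT hn (a := fun _ => 0) (a' := a) ?_).1
  rw [show ev G n (fun _ => (0 : F)) = 0 by simp [ev], mul_zero, mul_zero, zero_sub]
  exact dvd_neg.2 h

end Cfsg.Agent.Small.SpOre
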