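import Mathlib

/-!
An isometry `g` of an alternating form, the self-adjoint operator `g + g⁻¹`, and Lagrangian subspaces invariant
under it which meet their image only in eigenvectors for `±1`.
-/

set_option autoImplicit false
set_option linter.unusedSectionVars false

open Polynomial Module

namespace Cfsg.Agent.Small.SpOre

variable {F : Type*} [Field F] {V : Type*} [AddCommGroup V] [Module F V] [FiniteDimensional F V]

/-- An isometry of an alternating form. -/
structure Iso (F : Type*) (V : Type*) [Field F] [AddCommGroup V] [Module F V] where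
  /-- The form. -/
  B : V →ₗ[F] V →ₗ[F] F
  /-- The isometry. -/
  g : V ≃ₗ[F] V
  alt : ∀ x, B x x = 0
  iso : ∀ x y, B (g x) (g y) = B x y

namespace Iso

variable (S : Iso F V)

theorem skew (x y : V) : S.B x y = - S.B y x := by
  have h := S.alt (x + y)
  simp only [map_add, LinearMap.add_apply, S.alt] at h
  linear_combination h

theorem iso_symm (x y : V) : S.B (S.g x) y = S.B x (S.g.symm y) := by
  conv_lhs => rw [← S.g.apply_symm_apply y]
  rw [S.iso]

/-- `g + g⁻¹`. -/
def hh : Module.End F V := S.g.toLinearMap + S.g.symm.toLinearMap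

theorem hh_apply (x : V) : S.hh x = S.g x + S.g.symm x := rfl

theorem hh_adj (x y : V) : S.B (S.hh x) y = S.B x (S.hh y) := by
  have h2 : S.B (S.g.symm x) y = S.B x (S.g y) := by
    rw [S.skew (S.g.symm x), ← S.iso_symm, ← S.skew]
  rw [hh_apply, hh_apply, map_add, LinearMap.add_apply, map_add, h2, S.iso_symm]
  ring

theorem pow_adj (i : ℕ) : ∀ x y, S.B ((S.hh ^ i) x) y = S.B x ((S.hh ^ i) y) := by
  induction i with
  | zero => simp
  | succ i ih =>
    intro x y
    rw [pow_succ', Module.End.mul_apply, hh_adj, ih, ← Module.End.mul_apply, ← pow_succ]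
    rw [← pow_succ']

theorem aeval_adj (r : F[X]) : ∀ x y, S.B (aeval S.hh r x) y = S.B x (aeval S.hh r y) := by
  induction r using Polynomial.induction_on' with
  | add p q hp hq => intro x y; simp only [map_add, LinearMap.add_apply, hp, hq]
  | monomial n c =>
    intro x y
    simp only [aeval_monomial, Module.End.mul_apply, Module.algebraMap_end_apply, map_smul,
      LinearMap.smul_apply, pow_adj]

theorem pow_self (i : ℕ) (a : V) : S.B ((S.hh ^ i) a) a = 0 := by
  rcases Nat.even_or_odd' i with ⟨j, rfl | rfl⟩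
  · rw [two_mul, pow_add, Module.End.mul_apply, pow_adj, S.alt]
  · rw [show 2 * j + 1 = j + (1 + j) by omega, pow_add, Module.End.mul_apply, pow_adj, pow_add,
      Module.End.mul_apply, pow_one]
    set b := (S.hh ^ j) a
    rw [hh_adj, hh_apply, map_add, ← S.iso_symm, S.skew (S.g b) b, add_neg_cancel]

theorem aeval_self (r s : F[X]) (a : V) : S.B (aeval S.hh r a) (aeval S.hh s a) = 0 := by
  rw [← aeval_adj, ← Module.End.mul_apply, ← map_mul]
  induction s * r using Polynomial.induction_on' with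
  | add p q hp hq => simp only [map_add, LinearMap.add_apply, hp, hq, add_zero]
  | monomial n c =>
    simp only [aeval_monomial, Module.End.mul_apply, Module.algebraMap_end_apply, map_smul,
      LinearMap.smul_apply, pow_self, smul_zero]

theorem hh_comm (x : V) : S.hh (S.g x) = S.g (S.hh x) := by
  simp only [hh_apply, map_add, LinearEquiv.symm_apply_apply, LinearEquiv.apply_symm_apply]

theorem aeval_comm (r : F[X]) : ∀ x, aeval S.hh r (S.g x) = S.g (aeval S.hh r x) := by
  induction r using Polynomial.induction_on' with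
  | add p q hp hq => intro x; simp only [map_add, LinearMap.add_apply, hp, hq]
  | monomial n c =>
    intro x
    simp only [aeval_monomial, Module.End.mul_apply, Module.algebraMap_end_apply, map_smul]
    congr 1
    induction n with
    | zero => simp
    | succ n ih => rw [pow_succ', Module.End.mul_apply, Module.End.mul_apply, ih, hh_comm]

theorem g_g (x : V) : S.g (S.g x) = S.g (S.hh x) - x := by
  rw [hh_apply, map_add, LinearEquiv.apply_symm_apply, add_sub_cancel_right]

/-- Invariant subspace. -/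
def Inv (U : Submodule F V) : Prop := ∀ x ∈ U, S.g x ∈ U

/-- Non-degenerate subspace. -/
def ND (U : Submodule F V) : Prop := ∀ x ∈ U, (∀ y ∈ U, S.B x y = 0) → x = 0

/-- A Lagrangian subspace invariant under `g + g⁻¹` meeting its image only in eigenvectors for `±1`. -/
def Good (U : Submodule F V) : Prop :=
  ∃ W ≤ U, (∀ x ∈ W, ∀ y ∈ W, S.B x y = 0) ∧ 2 * finrank F W = finrank F U ∧
    (∀ x ∈ W, S.hh x ∈ W) ∧
    ∀ y ∈ W, S.g y ∈ W → ∃ y₁ ∈ W, ∃ y₂ ∈ W, y = y₁ + y₂ ∧ S.g y₁ = y₁ ∧ S.g y₂ = -y₂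

variable {S}

theorem Inv.symm {U : Submodule F V} (hU : S.Inv U) : ∀ x ∈ U, S.g.symm x ∈ U := by
  have hle : U.map S.g.toLinearMap ≤ U := by
    rintro _ ⟨x, hx, rfl⟩; exact hU x hx
  have heq : U.map S.g.toLinearMap = U :=
    Submodule.eq_of_le_of_finrank_eq hle (S.g.submoduleMap U).finrank_eq.symm
  intro x hx
  rw [← heq] at hx
  obtain ⟨y, hy, rfl⟩ := hx
  simpa using hy

theorem Inv.hh {U : Submodule F V} (hU : S.Inv U) : ∀ x ∈ U, S.hh x ∈ U := fun x hx =>
  U.add_mem (hU x hx) (hU.symm x hx)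

theorem Inv.aeval {U : Submodule F V} (hU : S.Inv U) (r : F[X]) : ∀ x ∈ U, Polynomial.aeval S.hh r x ∈ U := by
  induction r using Polynomial.induction_on' with
  | add p q hp hq => intro x hx; rw [map_add, LinearMap.add_apply]; exact U.add_mem (hp x hx) (hq x hx)
  | monomial n c =>
    intro x hx
    rw [aeval_monomial, Module.End.mul_apply, Module.algebraMap_end_apply]
    refine U.smul_mem c ?_
    induction n with
    | zero => simpa using hx
    | succ n ih => rw [pow_succ', Module.End.mul_apply]; exact hU.hh _ ih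

variable (S)

/-- The orthogonal complement inside `U`. -/
def orth (U U' : Submodule F V) : Submodule F V where
  carrier := {x | x ∈ U ∧ ∀ y ∈ U', S.B y x = 0}
  zero_mem' := ⟨U.zero_mem, fun y _ => by simp⟩
  add_mem' := fun {a b} ha hb => ⟨U.add_mem ha.1 hb.1, fun y hy => by
    rw [map_add, ha.2 y hy, hb.2 y hy, add_zero]⟩
  smul_mem' := fun c a ha => ⟨U.smul_mem c ha.1, fun y hy => by
    rw [map_smul, ha.2 y hy, smul_zero]⟩

variable {S}

theorem exists_split {U U' : Submodule F V} (hle : U' ≤ U) (hnd : S.ND U') :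
    U' ⊔ S.orth U U' = U ∧ U' ⊓ S.orth U U' = ⊥ := by
  refine ⟨le_antisymm (sup_le hle fun x hx => hx.1) fun x hx => ?_, ?_⟩
  · let φ : U' →ₗ[F] Dual F U' := (LinearMap.lcomp F F U'.subtype).comp (S.B.comp U'.subtype)
    have hφ : Function.Injective φ := by
      rw [← LinearMap.ker_eq_bot, LinearMap.ker_eq_bot']
      intro a ha
      apply Subtype.ext
      exact hnd a.1 a.2 fun y hy => by
        have := LinearMap.congr_fun ha ⟨y, hy⟩
        simpa [φ] using this
    have hsurj : Function.Surjective φ :=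
      (LinearMap.injective_iff_surjective_of_finrank_eq_finrank Subspace.dual_finrank_eq.symm).1 hφ
    obtain ⟨a, ha⟩ := hsurj ((LinearMap.lcomp F F U'.subtype) (S.B x))
    refine Submodule.mem_sup.2 ⟨a.1, a.2, x - a.1, ⟨U.sub_mem hx (hle a.2), fun y hy => ?_⟩, by abel⟩
    have := LinearMap.congr_fun ha ⟨y, hy⟩
    simp [φ] at this
    rw [map_sub, S.skew y x, S.skew y a.1, this, sub_self]
  · rw [eq_bot_iff]
    rintro x ⟨hx, hx'⟩
    exact (Submodule.mem_bot F).2 (hnd x hx fun y hy => by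
      rw [S.skew, hx'.2 y hy, neg_zero])

theorem orth_inv {U U' : Submodule F V} (hU : S.Inv U) (hU' : S.Inv U') : S.Inv (S.orth U U') := by
  intro x hx
  refine ⟨hU x hx.1, fun y hy => ?_⟩
  rw [← S.g.apply_symm_apply y, S.iso]
  exact hx.2 _ (hU'.symm y hy)

theorem orth_nd {U U' : Submodule F V} (hle : U' ≤ U) (hnd : S.ND U) (hnd' : S.ND U') :
    S.ND (S.orth U U') := by
  intro x hx h
  refine hnd x hx.1 fun y hy => ?_
  rw [← (exists_split hle hnd').1] at hy
  obtain ⟨a, ha, b, hb, rfl⟩ := Submodule.mem_sup.1 hy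
  rw [map_add, h b hb, S.skew, hx.2 a ha, neg_zero, add_zero]

theorem Good.add {U U' : Submodule F V} (hle : U' ≤ U) (hnd : S.ND U') (h1 : S.Good U')
    (h2 : S.Good (S.orth U U')) (hU : S.Inv U) (hU' : S.Inv U') : S.Good U := by
  obtain ⟨hsup, hinf⟩ := exists_split hle hnd
  obtain ⟨W₁, l1, i1, d1, q1, y1⟩ := h1
  obtain ⟨W₂, l2, i2, d2, q2, y2⟩ := h2
  refine ⟨W₁ ⊔ W₂, sup_le (l1.trans hle) (l2.trans fun x hx => hx.1), ?_, ?_, ?_, ?_⟩
  · intro x hx y hy
    obtain ⟨a, ha, b, hb, rfl⟩ := Submodule.mem_sup.1 hx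
    obtain ⟨a', ha', b', hb', rfl⟩ := Submodule.mem_sup.1 hy
    have h3 : S.B a b' = 0 := (l2 hb').2 a (l1 ha)
    have h4 : S.B b a' = 0 := by rw [S.skew, (l2 hb).2 a' (l1 ha'), neg_zero]
    simp only [map_add, LinearMap.add_apply, i1 a ha a' ha', i2 b hb b' hb', h3, h4, add_zero]
  · have e1 := Submodule.finrank_sup_add_finrank_inf_eq W₁ W₂
    have e2 := Submodule.finrank_sup_add_finrank_inf_eq U' (S.orth U U')
    rw [show W₁ ⊓ W₂ = ⊥ from eq_bot_iff.2 ((inf_le_inf l1 l2).trans hinf.le), finrank_bot] at e1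
    rw [hsup, hinf, finrank_bot] at e2
    omega
  · intro x hx
    obtain ⟨a, ha, b, hb, rfl⟩ := Submodule.mem_sup.1 hx
    rw [map_add]
    exact Submodule.add_mem_sup (q1 a ha) (q2 b hb)
  · intro x hx hgx
    obtain ⟨a, ha, b, hb, rfl⟩ := Submodule.mem_sup.1 hx
    obtain ⟨a', ha', b', hb', he⟩ := Submodule.mem_sup.1 hgx
    rw [map_add] at he
    have hd : S.g a - a' = b' - S.g b := by
      rw [sub_eq_sub_iff_add_eq_add, ← he]; abel
    have hz : S.g a - a' ∈ U' ⊓ S.orth U U' :=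
      ⟨U'.sub_mem (hU' a (l1 ha)) (l1 ha'), by
        rw [hd]; exact Submodule.sub_mem _ (l2 hb') (orth_inv hU hU' b (l2 hb))⟩
    rw [hinf, Submodule.mem_bot] at hz
    have hga : S.g a ∈ W₁ := by rw [sub_eq_zero.1 hz]; exact ha'
    have hgb : S.g b ∈ W₂ := by
      rw [hz] at hd
      rw [← sub_eq_zero.1 hd.symm]; exact hb'
    obtain ⟨a₁, ha₁, a₂, ha₂, rfl, ea₁, ea₂⟩ := y1 a ha hga
    obtain ⟨b₁, hb₁, b₂, hb₂, rfl, eb₁, eb₂⟩ := y2 b hb hgb
    refine ⟨a₁ + b₁, Submodule.add_mem_sup ha₁ hb₁, a₂ + b₂, Submodule.add_mem_sup ha₂ hb₂, by abel, ?_, ?_⟩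
    · rw [map_add, ea₁, eb₁]
    · rw [map_add, ea₂, eb₂]; abel

theorem two_mul_finrank_le {U W : Submodule F V} (hnd : S.ND U) (hW : W ≤ U)
    (hiso : ∀ x ∈ W, ∀ y ∈ W, S.B x y = 0) : 2 * finrank F W ≤ finrank F U := by
  let W' : Submodule F U := W.comap U.subtype
  have hW' : finrank F W' = finrank F W := (Submodule.comapSubtypeEquivOfLe hW).finrank_eq
  let ψ : W' →ₗ[F] Dual F U := (LinearMap.lcomp F F U.subtype).comp ((S.B.comp U.subtype).comp W'.subtype)
  have hψ : Function.Injective ψ := by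
    rw [← LinearMap.ker_eq_bot, LinearMap.ker_eq_bot']
    intro a ha
    apply Subtype.ext
    apply Subtype.ext
    exact hnd _ a.1.2 fun y hy => by
      have := LinearMap.congr_fun ha ⟨y, hy⟩
      simpa [ψ] using this
  have hle : LinearMap.range ψ ≤ W'.dualAnnihilator := by
    rintro _ ⟨a, rfl⟩
    rw [Submodule.mem_dualAnnihilator]
    intro b hb
    exact hiso _ a.2 _ hb
  have h1 := Submodule.finrank_mono hle
  rw [LinearMap.finrank_range_of_inj hψ] at h1
  have h2 := Subspace.finrank_add_finrank_dualAnnihilator_eq W'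
  omega

variable (S)

/-- The cyclic `F[g + g⁻¹]`-submodule. -/
noncomputable def cyc (a : V) : Submodule F V :=
  LinearMap.range ((LinearMap.applyₗ a : (V →ₗ[F] V) →ₗ[F] V).comp (Polynomial.aeval S.hh).toLinearMap)

variable {S}

theorem mem_cyc {a x : V} : x ∈ S.cyc a ↔ ∃ r : F[X], x = Polynomial.aeval S.hh r a :=
  ⟨fun ⟨r, hr⟩ => ⟨r, hr.symm⟩, fun ⟨r, hr⟩ => ⟨r, hr.symm⟩⟩

theorem self_mem_cyc (a : V) : a ∈ S.cyc a := mem_cyc.2 ⟨1, by simp⟩

theorem cyc_le {U : Submodule F V} (hU : S.Inv U) {a : V} (ha : a ∈ U) : S.cyc a ≤ U := by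
  intro x hx
  obtain ⟨r, rfl⟩ := mem_cyc.1 hx
  exact hU.aeval r a ha

theorem cyc_hh {a : V} : ∀ x ∈ S.cyc a, S.hh x ∈ S.cyc a := by
  intro x hx
  obtain ⟨r, rfl⟩ := mem_cyc.1 hx
  exact mem_cyc.2 ⟨X * r, by rw [map_mul, aeval_X, Module.End.mul_apply]⟩

theorem cyc_iso {a : V} : ∀ x ∈ S.cyc a, ∀ y ∈ S.cyc a, S.B x y = 0 := by
  intro x hx y hy
  obtain ⟨r, rfl⟩ := mem_cyc.1 hx
  obtain ⟨s, rfl⟩ := mem_cyc.1 hy
  exact S.aeval_self r s a

/-- The `F[g]`-submodule generated by `a`. -/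
noncomputable def cyc2 (S : Iso F V) (a : V) : Submodule F V := S.cyc a ⊔ (S.cyc a).map S.g.toLinearMap

theorem cyc2_inv (a : V) : S.Inv (S.cyc2 a) := by
  intro x hx
  obtain ⟨y, hy, _, ⟨z, hz, rfl⟩, rfl⟩ := Submodule.mem_sup.1 hx
  rw [map_add]
  refine Submodule.add_mem _ (Submodule.mem_sup_right (Submodule.mem_map_of_mem hy)) ?_
  show S.g (S.g z) ∈ _
  rw [S.g_g]
  exact Submodule.sub_mem _ (Submodule.mem_sup_right (Submodule.mem_map_of_mem (cyc_hh z hz)))
    (Submodule.mem_sup_left hz)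

theorem self_mem_cyc2 (a : V) : a ∈ S.cyc2 a := Submodule.mem_sup_left (self_mem_cyc a)

theorem cyc2_le {U : Submodule F V} (hU : S.Inv U) {a : V} (ha : a ∈ U) : S.cyc2 a ≤ U := by
  refine sup_le (cyc_le hU ha) ?_
  rintro _ ⟨z, hz, rfl⟩
  exact hU z (cyc_le hU ha hz)

theorem good_cyclic {U : Submodule F V} (hU : S.Inv U) (hnd : S.ND U) {a : V} (ha : a ∈ U)
    (hspan : U ≤ S.cyc2 a) : S.Good U := by
  have hW := cyc_le hU ha
  have h1 := two_mul_finrank_le hnd hW cyc_iso
  have h2 := Submodule.finrank_sup_add_finrank_inf_eq (S.cyc a) ((S.cyc a).map S.g.toLinearMap)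
  have h3 : finrank F ((S.cyc a).map S.g.toLinearMap) = finrank F (S.cyc a) :=
    (S.g.submoduleMap _).finrank_eq.symm
  have h4 := Submodule.finrank_mono hspan
  rw [cyc2] at h4
  have h5 : finrank F ↥(S.cyc a ⊓ (S.cyc a).map S.g.toLinearMap) = 0 := by omega
  refine ⟨S.cyc a, hW, cyc_iso, by omega, cyc_hh, fun y hy hgy => ?_⟩
  have hz : S.g y ∈ (⊥ : Submodule F V) := by
    rw [← Submodule.finrank_eq_zero.1 h5]
    exact ⟨hgy, Submodule.mem_map_of_mem hy⟩
  rw [Submodule.mem_bot, LinearEquiv.map_eq_zero_iff] at hz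
  subst hz
  exact ⟨0, Submodule.zero_mem _, 0, Submodule.zero_mem _, by simp, by simp, by simp⟩

end Iso

end Cfsg.Agent.Small.SpOre
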