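import Mathlib
import Cfsg.Agent.Lib.Small.SpOreParity
import Cfsg.Agent.Lib.Small.SpOreSys

/-!
Every isometry of a non-degenerate alternating form has a Lagrangian subspace invariant under `g + g⁻¹`
which meets its image only in eigenvectors for `±1`.
-/

set_option autoImplicit false
set_option linter.unusedSectionVars false

open Polynomial Module

namespace Cfsg.Agent.Small.SpOre

variable {F : Type*} [Field F] {V : Type*} [AddCommGroup V] [Module F V] [FiniteDimensional F V]

namespace Iso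

variable (S : Iso F V)

/-- An invariant non-degenerate subspace with no proper non-zero one inside. -/
def Indec (U : Submodule F V) : Prop :=
  ∀ U' ≤ U, S.Inv U' → S.ND U' → U' ≠ ⊥ → U' = U

variable {S}

/-! ### The cyclic case -/

theorem case_cyclic {U : Submodule F V} (hU : S.Inv U) (hnd : S.ND U) (hind : S.Indec U) {p : F[X]}
    (hp : Irreducible p) {k : ℕ} (hk : ∀ x ∈ U, Polynomial.aeval S.hh (p ^ k) x = 0) {a : V} (ha : a ∈ U)
    {r₀ : F[X]} (h0 : S.B (S.g a) (Polynomial.aeval S.hh (p ^ (k - 1) * r₀) a) ≠ 0) : S.Good U := by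
  classical
  have hle : S.cyc2 a ≤ U := cyc2_le hU ha
  have hne : S.cyc2 a ≠ ⊥ := by
    intro h
    have hz : a = 0 := (Submodule.mem_bot F).1 (h ▸ self_mem_cyc2 a)
    exact h0 (by simp [hz])
  have hmul : ∀ r s : F[X], (∀ x ∈ U, Polynomial.aeval S.hh r x = 0) →
      Polynomial.aeval S.hh (s * r) a = 0 := by
    intro r s hr
    rw [map_mul, Module.End.mul_apply, hr a ha, map_zero]
  have key : ∀ r : F[X], (∀ s : F[X], S.B (S.g a) (Polynomial.aeval S.hh (r * s) a) = 0) →
      Polynomial.aeval S.hh r a = 0 := by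
    intro r hr
    obtain ⟨j, hj, hd⟩ := (dvd_prime_pow hp.prime k).1 (EuclideanDomain.gcd_dvd_right r (p ^ k))
    rcases eq_or_lt_of_le hj with rfl | hj
    · obtain ⟨c, hc⟩ := (hd.symm.dvd).trans (EuclideanDomain.gcd_dvd_left r (p ^ j))
      rw [hc, mul_comm]
      exact hmul _ _ hk
    · exfalso
      obtain ⟨c, hc⟩ := hd.dvd.trans (pow_dvd_pow p (show j ≤ k - 1 by omega))
      apply h0
      have e : p ^ (k - 1) * r₀ = r * (EuclideanDomain.gcdA r (p ^ k) * c * r₀) +
          EuclideanDomain.gcdB r (p ^ k) * c * r₀ * p ^ k := by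
        rw [hc, EuclideanDomain.gcd_eq_gcd_ab r (p ^ k)]; ring
      rw [e, map_add, LinearMap.add_apply, map_add, hr, hmul _ _ hk, map_zero, add_zero]
  have hnd' : S.ND (S.cyc2 a) := by
    intro x hx h
    obtain ⟨y, hy, _, ⟨z, hz, rfl⟩, rfl⟩ := Submodule.mem_sup.1 hx
    obtain ⟨r₁, rfl⟩ := mem_cyc.1 hy
    obtain ⟨r₂, rfl⟩ := mem_cyc.1 hz
    have e2 : Polynomial.aeval S.hh r₂ a = 0 := key r₂ fun s => by
      have := h (Polynomial.aeval S.hh s a) (Submodule.mem_sup_left (mem_cyc.2 ⟨s, rfl⟩))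
      rw [map_add, LinearMap.add_apply, S.aeval_self, zero_add] at this
      change S.B (S.g (Polynomial.aeval S.hh r₂ a)) _ = 0 at this
      rw [← S.aeval_comm, S.aeval_adj, ← Module.End.mul_apply, ← map_mul] at this
      exact this
    have e1 : Polynomial.aeval S.hh r₁ a = 0 := key r₁ fun s => by
      have := h (S.g (Polynomial.aeval S.hh s a))
        (Submodule.mem_sup_right (Submodule.mem_map_of_mem (mem_cyc.2 ⟨s, rfl⟩)))
      rw [e2, map_zero, add_zero, S.skew, ← S.aeval_comm, S.aeval_adj, neg_eq_zero,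
        ← Module.End.mul_apply, ← map_mul] at this
      rwa [mul_comm]
    simp [e1, e2]
  exact good_cyclic hU hnd ha (hind _ hle (cyc2_inv a) hnd' hne).ge

/-! ### The unipotent case -/

variable (S)

/-- `g - ε`. -/
def nn (ε : F) : Module.End F V := S.g.toLinearMap - ε • 1

theorem nn_apply (ε : F) (x : V) : S.nn ε x = S.g x - ε • x := rfl

/-- The span of the orbit of a vector under `g - ε`. -/
noncomputable def cycN (ε : F) (a : V) : Submodule F V :=
  LinearMap.range ((LinearMap.applyₗ a : (V →ₗ[F] V) →ₗ[F] V).comp (Polynomial.aeval (S.nn ε)).toLinearMap)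

variable {S}

theorem mem_cycN {ε : F} {a x : V} : x ∈ S.cycN ε a ↔ ∃ r : F[X], x = Polynomial.aeval (S.nn ε) r a :=
  ⟨fun ⟨r, hr⟩ => ⟨r, hr.symm⟩, fun ⟨r, hr⟩ => ⟨r, hr.symm⟩⟩

theorem self_mem_cycN (ε : F) (a : V) : a ∈ S.cycN ε a := mem_cycN.2 ⟨1, by simp⟩

theorem cycN_inv (ε : F) (a : V) : S.Inv (S.cycN ε a) := by
  intro x hx
  obtain ⟨r, rfl⟩ := mem_cycN.1 hx
  refine mem_cycN.2 ⟨(X + C ε) * r, ?_⟩
  rw [map_mul, Module.End.mul_apply, map_add, aeval_X, aeval_C, LinearMap.add_apply,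
    Module.algebraMap_end_apply, nn_apply, sub_add_cancel]

theorem Inv.sup {U U' : Submodule F V} (h : S.Inv U) (h' : S.Inv U') : S.Inv (U ⊔ U') := by
  intro x hx
  obtain ⟨y, hy, z, hz, rfl⟩ := Submodule.mem_sup.1 hx
  rw [map_add]
  exact Submodule.add_mem_sup (h y hy) (h' z hz)

theorem Inv.aevalN {U : Submodule F V} (hU : S.Inv U) (ε : F) (r : F[X]) :
    ∀ x ∈ U, Polynomial.aeval (S.nn ε) r x ∈ U := by
  induction r using Polynomial.induction_on' with
  | add p q hp hq => intro x hx; rw [map_add, LinearMap.add_apply]; exact U.add_mem (hp x hx) (hq x hx)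
  | monomial n c =>
    intro x hx
    rw [aeval_monomial, Module.End.mul_apply, Module.algebraMap_end_apply]
    refine U.smul_mem c ?_
    induction n with
    | zero => simpa using hx
    | succ n ih =>
      rw [pow_succ', Module.End.mul_apply, nn_apply]
      exact U.sub_mem (hU _ ih) (U.smul_mem ε ih)

theorem cycN_le {U : Submodule F V} (hU : S.Inv U) {ε : F} {a : V} (ha : a ∈ U) : S.cycN ε a ≤ U := by
  intro x hx
  obtain ⟨r, rfl⟩ := mem_cycN.1 hx
  exact hU.aevalN ε r a ha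

theorem orth_aevalN {U' : Submodule F V} (hU' : S.Inv U') {ε : F} {x : V} (hx : x ∈ U')
    (h : ∀ y ∈ U', S.B x y = 0) {u : V} (hu : u ∈ U') (r : F[X]) :
    S.B u (Polynomial.aeval (S.nn ε) r x) = 0 := by
  have hR : x ∈ S.orth U' U' := ⟨hx, fun y hy => by rw [S.skew, h y hy, neg_zero]⟩
  exact ((orth_inv hU' hU').aevalN ε r x hR).2 u hu

theorem aevalN_dvd {U : Submodule F V} {ε : F} {e : ℕ} (he : ∀ x ∈ U, (S.nn ε ^ e) x = 0) {r : F[X]}
    (hr : (X : F[X]) ^ e ∣ r) {x : V} (hx : x ∈ U) : Polynomial.aeval (S.nn ε) r x = 0 := by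
  obtain ⟨c, rfl⟩ := hr
  rw [mul_comm, map_mul, Module.End.mul_apply, map_pow, aeval_X, he x hx, map_zero]

theorem aevalN_low {U : Submodule F V} {ε : F} {e : ℕ} (he : ∀ x ∈ U, (S.nn ε ^ e) x = 0) {a : V}
    (ha : a ∈ U) {r : F[X]} {j : ℕ} (hj : j < e) (hr : (X : F[X]) ^ j ∣ r) :
    Polynomial.aeval (S.nn ε) (X ^ (e - 1 - j) * r) a = r.coeff j • (S.nn ε ^ (e - 1)) a := by
  obtain ⟨r', rfl⟩ := hr
  have hc : ((X : F[X]) ^ j * r').coeff j = r'.coeff 0 := by
    simpa using Polynomial.coeff_X_pow_mul r' j 0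
  have e0 : (X : F[X]) ^ (e - 1 - j) * (X ^ j * r') = r'.divX * X ^ e + C (r'.coeff 0) * X ^ (e - 1) := by
    rw [← mul_assoc, ← pow_add, show e - 1 - j + j = e - 1 by omega]
    conv_lhs => rw [← Polynomial.divX_mul_X_add r']
    rw [show e = e - 1 + 1 by omega, pow_succ, show e - 1 + 1 - 1 = e - 1 by omega]
    ring
  rw [e0, hc, map_add, LinearMap.add_apply, aevalN_dvd he (dvd_mul_left _ _) ha, zero_add, map_mul,
    Module.End.mul_apply, aeval_C, Module.algebraMap_end_apply, map_pow, aeval_X]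

theorem free_single {U : Submodule F V} {ε : F} {e : ℕ} (he : ∀ x ∈ U, (S.nn ε ^ e) x = 0) {a : V}
    (ha : a ∈ U) (h0 : S.B a ((S.nn ε ^ (e - 1)) a) ≠ 0) {r : F[X]}
    (h : ∀ p : F[X], S.B a (Polynomial.aeval (S.nn ε) p (Polynomial.aeval (S.nn ε) r a)) = 0) :
    (X : F[X]) ^ e ∣ r := by
  have key : ∀ j, j ≤ e → (X : F[X]) ^ j ∣ r := by
    intro j
    induction j with
    | zero => intro _; simp
    | succ j ih =>
      intro hj
      have hd := ih (by omega)
      have h1 := h (X ^ (e - 1 - j))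
      rw [← Module.End.mul_apply, ← map_mul, aevalN_low he ha (show j < e by omega) hd, map_smul,
        smul_eq_mul, mul_eq_zero] at h1
      rw [X_pow_dvd_iff] at hd ⊢
      intro d hdlt
      rcases Nat.lt_succ_iff_lt_or_eq.1 hdlt with h2 | rfl
      · exact hd d h2
      · exact h1.resolve_right h0
  exact key e le_rfl

theorem free_pair {U : Submodule F V} {ε : F} {e : ℕ} (he : ∀ x ∈ U, (S.nn ε ^ e) x = 0) {v w : V}
    (hv : v ∈ U) (hw : w ∈ U) (hvv : S.B v ((S.nn ε ^ (e - 1)) v) = 0)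
    (hww : S.B w ((S.nn ε ^ (e - 1)) w) = 0) (hvw : S.B v ((S.nn ε ^ (e - 1)) w) ≠ 0)
    (hwv : S.B w ((S.nn ε ^ (e - 1)) v) ≠ 0) {r r' : F[X]}
    (h₁ : ∀ p : F[X], S.B v (Polynomial.aeval (S.nn ε) p
      (Polynomial.aeval (S.nn ε) r v + Polynomial.aeval (S.nn ε) r' w)) = 0)
    (h₂ : ∀ p : F[X], S.B w (Polynomial.aeval (S.nn ε) p
      (Polynomial.aeval (S.nn ε) r v + Polynomial.aeval (S.nn ε) r' w)) = 0) :
    (X : F[X]) ^ e ∣ r ∧ (X : F[X]) ^ e ∣ r' := by
  have key : ∀ j, j ≤ e → (X : F[X]) ^ j ∣ r ∧ (X : F[X]) ^ j ∣ r' := by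
    intro j
    induction j with
    | zero => intro _; simp
    | succ j ih =>
      intro hj
      obtain ⟨hd, hd'⟩ := ih (by omega)
      have e1 := h₁ (X ^ (e - 1 - j))
      have e2 := h₂ (X ^ (e - 1 - j))
      rw [map_add, ← Module.End.mul_apply, ← map_mul, ← Module.End.mul_apply, ← map_mul,
        aevalN_low he hv (show j < e by omega) hd, aevalN_low he hw (show j < e by omega) hd', map_add,
        map_smul, map_smul, smul_eq_mul, smul_eq_mul] at e1 e2
      rw [hvv, mul_zero, zero_add, mul_eq_zero] at e1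
      rw [hww, mul_zero, add_zero, mul_eq_zero] at e2
      rw [X_pow_dvd_iff] at hd hd' ⊢
      rw [X_pow_dvd_iff]
      refine ⟨fun d hdlt => ?_, fun d hdlt => ?_⟩ <;> rcases Nat.lt_succ_iff_lt_or_eq.1 hdlt with h2 | rfl
      · exact hd d h2
      · exact e2.resolve_right hwv
      · exact hd' d h2
      · exact e1.resolve_right hvw
  exact key e le_rfl

theorem nn_sq {ε : F} (hε : ε * ε = 1) (x : V) :
    S.nn ε (S.nn ε x) = S.g (Polynomial.aeval S.hh (X - C (2 * ε)) x) := by
  rw [map_sub, aeval_X, aeval_C, LinearMap.sub_apply, Module.algebraMap_end_apply, map_sub S.g,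
    map_smul S.g, nn_apply, nn_apply, map_sub S.g, map_smul S.g, S.g_g, smul_sub, smul_smul, hε, one_smul,
    two_mul, add_smul]
  abel

theorem aevalN_two_mul {U : Submodule F V} (hU : S.Inv U) {ε : F} (hε : ε * ε = 1) (k : ℕ) :
    ∀ x ∈ U, Polynomial.aeval S.hh ((X - C (2 * ε)) ^ k) x = 0 → (S.nn ε ^ (2 * k)) x = 0 := by
  induction k with
  | zero => intro x _ hx; simpa using hx
  | succ k ih =>
    intro x hxU hx
    rw [show 2 * (k + 1) = 2 * k + 2 by ring, pow_add, Module.End.mul_apply, pow_two,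
      Module.End.mul_apply, nn_sq hε]
    refine ih _ (hU _ (hU.aeval _ x hxU)) ?_
    rw [S.aeval_comm, ← Module.End.mul_apply, ← map_mul, ← pow_succ, hx, map_zero]

theorem case_unipotent {U : Submodule F V} (hU : S.Inv U) (hnd : S.ND U) (hind : S.Indec U)
    {ε : F} (hε : ε * ε = 1) {e : ℕ} (he : ∀ x ∈ U, (S.nn ε ^ e) x = 0)
    (hmin : ∃ x ∈ U, (S.nn ε ^ (e - 1)) x ≠ 0) : S.Good U := by
  classical
  have hε0 : ε ≠ 0 := fun h => by simp [h] at hε
  have he1 : 1 ≤ e := by
    by_contra h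
    obtain ⟨x, hx, hx'⟩ := hmin
    have := he x hx
    rw [show e = 0 by omega] at this hx'
    exact hx' this
  by_cases hdiag : ∃ a ∈ U, S.B a ((S.nn ε ^ (e - 1)) a) ≠ 0
  · obtain ⟨a, ha, h0⟩ := hdiag
    have hnd' : S.ND (S.cycN ε a) := by
      intro x hx h
      obtain ⟨r, rfl⟩ := mem_cycN.1 hx
      exact aevalN_dvd he
        (free_single he ha h0 fun p => orth_aevalN (cycN_inv ε a) hx h (self_mem_cycN ε a) p) ha
    have hne : S.cycN ε a ≠ ⊥ := by
      intro h
      have hz : a = 0 := (Submodule.mem_bot F).1 (h ▸ self_mem_cycN ε a)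
      exact h0 (by simp [hz])
    have heq := hind _ (cycN_le hU ha) (cycN_inv ε a) hnd' hne
    refine good_cyclic hU hnd ha ?_
    rw [← heq]
    exact cycN_le (cyc2_inv a) (self_mem_cyc2 a)
  push Not at hdiag
  obtain ⟨w, hw, hw0⟩ := hmin
  have hNw : (S.nn ε ^ (e - 1)) w ∈ U := by
    have := hU.aevalN ε (X ^ (e - 1)) w hw
    rwa [map_pow, aeval_X] at this
  obtain ⟨v, hv, hvw⟩ : ∃ v ∈ U, S.B v ((S.nn ε ^ (e - 1)) w) ≠ 0 := by
    by_contra h
    push Not at h
    exact hw0 (hnd _ hNw fun y hy => by rw [S.skew, h y hy, neg_zero])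
  have hwv : S.B w ((S.nn ε ^ (e - 1)) v) ≠ 0 := by
    intro h
    have h' := hdiag (v + w) (U.add_mem hv hw)
    simp only [map_add, LinearMap.add_apply, hdiag v hv, hdiag w hw, h, zero_add, add_zero] at h'
    exact hvw h'
  -- the free pair
  set U' := S.cycN ε v ⊔ S.cycN ε w with hU'
  have hfree : ∀ r r' : F[X],
      (∀ p : F[X], S.B v (Polynomial.aeval (S.nn ε) p
        (Polynomial.aeval (S.nn ε) r v + Polynomial.aeval (S.nn ε) r' w)) = 0) →
      (∀ p : F[X], S.B w (Polynomial.aeval (S.nn ε) p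
        (Polynomial.aeval (S.nn ε) r v + Polynomial.aeval (S.nn ε) r' w)) = 0) →
      (X : F[X]) ^ e ∣ r ∧ (X : F[X]) ^ e ∣ r' :=
    fun r r' => free_pair he hv hw (hdiag v hv) (hdiag w hw) hvw hwv
  have hfree0 : ∀ r r' : F[X], Polynomial.aeval (S.nn ε) r v + Polynomial.aeval (S.nn ε) r' w = 0 →
      (X : F[X]) ^ e ∣ r ∧ (X : F[X]) ^ e ∣ r' :=
    fun r r' h => hfree r r' (fun p => by simp [h]) (fun p => by simp [h])
  have hInv' : S.Inv U' := (cycN_inv ε v).sup (cycN_inv ε w)
  have hnd' : S.ND U' := by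
    intro x hx h
    obtain ⟨y, hy, z, hz, rfl⟩ := Submodule.mem_sup.1 hx
    obtain ⟨r, rfl⟩ := mem_cycN.1 hy
    obtain ⟨r', rfl⟩ := mem_cycN.1 hz
    obtain ⟨h1, h2⟩ := hfree r r'
      (fun p => orth_aevalN hInv' hx h (Submodule.mem_sup_left (self_mem_cycN ε v)) p)
      (fun p => orth_aevalN hInv' hx h (Submodule.mem_sup_right (self_mem_cycN ε w)) p)
    rw [aevalN_dvd he h1 hv, aevalN_dvd he h2 hw, add_zero]
  have hne : U' ≠ ⊥ := by
    intro h
    have hz : v = 0 := (Submodule.mem_bot F).1 (h ▸ Submodule.mem_sup_left (self_mem_cycN ε v))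
    exact hvw (by simp [hz])
  have heq : U' = U := hind _ (sup_le (cycN_le hU hv) (cycN_le hU hw)) hInv' hnd' hne
  -- the inverse of `g` and the operator `g + g⁻¹ - 2ε`
  obtain ⟨G, G', hG⟩ : IsCoprime (X + C ε) ((X : F[X]) ^ e) := by
    refine IsCoprime.pow_right ?_
    exact ⟨C ε⁻¹, -C ε⁻¹, by
      rw [mul_add, ← C_mul, inv_mul_cancel₀ hε0, map_one]; ring⟩
  have hG0 : G.coeff 0 ≠ 0 := by
    intro h
    have h1 := congrArg (fun q => coeff q 0) hG
    simp [mul_coeff_zero, h, show ¬ (0 = e) by omega] at h1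
  have hsymm : ∀ x ∈ U, S.g.symm x = Polynomial.aeval (S.nn ε) G x := by
    intro x hx
    have hone : Polynomial.aeval (S.nn ε) ((X + C ε) * G) x = x := by
      rw [show (X + C ε) * G = 1 - G' * X ^ e by rw [← hG]; ring, map_sub, map_one, LinearMap.sub_apply,
        aevalN_dvd he (dvd_mul_left _ _) hx, sub_zero, Module.End.one_apply]
    rw [map_mul, Module.End.mul_apply, map_add, aeval_X, aeval_C, LinearMap.add_apply,
      Module.algebraMap_end_apply, nn_apply, sub_add_cancel] at hone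
    apply S.g.injective
    rw [LinearEquiv.apply_symm_apply, hone]
  have hQ : ∀ x ∈ U, Polynomial.aeval S.hh (X - C (2 * ε)) x =
      Polynomial.aeval (S.nn ε) (X ^ 2 * G) x := by
    intro x hx
    rw [mul_comm (X ^ 2) G, map_mul (Polynomial.aeval (S.nn ε)) G, Module.End.mul_apply, map_pow, aeval_X, pow_two, Module.End.mul_apply,
      nn_sq hε, ← hsymm _ (hU _ (hU.aeval _ x hx)), LinearEquiv.symm_apply_apply]
  have hQi : ∀ (i : ℕ), ∀ x ∈ U, Polynomial.aeval S.hh ((X - C (2 * ε)) ^ i) x =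
      Polynomial.aeval (S.nn ε) ((X ^ 2 * G) ^ i) x := by
    intro i
    induction i with
    | zero => intro x _; simp
    | succ i ih =>
      intro x hx
      rw [pow_succ, pow_succ, map_mul (Polynomial.aeval S.hh) ((X - C (2 * ε)) ^ i),
        map_mul (Polynomial.aeval (S.nn ε)) ((X ^ 2 * G) ^ i), Module.End.mul_apply, Module.End.mul_apply, hQ x hx,
        ih _ (hU.aevalN ε _ x hx)]
  -- the orthogonality conditions
  set s := e % 2 with hs
  let φ : F[X] → F := fun r => S.B v (Polynomial.aeval (S.nn ε) r w)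
  have φadd : ∀ r r', φ (r + r') = φ r + φ r' := fun r r' => by simp [φ]
  have φC : ∀ c r, φ (C c * r) = c * φ r := fun c r => by
    simp only [φ, map_mul, Module.End.mul_apply, aeval_C, Module.algebraMap_end_apply, map_smul,
      smul_eq_mul]
  have φhigh : ∀ r, (X : F[X]) ^ e ∣ r → φ r = 0 := fun r hr => by
    simp [φ, aevalN_dvd he hr hw]
  have hz : ∀ d j, e ≤ j + d → ∃ T : F[X], T.coeff 0 = 1 ∧
      ∀ i, j ≤ i → φ ((X ^ 2 * G) ^ i * (X ^ s * T)) = 0 := by
    intro d
    induction d with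
    | zero =>
      intro j hj
      refine ⟨1, coeff_one_zero, fun i hi => φhigh _ ?_⟩
      rw [mul_pow, ← pow_mul]
      exact Dvd.dvd.mul_right (Dvd.dvd.mul_right (pow_dvd_pow X (by omega)) _) _
    | succ d ih =>
      intro j hj
      obtain ⟨T, hT, hTi⟩ := ih (j + 1) (by omega)
      by_cases hjs : e ≤ 2 * j + s
      · refine ⟨T, hT, fun i hi => φhigh _ ?_⟩
        refine (pow_dvd_pow X (show e ≤ 2 * i + s by omega)).trans ⟨G ^ i * T, ?_⟩
        rw [mul_pow, pow_add, pow_mul]; ring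
      set m := e - 1 - s - 2 * j with hm
      have hm1 : 1 ≤ m := by omega
      set c := - φ ((X ^ 2 * G) ^ j * (X ^ s * T)) / ((G ^ j).coeff 0 * S.B v ((S.nn ε ^ (e - 1)) w))
        with hc
      refine ⟨T + C c * X ^ m, by simp [hT, show ¬ (0 = m) by omega], fun i hi => ?_⟩
      rw [show (X ^ 2 * G) ^ i * (X ^ s * (T + C c * X ^ m)) =
        (X ^ 2 * G) ^ i * (X ^ s * T) + C c * (X ^ (2 * i + s + m) * G ^ i) by
          rw [mul_pow, pow_add, pow_add, pow_mul]; ring, φadd, φC]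
      rcases eq_or_lt_of_le hi with rfl | hi
      · have : φ (X ^ (2 * j + s + m) * G ^ j) = (G ^ j).coeff 0 * S.B v ((S.nn ε ^ (e - 1)) w) := by
          rw [show 2 * j + s + m = e - 1 by omega]
          conv_lhs => rw [← Polynomial.divX_mul_X_add (G ^ j)]
          rw [mul_add, φadd, φhigh, zero_add, mul_comm, φC]
          · simp [φ]
          · rw [mul_left_comm, ← pow_succ, show e - 1 + 1 = e by omega]
            exact dvd_mul_left _ _
        rw [this, hc, div_mul_cancel₀ _ (mul_ne_zero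
          (by simp only [coeff_zero_eq_eval_zero, eval_pow] at hG0 ⊢; exact pow_ne_zero _ hG0) hvw)]
        ring
      · rw [hTi i hi, φhigh _ ((pow_dvd_pow X (show e ≤ 2 * i + s + m by omega)).mul_right _), mul_zero,
          add_zero]
  obtain ⟨T, hT, hTi⟩ := hz e 0 (by omega)
  set z := Polynomial.aeval (S.nn ε) (X ^ s * T) w with hzdef
  have hzU : z ∈ U := hU.aevalN ε _ w hw
  have hvz : ∀ r : F[X], S.B v (Polynomial.aeval S.hh r z) = 0 := by
    intro r
    have hr : r = (r.comp (X + C (2 * ε))).comp (X - C (2 * ε)) := by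
      rw [comp_assoc]; simp
    rw [hr]
    induction r.comp (X + C (2 * ε)) using Polynomial.induction_on' with
    | add p q hp hq => rw [add_comp, map_add, LinearMap.add_apply, map_add, hp, hq, add_zero]
    | monomial n c =>
      rw [monomial_comp, map_mul, Module.End.mul_apply, aeval_C, Module.algebraMap_end_apply, map_smul,
        hQi n z hzU, hzdef, ← Module.End.mul_apply, ← map_mul]
      exact smul_eq_zero_of_right c (hTi n (Nat.zero_le n))
  set W := S.cyc v ⊔ S.cyc z with hW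
  have hWiso : ∀ x ∈ W, ∀ y ∈ W, S.B x y = 0 := by
    intro x hx y hy
    obtain ⟨x1, hx1, x2, hx2, rfl⟩ := Submodule.mem_sup.1 hx
    obtain ⟨y1, hy1, y2, hy2, rfl⟩ := Submodule.mem_sup.1 hy
    have cross : ∀ a ∈ S.cyc v, ∀ b ∈ S.cyc z, S.B a b = 0 := by
      intro a ha b hb
      obtain ⟨r, rfl⟩ := mem_cyc.1 ha
      obtain ⟨r', rfl⟩ := mem_cyc.1 hb
      rw [S.aeval_adj, ← Module.End.mul_apply, ← map_mul]
      exact hvz _
    simp only [map_add, LinearMap.add_apply, cyc_iso x1 hx1 y1 hy1, cyc_iso x2 hx2 y2 hy2,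
      cross x1 hx1 y2 hy2, S.skew x2 y1, cross y1 hy1 x2 hx2, neg_zero, add_zero]
  have hWU : W ≤ U := sup_le (cyc_le hU hv) (cyc_le hU hzU)
  set na := (e + 1) / 2 with hna
  set nb := e / 2 with hnb
  -- coordinates on `W`
  have hcoordQ : ∀ (n : ℕ), ∀ x ∈ U, ∀ a : ℕ → F,
      ∑ i ∈ Finset.range n, a i • Polynomial.aeval S.hh ((X - C (2 * ε)) ^ i) x =
        Polynomial.aeval (S.nn ε) (ev G n a) x := by
    intro n x hx a
    rw [ev, map_sum, LinearMap.sum_apply]
    refine Finset.sum_congr rfl fun i _ => ?_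
    rw [hQi i x hx, map_mul, Module.End.mul_apply, aeval_C, Module.algebraMap_end_apply]
  have hzev : ∀ a : ℕ → F, Polynomial.aeval (S.nn ε) (ev G nb a) z =
      Polynomial.aeval (S.nn ε) (X ^ s * T * ev G nb a) w := by
    intro a
    rw [hzdef, ← Module.End.mul_apply, ← map_mul, mul_comm]
  have hcomb : ∀ (r : F[X]) (n : ℕ), ∀ x ∈ U, (∀ i, n ≤ i → Polynomial.aeval (S.nn ε) ((X ^ 2 * G) ^ i) x = 0) →
      ∃ a : ℕ → F, Polynomial.aeval S.hh r x = Polynomial.aeval (S.nn ε) (ev G n a) x := by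
    intro r n x hx hhigh
    refine ⟨fun i => (r.comp (X + C (2 * ε))).coeff i, ?_⟩
    rw [← hcoordQ n x hx]
    conv_lhs => rw [show r = (r.comp (X + C (2 * ε))).comp (X - C (2 * ε)) by rw [comp_assoc]; simp]
    set r' := r.comp (X + C (2 * ε))
    rw [Polynomial.comp_eq_sum_left, Polynomial.sum_over_range' _ (fun i => by simp) (r'.natDegree + 1 + n)
      (by omega), map_sum, LinearMap.sum_apply]
    symm
    refine Finset.sum_subset_zero_on_sdiff (Finset.range_mono (by omega)) (fun i hi => ?_) fun i _ => ?_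
    · rw [Finset.mem_sdiff, Finset.mem_range, Finset.mem_range] at hi
      rw [map_mul (Polynomial.aeval S.hh) (C (r'.coeff i)), Module.End.mul_apply, aeval_C,
        Module.algebraMap_end_apply, hQi i x hx, hhigh i (by omega), smul_zero]
    · rw [map_mul (Polynomial.aeval S.hh) (C (r'.coeff i)), Module.End.mul_apply, aeval_C,
        Module.algebraMap_end_apply]
  have hrepr : ∀ x ∈ W, ∃ a b : ℕ → F, x = Polynomial.aeval (S.nn ε) (ev G na a) v +
      Polynomial.aeval (S.nn ε) (X ^ s * T * ev G nb b) w := by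
    intro x hx
    obtain ⟨x1, hx1, x2, hx2, rfl⟩ := Submodule.mem_sup.1 hx
    obtain ⟨r, rfl⟩ := mem_cyc.1 hx1
    obtain ⟨r', rfl⟩ := mem_cyc.1 hx2
    obtain ⟨a, ha⟩ := hcomb r na v hv fun i hi => aevalN_dvd he (by
      rw [mul_pow, ← pow_mul]
      exact (pow_dvd_pow X (show e ≤ 2 * i by omega)).mul_right _) hv
    obtain ⟨b, hb⟩ := hcomb r' nb z hzU fun i hi => by
      rw [hzdef, ← Module.End.mul_apply, ← map_mul]
      refine aevalN_dvd he ((pow_dvd_pow X (show e ≤ 2 * i + s by omega)).trans ⟨G ^ i * T, ?_⟩) hw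
      rw [mul_pow, pow_add, pow_mul]; ring
    exact ⟨a, b, by rw [ha, hb, hzev]⟩
  have hna' : ∀ i, i < na → 2 * i + 0 < e := fun i hi => by omega
  have hnb' : ∀ i, i < nb → 2 * i + s < e := fun i hi => by omega
  have hT0 : T.coeff 0 ≠ 0 := by rw [hT]; exact one_ne_zero
  have hlow : e ≤ finrank F W := by
    let f : Fin na ⊕ Fin nb → V := Sum.elim (fun i => Polynomial.aeval S.hh ((X - C (2 * ε)) ^ (i : ℕ)) v)
      (fun i => Polynomial.aeval S.hh ((X - C (2 * ε)) ^ (i : ℕ)) z)
    have hind : LinearIndependent F f := by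
      rw [Fintype.linearIndependent_iff]
      intro c hc
      let a : ℕ → F := fun i => if hi : i < na then c (Sum.inl ⟨i, hi⟩) else 0
      let b : ℕ → F := fun i => if hi : i < nb then c (Sum.inr ⟨i, hi⟩) else 0
      have e1 := hcoordQ na v hv a
      have e2 := hcoordQ nb z hzU b
      rw [Finset.sum_range] at e1 e2
      rw [Fintype.sum_sum_type] at hc
      simp only [a, b, Fin.is_lt, dite_true, Fin.eta] at e1 e2
      simp only [f, Sum.elim_inl, Sum.elim_inr] at hc
      rw [e1, e2, hzev] at hc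
      obtain ⟨h1, h2⟩ := hfree0 _ _ hc
      have h1' := parity_indep (T := 1) (s := 0) hG0 (by simp) hna' (a := a)
        (by simpa only [pow_zero, one_mul, a] using h1)
      have h2' := parity_indep hG0 hT0 hnb' h2
      rintro (i | i)
      · simpa [a, i.2] using h1' i i.2
      · simpa [b, i.2] using h2' i i.2
    calc e = Fintype.card (Fin na ⊕ Fin nb) := by simp; omega
      _ = finrank F (Submodule.span F (Set.range f)) := (finrank_span_eq_card hind).symm
      _ ≤ _ := by
        refine Submodule.finrank_mono (Submodule.span_le.2 ?_)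
        rintro _ ⟨i | i, rfl⟩
        · exact Submodule.mem_sup_left (mem_cyc.2 ⟨_, rfl⟩)
        · exact Submodule.mem_sup_right (mem_cyc.2 ⟨_, rfl⟩)
  have hup : finrank F U ≤ 2 * e := by
    let f : Fin e ⊕ Fin e → V := Sum.elim (fun i => (S.nn ε ^ (i : ℕ)) v) (fun i => (S.nn ε ^ (i : ℕ)) w)
    have hspan : ∀ u ∈ ({v, w} : Set V), ∀ i : ℕ, (S.nn ε ^ i) u ∈ Submodule.span F (Set.range f) := by
      intro u hu i
      by_cases hi : i < e
      · refine Submodule.subset_span ?_
        rcases hu with rfl | rfl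
        · exact ⟨Sum.inl ⟨i, hi⟩, rfl⟩
        · exact ⟨Sum.inr ⟨i, hi⟩, rfl⟩
      · have hu' : u ∈ U := by rcases hu with rfl | rfl <;> assumption
        have := aevalN_dvd he (pow_dvd_pow X (show e ≤ i by omega)) hu'
        rw [map_pow, aeval_X] at this
        rw [this]
        exact Submodule.zero_mem _
    have hle : ∀ u ∈ ({v, w} : Set V), S.cycN ε u ≤ Submodule.span F (Set.range f) := by
      intro u hu x hx
      obtain ⟨r, rfl⟩ := mem_cycN.1 hx
      induction r using Polynomial.induction_on' with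
      | add p q hp hq =>
        rw [map_add, LinearMap.add_apply]
        exact Submodule.add_mem _ (hp (mem_cycN.2 ⟨p, rfl⟩)) (hq (mem_cycN.2 ⟨q, rfl⟩))
      | monomial n c =>
        rw [aeval_monomial, Module.End.mul_apply, Module.algebraMap_end_apply]
        exact Submodule.smul_mem _ c (hspan u hu n)
    calc finrank F U ≤ finrank F (Submodule.span F (Set.range f)) := by
          rw [← heq]
          exact Submodule.finrank_mono (sup_le (hle v (by simp)) (hle w (by simp)))
      _ ≤ Fintype.card (Fin e ⊕ Fin e) := finrank_range_le_card f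
      _ = 2 * e := by simp; omega
  have hle2 := two_mul_finrank_le hnd hWU hWiso
  refine ⟨W, hWU, hWiso, by omega, ?_, ?_⟩
  · intro x hx
    obtain ⟨x1, hx1, x2, hx2, rfl⟩ := Submodule.mem_sup.1 hx
    rw [map_add]
    exact Submodule.add_mem_sup (cyc_hh x1 hx1) (cyc_hh x2 hx2)
  · intro y hy hgy
    have hNy : S.nn ε y ∈ W := by
      rw [nn_apply]
      exact W.sub_mem hgy (W.smul_mem ε hy)
    obtain ⟨a, b, hab⟩ := hrepr y hy
    obtain ⟨a', b', hab'⟩ := hrepr _ hNy
    have hN : ∀ (r : F[X]) (x : V), Polynomial.aeval (S.nn ε) (X * r) x =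
        S.nn ε (Polynomial.aeval (S.nn ε) r x) := fun r x => by
      rw [map_mul, Module.End.mul_apply, aeval_X]
    have h0 : Polynomial.aeval (S.nn ε) (X * ev G na a - ev G na a') v +
        Polynomial.aeval (S.nn ε) (X * (X ^ s * T * ev G nb b) - X ^ s * T * ev G nb b') w = 0 := by
      rw [map_sub, map_sub, LinearMap.sub_apply, LinearMap.sub_apply, hN, hN, sub_add_sub_comm,
        ← map_add, ← hab, ← hab', sub_self]
    obtain ⟨h1, h2⟩ := hfree0 _ _ h0
    have h1' := (parity (T := 1) (s := 0) hG0 (by simp) hna'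
      (by simpa only [pow_zero, one_mul] using h1)).1
    have h2' := (parity hG0 hT0 hnb' h2).1
    have hzero : S.nn ε y = 0 := by
      rw [hab', show ev G na a' = 0 from Finset.sum_eq_zero fun i hi => by
          rw [h1' i (Finset.mem_range.1 hi), map_zero, zero_mul],
        show ev G nb b' = 0 from Finset.sum_eq_zero fun i hi => by
          rw [h2' i (Finset.mem_range.1 hi), map_zero, zero_mul]]
      simp
    rw [nn_apply, sub_eq_zero] at hzero
    rcases mul_self_eq_one_iff.1 hε with rfl | rfl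
    · exact ⟨y, hy, 0, W.zero_mem, by simp, by simpa using hzero, by simp⟩
    · exact ⟨0, W.zero_mem, y, hy, by simp, by simp, by simpa using hzero⟩

/-! ### The general case -/

theorem exists_prime_power {U : Submodule F V} (hU : S.Inv U) (hnd : S.ND U) (hind : S.Indec U)
    (hne : U ≠ ⊥) : ∃ (p : F[X]) (k : ℕ), p.Monic ∧ Irreducible p ∧ 1 ≤ k ∧
      (∀ x ∈ U, Polynomial.aeval S.hh (p ^ k) x = 0) ∧
      ∃ x ∈ U, Polynomial.aeval S.hh (p ^ (k - 1)) x ≠ 0 := by
  classical
  have hex : ∃ d, ∃ r : F[X], r.Monic ∧ r.natDegree = d ∧ ∀ x ∈ U, Polynomial.aeval S.hh r x = 0 :=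
    ⟨_, minpoly F S.hh, minpoly.monic (Algebra.IsIntegral.isIntegral S.hh), rfl,
      fun x _ => by simp [minpoly.aeval]⟩
  obtain ⟨μ, hμ, hμd, hμU⟩ := Nat.find_spec hex
  have hmin : ∀ r : F[X], r.Monic → (∀ x ∈ U, Polynomial.aeval S.hh r x = 0) →
      μ.natDegree ≤ r.natDegree := fun r h1 h2 =>
    hμd.le.trans (Nat.find_min' hex ⟨r, h1, rfl, h2⟩)
  have hμu : ¬ IsUnit μ := by
    intro h
    rw [hμ.isUnit_iff] at h
    apply hne
    rw [eq_bot_iff]
    intro x hx
    have := hμU x hx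
    rw [h, map_one] at this
    exact (Submodule.mem_bot F).2 this
  obtain ⟨p, hpm, hpi, hpd⟩ := exists_monic_irreducible_factor μ hμu
  obtain ⟨k, s, hs, hμeq⟩ := WfDvdMonoid.max_power_factor hμ.ne_zero hpi
  have hk : 1 ≤ k := by
    by_contra h
    rw [show k = 0 by omega, pow_zero, one_mul] at hμeq
    exact hs (hμeq ▸ hpd)
  have hsm : s.Monic := (hpm.pow k).of_mul_monic_left (hμeq ▸ hμ)
  obtain ⟨a, b, hab⟩ := ((hpi.coprime_iff_not_dvd).2 hs).pow_left (m := k)
  let U₁ : Submodule F V := U ⊓ LinearMap.ker (Polynomial.aeval S.hh (p ^ k))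
  have hmem : ∀ x, x ∈ U₁ ↔ x ∈ U ∧ Polynomial.aeval S.hh (p ^ k) x = 0 := fun x => by
    simp [U₁]
  have hsU : ∀ r : F[X], ∀ x ∈ U, Polynomial.aeval S.hh (r * s) x ∈ U₁ := fun r x hx => by
    rw [hmem]
    refine ⟨hU.aeval _ x hx, ?_⟩
    rw [← Module.End.mul_apply, ← map_mul, show p ^ k * (r * s) = r * μ by rw [hμeq]; ring, map_mul,
      Module.End.mul_apply, hμU x hx, map_zero]
  have hU₁ : S.Inv U₁ := by
    intro x hx
    rw [hmem] at hx ⊢
    exact ⟨hU x hx.1, by rw [S.aeval_comm, hx.2, map_zero]⟩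
  have hnd₁ : S.ND U₁ := by
    intro x hx h
    rw [hmem] at hx
    refine hnd x hx.1 fun y hy => ?_
    have hy' : y = Polynomial.aeval S.hh (p ^ k * a) y + Polynomial.aeval S.hh (b * s) y := by
      rw [← LinearMap.add_apply, ← map_add, mul_comm, hab, map_one, Module.End.one_apply]
    rw [hy', map_add, h _ (hsU b y hy), add_zero, map_mul, Module.End.mul_apply, ← S.aeval_adj, hx.2,
      map_zero, LinearMap.zero_apply]
  have hpos : 0 < p.natDegree := hpi.natDegree_pos
  have hne₁ : U₁ ≠ ⊥ := by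
    intro h
    have hsann : ∀ x ∈ U, Polynomial.aeval S.hh s x = 0 := fun x hx => by
      have := hsU 1 x hx
      rwa [one_mul, h, Submodule.mem_bot] at this
    have := hmin s hsm hsann
    rw [hμeq, (hpm.pow k).natDegree_mul hsm, hpm.natDegree_pow] at this
    have : 0 < k * p.natDegree := Nat.mul_pos hk hpos
    omega
  have heq := hind U₁ inf_le_left hU₁ hnd₁ hne₁
  refine ⟨p, k, hpm, hpi, hk, fun x hx => ((hmem x).1 (heq.symm ▸ hx)).2, ?_⟩
  by_contra h
  push Not at h
  have := hmin _ (hpm.pow (k - 1)) h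
  rw [hμeq, (hpm.pow k).natDegree_mul hsm, hpm.natDegree_pow, hpm.natDegree_pow] at this
  have h' : k * p.natDegree = (k - 1) * p.natDegree + p.natDegree := by
    conv_lhs => rw [show k = k - 1 + 1 by omega, add_mul, one_mul]
  omega

theorem good_indec {U : Submodule F V} (hU : S.Inv U) (hnd : S.ND U) (hind : S.Indec U) (hne : U ≠ ⊥) :
    S.Good U := by
  classical
  obtain ⟨p, k, hpm, hpi, hk, hann, x₀, hx₀, hx₀'⟩ := exists_prime_power hU hnd hind hne
  by_cases hc : ∃ a ∈ U, S.B (S.g a) (Polynomial.aeval S.hh (p ^ (k - 1)) a) ≠ 0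
  · obtain ⟨a, ha, h⟩ := hc
    exact case_cyclic hU hnd hind hpi hann ha (r₀ := 1) (by rwa [mul_one])
  push Not at hc
  set Q := Polynomial.aeval S.hh (p ^ (k - 1)) with hQ
  have hQU : ∀ y ∈ U, Q y ∈ U := fun y hy => hU.aeval _ y hy
  have hQD : ∀ y ∈ U, Q (S.g y - S.g.symm y) = 0 := by
    intro y hy
    refine hnd _ (hQU _ (U.sub_mem (hU y hy) (hU.symm y hy))) fun x hx => ?_
    rw [hQ, S.aeval_adj, ← hQ]
    have h1 := hc (x + y) (U.add_mem hx hy)
    simp only [map_add, LinearMap.add_apply, hc x hx, hc y hy, zero_add, add_zero] at h1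
    have h2 : S.B (S.g x) (Q y) = S.B (Q x) (S.g.symm y) := by
      have hcm : S.g.symm (Q y) = Q (S.g.symm y) := by
        rw [LinearEquiv.symm_apply_eq, hQ, ← S.aeval_comm, LinearEquiv.apply_symm_apply]
      rw [S.iso_symm, hcm, hQ, ← S.aeval_adj]
    rw [map_sub, LinearMap.sub_apply, S.skew (S.g.symm y) (Q x)]
    rw [h2] at h1
    linear_combination h1
  have hdd : ∀ y ∈ U, Polynomial.aeval S.hh (p ^ (k - 1) * (X ^ 2 - C 4)) y = 0 := by
    intro y hy
    have hD : S.g (S.g y - S.g.symm y) - S.g.symm (S.g y - S.g.symm y) =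
        Polynomial.aeval S.hh ((X : F[X]) ^ 2 - C 4) y := by
      rw [map_sub (Polynomial.aeval (R := F) S.hh), map_pow, aeval_X, aeval_C, LinearMap.sub_apply, pow_two, Module.End.mul_apply,
        Module.algebraMap_end_apply, show (4 : F) = 1 + 1 + 1 + 1 by norm_num]
      simp only [map_sub, hh_apply, map_add, LinearEquiv.apply_symm_apply,
        LinearEquiv.symm_apply_apply, add_smul, one_smul]
      abel
    rw [map_mul, Module.End.mul_apply, ← hQ, ← hD]
    exact hQD _ (U.sub_mem (hU y hy) (hU.symm y hy))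
  have hdvd : p ∣ (X - C 2) * (X + C 2) := by
    have : ((X - C 2) * (X + C 2) : F[X]) = X ^ 2 - C 4 := by
      rw [show (4 : F) = 2 * 2 by norm_num, C_mul]; ring
    rw [this]
    by_contra hnd'
    obtain ⟨a, b, hab⟩ := hpi.coprime_iff_not_dvd.2 hnd'
    apply hx₀'
    rw [hQ, show p ^ (k - 1) = a * p ^ k + b * (p ^ (k - 1) * (X ^ 2 - C 4)) by
        conv_lhs => rw [← mul_one (p ^ (k - 1)), ← hab]
        rw [show p ^ k = p ^ (k - 1) * p by rw [← pow_succ, show k - 1 + 1 = k by omega]]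
        ring,
      map_add, LinearMap.add_apply, map_mul, Module.End.mul_apply, hann x₀ hx₀, map_zero, map_mul _ b,
      Module.End.mul_apply, hdd x₀ hx₀, map_zero, add_zero]
  obtain ⟨ε, hε, hpε⟩ : ∃ ε : F, ε * ε = 1 ∧ p = X - C (2 * ε) := by
    rcases hpi.prime.dvd_or_dvd hdvd with h | h
    · refine ⟨1, one_mul 1, ?_⟩
      rw [mul_one]
      exact eq_of_monic_of_associated hpm (monic_X_sub_C 2)
        (hpi.associated_of_dvd (irreducible_X_sub_C 2) h)
    · refine ⟨-1, by ring, ?_⟩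
      rw [mul_neg_one, map_neg, sub_neg_eq_add]
      exact eq_of_monic_of_associated hpm (monic_X_add_C 2)
        (hpi.associated_of_dvd (by simpa using irreducible_X_sub_C (-2 : F)) h)
  have hex : ∃ e, ∀ x ∈ U, (S.nn ε ^ e) x = 0 :=
    ⟨2 * k, fun x hx => aevalN_two_mul hU hε k x hx (hpε ▸ hann x hx)⟩
  refine case_unipotent hU hnd hind hε (Nat.find_spec hex) ?_
  by_contra h
  push Not at h
  have h1 := Nat.find_le (h := hex) (n := Nat.find hex - 1) h
  rw [show Nat.find hex = 0 by omega] at h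
  apply hne
  rw [eq_bot_iff]
  intro x hx
  exact (Submodule.mem_bot F).2 (by simpa using h x hx)

theorem good_of_nd : ∀ (n : ℕ) (U : Submodule F V), finrank F U = n → S.Inv U → S.ND U → S.Good U := by
  intro n
  induction n using Nat.strong_induction_on with
  | _ n ih =>
    intro U hn hU hnd
    by_cases hbot : U = ⊥
    · subst hbot
      refine ⟨⊥, le_rfl, ?_, by simp, ?_, ?_⟩
      · intro x hx; simp [(Submodule.mem_bot F).1 hx]
      · intro x hx; simp [(Submodule.mem_bot F).1 hx]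
      · intro y hy _
        exact ⟨0, Submodule.zero_mem _, 0, Submodule.zero_mem _,
          by simp [(Submodule.mem_bot F).1 hy], by simp, by simp⟩
    by_cases hsp : S.Indec U
    · exact good_indec hU hnd hsp hbot
    simp only [Indec, not_forall] at hsp
    obtain ⟨U', hle, hU', hnd', hne', hneq⟩ := hsp
    have hlt : finrank F U' < n := hn ▸ Submodule.finrank_lt_finrank_of_lt (lt_of_le_of_ne hle hneq)
    obtain ⟨hsup, hinf⟩ := exists_split hle hnd'
    have e2 := Submodule.finrank_sup_add_finrank_inf_eq U' (S.orth U U')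
    rw [hsup, hinf, finrank_bot, hn] at e2
    have hpos : 0 < finrank F U' := Nat.pos_of_ne_zero fun h => hne' (Submodule.finrank_eq_zero.1 h)
    exact Good.add hle hnd' (ih _ hlt U' rfl hU' hnd')
      (ih _ (by omega) _ rfl (orth_inv hU hU') (orth_nd hle hnd hnd')) hU hU'

theorem good_top (hnd : S.ND ⊤) : S.Good ⊤ :=
  good_of_nd _ ⊤ rfl (fun _ _ => Submodule.mem_top) hnd

end Iso

end Cfsg.Agent.Small.SpOre
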