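import Mathlib
import Cfsg.Agent.Lib.Small.SpOreShape

/-!
Every element of a symplectic group is conjugate to one whose upper left block is diagonal with entries `±1`.
-/

set_option autoImplicit false
set_option linter.unusedSectionVars false

open Polynomial Module Matrix

namespace Cfsg.Agent.Small.SpOre

variable {F : Type*} [Field F] {V : Type*} [AddCommGroup V] [Module F V] [FiniteDimensional F V]

namespace Iso

variable {S : Iso F V}

theorem finrank_orth_add (hnd : S.ND ⊤) (D : Submodule F V) :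
    finrank F (S.orth ⊤ D) + finrank F D = finrank F V := by
  let f : V →ₗ[F] Dual F D := (LinearMap.lcomp F F D.subtype).comp S.B.flip
  have hker : LinearMap.ker f = S.orth ⊤ D := by
    ext x
    constructor
    · intro hx
      exact ⟨Submodule.mem_top, fun y hy => by simpa [f] using LinearMap.congr_fun hx ⟨y, hy⟩⟩
    · intro hx
      refine LinearMap.ext fun y => ?_
      simpa [f] using hx.2 y.1 y.2
  have hflip : Function.Injective S.B.flip := by
    rw [← LinearMap.ker_eq_bot, LinearMap.ker_eq_bot']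
    intro x hx
    exact hnd x Submodule.mem_top fun y _ => by
      rw [S.skew]
      simpa using LinearMap.congr_fun hx y
  have hsurj : Function.Surjective f := by
    show Function.Surjective (D.subtype.dualMap ∘ S.B.flip)
    refine (LinearMap.dualMap_surjective_of_injective D.injective_subtype).comp ?_
    exact (LinearMap.injective_iff_surjective_of_finrank_eq_finrank Subspace.dual_finrank_eq.symm).1 hflip
  have h := LinearMap.finrank_range_add_finrank_ker f
  rw [LinearMap.range_eq_top.2 hsurj, finrank_top, Subspace.dual_finrank_eq, hker] at h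
  omega

theorem orth_self (hnd : S.ND ⊤) {W : Submodule F V} (hW : ∀ x ∈ W, ∀ y ∈ W, S.B x y = 0)
    (hdim : 2 * finrank F W = finrank F V) : S.orth ⊤ W = W := by
  have hle : W ≤ S.orth ⊤ W := fun x hx => ⟨Submodule.mem_top, fun y hy => hW y hy x hx⟩
  refine (Submodule.eq_of_le_of_finrank_le hle ?_).symm
  have := finrank_orth_add hnd W
  omega

theorem exists_complement (hnd : S.ND ⊤) {W : Submodule F V} (hW : ∀ x ∈ W, ∀ y ∈ W, S.B x y = 0)
    {m : ℕ} (hdimW : finrank F W = m) (hdimV : finrank F V = 2 * m) :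
    ∀ (k : ℕ) (D : Submodule F V), (∀ x ∈ D, ∀ y ∈ D, S.B x y = 0) → D ⊓ W = ⊥ → m ≤ finrank F D + k →
      ∃ W' : Submodule F V, D ≤ W' ∧ (∀ x ∈ W', ∀ y ∈ W', S.B x y = 0) ∧ W' ⊓ W = ⊥ ∧ finrank F W' = m := by
  have hWW := orth_self hnd hW (by omega)
  have hbound : ∀ D : Submodule F V, D ⊓ W = ⊥ → finrank F (W ⊔ D : Submodule F V) = m + finrank F D := by
    intro D hD
    have := Submodule.finrank_sup_add_finrank_inf_eq W D
    rw [inf_comm, hD, finrank_bot] at this
    omega
  intro k
  induction k with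
  | zero =>
    intro D hD hDW hm
    refine ⟨D, le_rfl, hD, hDW, le_antisymm ?_ (by omega)⟩
    have := hbound D hDW
    have h2 := Submodule.finrank_le (W ⊔ D)
    omega
  | succ k ih =>
    intro D hD hDW hm
    by_cases hfull : m ≤ finrank F D + k
    · exact ih D hD hDW hfull
    set T := (W ⊓ S.orth ⊤ D) ⊔ D with hT
    have h1 : finrank F T ≤ m := by
      have e1 : W ⊓ S.orth ⊤ D ≤ S.orth ⊤ (W ⊔ D) := by
        rintro x ⟨hx, hx'⟩
        refine ⟨Submodule.mem_top, fun y hy => ?_⟩
        obtain ⟨a, ha, b, hb, rfl⟩ := Submodule.mem_sup.1 hy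
        rw [map_add, LinearMap.add_apply, hW a ha x hx, hx'.2 b hb, add_zero]
      have e2 := Submodule.finrank_mono e1
      have e3 := finrank_orth_add hnd (W ⊔ D)
      have e4 := hbound D hDW
      have e5 : finrank F T ≤ finrank F (W ⊓ S.orth ⊤ D : Submodule F V) + finrank F D :=
        Submodule.finrank_add_le_finrank_add_finrank _ _
      omega
    obtain ⟨x, hx, hxT⟩ : ∃ x ∈ S.orth ⊤ D, x ∉ T := by
      by_contra h
      push Not at h
      have := Submodule.finrank_mono (show S.orth ⊤ D ≤ T from h)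
      have := finrank_orth_add hnd D
      omega
    have hxD : x ∉ D := fun h => hxT (Submodule.mem_sup_right h)
    have hspan : ∀ y ∈ D ⊔ Submodule.span F {x}, ∃ d ∈ D, ∃ c : F, y = d + c • x := by
      intro y hy
      obtain ⟨d, hd, z, hz, rfl⟩ := Submodule.mem_sup.1 hy
      obtain ⟨c, rfl⟩ := Submodule.mem_span_singleton.1 hz
      exact ⟨d, hd, c, rfl⟩
    obtain ⟨W', hle, hiso', hinf, hd'⟩ := ih (D ⊔ Submodule.span F {x}) (by
        intro a ha b hb
        obtain ⟨d, hd, c, rfl⟩ := hspan a ha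
        obtain ⟨d', hd', c', rfl⟩ := hspan b hb
        have h3 : S.B d x = 0 := hx.2 d hd
        have h4 : S.B x d' = 0 := by rw [S.skew, hx.2 d' hd', neg_zero]
        simp only [map_add, LinearMap.add_apply, map_smul, LinearMap.smul_apply, hD d hd d' hd', h3, h4,
          S.alt, smul_zero, add_zero]) (by
        rw [eq_bot_iff]
        rintro y ⟨hy, hyW⟩
        obtain ⟨d, hd, c, rfl⟩ := hspan y hy
        by_cases hc : c = 0
        · subst hc
          rw [zero_smul, add_zero] at hyW ⊢
          rw [← hDW]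
          exact ⟨hd, hyW⟩
        exfalso
        apply hxT
        have hmem : d + c • x ∈ W ⊓ S.orth ⊤ D :=
          ⟨hyW, (S.orth ⊤ D).add_mem ⟨Submodule.mem_top, fun y hy => hD y hy d hd⟩
            ((S.orth ⊤ D).smul_mem c hx)⟩
        have : x = c⁻¹ • ((d + c • x) - d) := by
          rw [add_sub_cancel_left, smul_smul, inv_mul_cancel₀ hc, one_smul]
        rw [this]
        exact T.smul_mem _ (T.sub_mem (Submodule.mem_sup_left hmem) (Submodule.mem_sup_right hd))) (by
        have hlt : D < D ⊔ Submodule.span F {x} :=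
          lt_of_le_of_ne le_sup_left fun h => hxD (h ▸ Submodule.mem_sup_right (Submodule.mem_span_singleton_self x))
        have := Submodule.finrank_lt_finrank_of_lt hlt
        omega)
    exact ⟨W', le_sup_left.trans hle, hiso', hinf, hd'⟩

/-- A symplectic basis in which `g` has diagonal upper left block. -/
theorem exists_frame (hnd : S.ND ⊤) {m : ℕ} (hdimV : finrank F V = 2 * m) :
    ∃ (u v : Fin m → V) (ε : Fin m → F), (∀ i, ε i * ε i = 1) ∧ (∀ i j, S.B (u i) (u j) = 0) ∧
      (∀ i j, S.B (v i) (v j) = 0) ∧ (∀ i j, S.B (u i) (v j) = if i = j then -1 else 0) ∧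
      (∀ i j, S.B (v i) (S.g (u j)) = if i = j then ε j else 0) ∧
      ∀ i j, S.B (u i) (S.g (u j)) = S.B (u j) (S.g (u i)) := by
  classical
  obtain ⟨W, -, hW, hd, hh', hY⟩ := good_top hnd
  rw [finrank_top, hdimV] at hd
  have hdimW : finrank F W = m := by omega
  let Y₁ : Submodule F V := W ⊓ LinearMap.ker (S.g.toLinearMap - 1)
  let Y₂ : Submodule F V := W ⊓ LinearMap.ker (S.g.toLinearMap + 1)
  obtain ⟨C₀, hC₀⟩ := Submodule.exists_isCompl (Y₁ ⊔ Y₂)
  let Cc : Submodule F V := W ⊓ C₀
  have hdec : Y₁ ⊔ Y₂ ⊔ Cc = W := by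
    refine le_antisymm (sup_le (sup_le inf_le_left inf_le_left) inf_le_left) fun x hx => ?_
    obtain ⟨y, hy, c, hc, rfl⟩ := Submodule.mem_sup.1 (hC₀.sup_eq_top ▸ (Submodule.mem_top : x ∈ ⊤))
    refine Submodule.add_mem_sup hy ⟨?_, hc⟩
    have hyW : y ∈ W := (sup_le (inf_le_left : Y₁ ≤ W) (inf_le_left : Y₂ ≤ W)) hy
    simpa using W.sub_mem hx hyW
  let D : Submodule F V := Cc.map (S.g.toLinearMap - 1)
  have hDiso : ∀ x ∈ D, ∀ y ∈ D, S.B x y = 0 := by
    rintro _ ⟨a, ha, rfl⟩ _ ⟨b, hb, rfl⟩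
    have h1 := hW a ha.1 _ (hh' b hb.1)
    rw [hh_apply, map_add, ← S.iso_symm] at h1
    simp only [LinearMap.sub_apply, LinearEquiv.coe_coe, Module.End.one_apply, map_sub, S.iso, hW a ha.1 b hb.1]
    linear_combination -h1
  have hDW : D ⊓ W = ⊥ := by
    rw [eq_bot_iff]
    rintro _ ⟨⟨a, ha, rfl⟩, hx⟩
    have hga : S.g a ∈ W := by
      have := W.add_mem hx ha.1
      simpa using this
    obtain ⟨y₁, hy₁, y₂, hy₂, rfl, e₁, e₂⟩ := hY a ha.1 hga
    have hmem : y₁ + y₂ ∈ (Y₁ ⊔ Y₂) ⊓ C₀ :=
      ⟨Submodule.add_mem_sup ⟨hy₁, by simp [e₁]⟩ ⟨hy₂, by simp [e₂]⟩, ha.2⟩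
    rw [hC₀.inf_eq_bot, Submodule.mem_bot] at hmem
    rw [hmem, map_zero]
    exact Submodule.zero_mem _
  obtain ⟨W', hDW', hW', hinf, hdW'⟩ :=
    exists_complement hnd hW hdimW hdimV m D hDiso hDW (by omega)
  -- the adapted basis
  obtain ⟨b, hbsub, hbspan, hbli⟩ := exists_linearIndependent F ((Y₁ : Set V) ∪ Y₂ ∪ Cc)
  rw [Submodule.span_union, Submodule.span_union, Submodule.span_eq, Submodule.span_eq, Submodule.span_eq,
    hdec] at hbspan
  have hbfin : b.Finite := hbli.setFinite
  have := hbfin.fintype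
  have hcard : Fintype.card b = m := by
    rw [← Set.toFinset_card, ← finrank_span_set_eq_card hbli, hbspan, hdimW]
  let e : Fin m ≃ b := (Fintype.equivFinOfCardEq hcard).symm
  let u : Fin m → V := fun i => (e i : V)
  have huW : ∀ i, u i ∈ W := fun i => hbspan ▸ Submodule.subset_span (e i).2
  have hu : LinearIndependent F u := hbli.comp e e.injective
  let ε : Fin m → F := fun i => if S.g (u i) = u i then 1 else if S.g (u i) = -u i then -1 else 1
  have hd' : ∀ i, S.g (u i) - ε i • u i ∈ W' := by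
    intro i
    simp only [ε]
    split_ifs with h1 h2
    · simp [h1]
    · simp [h2]
    · rw [one_smul]
      refine hDW' ⟨u i, ?_, by simp⟩
      rcases hbsub (e i).2 with (h | h) | h
      · exact absurd (by simpa [u, sub_eq_zero] using h.2) h1
      · exact absurd (by simpa [u, add_eq_zero_iff_eq_neg] using h.2) h2
      · exact h
  -- the dual basis
  let ψ : W' →ₗ[F] (Fin m → F) := LinearMap.pi fun i => (S.B (u i)).comp W'.subtype
  have hψ : Function.Injective ψ := by
    rw [← LinearMap.ker_eq_bot, LinearMap.ker_eq_bot']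
    intro x hx
    apply Subtype.ext
    have h1 : (x : V) ∈ S.orth ⊤ W := by
      refine ⟨Submodule.mem_top, fun y hy => ?_⟩
      rw [← hbspan] at hy
      induction hy using Submodule.span_induction with
      | mem y hy =>
        have := congrFun hx (e.symm ⟨y, hy⟩)
        simpa [ψ, u] using this
      | zero => simp
      | add y z _ _ hy hz => rw [map_add, LinearMap.add_apply, hy, hz, add_zero]
      | smul c y _ hy => rw [map_smul, LinearMap.smul_apply, hy, smul_zero]
    rw [orth_self hnd hW (by omega)] at h1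
    have : (x : V) ∈ W' ⊓ W := ⟨x.2, h1⟩
    rwa [hinf, Submodule.mem_bot] at this
  have hsurj : Function.Surjective ψ :=
    (LinearMap.injective_iff_surjective_of_finrank_eq_finrank (by rw [hdW', Module.finrank_fin_fun])).1 hψ
  choose v hv using fun j : Fin m => hsurj (fun i => if i = j then -1 else 0)
  have huv : ∀ i j, S.B (u i) (v j : V) = if i = j then -1 else 0 := fun i j => congrFun (hv j) i
  refine ⟨u, fun j => (v j : V), ε, fun i => ?_, fun i j => hW _ (huW i) _ (huW j),
    fun i j => hW' _ (v i).2 _ (v j).2, huv, fun i j => ?_, fun i j => ?_⟩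
  · simp only [ε]; split_ifs <;> ring
  rotate_left
  · have h1 := hW _ (huW i) _ (hh' _ (huW j))
    rw [hh_apply, map_add, ← S.iso_symm, S.skew (S.g (u i)) (u j), add_neg_eq_zero] at h1
    exact h1
  · have := hW' _ (v i).2 _ (hd' j)
    rw [map_sub, map_smul, smul_eq_mul, S.skew (v i : V) (u j), huv, sub_eq_zero] at this
    rw [this]
    by_cases hij : i = j
    · subst hij; simp
    · simp [hij, Ne.symm hij]

end Iso

/-! ### Matrices -/

variable {m : ℕ}

/-- The symplectic form and a group element as an `Iso`. -/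
noncomputable def isoOf (g : Matrix.symplecticGroup (Fin m) F) : Iso F (Fin m ⊕ Fin m → F) where
  B := Matrix.toLinearMap₂' F (Matrix.J (Fin m) F)
  g := LinearEquiv.ofLinearMap (Matrix.mulVecLin g.1) (Matrix.mulVecLin (g⁻¹).1)
    (by rw [← Matrix.mulVecLin_mul, ← Submonoid.coe_mul, mul_inv_cancel]; exact Matrix.mulVecLin_one)
    (by rw [← Matrix.mulVecLin_mul, ← Submonoid.coe_mul, inv_mul_cancel]; exact Matrix.mulVecLin_one)
  alt x := by
    rw [Matrix.toLinearMap₂'_apply', Matrix.J, Matrix.fromBlocks_mulVec]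
    simp [dotProduct, Fintype.sum_sum_type, mul_comm, Matrix.neg_mulVec, Finset.sum_neg_distrib]
  iso x y := by
    show Matrix.toLinearMap₂' F (Matrix.J (Fin m) F) (g.1 *ᵥ x) (g.1 *ᵥ y) = _
    rw [Matrix.toLinearMap₂'_apply', Matrix.toLinearMap₂'_apply', Matrix.mulVec_mulVec,
      Matrix.dotProduct_mulVec, Matrix.dotProduct_mulVec x, ← Matrix.vecMul_transpose, Matrix.vecMul_vecMul,
      ← Matrix.mul_assoc, SymplecticGroup.mem_iff'.1 g.2]

theorem isoOf_nd (g : Matrix.symplecticGroup (Fin m) F) : (isoOf g).ND ⊤ := by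
  intro x _ hx
  have h : ∀ y, x ⬝ᵥ (Matrix.J (Fin m) F *ᵥ y) = 0 := fun y => by
    simpa [isoOf, Matrix.toLinearMap₂'_apply'] using hx y Submodule.mem_top
  apply _root_.funext
  intro k
  have := h (-(Matrix.J (Fin m) F) *ᵥ Pi.single k 1)
  rw [Matrix.mulVec_mulVec, Matrix.mul_neg, Matrix.J_squared, neg_neg, Matrix.one_mulVec, dotProduct_single_one] at this
  exact this

/-- Every element is conjugate to one with a diagonal upper left block. -/
theorem exists_conj_diag (g : Matrix.symplecticGroup (Fin m) F) :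
    ∃ (P : Matrix.symplecticGroup (Fin m) F) (ε : Fin m → F), (∀ i, ε i * ε i = 1) ∧
      (P⁻¹ * g * P).1.toBlocks₁₁ = Matrix.diagonal ε ∧
      (P⁻¹ * g * P).1.toBlocks₂₁ᵀ = (P⁻¹ * g * P).1.toBlocks₂₁ := by
  classical
  obtain ⟨u, v, ε, hε, huu, hvv, huv, hvg, huu'⟩ := Iso.exists_frame (S := isoOf g) (isoOf_nd g) (m := m)
    (by simp; omega)
  simp only [isoOf, Matrix.toLinearMap₂'_apply', LinearEquiv.coe_ofLinearMap, Matrix.mulVecLin_apply] at huu hvv huv hvg huu'
  let P : Matrix (Fin m ⊕ Fin m) (Fin m ⊕ Fin m) F := Matrix.of fun k l => Sum.elim u v l k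
  have hcol : ∀ (M : Matrix (Fin m ⊕ Fin m) (Fin m ⊕ Fin m) F) (k l),
      (Pᵀ * M * P) k l = Sum.elim u v k ⬝ᵥ (M *ᵥ Sum.elim u v l) := by
    intro M k l
    rw [Matrix.mul_assoc]
    rfl
  have hP : P ∈ Matrix.symplecticGroup (Fin m) F := by
    rw [SymplecticGroup.mem_iff']
    ext k l
    rw [hcol]
    rcases k with i | i <;> rcases l with j | j <;>
      simp only [Sum.elim_inl, Sum.elim_inr, Matrix.J, Matrix.fromBlocks_apply₁₁, Matrix.fromBlocks_apply₁₂,
        Matrix.fromBlocks_apply₂₁, Matrix.fromBlocks_apply₂₂, Matrix.zero_apply, Matrix.neg_apply,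
        Matrix.one_apply]
    · exact huu i j
    · exact (huv i j).trans (by split_ifs <;> simp)
    · have h := (isoOf g).skew (v i) (u j)
      simp only [isoOf, Matrix.toLinearMap₂'_apply'] at h
      simp only [Matrix.J] at h huv
      rw [h, huv]
      by_cases hij : i = j
      · subst hij; simp
      · simp [hij, Ne.symm hij]
    · exact hvv i j
  refine ⟨⟨P, hP⟩, ε, hε, ?_⟩
  refine And.symm ?_
  set Q : Matrix.symplecticGroup (Fin m) F := ⟨P, hP⟩
  have key : Pᵀ * (Matrix.J (Fin m) F * g.1) * P = Matrix.J (Fin m) F * (Q⁻¹ * g * Q).1 := by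
    have h1 : (Q.1) * (Q⁻¹ * g * Q).1 = g.1 * P := by
      rw [← Submonoid.coe_mul, mul_assoc, mul_inv_cancel_left]; rfl
    conv_rhs => rw [← SymplecticGroup.mem_iff'.1 hP]
    simp only [Matrix.mul_assoc]
    rw [h1]
  refine ⟨?_, ?_⟩
  · ext i j
    have h2 := congrFun (congrFun key (Sum.inl i)) (Sum.inl j)
    have h3 := congrFun (congrFun key (Sum.inl j)) (Sum.inl i)
    rw [hcol, ← Matrix.mulVec_mulVec, Sum.elim_inl, Sum.elim_inl, Matrix.mul_apply, Fintype.sum_sum_type] at h2 h3
    rw [huu' i j, h3] at h2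
    simp [Matrix.J, Matrix.one_apply] at h2
    simp [Matrix.toBlocks₂₁, h2]
  ext i j
  have h2 := congrFun (congrFun key (Sum.inr i)) (Sum.inl j)
  rw [hcol, ← Matrix.mulVec_mulVec, Sum.elim_inr, Sum.elim_inl, hvg] at h2
  rw [Matrix.mul_apply, Fintype.sum_sum_type] at h2
  simp [Matrix.J, Matrix.one_apply] at h2
  simp [Matrix.toBlocks₁₁, Matrix.diagonal_apply, ← h2]
  split_ifs with h <;> simp_all

end Cfsg.Agent.Small.SpOre
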