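import Mathlib
import Cfsg.Agent.Lib.Classical.IsometryOrderBound
import Cfsg.Agent.Lib.Lie.SLComm.Companion

/-!
Commutators of a symplectic group whose upper left block is a commutator with a matrix fixing no bilinear form.
-/

set_option autoImplicit false
set_option linter.unusedSectionVars false

open Matrix Polynomial

namespace Cfsg.Agent.Small.SpOre

variable {F : Type*} [Field F] {m : ℕ}

/-- The symplectic group on `2m` coordinates. -/
abbrev Sp (F : Type*) [Field F] (m : ℕ) : Type _ := ↥(Matrix.symplecticGroup (Fin m) F)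

/-- A commutator. -/
def IsCom {G : Type*} [Group G] (g : G) : Prop := ∃ a b : G, g = a * b * a⁻¹ * b⁻¹

theorem IsCom.conj {G : Type*} [Group G] {g : G} (h : IsCom g) (c : G) : IsCom (c * g * c⁻¹) := by
  obtain ⟨a, b, rfl⟩ := h
  exact ⟨c * a * c⁻¹, c * b * c⁻¹, by group⟩

theorem IsCom.of_conj {G : Type*} [Group G] {g : G} (c : G) (h : IsCom (c * g * c⁻¹)) : IsCom g := by
  have := h.conj c⁻¹
  rwa [show c⁻¹ * (c * g * c⁻¹) * c⁻¹⁻¹ = g by group] at this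

/-! ### Matrices fixing no bilinear form -/

/-- A matrix is annihilated by a polynomial coprime to one annihilating its inverse. -/
def Free (A : Matrix (Fin m) (Fin m) F) : Prop :=
  IsUnit A.det ∧ ∃ r s : F[X], IsCoprime r s ∧ aeval A r = 0 ∧ aeval A⁻¹ s = 0

theorem aeval_transpose (A : Matrix (Fin m) (Fin m) F) (p : F[X]) : aeval Aᵀ p = (aeval A p)ᵀ := by
  induction p using Polynomial.induction_on' with
  | add p q hp hq => rw [map_add, map_add, transpose_add, hp, hq]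
  | monomial n c =>
    rw [aeval_monomial, aeval_monomial, ← Algebra.smul_def, ← Algebra.smul_def, transpose_smul,
      transpose_pow]

theorem aeval_conj {A P : Matrix (Fin m) (Fin m) F} (hP : IsUnit P.det) (p : F[X]) :
    aeval (P * A * P⁻¹) p = P * aeval A p * P⁻¹ := by
  have h := Agent.Lie.SLComm.aeval_intertwine (A := P * A * P⁻¹) (D := A) (Z := P)
    (by rw [Matrix.mul_assoc, nonsing_inv_mul P hP, mul_one]) p
  rw [← h, Matrix.mul_assoc _ P P⁻¹, mul_nonsing_inv P hP, mul_one]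

theorem Free.inv {A : Matrix (Fin m) (Fin m) F} (h : Free A) : Free A⁻¹ := by
  obtain ⟨hA, r, s, hrs, hr, hs⟩ := h
  exact ⟨isUnit_nonsing_inv_det A hA, s, r, hrs.symm, hs, by rwa [nonsing_inv_nonsing_inv A hA]⟩

theorem Free.transpose {A : Matrix (Fin m) (Fin m) F} (h : Free A) : Free Aᵀ := by
  obtain ⟨hA, r, s, hrs, hr, hs⟩ := h
  refine ⟨by rwa [det_transpose], r, s, hrs, ?_, ?_⟩
  · rw [aeval_transpose, hr, transpose_zero]
  · rw [← transpose_nonsing_inv, aeval_transpose, hs, transpose_zero]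

theorem Free.conj {A P : Matrix (Fin m) (Fin m) F} (h : Free A) (hP : IsUnit P.det) :
    Free (P * A * P⁻¹) := by
  obtain ⟨hA, r, s, hrs, hr, hs⟩ := h
  refine ⟨?_, r, s, hrs, ?_, ?_⟩
  · rw [det_mul, det_mul]; exact (hP.mul hA).mul (isUnit_nonsing_inv_det P hP)
  · rw [aeval_conj hP, hr, Matrix.mul_zero, Matrix.zero_mul]
  · rw [Matrix.mul_inv_rev, Matrix.mul_inv_rev, nonsing_inv_nonsing_inv P hP, ← Matrix.mul_assoc,
      aeval_conj hP, hs, Matrix.mul_zero, Matrix.zero_mul]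

theorem Free.form_eq_zero {A T : Matrix (Fin m) (Fin m) F} (h : Free A) (hT : Aᵀ * T * A = T) : T = 0 := by
  obtain ⟨hA, r, s, ⟨a, b, hab⟩, hr, hs⟩ := h
  have hint : (A⁻¹)ᵀ * T = T * A := by
    conv_lhs => rw [← hT]
    rw [← Matrix.mul_assoc, ← Matrix.mul_assoc, ← transpose_mul, mul_nonsing_inv A hA, transpose_one,
      one_mul]
  have h1 : aeval (A⁻¹)ᵀ r * T = 0 := by
    rw [Agent.Lie.SLComm.aeval_intertwine hint r, hr, Matrix.mul_zero]
  have h2 : aeval (A⁻¹)ᵀ (a * r + b * s) * T = 0 := by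
    rw [map_add, map_mul, map_mul, aeval_transpose A⁻¹ s, hs, transpose_zero, mul_zero, add_zero,
      Matrix.mul_assoc, h1, Matrix.mul_zero]
  rwa [hab, map_one, one_mul] at h2

/-- A matrix annihilated by a polynomial coprime to its reverse. -/
theorem Free.of_coprime [Fintype F] {A : Matrix (Fin m) (Fin m) F} (hA : IsUnit A.det) {r : F[X]}
    (hr : aeval A r = 0) (hc : IsCoprime r r.reverse) : Free A :=
  ⟨hA, r, r.reverse, hc, hr, by
    rw [Agent.Classical.OrderBound.aeval_reverse (nonsing_inv_mul A hA) (mul_nonsing_inv A hA), hr,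
      mul_zero]⟩

variable [Fintype F]

/-- `T ↦ T - Aᵀ T A` is onto the symmetric matrices. -/
theorem Free.exists_sym {A : Matrix (Fin m) (Fin m) F} (h : Free A) {S : Matrix (Fin m) (Fin m) F}
    (hS : Sᵀ = S) : ∃ T, Tᵀ = T ∧ T - Aᵀ * T * A = S := by
  classical
  let Φ : {T : Matrix (Fin m) (Fin m) F // Tᵀ = T} → {T : Matrix (Fin m) (Fin m) F // Tᵀ = T} := fun T =>
    ⟨T.1 - Aᵀ * T.1 * A, by
      rw [transpose_sub, transpose_mul, transpose_mul, transpose_transpose, T.2, Matrix.mul_assoc]⟩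
  have hinj : Function.Injective Φ := by
    intro T T' hTT
    have h1 : T.1 - Aᵀ * T.1 * A = T'.1 - Aᵀ * T'.1 * A := congrArg Subtype.val hTT
    refine Subtype.ext (sub_eq_zero.1 (h.form_eq_zero ?_))
    rw [Matrix.mul_sub, Matrix.sub_mul]
    linear_combination (norm := abel) (-1 : ℤ) • h1
  obtain ⟨T, hT⟩ := Finite.surjective_of_injective hinj ⟨S, hS⟩
  exact ⟨T.1, T.2, congrArg Subtype.val hT⟩

/-! ### The generators -/

omit [Fintype F]

theorem dmat_mem {A : Matrix (Fin m) (Fin m) F} (hA : IsUnit A.det) :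
    fromBlocks A 0 0 (A⁻¹)ᵀ ∈ Matrix.symplecticGroup (Fin m) F := by
  rw [SymplecticGroup.mem_iff']
  simp only [Matrix.J, fromBlocks_transpose, fromBlocks_multiply, transpose_zero, transpose_transpose,
    Matrix.mul_zero, Matrix.zero_mul, Matrix.mul_neg, Matrix.mul_one, add_zero, zero_add,
    Matrix.neg_mul, neg_zero, ← transpose_mul, nonsing_inv_mul A hA, transpose_one]

theorem umat_mem {S : Matrix (Fin m) (Fin m) F} (hS : Sᵀ = S) :
    fromBlocks (1 : Matrix (Fin m) (Fin m) F) S 0 1 ∈ Matrix.symplecticGroup (Fin m) F := by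
  rw [SymplecticGroup.mem_iff']
  simp [Matrix.J, fromBlocks_transpose, fromBlocks_multiply, hS]

theorem lmat_mem {S : Matrix (Fin m) (Fin m) F} (hS : Sᵀ = S) :
    fromBlocks (1 : Matrix (Fin m) (Fin m) F) 0 S 1 ∈ Matrix.symplecticGroup (Fin m) F := by
  rw [SymplecticGroup.mem_iff']
  simp [Matrix.J, fromBlocks_transpose, fromBlocks_multiply, hS]

/-- The Levi element. -/
noncomputable def dg (A : Matrix (Fin m) (Fin m) F) (hA : IsUnit A.det) : Sp F m := ⟨_, dmat_mem hA⟩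

/-- Upper unipotent. -/
def ug (S : Matrix (Fin m) (Fin m) F) (hS : Sᵀ = S) : Sp F m := ⟨_, umat_mem hS⟩

/-- Lower unipotent. -/
def lg (S : Matrix (Fin m) (Fin m) F) (hS : Sᵀ = S) : Sp F m := ⟨_, lmat_mem hS⟩

theorem val_mul (g h : Sp F m) : (g * h).1 = g.1 * h.1 := rfl

theorem dg_congr {A B : Matrix (Fin m) (Fin m) F} (h : A = B) (hA : IsUnit A.det) :
    dg A hA = dg B (h ▸ hA) := by
  subst h; rfl

theorem dg_mul {A B : Matrix (Fin m) (Fin m) F} (hA : IsUnit A.det) (hB : IsUnit B.det) :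
    dg A hA * dg B hB = dg (A * B) (by rw [det_mul]; exact hA.mul hB) := by
  apply Subtype.ext
  simp [val_mul, dg, fromBlocks_multiply, Matrix.mul_inv_rev]

theorem dg_one (h : IsUnit (1 : Matrix (Fin m) (Fin m) F).det) : dg (1 : Matrix (Fin m) (Fin m) F) h = 1 := by
  apply Subtype.ext
  simp [dg]

theorem dg_inv {A : Matrix (Fin m) (Fin m) F} (hA : IsUnit A.det) :
    (dg A hA)⁻¹ = dg A⁻¹ (isUnit_nonsing_inv_det A hA) := by
  rw [inv_eq_iff_mul_eq_one, dg_mul, dg_congr (mul_nonsing_inv A hA), dg_one]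

theorem ug_inv {S : Matrix (Fin m) (Fin m) F} (hS : Sᵀ = S) :
    (ug S hS)⁻¹ = ug (-S) (by rw [transpose_neg, hS]) := by
  rw [inv_eq_iff_mul_eq_one]
  apply Subtype.ext
  simp [val_mul, ug, fromBlocks_multiply]

theorem lg_inv {S : Matrix (Fin m) (Fin m) F} (hS : Sᵀ = S) :
    (lg S hS)⁻¹ = lg (-S) (by rw [transpose_neg, hS]) := by
  rw [inv_eq_iff_mul_eq_one]
  apply Subtype.ext
  simp [val_mul, lg, fromBlocks_multiply]

/-- Block relations. -/
theorem blocks (g : Sp F m) :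
    (g.1.toBlocks₂₁)ᵀ * g.1.toBlocks₁₁ = (g.1.toBlocks₁₁)ᵀ * g.1.toBlocks₂₁ ∧
    (g.1.toBlocks₁₁)ᵀ * g.1.toBlocks₂₂ = 1 + (g.1.toBlocks₂₁)ᵀ * g.1.toBlocks₁₂ ∧
    g.1.toBlocks₁₂ * (g.1.toBlocks₁₁)ᵀ = g.1.toBlocks₁₁ * (g.1.toBlocks₁₂)ᵀ := by
  have h1 := SymplecticGroup.mem_iff'.1 g.2
  have h2 := SymplecticGroup.mem_iff.1 g.2
  rw [← fromBlocks_toBlocks g.1, Matrix.J, fromBlocks_transpose, fromBlocks_multiply,
    fromBlocks_multiply, fromBlocks_inj] at h1 h2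
  simp only [Matrix.mul_zero, Matrix.mul_one, Matrix.mul_neg, zero_add, add_zero,
    Matrix.neg_mul] at h1 h2
  obtain ⟨a1, a2, -, -⟩ := h1
  obtain ⟨b1, -, -, -⟩ := h2
  refine ⟨?_, ?_, ?_⟩
  · exact sub_eq_zero.1 (by rw [sub_eq_add_neg]; exact a1)
  · linear_combination (norm := abel) (-1 : ℤ) • a2
  · exact sub_eq_zero.1 (by rw [sub_eq_add_neg]; exact b1)

/-- The factorisation at an invertible upper left block. -/
theorem factor (g : Sp F m) {A B : Matrix (Fin m) (Fin m) F} (hA : IsUnit A.det) (hB : IsUnit B.det)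
    (hX : g.1.toBlocks₁₁ = A * B) :
    ∃ (S₁ : Matrix (Fin m) (Fin m) F) (h₁ : S₁ᵀ = S₁) (S₂ : Matrix (Fin m) (Fin m) F) (h₂ : S₂ᵀ = S₂),
      g = lg S₁ h₁ * dg A hA * (dg B hB * ug S₂ h₂) := by
  have hABu : IsUnit (A * B).det := by rw [det_mul]; exact hA.mul hB
  obtain ⟨e1, e2, e3⟩ := blocks g
  rw [hX] at e1 e2 e3
  set X := A * B with hXdef
  set Y := g.1.toBlocks₁₂
  set Z := g.1.toBlocks₂₁
  set W := g.1.toBlocks₂₂
  have hXX : X * X⁻¹ = 1 := mul_nonsing_inv X hABu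
  have hXX' : X⁻¹ * X = 1 := nonsing_inv_mul X hABu
  have hXT : (X⁻¹)ᵀ * Xᵀ = 1 := by rw [← transpose_mul, hXX, transpose_one]
  have hS1 : (Z * X⁻¹)ᵀ = Z * X⁻¹ := by
    calc (Z * X⁻¹)ᵀ = (X⁻¹)ᵀ * (Zᵀ * X) * X⁻¹ := by
          rw [transpose_mul, Matrix.mul_assoc, Matrix.mul_assoc Zᵀ, hXX, mul_one]
      _ = (X⁻¹)ᵀ * Xᵀ * (Z * X⁻¹) := by rw [e1]; simp only [Matrix.mul_assoc]
      _ = _ := by rw [hXT, one_mul]
  have hS2 : (X⁻¹ * Y)ᵀ = X⁻¹ * Y := by
    calc (X⁻¹ * Y)ᵀ = X⁻¹ * (X * Yᵀ) * (X⁻¹)ᵀ := by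
          rw [transpose_mul, ← Matrix.mul_assoc X⁻¹, hXX', one_mul]
      _ = X⁻¹ * Y * (Xᵀ * (X⁻¹)ᵀ) := by rw [← e3]; simp only [Matrix.mul_assoc]
      _ = _ := by rw [← transpose_mul, hXX', transpose_one, mul_one]
  have hW : W = (X⁻¹)ᵀ + Z * X⁻¹ * Y := by
    calc W = (X⁻¹)ᵀ * (Xᵀ * W) := by rw [← Matrix.mul_assoc, hXT, one_mul]
      _ = (X⁻¹)ᵀ + (X⁻¹)ᵀ * Zᵀ * Y := by rw [e2, Matrix.mul_add, mul_one, Matrix.mul_assoc]
      _ = _ := by rw [← transpose_mul, hS1]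
  refine ⟨_, hS1, _, hS2, ?_⟩
  apply Subtype.ext
  conv_lhs => rw [← fromBlocks_toBlocks g.1]
  rw [hX]
  change fromBlocks X Y Z W = _
  simp only [val_mul, lg, dg, ug, fromBlocks_multiply, Matrix.mul_zero, Matrix.zero_mul,
    Matrix.mul_one, Matrix.one_mul, add_zero, zero_add]
  rw [fromBlocks_inj]
  have hinv : (X⁻¹)ᵀ = (A⁻¹)ᵀ * (B⁻¹)ᵀ := by rw [← transpose_mul, hXdef, Matrix.mul_inv_rev]
  refine ⟨rfl, ?_, ?_, ?_⟩
  · rw [← Matrix.mul_assoc A, ← hXdef, ← Matrix.mul_assoc, hXX, one_mul]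
  · rw [Matrix.mul_assoc (Z * X⁻¹), ← hXdef, Matrix.mul_assoc Z, hXX', mul_one]
  · rw [hW, hinv]
    have h' : Z * X⁻¹ * A * (B * (X⁻¹ * Y)) = Z * X⁻¹ * Y := by
      calc _ = Z * X⁻¹ * ((A * B) * X⁻¹ * Y) := by simp only [Matrix.mul_assoc]
        _ = _ := by rw [← hXdef, hXX, one_mul]
    rw [h', add_comm]

variable [Fintype F]

/-- An upper left block `A P A⁻¹ P⁻¹` with `A` fixing no form gives a commutator. -/
theorem of_block (g : Sp F m) {A P : Matrix (Fin m) (Fin m) F} (hA : Free A) (hP : IsUnit P.det)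
    (hX : g.1.toBlocks₁₁ = A * (P * A⁻¹ * P⁻¹)) : IsCom g := by
  obtain ⟨B, hBdef⟩ : ∃ B, B = P * A⁻¹ * P⁻¹ := ⟨_, rfl⟩
  rw [← hBdef] at hX
  have hB : Free B := hBdef ▸ hA.inv.conj hP
  obtain ⟨S₁, h₁, S₂, h₂, hg⟩ := factor g hA.1 hB.1 hX
  obtain ⟨T, hT, hTe⟩ := hA.inv.exists_sym h₁
  obtain ⟨T', hT', hTe'⟩ := hB.transpose.exists_sym (S := B * S₂ * Bᵀ)
    (by rw [transpose_mul, transpose_mul, transpose_transpose, h₂, Matrix.mul_assoc])
  have hl : lg S₁ h₁ * dg A hA.1 = lg T hT * dg A hA.1 * (lg T hT)⁻¹ := by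
    rw [eq_mul_inv_iff_mul_eq]
    apply Subtype.ext
    simp only [val_mul, lg, dg, fromBlocks_multiply, Matrix.mul_zero, Matrix.zero_mul,
      Matrix.mul_one, Matrix.one_mul, add_zero, zero_add]
    rw [fromBlocks_inj]
    refine ⟨rfl, rfl, ?_, rfl⟩
    rw [← hTe, Matrix.sub_mul, Matrix.mul_assoc _ A⁻¹ A, nonsing_inv_mul A hA.1, mul_one, sub_add_cancel]
  have hr : dg B hB.1 * ug S₂ h₂ = ug T' hT' * dg B hB.1 * (ug T' hT')⁻¹ := by
    rw [eq_mul_inv_iff_mul_eq]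
    apply Subtype.ext
    simp only [val_mul, ug, dg, fromBlocks_multiply, Matrix.mul_zero, Matrix.zero_mul,
      Matrix.mul_one, Matrix.one_mul, add_zero, zero_add]
    rw [fromBlocks_inj]
    refine ⟨rfl, ?_, rfl, rfl⟩
    rw [transpose_transpose] at hTe'
    have hBB : Bᵀ * (B⁻¹)ᵀ = 1 := by rw [← transpose_mul, nonsing_inv_mul B hB.1, transpose_one]
    calc B * T' + B * S₂ = (B * T' * Bᵀ + B * S₂ * Bᵀ) * (B⁻¹)ᵀ := by
          rw [Matrix.add_mul, Matrix.mul_assoc _ Bᵀ, hBB, mul_one, Matrix.mul_assoc _ Bᵀ, hBB, mul_one]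
      _ = T' * (B⁻¹)ᵀ := by rw [← hTe', add_sub_cancel]
  have hdB : dg B hB.1 = dg P hP * (dg A hA.1)⁻¹ * (dg P hP)⁻¹ := by
    rw [dg_inv, dg_inv, dg_mul, dg_mul]
    exact dg_congr hBdef _
  refine ⟨lg T hT * dg A hA.1 * (lg T hT)⁻¹, ug T' hT' * dg P hP * (lg T hT)⁻¹, ?_⟩
  rw [hg, hl, hr, hdB]
  group

end Cfsg.Agent.Small.SpOre
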