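import Mathlib
import Cfsg.Agent.Lib.Lie.SLComm.Companion
import Cfsg.Agent.Lib.Small.SpOreLin

/-!
A diagonalisable matrix with one irreducible quadratic block, of determinant one, is a commutator one of whose
entries fixes no bilinear form.
-/

set_option autoImplicit false
set_option linter.unusedSectionVars false
set_option linter.unusedSimpArgs false

namespace Cfsg.Agent.Small.SpOre

open Matrix Polynomial
open Cfsg.Agent.Lie.SLComm

variable {F : Type*} [Field F]

/-- The key lemma. -/
theorem exists_diag_partner {l : ℕ} (hl : 0 < l) (f : F[X]) (hf : f.Monic) (hfd : f.natDegree = l + 2)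
    (t : Fin l → F) (ht : ∀ i, t i ≠ 0) (q : F[X]) (hq : q.Monic) (hqd : q.natDegree = 2)
    (hroot : ∀ i, q.eval (t i) ≠ 0)
    (g : F[X]) (hg : g.Monic) (hgd : g.natDegree = l + 2) (hg0 : g.coeff 0 = f.coeff 0 * (∏ i, t i) * q.coeff 0) :
    ∃ X₀ : Matrix (Fin (l + 2)) (Fin (l + 2)) F, X₀.det = (∏ i, t i) * q.coeff 0 ∧
      Sim X₀ (fromBlocks (Matrix.diagonal t) 0 0 (cmp 2 q)) ∧
      Sim (cmp (l + 2) f * X₀) (cmp (l + 2) g) := by
  classical
  let T : Matrix (Fin l) (Fin l) F :=
    Matrix.of fun i j => if i = j then t i else 0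
  let u : F := f.coeff (l + 1) + 1
  let Q : Matrix (Fin 2) (Fin 2) F := !![u, u * (-q.coeff 1 - u) - q.coeff 0; 1, -q.coeff 1 - u]
  let Xz : F → (Fin l → F) → Matrix (Fin (l + 2)) (Fin (l + 2)) F := fun z E =>
    Matrix.reindex finSumFinEquiv finSumFinEquiv
      (fromBlocks T (Matrix.of fun i => ![if (i : ℕ) + 1 = l then z else 0, E i]) 0 Q)
  let wext : (Fin l → F) → Fin (l + 2) → F := fun E => Fin.append E 0
  let ez : F → Fin (l + 2) → F := fun z k => if (k : ℕ) + 1 = l then z else 0
  have hdec : ∀ z E, Xz z E = Xz 0 0 + Matrix.vecMulVec (ez z) (Pi.single ⟨l, by omega⟩ 1) +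
      Matrix.vecMulVec (wext E) (Pi.single (Fin.last (l + 1)) 1) := by
    intro z E
    ext i j
    refine Fin.addCases (fun i => ?_) (fun i => ?_) i <;> refine Fin.addCases (fun j => ?_) (fun j => ?_) j
    · simp [Xz, wext, ez, Matrix.vecMulVec_apply, Pi.single_apply, Fin.ext_iff, j.2.ne,
        show ¬ (j : ℕ) = l + 1 by omega]
    · fin_cases j <;> simp [Xz, wext, ez, Matrix.vecMulVec_apply, Pi.single_apply, Fin.ext_iff]
    · simp [Xz, wext, ez, Matrix.vecMulVec_apply, Pi.single_apply, Fin.ext_iff, j.2.ne,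
        show ¬ (j : ℕ) = l + 1 by omega]
    · fin_cases j <;> simp [Xz, wext, ez, Matrix.vecMulVec_apply, Pi.single_apply, Fin.ext_iff,
        show ¬ (l + (i : ℕ) + 1 = l) by omega]
  have hX0 : ∀ z E (i j : Fin (l + 2)), (j : ℕ) < l → (j : ℕ) < i → Xz z E i j = 0 := by
    intro z E i j hj hij
    revert hj hij
    refine Fin.addCases (fun j => ?_) (fun j => ?_) j
    · refine Fin.addCases (fun i => ?_) (fun i => ?_) i
      · intro _ h
        simp at h
        simp [Xz, T, show i ≠ j from (ne_of_gt h)]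
      · intros; simp [Xz]
    · intro h; simp at h
  have hXd : ∀ z E (j : Fin l), Xz z E (Fin.castAdd 2 j) (Fin.castAdd 2 j) = t j := fun z E j => by simp [Xz, T]
  have hl0 : (⟨l, by omega⟩ : Fin (l + 2)) = Fin.natAdd l 0 := Fin.ext (by simp)
  have hl1 : Fin.last (l + 1) = Fin.natAdd l (1 : Fin 2) := Fin.ext (by simp)
  let Y : F → (Fin l → F) → Matrix (Fin (l + 2)) (Fin (l + 2)) F := fun z E => cmp (l + 2) f * Xz z E
  have hY : ∀ z E, Hess (Y z E) := by
    intro z E
    refine ⟨fun i j hij => ?_, fun i j hij => ?_⟩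
    · show (cmp (l + 2) f * Xz z E) i j = 0
      rw [cmp_mul_apply, dif_pos (by omega), hX0 z E _ j (by omega) (by show (j : ℕ) < (i : ℕ) - 1; omega),
        hX0 z E _ j (by omega) (by simp; omega), mul_zero, sub_zero]
    · show (cmp (l + 2) f * Xz z E) i j ≠ 0
      rw [cmp_mul_apply, dif_pos (by omega)]
      have hi : (⟨(i : ℕ) - 1, by omega⟩ : Fin (l + 2)) = j := Fin.ext (by simp; omega)
      rw [hi]
      by_cases hj : (j : ℕ) < l
      · rw [hX0 z E (Fin.last (l + 1)) j hj (by simp; omega), mul_zero, sub_zero,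
          show j = Fin.castAdd 2 ⟨j, hj⟩ from Fin.ext rfl, hXd]
        exact ht _
      · have e1 : j = Fin.natAdd l (0 : Fin 2) := Fin.ext (by simp; omega)
        rw [show (i : ℕ) = l + 1 by omega, e1, hl1]
        simp [Xz, Q, u]
  let e0 : Fin (l + 2) → F := Pi.single ⟨0, by omega⟩ 1
  have hk : ∀ z E, ∀ j, j < l + 1 → kry (Y z E) e0 j (Fin.last (l + 1)) = 0 := fun z E j hj =>
    (kry_hessenberg (Y z E) (by omega) (hY z E).1 j (by omega)).1 _ (by simp; omega)
  have hγ : ∀ z E, kry (Y z E) e0 (l + 1) (Fin.last (l + 1)) ≠ 0 := fun z E =>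
    (kry_hessenberg (Y z E) (by omega) (hY z E).1 (l + 1) (by omega)).2 (hY z E).2
  -- the trace fixes the first parameter
  let z : F := -g.coeff (l + 1) - (Y 0 0).trace
  have hYdec : ∀ E, Y z E = Y z 0 + Matrix.vecMulVec (cmp (l + 2) f *ᵥ wext E) (Pi.single (Fin.last (l + 1)) 1) := by
    intro E
    show cmp (l + 2) f * Xz z E = cmp (l + 2) f * Xz z 0 + _
    rw [hdec z E, hdec z 0, show wext 0 = 0 from funext (Fin.addCases (by simp [wext]) (by simp [wext])),
      Matrix.zero_vecMulVec, add_zero, Matrix.mul_add, Matrix.mul_vecMulVec]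
  have hwlast : ∀ E, wext E (Fin.last (l + 1)) = 0 := fun E => by rw [hl1]; simp [wext]
  have hezlast : ez z (Fin.last (l + 1)) = 0 := by
    simp [ez]
    intros; omega
  have htr : ∀ E, (Y z E).trace = -g.coeff (l + 1) := by
    intro E
    have e2 : Y z 0 = Y 0 0 + Matrix.vecMulVec (cmp (l + 2) f *ᵥ ez z) (Pi.single ⟨l, by omega⟩ 1) := by
      show cmp (l + 2) f * Xz z 0 = cmp (l + 2) f * Xz 0 0 + _
      rw [hdec z 0, show wext 0 = 0 from funext (Fin.addCases (by simp [wext]) (by simp [wext])),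
        Matrix.zero_vecMulVec, add_zero, Matrix.mul_add, Matrix.mul_vecMulVec]
    rw [hYdec E, e2, Matrix.trace_add, Matrix.trace_add, Matrix.trace_vecMulVec, Matrix.trace_vecMulVec,
      dotProduct_single_one, dotProduct_single_one, cmp_mulVec f _ hezlast, cmp_mulVec f _ (hwlast E),
      dif_pos (show 0 < l from hl), dif_pos (by simp),
      show (⟨((Fin.last (l + 1) : Fin (l + 2)) : ℕ) - 1, by simp⟩ : Fin (l + 2)) = Fin.natAdd l (0 : Fin 2) from
        Fin.ext (by simp)]
    simp [wext, ez, z, show l - 1 + 1 = l by omega]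
  -- the last column fixes the second
  let δ : (Fin l → F) → Fin (l + 2) → F := fun E =>
    kry (Y z E) e0 (l + 2) + ∑ j ∈ Finset.range (l + 2), g.coeff j • kry (Y z E) e0 j
  have hsame : ∀ E, ∀ j, j ≤ l + 1 → kry (Y z E) e0 j = kry (Y z 0) e0 j := by
    intro E j hj
    induction j with
    | zero => rw [kry_zero, kry_zero]
    | succ j ih =>
      rw [kry_succ, kry_succ, ih (by omega), hYdec E, Matrix.add_mulVec, Matrix.vecMulVec_mulVec,
        single_one_dotProduct, hk z 0 j (by omega)]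
      simp
  set γ := kry (Y z 0) e0 (l + 1) (Fin.last (l + 1)) with hγdef
  have hδ : ∀ E, δ E = δ 0 + γ • (cmp (l + 2) f *ᵥ wext E) := by
    intro E
    have hsum : ∑ j ∈ Finset.range (l + 2), g.coeff j • kry (Y z E) e0 j =
        ∑ j ∈ Finset.range (l + 2), g.coeff j • kry (Y z 0) e0 j :=
      Finset.sum_congr rfl fun j hj => by rw [hsame E j (by simp at hj; omega)]
    simp only [δ, hsum]
    show kry (Y z E) e0 (l + 1 + 1) + _ = kry (Y z 0) e0 (l + 1 + 1) + _ + _
    rw [kry_succ (Y z E) e0 (l + 1), kry_succ (Y z 0) e0 (l + 1), hsame E (l + 1) le_rfl, hYdec E, Matrix.add_mulVec, Matrix.vecMulVec_mulVec,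
      single_one_dotProduct, ← hγdef]
    simp only [op_smul_eq_smul]
    abel
  let E₁ : Fin l → F := fun i => -δ 0 ⟨(i : ℕ) + 1, by omega⟩ / γ
  have hmid : ∀ i : Fin (l + 2), 0 < (i : ℕ) → (i : ℕ) ≤ l → δ E₁ i = 0 := by
    intro i h1 h2
    rw [hδ, Pi.add_apply, Pi.smul_apply, cmp_mulVec f _ (hwlast _), dif_pos h1,
      show (⟨(i : ℕ) - 1, by omega⟩ : Fin (l + 2)) = Fin.castAdd 2 ⟨(i : ℕ) - 1, by omega⟩ from Fin.ext rfl]
    simp only [wext, Fin.append_left, E₁, smul_eq_mul]
    rw [show (⟨(i : ℕ) - 1 + 1, by omega⟩ : Fin (l + 2)) = i from Fin.ext (by simp; omega)]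
    field_simp [show γ ≠ 0 from hγ z 0]
    ring
  set M := Y z E₁ with hM
  have hind := hessenberg_independent M (by omega) (hY z E₁).1 (hY z E₁).2
  have hdM : M.charpoly.natDegree = l + 2 := by rw [Matrix.charpoly_natDegree_eq_dim, Fintype.card_fin]
  set d := g - M.charpoly with hd
  have hdeg : d.degree < (l + 2 : ℕ) := by
    have h1 : g.degree = (l + 2 : ℕ) := by rw [degree_eq_natDegree hg.ne_zero, hgd]
    have h2 : M.charpoly.degree = (l + 2 : ℕ) := by rw [Matrix.charpoly_degree_eq_dim, Fintype.card_fin]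
    calc d.degree < g.degree := degree_sub_lt (h1.trans h2.symm) hg.ne_zero (by
          rw [hg.leadingCoeff, (Matrix.charpoly_monic M).leadingCoeff])
      _ = _ := h1
  have hdnat : d.natDegree < l + 2 := by
    by_cases h : d = 0
    · simp [h]
    · exact (natDegree_lt_iff_degree_lt h).2 hdeg
  have hlead : g.coeff (l + 2) = 1 := by
    have := hg.coeff_natDegree
    rwa [hgd] at this
  have hdel : (aeval M d) *ᵥ e0 = δ E₁ := by
    rw [hd, map_sub, Matrix.aeval_self_charpoly, sub_zero, aeval_mulVec M e0 g (l + 3) (by omega),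
      Finset.sum_range_succ, hlead, one_smul]
    exact add_comm _ _
  have hd1 : d.coeff (l + 1) = 0 := by
    have h1 := Matrix.trace_eq_neg_charpoly_coeff M
    rw [Fintype.card_fin, hM, htr] at h1
    rw [hd, coeff_sub, sub_eq_zero]
    simpa using neg_inj.1 h1
  have hd0 : d.coeff 0 = 0 := by
    have h1 := Matrix.det_eq_sign_charpoly_coeff M
    have h2 : M.det = (-1) ^ (l + 2) * g.coeff 0 := by
      show (cmp (l + 2) f * Xz z E₁).det = _
      rw [Matrix.det_mul, det_cmp f hf hfd, hg0, Matrix.det_reindex_self, Matrix.det_fromBlocks_zero₂₁,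
        Matrix.det_of_isUpperTriangular (M := T) (fun i j (hij : j < i) => by
          have : (j : ℕ) < i := hij
          simp [T, ne_of_gt hij]), Matrix.det_fin_two]
      simp [T, Q]
      ring
    rw [h2, Fintype.card_fin] at h1
    rw [hd, coeff_sub, sub_eq_zero]
    exact mul_left_cancel₀ (pow_ne_zero _ (by norm_num)) h1
  have hdlast : δ E₁ (Fin.last (l + 1)) = 0 := by
    rw [← hdel, aeval_mulVec M e0 d (l + 2) hdnat, Finset.sum_apply, Finset.sum_eq_zero]
    intro j hj
    simp at hj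
    rw [Pi.smul_apply, smul_eq_mul]
    by_cases h : j = l + 1
    · rw [h, hd1, zero_mul]
    · rw [hM, hk z E₁ j (by omega), mul_zero]
  have hgM : g = M.charpoly := by
    have h := eq_zero_of_aeval hind (f := d - C (δ E₁ ⟨0, by omega⟩)) ?_ ?_
    · have h2 := congrArg (fun p => coeff p 0) (sub_eq_zero.1 h)
      simp only [coeff_C_zero, hd0] at h2
      rw [← h2, map_zero, sub_zero, hd, sub_eq_zero] at h
      exact h
    · refine lt_of_le_of_lt (degree_sub_le _ _) (max_lt hdeg (lt_of_le_of_lt degree_C_le ?_))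
      exact_mod_cast Nat.succ_pos (l + 1)
    · rw [map_sub, Matrix.sub_mulVec, hdel, aeval_C, Algebra.algebraMap_eq_smul_one, Matrix.smul_mulVec,
        Matrix.one_mulVec, sub_eq_zero]
      ext i
      by_cases hi : (i : ℕ) = 0
      · rw [show i = ⟨0, by omega⟩ from Fin.ext hi]
        simp
      · have : i ≠ ⟨0, by omega⟩ := fun h => hi (congrArg Fin.val h)
        rw [Pi.smul_apply, Pi.single_eq_of_ne this, smul_zero]
        rcases Nat.lt_or_ge l (i : ℕ) with h | h
        · rw [show i = Fin.last (l + 1) from Fin.ext (by simp; omega), hdlast]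
        · exact hmid i (by omega) h
  refine ⟨Xz z E₁, ?_, ?_, ?_⟩
  · rw [Matrix.det_reindex_self, Matrix.det_fromBlocks_zero₂₁,
      Matrix.det_of_isUpperTriangular (M := T) (fun i j (hij : j < i) => by
        have : (j : ℕ) < i := hij
        simp [T, ne_of_gt hij]), Matrix.det_fin_two]
    simp [T, Q]
  · have hT : T.charpoly = ∏ i, (X - C (t i)) := by
      rw [Matrix.charpoly_of_isUpperTriangular _ (show T.IsUpperTriangular from fun i j (hij : j < i) => by
        have : (j : ℕ) < i := hij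
        simp [T, ne_of_gt hij])]
      simp [T]
    have hQ : Q.charpoly = q := by
      rw [Matrix.charpoly_fin_two, Matrix.trace_fin_two, Matrix.det_fin_two]
      conv_rhs => rw [hq.as_sum, hqd, Finset.sum_range_succ, Finset.sum_range_one]
      simp [Q]
      ring
    have hTs : Sim T (Matrix.diagonal t) := by
      rw [show T = Matrix.diagonal t from Matrix.ext fun i j => by simp [T, Matrix.diagonal_apply]]
      exact Sim.refl _
    have hQs : Sim Q (cmp 2 q) := by
      have hh : Hess Q := ⟨fun i j h => by omega, fun i j h => by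
        rw [show i = 1 from Fin.ext (by simp; omega), show j = 0 from Fin.ext (by simp; omega)]; simp [Q]⟩
      have := hh.sim
      rwa [hQ] at this
    refine (sim_reindex finSumFinEquiv _).symm.trans ((sim_fromBlocks_coprime ?_).trans (hTs.blocks hQs))
    rw [hT, hQ]
    exact isCoprime_prod_linear t q hroot
  · have := (hY z E₁).sim
    rwa [← hgM] at this


/-- A companion matrix fixing no form, with irreducible characteristic polynomial of degree `m`. -/
theorem exists_free [Fintype F] {m : ℕ} (hm : 2 ≤ m) (hex : m = 2 → 3 ≤ Fintype.card F) :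
    ∃ f : F[X], f.Monic ∧ f.natDegree = m ∧ f.coeff 0 ≠ 0 ∧ Free (cmp m f) := by
  obtain ⟨p, hp⟩ := CharP.exists F
  have := Fact.mk (CharP.char_is_prime F p)
  have : NeZero m := ⟨by omega⟩
  let L := FiniteField.Extension F p m
  have := Fintype.ofFinite L
  have := Fintype.ofFinite Lˣ
  obtain ⟨α, hα⟩ := IsCyclic.exists_generator (α := Lˣ)
  have hord : orderOf α = Nat.card F ^ m - 1 := by
    rw [orderOf_eq_card_of_forall_mem_zpowers hα, Nat.card_units, FiniteField.natCard_extension]
  have hint : IsIntegral F (α : L) := Algebra.IsIntegral.isIntegral _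
  set f := minpoly F (α : L) with hf
  have hfd : f.natDegree = m := by
    have htop : IntermediateField.adjoin F {(α : L)} = ⊤ := by
      rw [eq_top_iff]
      intro x _
      by_cases hx : x = 0
      · rw [hx]; exact IntermediateField.zero_mem _
      obtain ⟨k, hk⟩ := hα (Units.mk0 x hx)
      have : x = (α : L) ^ k := by
        rw [← Units.val_zpow_eq_zpow_val]
        exact (congrArg Units.val hk).symm
      rw [this]
      exact zpow_mem (IntermediateField.mem_adjoin_simple_self F _) k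
    rw [hf, ← IntermediateField.adjoin.finrank hint, htop, IntermediateField.finrank_top',
      FiniteField.finrank_extension]
  have hmon : f.Monic := minpoly.monic hint
  have hirr : Irreducible f := minpoly.irreducible hint
  have h0 : f.coeff 0 ≠ 0 := minpoly.coeff_zero_ne_zero hint α.ne_zero
  refine ⟨f, hmon, hfd, h0, Free.of_coprime ?_ (r := f) ?_ (hirr.coprime_iff_not_dvd.2 fun hd => ?_)⟩
  · rw [det_cmp f hmon hfd]
    exact (IsUnit.pow _ (IsUnit.neg isUnit_one)).mul h0.isUnit
  · have := Matrix.aeval_self_charpoly (cmp m f)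
    rwa [charpoly_cmp f hmon hfd] at this
  · -- the inverse of the generator would be a conjugate of it
    have h1 : aeval (α : L) f.reverse = 0 := by
      obtain ⟨c, hc⟩ := hd
      rw [hc, map_mul, minpoly.aeval, zero_mul]
    rw [Agent.Classical.OrderBound.aeval_reverse (mul_inv_cancel₀ α.ne_zero) (inv_mul_cancel₀ α.ne_zero),
      mul_eq_zero, or_iff_right (pow_ne_zero _ α.ne_zero)] at h1
    obtain ⟨σ, hσ⟩ := minpoly.exists_algEquiv_of_root (Algebra.IsAlgebraic.isAlgebraic (α : L)) h1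
    obtain ⟨i, hi, rfl⟩ := FiniteField.Extension.exists_frob_pow_eq F p m σ
    rw [FiniteField.Extension.frob_iterate_apply, inv_pow, inv_eq_iff_eq_inv] at hσ
    have h2 : α ^ (Nat.card F ^ i + 1) = 1 := by
      apply Units.ext
      rw [Units.val_pow_eq_pow_val, pow_succ, hσ, inv_mul_cancel₀ α.ne_zero, Units.val_one]
    have h3 := Nat.le_of_dvd (Nat.succ_pos _) (hord ▸ orderOf_dvd_of_pow_eq_one h2)
    have hq : 2 ≤ Nat.card F := Finite.one_lt_card
    have hi' : Nat.card F ^ i ≤ Nat.card F ^ (m - 1) := Nat.pow_le_pow_right (by omega) (by omega)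
    have hm' : Nat.card F ^ m = Nat.card F * Nat.card F ^ (m - 1) := by
      rw [← pow_succ']; congr 1; omega
    by_cases h3q : 3 ≤ Nat.card F
    · have : 3 ≤ Nat.card F ^ (m - 1) :=
        le_trans h3q (Nat.le_self_pow (by omega) _)
      have := Nat.mul_le_mul_right (Nat.card F ^ (m - 1)) h3q
      omega
    · have hm3 : 3 ≤ m := by
        by_contra h
        exact h3q (by rw [Nat.card_eq_fintype_card]; exact hex (by omega))
      have : 4 ≤ Nat.card F ^ (m - 1) :=
        le_trans (show 4 ≤ 2 ^ 2 by norm_num) (le_trans (Nat.pow_le_pow_right (by omega) (by omega))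
          (Nat.pow_le_pow_left hq _))
      have := Nat.mul_le_mul_right (Nat.card F ^ (m - 1)) hq
      omega

/-- The commutators with a matrix fixing no form: diagonal entries and one quadratic block. -/
theorem exists_comm_block [Fintype F] {l : ℕ} (hl : 0 < l) (t : Fin l → F) (q : F[X]) (hq : q.Monic)
    (hqd : q.natDegree = 2) (hroot : ∀ i, q.eval (t i) ≠ 0) (hdet : (∏ i, t i) * q.coeff 0 = 1)
    (M : Matrix (Fin (l + 2)) (Fin (l + 2)) F)
    (hM : Sim M (fromBlocks (Matrix.diagonal t) 0 0 (cmp 2 q))) :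
    ∃ A P : Matrix (Fin (l + 2)) (Fin (l + 2)) F, Free A ∧ IsUnit P.det ∧ M = A * (P * A⁻¹ * P⁻¹) := by
  obtain ⟨f, hf, hfd, hf0, hfree⟩ := exists_free (F := F) (m := l + 2) (by omega) (by omega)
  have ht : ∀ i, t i ≠ 0 := fun i h => by
    rw [Finset.prod_eq_zero (Finset.mem_univ i) h, zero_mul] at hdet
    exact zero_ne_one hdet
  obtain ⟨X₀, -, h2, h3⟩ := exists_diag_partner hl f hf hfd t ht q hq hqd hroot f hf hfd
    (by rw [mul_assoc, hdet, mul_one])
  obtain ⟨P, Q, hPQ, hQP, hP⟩ := h3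
  obtain ⟨R, R', hR, hR', hMX⟩ := hM.trans h2.symm
  set C₀ := cmp (l + 2) f
  have hRu : IsUnit R.det := Matrix.isUnit_det_of_right_inverse hR
  have hPu : IsUnit P.det := Matrix.isUnit_det_of_right_inverse hPQ
  have eR : R⁻¹ = R' := Matrix.inv_eq_right_inv hR
  have eP : P⁻¹ = Q := Matrix.inv_eq_right_inv hPQ
  have hX₀ : X₀ = C₀⁻¹ * (P * C₀ * P⁻¹) := by
    rw [eP, ← hP, ← Matrix.mul_assoc, nonsing_inv_mul _ hfree.1, one_mul]
  refine ⟨R * C₀⁻¹ * R⁻¹, R * P * R⁻¹, hfree.inv.conj hRu, ?_, ?_⟩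
  · rw [det_mul, det_mul]; exact (hRu.mul hPu).mul (isUnit_nonsing_inv_det R hRu)
  · have hRR := nonsing_inv_mul R hRu
    have e1 : (R * C₀⁻¹ * R⁻¹)⁻¹ = R * C₀ * R⁻¹ := by
      rw [Matrix.mul_inv_rev, Matrix.mul_inv_rev, nonsing_inv_nonsing_inv R hRu,
        nonsing_inv_nonsing_inv _ hfree.1, Matrix.mul_assoc]
    have e2 : (R * P * R⁻¹)⁻¹ = R * P⁻¹ * R⁻¹ := by
      rw [Matrix.mul_inv_rev, Matrix.mul_inv_rev, nonsing_inv_nonsing_inv R hRu, Matrix.mul_assoc]
    rw [hMX, hX₀, e1, e2, ← eR]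
    have hc : ∀ Z : Matrix (Fin (l + 2)) (Fin (l + 2)) F, R⁻¹ * (R * Z) = Z := fun Z => by
      rw [← Matrix.mul_assoc, hRR, one_mul]
    simp only [Matrix.mul_assoc, hc]

end Cfsg.Agent.Small.SpOre
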