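import Mathlib
import Cfsg.Agent.Lib.Small.SpFourThompson
import Cfsg.Agent.Lib.Small.SpOreComp

/-!
Matrix tools for commutators in symplectic groups: two by two completions, congruence inside classes,
elements with diagonal blocks.
-/

set_option autoImplicit false
set_option linter.unusedSectionVars false
set_option linter.unusedSimpArgs false

open Matrix Polynomial Module

namespace Cfsg.Agent.Small.SpOre

open Cfsg.Agent.Lie.SLComm (Sim cmp Hess sim_reindex sim_fromBlocks_coprime isCoprime_prod_linear)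

variable {F : Type*} [Field F] {m : ℕ}

theorem exists_root_free [Fintype F] (δ : F) (hδ : δ ≠ 0) : ∃ t : F, ∀ x, x * x - t * x + δ ≠ 0 := by
  classical
  obtain ⟨t, ht⟩ : ∃ t : F, t ∉ (Finset.univ.erase 0).image (fun x => x + δ / x) := by
    by_contra h
    push Not at h
    have h1 := Finset.card_le_card (s := (Finset.univ : Finset F))
      (t := (Finset.univ.erase 0).image (fun x => x + δ / x)) fun x _ => h x
    have h2 := Finset.card_image_le (s := (Finset.univ : Finset F).erase 0) (f := fun x => x + δ / x)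
    rw [Finset.card_erase_of_mem (Finset.mem_univ _), Finset.card_univ] at h2
    rw [Finset.card_univ] at h1
    have : 0 < Fintype.card F := Fintype.card_pos
    omega
  refine ⟨t, fun x hx => ?_⟩
  by_cases h0 : x = 0
  · subst h0; simp at hx; exact hδ hx
  · refine ht (Finset.mem_image.2 ⟨x, Finset.mem_erase.2 ⟨h0, Finset.mem_univ _⟩, ?_⟩)
    field_simp
    linear_combination hx

theorem four_ne_zero' (h2 : (2 : F) ≠ 0) : (4 : F) ≠ 0 := by
  rw [show (4 : F) = 2 * 2 by norm_num]
  exact mul_ne_zero h2 h2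

theorem solveA [Fintype F] {x y z w : F} (hz : z ≠ 0) (hw : w ≠ 0) (h2 : (2 : F) ≠ 0) (t δ : F) :
    ∃ a b c : F, (x + a * z) + (y + c * w) = t ∧ (x + a * z) * (y + c * w) - (b * w) * (b * z) = δ := by
  obtain ⟨u, b, hub⟩ := Small.SpFourThompson.conic 0 (z * w) (-t) 0 δ
    (by
      rw [zero_mul, zero_sub, neg_ne_zero]
      exact mul_ne_zero (four_ne_zero' h2) (mul_ne_zero hz hw))
  refine ⟨(u - x) / z, b, (t - u - y) / w, ?_, ?_⟩ <;>
    rw [div_mul_cancel₀ _ hz, div_mul_cancel₀ _ hw]
  · ring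
  · linear_combination -hub

theorem solveT [Fintype F] {p r s : F} (hD : p * s - r * r ≠ 0) (h2 : (2 : F) ≠ 0) (τ e : F) :
    ∃ a b c : F, p * a + 2 * r * b + s * c = τ ∧ a * c - b * b = e := by
  have gen : ∀ p r s : F, p ≠ 0 → p * s - r * r ≠ 0 →
      ∃ a b c : F, p * a + 2 * r * b + s * c = τ ∧ a * c - b * b = e := by
    intro p r s hp hD
    obtain ⟨b, c, hbc⟩ := Small.SpFourThompson.conic (2 * r / p) (s / p) 0 (-τ / p) e
      (by
        rw [show 2 * r / p * (2 * r / p) - 4 * (s / p) = -(4 * (p * s - r * r)) / (p * p) by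
          field_simp; ring]
        exact div_ne_zero (neg_ne_zero.2 (mul_ne_zero (four_ne_zero' h2) hD)) (mul_ne_zero hp hp))
    refine ⟨(τ - 2 * r * b - s * c) / p, b, c, by field_simp; ring, ?_⟩
    field_simp at hbc ⊢
    linear_combination -hbc
  by_cases hp : p = 0
  · by_cases hs : s = 0
    · subst hp hs
      have hr : r ≠ 0 := fun h => hD (by simp [h])
      refine ⟨1, τ / (2 * r), e + τ / (2 * r) * (τ / (2 * r)), ?_, by ring⟩
      field_simp; ring
    · obtain ⟨a, b, c, h1, h2'⟩ := gen s r p hs (by rwa [mul_comm s p])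
      exact ⟨c, b, a, by linear_combination h1, by linear_combination h2'⟩
  · exact gen p r s hp hD

theorem solveB [Fintype F] {p r s ε : F} (hε : ε * ε = 1) (hD : p * s - r * r ≠ 0) (h2 : (2 : F) ≠ 0)
    (t δ : F) : ∃ a b c : F,
      ε * (1 - (p * a + r * b)) + ε * (1 - (r * b + s * c)) = t ∧
      ε * (1 - (p * a + r * b)) * (ε * (1 - (r * b + s * c))) -
        (-(ε * (p * b + r * c))) * (-(ε * (r * a + s * b))) = δ := by
  obtain ⟨a, b, c, h1, h3⟩ := solveT hD h2 (2 - ε * t) ((δ - 1 + (2 - ε * t)) / (p * s - r * r))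
  rw [eq_div_iff hD] at h3
  refine ⟨a, b, c, ?_, ?_⟩
  · linear_combination (-ε) * h1 + t * hε
  · linear_combination h3 - h1 + ((1 - (p * a + r * b)) * (1 - (r * b + s * c)) -
      (p * b + r * c) * (r * a + s * b)) * hε

/-- The symmetric matrix supported on two indices. -/
def sym2 (i j : Fin m) (a b c : F) : Matrix (Fin m) (Fin m) F :=
  Matrix.of fun k l =>
    if k = i ∧ l = i then a else if (k = i ∧ l = j) ∨ (k = j ∧ l = i) then b else if k = j ∧ l = j then c else 0

theorem sym2_transpose (i j : Fin m) (a b c : F) : (sym2 i j a b c)ᵀ = sym2 i j a b c := by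
  ext k l
  simp only [sym2, Matrix.transpose_apply, Matrix.of_apply]
  by_cases h1 : k = i <;> by_cases h2 : k = j <;> by_cases h3 : l = i <;> by_cases h4 : l = j <;>
    simp [h1, h2, h3, h4] <;> simp_all

theorem mul_sym2 {i j : Fin m} (hij : i ≠ j) (A : Matrix (Fin m) (Fin m) F) (a b c : F) (k l : Fin m) :
    (A * sym2 i j a b c) k l =
      if l = i then A k i * a + A k j * b else if l = j then A k i * b + A k j * c else 0 := by
  rw [Matrix.mul_apply, ← Finset.add_sum_erase _ _ (Finset.mem_univ i), Finset.sum_eq_single j]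
  · by_cases h3 : l = i
    · subst h3; simp [sym2, hij, hij.symm]
    · by_cases h4 : l = j
      · subst h4; simp [sym2, h3, hij, hij.symm]
      · simp [sym2, h3, h4]
  · intro x hx hxj
    simp only [Finset.mem_erase] at hx
    simp [sym2, hx.1, hxj]
  · intro h; simp [hij.symm] at h

theorem sym2_mul_diagonal {i j : Fin m} (hij : i ≠ j) (z : Fin m → F) (a b c : F) :
    (sym2 i j a b c * Matrix.diagonal z) i i = a * z i ∧ (sym2 i j a b c * Matrix.diagonal z) i j = b * z j ∧
    (sym2 i j a b c * Matrix.diagonal z) j i = b * z i ∧ (sym2 i j a b c * Matrix.diagonal z) j j = c * z j ∧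
    ∀ k l, l ≠ i → l ≠ j → (sym2 i j a b c * Matrix.diagonal z) k l = 0 := by
  refine ⟨?_, ?_, ?_, ?_, fun k l h3 h4 => ?_⟩ <;> simp [sym2, hij, hij.symm, *]

/-! ### Congruence -/

theorem congr_diag {ι : Type*} [Fintype ι] [DecidableEq ι] (h2 : (2 : F) ≠ 0) (S : Matrix ι ι F)
    (hS : Sᵀ = S) : ∃ P : Matrix ι ι F, IsUnit P ∧ ∀ k l, k ≠ l → (Pᵀ * S * P) k l = 0 := by
  have hinv : Invertible (2 : F) := invertibleOfNonzero h2
  have hsymm : LinearMap.IsSymm (Matrix.toBilin' S) := ⟨fun x y => by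
    simp only [RingHom.id_apply, Matrix.toBilin'_apply']
    conv_rhs => rw [dotProduct_comm, ← Matrix.vecMul_transpose, hS, ← Matrix.dotProduct_mulVec]⟩
  obtain ⟨v, hv⟩ := LinearMap.BilinForm.exists_orthogonal_basis hsymm
  let e : ι ≃ Fin (finrank F (ι → F)) := Fintype.equivFinOfCardEq (Module.finrank_pi F).symm
  let w := v.reindex e.symm
  refine ⟨Matrix.of fun a k => w k a, ?_, fun k l hkl => ?_⟩
  · rw [← Matrix.linearIndependent_cols_iff_isUnit]
    exact w.linearIndependent
  · have h := hv (e.injective.ne hkl)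
    simp only [Function.onFun, LinearMap.BilinForm.IsOrtho, LinearMap.IsOrtho, LinearMap.isOrtho_def, Matrix.toBilin'_apply'] at h
    rw [Matrix.mul_assoc]
    simpa [Matrix.mul_apply, dotProduct, Matrix.mulVec, w] using h

theorem congr_classes (h2 : (2 : F) ≠ 0) (c : Fin m → F) (S : Matrix (Fin m) (Fin m) F) (hS : Sᵀ = S) :
    ∃ P : Matrix (Fin m) (Fin m) F, IsUnit P.det ∧ (∀ k l, c k ≠ c l → P k l = 0) ∧
      ∀ k l, k ≠ l → c k = c l → (Pᵀ * S * P) k l = 0 := by
  classical
  choose Pv hPu hPd using fun v : F => congr_diag (ι := {k // c k = v}) h2 (S.submatrix Subtype.val Subtype.val)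
    (by rw [Matrix.transpose_submatrix, hS])
  let P : Matrix (Fin m) (Fin m) F := Matrix.of fun k l => if h : c k = c l then Pv (c l) ⟨k, h⟩ ⟨l, rfl⟩ else 0
  let Q : Matrix (Fin m) (Fin m) F :=
    Matrix.of fun k l => if h : c k = c l then (Pv (c l))⁻¹ ⟨k, h⟩ ⟨l, rfl⟩ else 0
  have hsum : ∀ (f : Fin m → F) (v : F), (∀ a, c a ≠ v → f a = 0) → ∑ a, f a = ∑ a : {a // c a = v}, f a := by
    intro f v hf
    rw [← Finset.sum_subtype (Finset.univ.filter fun a => c a = v) (by simp) f,
      Finset.sum_filter_of_ne]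
    exact fun a _ h => not_not.1 fun h' => h (hf a h')
  have hz : ∀ k l, c k ≠ c l → P k l = 0 := fun k l h => by simp [P, h]
  have hPv : ∀ (v : F) (a b : {k // c k = v}), P a b = Pv v a b := by
    rintro v ⟨a, ha⟩ ⟨b, hb⟩
    subst hb
    simp [P, ha]
  have hQv : ∀ (v : F) (a b : {k // c k = v}), Q a b = (Pv v)⁻¹ a b := by
    rintro v ⟨a, ha⟩ ⟨b, hb⟩
    subst hb
    simp [Q, ha]
  refine ⟨P, Matrix.isUnit_det_of_right_inverse (B := Q) ?_, hz, ?_⟩
  · ext k l
    rw [Matrix.mul_apply]
    by_cases h : c k = c l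
    · rw [hsum _ (c l) (fun a ha => by simp [Q, ha])]
      have e1 := congrFun (congrFun (Matrix.mul_nonsing_inv (Pv (c l))
        ((Matrix.isUnit_iff_isUnit_det _).1 (hPu _))) ⟨k, h⟩) ⟨l, rfl⟩
      rw [Matrix.mul_apply] at e1
      have e2 : (1 : Matrix {x // c x = c l} {x // c x = c l} F) ⟨k, h⟩ ⟨l, rfl⟩ =
          (1 : Matrix (Fin m) (Fin m) F) k l := by
        simp [Matrix.one_apply, Subtype.mk_eq_mk]
      rw [← e2, ← e1]
      refine Finset.sum_congr rfl fun a _ => ?_
      rw [← hPv (c l) ⟨k, h⟩ a, ← hQv (c l) a ⟨l, rfl⟩]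
    · rw [Finset.sum_eq_zero fun a _ => ?_, Matrix.one_apply_ne (fun e => h (by rw [e]))]
      by_cases ha : c k = c a
      · have : c a ≠ c l := fun e => h (ha.trans e)
        simp [Q, this]
      · rw [hz k a ha, zero_mul]
  · intro k l hkl hc
    have key := hPd (c l) ⟨k, hc⟩ ⟨l, rfl⟩ (by simpa [Subtype.mk_eq_mk] using hkl)
    rw [← key, Matrix.mul_apply, Matrix.mul_apply, hsum _ (c l) (fun a ha => by rw [hz a l ha, mul_zero])]
    refine Finset.sum_congr rfl fun a _ => ?_
    rw [← hPv (c l) a ⟨l, rfl⟩, Matrix.mul_apply, Matrix.mul_apply]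
    congr 1
    rw [hsum _ (c l) (fun b hb => by rw [Matrix.transpose_apply, hz b k (fun e => hb (e.trans hc)), zero_mul])]
    refine Finset.sum_congr rfl fun b _ => ?_
    rw [Matrix.transpose_apply, Matrix.transpose_apply, ← hPv (c l) b ⟨k, hc⟩, Matrix.submatrix_apply]

theorem commute_diagonal_of_zero {c : Fin m → F} {P : Matrix (Fin m) (Fin m) F}
    (h : ∀ k l, c k ≠ c l → P k l = 0) (d : Fin m → F) (hd : ∀ k l, c k = c l → d k = d l) :
    P * Matrix.diagonal d = Matrix.diagonal d * P := by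
  ext k l
  rw [Matrix.mul_diagonal, Matrix.diagonal_mul]
  by_cases hc : c k = c l
  · rw [hd k l hc, mul_comm]
  · rw [h k l hc, zero_mul, mul_zero]

/-! ### Elements with diagonal blocks -/

theorem d2_mem {α β γ δ : Fin m → F} (h : ∀ i, α i * δ i - β i * γ i = 1) :
    fromBlocks (Matrix.diagonal α) (Matrix.diagonal β) (Matrix.diagonal γ) (Matrix.diagonal δ) ∈
      Matrix.symplecticGroup (Fin m) F := by
  rw [SymplecticGroup.mem_iff', Matrix.J, fromBlocks_transpose, fromBlocks_multiply, fromBlocks_multiply,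
    fromBlocks_inj]
  simp only [Matrix.diagonal_transpose, Matrix.mul_zero, Matrix.mul_one, Matrix.mul_neg, zero_add, add_zero,
    Matrix.neg_mul, Matrix.diagonal_mul_diagonal, Matrix.diagonal_neg, Matrix.diagonal_add]
  refine ⟨?_, ?_, ?_, ?_⟩ <;>
    (ext k l; rcases eq_or_ne k l with rfl | hkl <;>
      [simp only [Matrix.diagonal_apply_eq, Matrix.zero_apply, Matrix.neg_apply, Matrix.one_apply_eq];
       simp [Matrix.diagonal_apply_ne _ hkl, Matrix.one_apply_ne hkl]]) <;>
    first
      | ring1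
      | linear_combination h k
      | linear_combination -h k

/-- The element with given diagonal blocks. -/
def d2 (α β γ δ : Fin m → F) (h : ∀ i, α i * δ i - β i * γ i = 1) : Sp F m := ⟨_, d2_mem h⟩

/-- A diagonal matrix with entries `±1` is a commutator. -/
theorem d2_com [Fintype F] (h2 : (2 : F) ≠ 0) {ε : Fin m → F} (hε : ∀ i, ε i * ε i = 1) (g : Sp F m)
    (hg : g.1 = fromBlocks (Matrix.diagonal ε) 0 0 (Matrix.diagonal ε)) : IsCom g := by
  classical
  obtain ⟨p, r, hpr⟩ : ∃ p r : F, p * p + r * r = -1 := by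
    obtain ⟨p, r, h⟩ := Small.SpFourThompson.conic (0 : F) 1 0 0 1
      (by
        rw [zero_mul, zero_sub, neg_ne_zero, mul_one]
        exact four_ne_zero' h2)
    exact ⟨p, r, by linear_combination h⟩
  let u : Fin m → F := fun i => if ε i = 1 then 0 else 1
  have hu : ∀ i, (ε i = 1 ∧ u i = 0) ∨ (ε i = -1 ∧ u i = 1) := fun i => by
    rcases mul_self_eq_one_iff.1 (hε i) with h | h
    · left; simp [u, h]
    · right
      have : (-1 : F) ≠ 1 := fun e => h2 (by linear_combination -e)
      simp [u, h, this]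
  let a : Sp F m := d2 (fun i => 1 - u i) (fun i => -u i) u (fun i => 1 - u i) (fun i => by
    rcases hu i with h | h <;> simp [h.2])
  let b : Sp F m := d2 (fun i => p * u i + (1 - u i)) (fun i => r * u i) (fun i => r * u i)
    (fun i => -(p * u i) + (1 - u i)) (fun i => by
    rcases hu i with h | h
    · simp [h.2]
    · simp only [h.2]; linear_combination -hpr)
  refine ⟨a, b, ?_⟩
  rw [eq_mul_inv_iff_mul_eq, eq_mul_inv_iff_mul_eq]
  apply Subtype.ext
  simp only [Submonoid.coe_mul, hg, a, b, d2, fromBlocks_multiply, Matrix.diagonal_mul_diagonal,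
    Matrix.zero_mul, add_zero, zero_add, Matrix.diagonal_add]
  rw [fromBlocks_inj]
  refine ⟨?_, ?_, ?_, ?_⟩ <;> (congr 1; funext i; rcases hu i with h | h <;> simp only [h.1, h.2] <;> ring)

/-! ### One quadratic block -/

theorem pair_com [Fintype F] (g : Sp F m) (hm : 3 ≤ m) {i j : Fin m} (hij : i ≠ j) {ε : Fin m → F}
    (hε : ∀ k, ε k * ε k = 1)
    (hfam : ∀ t δ : F, ∃ (c : Sp F m) (M : Matrix (Fin m) (Fin m) F),
      (c * g * c⁻¹).1.toBlocks₁₁ = M ∧ (∀ k l, l ≠ i → l ≠ j → M k l = if k = l then ε l else 0) ∧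
      M i i + M j j = t ∧ M i i * M j j - M i j * M j i = δ) : IsCom g := by
  classical
  obtain ⟨l, rfl⟩ : ∃ l, m = l + 2 := ⟨m - 2, by omega⟩
  have hcard : Fintype.card {k : Fin (l + 2) // k ≠ i ∧ k ≠ j} = l := by
    rw [Fintype.card_subtype]
    rw [show (Finset.univ.filter fun k : Fin (l + 2) => k ≠ i ∧ k ≠ j) = Finset.univ \ {i, j} by
      ext k; simp, Finset.card_sdiff]
    simp [Finset.card_pair hij]
  let o : Fin l ≃ {k : Fin (l + 2) // k ≠ i ∧ k ≠ j} := (Fintype.equivFinOfCardEq hcard).symm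
  let f : Fin l ⊕ Fin 2 → Fin (l + 2) := Sum.elim (fun k => (o k).1) ![i, j]
  have hinj : Function.Injective f := by
    refine Function.Injective.sumElim (Subtype.val_injective.comp o.injective) ?_ ?_
    · intro x y h; fin_cases x <;> fin_cases y <;> simp_all [eq_comm]
    · intro x y
      fin_cases y
      · exact (o x).2.1
      · exact (o x).2.2
  let e : Fin (l + 2) ≃ Fin l ⊕ Fin 2 :=
    (Equiv.ofBijective f ((Fintype.bijective_iff_injective_and_card f).2 ⟨hinj, by simp⟩)).symm
  have he : ∀ x, e.symm x = f x := fun x => rfl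
  let t : Fin l → F := fun k => ε (o k).1
  have ht : ∀ k, t k ≠ 0 := fun k h => by
    have := hε (o k).1
    simp [show ε (o k).1 = 0 from h] at this
  set δ := (∏ k, t k)⁻¹ with hδ
  have hprod : (∏ k, t k) ≠ 0 := Finset.prod_ne_zero_iff.2 fun k _ => ht k
  obtain ⟨τ, hτ⟩ := exists_root_free δ (inv_ne_zero hprod)
  obtain ⟨c, M, hcM, hcols, htr, hdet⟩ := hfam τ δ
  let q : F[X] := X ^ 2 - C τ * X + C δ
  have hq : q.Monic := by simp only [q]; monicity!
  have hqd : q.natDegree = 2 := by simp only [q]; compute_degree!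
  have hroot : ∀ k, q.eval (t k) ≠ 0 := fun k => by
    have := hτ (t k)
    simpa [q, pow_two] using this
  set M' := Matrix.reindex e e M with hM'
  set D := M'.toBlocks₂₂ with hD
  have hDe : D = !![M i i, M i j; M j i, M j j] := by
    ext a b
    fin_cases a <;> fin_cases b <;> simp [hD, hM', Matrix.toBlocks₂₂, he, f]
  have hM'e : M' = fromBlocks (Matrix.diagonal t) M'.toBlocks₁₂ 0 D := by
    conv_lhs => rw [← fromBlocks_toBlocks M']
    congr 1
    · ext a b
      simp only [hM', Matrix.toBlocks₁₁, Matrix.reindex_apply, Matrix.submatrix_apply, he, f, Sum.elim_inl, Matrix.of_apply]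
      rw [hcols _ _ (o b).2.1 (o b).2.2, Matrix.diagonal_apply]
      by_cases hab : a = b
      · subst hab; simp [t]
      · rw [if_neg hab, if_neg fun h => hab (o.injective (Subtype.ext h))]
    · ext a b
      simp only [hM', Matrix.toBlocks₂₁, Matrix.reindex_apply, Matrix.submatrix_apply, he, f, Sum.elim_inl, Sum.elim_inr, Matrix.of_apply, Matrix.zero_apply]
      rw [hcols _ _ (o b).2.1 (o b).2.2, if_neg]
      fin_cases a
      · exact fun h => (o b).2.1 h.symm
      · exact fun h => (o b).2.2 h.symm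
  have hDq : D.charpoly = q := by
    rw [Matrix.charpoly_fin_two, Matrix.trace_fin_two, Matrix.det_fin_two, hDe]
    simp [q, ← htr, ← hdet]
  have hD10 : D 1 0 ≠ 0 := by
    intro h
    rw [hDe] at h
    simp at h
    rw [h, mul_zero, sub_zero] at hdet
    exact hτ (M i i) (by rw [← htr, ← hdet]; ring)
  have hDs : Sim D (cmp 2 q) := by
    have hh : Hess D := ⟨fun a b h => by omega, fun a b h => by
      rw [show a = 1 from Fin.ext (by simp; omega), show b = 0 from Fin.ext (by simp; omega)]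
      exact hD10⟩
    have := hh.sim
    rwa [hDq] at this
  have hsim : Sim M (fromBlocks (Matrix.diagonal t) 0 0 (cmp 2 q)) := by
    refine (sim_reindex e M).trans ?_
    rw [← hM', hM'e]
    refine (sim_fromBlocks_coprime ?_).trans ((Sim.refl _).blocks hDs)
    rw [Matrix.charpoly_diagonal, hDq]
    exact isCoprime_prod_linear t q hroot
  have hdetq : (∏ k, t k) * q.coeff 0 = 1 := by
    simp [q, hδ, mul_inv_cancel₀ hprod]
  obtain ⟨A, P, hA, hP, hMe⟩ := exists_comm_block (by omega) t q hq hqd hroot hdetq M hsim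
  exact (of_block (c * g * c⁻¹) hA hP (hcM.trans hMe)).of_conj

end Cfsg.Agent.Small.SpOre
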