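import Mathlib
import Cfsg.Agent.Lib.Small.SpOreMat
import Cfsg.Agent.Lib.Small.SpFourThompsonGroup
import Cfsg.Agent.Lib.Small.SymplecticElems

/-!
All of `Sp₄(F)` consists of commutators for odd characteristic; block sums of symplectic groups along an
index equivalence.
-/

set_option autoImplicit false
set_option linter.unusedSectionVars false
set_option linter.unusedSimpArgs false

open Matrix

namespace Cfsg.Agent.Small.SpOre

variable {F : Type*} [Field F] {m a b : ℕ}

theorem sp_four_com [Fintype F] (h2 : (2 : F) ≠ 0) (g : Sp F 2) : IsCom g := by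
  classical
  have h3 : 3 ≤ Fintype.card F := by
    have h1 : (-1 : F) ≠ 1 := fun e => h2 (by linear_combination -e)
    have : ({0, 1, -1} : Finset F).card = 3 :=
      Finset.card_eq_three.2 ⟨0, 1, -1, zero_ne_one, by simp, Ne.symm h1, rfl⟩
    have h4 := Finset.card_le_univ ({0, 1, -1} : Finset F)
    omega
  by_cases hc : g ∈ Subgroup.center (Sp F 2)
  · obtain ⟨c, hcc, hg⟩ := Small.sp_center_smul 2 g hc
    refine d2_com h2 (ε := fun _ => c) (fun _ => hcc) g ?_
    rw [hg, ← Matrix.smul_one_eq_diagonal, ← fromBlocks_one, fromBlocks_smul]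
    simp
  open SpFourThompson in
  obtain ⟨τ, d, hgood⟩ := exists_good (F := F) h3
  open SpFourThompson in
  obtain ⟨hu', hdet⟩ : IsUnit (comp2 τ d).det ∧ (comp2 τ d).det = d :=
    ⟨isUnit_of_inC hgood (comp2_inC τ d), (comp2_inC τ d).2⟩
  obtain ⟨u, v, huv⟩ := SpFourThompson.exists_two h3 hgood hu' g hc
  set A := SpFourThompson.comp2 τ d with hA
  set D := SpFourThompson.dg A hu'
  -- the Levi element is conjugate to its inverse
  obtain ⟨w, hw⟩ : ∃ w : Sp F 2, D = w * D⁻¹ * w⁻¹ := by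
    obtain ⟨hT1, hT2⟩ := SpFourThompson.inC_transpose (SpFourThompson.comp2_inC τ d)
    obtain ⟨P, hP, hAP⟩ := SpFourThompson.exists_conj_comp2 (M := Aᵀ) (by
      rintro ⟨c, hc'⟩
      exact SpFourThompson.apply_one_zero_ne hgood (A := Aᵀ) ⟨hT1, hT2⟩ (by rw [hc']; simp))
    rw [hT1, hT2, ← hA] at hAP
    refine ⟨SymplecticGroup.symJ (Fin 2) F * SpFourThompson.dg P hP, ?_⟩
    have key : SymplecticGroup.symJ (Fin 2) F * (SpFourThompson.dg Aᵀ (by rwa [det_transpose]))⁻¹ =
        D * SymplecticGroup.symJ (Fin 2) F := by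
      rw [eq_comm, eq_mul_inv_iff_mul_eq]
      apply Subtype.ext
      simp [D, SpFourThompson.dg, SymplecticGroup.symJ, Matrix.J, fromBlocks_multiply,
        transpose_nonsing_inv, Matrix.mul_assoc, nonsing_inv_mul _ (show IsUnit (Aᵀ).det by rwa [det_transpose]),
        mul_nonsing_inv _ hu', Matrix.transpose_mul]
    have e1 : SpFourThompson.dg Aᵀ (by rwa [det_transpose]) =
        SpFourThompson.dg P hP * D * (SpFourThompson.dg P hP)⁻¹ := by
      rw [eq_mul_inv_iff_mul_eq, SpFourThompson.dg_mul, SpFourThompson.dg_mul]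
      exact SpFourThompson.dg_congr hAP _
    rw [e1] at key
    rw [eq_mul_inv_iff_mul_eq, ← mul_assoc, ← key]
    group
  refine ⟨u * D * u⁻¹, v * w * u⁻¹, ?_⟩
  calc g = u * D * u⁻¹ * (v * D * v⁻¹) := huv
    _ = u * D * u⁻¹ * (v * (w * D⁻¹ * w⁻¹) * v⁻¹) := by rw [← hw]
    _ = _ := by group

/-- The index equivalence of a block sum. -/
def sumIdx (e : Fin a ⊕ Fin b ≃ Fin m) : (Fin a ⊕ Fin a) ⊕ (Fin b ⊕ Fin b) ≃ Fin m ⊕ Fin m :=
  (Equiv.sumSumSumComm _ _ _ _).trans (Equiv.sumCongr e e)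

/-- The block sum, on matrices. -/
def sumMat (e : Fin a ⊕ Fin b ≃ Fin m) (F : Type*) [Field F] :
    Matrix (Fin a ⊕ Fin a) (Fin a ⊕ Fin a) F × Matrix (Fin b ⊕ Fin b) (Fin b ⊕ Fin b) F →*
      Matrix (Fin m ⊕ Fin m) (Fin m ⊕ Fin m) F where
  toFun P := Matrix.reindex (sumIdx e) (sumIdx e) (fromBlocks P.1 0 0 P.2)
  map_one' := by
    simp only [Prod.fst_one, Prod.snd_one, fromBlocks_one, Matrix.reindex_apply,
      Matrix.submatrix_one_equiv]
  map_mul' P Q := by
    simp only [Matrix.reindex_apply, Matrix.submatrix_mul_equiv, fromBlocks_multiply,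
      Prod.fst_mul, Prod.snd_mul]
    simp

theorem sumMat_J (e : Fin a ⊕ Fin b ≃ Fin m) :
    sumMat e F (J (Fin a) F, J (Fin b) F) = J (Fin m) F := by
  change Matrix.reindex _ _ _ = _
  rw [← Equiv.eq_symm_apply]
  ext x y
  rcases x with (x | x) | (x | x) <;> rcases y with (y | y) | (y | y) <;>
    simp [J, sumIdx, fromBlocks, Matrix.one_apply]

theorem sumMat_injective (e : Fin a ⊕ Fin b ≃ Fin m) : Function.Injective (sumMat e F) := by
  intro P Q hPQ
  obtain ⟨h1, -, -, h2⟩ := fromBlocks_inj.mp ((Matrix.reindex _ _).injective hPQ)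
  exact Prod.ext h1 h2

theorem sumMat_transpose (e : Fin a ⊕ Fin b ≃ Fin m)
    (P : Matrix (Fin a ⊕ Fin a) (Fin a ⊕ Fin a) F × Matrix (Fin b ⊕ Fin b) (Fin b ⊕ Fin b) F) :
    (sumMat e F P)ᵀ = sumMat e F (P.1ᵀ, P.2ᵀ) := by
  change (Matrix.reindex _ _ _)ᵀ = Matrix.reindex _ _ _
  rw [Matrix.transpose_reindex, fromBlocks_transpose]
  simp

/-- The block sum of two symplectic groups. -/
def sumHom (e : Fin a ⊕ Fin b ≃ Fin m) : Sp F a × Sp F b →* Sp F m :=
  ((sumMat e F).comp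
    ((symplecticGroup (Fin a) F).subtype.prodMap (symplecticGroup (Fin b) F).subtype)).codRestrict _
    fun P => by
      rw [SymplecticGroup.mem_iff']
      change (sumMat e F (P.1.1, P.2.1))ᵀ * J (Fin m) F * sumMat e F (P.1.1, P.2.1) = _
      rw [sumMat_transpose, ← sumMat_J e, ← map_mul, ← map_mul]
      congr 1
      exact Prod.ext (SymplecticGroup.mem_iff'.mp P.1.2) (SymplecticGroup.mem_iff'.mp P.2.2)

/-- An element which is a block sum with commutator summands is a commutator. -/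
theorem com_of_sum (e : Fin a ⊕ Fin b ≃ Fin m) (g : Sp F m)
    (A : Matrix (Fin a ⊕ Fin a) (Fin a ⊕ Fin a) F) (B : Sp F b) (hg : g.1 = sumMat e F (A, B.1))
    (hA : ∀ x : Sp F a, IsCom x) (hB : IsCom B) : IsCom g := by
  have hmem : A ∈ Matrix.symplecticGroup (Fin a) F := by
    have h := SymplecticGroup.mem_iff'.1 g.2
    rw [hg, sumMat_transpose, ← sumMat_J e, ← map_mul, ← map_mul] at h
    exact SymplecticGroup.mem_iff'.2 (congrArg Prod.fst (sumMat_injective e h))
  obtain ⟨c, d, hcd⟩ := hA ⟨A, hmem⟩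
  obtain ⟨x, y, hxy⟩ := hB
  refine ⟨sumHom e (c, x), sumHom e (d, y), ?_⟩
  rw [← map_inv, ← map_inv, ← map_mul, ← map_mul, ← map_mul]
  simp only [Prod.inv_mk, Prod.mk_mul_mk, ← hcd, ← hxy]
  exact Subtype.ext hg

end Cfsg.Agent.Small.SpOre
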