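import Mathlib
import Cfsg.Agent.Lib.Small.SpOreSplit

/-!
An element of a symplectic group in odd characteristic with upper left block `diag ε` and diagonal lower left
block is a commutator.
-/

set_option autoImplicit false
set_option linter.unusedSectionVars false
set_option linter.unusedSimpArgs false

open Matrix
open scoped Classical

namespace Cfsg.Agent.Small.SpOre

variable {F : Type*} [Field F] {m : ℕ}

/-- Normal form: diagonal upper left block `ε`, diagonal lower left block `z`, upper right block `ε T`. -/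
structure NF (g : Sp F m) (ε z : Fin m → F) (T : Matrix (Fin m) (Fin m) F) : Prop where
  sq : ∀ i, ε i * ε i = 1
  x11 : g.1.toBlocks₁₁ = Matrix.diagonal ε
  z21 : g.1.toBlocks₂₁ = Matrix.diagonal z
  y12 : g.1.toBlocks₁₂ = Matrix.diagonal ε * T
  sym : Tᵀ = T

theorem diag_sq {ε : Fin m → F} (hε : ∀ i, ε i * ε i = 1) :
    Matrix.diagonal ε * Matrix.diagonal ε = 1 := by
  rw [Matrix.diagonal_mul_diagonal, ← Matrix.diagonal_one]
  exact congrArg _ (funext hε)

theorem NF.w22 {g : Sp F m} {ε z : Fin m → F} {T : Matrix (Fin m) (Fin m) F} (h : NF g ε z T) :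
    g.1.toBlocks₂₂ = Matrix.diagonal ε * (1 + Matrix.diagonal z * (Matrix.diagonal ε * T)) := by
  have e2 := (blocks g).2.1
  rw [h.x11, h.z21, h.y12, Matrix.diagonal_transpose, Matrix.diagonal_transpose] at e2
  rw [← e2, ← Matrix.mul_assoc, diag_sq h.sq, one_mul]

theorem conj_blocks (c c' g : Sp F m) (h : c⁻¹ = c') :
    (c * g * c⁻¹).1 = c.1 * fromBlocks g.1.toBlocks₁₁ g.1.toBlocks₁₂ g.1.toBlocks₂₁ g.1.toBlocks₂₂ * c'.1 := by
  rw [fromBlocks_toBlocks, h]; rfl

/-- Change of basis commuting with the upper left block. -/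
theorem NF.congr {g : Sp F m} {ε z z' : Fin m → F} {T : Matrix (Fin m) (Fin m) F} (h : NF g ε z T)
    {Q : Matrix (Fin m) (Fin m) F} (hQ : IsUnit Q.det)
    (hc : Q * Matrix.diagonal ε = Matrix.diagonal ε * Q)
    (hz : (Q⁻¹)ᵀ * Matrix.diagonal z * Q⁻¹ = Matrix.diagonal z') :
    NF (dg Q hQ * g * (dg Q hQ)⁻¹) ε z' (Q * T * Qᵀ) := by
  have hb := conj_blocks (dg Q hQ) _ g (dg_inv hQ)
  rw [h.x11, h.z21, h.y12] at hb
  simp only [dg, fromBlocks_multiply, Matrix.zero_mul, Matrix.mul_zero, add_zero, zero_add,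
    nonsing_inv_nonsing_inv Q hQ] at hb
  refine ⟨h.sq, ?_, ?_, ?_, ?_⟩
  · rw [show (dg Q hQ * g * (dg Q hQ)⁻¹).1 = _ from hb, toBlocks_fromBlocks₁₁, hc, Matrix.mul_assoc,
      mul_nonsing_inv Q hQ, mul_one]
  · rw [show (dg Q hQ * g * (dg Q hQ)⁻¹).1 = _ from hb, toBlocks_fromBlocks₂₁, hz]
  · rw [show (dg Q hQ * g * (dg Q hQ)⁻¹).1 = _ from hb, toBlocks_fromBlocks₁₂, ← Matrix.mul_assoc Q, hc]
    simp only [Matrix.mul_assoc]
  · rw [transpose_mul, transpose_mul, transpose_transpose, h.sym, Matrix.mul_assoc]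

/-- Adding multiples of the coordinate `k` to other coordinates. -/
theorem NF.rowop {g : Sp F m} {ε z : Fin m → F} {T : Matrix (Fin m) (Fin m) F} (h : NF g ε z T)
    (k : Fin m) (v : Fin m → F) (hk : v k = 0) (hv : ∀ a, v a ≠ 0 → ε a = ε k ∧ z a = 0) :
    ∃ (c : Sp F m) (T' : Matrix (Fin m) (Fin m) F), NF (c * g * c⁻¹) ε z T' ∧
      ∀ a b, T' a b = T a b + v a * T k b + v b * T a k + v a * v b * T k k := by
  set N : Matrix (Fin m) (Fin m) F := Matrix.of fun a b => if b = k then v a else 0 with hN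
  have hNN : N * N = 0 := by
    ext a b
    simp only [Matrix.mul_apply, hN, Matrix.of_apply, Matrix.zero_apply]
    refine Finset.sum_eq_zero fun x _ => ?_
    by_cases hx : x = k
    · subst hx; simp [hk]
    · simp [hx]
  have hinv : (1 + N) * (1 - N) = 1 := by
    rw [add_mul, mul_sub, mul_sub, one_mul, one_mul, mul_one, hNN]; abel
  have hu : IsUnit (1 + N).det := Matrix.isUnit_det_of_right_inverse hinv
  have hZN : Matrix.diagonal z * N = 0 := by
    ext a b
    rw [Matrix.diagonal_mul, Matrix.zero_apply, hN, Matrix.of_apply]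
    by_cases ha : v a = 0
    · simp [ha]
    · simp [(hv a ha).2]
  have hεN : N * Matrix.diagonal ε = Matrix.diagonal ε * N := by
    ext a b
    rw [Matrix.diagonal_mul, Matrix.mul_diagonal, hN, Matrix.of_apply]
    by_cases hb : b = k
    · subst hb
      by_cases ha : v a = 0
      · simp [ha]
      · rw [if_pos rfl, (hv a ha).1, mul_comm]
    · simp [hb]
  have hQ : (1 + N) * Matrix.diagonal ε = Matrix.diagonal ε * (1 + N) := by
    rw [add_mul, mul_add, one_mul, mul_one, hεN]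
  have hNZ : Nᵀ * Matrix.diagonal z = 0 := by
    rw [← Matrix.diagonal_transpose z, ← transpose_mul, hZN, transpose_zero]
  refine ⟨_, _, h.congr hu hQ (z' := z) ?_, fun a b => ?_⟩
  · rw [Matrix.inv_eq_right_inv hinv, transpose_sub, transpose_one, sub_mul, one_mul, hNZ, sub_zero,
      Matrix.mul_sub, mul_one, hZN, sub_zero]
  · have e1 : ∀ (M : Matrix (Fin m) (Fin m) F) (a b : Fin m), (N * M) a b = v a * M k b := fun M a b => by
      rw [Matrix.mul_apply, Finset.sum_eq_single k (fun x _ hx => by simp [hN, hx]) (by simp)]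
      simp [hN]
    have e2 : ∀ (M : Matrix (Fin m) (Fin m) F) (a b : Fin m), (M * Nᵀ) a b = v b * M a k := fun M a b => by
      rw [Matrix.mul_apply, Finset.sum_eq_single k (fun x _ hx => by simp [hN, hx]) (by simp)]
      simp [hN, mul_comm]
    rw [transpose_add, transpose_one, add_mul, one_mul, mul_add, mul_one, Matrix.add_apply, Matrix.add_apply,
      e2, Matrix.add_apply, e1, e1]
    ring

/-- Removing the cross entries of `T` away from the support of `z`. -/
theorem NF.kill {g : Sp F m} {ε z : Fin m → F} {T : Matrix (Fin m) (Fin m) F} (h : NF g ε z T)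
    (h2 : (2 : F) ≠ 0) :
    ∃ (c : Sp F m) (T' : Matrix (Fin m) (Fin m) F), NF (c * g * c⁻¹) ε z T' ∧
      ∀ a b, T' a b = if ε a ≠ ε b ∧ z a = 0 ∧ z b = 0 then 0 else T a b := by
  classical
  set S : Matrix (Fin m) (Fin m) F :=
    Matrix.of fun a b => if ε a ≠ ε b ∧ z a = 0 ∧ z b = 0 then T a b / 2 else 0 with hSdef
  have hT : ∀ a b, T a b = T b a := fun a b => by rw [← h.sym, Matrix.transpose_apply, h.sym]
  have hS : Sᵀ = S := by
    ext a b
    simp only [hSdef, Matrix.transpose_apply, Matrix.of_apply]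
    by_cases hc : ε a ≠ ε b ∧ z a = 0 ∧ z b = 0
    · rw [if_pos hc, if_pos ⟨hc.1.symm, hc.2.2, hc.2.1⟩, hT]
    · rw [if_neg hc, if_neg fun h' => hc ⟨h'.1.symm, h'.2.2, h'.2.1⟩]
  have hSZ : S * Matrix.diagonal z = 0 := by
    ext a b
    rw [Matrix.mul_diagonal, Matrix.zero_apply, hSdef, Matrix.of_apply]
    split_ifs with hc
    · rw [hc.2.2, mul_zero]
    · rw [zero_mul]
  have hSXZ : S * Matrix.diagonal ε * Matrix.diagonal z = 0 := by
    rw [Matrix.mul_assoc, Matrix.diagonal_mul_diagonal,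
      show (fun i => ε i * z i) = fun i => z i * ε i from funext fun i => mul_comm _ _,
      ← Matrix.diagonal_mul_diagonal, ← Matrix.mul_assoc, hSZ, Matrix.zero_mul]
  have hb := conj_blocks (ug S hS) _ g (ug_inv hS)
  rw [h.w22, h.x11, h.z21, h.y12] at hb
  simp only [ug, fromBlocks_multiply, Matrix.zero_mul, Matrix.mul_zero, Matrix.one_mul, Matrix.mul_one,
    add_zero, zero_add, hSZ, Matrix.mul_add, ← Matrix.mul_assoc, hSXZ] at hb
  refine ⟨ug S hS, T + Matrix.diagonal ε * S * Matrix.diagonal ε - S, ⟨h.sq, ?_, ?_, ?_, ?_⟩, fun a b => ?_⟩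
  · rw [show (ug S hS * g * (ug S hS)⁻¹).1 = _ from hb, toBlocks_fromBlocks₁₁]
  · rw [show (ug S hS * g * (ug S hS)⁻¹).1 = _ from hb, toBlocks_fromBlocks₂₁]
  · rw [show (ug S hS * g * (ug S hS)⁻¹).1 = _ from hb, toBlocks_fromBlocks₁₂, Matrix.mul_sub, Matrix.mul_add, ← Matrix.mul_assoc, ← Matrix.mul_assoc,
      diag_sq h.sq, one_mul, Matrix.mul_neg]
    abel
  · rw [transpose_sub, transpose_add, transpose_mul, transpose_mul, Matrix.diagonal_transpose, hS, h.sym,
      Matrix.mul_assoc]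
  · rw [Matrix.sub_apply, Matrix.add_apply, Matrix.mul_diagonal, Matrix.diagonal_mul, hSdef, Matrix.of_apply]
    split_ifs with hc
    · have : ε a * ε b = -1 := by
        rcases mul_self_eq_one_iff.1 (h.sq a) with ha | ha <;>
          rcases mul_self_eq_one_iff.1 (h.sq b) with hb | hb <;> simp_all
      rw [show ε a * (T a b / 2) * ε b = (ε a * ε b) * (T a b / 2) by ring, this]
      field_simp
      ring
    · ring

variable [Fintype F]

/-- Two non-zero entries in the lower left block. -/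
theorem NF.caseA {g : Sp F m} {ε z : Fin m → F} {T : Matrix (Fin m) (Fin m) F} (h : NF g ε z T)
    (h2 : (2 : F) ≠ 0) (hm : 3 ≤ m) {i j : Fin m} (hij : i ≠ j) (hi : z i ≠ 0) (hj : z j ≠ 0) :
    IsCom g := by
  refine pair_com g hm hij h.sq fun t δ => ?_
  obtain ⟨a, b, c, h1, h3⟩ := solveA (x := ε i) (y := ε j) hi hj h2 t δ
  obtain ⟨eii, eij, eji, ejj, e0⟩ := sym2_mul_diagonal hij z a b c
  refine ⟨ug (sym2 i j a b c) (sym2_transpose i j a b c),
    Matrix.diagonal ε + sym2 i j a b c * Matrix.diagonal z, ?_, fun k l hli hlj => ?_, ?_, ?_⟩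
  · rw [conj_blocks _ _ g (ug_inv _), h.x11, h.z21]
    simp [ug, fromBlocks_multiply]
  · rw [Matrix.add_apply, e0 k l hli hlj, add_zero, Matrix.diagonal_apply]
    by_cases hkl : k = l
    · subst hkl; simp
    · simp [hkl]
  · simp only [Matrix.add_apply, eii, ejj, Matrix.diagonal_apply_eq]
    exact h1
  · simp only [Matrix.add_apply, eii, ejj, eij, eji, Matrix.diagonal_apply_eq,
      Matrix.diagonal_apply_ne _ hij, Matrix.diagonal_apply_ne _ hij.symm, zero_add]
    exact h3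

/-- A non-degenerate principal minor of `T` inside one class. -/
theorem NF.caseB {g : Sp F m} {ε z : Fin m → F} {T : Matrix (Fin m) (Fin m) F} (h : NF g ε z T)
    (h2 : (2 : F) ≠ 0) (hm : 3 ≤ m) {i j : Fin m} (hij : i ≠ j) (hε : ε i = ε j)
    (hD : T i i * T j j - T i j * T i j ≠ 0) : IsCom g := by
  refine pair_com g hm hij h.sq fun t δ => ?_
  obtain ⟨a, b, c, h1, h3⟩ := solveB (h.sq i) hD h2 t δ
  have hT : T j i = T i j := by rw [← h.sym, Matrix.transpose_apply, h.sym]
  refine ⟨lg (sym2 i j a b c) (sym2_transpose i j a b c),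
    Matrix.diagonal ε - Matrix.diagonal ε * T * sym2 i j a b c, ?_, fun k l hli hlj => ?_, ?_, ?_⟩
  · rw [conj_blocks _ _ g (lg_inv _), h.x11, h.y12]
    simp [lg, fromBlocks_multiply, sub_eq_add_neg]
  · rw [Matrix.sub_apply, mul_sym2 hij, if_neg hli, if_neg hlj, sub_zero, Matrix.diagonal_apply]
    by_cases hkl : k = l
    · subst hkl; simp
    · simp [hkl]
  · simp only [Matrix.sub_apply, mul_sym2 hij, if_true, if_neg hij.symm, Matrix.diagonal_apply_eq,
      Matrix.diagonal_mul]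
    rw [hT, ← hε]
    linear_combination h1
  · simp only [Matrix.sub_apply, mul_sym2 hij, if_true, if_neg hij.symm, Matrix.diagonal_apply_eq,
      Matrix.diagonal_mul, Matrix.diagonal_apply_ne _ hij, Matrix.diagonal_apply_ne _ hij.symm, zero_sub]
    rw [hT, ← hε]
    linear_combination h3

/-- Coordinates where `z` vanishes and `T` is diagonal may be exchanged with their duals. -/
theorem NF.swap {g : Sp F m} {ε z : Fin m → F} {T : Matrix (Fin m) (Fin m) F} (h : NF g ε z T)
    (h2 : (2 : F) ≠ 0) (hm : 3 ≤ m) (K : Finset (Fin m)) (hK : ∀ k ∈ K, z k = 0)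
    (hT : ∀ k ∈ K, ∀ b, b ≠ k → T k b = 0) {i j : Fin m} (hij : i ≠ j)
    (hi : z i ≠ 0 ∨ (i ∈ K ∧ T i i ≠ 0)) (hj : z j ≠ 0 ∨ (j ∈ K ∧ T j j ≠ 0)) : IsCom g := by
  classical
  let u : Fin m → F := fun k => if k ∈ K then 1 else 0
  have hu : ∀ k, u k = 0 ∨ u k = 1 := fun k => by by_cases hk : k ∈ K <;> simp [u, hk]
  let c : Sp F m := d2 (fun k => 1 - u k) (fun k => -u k) u (fun k => 1 - u k)
    (fun k => by rcases hu k with e | e <;> simp [e])
  let c' : Sp F m := d2 (fun k => 1 - u k) u (fun k => -u k) (fun k => 1 - u k)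
    (fun k => by rcases hu k with e | e <;> simp [e])
  have hc : c⁻¹ = c' := by
    rw [inv_eq_iff_mul_eq_one]
    apply Subtype.ext
    simp only [Submonoid.coe_mul, c, c', d2, fromBlocks_multiply, Matrix.diagonal_mul_diagonal,
      Matrix.diagonal_add, OneMemClass.coe_one]
    rw [← fromBlocks_one, fromBlocks_inj, ← Matrix.diagonal_one, ← Matrix.diagonal_zero]
    refine ⟨?_, ?_, ?_, ?_⟩ <;> (congr 1; funext k; rcases hu k with e | e <;> simp [e])
  have hsym : ∀ a b, T a b = T b a := fun a b => by rw [← h.sym, Matrix.transpose_apply, h.sym]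
  set z' : Fin m → F := fun k => z k - u k * (ε k * T k k) with hz'
  have hb := conj_blocks c c' g hc
  rw [h.w22, h.x11, h.z21, h.y12] at hb
  simp only [c, c', d2, fromBlocks_multiply] at hb
  have key : ∀ a b, (c * g * c⁻¹).1.toBlocks₁₁ a b = Matrix.diagonal ε a b ∧
      (c * g * c⁻¹).1.toBlocks₂₁ a b = Matrix.diagonal z' a b := by
    intro a b
    rw [show (c * g * c⁻¹).1 = _ from hb, toBlocks_fromBlocks₁₁, toBlocks_fromBlocks₂₁]
    simp only [Matrix.add_apply, Matrix.mul_diagonal, Matrix.diagonal_mul, Matrix.one_apply]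
    by_cases hab : a = b
    · subst hab
      by_cases ha : a ∈ K
      · simp [u, ha, hz', hK a ha]
      · simp [u, ha, hz']
    · by_cases ha : a ∈ K <;> by_cases hb' : b ∈ K <;>
        simp [u, ha, hb', hab, Matrix.diagonal_apply_ne _ hab]
      · exact ⟨Or.inr (Or.inl (hK a ha)), Or.inr (hT a ha b (Ne.symm hab))⟩
      · exact ⟨Or.inr (by rw [hsym]; exact hT b hb' a hab), Or.inr (Or.inr (Or.inr (by rw [hsym]; exact hT b hb' a hab)))⟩
  have hnf : ∀ x, z x ≠ 0 ∨ (x ∈ K ∧ T x x ≠ 0) → z' x ≠ 0 := by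
    intro x hx
    simp only [hz', u]
    by_cases hxK : x ∈ K
    · rcases hx with hx | ⟨-, hx⟩
      · exact absurd (hK x hxK) hx
      · rw [hK x hxK, if_pos hxK, zero_sub, one_mul, neg_ne_zero]
        refine mul_ne_zero ?_ hx
        intro e; have := h.sq x; rw [e, mul_zero] at this; exact zero_ne_one this
    · rw [if_neg hxK, zero_mul, sub_zero]
      exact hx.resolve_right fun h' => hxK h'.1
  -- only the two left blocks matter for the two-entry case
  refine IsCom.of_conj c (pair_com _ hm hij h.sq fun t δ => ?_)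
  obtain ⟨a', b', c'', h1, h3⟩ := solveA (x := ε i) (y := ε j) (hnf i hi) (hnf j hj) h2 t δ
  obtain ⟨eii, eij, eji, ejj, e0⟩ := sym2_mul_diagonal hij z' a' b' c''
  refine ⟨ug (sym2 i j a' b' c'') (sym2_transpose i j a' b' c''),
    Matrix.diagonal ε + sym2 i j a' b' c'' * Matrix.diagonal z', ?_, fun k l hli hlj => ?_, ?_, ?_⟩
  · rw [conj_blocks _ _ (c * g * c⁻¹) (ug_inv _),
      show (c * g * c⁻¹).1.toBlocks₁₁ = Matrix.diagonal ε from Matrix.ext fun a b => (key a b).1,
      show (c * g * c⁻¹).1.toBlocks₂₁ = Matrix.diagonal z' from Matrix.ext fun a b => (key a b).2]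
    simp [ug, fromBlocks_multiply]
  · rw [Matrix.add_apply, e0 k l hli hlj, add_zero, Matrix.diagonal_apply]
    by_cases hkl : k = l
    · subst hkl; simp
    · simp [hkl]
  · simp only [Matrix.add_apply, eii, ejj, Matrix.diagonal_apply_eq]
    exact h1
  · simp only [Matrix.add_apply, eii, ejj, eij, eji, Matrix.diagonal_apply_eq,
      Matrix.diagonal_apply_ne _ hij, Matrix.diagonal_apply_ne _ hij.symm, zero_add]
    exact h3

/-- Everything supported on one pair of coordinates. -/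
theorem NF.closed {g : Sp F m} {ε z : Fin m → F} {T : Matrix (Fin m) (Fin m) F} (h : NF g ε z T)
    (h2 : (2 : F) ≠ 0) {i j : Fin m} (hij : i ≠ j)
    (hz : ∀ k, k ≠ i → k ≠ j → z k = 0) (hT : ∀ k, k ≠ i → k ≠ j → ∀ b, T k b = 0) : IsCom g := by
  classical
  obtain ⟨l, hl⟩ : ∃ l, Fintype.card {k : Fin m // k ≠ i ∧ k ≠ j} = l := ⟨_, rfl⟩
  let o : Fin l ≃ {k : Fin m // k ≠ i ∧ k ≠ j} := (Fintype.equivFinOfCardEq hl).symm
  let f : Fin 2 ⊕ Fin l → Fin m := Sum.elim ![i, j] (fun k => (o k).1)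
  have hinj : Function.Injective f := by
    refine Function.Injective.sumElim ?_ (Subtype.val_injective.comp o.injective) ?_
    · intro x y h; fin_cases x <;> fin_cases y <;> simp_all [eq_comm]
    · intro x y
      fin_cases x
      · exact (o y).2.1.symm
      · exact (o y).2.2.symm
  have hsurj : Function.Surjective f := by
    intro k
    by_cases hki : k = i
    · exact ⟨Sum.inl 0, by simp [f, hki]⟩
    by_cases hkj : k = j
    · exact ⟨Sum.inl 1, by simp [f, hkj]⟩
    exact ⟨Sum.inr (o.symm ⟨k, hki, hkj⟩), by simp [f]⟩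
  let e : Fin 2 ⊕ Fin l ≃ Fin m := Equiv.ofBijective f ⟨hinj, hsurj⟩
  let ε' : Fin l → F := fun k => ε (o k).1
  let B : Sp F l := d2 ε' (fun _ => 0) (fun _ => 0) ε' (fun k => by simp [ε', h.sq])
  have hB : B.1 = fromBlocks (Matrix.diagonal ε') 0 0 (Matrix.diagonal ε') := by simp [B, d2]
  refine com_of_sum e g (g.1.submatrix (Sum.map (fun x => e (Sum.inl x)) fun x => e (Sum.inl x))
    (Sum.map (fun x => e (Sum.inl x)) fun x => e (Sum.inl x))) B ?_ (fun x => sp_four_com h2 x)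
    (d2_com h2 (fun k => h.sq _) B hB)
  change g.1 = Matrix.reindex _ _ _
  rw [← Equiv.symm_apply_eq]
  have hs : ∀ a b, T a b = T b a := fun a b => by rw [← h.sym, Matrix.transpose_apply, h.sym]
  have hz' : ∀ x : Fin l, z (e (Sum.inr x)) = 0 := fun x => hz _ (o x).2.1 (o x).2.2
  have hT' : ∀ (x : Fin l) b, T (e (Sum.inr x)) b = 0 := fun x => hT _ (o x).2.1 (o x).2.2
  have hT'' : ∀ (x : Fin l) b, T b (e (Sum.inr x)) = 0 := fun x b => (hs _ _).trans (hT' x b)
  have hne : ∀ (x : Fin 2) (y : Fin l), e (Sum.inl x) ≠ e (Sum.inr y) := fun x y h' => by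
    simpa using e.injective h'
  have hinr : ∀ x, ε (e (Sum.inr x)) = ε' x := fun x => rfl
  obtain ⟨G, hG, hG'⟩ : ∃ G, g.1 = G ∧ G = fromBlocks (Matrix.diagonal ε) (Matrix.diagonal ε * T)
      (Matrix.diagonal z) (Matrix.diagonal ε * (1 + Matrix.diagonal z * (Matrix.diagonal ε * T))) :=
    ⟨_, rfl, by conv_lhs => rw [← fromBlocks_toBlocks g.1, h.w22, h.x11, h.z21, h.y12]⟩
  rw [hB, hG, hG']
  ext x y
  rcases x with (x | x) | (x | x) <;> rcases y with (y | y) | (y | y) <;>
    simp [sumIdx, Matrix.mul_apply, Matrix.diagonal_apply, hne, fun a b => (hne a b).symm, hz', hT', hT'',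
      Matrix.one_apply, hinr]

theorem sign_eq {a b d : F} (ha : a * a = 1) (hb : b * b = 1) (hd : d * d = 1) (h1 : a ≠ d) (h2 : b ≠ d) :
    a = b := by
  rcases mul_self_eq_one_iff.1 ha with x | x <;> rcases mul_self_eq_one_iff.1 hb with y | y <;>
    rcases mul_self_eq_one_iff.1 hd with w | w <;> subst x y w <;> first | rfl | exact absurd rfl h1 | exact absurd rfl h2

set_option maxHeartbeats 1000000 in
/-- The normal form is a commutator. -/
theorem NF.com {g : Sp F m} {ε z : Fin m → F} {T : Matrix (Fin m) (Fin m) F} (h : NF g ε z T)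
    (h2 : (2 : F) ≠ 0) (hm : 3 ≤ m) : IsCom g := by
  classical
  have : Nontrivial (Fin m) := Fin.nontrivial_iff_two_le.2 (by omega)
  have hother : ∀ k : Fin m, ∃ k', k' ≠ k := fun k => exists_ne k
  by_cases hA : ∃ i j, i ≠ j ∧ z i ≠ 0 ∧ z j ≠ 0
  · obtain ⟨i, j, hij, hi, hj⟩ := hA
    exact h.caseA h2 hm hij hi hj
  push Not at hA
  by_cases hz0 : ∀ k, z k = 0
  · -- `z = 0`: `T` becomes diagonal
    obtain ⟨c, T₁, h₁, e₁⟩ := h.kill h2
    obtain ⟨P, hP, hPb, hPd⟩ := congr_classes h2 ε T₁ h₁.sym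
    have hPt : IsUnit (Pᵀ).det := by rwa [det_transpose]
    have hc := commute_diagonal_of_zero (c := ε) (P := Pᵀ) (fun k l hkl => hPb l k (Ne.symm hkl)) ε
      (fun _ _ e => e)
    have h₂ := h₁.congr (z' := z) hPt hc (by simp [funext hz0])
    rw [transpose_transpose] at h₂
    refine IsCom.of_conj c (IsCom.of_conj (dg Pᵀ hPt) ?_)
    set T₂ := Pᵀ * T₁ * P with hT₂
    have hd : ∀ a b, a ≠ b → T₂ a b = 0 := by
      intro a b hab
      by_cases he : ε a = ε b
      · exact hPd a b hab he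
      · rw [hT₂, Matrix.mul_apply]
        refine Finset.sum_eq_zero fun x _ => ?_
        by_cases hx : ε x = ε b
        · rw [Matrix.mul_apply, Finset.sum_eq_zero fun y _ => ?_, zero_mul]
          by_cases hy : ε y = ε a
          · rw [e₁, if_pos ⟨by rw [hy, hx]; exact he, hz0 y, hz0 x⟩, mul_zero]
          · rw [Matrix.transpose_apply, hPb y a hy, zero_mul]
        · rw [hPb x b hx, mul_zero]
    by_cases hB : ∃ i j, i ≠ j ∧ T₂ i i ≠ 0 ∧ T₂ j j ≠ 0
    · obtain ⟨i, j, hij, hi, hj⟩ := hB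
      exact h₂.swap h2 hm Finset.univ (fun k _ => hz0 k) (fun k _ b hb => hd k b hb.symm) hij
        (Or.inr ⟨Finset.mem_univ i, hi⟩) (Or.inr ⟨Finset.mem_univ j, hj⟩)
    push Not at hB
    obtain ⟨i, hi⟩ : ∃ i, ∀ k, k ≠ i → T₂ k k = 0 := by
      by_cases he : ∃ i, T₂ i i ≠ 0
      · obtain ⟨i, hi⟩ := he
        exact ⟨i, fun k hk => by
          by_contra h'
          exact h' (hB i k hk.symm hi)⟩
      · push Not at he
        exact ⟨⟨0, by omega⟩, fun k _ => he k⟩
    obtain ⟨j, hj⟩ := hother i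
    refine h₂.closed h2 hj.symm (fun k _ _ => hz0 k) fun k hk _ b => ?_
    by_cases hb : k = b
    · subst hb; exact hi k hk
    · exact hd k b hb
  push Not at hz0
  obtain ⟨i, hzi⟩ := hz0
  have hzk : ∀ k, k ≠ i → z k = 0 := fun k hk => hA i k hk.symm hzi
  have hε0 : ∀ k, ε k ≠ 0 := fun k e => by have := h.sq k; rw [e, mul_zero] at this; exact zero_ne_one this
  -- clear the row of `i` inside its class
  by_cases hp : T i i = 0 ∧ ∃ n, n ≠ i ∧ ε n = ε i ∧ T i n ≠ 0
  · obtain ⟨hp, n, hn, hεn, hTn⟩ := hp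
    refine h.caseB h2 hm hn.symm hεn.symm ?_
    rw [hp, zero_mul, zero_sub, neg_ne_zero]
    exact mul_ne_zero hTn hTn
  obtain ⟨c₁, T₁, h₁, hr₁⟩ : ∃ (c : Sp F m) (T₁ : Matrix (Fin m) (Fin m) F), NF (c * g * c⁻¹) ε z T₁ ∧
      ∀ l, l ≠ i → ε l = ε i → T₁ l i = 0 := by
    have hs : ∀ a b, T a b = T b a := fun a b => by rw [← h.sym, Matrix.transpose_apply, h.sym]
    by_cases hp0 : T i i = 0
    · refine ⟨1, T, by rw [one_mul, inv_one, mul_one]; exact h, fun l hl hεl => ?_⟩
      by_contra h'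
      exact hp ⟨hp0, l, hl, hεl, by rwa [hs]⟩
    · obtain ⟨c, T', h', e'⟩ := h.rowop i (fun l => if l ≠ i ∧ ε l = ε i then -T l i / T i i else 0)
        (by simp) (fun a ha => by
          by_cases hc : a ≠ i ∧ ε a = ε i
          · exact ⟨hc.2, hzk a hc.1⟩
          · exact absurd (if_neg hc) ha)
      refine ⟨c, T', h', fun l hl hεl => ?_⟩
      rw [e', if_pos ⟨hl, hεl⟩, if_neg (by simp)]
      field_simp
      ring
  obtain ⟨c₂, T₂, h₂, e₂⟩ := h₁.kill h2
  -- diagonalise inside the classes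
  let cl : Fin m → F := fun k => if k = i then 0 else ε k
  obtain ⟨P, hP, hPb, hPd⟩ := congr_classes h2 cl T₂ h₂.sym
  have hPt : IsUnit (Pᵀ).det := by rwa [det_transpose]
  have hcl : ∀ k l, cl k = cl l → ε k = ε l ∧ (k = i ↔ l = i) := by
    intro k l e
    simp only [cl] at e
    by_cases hk : k = i <;> by_cases hl : l = i <;> simp_all [eq_comm]
  have hPi : ∀ k, k ≠ i → P k i = 0 ∧ P i k = 0 := fun k hk =>
    ⟨hPb k i fun e => hk ((hcl k i e).2.2 rfl), hPb i k fun e => hk ((hcl i k e).2.1 rfl)⟩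
  have hPit : ∀ k l, cl k ≠ cl l → (Pᵀ)⁻¹ k l = 0 := by
    intro k l hkl
    have hc := commute_diagonal_of_zero (c := cl) (P := Pᵀ) (fun k l hkl => hPb l k (Ne.symm hkl)) cl
      (fun _ _ e => e)
    have hc' : (Pᵀ)⁻¹ * Matrix.diagonal cl = Matrix.diagonal cl * (Pᵀ)⁻¹ := by
      calc (Pᵀ)⁻¹ * Matrix.diagonal cl = (Pᵀ)⁻¹ * (Matrix.diagonal cl * Pᵀ) * (Pᵀ)⁻¹ := by
            rw [Matrix.mul_assoc, Matrix.mul_assoc, mul_nonsing_inv _ hPt, mul_one]
        _ = _ := by rw [← hc, ← Matrix.mul_assoc, nonsing_inv_mul _ hPt, one_mul]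
    have := congrFun (congrFun hc' k) l
    rw [Matrix.mul_diagonal, Matrix.diagonal_mul, mul_comm (cl k)] at this
    by_contra h'
    exact hkl (mul_left_cancel₀ h' this).symm
  set R := (Pᵀ)⁻¹ with hR
  have hRi : ∀ k, k ≠ i → R i k = 0 := fun k hk => hPit i k fun e => hk ((hcl i k e).2.1 rfl)
  let z' : Fin m → F := fun k => if k = i then R i i * z i * R i i else 0
  have hz' : Rᵀ * Matrix.diagonal z * R = Matrix.diagonal z' := by
    ext a b
    rw [Matrix.mul_apply, Finset.sum_eq_single i (fun x _ hx => by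
      rw [Matrix.mul_diagonal, hzk x hx, mul_zero, zero_mul]) (by simp), Matrix.mul_diagonal,
      Matrix.transpose_apply, Matrix.diagonal_apply]
    by_cases ha : a = i
    · subst ha
      by_cases hb : b = a
      · subst hb; simp [z']
      · rw [hRi b hb, mul_zero, if_neg (Ne.symm hb)]
    · rw [hRi a ha, zero_mul, zero_mul]
      split_ifs <;> simp [z', ha]
  have h₃ := h₂.congr hPt (commute_diagonal_of_zero (c := cl) (P := Pᵀ)
    (fun k l hkl => hPb l k (Ne.symm hkl)) ε (fun k l e => (hcl k l e).1)) hz'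
  rw [transpose_transpose] at h₃
  refine IsCom.of_conj c₁ (IsCom.of_conj c₂ (IsCom.of_conj (dg Pᵀ hPt) ?_))
  set g₃ := dg Pᵀ hPt * (c₂ * (c₁ * g * c₁⁻¹) * c₂⁻¹) * (dg Pᵀ hPt)⁻¹
  set T₃ := Pᵀ * T₂ * P with hT₃
  have hzi' : z' i ≠ 0 := by
    simp only [z', if_true]
    have : R i i ≠ 0 := by
      intro e
      have hu : IsUnit R.det := isUnit_nonsing_inv_det _ hPt
      refine hu.ne_zero (Matrix.det_eq_zero_of_row_eq_zero i fun k => ?_)
      by_cases hk : k = i
      · rw [hk, e]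
      · exact hRi k hk
    exact mul_ne_zero (mul_ne_zero this hzi) this
  have hzk' : ∀ k, k ≠ i → z' k = 0 := fun k hk => if_neg hk
  -- off-diagonal entries only join `i` to the other class
  have hoff : ∀ a b, a ≠ b → ¬ (a = i ∧ ε b ≠ ε i) → ¬ (b = i ∧ ε a ≠ ε i) → T₃ a b = 0 := by
    intro a b hab hna hnb
    by_cases hc : cl a = cl b
    · exact hPd a b hab hc
    rw [hT₃, Matrix.mul_apply]
    refine Finset.sum_eq_zero fun x _ => ?_
    by_cases hxb : cl x = cl b
    swap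
    · rw [hPb x b hxb, mul_zero]
    rw [Matrix.mul_apply, Finset.sum_eq_zero fun y _ => ?_, zero_mul]
    by_cases hya : cl y = cl a
    swap
    · rw [Matrix.transpose_apply, hPb y a hya, zero_mul]
    obtain ⟨hy1, hy2⟩ := hcl y a hya
    obtain ⟨hx1, hx2⟩ := hcl x b hxb
    refine mul_eq_zero_of_right _ ?_
    have hs : ∀ a b, T₁ a b = T₁ b a := fun a b => by rw [← h₁.sym, Matrix.transpose_apply, h₁.sym]
    rw [e₂]
    split_ifs with hk
    · rfl
    by_cases hai : a = i
    · subst hai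
      rw [hy2.2 rfl, hs]
      exact hr₁ x (fun e => hab (hx2.1 e).symm) (hx1.trans (not_not.1 fun e => hna ⟨rfl, e⟩))
    · by_cases hbi : b = i
      · subst hbi
        rw [hx2.2 rfl]
        exact hr₁ y (fun e => hai (hy2.1 e)) (hy1.trans (not_not.1 fun e => hnb ⟨rfl, e⟩))
      · exfalso
        refine hk ⟨?_, hzk y (fun e => hai (hy2.1 e)), hzk x (fun e => hbi (hx2.1 e))⟩
        intro e
        apply hc
        simp only [cl, hai, hbi, if_false]
        rw [← hy1, ← hx1, e]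
  have hs₃ : ∀ a b, T₃ a b = T₃ b a := fun a b => by rw [← h₃.sym, Matrix.transpose_apply, h₃.sym]
  -- a diagonal entry joined to nothing
  by_cases hsw : ∃ k, k ≠ i ∧ T₃ k k ≠ 0 ∧ T₃ k i = 0
  · obtain ⟨k, hk, hkk, hki⟩ := hsw
    refine h₃.swap h2 hm {k} (fun x hx => ?_) (fun x hx b hb => ?_) hk.symm (Or.inl hzi')
      (Or.inr ⟨Finset.mem_singleton_self k, hkk⟩)
    · rw [Finset.mem_singleton] at hx; subst hx; exact hzk' x hk
    · rw [Finset.mem_singleton] at hx; subst hx
      by_cases hbi : b = i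
      · rw [hbi, hki]
      · exact hoff x b hb.symm (fun e => hk e.1) (fun e => hbi e.1)
  push Not at hsw
  have hopp : ∀ k, k ≠ i → T₃ k i ≠ 0 → ε k ≠ ε i := fun k hk h' e =>
    h' (hoff k i hk (fun e' => hk e'.1) fun e' => e'.2 e)
  by_cases htwo : ∃ k l, k ≠ i ∧ l ≠ i ∧ k ≠ l ∧ T₃ k k ≠ 0 ∧ T₃ l l ≠ 0
  · obtain ⟨k, l, hk, hl, hkl, hkk, hll⟩ := htwo
    have e1 := hopp k hk (hsw k hk hkk)
    have e2 := hopp l hl (hsw l hl hll)
    refine h₃.caseB h2 hm hkl (sign_eq (h.sq k) (h.sq l) (h.sq i) e1 e2) ?_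
    rw [hoff k l hkl (fun e => hk e.1) (fun e => hl e.1), mul_zero, sub_zero]
    exact mul_ne_zero hkk hll
  push Not at htwo
  by_cases hone : ∃ k, k ≠ i ∧ T₃ k k ≠ 0
  · obtain ⟨k, hk, hkk⟩ := hone
    have hki := hsw k hk hkk
    by_cases hex : ∃ n, n ≠ i ∧ n ≠ k ∧ T₃ n i ≠ 0
    · obtain ⟨n, hn, hnk, hni⟩ := hex
      have hnn : T₃ n n = 0 := by_contra fun e => e (htwo k n hk hn hnk.symm hkk)
      have hkn : T₃ k n = 0 := hoff k n hnk.symm (fun e => hk e.1) (fun e => hn e.1)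
      have hεkn : ε k = ε n := sign_eq (h.sq k) (h.sq n) (h.sq i) (hopp k hk hki) (hopp n hn hni)
      obtain ⟨c, T₄, h₄, e₄⟩ := h₃.rowop n (fun l => if l = k then -T₃ k i / T₃ n i else 0)
        (if_neg hnk) (fun a ha => by
          by_cases hak : a = k
          · subst hak; exact ⟨hεkn, hzk' a hk⟩
          · exact absurd (if_neg hak) ha)
      refine IsCom.of_conj c (h₄.swap h2 hm {k} (fun x hx => ?_) (fun x hx b hb => ?_) hk.symm
        (Or.inl hzi') (Or.inr ⟨Finset.mem_singleton_self k, ?_⟩))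
      · rw [Finset.mem_singleton] at hx; subst hx; exact hzk' x hk
      · rw [Finset.mem_singleton] at hx; subst hx
        rw [e₄, if_pos rfl, if_neg hb]
        by_cases hbi : b = i
        · subst hbi; field_simp; ring
        · rw [hoff x b hb.symm (fun e => hk e.1) (fun e => hbi e.1)]
          by_cases hbn : b = n
          · rw [hbn, hnn]; ring
          · rw [hoff n b (Ne.symm hbn) (fun e => hn e.1) (fun e => hbi e.1)]; ring
      · rw [e₄, if_pos rfl, hs₃ n k, hkn, hnn]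
        simpa using hkk
    · push Not at hex
      refine h₃.closed h2 hk.symm (fun x hx _ => hzk' x hx) fun x hx hxk b => ?_
      by_cases hbx : x = b
      · subst hbx; exact by_contra fun e => e (htwo k x hk hx hxk.symm hkk)
      by_cases hbi : b = i
      · rw [hbi]; exact hex x hx hxk
      · exact hoff x b hbx (fun e => hx e.1) (fun e => hbi e.1)
  push Not at hone
  by_cases hex : ∃ n, n ≠ i ∧ T₃ n i ≠ 0
  swap
  · push Not at hex
    obtain ⟨j, hj⟩ := hother i
    refine h₃.closed h2 hj.symm (fun x hx _ => hzk' x hx) fun x hx _ b => ?_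
    by_cases hbx : x = b
    · subst hbx; exact hone x hx
    by_cases hbi : b = i
    · rw [hbi]; exact hex x hx
    · exact hoff x b hbx (fun e => hx e.1) (fun e => hbi e.1)
  obtain ⟨n, hn, hni⟩ := hex
  have hopp2 : ∀ a, a ≠ i → T₃ a i ≠ 0 → ε a = ε n := fun a ha h' =>
    sign_eq (h.sq a) (h.sq n) (h.sq i) (hopp a ha h') (hopp n hn hni)
  obtain ⟨c, T₄, h₄, e₄⟩ := h₃.rowop n (fun l => if l ≠ i ∧ l ≠ n then -T₃ l i / T₃ n i else 0)
    (if_neg (by simp)) (fun a ha => by
      by_cases hc : a ≠ i ∧ a ≠ n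
      · refine ⟨hopp2 a hc.1 fun e => ha ?_, hzk' a hc.1⟩
        rw [if_pos hc, e]; simp
      · exact absurd (if_neg hc) ha)
  refine IsCom.of_conj c (h₄.closed h2 hn.symm (fun x hx _ => hzk' x hx) fun x hx hxn b => ?_)
  have hrow : ∀ y, y ≠ i → T₃ n y = 0 := fun y hy => by
    by_cases hyn : n = y
    · subst hyn; exact hone n hn
    · exact hoff n y hyn (fun e => hn e.1) (fun e => hy e.1)
  rw [e₄, if_pos ⟨hx, hxn⟩, hs₃ x n, hrow x hx, hrow n hn]
  by_cases hbi : b = i
  · subst hbi; rw [if_neg (by simp)]; field_simp; ring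
  · rw [hrow b hbi, mul_zero, mul_zero, add_zero, add_zero, mul_zero, add_zero]
    by_cases hbx : x = b
    · subst hbx; exact hone x hx
    · exact hoff x b hbx (fun e => hx e.1) (fun e => hbi e.1)

end Cfsg.Agent.Small.SpOre
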