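import Mathlib
import Cfsg.Agent.Lib.Small.SpOreBasis
import Cfsg.Agent.Lib.Small.SpOreCases
import Cfsg.Agent.Lib.Lie.SLComm.Sourour

/-!
Every element of a symplectic group over a finite field is a commutator, apart from the small exceptions.
-/

set_option autoImplicit false
set_option linter.unusedSectionVars false

open Matrix

namespace Cfsg.Agent.Small.SpOre

variable {F : Type*} [Field F] [Fintype F] {m : ℕ}

theorem com_one (h4 : 4 ≤ Fintype.card F) (g : Sp F 1) : IsCom g := by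
  let e : Fin 1 ⊕ Fin 1 ≃ Fin 2 := finSumFinEquiv
  have hdet : ∀ A : Sp F 1, (Matrix.reindex e e A.1).det = 1 := fun A => by
    have h := congrFun (congrFun (SymplecticGroup.mem_iff'.1 A.2) (Sum.inr 0)) (Sum.inl 0)
    simp [Matrix.J, Matrix.mul_apply, Fintype.sum_sum_type] at h
    rw [Matrix.det_fin_two]
    simp [Matrix.reindex_apply, e, show e.symm (0 : Fin 2) = Sum.inl 0 from rfl,
      show e.symm (1 : Fin 2) = Sum.inr 0 from rfl]
    linear_combination h
  obtain ⟨a, b, ha, hb, h⟩ := Lie.SLComm.com_of_det_four h4 (le_refl 2) _ (hdet g)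
  have hmem : ∀ a : Matrix (Fin 2) (Fin 2) F, a.det = 1 →
      Matrix.reindex e.symm e.symm a ∈ Matrix.symplecticGroup (Fin 1) F := by
    intro a ha
    rw [Matrix.det_fin_two] at ha
    rw [SymplecticGroup.mem_iff']
    ext x y
    rcases x with x | x <;> rcases y with y | y <;> fin_cases x <;> fin_cases y <;>
      simp [Matrix.J, Matrix.mul_apply, Fintype.sum_sum_type, show e (Sum.inl 0) = (0 : Fin 2) from rfl,
        show e (Sum.inr 0) = (1 : Fin 2) from rfl] <;>
      first | ring1 | linear_combination ha | linear_combination -ha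
  refine ⟨⟨_, hmem a ha⟩, ⟨_, hmem b hb⟩, ?_⟩
  rw [eq_mul_inv_iff_mul_eq, eq_mul_inv_iff_mul_eq]
  apply Subtype.ext
  have h' := congrArg (Matrix.reindex e.symm e.symm) h
  simp only [Matrix.reindex_apply, Equiv.symm_symm, ← Matrix.submatrix_mul_equiv _ _ _ e] at h'
  simp only [Submonoid.coe_mul, Matrix.reindex_apply, Equiv.symm_symm]
  rw [← h']
  congr 2
  ext x y
  simp

theorem com_all (hm : 1 ≤ m) (h1 : m = 1 → 4 ≤ Fintype.card F) (h2 : m = 2 → 3 ≤ Fintype.card F)
    (g : Sp F m) : IsCom g := by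
  classical
  by_cases hm1 : m = 1
  · subst hm1; exact com_one (h1 rfl) g
  obtain ⟨P, ε, hε, hX, hZ⟩ := exists_conj_diag g
  by_cases htwo : (2 : F) = 0
  · -- characteristic two: the upper left block is trivial
    refine IsCom.of_conj P⁻¹ ?_
    rw [inv_inv]
    obtain ⟨f, -, -, -, hfree⟩ := exists_free (F := F) (m := m) (by omega) h2
    refine of_block _ hfree (P := 1) (by simp) ?_
    rw [hX, inv_one, mul_one, one_mul, mul_nonsing_inv _ hfree.1, ← Matrix.diagonal_one]
    congr 1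
    funext i
    rcases mul_self_eq_one_iff.1 (hε i) with h | h
    · exact h
    · rw [h]; linear_combination -htwo
  by_cases hm2 : m = 2
  · subst hm2; exact sp_four_com htwo g
  refine IsCom.of_conj P⁻¹ ?_
  rw [inv_inv]
  obtain ⟨g', hg'⟩ : ∃ g', g' = P⁻¹ * g * P := ⟨_, rfl⟩
  rw [← hg'] at hX hZ ⊢
  obtain ⟨e1, -, e3⟩ := blocks g'
  rw [hX, hZ, Matrix.diagonal_transpose] at e1
  rw [hX, Matrix.diagonal_transpose] at e3
  set Z := g'.1.toBlocks₂₁
  set Y := g'.1.toBlocks₁₂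
  -- congruence inside the two classes
  obtain ⟨R, hR, hRb, hRd⟩ := congr_classes htwo ε Z hZ
  have hRi : IsUnit (R⁻¹).det := isUnit_nonsing_inv_det R hR
  have hc : R * Matrix.diagonal ε = Matrix.diagonal ε * R :=
    commute_diagonal_of_zero hRb ε (fun _ _ e => e)
  have hc' : R⁻¹ * Matrix.diagonal ε = Matrix.diagonal ε * R⁻¹ := by
    calc R⁻¹ * Matrix.diagonal ε = R⁻¹ * (Matrix.diagonal ε * R) * R⁻¹ := by
          rw [Matrix.mul_assoc, Matrix.mul_assoc, mul_nonsing_inv _ hR, mul_one]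
      _ = _ := by rw [← hc, ← Matrix.mul_assoc, nonsing_inv_mul _ hR, one_mul]
  have hb : (dg R⁻¹ hRi * g' * (dg R⁻¹ hRi)⁻¹).1 = fromBlocks (R⁻¹ * g'.1.toBlocks₁₁ * R)
      (R⁻¹ * Y * (R⁻¹)ᵀ) (Rᵀ * Z * R) (Rᵀ * g'.1.toBlocks₂₂ * (R⁻¹)ᵀ) := by
    rw [conj_blocks _ _ g' (dg_inv hRi)]
    simp only [dg, fromBlocks_multiply, Matrix.zero_mul, Matrix.mul_zero, add_zero, zero_add,
      nonsing_inv_nonsing_inv R hR, Y, Z]
  set T' := Matrix.diagonal ε * (R⁻¹ * Y * (R⁻¹)ᵀ) with hT'
  have hZd : Rᵀ * Z * R = Matrix.diagonal fun k => (Rᵀ * Z * R) k k := by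
    ext a b
    by_cases hab : a = b
    · subst hab; simp
    rw [Matrix.diagonal_apply_ne _ hab]
    by_cases he : ε a = ε b
    · exact hRd a b hab he
    rw [Matrix.mul_apply]
    refine Finset.sum_eq_zero fun x _ => ?_
    by_cases hx : ε x = ε b
    swap
    · rw [hRb x b hx, mul_zero]
    rw [Matrix.mul_apply, Finset.sum_eq_zero fun y _ => ?_, zero_mul]
    by_cases hy : ε y = ε a
    swap
    · rw [Matrix.transpose_apply, hRb y a hy, zero_mul]
    have h := congrFun (congrFun e1 y) x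
    rw [Matrix.mul_diagonal, Matrix.diagonal_mul, mul_comm (ε y)] at h
    refine mul_eq_zero_of_right _ ?_
    by_contra hne
    exact he (by rw [← hy, ← hx]; exact (mul_left_cancel₀ hne h).symm)
  refine IsCom.of_conj (dg R⁻¹ hRi) (NF.com (ε := ε) (z := fun k => (Rᵀ * Z * R) k k) (T := T')
    ⟨hε, ?_, ?_, ?_, ?_⟩ htwo (by omega))
  · rw [hb, toBlocks_fromBlocks₁₁, hX, hc',
      Matrix.mul_assoc, nonsing_inv_mul R hR, mul_one]
  · rw [hb, toBlocks_fromBlocks₂₁, ← hZd]
  · rw [hb, toBlocks_fromBlocks₁₂, hT', ← Matrix.mul_assoc,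
      diag_sq hε, one_mul]
  · have hsym : (Matrix.diagonal ε * Y)ᵀ = Matrix.diagonal ε * Y := by
      rw [transpose_mul, Matrix.diagonal_transpose]
      calc Yᵀ * Matrix.diagonal ε = (Matrix.diagonal ε * Matrix.diagonal ε) * (Yᵀ * Matrix.diagonal ε) := by
            rw [diag_sq hε, one_mul]
        _ = Matrix.diagonal ε * (Matrix.diagonal ε * Yᵀ) * Matrix.diagonal ε := by simp only [Matrix.mul_assoc]
        _ = _ := by rw [← e3, Matrix.mul_assoc, Matrix.mul_assoc Y, diag_sq hε, mul_one]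
    have e : T' = R⁻¹ * (Matrix.diagonal ε * Y) * (R⁻¹)ᵀ := by
      rw [hT', ← Matrix.mul_assoc, ← Matrix.mul_assoc, ← hc', Matrix.mul_assoc R⁻¹]
    rw [e, transpose_mul, transpose_mul, transpose_transpose, hsym, Matrix.mul_assoc]
    simp only [Matrix.mul_assoc]

end Cfsg.Agent.Small.SpOre
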