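import Cfsg.Agent.Lib.Small.SpPrimeGraph
import Cfsg.Agent.Lib.Classical.SymplecticCount

/-!
# The prime graph of `PSp₆(3)`

The vertices are 2, 3, 5, 7, 13; the edges are 2-3, 2-5, 2-7 and 3-5.
-/

set_option autoImplicit false
set_option linter.unusedSectionVars false

namespace Cfsg.Agent.Small.SpSixThree

open Matrix Cfsg.Agent.Small.SpPrimeGraph

universe u

/-! ### The centraliser of an element of order thirteen -/

section Closed

variable {K : Type u} [Field K] [IsAlgClosed K] [CharP K 3]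
variable {ι : Type} [Fintype ι] [DecidableEq ι]

/-- Entrywise cube of a vector. -/
def cube (v : ι → K) : ι → K := fun i => v i ^ 3

theorem cube_ne {v : ι → K} (hv : v ≠ 0) : cube v ≠ 0 := fun h =>
  hv (funext fun i => eq_zero_of_pow_eq_zero (congrFun h i))

theorem cube_mulVec {M : Matrix ι ι K} (hM : ∀ i j, M i j ^ 3 = M i j) (v : ι → K) :
    M *ᵥ cube v = cube (M *ᵥ v) := by
  haveI : Fact (Nat.Prime 3) := ⟨Nat.prime_three⟩
  funext i
  simp only [Matrix.mulVec, dotProduct, cube, sum_pow_char, mul_pow, hM]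

theorem cube_smul (c : K) (v : ι → K) : cube (c • v) = c ^ 3 • cube v := by
  funext i
  simp [cube, mul_pow]

theorem thirteen_ne_zero : (13 : K) ≠ 0 := by
  intro h
  have h' : ((13 : ℕ) : K) = 0 := by exact_mod_cast h
  rw [CharP.cast_eq_zero_iff K 3] at h'
  norm_num at h'

/-- A matrix of order thirteen has an eigenvalue other than one. -/
theorem exists_eigen {M : Matrix ι ι K} (h13 : M ^ 13 = 1) (hM1 : M ≠ 1) :
    ∃ (z : K) (v : ι → K), v ≠ 0 ∧ M *ᵥ v = z • v ∧ z ≠ 1 ∧ z ^ 13 = 1 := by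
  obtain ⟨u, hu⟩ : ∃ u, M *ᵥ u ≠ u := by
    by_contra! h
    exact hM1 (Matrix.ext_iff_mulVec.2 fun u => by rw [h u, Matrix.one_mulVec])
  let W : Submodule K (ι → K) := LinearMap.range (M.mulVecLin - LinearMap.id)
  have hmem : ∀ w, w ∈ W ↔ ∃ u, M *ᵥ u - u = w := fun w => by simp [W]
  haveI : Nontrivial W := Submodule.nontrivial_iff_ne_bot.2 fun h => hu (sub_eq_zero.1 (by
    have := (hmem _).2 ⟨u, rfl⟩
    rwa [h, Submodule.mem_bot] at this))
  let f : W →ₗ[K] W := M.mulVecLin.restrict fun w hw => by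
    obtain ⟨u, hu⟩ := (hmem w).1 hw
    exact (hmem _).2 ⟨M *ᵥ u, by rw [← Matrix.mulVec_sub, hu]; rfl⟩
  obtain ⟨z, hz⟩ := Module.End.exists_eigenvalue f
  obtain ⟨w, hw⟩ := hz.exists_hasEigenvector
  have hwv : M *ᵥ (w : ι → K) = z • (w : ι → K) := congrArg Subtype.val hw.apply_eq_smul
  have hw0 : (w : ι → K) ≠ 0 := fun h => hw.2 (Subtype.ext h)
  have hpow : ∀ k : ℕ, (M ^ k) *ᵥ (w : ι → K) = z ^ k • (w : ι → K) := fun k => by
    induction k with
    | zero => simp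
    | succ k ih => rw [pow_succ', ← Matrix.mulVec_mulVec, ih, Matrix.mulVec_smul, hwv, smul_smul, ← pow_succ]
  refine ⟨z, w, hw0, hwv, ?_, ?_⟩
  · rintro rfl
    rw [one_smul] at hwv
    obtain ⟨u, hu⟩ := (hmem _).1 w.2
    have hk : ∀ k : ℕ, (M ^ k) *ᵥ u = u + (k : K) • (w : ι → K) := fun k => by
      induction k with
      | zero => simp
      | succ k ih =>
        rw [pow_succ', ← Matrix.mulVec_mulVec, ih, Matrix.mulVec_add, Matrix.mulVec_smul, hwv,
          sub_eq_iff_eq_add.1 hu, Nat.cast_succ, add_smul, one_smul]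
        abel
    have h := hk 13
    rw [h13, Matrix.one_mulVec, left_eq_add, smul_eq_zero] at h
    refine hw0 (h.resolve_left ?_)
    exact_mod_cast thirteen_ne_zero (K := K)
  · have h := hpow 13
    rw [h13, Matrix.one_mulVec] at h
    have h2 : (z ^ 13 - 1) • (w : ι → K) = 0 := by rw [sub_smul, one_smul, ← h, sub_self]
    exact sub_eq_zero.1 ((smul_eq_zero.1 h2).resolve_right hw0)

/-- An isometry of order dividing four commuting with one of order thirteen is scalar. -/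
theorem scalar_of_commute (hι : Fintype.card ι = 6) (J M A : Matrix ι ι K) (hJ : J.det ≠ 0)
    (hM : Mᵀ * J * M = J) (hA : Aᵀ * J * A = J) (hc : A * M = M * A) (h13 : M ^ 13 = 1) (hM1 : M ≠ 1)
    (h4 : A ^ 4 = 1) (hMc : ∀ i j, M i j ^ 3 = M i j) (hAc : ∀ i j, A i j ^ 3 = A i j) :
    A = 1 ∨ A = -1 := by
  obtain ⟨z, v, hv, hzv, hz1, hz⟩ := exists_eigen h13 hM1
  haveI : Fact (Nat.Prime 13) := ⟨by norm_num⟩
  have ho : orderOf z = 13 := orderOf_eq_prime hz hz1
  -- the dual eigenvalue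
  have hdual : ∃ w : ι → K, w ≠ 0 ∧ M *ᵥ w = z ^ 12 • w := by
    have hJv : J *ᵥ v ≠ 0 := fun h => hv (Matrix.eq_zero_of_mulVec_eq_zero hJ h)
    have hT : Mᵀ *ᵥ (J *ᵥ v) = z ^ 12 • (J *ᵥ v) := by
      have h : z • (Mᵀ *ᵥ (J *ᵥ v)) = J *ᵥ v := by
        rw [← Matrix.mulVec_smul, ← Matrix.mulVec_smul, ← hzv, Matrix.mulVec_mulVec, Matrix.mulVec_mulVec, hM]
      calc Mᵀ *ᵥ (J *ᵥ v) = (z ^ 12 * z) • (Mᵀ *ᵥ (J *ᵥ v)) := by rw [← pow_succ, hz, one_smul]
        _ = z ^ 12 • (J *ᵥ v) := by rw [mul_smul, h]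
    have hd : (M - z ^ 12 • (1 : Matrix ι ι K)).det = 0 := by
      rw [← Matrix.det_transpose, Matrix.transpose_sub, Matrix.transpose_smul, Matrix.transpose_one]
      exact Matrix.exists_mulVec_eq_zero_iff.1 ⟨_, hJv, by
        rw [Matrix.sub_mulVec, Matrix.smul_mulVec, Matrix.one_mulVec, hT, sub_self]⟩
    obtain ⟨w, hw, hw'⟩ := Matrix.exists_mulVec_eq_zero_iff.2 hd
    rw [Matrix.sub_mulVec, Matrix.smul_mulVec, Matrix.one_mulVec, sub_eq_zero] at hw'
    exact ⟨w, hw, hw'⟩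
  obtain ⟨w, hw, hzw⟩ := hdual
  -- six eigenvectors
  let e : Fin 6 → ℕ := ![1, 3, 9, 12, 10, 4]
  let b : Fin 6 → (ι → K) := ![v, cube v, cube (cube v), w, cube w, cube (cube w)]
  have hzp : ∀ a : ℕ, z ^ a = z ^ (a % 13) := fun a => by rw [← ho, pow_mod_orderOf]
  have hcube : ∀ (a : ℕ) (x : ι → K), M *ᵥ x = z ^ a • x → M *ᵥ cube x = z ^ (a * 3 % 13) • cube x :=
    fun a x hx => by rw [cube_mulVec hMc, hx, cube_smul, ← pow_mul, ← hzp]
  have hv1 : M *ᵥ v = z ^ 1 • v := by rw [pow_one]; exact hzv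
  have hb : ∀ i, M *ᵥ b i = z ^ e i • b i := by
    intro i
    fin_cases i
    · exact hv1
    · exact hcube 1 v hv1
    · exact hcube 3 _ (hcube 1 v hv1)
    · exact hzw
    · exact hcube 12 w hzw
    · exact hcube 10 _ (hcube 12 w hzw)
  have hb0 : ∀ i, b i ≠ 0 := by
    intro i
    fin_cases i
    exacts [hv, cube_ne hv, cube_ne (cube_ne hv), hw, cube_ne hw, cube_ne (cube_ne hw)]
  have hinj : Function.Injective fun i => z ^ e i := by
    have hz0 : z ≠ 0 := fun h => by rw [h] at hz; simp at hz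
    have hu : orderOf (Units.mk0 z hz0) = 13 := by rw [← orderOf_units]; exact ho
    intro i j h
    have h' : Units.mk0 z hz0 ^ e i = Units.mk0 z hz0 ^ e j := Units.ext (by simpa using h)
    rw [pow_inj_mod, hu] at h'
    have key : ∀ i j : Fin 6, (![1, 3, 9, 12, 10, 4] : Fin 6 → ℕ) i % 13 = (![1, 3, 9, 12, 10, 4] : Fin 6 → ℕ) j % 13 → i = j := by
      decide
    exact key i j h'
  have hli : LinearIndependent K b :=
    Module.End.eigenvectors_linearIndependent' M.mulVecLin (fun i => z ^ e i) hinj b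
      fun i => Module.End.hasEigenvector_iff.2 ⟨Module.End.mem_eigenspace_iff.2 (hb i), hb0 i⟩
  let B : Module.Basis (Fin 6) K (ι → K) :=
    basisOfLinearIndependentOfCardEqFinrank hli (by rw [Module.finrank_fintype_fun_eq_card, hι, Fintype.card_fin])
  have hB : ∀ i, B i = b i := fun i => by
    rw [coe_basisOfLinearIndependentOfCardEqFinrank]
  -- the commuting element acts by scalars
  have hline : ∀ i x, M *ᵥ x = z ^ e i • x → ∃ c : K, x = c • b i := by
    intro i x hx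
    refine ⟨B.repr x i, ?_⟩
    have hzero : ∀ j, j ≠ i → B.repr x j = 0 := by
      intro j hj
      have h1 : M *ᵥ x = ∑ k, (B.repr x k * z ^ e k) • B k := by
        conv_lhs => rw [← B.sum_repr x]
        rw [Matrix.mulVec_sum]
        refine Finset.sum_congr rfl fun k _ => ?_
        rw [Matrix.mulVec_smul, hB, hb, smul_smul]
      have h2 : B.repr (M *ᵥ x) j = B.repr x j * z ^ e j := by rw [h1, B.repr_sum_self]
      rw [hx, map_smul, Finsupp.smul_apply, smul_eq_mul] at h2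
      have h3 : (z ^ e j - z ^ e i) * B.repr x j = 0 := by linear_combination -h2
      exact (mul_eq_zero.1 h3).resolve_left (sub_ne_zero.2 fun h => hj (hinj h))
    conv_lhs => rw [← B.sum_repr x]
    rw [Finset.sum_eq_single i (fun j _ hj => by rw [hzero j hj, zero_smul])
      (fun h => absurd (Finset.mem_univ i) h), hB]
  have hAe : ∀ i, ∃ c : K, A *ᵥ b i = c • b i := fun i => hline i _ (by
    rw [Matrix.mulVec_mulVec, ← hc, ← Matrix.mulVec_mulVec, hb, Matrix.mulVec_smul])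
  have hpow : ∀ (x : ι → K) (c : K), A *ᵥ x = c • x → ∀ k : ℕ, (A ^ k) *ᵥ x = c ^ k • x := fun x c h k => by
    induction k with
    | zero => simp
    | succ k ih => rw [pow_succ', ← Matrix.mulVec_mulVec, ih, Matrix.mulVec_smul, h, smul_smul, ← pow_succ]
  have hAcube : ∀ (x : ι → K) (c : K), A *ᵥ x = c • x → A *ᵥ cube x = c ^ 3 • cube x := fun x c h => by
    rw [cube_mulVec hAc, h, cube_smul]
  -- a scalar on an orbit is a sign
  have hsign : ∀ (i : Fin 6) (c : K), A *ᵥ b i = c • b i →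
      (∀ t : K, M *ᵥ cube (cube (cube (b i))) = t • cube (cube (cube (b i))) → t = z ^ e i) → c * c = 1 := by
    intro i c hcb ht
    have h3 : M *ᵥ cube (cube (cube (b i))) = z ^ (e i * 3 % 13 * 3 % 13 * 3 % 13) • cube (cube (cube (b i))) :=
      hcube _ _ (hcube _ _ (hcube _ _ (hb i)))
    have he := ht _ h3
    obtain ⟨d, hd⟩ := hline i _ (by rw [h3, he])
    have hA3 := hAcube _ _ (hAcube _ _ (hAcube _ _ hcb))
    have hne : cube (cube (cube (b i))) ≠ 0 := cube_ne (cube_ne (cube_ne (hb0 i)))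
    have h27 : ((c ^ 3) ^ 3) ^ 3 = c := by
      have h : (((c ^ 3) ^ 3) ^ 3 - c) • cube (cube (cube (b i))) = 0 := by
        rw [sub_smul, ← hA3, hd, Matrix.mulVec_smul, hcb, smul_comm, sub_self]
      exact sub_eq_zero.1 ((smul_eq_zero.1 h).resolve_right hne)
    have hc4 : c ^ 4 = 1 := by
      have h := hpow _ c hcb 4
      rw [h4, Matrix.one_mulVec] at h
      have h2 : (c ^ 4 - 1) • b i = 0 := by rw [sub_smul, one_smul, ← h, sub_self]
      exact sub_eq_zero.1 ((smul_eq_zero.1 h2).resolve_right (hb0 i))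
    have e27 : ((c ^ 3) ^ 3) ^ 3 = (c ^ 4) ^ 6 * (c * c) * c := by ring
    rw [hc4, one_pow, one_mul, h27] at e27
    have hc0 : c ≠ 0 := fun h => by rw [h] at hc4; simp at hc4
    exact mul_right_cancel₀ hc0 (e27.symm.trans (one_mul c).symm)
  obtain ⟨c, hcv⟩ := hAe 0
  obtain ⟨d, hdw⟩ := hAe 3
  have hcube27 : ∀ (x : ι → K) (t : K) (a : ℕ), x ≠ 0 → M *ᵥ x = z ^ a • x → M *ᵥ x = t • x → t = z ^ a := by
    intro x t a hx h1 h2
    have h : (t - z ^ a) • x = 0 := by rw [sub_smul, ← h2, h1, sub_self]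
    exact sub_eq_zero.1 ((smul_eq_zero.1 h).resolve_right hx)
  have hcc : c * c = 1 := hsign 0 c hcv fun t ht =>
    (hcube27 _ t _ (cube_ne (cube_ne (cube_ne (hb0 0)))) (hcube _ _ (hcube _ _ (hcube _ _ (hb 0)))) ht).trans (congrArg (z ^ ·) (by decide))
  have hdd : d * d = 1 := hsign 3 d hdw fun t ht =>
    (hcube27 _ t _ (cube_ne (cube_ne (cube_ne (hb0 3)))) (hcube _ _ (hcube _ _ (hcube _ _ (hb 3)))) ht).trans (congrArg (z ^ ·) (by decide))
  -- the pairing forces the two signs to agree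
  have hpair : ∀ (X : Matrix ι ι K), Xᵀ * J * X = J → ∀ x y : ι → K,
      (X *ᵥ x) ⬝ᵥ (J *ᵥ (X *ᵥ y)) = x ⬝ᵥ (J *ᵥ y) := fun X hX x y => by
    rw [← Matrix.vecMul_transpose, ← Matrix.dotProduct_mulVec, Matrix.mulVec_mulVec, Matrix.mulVec_mulVec, hX]
  have hvw : v ⬝ᵥ (J *ᵥ w) ≠ 0 := by
    intro h
    have hJw : J *ᵥ w ≠ 0 := fun h => hw (Matrix.eq_zero_of_mulVec_eq_zero hJ h)
    have hall : ∀ i, b i ⬝ᵥ (J *ᵥ w) = 0 := by
      intro i
      by_cases hi : i = 0
      · subst hi; exact h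
      have h1 := hpair M hM (b i) w
      rw [hb, hzw, Matrix.mulVec_smul, smul_dotProduct, dotProduct_smul, smul_eq_mul, smul_eq_mul,
        ← mul_assoc, ← pow_add] at h1
      refine (mul_eq_zero.1 (show (z ^ (e i + 12) - 1) * (b i ⬝ᵥ (J *ᵥ w)) = 0 by linear_combination h1)).resolve_left
        (sub_ne_zero.2 fun h2 => hi ?_)
      have h3 := orderOf_dvd_of_pow_eq_one h2
      rw [ho] at h3
      have key : ∀ i : Fin 6, 13 ∣ (![1, 3, 9, 12, 10, 4] : Fin 6 → ℕ) i + 12 → i = 0 := by decide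
      exact key i h3
    refine hJw (funext fun k => ?_)
    have hz0 : ∀ x : ι → K, x ⬝ᵥ (J *ᵥ w) = 0 := fun x => by
      rw [← B.sum_repr x, sum_dotProduct]
      exact Finset.sum_eq_zero fun i _ => by rw [smul_dotProduct, hB, hall, smul_zero]
    simpa [single_dotProduct] using hz0 (Pi.single k 1)
  have hcd : c * d = 1 := by
    have h1 := hpair A hA v w
    rw [show A *ᵥ v = c • v from hcv, show A *ᵥ w = d • w from hdw, Matrix.mulVec_smul, smul_dotProduct,
      dotProduct_smul, smul_eq_mul, smul_eq_mul] at h1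
    exact (mul_eq_zero.1 (show (c * d - 1) * (v ⬝ᵥ (J *ᵥ w)) = 0 by linear_combination h1)).resolve_right hvw
      |> sub_eq_zero.1
  have hdc : d = c := by linear_combination c * hcd - d * hcc
  have h3 : c ^ 3 = c := by linear_combination c * hcc
  have hall : ∀ i, A *ᵥ b i = c • b i := by
    intro i
    have hw1 : A *ᵥ w = c • w := hdc ▸ hdw
    have hv1 : A *ᵥ v = c • v := hcv
    have hstep : ∀ x : ι → K, A *ᵥ x = c • x → A *ᵥ cube x = c • cube x := fun x hx => by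
      rw [hAcube x c hx, h3]
    fin_cases i
    exacts [hv1, hstep _ hv1, hstep _ (hstep _ hv1), hw1, hstep _ hw1, hstep _ (hstep _ hw1)]
  have hAc1 : A = c • (1 : Matrix ι ι K) := Matrix.ext_iff_mulVec.2 fun x => by
    rw [← B.sum_repr x, Matrix.mulVec_sum, Matrix.mulVec_sum]
    refine Finset.sum_congr rfl fun i _ => ?_
    rw [Matrix.mulVec_smul, Matrix.mulVec_smul, Matrix.smul_mulVec, Matrix.one_mulVec, hB, hall]
  rcases mul_self_eq_one_iff.1 hcc with h | h
  · exact Or.inl (by rw [hAc1, h, one_smul])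
  · exact Or.inr (by rw [hAc1, h, neg_smul, one_smul])

end Closed

/-! ### Element orders in `PSp₆(3)` -/

section Orders

variable {F : Type u} [Field F] [Fintype F] (hF : Fintype.card F = 3)
include hF

theorem charThree : CharP F 3 := by
  obtain ⟨p, hp⟩ := CharP.exists F
  obtain ⟨k, hpp, hk⟩ := FiniteField.card F p
  rw [hF] at hk
  have := (Nat.prime_dvd_prime_iff_eq hpp Nat.prime_three).1 (hk ▸ dvd_pow_self p k.2.ne')
  exact this ▸ hp

theorem center_sq {z : symplecticGroup (Fin 3) F} (hz : z ∈ Subgroup.center (symplecticGroup (Fin 3) F)) :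
    z * z = 1 := by
  obtain ⟨c, hc, hzc⟩ := Small.sp_center_smul 3 z hz
  refine Subtype.ext ?_
  rw [Submonoid.coe_mul, hzc, Matrix.smul_mul, Matrix.mul_smul, mul_one, smul_smul, hc, one_smul]
  rfl

/-- An element of `Sp₆(3)` of order `t` gives elements of `PSp₆(3)` of orders `k` with `2 k ∣ t` or `k ∣ t` odd. -/
theorem exists_image {t k : ℕ} (g : symplecticGroup (Fin 3) F) (hg : orderOf g = t)
    (hk : ∀ o : ℕ, t ∣ 2 * o → k ∣ o) : ∃ x : Cfsg.PSp 3 F, orderOf x = k := by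
  have hd : k ∣ orderOf (g : Cfsg.PSp 3 F) := hk _ (by
    rw [← hg, orderOf_dvd_iff_pow_eq_one, mul_comm, pow_mul, pow_two]
    refine center_sq hF ?_
    rw [← QuotientGroup.eq_one_iff, QuotientGroup.mk_pow]
    exact pow_orderOf_eq_one _)
  exact ⟨_, orderOf_pow_orderOf_div (orderOf_pos _).ne' hd⟩

theorem exists_edges : (∃ x : Cfsg.PSp 3 F, orderOf x = 2 * 3) ∧ (∃ x : Cfsg.PSp 3 F, orderOf x = 2 * 5) ∧
    (∃ x : Cfsg.PSp 3 F, orderOf x = 2 * 7) ∧ (∃ x : Cfsg.PSp 3 F, orderOf x = 3 * 5) := by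
  haveI := charThree hF
  haveI : Fact (Nat.Prime 3) := ⟨Nat.prime_three⟩
  obtain ⟨u, hu⟩ := exists_sp_unipotent (F := F) 3 1 le_rfl
  have hu3 : orderOf u = 3 := by
    rw [hu, show Nat.clog 3 (2 * 1) = 1 from by decide, pow_one]
  obtain ⟨a, ha⟩ := exists_order (F := F) (m := 1) (η := 1) (t := 4) le_rfl le_rfl (Or.inr (by rw [hF]; norm_num))
  obtain ⟨b, hb⟩ := exists_order (F := F) (m := 2) (η := 1) (t := 4) le_rfl (by norm_num) (Or.inr (by rw [hF]; norm_num))
  obtain ⟨f, hf⟩ := exists_order (F := F) (m := 2) (η := 2) (t := 5) (by norm_num) le_rfl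
    (Or.inr (by rw [hF]; norm_num))
  obtain ⟨s, hs⟩ := exists_order (F := F) (m := 3) (η := 3) (t := 28) (by norm_num) le_rfl
    (Or.inr (by rw [hF]; norm_num))
  refine ⟨exists_image hF (t := 12) (spBlockHom F (show 1 + 2 = 3 from rfl) (u, b)) ?_ fun o ho => ?_,
    exists_image hF (t := 20) (spBlockHom F (show 1 + 2 = 3 from rfl) (a, f)) ?_ fun o ho => ?_,
    exists_image hF (t := 28) s hs fun o ho => ?_,
    exists_image hF (t := 15) (spBlockHom F (show 1 + 2 = 3 from rfl) (u, f)) ?_ fun o ho => ?_⟩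
  · rw [spBlock_order, hu3, hb]; rfl
  · omega
  · rw [spBlock_order, ha, hf]; rfl
  · omega
  · omega
  · rw [spBlock_order, hu3, hf]; rfl
  · omega

theorem no_twenty_six (x : Cfsg.PSp 3 F) : orderOf x ≠ 2 * 13 := by
  intro hx
  haveI := charThree hF
  haveI : Fact (Nat.Prime 3) := ⟨Nat.prime_three⟩
  obtain ⟨h, rfl⟩ := QuotientGroup.mk_surjective x
  have hz : h ^ 26 ∈ Subgroup.center (symplecticGroup (Fin 3) F) := by
    rw [← QuotientGroup.eq_one_iff, QuotientGroup.mk_pow]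
    exact orderOf_dvd_iff_pow_eq_one.1 (dvd_of_eq hx)
  have hnot : ∀ k : ℕ, ¬ 2 * 13 ∣ k → h ^ k ∉ Subgroup.center (symplecticGroup (Fin 3) F) := fun k hk hm =>
    hk (by rw [← hx, orderOf_dvd_iff_pow_eq_one, ← QuotientGroup.mk_pow, QuotientGroup.eq_one_iff]; exact hm)
  have h52 : h ^ 52 = 1 := by rw [show 52 = 26 * 2 from rfl, pow_mul, pow_two]; exact center_sq hF hz
  let L := AlgebraicClosure F
  haveI : CharP L 3 := charP_of_injective_algebraMap (algebraMap F L).injective 3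
  let Φ : symplecticGroup (Fin 3) F →* Matrix (Fin 3 ⊕ Fin 3) (Fin 3 ⊕ Fin 3) L :=
    { toFun := fun g => g.1.map (algebraMap F L)
      map_one' := by simp
      map_mul' := fun a b => by simp }
  have hΦ : Function.Injective Φ := fun a b e => Subtype.ext
    (Matrix.map_injective (algebraMap F L).injective e)
  have hfix : ∀ g i j, Φ g i j ^ 3 = Φ g i j := fun g i j => by
    show algebraMap F L (g.1 i j) ^ 3 = algebraMap F L (g.1 i j)
    rw [← map_pow]
    have e := FiniteField.pow_card (g.1 i j)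
    rw [hF] at e
    exact congrArg _ e
  have hJ : ∀ g, (Φ g)ᵀ * Matrix.J (Fin 3) L * Φ g = Matrix.J (Fin 3) L := fun g => by
    have h1 := congrArg (fun N : Matrix (Fin 3 ⊕ Fin 3) (Fin 3 ⊕ Fin 3) F => N.map (algebraMap F L))
      (SymplecticGroup.mem_iff'.1 g.2)
    simp only [Matrix.map_mul] at h1
    rw [Matrix.transpose_map] at h1
    have hJm : (Matrix.J (Fin 3) F).map (algebraMap F L) = Matrix.J (Fin 3) L := by
      simp [Matrix.J, Matrix.fromBlocks_map, Matrix.map_neg]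
    rw [hJm] at h1
    exact h1
  have hcomm : Φ (h ^ 13) * Φ (h ^ 4) = Φ (h ^ 4) * Φ (h ^ 13) := by
    rw [← map_mul, ← map_mul, ← pow_add, ← pow_add]
  have h13 : Φ (h ^ 4) ^ 13 = 1 := by rw [← map_pow, ← pow_mul, h52, map_one]
  have h4 : Φ (h ^ 13) ^ 4 = 1 := by rw [← map_pow, ← pow_mul, h52, map_one]
  have hne : Φ (h ^ 4) ≠ 1 := fun e => hnot 4 (by norm_num) (by
    rw [hΦ (e.trans (map_one Φ).symm)]; exact one_mem _)
  refine hnot 13 (by norm_num) ?_
  rcases scalar_of_commute (by simp) _ _ _ (Matrix.isUnit_det_J (Fin 3) L).ne_zero (hJ _) (hJ _) hcomm h13 hne h4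
    (hfix _) (hfix _) with e | e
  · rw [hΦ (e.trans (map_one Φ).symm)]; exact one_mem _
  · refine Subgroup.mem_center_iff.2 fun g => hΦ ?_
    rw [map_mul, map_mul, e, mul_neg, mul_one, neg_mul, one_mul]

theorem card_eq : ∀ p : ℕ, p.Prime → p ∣ Nat.card (Cfsg.PSp 3 F) → p = 2 ∨ p = 3 ∨ p = 5 ∨ p = 7 ∨ p = 13 := by
  intro p hp h
  have h' : p ∣ Nat.card (symplecticGroup (Fin 3) F) :=
    h.trans (Subgroup.card_dvd_of_surjective (QuotientGroup.mk' _) (QuotientGroup.mk'_surjective _))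
  rw [Cfsg.Agent.Classical.SpCount.card_symplecticGroup, hF] at h'
  norm_num [Finset.prod_range_succ, Fin.prod_univ_succ] at h'
  have h2 : p ∣ 2 ^ 10 * (3 ^ 9 * (5 * (7 * 13))) := by norm_num; exact h'
  have key : ∀ q k : ℕ, q.Prime → p ∣ q ^ k → p = q := fun q k hq hd =>
    (Nat.prime_dvd_prime_iff_eq hp hq).1 (hp.dvd_of_dvd_pow hd)
  rcases hp.dvd_mul.1 h2 with d | d
  · exact Or.inl (key 2 _ Nat.prime_two d)
  rcases hp.dvd_mul.1 d with d | d
  · exact Or.inr (Or.inl (key 3 _ Nat.prime_three d))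
  rcases hp.dvd_mul.1 d with d | d
  · exact Or.inr (Or.inr (Or.inl ((Nat.prime_dvd_prime_iff_eq hp (by norm_num)).1 d)))
  rcases hp.dvd_mul.1 d with d | d
  · exact Or.inr (Or.inr (Or.inr (Or.inl ((Nat.prime_dvd_prime_iff_eq hp (by norm_num)).1 d))))
  · exact Or.inr (Or.inr (Or.inr (Or.inr ((Nat.prime_dvd_prime_iff_eq hp (by norm_num)).1 d))))

theorem thirteen_dvd : 13 ∣ Nat.card (Cfsg.PSp 3 F) := by
  have h := Subgroup.card_eq_card_quotient_mul_card_subgroup (Subgroup.center (symplecticGroup (Fin 3) F))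
  have h13 : 13 ∣ Nat.card (symplecticGroup (Fin 3) F) := by
    rw [Cfsg.Agent.Classical.SpCount.card_symplecticGroup, hF]
    norm_num [Finset.prod_range_succ, Fin.prod_univ_succ]
  rw [h] at h13
  refine ((by norm_num : Nat.Prime 13).dvd_mul.1 h13).resolve_right fun hd => ?_
  have := (card_center (F := F) (n := 3) (by norm_num : Nat.Prime 13) hd).1
  omega

theorem non_edges : ∀ r s : ℕ, (r = 3 ∧ s = 7 ∨ r = 3 ∧ s = 13 ∨ r = 5 ∧ s = 7 ∨ r = 5 ∧ s = 13 ∨ r = 7 ∧ s = 13) →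
    ∀ x : Cfsg.PSp 3 F, orderOf x ≠ r * s := by
  haveI := charThree hF
  haveI : Fact (Nat.Prime 3) := ⟨Nat.prime_three⟩
  have h7 : 7 ∣ Nat.card (Cfsg.PSp 3 F) := by
    obtain ⟨x, hx⟩ := (exists_edges hF).2.2.1
    exact (Dvd.intro_left 2 rfl).trans (hx ▸ orderOf_dvd_natCard x)
  have o5 : orderOf ((3 : ℕ) : ZMod 5) = 4 := by
    rw [orderOf_eq_iff (by norm_num)]; decide
  have o7 : orderOf ((3 : ℕ) : ZMod 7) = 6 := by
    rw [orderOf_eq_iff (by norm_num)]; decide
  have o13 : orderOf ((3 : ℕ) : ZMod 13) = 3 := by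
    rw [orderOf_eq_iff (by norm_num)]; decide
  rintro r s (⟨rfl, rfl⟩ | ⟨rfl, rfl⟩ | ⟨rfl, rfl⟩ | ⟨rfl, rfl⟩ | ⟨rfl, rfl⟩) x hx
  · exact (adjacent_char_iff (F := F) 3 3 (by norm_num) 7 (by norm_num) (by norm_num) (by norm_num) 6 3
      (by rw [hF, o7]) (Or.inr ⟨by decide, rfl⟩)).2 (by norm_num) ⟨x, hx.trans (by norm_num)⟩
  · exact (adjacent_char_iff (F := F) 3 3 (by norm_num) 13 (by norm_num) (by norm_num) (by norm_num) 3 3
      (by rw [hF, o13]) (Or.inl ⟨by decide, rfl⟩)).2 (by norm_num) ⟨x, hx.trans (by norm_num)⟩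
  · exact (adjacent_iff (F := F) 3 3 5 7 (by norm_num) (by norm_num) (by norm_num) (by norm_num) (by norm_num)
      (by norm_num) (by norm_num) h7 4 6 2 3 (by rw [hF, o5]) (by rw [hF, o7]) (Or.inr ⟨by decide, rfl⟩)
      (Or.inr ⟨by decide, rfl⟩) (by norm_num)).2 ⟨by norm_num, fun ⟨t, _, h⟩ => by omega⟩ ⟨x, hx⟩
  · exact (adjacent_iff (F := F) 3 3 5 13 (by norm_num) (by norm_num) (by norm_num) (by norm_num) (by norm_num)
      (by norm_num) (by norm_num) (thirteen_dvd hF) 4 3 2 3 (by rw [hF, o5]) (by rw [hF, o13])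
      (Or.inr ⟨by decide, rfl⟩) (Or.inl ⟨by decide, rfl⟩) (by norm_num)).2
      ⟨by norm_num, fun ⟨t, _, h⟩ => by omega⟩ ⟨x, hx⟩
  · exact (adjacent_iff (F := F) 3 3 7 13 (by norm_num) (by norm_num) (by norm_num) (by norm_num) (by norm_num)
      (by norm_num) (by norm_num) (thirteen_dvd hF) 6 3 3 3 (by rw [hF, o7]) (by rw [hF, o13])
      (Or.inr ⟨by decide, rfl⟩) (Or.inl ⟨by decide, rfl⟩) le_rfl).2
      ⟨by norm_num, fun ⟨t, _, h⟩ => by omega⟩ ⟨x, hx⟩

end Orders

end Cfsg.Agent.Small.SpSixThree
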