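import Cfsg.Agent.Lib.Small.SymplecticElems
import Cfsg.Agent.Lib.Lead.SympBasic
import Cfsg.Agent.Lib.Classical.SpGeneration
import Cfsg.Agent.Lib.Small.SLnMinDeg.Main

/-!
The minimal degree of a nontrivial representation of `Sp_{2n}(q)`, `q` even: the characters of the abelian radical
of a point stabiliser that are nontrivial on the root group are quadratic forms, falling into two orbits.
-/

set_option autoImplicit false
set_option linter.unusedSectionVars false

namespace Cfsg.Agent.Small.SpTwo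

open Matrix Finset Cfsg

variable {F : Type*} [Field F] [Fintype F] [DecidableEq F]

/-! ### The character with kernel the image of `y ↦ y² + y` -/

section Psi

variable (h2 : (2 : F) = 0)

/-- The additive map `y ↦ y² + y`. -/
def artin : F →+ F where
  toFun y := y ^ 2 + y
  map_zero' := by simp
  map_add' a b := by linear_combination (a * b) * h2

theorem artin_index : (artin h2).range.index = 2 := by
  have hk : Nat.card (artin h2).ker = 2 := by
    have hset : ((artin h2).ker : Set F) = {0, 1} := by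
      ext y
      simp only [SetLike.mem_coe, AddMonoidHom.mem_ker, Set.mem_insert_iff, Set.mem_singleton_iff]
      show y ^ 2 + y = 0 ↔ _
      constructor
      · intro h
        rcases mul_eq_zero.1 (show y * (y + 1) = 0 by linear_combination h) with h' | h'
        · exact Or.inl h'
        · exact Or.inr (by linear_combination h' - h2)
      · rintro (rfl | rfl)
        · simp
        · linear_combination h2
    show Nat.card ↑((artin h2).ker : Set F) = 2
    rw [hset, Nat.card_coe_set_eq, Set.ncard_pair zero_ne_one]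
  have h1 := AddSubgroup.index_mul_card (artin h2).range
  have h3 := AddSubgroup.index_mul_card (artin h2).ker
  rw [AddSubgroup.index_ker] at h3
  rw [← h3, hk, mul_comm] at h1
  exact Nat.eq_of_mul_eq_mul_left Nat.card_pos h1

open _root_.Classical in
/-- The sign character. -/
noncomputable def psi : AddChar F ℂ where
  toFun x := if x ∈ (artin h2).range then 1 else -1
  map_zero_eq_one' := by simp [zero_mem]
  map_add_eq_mul' a b := by
    have h := AddSubgroup.add_mem_iff_of_index_two (artin_index h2) (a := a) (b := b)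
    by_cases ha : a ∈ (artin h2).range <;> by_cases hb : b ∈ (artin h2).range <;> simp [h, ha, hb]

theorem psi_mem {x : F} : psi h2 x = 1 ↔ x ∈ (artin h2).range := by
  classical
  show (if x ∈ (artin h2).range then (1 : ℂ) else -1) = 1 ↔ _
  split_ifs with h <;> simp [h]
  norm_num

theorem psi_cases (x : F) : psi h2 x = 1 ∨ psi h2 x = -1 := by
  classical
  show (if x ∈ (artin h2).range then (1 : ℂ) else -1) = 1 ∨ (if x ∈ (artin h2).range then (1 : ℂ) else -1) = -1
  split_ifs <;> simp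

theorem psi_ne : psi h2 ≠ 1 := by
  intro h
  have htop : (artin h2).range = ⊤ := eq_top_iff.2 fun x _ => (psi_mem h2).1 (by rw [h]; exact AddChar.one_apply x)
  have := artin_index h2
  rw [htop, AddSubgroup.index_top] at this
  omega

theorem psi_sq (x : F) : psi h2 (x ^ 2) = psi h2 x := by
  have h : psi h2 (x ^ 2 + x) = 1 := (psi_mem h2).2 ⟨x, rfl⟩
  rw [AddChar.map_add_eq_mul] at h
  rcases psi_cases h2 x with e | e <;> rw [e] at h ⊢
  · linear_combination h
  · linear_combination -h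

theorem exists_sq (h2 : (2 : F) = 0) (c : F) : ∃ r : F, r ^ 2 = c := by
  have hinj : Function.Injective fun r : F => r ^ 2 := fun a b h => by
    have h' : a ^ 2 = b ^ 2 := h
    have h'' : (a - b) ^ 2 = 0 := by linear_combination h' + (b ^ 2 - a * b) * h2
    exact sub_eq_zero.1 (pow_eq_zero_iff two_ne_zero |>.1 h'')
  exact (Finite.injective_iff_surjective.1 hinj) c

end Psi

/-! ### Transvections -/

variable {m : ℕ}

local notation:max "B[" m "]" => sympForm m F

/-- A symplectic transvection as a group element. -/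
def T (v : Fin m ⊕ Fin m → F) (c : F) : symplecticGroup (Fin m) F :=
  ⟨sympTransvection m v c, Lead.Symp.trans_mem v c⟩

theorem T_act (v : Fin m ⊕ Fin m → F) (c : F) (x : Fin m ⊕ Fin m → F) :
    (T v c).1 *ᵥ x = x + (c * sympForm m F x v) • v := Lead.Symp.trans_mulVec v x c

theorem T_add (v : Fin m ⊕ Fin m → F) (c d : F) : T v c * T v d = T v (c + d) :=
  Subtype.ext (Lead.Symp.trans_add v c d)

theorem eq_of_mulVec {g g' : symplecticGroup (Fin m) F} (h : ∀ x, g.1 *ᵥ x = g'.1 *ᵥ x) : g = g' :=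
  Subtype.ext (Matrix.ext_of_mulVec_single fun _ => h _)

theorem T_zero (v : Fin m ⊕ Fin m → F) : T v 0 = 1 := eq_of_mulVec fun x => by
  rw [T_act, zero_mul, zero_smul, add_zero, OneMemClass.coe_one, Matrix.one_mulVec]

theorem T_zero_left (c : F) : T (0 : Fin m ⊕ Fin m → F) c = 1 := eq_of_mulVec fun x => by
  rw [T_act, smul_zero, add_zero, OneMemClass.coe_one, Matrix.one_mulVec]

theorem form_add_left (u v w : Fin m ⊕ Fin m → F) :
    sympForm m F (u + v) w = sympForm m F u w + sympForm m F v w := by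
  simp [sympForm, add_dotProduct]

theorem form_add_right (u v w : Fin m ⊕ Fin m → F) :
    sympForm m F u (v + w) = sympForm m F u v + sympForm m F u w := by
  simp [sympForm, Matrix.mulVec_add, dotProduct_add]

theorem form_smul_left (a : F) (u v : Fin m ⊕ Fin m → F) :
    sympForm m F (a • u) v = a * sympForm m F u v := by
  simp [sympForm, smul_dotProduct]

theorem form_smul_right (a : F) (u v : Fin m ⊕ Fin m → F) :
    sympForm m F u (a • v) = a * sympForm m F u v := by
  simp [sympForm, Matrix.mulVec_smul, dotProduct_smul]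

theorem T_smul (v : Fin m ⊕ Fin m → F) (γ c : F) : T (γ • v) c = T v (c * γ ^ 2) := eq_of_mulVec fun x => by
  rw [T_act, T_act, form_smul_right, smul_smul]
  congr 2
  ring

theorem conj_T (A : symplecticGroup (Fin m) F) (v : Fin m ⊕ Fin m → F) (c : F) :
    A * T v c = T (A.1 *ᵥ v) c * A := eq_of_mulVec fun x => by
  rw [Submonoid.coe_mul, Submonoid.coe_mul, ← Matrix.mulVec_mulVec, ← Matrix.mulVec_mulVec, T_act, T_act,
    Matrix.mulVec_add, Matrix.mulVec_smul, Lead.Symp.form_preserved A.2]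

theorem T_isConj (h2 : (2 : F) = 0) {v w : Fin m ⊕ Fin m → F} {c d : F} (hv : v ≠ 0) (hw : w ≠ 0)
    (hc : c ≠ 0) (hd : d ≠ 0) : IsConj (T v c) (T w d) := by
  obtain ⟨γ, hγ⟩ := exists_sq h2 c
  obtain ⟨δ, hδ⟩ := exists_sq h2 d
  have hγ0 : γ ≠ 0 := fun h => hc (by rw [← hγ, h, zero_pow two_ne_zero])
  have hδ0 : δ ≠ 0 := fun h => hd (by rw [← hδ, h, zero_pow two_ne_zero])
  obtain ⟨A, -, hA⟩ := Lead.Symp.exists_move (smul_ne_zero hγ0 hv) (smul_ne_zero hδ0 hw)
  refine isConj_iff.2 ⟨A, mul_inv_eq_iff_eq_mul.2 ?_⟩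
  have h := conj_T A (γ • v) 1
  rwa [hA, T_smul, T_smul, one_mul, one_mul, hγ, hδ] at h

theorem eq_top_of_T (h2 : (2 : F) = 0) (N : Subgroup (symplecticGroup (Fin m) F)) [N.Normal]
    {v : Fin m ⊕ Fin m → F} (hv : v ≠ 0) (h : T v 1 ∈ N) : N = ⊤ := by
  rw [eq_top_iff, ← Classical.SpGen.closure_transvections, Subgroup.closure_le]
  rintro g ⟨w, c, hg⟩
  have hg' : g = T w c := Subtype.ext hg
  subst hg'
  by_cases hw : w = 0
  · subst hw
    rw [SetLike.mem_coe, T_zero_left]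
    exact one_mem N
  by_cases hc : c = 0
  · subst hc
    rw [SetLike.mem_coe, T_zero]
    exact one_mem N
  obtain ⟨u, hu⟩ := isConj_iff.1 (T_isConj h2 hv hw one_ne_zero hc)
  rw [SetLike.mem_coe, ← hu]
  exact Subgroup.Normal.conj_mem ‹_› _ h u

/-! ### Point and Levi coordinates -/

variable {k n : ℕ} (h : 1 + k = n)

/-- A vector from its two blocks. -/
def cmb (x : Fin 1 ⊕ Fin 1 → F) (a : Fin k ⊕ Fin k → F) : Fin n ⊕ Fin n → F :=
  Sum.elim x a ∘ (spIndex h).symm

/-- The point. -/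
def e0 : Fin n ⊕ Fin n → F := cmb h (Pi.single (.inl 0) 1) 0

/-- The Levi block. -/
def lft (a : Fin k ⊕ Fin k → F) : Fin n ⊕ Fin n → F := cmb h 0 a

theorem cmb_surj (z : Fin n ⊕ Fin n → F) : ∃ x a, cmb h x a = z :=
  ⟨fun i => z (spIndex h (.inl i)), fun i => z (spIndex h (.inr i)), funext fun i => by
    obtain ⟨j, rfl⟩ := (spIndex h).surjective i
    rcases j with j | j <;> simp [cmb]⟩

theorem block_mulVec (P : Matrix (Fin 1 ⊕ Fin 1) (Fin 1 ⊕ Fin 1) F) (Q : Matrix (Fin k ⊕ Fin k) (Fin k ⊕ Fin k) F)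
    (x : Fin 1 ⊕ Fin 1 → F) (a : Fin k ⊕ Fin k → F) :
    spBlockMat F h (P, Q) *ᵥ cmb h x a = cmb h (P *ᵥ x) (Q *ᵥ a) := by
  show Matrix.reindex _ _ _ *ᵥ _ = _
  rw [Matrix.reindex_apply, cmb, Matrix.submatrix_mulVec_equiv, Function.comp_assoc, Equiv.symm_symm,
    Equiv.symm_comp_self, Function.comp_id, Matrix.fromBlocks_mulVec]
  simp [cmb]

theorem form_cmb (x y : Fin 1 ⊕ Fin 1 → F) (a b : Fin k ⊕ Fin k → F) :
    sympForm n F (cmb h x a) (cmb h y b) = sympForm 1 F x y + sympForm k F a b := by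
  rw [sympForm, ← spBlockMat_J h, block_mulVec, cmb, cmb, comp_equiv_dotProduct_comp_equiv,
    sumElim_dotProduct_sumElim]
  rfl

/-- The Levi embedding. -/
def emb : symplecticGroup (Fin k) F →* symplecticGroup (Fin n) F :=
  (spBlockHom F h).comp (MonoidHom.inr _ _)

theorem emb_act (A : symplecticGroup (Fin k) F) (x : Fin 1 ⊕ Fin 1 → F) (a : Fin k ⊕ Fin k → F) :
    (emb h A).1 *ᵥ cmb h x a = cmb h x (A.1 *ᵥ a) := by
  show spBlockMat F h ((1 : Matrix _ _ F), A.1) *ᵥ _ = _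
  rw [block_mulVec, Matrix.one_mulVec]

theorem emb_T (v : Fin k ⊕ Fin k → F) (c : F) : emb h (T v c) = T (lft h v) c := eq_of_mulVec fun z => by
  obtain ⟨x, a, rfl⟩ := cmb_surj h z
  rw [emb_act, T_act, T_act, lft, form_cmb, show sympForm 1 F x 0 = 0 by simp [sympForm], zero_add]
  funext i
  obtain ⟨j, rfl⟩ := (spIndex h).surjective i
  rcases j with j | j <;> simp [cmb]

theorem lft_add (a b : Fin k ⊕ Fin k → F) : lft h (a + b) = lft h a + lft h b := by
  funext i
  obtain ⟨j, rfl⟩ := (spIndex h).surjective i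
  rcases j with j | j <;> simp [lft, cmb]

theorem lft_zero : lft h (0 : Fin k ⊕ Fin k → F) = 0 := by
  funext i
  obtain ⟨j, rfl⟩ := (spIndex h).surjective i
  rcases j with j | j <;> simp [lft, cmb]

theorem emb_e0 (A : symplecticGroup (Fin k) F) : (emb h A).1 *ᵥ e0 h = e0 h := by
  rw [e0, emb_act, Matrix.mulVec_zero]

theorem emb_lft (A : symplecticGroup (Fin k) F) (a : Fin k ⊕ Fin k → F) :
    (emb h A).1 *ᵥ lft h a = lft h (A.1 *ᵥ a) := emb_act h A 0 a

theorem e0_ne : e0 h ≠ (0 : Fin n ⊕ Fin n → F) := fun h0 => by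
  have := congrFun h0 (spIndex h (.inl (.inl 0)))
  simp [e0, cmb] at this

theorem form_e0_lft (a : Fin k ⊕ Fin k → F) : sympForm n F (e0 h) (lft h a) = 0 := by
  rw [e0, lft, form_cmb]
  simp [sympForm]

theorem form_lft_e0 (a : Fin k ⊕ Fin k → F) : sympForm n F (lft h a) (e0 h) = 0 := by
  rw [Lead.Symp.form_swap, form_e0_lft, neg_zero]

theorem form_lft (a b : Fin k ⊕ Fin k → F) : sympForm n F (lft h a) (lft h b) = sympForm k F a b := by
  rw [lft, lft, form_cmb]
  simp [sympForm]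

/-- The elements of the radical of the point stabiliser. -/
def qq (a : Fin k ⊕ Fin k → F) (l : F) : symplecticGroup (Fin n) F :=
  T (e0 h + lft h a) 1 * T (lft h a) 1 * T (e0 h) (l + 1)

variable (h2 : (2 : F) = 0)

include h2

theorem form_comm (a b : Fin m ⊕ Fin m → F) : sympForm m F b a = sympForm m F a b := by
  rw [Lead.Symp.form_swap]
  linear_combination (-(sympForm m F a b)) * h2

theorem qq_act (a : Fin k ⊕ Fin k → F) (l : F) (x : Fin n ⊕ Fin n → F) :
    (qq h a l).1 *ᵥ x = x + (l * sympForm n F x (e0 h) + sympForm n F x (lft h a)) • e0 h +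
      sympForm n F x (e0 h) • lft h a := by
  rw [qq, Submonoid.coe_mul, Submonoid.coe_mul, ← Matrix.mulVec_mulVec, ← Matrix.mulVec_mulVec, T_act, T_act,
    T_act]
  simp only [form_add_left, form_add_right, form_smul_left, Lead.Symp.form_self, form_e0_lft, form_lft_e0,
    mul_zero, add_zero, one_mul]
  match_scalars <;> grind

theorem qq_mul (a b : Fin k ⊕ Fin k → F) (l l' : F) :
    qq h a l * qq h b l' = qq h (a + b) (l + l' + sympForm k F a b) := eq_of_mulVec fun x => by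
  rw [Submonoid.coe_mul, ← Matrix.mulVec_mulVec, qq_act h h2, qq_act h h2, qq_act h h2]
  simp only [lft_add, form_add_left, form_add_right, form_smul_left, Lead.Symp.form_self, form_e0_lft,
    form_lft_e0, form_lft, form_comm h2 a b, mul_zero, add_zero]
  module

theorem qq_zero_left (l : F) : qq h (0 : Fin k ⊕ Fin k → F) l = T (e0 h) l := eq_of_mulVec fun x => by
  rw [qq_act h h2, T_act, lft_zero, smul_zero, add_zero, show sympForm n F x 0 = 0 by simp [sympForm], add_zero]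

theorem emb_qq (A : symplecticGroup (Fin k) F) (a : Fin k ⊕ Fin k → F) (l : F) :
    emb h A * qq h a l = qq h (A.1 *ᵥ a) l * emb h A := by
  have c1 := conj_T (emb h A) (e0 h + lft h a) 1
  have c2 := conj_T (emb h A) (lft h a) 1
  have c3 := conj_T (emb h A) (e0 h) (l + 1)
  rw [Matrix.mulVec_add, emb_e0, emb_lft] at c1
  rw [emb_lft] at c2
  rw [emb_e0] at c3
  simp only [qq, ← mul_assoc]
  rw [c1, mul_assoc _ (emb h A), c2, ← mul_assoc, mul_assoc _ (emb h A), c3, ← mul_assoc]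

/-! ### Quadratic forms with polar the symplectic form -/

/-- The standard quadratic form. -/
def R0 (a : Fin k ⊕ Fin k → F) : F := ∑ i, a (.inr i) * a (.inl i)

/-- The forms with the given polar form. -/
def Ru (u a : Fin k ⊕ Fin k → F) : F := R0 a + sympForm k F a u ^ 2

theorem R0_add (a b : Fin k ⊕ Fin k → F) : R0 (a + b) = R0 a + R0 b + sympForm k F a b := by
  simp only [R0, Lead.Symp.form_eq, ← Finset.sum_add_distrib, Pi.add_apply]
  exact Finset.sum_congr rfl fun i _ => by linear_combination (a (.inl i) * b (.inr i)) * h2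

theorem Ru_add (u a b : Fin k ⊕ Fin k → F) : Ru u (a + b) = Ru u a + Ru u b + sympForm k F a b := by
  simp only [Ru, R0_add h2, form_add_left]
  linear_combination (sympForm k F a u * sympForm k F b u) * h2

theorem R0_smul (c : F) (a : Fin k ⊕ Fin k → F) : R0 (c • a) = c ^ 2 * R0 a := by
  simp only [R0, Finset.mul_sum, Pi.smul_apply, smul_eq_mul]
  exact Finset.sum_congr rfl fun i _ => by ring

theorem Ru_smul (u : Fin k ⊕ Fin k → F) (c : F) (a : Fin k ⊕ Fin k → F) : Ru u (c • a) = c ^ 2 * Ru u a := by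
  rw [Ru, Ru, R0_smul h2, form_smul_left]
  ring

theorem Ru_zero (u : Fin k ⊕ Fin k → F) : Ru u 0 = 0 := by simp [Ru, R0, sympForm]

theorem Ru_T (u v a : Fin k ⊕ Fin k → F) {μ γ : F} (hγ : γ ^ 2 = μ ^ 2 * Ru u v + μ) :
    Ru u ((T v μ).1 *ᵥ a) = Ru (u + γ • v) a := by
  rw [T_act, Ru_add h2, Ru_smul h2, form_smul_right]
  show _ = R0 a + sympForm k F a (u + γ • v) ^ 2
  rw [form_add_right, form_smul_right]
  simp only [Ru]
  simp only [Ru] at hγ
  linear_combination (-(sympForm k F a v) ^ 2) * hγ + (-(sympForm k F a u * γ * sympForm k F a v)) * h2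

theorem sum_psi_form (w : Fin k ⊕ Fin k → F) :
    ∑ a : Fin k ⊕ Fin k → F, psi h2 (sympForm k F a w) =
      if w = 0 then (Fintype.card F : ℂ) ^ (2 * k) else 0 := by
  by_cases hw : w = 0
  · subst hw
    simp [sympForm, two_mul]
  rw [if_neg hw]
  let φ : AddChar (Fin k ⊕ Fin k → F) ℂ := (psi h2).compAddMonoidHom
    (AddMonoidHom.mk' (fun a => sympForm k F a w) fun a b => form_add_left a b w)
  refine AddChar.sum_eq_zero_of_ne_one (ψ := φ) (AddChar.ne_one_iff.2 ?_)
  obtain ⟨x, hx⟩ := AddChar.ne_one_iff.1 (psi_ne h2)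
  obtain ⟨z, hz⟩ := Lead.Symp.exists_form_ne hw
  rw [← form_comm h2] at hz
  refine ⟨(x / sympForm k F z w) • z, ?_⟩
  show psi h2 (sympForm k F ((x / sympForm k F z w) • z) w) ≠ 1
  rwa [form_smul_left, div_mul_cancel₀ _ hz]

theorem count_class (u0 : Fin k ⊕ Fin k → F) :
    Fintype.card F ^ k * (Fintype.card F ^ k - 1) ≤
      2 * (Finset.univ.filter fun u : Fin k ⊕ Fin k → F => psi h2 (R0 u) = psi h2 (R0 u0)).card := by
  obtain ⟨S, hS⟩ : ∃ S, S = ∑ u : Fin k ⊕ Fin k → F, psi h2 (R0 u) := ⟨_, rfl⟩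
  obtain ⟨Q, hQ⟩ : ∃ Q : ℕ, Q = Fintype.card F ^ k := ⟨_, rfl⟩
  have hSS : S * S = (Q : ℂ) ^ 2 := by
    have hterm : ∀ u w : Fin k ⊕ Fin k → F, psi h2 (R0 u) * psi h2 (R0 (u + w)) =
        psi h2 (R0 w) * psi h2 (sympForm k F u w) := fun u w => by
      rw [← AddChar.map_add_eq_mul, ← AddChar.map_add_eq_mul]
      congr 1
      rw [R0_add h2]
      linear_combination (R0 u) * h2
    calc S * S = ∑ u, ∑ w : Fin k ⊕ Fin k → F, psi h2 (R0 u) * psi h2 (R0 (u + w)) := by
          rw [hS, Finset.sum_mul]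
          refine Finset.sum_congr rfl fun u _ => ?_
          rw [Finset.mul_sum]
          exact (Fintype.sum_equiv (Equiv.addLeft u) _ _ fun _ => rfl).symm
      _ = (Q : ℂ) ^ 2 := by
          rw [Finset.sum_comm]
          simp only [hterm, ← Finset.mul_sum, sum_psi_form h2, mul_ite, mul_zero, Finset.sum_ite_eq',
            Finset.mem_univ, if_true]
          rw [show R0 (0 : Fin k ⊕ Fin k → F) = 0 by simp [R0], AddChar.map_zero_eq_one, one_mul, hQ,
            Nat.cast_pow, ← pow_mul, mul_comm k 2]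
  obtain ⟨N, hN⟩ : ∃ N, N = (Finset.univ.filter fun u : Fin k ⊕ Fin k → F => psi h2 (R0 u) = psi h2 (R0 u0)).card := ⟨_, rfl⟩
  have hpair : ∀ u : Fin k ⊕ Fin k → F, (1 : ℂ) + psi h2 (R0 u0) * psi h2 (R0 u) =
      2 * if psi h2 (R0 u) = psi h2 (R0 u0) then 1 else 0 := fun u => by
    rcases psi_cases h2 (R0 u) with a | a <;> rcases psi_cases h2 (R0 u0) with b | b <;> rw [a, b] <;>
      norm_num
  have h1 := Finset.sum_congr rfl fun u (_ : u ∈ Finset.univ) => hpair u
  rw [Finset.sum_add_distrib, ← Finset.mul_sum, ← Finset.mul_sum, ← hS, Finset.sum_boole, ← hN,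
    Finset.sum_const, Finset.card_univ, Fintype.card_fun, Fintype.card_sum, Fintype.card_fin, nsmul_eq_mul,
    mul_one, pow_add, ← hQ] at h1
  have hQ1 : 1 ≤ Q := hQ ▸ Nat.one_le_pow _ _ Fintype.card_pos
  rw [← hN, ← hQ]
  have h' : (Q * Q + Q : ℕ) = 2 * N ∨ (Q * Q : ℕ) = 2 * N + Q := by
    have hS' : psi h2 (R0 u0) * S = Q ∨ psi h2 (R0 u0) * S = -(Q : ℂ) := by
      have : (psi h2 (R0 u0) * S) * (psi h2 (R0 u0) * S) = (Q : ℂ) * Q := by
        rcases psi_cases h2 (R0 u0) with b | b <;> rw [b] <;> linear_combination hSS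
      exact mul_self_eq_mul_self_iff.1 this
    push_cast at h1
    rcases hS' with e | e
    · refine Or.inl ?_
      have : ((Q * Q + Q : ℕ) : ℂ) = ((2 * N : ℕ) : ℂ) := by push_cast; linear_combination h1 - e
      exact_mod_cast this
    · refine Or.inr ?_
      have : ((Q * Q : ℕ) : ℂ) = ((2 * N + Q : ℕ) : ℂ) := by push_cast; linear_combination h1 - e
      exact_mod_cast this
  rw [Nat.mul_sub_one]
  rcases h' with e | e <;> omega

/-! ### The decomposition -/

variable {V : Type*} [AddCommGroup V] [Module ℂ V] [FiniteDimensional ℂ V]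
variable (ρ : Representation ℂ (symplecticGroup (Fin n) F) V)

/-- The eigenspace projections of the root group. -/
noncomputable def EZ (s : F) : Module.End ℂ V :=
  (Fintype.card F : ℂ)⁻¹ • ∑ l : F, psi h2 (s * l) • ρ (T (e0 h) l)

/-- The projection attached to a quadratic form. -/
noncomputable def PR (u : Fin k ⊕ Fin k → F) : Module.End ℂ V :=
  ((Fintype.card F : ℂ) ^ (2 * k + 1))⁻¹ •
    ∑ p : (Fin k ⊕ Fin k → F) × F, psi h2 (p.2 + Ru u p.1) • ρ (qq h p.1 p.2)

theorem q_ne : (Fintype.card F : ℂ) ≠ 0 := Nat.cast_ne_zero.2 Fintype.card_ne_zero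

theorem psi_self (x : F) : psi h2 x * psi h2 x = 1 := by
  rcases psi_cases h2 x with e | e <;> rw [e] <;> norm_num

theorem trace_rho (g : symplecticGroup (Fin n) F) : LinearMap.trace ℂ V (ρ g) = ρ.character g := rfl

theorem T_mul_EZ (s l : F) : ρ (T (e0 h) l) * EZ h h2 ρ s = psi h2 (s * l) • EZ h h2 ρ s := by
  simp only [EZ, mul_smul_comm, Finset.mul_sum, Finset.smul_sum, smul_smul, ← map_mul, T_add]
  refine Fintype.sum_equiv (Equiv.addLeft l) _ _ fun x => ?_
  simp only [Equiv.coe_addLeft]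
  congr 1
  rw [mul_add s l x, AddChar.map_add_eq_mul]
  linear_combination (-((Fintype.card F : ℂ)⁻¹ * psi h2 (s * x))) * psi_self h2 (s * l)

theorem EZ_mul (s t : F) : EZ h h2 ρ s * EZ h h2 ρ t = if s = t then EZ h h2 ρ s else 0 := by
  nth_rewrite 1 [EZ]
  rw [smul_mul_assoc, Finset.sum_mul]
  simp only [smul_mul_assoc, T_mul_EZ, smul_smul, ← Finset.sum_smul, ← AddChar.map_add_eq_mul]
  have hs : ∀ l : F, s * l + t * l = (s + t) * l := fun l => by ring
  simp only [hs]
  by_cases hst : s = t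
  · subst hst
    rw [if_pos rfl, show s + s = 0 by linear_combination s * h2]
    simp [q_ne h2]
  · rw [if_neg hst]
    have hne : s + t ≠ 0 := fun h0 => hst (by linear_combination h0 - t * h2)
    let φ : AddChar F ℂ := (psi h2).compAddMonoidHom (AddMonoidHom.mulLeft (s + t))
    have : ∑ l : F, psi h2 ((s + t) * l) = 0 := by
      refine AddChar.sum_eq_zero_of_ne_one (ψ := φ) (AddChar.ne_one_iff.2 ?_)
      obtain ⟨x, hx⟩ := AddChar.ne_one_iff.1 (psi_ne h2)
      exact ⟨(s + t)⁻¹ * x, by show psi h2 ((s + t) * ((s + t)⁻¹ * x)) ≠ 1; rwa [mul_inv_cancel_left₀ hne]⟩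
    rw [this, mul_zero, zero_smul]

theorem sum_psi_mul (x : F) : ∑ l : F, psi h2 (l * x) = if x = 0 then (Fintype.card F : ℂ) else 0 := by
  by_cases hx : x = 0
  · subst hx; simp
  rw [if_neg hx]
  let φ : AddChar F ℂ := (psi h2).compAddMonoidHom (AddMonoidHom.mulRight x)
  refine AddChar.sum_eq_zero_of_ne_one (ψ := φ) (AddChar.ne_one_iff.2 ?_)
  obtain ⟨y, hy⟩ := AddChar.ne_one_iff.1 (psi_ne h2)
  exact ⟨y * x⁻¹, by show psi h2 (y * x⁻¹ * x) ≠ 1; rwa [inv_mul_cancel_right₀ hx]⟩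

theorem sum_EZ : ∑ s : F, EZ h h2 ρ s = 1 := by
  simp only [EZ, ← Finset.smul_sum]
  rw [Finset.sum_comm]
  simp only [← Finset.sum_smul, sum_psi_mul h2, ite_smul, zero_smul, Finset.sum_ite_eq', Finset.mem_univ,
    if_true, T_zero, map_one, smul_smul, inv_mul_cancel₀ (q_ne h2), one_smul]

theorem char_T {v : Fin n ⊕ Fin n → F} {c : F} (hv : v ≠ 0) (hc : c ≠ 0) :
    ρ.character (T v c) = ρ.character (T (e0 h) 1) := by
  obtain ⟨u, hu⟩ := isConj_iff.1 (T_isConj h2 hv (e0_ne h) hc one_ne_zero)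
  rw [← hu, ρ.char_conj]

/-- The dimension of the fixed space of the root group. -/
noncomputable def fdim : ℕ := Module.finrank ℂ (LinearMap.range (EZ h h2 ρ 0))

/-- The dimension of each nontrivial eigenspace. -/
noncomputable def Mdim : ℕ := Module.finrank ℂ (LinearMap.range (EZ h h2 ρ 1))

theorem trace_EZ_rank (s : F) :
    LinearMap.trace ℂ V (EZ h h2 ρ s) = (Module.finrank ℂ (LinearMap.range (EZ h h2 ρ s)) : ℂ) :=
  MinDeg.trace_idem _ (by rw [EZ_mul, if_pos rfl])

theorem trace_EZ (s : F) : LinearMap.trace ℂ V (EZ h h2 ρ s) * (Fintype.card F : ℂ) =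
    (Module.finrank ℂ V : ℂ) - ρ.character (T (e0 h) 1) +
      (if s = 0 then (Fintype.card F : ℂ) * ρ.character (T (e0 h) 1) else 0) := by
  rw [EZ, map_smul, map_sum, smul_eq_mul, mul_comm, ← mul_assoc, mul_inv_cancel₀ (q_ne h2), one_mul]
  simp only [map_smul, smul_eq_mul]
  change (∑ l : F, psi h2 (s * l) * ρ.character (T (e0 h) l)) = _
  have hv : ∀ l : F, psi h2 (s * l) * ρ.character (T (e0 h) l) = psi h2 (l * s) * ρ.character (T (e0 h) 1) +
      if l = 0 then (Module.finrank ℂ V : ℂ) - ρ.character (T (e0 h) 1) else 0 := fun l => by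
    by_cases hl : l = 0
    · subst hl
      simp [T_zero]
    · rw [if_neg hl, add_zero, char_T h h2 ρ (e0_ne h) hl, mul_comm s l]
  simp only [hv, Finset.sum_add_distrib, ← Finset.sum_mul, sum_psi_mul h2, Finset.sum_ite_eq',
    Finset.mem_univ, if_true]
  split_ifs <;> ring

theorem char_eq : ρ.character (T (e0 h) 1) = (fdim h h2 ρ : ℂ) - Mdim h h2 ρ := by
  have a := trace_EZ h h2 ρ 0
  have b := trace_EZ h h2 ρ 1
  rw [trace_EZ_rank, if_pos rfl] at a
  rw [trace_EZ_rank, if_neg one_ne_zero, add_zero] at b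
  refine mul_left_cancel₀ (q_ne h2 (F := F)) ?_
  rw [fdim, Mdim]
  linear_combination b - a

theorem finrank_eq : Module.finrank ℂ V = fdim h h2 ρ + (Fintype.card F - 1) * Mdim h h2 ρ := by
  have hrank : ∀ s : F, s ≠ 0 → Module.finrank ℂ (LinearMap.range (EZ h h2 ρ s)) = Mdim h h2 ρ := fun s hs => by
    have a := trace_EZ h h2 ρ s
    have b := trace_EZ h h2 ρ 1
    rw [trace_EZ_rank, if_neg hs] at a
    rw [trace_EZ_rank, if_neg one_ne_zero, ← a] at b
    exact_mod_cast (mul_right_cancel₀ (q_ne h2 (F := F)) b).symm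
  have hh := congrArg (LinearMap.trace ℂ V) (sum_EZ h h2 ρ)
  rw [map_sum, LinearMap.trace_one] at hh
  simp only [trace_EZ_rank] at hh
  have h' : ∑ s : F, Module.finrank ℂ (LinearMap.range (EZ h h2 ρ s)) = Module.finrank ℂ V := by
    exact_mod_cast hh
  rw [← Finset.sum_erase_add _ _ (Finset.mem_univ (0 : F)),
    Finset.sum_congr rfl (fun s hs => hrank s (Finset.ne_of_mem_erase hs)), Finset.sum_const,
    Finset.card_erase_of_mem (Finset.mem_univ _), Finset.card_univ, smul_eq_mul] at h'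
  rw [fdim]
  omega

theorem Mdim_ne (hne : ∃ g, ρ g ≠ 1) : Mdim h h2 ρ ≠ 0 := by
  intro h0
  have hD := finrank_eq h h2 ρ
  have hc := char_eq h h2 ρ
  rw [h0, mul_zero, add_zero] at hD
  rw [h0, Nat.cast_zero, sub_zero, ← hD] at hc
  have hz : ∀ s : F, s ≠ 0 → EZ h h2 ρ s = 0 := fun s hs => by
    have a := trace_EZ h h2 ρ s
    rw [trace_EZ_rank, if_neg hs, hc, sub_self, add_zero] at a
    have : (Module.finrank ℂ (LinearMap.range (EZ h h2 ρ s)) : ℂ) = 0 :=
      (mul_eq_zero.1 a).resolve_right (q_ne h2)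
    exact LinearMap.range_eq_bot.1 (Submodule.finrank_eq_zero.1 (by exact_mod_cast this))
  have he : EZ h h2 ρ 0 = 1 := by
    rw [← sum_EZ h h2 ρ]
    exact (Finset.sum_eq_single (0 : F) (fun s _ hs => hz s hs) fun h => absurd (Finset.mem_univ _) h).symm
  have hT : ρ (T (e0 h) 1) = 1 := by
    have := T_mul_EZ h h2 ρ 0 1
    rwa [he, mul_one, zero_mul, AddChar.map_zero_eq_one, one_smul] at this
  obtain ⟨g, hg⟩ := hne
  have ht := eq_top_of_T h2 (MonoidHom.ker ρ) (e0_ne h) hT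
  exact hg (MonoidHom.mem_ker.1 (ht ▸ Subgroup.mem_top g : g ∈ MonoidHom.ker ρ))

theorem qq_mul_PR (u b : Fin k ⊕ Fin k → F) (l : F) :
    ρ (qq h b l) * PR h h2 ρ u = psi h2 (l + Ru u b) • PR h h2 ρ u := by
  simp only [PR, mul_smul_comm, Finset.mul_sum, Finset.smul_sum, smul_smul, ← map_mul, qq_mul h h2]
  let φ : (Fin k ⊕ Fin k → F) × F → (Fin k ⊕ Fin k → F) × F :=
    fun p => (b + p.1, l + p.2 + sympForm k F b p.1)
  have hφ : Function.Bijective φ := Finite.injective_iff_bijective.1 fun p p' hp => by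
    obtain ⟨h1, h2'⟩ := Prod.mk.inj hp
    have h1' := add_left_cancel h1
    rw [h1'] at h2'
    exact Prod.ext h1' (add_left_cancel (add_right_cancel h2'))
  refine Fintype.sum_equiv (Equiv.ofBijective φ hφ) _ _ fun p => ?_
  simp only [Equiv.ofBijective_apply, φ]
  congr 1
  rw [show l + p.2 + sympForm k F b p.1 + Ru u (b + p.1) = (l + Ru u b) + (p.2 + Ru u p.1) by
    rw [Ru_add h2]; linear_combination (sympForm k F b p.1) * h2, AddChar.map_add_eq_mul (psi h2) (l + Ru u b)]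
  linear_combination (-(((Fintype.card F : ℂ) ^ (2 * k + 1))⁻¹ * psi h2 (p.2 + Ru u p.1))) *
    psi_self h2 (l + Ru u b)

theorem PR_mul (u u' : Fin k ⊕ Fin k → F) :
    PR h h2 ρ u * PR h h2 ρ u' = if u = u' then PR h h2 ρ u else 0 := by
  nth_rewrite 1 [PR]
  rw [smul_mul_assoc, Finset.sum_mul]
  simp only [smul_mul_assoc, qq_mul_PR, smul_smul, ← Finset.sum_smul, ← AddChar.map_add_eq_mul]
  have hs : ∀ p : (Fin k ⊕ Fin k → F) × F,
      psi h2 (p.2 + Ru u p.1 + (p.2 + Ru u' p.1)) = psi h2 (sympForm k F p.1 (u + u')) := fun p => by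
    rw [← psi_sq h2 (sympForm k F p.1 (u + u')), form_add_right]
    congr 1
    simp only [Ru]
    linear_combination (p.2 + R0 p.1 - sympForm k F p.1 u * sympForm k F p.1 u') * h2
  simp only [hs, Fintype.sum_prod_type, Finset.sum_const, Finset.card_univ, nsmul_eq_mul, ← Finset.mul_sum,
    sum_psi_form h2]
  by_cases huu : u = u'
  · subst huu
    rw [if_pos (show u + u = 0 from funext fun i => by
      show u i + u i = 0
      linear_combination (u i) * h2), if_pos rfl]
    rw [← pow_succ', show 2 * k + 1 = 2 * k + 1 from rfl, inv_mul_cancel₀ (pow_ne_zero _ (q_ne h2)), one_smul]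
  · rw [if_neg huu, if_neg (fun h0 => huu (funext fun i => by
      have := congrFun h0 i
      simp only [Pi.add_apply, Pi.zero_apply] at this
      linear_combination this - (u' i) * h2)), mul_zero, mul_zero, zero_smul]

theorem sum_PR : ∑ u : Fin k ⊕ Fin k → F, PR h h2 ρ u = EZ h h2 ρ 1 := by
  simp only [PR, ← Finset.smul_sum]
  rw [Finset.sum_comm, Fintype.sum_prod_type]
  simp only [← Finset.sum_smul]
  have hs : ∀ (a : Fin k ⊕ Fin k → F) (l : F), ∑ u, psi h2 (l + Ru u a) =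
      psi h2 (l + R0 a) * if a = 0 then (Fintype.card F : ℂ) ^ (2 * k) else 0 := fun a l => by
    rw [← sum_psi_form h2 a, Finset.mul_sum]
    refine Finset.sum_congr rfl fun u _ => ?_
    rw [← psi_sq h2 (sympForm k F u a), ← AddChar.map_add_eq_mul, form_comm h2 a u, Ru, add_assoc]
  simp only [hs, mul_ite, mul_zero, ite_smul, zero_smul]
  rw [Finset.sum_comm]
  simp only [Finset.sum_ite_eq', Finset.mem_univ, if_true, qq_zero_left h h2,
    show R0 (0 : Fin k ⊕ Fin k → F) = 0 by simp [R0], add_zero]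
  rw [EZ, Finset.smul_sum, Finset.smul_sum]
  refine Finset.sum_congr rfl fun l _ => ?_
  rw [one_mul, smul_smul, smul_smul, pow_succ]
  congr 1
  field_simp [q_ne h2]

theorem T_comm_PR (v u : Fin k ⊕ Fin k → F) {μ γ : F} (hγ : γ ^ 2 = μ ^ 2 * Ru u v + μ) :
    ρ (T (lft h v) μ) * PR h h2 ρ (u + γ • v) = PR h h2 ρ u * ρ (T (lft h v) μ) := by
  simp only [PR, mul_smul_comm, smul_mul_assoc, Finset.mul_sum, Finset.sum_mul, ← map_mul, ← emb_T h v μ,
    emb_qq h h2]
  congr 1
  let φ : (Fin k ⊕ Fin k → F) × F → (Fin k ⊕ Fin k → F) × F := fun p => ((T v μ).1 *ᵥ p.1, p.2)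
  have hφ : Function.Bijective φ := Finite.injective_iff_bijective.1 fun p p' hp => by
    obtain ⟨h1, h2'⟩ := Prod.mk.inj hp
    refine Prod.ext ?_ h2'
    have h3 := congrArg (fun x => ((T v μ)⁻¹).1 *ᵥ x) h1
    simp only [Matrix.mulVec_mulVec, ← Submonoid.coe_mul, inv_mul_cancel, OneMemClass.coe_one,
      Matrix.one_mulVec] at h3
    exact h3
  refine Fintype.sum_equiv (Equiv.ofBijective φ hφ) _ _ fun p => ?_
  simp only [Equiv.ofBijective_apply, φ, Ru_T h2 u v p.1 hγ]

theorem trace_PR_eq (u w : Fin k ⊕ Fin k → F) (hw : psi h2 (R0 (u + w)) = psi h2 (R0 u)) :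
    LinearMap.trace ℂ V (PR h h2 ρ (u + w)) = LinearMap.trace ℂ V (PR h h2 ρ u) := by
  obtain ⟨y, hy⟩ : Ru u w ∈ (artin h2).range := by
    refine (psi_mem h2).1 ?_
    rw [Ru, AddChar.map_add_eq_mul, psi_sq]
    have h' := hw
    rw [R0_add h2, AddChar.map_add_eq_mul, AddChar.map_add_eq_mul, form_comm h2 w u] at h'
    rcases psi_cases h2 (R0 u) with e | e <;> rw [e] at h'
    · linear_combination h'
    · linear_combination -h'
  have hy' : y ^ 2 + y = Ru u w := hy
  have hγ : ∃ μ : F, (1 : F) ^ 2 = μ ^ 2 * Ru u w + μ := by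
    by_cases hr : Ru u w = 0
    · exact ⟨1, by rw [hr]; ring⟩
    · refine ⟨y / Ru u w, ?_⟩
      field_simp
      linear_combination (-1 : F) * hy'
  obtain ⟨μ, hμ⟩ := hγ
  have hc := T_comm_PR h h2 ρ w u hμ
  rw [one_smul] at hc
  have h3 := congrArg (fun X => LinearMap.trace ℂ V (ρ (T (lft h w) μ)⁻¹ * X)) hc
  simp only [← mul_assoc, ← map_mul, inv_mul_cancel, map_one, one_mul] at h3
  rw [h3, LinearMap.trace_mul_comm, ← mul_assoc, ← map_mul, mul_inv_cancel, map_one, one_mul]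

theorem Mdim_bound (hne : ∃ g, ρ g ≠ 1) :
    Fintype.card F ^ k * (Fintype.card F ^ k - 1) ≤ 2 * Mdim h h2 ρ := by
  have hidem : ∀ u, LinearMap.trace ℂ V (PR h h2 ρ u) = (Module.finrank ℂ (LinearMap.range (PR h h2 ρ u)) : ℂ) :=
    fun u => MinDeg.trace_idem _ (by rw [PR_mul, if_pos rfl])
  have hM : ∑ u : Fin k ⊕ Fin k → F, Module.finrank ℂ (LinearMap.range (PR h h2 ρ u)) = Mdim h h2 ρ := by
    have := congrArg (LinearMap.trace ℂ V) (sum_PR h h2 ρ)
    rw [map_sum, trace_EZ_rank] at this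
    simp only [hidem] at this
    exact_mod_cast this
  obtain ⟨u0, hu0⟩ : ∃ u, Module.finrank ℂ (LinearMap.range (PR h h2 ρ u)) ≠ 0 := by
    by_contra! hz
    exact Mdim_ne h h2 ρ hne (hM ▸ Finset.sum_eq_zero fun u _ => hz u)
  refine (count_class h2 u0).trans (Nat.mul_le_mul_left 2 ?_)
  rw [← hM, Finset.card_eq_sum_ones]
  refine le_trans (Finset.sum_le_sum fun u hu => ?_) (Finset.sum_le_univ_sum_of_nonneg (by simp))
  obtain ⟨w, rfl⟩ : ∃ w, u = u0 + w := ⟨u - u0, (add_sub_cancel _ _).symm⟩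
  have h1 := trace_PR_eq h h2 ρ u0 w (Finset.mem_filter.1 hu).2
  rw [hidem, hidem] at h1
  have h1' : Module.finrank ℂ (LinearMap.range (PR h h2 ρ (u0 + w))) =
      Module.finrank ℂ (LinearMap.range (PR h h2 ρ u0)) := by exact_mod_cast h1
  omega

theorem emb_comm_EZ (A : symplecticGroup (Fin k) F) (s : F) :
    ρ (emb h A) * EZ h h2 ρ s = EZ h h2 ρ s * ρ (emb h A) := by
  simp only [EZ, mul_smul_comm, smul_mul_assoc, Finset.mul_sum, Finset.sum_mul, ← map_mul, conj_T, emb_e0]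

/-- The fixed space of the root group as a representation of the Levi factor. -/
noncomputable def sub : Representation ℂ (symplecticGroup (Fin k) F) ↥(LinearMap.range (EZ h h2 ρ 0)) where
  toFun A := (ρ (emb h A)).restrict (p := LinearMap.range (EZ h h2 ρ 0)) (q := LinearMap.range (EZ h h2 ρ 0)) (by
    rintro _ ⟨y, rfl⟩
    exact ⟨ρ (emb h A) y, (LinearMap.congr_fun (emb_comm_EZ h h2 ρ A 0) y).symm⟩)
  map_one' := LinearMap.ext fun v => Subtype.ext (by simp [LinearMap.restrict_apply])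
  map_mul' a b := LinearMap.ext fun v => Subtype.ext (by simp [LinearMap.restrict_apply])

theorem sub_nontrivial (hk : 2 ≤ k) (hne : ∃ g, ρ g ≠ 1) : ∃ A, sub h h2 ρ A ≠ 1 := by
  by_contra! hall
  obtain ⟨u0, hu0⟩ : ∃ u, PR h h2 ρ u ≠ 0 := by
    by_contra! hz
    refine Mdim_ne h h2 ρ hne ?_
    rw [Mdim, ← sum_PR h h2 ρ, Finset.sum_eq_zero fun u _ => hz u, Submodule.finrank_eq_zero,
      LinearMap.range_eq_bot]
  -- a singular vector of the form
  obtain ⟨v, hv0, hv⟩ : ∃ v : Fin k ⊕ Fin k → F, v ≠ 0 ∧ Ru u0 v = 0 := by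
    let v1 : Fin k ⊕ Fin k → F := Pi.single (.inl ⟨0, by omega⟩) 1
    let v2 : Fin k ⊕ Fin k → F := Pi.single (.inl ⟨1, by omega⟩) 1
    have h12 : sympForm k F v1 v2 = 0 := by simp [v1, v2, Lead.Symp.form_eq, Pi.single_apply]
    by_cases hr : Ru u0 v1 = 0
    · exact ⟨v1, Pi.single_ne_zero_iff.2 one_ne_zero, hr⟩
    obtain ⟨a, ha⟩ := exists_sq h2 (Ru u0 v2 / Ru u0 v1)
    refine ⟨a • v1 + v2, fun h0 => ?_, ?_⟩
    · have := congrFun h0 (.inl ⟨1, by omega⟩)
      simp [v1, v2, Fin.ext_iff] at this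
    · rw [Ru_add h2, Ru_smul h2, form_smul_left, h12, ha, mul_zero, add_zero, div_mul_cancel₀ _ hr]
      linear_combination (Ru u0 v2) * h2
  have hl0 : lft h v ≠ 0 := fun h0 => hv0 (funext fun i => by
    have := congrFun h0 (spIndex h (.inr i))
    simpa [lft, cmb] using this)
  obtain ⟨Y, hY⟩ : ∃ Y, Y = 1 - EZ h h2 ρ 0 := ⟨_, rfl⟩
  have hE0 : ∀ μ, ρ (T (lft h v) μ) * EZ h h2 ρ 0 = EZ h h2 ρ 0 := fun μ => LinearMap.ext fun y => by
    have h1 := congrArg Subtype.val (LinearMap.congr_fun (hall (T v μ)) ⟨_, LinearMap.mem_range_self _ y⟩)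
    rw [← emb_T]
    exact h1
  have hTE : ∀ μ, ρ (T (lft h v) μ) * EZ h h2 ρ 0 = EZ h h2 ρ 0 * ρ (T (lft h v) μ) := fun μ => by
    rw [← emb_T]; exact emb_comm_EZ h h2 ρ _ 0
  obtain ⟨A, hA⟩ : ∃ A, A = (Fintype.card F : ℂ)⁻¹ • ∑ μ : F, ρ (T (lft h v) μ) * Y := ⟨_, rfl⟩
  have hYY : Y * Y = Y := by
    have : EZ h h2 ρ 0 * EZ h h2 ρ 0 = EZ h h2 ρ 0 := by rw [EZ_mul, if_pos rfl]
    rw [hY, sub_mul, one_mul, mul_sub, mul_one, this, sub_self, sub_zero]
  have hTY : ∀ μ, ρ (T (lft h v) μ) * Y = Y * ρ (T (lft h v) μ) := fun μ => by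
    rw [hY, mul_sub, sub_mul, mul_one, one_mul, hTE]
  have hmulA : ∀ μ, ρ (T (lft h v) μ) * Y * A = A := fun μ => by
    rw [hA, mul_smul_comm, Finset.mul_sum]
    congr 1
    refine Fintype.sum_equiv (Equiv.addLeft μ) _ _ fun l => ?_
    rw [Equiv.coe_addLeft, hTY μ, ← mul_assoc, mul_assoc Y, ← map_mul, T_add, ← hTY, mul_assoc, hYY]
  have hAA : A * A = A := by
    nth_rewrite 1 [hA]
    simp only [smul_mul_assoc, Finset.sum_mul, hmulA, Finset.sum_const, Finset.card_univ,
      ← Nat.cast_smul_eq_nsmul ℂ, smul_smul, inv_mul_cancel₀ (q_ne h2), one_smul]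
  have hval : ∀ μ : F, μ ≠ 0 →
      LinearMap.trace ℂ V (ρ (T (lft h v) μ) * Y) = -(Mdim h h2 ρ : ℂ) := fun μ hμ => by
    rw [hY, mul_sub, mul_one, hE0, map_sub, trace_rho h2, char_T h h2 ρ hl0 hμ, char_eq h h2, trace_EZ_rank h h2]
    show (fdim h h2 ρ : ℂ) - (Mdim h h2 ρ : ℂ) - (fdim h h2 ρ : ℂ) = _
    ring
  have htr : LinearMap.trace ℂ V A = 0 := by
    rw [hA, map_smul, map_sum, ← Finset.sum_erase_add _ _ (Finset.mem_univ (0 : F)),
      Finset.sum_congr rfl (fun μ hμ => hval μ (Finset.ne_of_mem_erase hμ)), Finset.sum_const,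
      Finset.card_erase_of_mem (Finset.mem_univ _), Finset.card_univ, T_zero, map_one, one_mul, hY, map_sub,
      LinearMap.trace_one, trace_EZ_rank, finrank_eq h h2 ρ, nsmul_eq_mul, Nat.cast_sub Fintype.card_pos]
    show _ • (_ + ((_ : ℂ) - (fdim h h2 ρ : ℂ))) = 0
    push_cast [Nat.cast_sub (show 1 ≤ Fintype.card F from Fintype.card_pos)]
    ring_nf
  have hA0 : A = 0 := by
    rw [MinDeg.trace_idem A hAA] at htr
    exact LinearMap.range_eq_bot.1 (Submodule.finrank_eq_zero.1 (by exact_mod_cast htr))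
  refine hu0 ?_
  have hPY : Y * PR h h2 ρ u0 = PR h h2 ρ u0 := by
    have h1 : EZ h h2 ρ 0 * PR h h2 ρ u0 = 0 := by
      have h0 : EZ h h2 ρ 1 * PR h h2 ρ u0 = PR h h2 ρ u0 := by
        rw [← sum_PR h h2 ρ, Finset.sum_mul]
        simp [PR_mul]
      rw [← h0, ← mul_assoc, EZ_mul, if_neg zero_ne_one, zero_mul]
    rw [hY, sub_mul, one_mul, h1, sub_zero]
  have hprod : ∀ μ : F, PR h h2 ρ u0 * (ρ (T (lft h v) μ) * Y) * PR h h2 ρ u0 =
      if μ = 0 then PR h h2 ρ u0 else 0 := fun μ => by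
    rw [mul_assoc, mul_assoc (ρ _), hPY, ← mul_assoc]
    by_cases hμ : μ = 0
    · subst hμ
      rw [if_pos rfl, T_zero, map_one, mul_one, PR_mul, if_pos rfl]
    · obtain ⟨γ, hγ⟩ := exists_sq h2 μ
      have hγ' : γ ^ 2 = μ ^ 2 * Ru u0 v + μ := by rw [hv, hγ]; ring
      rw [← T_comm_PR h h2 ρ v u0 hγ', mul_assoc, PR_mul, if_neg, mul_zero, if_neg hμ]
      intro he
      have : γ • v = 0 := add_left_cancel (a := u0) (by rw [he, add_zero])
      rcases smul_eq_zero.1 this with hz | hz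
      · exact hμ (by rw [← hγ, hz, zero_pow two_ne_zero])
      · exact hv0 hz
  have hfinal : (Fintype.card F : ℂ)⁻¹ • PR h h2 ρ u0 = PR h h2 ρ u0 * A * PR h h2 ρ u0 := by
    rw [hA, mul_smul_comm, smul_mul_assoc, Finset.mul_sum, Finset.sum_mul]
    simp only [hprod, Finset.sum_ite_eq', Finset.mem_univ, if_true]
  rw [hA0, mul_zero, zero_mul] at hfinal
  exact (smul_eq_zero.1 hfinal).resolve_left (inv_ne_zero (q_ne h2))

omit h2 in
theorem arith (q k : ℕ) (hq : 1 ≤ q) :
    (q ^ (k + 1) - 1) * (q ^ (k + 1) - q) =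
      (q ^ k - 1) * (q ^ k - q) + (q + 1) * (q - 1) * (q ^ k * (q ^ k - 1)) := by
  rcases Nat.eq_zero_or_pos k with rfl | hk
  · simp
  obtain ⟨p, rfl⟩ : ∃ p, q = p + 1 := ⟨q - 1, by omega⟩
  obtain ⟨j, rfl⟩ : ∃ j, k = j + 1 := ⟨k - 1, by omega⟩
  obtain ⟨X, hX⟩ : ∃ X, (p + 1) ^ j = X + 1 := ⟨(p + 1) ^ j - 1, by
    have := Nat.one_le_pow j (p + 1) (by omega); omega⟩
  have e1 : (p + 1) ^ (j + 1) = (X + 1) * (p + 1) := by rw [pow_succ, hX]
  have e2 : (p + 1) ^ (j + 1 + 1) = (X + 1) * (p + 1) * (p + 1) := by rw [pow_succ, e1]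
  rw [e2, e1, Nat.add_sub_cancel]
  have f1 : (X + 1) * (p + 1) - 1 = X * p + X + p := by
    rw [show (X + 1) * (p + 1) = X * p + X + p + 1 by ring]; rfl
  have f2 : (X + 1) * (p + 1) - (p + 1) = X * (p + 1) := by
    rw [show (X + 1) * (p + 1) = X * (p + 1) + (p + 1) by ring, Nat.add_sub_cancel]
  have f3 : (X + 1) * (p + 1) * (p + 1) - 1 = (X * p + X + p) * (p + 1) + p := by
    rw [show (X + 1) * (p + 1) * (p + 1) = (X * p + X + p) * (p + 1) + p + 1 by ring, Nat.add_sub_cancel]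
  have f4 : (X + 1) * (p + 1) * (p + 1) - (p + 1) = (X * p + X + p) * (p + 1) := by
    rw [show (X + 1) * (p + 1) * (p + 1) = (X * p + X + p) * (p + 1) + (p + 1) by ring, Nat.add_sub_cancel]
  rw [f1, f2, f3, f4]
  ring

omit h2 in
/-- Nontrivial representations of `Sp_{2n}(q)`, `q` even. -/
theorem bound (h2 : (2 : F) = 0) : ∀ (n : ℕ), 1 ≤ n → ∀ (V : Type) [AddCommGroup V] [Module ℂ V]
    [FiniteDimensional ℂ V] (ρ : Representation ℂ (symplecticGroup (Fin n) F) V), (∃ g, ρ g ≠ 1) →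
    (Fintype.card F ^ n - 1) * (Fintype.card F ^ n - Fintype.card F) ≤
      2 * (Fintype.card F + 1) * Module.finrank ℂ V := by
  intro n
  induction n with
  | zero => intro hn; omega
  | succ k ih =>
    intro _ V _ _ _ ρ hne
    have h : 1 + k = k + 1 := Nat.add_comm 1 k
    have hM := Mdim_bound h h2 ρ hne
    have hD := finrank_eq h h2 ρ
    have hf : (Fintype.card F ^ k - 1) * (Fintype.card F ^ k - Fintype.card F) ≤
        2 * (Fintype.card F + 1) * fdim h h2 ρ := by
      rcases Nat.lt_or_ge k 2 with hk | hk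
      · interval_cases k <;> simp
      · exact ih (by omega) _ (sub h h2 ρ) (sub_nontrivial h h2 ρ hk hne)
    rw [hD, arith _ k Fintype.card_pos, mul_add]
    refine Nat.add_le_add hf ?_
    rw [show 2 * (Fintype.card F + 1) * ((Fintype.card F - 1) * Mdim h h2 ρ) =
      (Fintype.card F + 1) * (Fintype.card F - 1) * (2 * Mdim h h2 ρ) by ring]
    exact Nat.mul_le_mul_left _ hM

end Cfsg.Agent.Small.SpTwo
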