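import Cfsg.Agent.Lib.Classical.SympFrames

/-!
Steinberg's count of the unipotent elements of a finite symplectic group, by counting pairs of a unipotent
element and a totally isotropic subspace fixed pointwise, weighted by the Moebius function.
-/

set_option autoImplicit false
set_option linter.unusedSectionVars false
set_option linter.unusedFintypeInType false
set_option linter.style.haveILetI false

namespace Cfsg.Agent.Small.SpUnipCount

open Module Cfsg.Agent.Classical Cfsg.Agent.Classical.SpCount Cfsg.Agent.Classical.StabSplit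
  Cfsg.Agent.Classical.TSFrames

universe u v

variable {F : Type u} [Field F] {V : Type v} [AddCommGroup V] [Module F V] {B : V →ₗ[F] V →ₗ[F] F}

/-- The group of isometries. -/
abbrev G (B : V →ₗ[F] V →ₗ[F] F) : Subgroup (V ≃ₗ[F] V) := isoF (fun x y => B x y)

/-- Orthogonal space. -/
def perp (B : V →ₗ[F] V →ₗ[F] F) (U : Submodule F V) : Submodule F V :=
  LinearMap.ker (U.subtype.dualMap.comp B)

theorem mem_perp {U : Submodule F V} {x : V} : x ∈ perp B U ↔ ∀ w ∈ U, B x w = 0 := by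
  rw [perp, LinearMap.mem_ker, LinearMap.ext_iff]
  exact ⟨fun h w hw => h ⟨w, hw⟩, fun h w => h w w.2⟩

theorem finrank_perp [FiniteDimensional F V] (hB : IsAltND B) (U : Submodule F V) :
    finrank F (perp B U) + finrank F U = finrank F V := by
  have hinj : Function.Injective B := (injective_iff_map_eq_zero B).2 fun x hx =>
    hB.nondeg x fun w => by rw [hx]; rfl
  have hsurj : Function.Surjective B :=
    (LinearMap.injective_iff_surjective_of_finrank_eq_finrank (Subspace.dual_finrank_eq).symm).1 hinj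
  have hT : LinearMap.range (U.subtype.dualMap.comp B) = ⊤ :=
    LinearMap.range_eq_top.2 ((LinearMap.dualMap_surjective_of_injective U.injective_subtype).comp hsurj)
  have := LinearMap.finrank_range_add_finrank_ker (U.subtype.dualMap.comp B)
  rw [hT, finrank_top, Subspace.dual_finrank_eq] at this
  rw [perp]
  omega

/-- Totally isotropic. -/
def IsTI (B : V →ₗ[F] V →ₗ[F] F) (W : Submodule F V) : Prop := ∀ x ∈ W, ∀ y ∈ W, B x y = 0

/-- The signed weight. -/
def sgn (q w : ℕ) : ℚ := (-1) ^ w * (q : ℚ) ^ (w.choose 2)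

/-- The pointwise stabiliser of a subspace. -/
def fixW (B : V →ₗ[F] V →ₗ[F] F) (W : Submodule F V) : Subgroup ↥(G B) where
  carrier := {g | ∀ x ∈ W, g.1 x = x}
  one_mem' := fun _ _ => rfl
  mul_mem' {g h} hg hh x hx := by
    show g.1 (h.1 x) = x
    rw [hh x hx, hg x hx]
  inv_mem' {g} hg x hx := by
    show g.1.symm x = x
    rw [LinearEquiv.symm_apply_eq]
    exact (hg x hx).symm

theorem iso_apply (g : ↥(G B)) (x y : V) : B (g.1 x) (g.1 y) = B x y := g.2 x y

section Fibre

variable [Finite F]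

theorem card_functionals {X : Type v} [AddCommGroup X] [Module F X] [FiniteDimensional F X] {z : X} (hz : z ≠ 0) :
    Nat.card {φ : Module.Dual F X // φ z = 1} = Nat.card F ^ (finrank F X - 1) := by
  haveI := Fintype.ofFinite F
  have hne : Module.Dual.eval F X z ≠ 0 := fun h => hz ((Module.forall_dual_apply_eq_zero_iff F z).1 fun φ => by
    exact LinearMap.congr_fun h φ)
  have h := SpCount.card_fibre hne 1
  rw [Subspace.dual_finrank_eq, ← Nat.card_eq_fintype_card] at h
  exact h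

/-- The complements of a line. -/
theorem card_compl [FiniteDimensional F V] {X : Submodule F V} {z : V} (hzX : z ∈ X) (hz : z ≠ 0) :
    Nat.card {W : Submodule F V // z ∉ W ∧ W ⊔ Submodule.span F {z} = X} = Nat.card F ^ (finrank F X - 1) := by
  let z' : X := ⟨z, hzX⟩
  have hz' : z' ≠ 0 := fun h => hz (congrArg Subtype.val h)
  rw [← card_functionals hz']
  refine (Nat.card_congr (Equiv.ofBijective (fun φ : {φ : Module.Dual F X // φ z' = 1} =>
    (⟨(LinearMap.ker φ.1).map X.subtype, ?_, ?_⟩ : {W : Submodule F V // z ∉ W ∧ W ⊔ Submodule.span F {z} = X})) ⟨?_, ?_⟩)).symm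
  · rintro ⟨y, hy, hyz⟩
    have : y = z' := Subtype.ext hyz
    subst this
    exact one_ne_zero (φ.2.symm.trans hy)
  · refine le_antisymm (sup_le (Submodule.map_subtype_le _ _) ((Submodule.span_singleton_le_iff_mem _ _).2 hzX))
      fun x hx => ?_
    refine Submodule.mem_sup.2 ⟨x - φ.1 ⟨x, hx⟩ • z, ⟨⟨x, hx⟩ - φ.1 ⟨x, hx⟩ • z', ?_, rfl⟩,
      φ.1 ⟨x, hx⟩ • z, Submodule.smul_mem _ _ (Submodule.mem_span_singleton_self z), sub_add_cancel _ _⟩
    rw [SetLike.mem_coe, LinearMap.mem_ker, map_sub, map_smul, φ.2, smul_eq_mul, mul_one, sub_self]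
  · intro φ ψ h
    refine Subtype.ext (LinearMap.ext fun x => ?_)
    have hker : LinearMap.ker φ.1 = LinearMap.ker ψ.1 :=
      Submodule.map_injective_of_injective X.injective_subtype (congrArg Subtype.val h)
    have hx : x - φ.1 x • z' ∈ LinearMap.ker φ.1 := by
      rw [LinearMap.mem_ker, map_sub, map_smul, φ.2, smul_eq_mul, mul_one, sub_self]
    rw [hker, LinearMap.mem_ker, map_sub, map_smul, ψ.2, smul_eq_mul, mul_one, sub_eq_zero] at hx
    exact hx.symm
  · rintro ⟨W, hzW, hWX⟩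
    have hWle : W ≤ X := hWX ▸ le_sup_left
    obtain ⟨f, hfz, hfW⟩ := Submodule.exists_dual_map_eq_bot_of_notMem hzW inferInstance
    set φ : Module.Dual F X := (f z)⁻¹ • f.comp X.subtype
    have hφ : φ z' = 1 := by simp [φ, z', hfz]
    have hf0 : ∀ w ∈ W, f w = 0 := fun w hw => (Submodule.mem_bot F).1 (hfW ▸ Submodule.mem_map_of_mem hw)
    refine ⟨⟨φ, hφ⟩, Subtype.ext ?_⟩
    show (LinearMap.ker φ).map X.subtype = W
    refine le_antisymm ?_ fun w hw => ⟨⟨w, hWle hw⟩, by simp [φ, hf0 w hw], rfl⟩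
    rintro _ ⟨y, hy, rfl⟩
    obtain ⟨w, hw, c, hc, e⟩ := Submodule.mem_sup.1 (hWX.symm ▸ y.2 : (y : V) ∈ W ⊔ Submodule.span F {z})
    obtain ⟨r, rfl⟩ := Submodule.mem_span_singleton.1 hc
    have : (f z)⁻¹ * f (y : V) = 0 := hy
    rw [← e, map_add, map_smul, hf0 w hw, zero_add, smul_eq_mul, mul_left_comm, inv_mul_cancel₀ hfz, mul_one] at this
    rw [this, zero_smul, add_zero] at e
    rw [X.subtype_apply, ← e]
    exact hw

end Fibre

section Vanish

variable [Finite F] [FiniteDimensional F V]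

open scoped _root_.Classical in
/-- With a radical vector the weighted count of totally isotropic subspaces vanishes. -/
theorem sum_eq_zero [Fintype (Submodule F V)] (hB : IsAltND B) (X0 : Submodule F V) {z : V} (hz : z ≠ 0) (hzX : z ∈ X0)
    (hrad : ∀ x ∈ X0, B z x = 0) :
    ∑ W ∈ Finset.univ.filter (fun W => IsTI B W ∧ W ≤ X0), sgn (Nat.card F) (finrank F W) = 0 := by
  set S := Finset.univ.filter (fun W => IsTI B W ∧ W ≤ X0) with hS
  set L := Submodule.span F {z}
  have hsup : ∀ W ∈ S, W ⊔ L ∈ S := by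
    intro W hW
    rw [hS, Finset.mem_filter] at hW ⊢
    refine ⟨Finset.mem_univ _, ?_, sup_le hW.2.2 ((Submodule.span_singleton_le_iff_mem _ _).2 hzX)⟩
    intro x hx y hy
    obtain ⟨a, ha, _, hc, rfl⟩ := Submodule.mem_sup.1 hx
    obtain ⟨r, rfl⟩ := Submodule.mem_span_singleton.1 hc
    obtain ⟨a', ha', _, hc', rfl⟩ := Submodule.mem_sup.1 hy
    obtain ⟨r', rfl⟩ := Submodule.mem_span_singleton.1 hc'
    simp [hW.2.1 a ha a' ha', hB.self, hrad a' (hW.2.2 ha'), hB.swap a z, hrad a (hW.2.2 ha)]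
  rw [← Finset.sum_fiberwise_of_maps_to (g := fun W => W ⊔ L) hsup]
  refine Finset.sum_eq_zero fun X hX => ?_
  by_cases hzX' : z ∈ X
  swap
  · refine Finset.sum_eq_zero fun W hW => absurd ?_ hzX'
    rw [← (Finset.mem_filter.1 hW).2]
    exact Submodule.mem_sup_right (Submodule.mem_span_singleton_self z)
  have hLX : L ≤ X := (Submodule.span_singleton_le_iff_mem _ _).2 hzX'
  set T := Finset.univ.filter (fun W : Submodule F V => z ∉ W ∧ W ⊔ L = X) with hT
  have hset : S.filter (fun W => W ⊔ L = X) = insert X T := by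
    ext W
    simp only [Finset.mem_filter, Finset.mem_insert, hT, Finset.mem_univ, true_and]
    constructor
    · rintro ⟨-, e⟩
      by_cases h : z ∈ W
      · left
        rw [← e, sup_eq_left.2 ((Submodule.span_singleton_le_iff_mem _ _).2 h)]
      · exact Or.inr ⟨h, e⟩
    · rintro (rfl | ⟨-, e⟩)
      · exact ⟨hX, sup_eq_left.2 hLX⟩
      · have hX' := hX
        rw [hS, Finset.mem_filter] at hX' ⊢
        exact ⟨⟨Finset.mem_univ _, fun x hx y hy => hX'.2.1 x (e ▸ Submodule.mem_sup_left hx) y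
          (e ▸ Submodule.mem_sup_left hy), (e ▸ le_sup_left : W ≤ X).trans hX'.2.2⟩, e⟩
  have hpos : 1 ≤ finrank F X := by
    have := Submodule.finrank_mono hLX
    rwa [finrank_span_singleton hz] at this
  obtain ⟨x, hx⟩ : ∃ x, finrank F X = x + 1 := ⟨finrank F X - 1, by omega⟩
  have hdim : ∀ W ∈ T, finrank F W = x := by
    intro W hW
    obtain ⟨-, hzW, e⟩ := Finset.mem_filter.1 hW
    have h := Submodule.finrank_sup_add_finrank_inf_eq W L
    have hinf : W ⊓ L = ⊥ := by
      rw [Submodule.eq_bot_iff]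
      rintro a ⟨haW, haL⟩
      obtain ⟨r, rfl⟩ := Submodule.mem_span_singleton.1 haL
      by_cases hr : r = 0
      · rw [hr, zero_smul]
      · exact absurd ((Submodule.smul_mem_iff _ hr).1 haW) hzW
    rw [e, hinf, finrank_bot, finrank_span_singleton hz] at h
    omega
  have hTcard : T.card = Nat.card F ^ x := by
    have h := card_compl (F := F) hzX' hz
    rw [hx, Nat.add_sub_cancel, Nat.card_eq_fintype_card, Fintype.card_subtype] at h
    exact h
  rw [hset, Finset.sum_insert (by simp [hT, hzX']), Finset.sum_congr rfl fun W hW => by rw [hdim W hW],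
    Finset.sum_const, hTcard, hx, nsmul_eq_mul, sgn, sgn, Nat.choose_succ_succ' x 1, Nat.choose_one_right, pow_add,
    pow_succ (-1 : ℚ)]
  push_cast
  ring

open scoped _root_.Classical in
theorem sum_fixed_eq_zero [Fintype (Submodule F V)] (hB : IsAltND B) (p : ℕ) [Fact p.Prime] [CharP F p] (g : ↥(G B))
    (hg : g ≠ 1) (hp : ∃ k : ℕ, g ^ p ^ k = 1) :
    ∑ W ∈ Finset.univ.filter (fun W => IsTI B W ∧ ∀ x ∈ W, g.1 x = x), sgn (Nat.card F) (finrank F W) = 0 := by
  set N : Module.End F V := (g.1 : V →ₗ[F] V) - 1 with hN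
  have hN' : ∀ y, N y = g.1 y - y := fun y => rfl
  obtain ⟨k, hk⟩ := hp
  have hne : ∃ y, N y ≠ 0 := by
    by_contra! h
    refine hg (Subtype.ext (LinearEquiv.ext fun y => ?_))
    have := h y
    rw [hN', sub_eq_zero] at this
    exact this
  obtain ⟨y₀, hy₀⟩ := hne
  haveI : Nontrivial V := ⟨⟨N y₀, 0, hy₀⟩⟩
  have hnil : N ^ p ^ k = 0 := by
    haveI : CharP (Module.End F V) p := charP_of_injective_algebraMap (algebraMap F (Module.End F V)).injective p
    rw [hN, sub_pow_char_pow_of_commute _ _ (Commute.one_right _), one_pow, sub_eq_zero]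
    have hcoe : ∀ j : ℕ, ((g.1 : V →ₗ[F] V) : Module.End F V) ^ j = ((g.1 ^ j : V ≃ₗ[F] V) : V →ₗ[F] V) := by
      intro j
      induction j with
      | zero => rfl
      | succ j ih => rw [pow_succ, ih, pow_succ]; rfl
    rw [hcoe, ← SubgroupClass.coe_pow, hk]
    rfl
  obtain ⟨y, hy, hy2⟩ : ∃ y, N y ≠ 0 ∧ N (N y) = 0 := by
    by_contra! h
    have : ∀ j, (N ^ (j + 1)) y₀ ≠ 0 := by
      intro j
      induction j with
      | zero => simpa using hy₀
      | succ j ih =>
        rw [pow_succ' _ (j + 1), Module.End.mul_apply, pow_succ', Module.End.mul_apply]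
        refine h _ ?_
        rwa [← Module.End.mul_apply, ← pow_succ']
    have := this (p ^ k - 1)
    rw [Nat.sub_add_cancel (Nat.one_le_pow _ _ (Fact.out (p := p.Prime)).pos), hnil] at this
    exact this rfl
  let X0 : Submodule F V := LinearMap.ker N
  have hX0 : ∀ x, x ∈ X0 ↔ g.1 x = x := fun x => by
    show N x = 0 ↔ _
    rw [hN', sub_eq_zero]
  have h := sum_eq_zero hB X0 hy hy2 fun x hx => by
    rw [hN', map_sub, LinearMap.sub_apply]
    nth_rewrite 1 [← (hX0 x).1 hx]
    rw [iso_apply g, sub_self]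
  refine Eq.trans (Finset.sum_congr ?_ fun _ _ => rfl) h
  ext W
  simp only [Finset.mem_filter, SetLike.le_def, hX0]

end Vanish

section Stab

variable [Fintype F] [FiniteDimensional F V]

set_option maxHeartbeats 1000000 in
/-- Unipotent elements fixing a totally isotropic subspace pointwise. -/
theorem card_fix_unip (hB : IsAltND B) (p : ℕ) [Fact p.Prime] [CharP F p] {m w : ℕ} (hV : finrank F V = 2 * m)
    {W : Submodule F V} (hW : IsTI B W) (hw : finrank F W = w) :
    w ≤ m ∧ ∃ R : Submodule F V, finrank F R = 2 * (m - w) ∧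
      IsAltND (B.compl₁₂ R.subtype R.subtype) ∧
      Nat.card {g : ↥(G B) // (∃ k : ℕ, g ^ p ^ k = 1) ∧ ∀ x ∈ W, g.1 x = x} =
        Fintype.card F ^ (w * (w + 1) / 2 + 2 * w * (m - w)) *
          Nat.card {h : ↥(G (B.compl₁₂ R.subtype R.subtype)) // ∃ k : ℕ, h ^ p ^ k = 1} := by
  classical
  haveI := Module.finite_of_finite F (M := V)
  haveI : Finite (V ≃ₗ[F] V) := Finite.of_injective _ LinearEquiv.coe_injective
  have hWperp : W ≤ perp B W := fun x hx => mem_perp.2 fun y hy => hW x hx y hy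
  have hdp := finrank_perp hB W
  have hwm : w ≤ m := by
    have := Submodule.finrank_mono hWperp
    omega
  refine ⟨hwm, ?_⟩
  obtain ⟨R', hR'⟩ := Submodule.exists_isCompl (W.comap (perp B W).subtype)
  set R : Submodule F V := R'.map (perp B W).subtype with hR
  have hRle : R ≤ perp B W := Submodule.map_subtype_le _ _
  have hRd : finrank F R = 2 * (m - w) := by
    have h1 := Submodule.finrank_add_eq_of_isCompl hR'
    rw [(Submodule.comapSubtypeEquivOfLe hWperp).finrank_eq,
      (Submodule.equivMapOfInjective _ (perp B W).injective_subtype R').finrank_eq, ← hR, hw] at h1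
    omega
  have hWR : ∀ x ∈ perp B W, ∃ a ∈ W, ∃ r ∈ R, a + r = x := by
    intro x hx
    obtain ⟨a, ha, r, hr, e⟩ := Submodule.mem_sup.1
      (hR'.sup_eq_top.symm ▸ Submodule.mem_top (x := (⟨x, hx⟩ : perp B W)))
    exact ⟨a, ha, r, ⟨r, hr, rfl⟩, congrArg Subtype.val e⟩
  have hdisj : ∀ x ∈ W, x ∈ R → x = 0 := by
    rintro x hx ⟨r, hr, rfl⟩
    have : r ∈ W.comap (perp B W).subtype ⊓ R' := ⟨hx, hr⟩
    rw [hR'.inf_eq_bot, Submodule.mem_bot] at this
    rw [this, map_zero]
  have hperpperp : ∀ x, (∀ y ∈ perp B W, B x y = 0) → x ∈ W := by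
    intro x hx
    have hle : W ≤ perp B (perp B W) := fun a ha => mem_perp.2 fun y hy => by
      rw [hB.swap, mem_perp.1 hy a ha, neg_zero]
    have heq : W = perp B (perp B W) := Submodule.eq_of_le_of_finrank_le hle (by
      have := finrank_perp hB (perp B W)
      omega)
    rw [heq]
    exact mem_perp.2 hx
  have hRnd : IsAltND (B.compl₁₂ R.subtype R.subtype) := by
    refine ⟨fun r => hB.self _, fun r hr => Subtype.ext (hdisj _ (hperpperp _ fun y hy => ?_) r.2)⟩
    obtain ⟨a, ha, s, hs, rfl⟩ := hWR y hy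
    rw [map_add, mem_perp.1 (hRle r.2) a ha, zero_add]
    exact hr ⟨s, hs⟩
  refine ⟨R, hRd, hRnd, ?_⟩
  have hc : IsCompl R (perp B R) := by
    refine Submodule.isCompl_iff_disjoint _ _ (by have := finrank_perp hB R; omega) |>.2 ?_
    rw [Submodule.disjoint_def]
    exact fun x hx hx' => congrArg Subtype.val (hRnd.nondeg ⟨x, hx⟩ fun y => mem_perp.1 hx' y y.2)
  let pr : V →ₗ[F] R := R.projectionOnto (perp B R) hc
  have hprR : ∀ r : R, pr r = r := fun r => Submodule.projectionOnto_apply_left hc r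
  have hprW : ∀ a ∈ W, pr a = 0 := fun a ha => (Submodule.projectionOnto_apply_eq_zero_iff hc).2
    (mem_perp.2 fun r hr => by rw [hB.swap, mem_perp.1 (hRle hr) a ha, neg_zero])
  have hrest : ∀ x, x - (pr x : V) ∈ perp B R := fun x => by
    rw [← Submodule.projectionOnto_apply_eq_zero_iff hc]
    rw [map_sub]
    exact sub_eq_zero.2 (hprR (pr x)).symm
  have hpr : ∀ x ∈ perp B W, x - (pr x : V) ∈ W := fun x hx => by
    obtain ⟨a, ha, r, hr, rfl⟩ := hWR x hx
    rw [map_add, hprW a ha, zero_add, hprR ⟨r, hr⟩, add_sub_cancel_right]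
    exact ha
  let Fx := fixW B W
  have hpres : ∀ g : Fx, ∀ x ∈ perp B W, g.1.1 x ∈ perp B W := fun g x hx => mem_perp.2 fun a ha => by
    rw [← g.2 a ha, iso_apply g.1, mem_perp.1 hx a ha]
  let T : Fx → (R →ₗ[F] R) := fun g => pr.comp ((g.1.1 : V →ₗ[F] V).comp R.subtype)
  have hTmul : ∀ g h : Fx, ∀ r, T (g * h) r = T g (T h r) := by
    intro g h r
    show pr (g.1.1 (h.1.1 r)) = pr (g.1.1 (pr (h.1.1 r) : V))
    have hm := hpr _ (hpres h r (hRle r.2))
    obtain ⟨a, ha⟩ : ∃ a, a = h.1.1 r - (pr (h.1.1 r) : V) := ⟨_, rfl⟩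
    rw [← ha] at hm
    conv_lhs => rw [show h.1.1 r = a + (pr (h.1.1 r) : V) by rw [ha]; abel]
    rw [map_add, map_add, g.2 a hm, hprW a hm, zero_add]
  have hTone : ∀ r, T 1 r = r := fun r => hprR r
  have hTiso : ∀ g r s, B (T g r : V) (T g s) = B (r : V) s := by
    intro g r s
    have h1 := hpr _ (hpres g r (hRle r.2))
    have h2 := hpr _ (hpres g s (hRle s.2))
    rw [← iso_apply g.1 (r : V) s]
    show B (pr (g.1.1 r) : V) (pr (g.1.1 s)) = _
    set x := g.1.1 (r : V)
    set y := g.1.1 (s : V)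
    conv_rhs => rw [show x = (x - pr x) + (pr x : V) by abel, show y = (y - pr y) + (pr y : V) by abel]
    simp only [map_add, LinearMap.add_apply]
    rw [hW _ h1 _ h2, mem_perp.1 (hRle (pr x).2) _ h2, hB.swap (x - pr x) (pr y), mem_perp.1 (hRle (pr y).2) _ h1]
    ring
  let π : Fx →* ↥(G (B.compl₁₂ R.subtype R.subtype)) :=
    { toFun := fun g => ⟨LinearEquiv.ofLinearMap (T g) (T g⁻¹)
          (LinearMap.ext fun r => by rw [LinearMap.comp_apply, ← hTmul, mul_inv_cancel]; exact hTone r)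
          (LinearMap.ext fun r => by rw [LinearMap.comp_apply, ← hTmul, inv_mul_cancel]; exact hTone r),
        fun r s => hTiso g r s⟩
      map_one' := Subtype.ext (LinearEquiv.ext fun r => hTone r)
      map_mul' := fun g h => Subtype.ext (LinearEquiv.ext fun r => hTmul g h r) }
  have hsurj : Function.Surjective π := by
    intro h
    let ext : (R ≃ₗ[F] R) → (V →ₗ[F] V) := fun e => R.subtype.comp (e.toLinearMap.comp pr) + (LinearMap.id - R.subtype.comp pr)
    have hext : ∀ e x, ext e x = (e (pr x) : V) + (x - pr x) := fun e x => rfl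
    have hprext : ∀ e x, pr (ext e x) = e (pr x) := fun e x => by
      rw [hext, map_add, hprR, (Submodule.projectionOnto_apply_eq_zero_iff hc).2 (hrest x), add_zero]
    have hcomp : ∀ e e' : R ≃ₗ[F] R, ∀ x, ext e (ext e' x) = (e (e' (pr x)) : V) + (x - pr x) := fun e e' x => by
      rw [hext e, hprext, hext e']
      abel
    let g0 : V ≃ₗ[F] V := LinearEquiv.ofLinearMap (ext h.1) (ext h.1.symm)
      (LinearMap.ext fun x => by
        rw [LinearMap.comp_apply, hcomp, LinearEquiv.apply_symm_apply, LinearMap.id_apply]; abel)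
      (LinearMap.ext fun x => by
        rw [LinearMap.comp_apply, hcomp, LinearEquiv.symm_apply_apply, LinearMap.id_apply]; abel)
    have hg0 : ∀ x, g0 x = (h.1 (pr x) : V) + (x - pr x) := fun x => rfl
    have hmemG : g0 ∈ G B := by
      intro x y
      show B (g0 x) (g0 y) = B x y
      rw [hg0, hg0]
      have e1 := mem_perp.1 (hrest x)
      have e2 := mem_perp.1 (hrest y)
      conv_rhs => rw [show x = (pr x : V) + (x - pr x) by abel, show y = (pr y : V) + (y - pr y) by abel]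
      set u := x - (pr x : V)
      set u' := y - (pr y : V)
      simp only [map_add, LinearMap.add_apply]
      rw [e1 _ (h.1 (pr y)).2, e1 _ (pr y).2, hB.swap (h.1 (pr x) : V) u', e2 _ (h.1 (pr x)).2,
        hB.swap (pr x : V) u', e2 _ (pr x).2]
      have h1 : B (h.1 (pr x) : V) (h.1 (pr y) : V) = B (pr x : V) (pr y) := h.2 (pr x) (pr y)
      rw [h1]
    refine ⟨⟨⟨g0, hmemG⟩, fun a ha => ?_⟩, Subtype.ext (LinearEquiv.ext fun r => ?_)⟩
    · show g0 a = a
      rw [hg0, hprW a ha, map_zero, Submodule.coe_zero, zero_add, sub_zero]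
    · show pr (g0 r) = h.1 r
      rw [show g0 (r : V) = ext h.1 r from rfl, hprext, hprR]
  -- the order of the kernel
  haveI : Finite (R ≃ₗ[F] R) := Finite.of_injective _ LinearEquiv.coe_injective
  obtain ⟨e⟩ := exists_isomEquiv hB hV
  obtain ⟨eR⟩ := exists_isomEquiv hRnd hRd
  have hG : Nat.card ↥(G B) = SympFrames.spOrd (Fintype.card F) m := by
    rw [show Nat.card ↥(G B) = Nat.card (isom B) from rfl, Nat.card_congr e.toEquiv, card_symplecticGroup]
    rfl
  have hGR : Nat.card ↥(G (B.compl₁₂ R.subtype R.subtype)) = SympFrames.spOrd (Fintype.card F) (m - w) := by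
    rw [show Nat.card ↥(G (B.compl₁₂ R.subtype R.subtype)) = Nat.card (isom (B.compl₁₂ R.subtype R.subtype)) from rfl,
      Nat.card_congr eR.toEquiv, card_symplecticGroup]
    rfl
  obtain ⟨b⟩ : Nonempty (Basis (Fin w) F W) := ⟨finBasisOfFinrankEq F W hw⟩
  let s0 : Fr F (fun x y => B x y) w := ⟨fun i => b i, b.linearIndependent.map' _ (Submodule.ker_subtype _),
    fun i j => hW _ (b i).2 _ (b j).2⟩
  have hFx : Nat.card Fx * Nat.card (Fr F (fun x y => B x y) w) = Nat.card ↥(G B) := by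
    rw [card_stab_mul Fx {s0} s0 (SympFrames.exists_move hB s0) fun g => ?_]
    · simp
    constructor
    · intro hg t ht
      exact Subtype.ext (funext fun i => (ht i).symm.trans (hg _ (b i).2))
    · intro h x hx
      have h1 : ∀ i, g.1 (b i : V) = b i := fun i => congrFun (congrArg Subtype.val (h ⟨fun i => g.1 (s0.1 i),
        s0.2.1.map' g.1.toLinearMap g.1.ker, fun i j => by rw [g.2]; exact s0.2.2 i j⟩ fun i => rfl)) i
      have h2 : (g.1 : V →ₗ[F] V).comp W.subtype = W.subtype := b.ext h1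
      exact LinearMap.congr_fun h2 ⟨x, hx⟩
  have hq : 2 ≤ Fintype.card F := Fintype.one_lt_card
  rw [SympFrames.card_fr w m hB hV, hG, ← SympFrames.fs_identity w m hwm] at hFx
  have hpos : 0 < SympFrames.fs (Fintype.card F) w m := SympFrames.fs_pos hq w m hwm
  rw [mul_comm] at hFx
  have hFx' := Nat.eq_of_mul_eq_mul_left hpos hFx
  have hker : Nat.card π.ker = Fintype.card F ^ (w * (w + 1) / 2 + 2 * w * (m - w)) := by
    have h := Subgroup.card_eq_card_quotient_mul_card_subgroup π.ker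
    rw [Nat.card_congr (QuotientGroup.quotientKerEquivOfSurjective π hsurj).toEquiv, hGR, hFx',
      mul_comm (SympFrames.spOrd (Fintype.card F) (m - w))] at h
    refine (Nat.eq_of_mul_eq_mul_right ?_ h).symm
    rw [← hGR]
    exact Nat.card_pos
  obtain ⟨n, hn⟩ : ∃ n : ℕ, Fintype.card F = p ^ n := by
    obtain ⟨n, -, hn⟩ := FiniteField.card F p
    exact ⟨n, hn⟩
  have hiff : ∀ g : Fx, (∃ k : ℕ, g.1 ^ p ^ k = 1) ↔ ∃ k : ℕ, π g ^ p ^ k = 1 := by
    intro g
    constructor
    · rintro ⟨k, hk⟩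
      exact ⟨k, by rw [← map_pow, show g ^ p ^ k = 1 from Subtype.ext (by rw [SubgroupClass.coe_pow]; exact hk), map_one]⟩
    · rintro ⟨k, hk⟩
      have hmem : g ^ p ^ k ∈ π.ker := by rw [MonoidHom.mem_ker, map_pow, hk]
      have h := congrArg Subtype.val (pow_card_eq_one' (x := (⟨_, hmem⟩ : π.ker)))
      rw [hker, hn, ← pow_mul] at h
      refine ⟨k + n * (w * (w + 1) / 2 + 2 * w * (m - w)), ?_⟩
      have h' := congrArg Subtype.val h
      simp only [SubgroupClass.coe_pow, OneMemClass.coe_one, ← pow_mul, ← pow_add] at h'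
      exact h'
  let E : {g : ↥(G B) // (∃ k : ℕ, g ^ p ^ k = 1) ∧ ∀ x ∈ W, g.1 x = x} ≃ {g : Fx // ∃ k : ℕ, π g ^ p ^ k = 1} :=
    { toFun := fun g => ⟨⟨g.1, g.2.2⟩, (hiff ⟨g.1, g.2.2⟩).1 g.2.1⟩
      invFun := fun g => ⟨g.1.1, (hiff g.1).2 g.2, g.1.2⟩
      left_inv := fun g => rfl
      right_inv := fun g => rfl }
  let E2 : {g : Fx // ∃ k : ℕ, π g ^ p ^ k = 1} ≃
      π.ker × {h : ↥(G (B.compl₁₂ R.subtype R.subtype)) // ∃ k : ℕ, h ^ p ^ k = 1} :=
    { toFun := fun g => (⟨g.1 * (Function.surjInv hsurj (π g.1))⁻¹, by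
          rw [MonoidHom.mem_ker, map_mul, map_inv, Function.surjInv_eq hsurj, mul_inv_cancel]⟩, ⟨π g.1, g.2⟩)
      invFun := fun x => ⟨x.1.1 * Function.surjInv hsurj x.2.1, by
          rw [map_mul, MonoidHom.mem_ker.1 x.1.2, one_mul, Function.surjInv_eq hsurj]; exact x.2.2⟩
      left_inv := fun g => Subtype.ext (inv_mul_cancel_right _ _)
      right_inv := fun x => by
        have e : π (x.1.1 * Function.surjInv hsurj x.2.1) = x.2.1 := by
          rw [map_mul, MonoidHom.mem_ker.1 x.1.2, one_mul, Function.surjInv_eq hsurj]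
        refine Prod.ext (Subtype.ext ?_) (Subtype.ext e)
        show x.1.1 * Function.surjInv hsurj x.2.1 * (Function.surjInv hsurj (π (x.1.1 * Function.surjInv hsurj x.2.1)))⁻¹ = x.1.1
        rw [e, mul_inv_cancel_right] }
  rw [Nat.card_congr E, Nat.card_congr E2, Nat.card_prod, hker]

end Stab

/-! ### The arithmetic -/

/-- The number of subspaces, as a rational number. -/
noncomputable def Nn (q w m : ℕ) : ℚ :=
  (SympFrames.fs q w m : ℚ) / ∏ i ∈ Finset.range w, ((q : ℚ) ^ w - (q : ℚ) ^ i)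

theorem fs_succ (q k m : ℕ) :
    SympFrames.fs q (k + 1) m = (q ^ (2 * m) - 1) * (q ^ k * SympFrames.fs q k (m - 1)) := rfl

theorem fs_eq_zero {q : ℕ} : ∀ k m : ℕ, m < k → SympFrames.fs q k m = 0
  | 0, m, h => absurd h (by omega)
  | k + 1, 0, _ => by simp [SympFrames.fs]
  | k + 1, m + 1, h => by
    rw [SympFrames.fs, Nat.add_sub_cancel, fs_eq_zero k m (by omega), mul_zero, mul_zero]

theorem fs_next {q : ℕ} (hq : 1 ≤ q) : ∀ w m : ℕ, w ≤ m →
    (SympFrames.fs q (w + 1) m : ℚ) = SympFrames.fs q w m * ((q : ℚ) ^ (2 * m - w) - (q : ℚ) ^ w)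
  | 0, m, _ => by
    simp [SympFrames.fs, Nat.cast_sub (Nat.one_le_pow _ _ (by omega : 0 < q))]
  | w + 1, m, h => by
    obtain ⟨n, rfl⟩ : ∃ n, m = n + 1 := ⟨m - 1, by omega⟩
    have h1 : 2 * (n + 1) - (w + 1) = (2 * n - w) + 1 := by omega
    have h2 := fs_next hq w n (by omega)
    rw [fs_succ q (w + 1), fs_succ q w (n + 1), Nat.add_sub_cancel]
    simp only [Nat.cast_mul, Nat.cast_pow, h2, h1, pow_succ]
    ring

theorem prod_succ_eq (q : ℚ) (w : ℕ) :
    ∏ i ∈ Finset.range (w + 1), (q ^ (w + 1) - q ^ i) =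
      (q ^ (w + 1) - 1) * q ^ w * ∏ i ∈ Finset.range w, (q ^ w - q ^ i) := by
  rw [Finset.prod_range_succ', pow_zero, show ∏ i ∈ Finset.range w, (q ^ (w + 1) - q ^ (i + 1)) =
    ∏ i ∈ Finset.range w, (q * (q ^ w - q ^ i)) from Finset.prod_congr rfl fun i _ => by ring,
    Finset.prod_mul_distrib, Finset.prod_const, Finset.card_range]
  ring

theorem prod_ne {q : ℕ} (hq : 2 ≤ q) (w : ℕ) : ∏ i ∈ Finset.range w, ((q : ℚ) ^ w - (q : ℚ) ^ i) ≠ 0 :=
  Finset.prod_ne_zero_iff.2 fun i hi h => by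
    have h' : (q : ℚ) ^ w = (q : ℚ) ^ i := sub_eq_zero.1 h
    have h'' : q ^ w = q ^ i := by exact_mod_cast h'
    have := Nat.pow_right_injective hq h''
    have := Finset.mem_range.1 hi
    omega

theorem Nn_zero {q m : ℕ} : Nn q 0 m = 1 := by simp [Nn, SympFrames.fs]

theorem Nn_out {q w m : ℕ} (h : m < w) : Nn q w m = 0 := by simp [Nn, fs_eq_zero w m h]

theorem Nn_rec {q : ℕ} (hq : 2 ≤ q) (w m : ℕ) (h : w ≤ m) :
    Nn q (w + 1) (m + 1) =
      (q : ℚ) ^ (w + 1) * Nn q (w + 1) m + (1 + (q : ℚ) ^ (2 * m + 1 - w)) * Nn q w m := by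
  have e : 2 * m + 1 - w = (2 * m - w) + 1 := by omega
  have h0 : ((q : ℚ) ^ (w + 1) - 1) ≠ 0 := fun h' => by
    have h'' : q ^ (w + 1) = 1 := by exact_mod_cast sub_eq_zero.1 h'
    have : 1 < q ^ (w + 1) := Nat.one_lt_pow (by omega) (by omega)
    omega
  have h1 : (q : ℚ) ^ w ≠ 0 := pow_ne_zero _ (by exact_mod_cast (by omega : q ≠ 0))
  have hA : (SympFrames.fs q (w + 1) (m + 1) : ℚ) =
      ((q : ℚ) ^ (2 * (m + 1)) - 1) * ((q : ℚ) ^ w * SympFrames.fs q w m) := by
    rw [SympFrames.fs, Nat.add_sub_cancel, Nat.cast_mul, Nat.cast_sub (Nat.one_le_pow _ _ (by omega)), Nat.cast_mul]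
    push_cast
    ring
  have hP := prod_ne hq w
  rw [Nn, Nn, Nn, prod_succ_eq, hA, fs_next (by omega) w m h, e]
  field_simp
  obtain ⟨r, hr⟩ : ∃ r, 2 * m = w + r := ⟨2 * m - w, by omega⟩
  rw [show 2 * m - w = r by omega, show 2 * (m + 1) = w + r + 2 by omega]
  ring

/-- The two weighted sums. -/
noncomputable def Lsum (q m : ℕ) : ℚ :=
  ∑ w ∈ Finset.range (m + 1), (-1) ^ w * (q : ℚ) ^ ((m - w) ^ 2 + m ^ 2) * Nn q w m

noncomputable def Rsum (q m : ℕ) : ℚ := ∑ w ∈ Finset.range (m + 1), sgn q w * Nn q w m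

theorem sum_step {q : ℕ} (hq : 2 ≤ q) (m : ℕ) (a : ℕ → ℚ) :
    ∑ w ∈ Finset.range (m + 1 + 1), a w * Nn q w (m + 1) =
      ∑ v ∈ Finset.range (m + 1), (a v * (q : ℚ) ^ v + a (v + 1) * (1 + (q : ℚ) ^ (2 * m + 1 - v))) * Nn q v m := by
  rw [Finset.sum_range_succ' (fun w => a w * Nn q w (m + 1)), Nn_zero]
  rw [Finset.sum_congr rfl fun v hv => by rw [Nn_rec hq v m (Nat.le_of_lt_succ (Finset.mem_range.1 hv))]]
  simp only [mul_add, add_mul, Finset.sum_add_distrib, mul_one, one_mul]
  have h1 : ∑ v ∈ Finset.range (m + 1), a (v + 1) * ((q : ℚ) ^ (v + 1) * Nn q (v + 1) m) + a 0 =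
      ∑ v ∈ Finset.range (m + 1), a v * (q : ℚ) ^ v * Nn q v m := by
    have h := Finset.sum_range_succ' (fun v => a v * (q : ℚ) ^ v * Nn q v m) (m + 1)
    rw [Finset.sum_range_succ, Nn_out (Nat.lt_succ_self m), Nn_zero, pow_zero, mul_zero, add_zero, mul_one, mul_one] at h
    rw [h]
    congr 1
    exact Finset.sum_congr rfl fun v _ => by ring
  rw [← h1]
  simp only [mul_assoc]
  ring

theorem Rsum_succ {q : ℕ} (hq : 2 ≤ q) (m : ℕ) : Rsum q (m + 1) = -(q : ℚ) ^ (2 * m + 1) * Rsum q m := by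
  rw [Rsum, sum_step hq, Rsum, Finset.mul_sum]
  refine Finset.sum_congr rfl fun v hv => ?_
  obtain ⟨k, rfl⟩ : ∃ k, m = v + k := ⟨m - v, by have := Finset.mem_range.1 hv; omega⟩
  rw [sgn, sgn, Nat.choose_succ_succ' v 1, Nat.choose_one_right, show 2 * (v + k) + 1 - v = v + 2 * k + 1 by omega]
  ring

theorem Lsum_succ {q : ℕ} (hq : 2 ≤ q) (m : ℕ) : Lsum q (m + 1) = -(q : ℚ) ^ (2 * m + 1) * Lsum q m := by
  rw [Lsum, sum_step hq, Lsum, Finset.mul_sum]
  refine Finset.sum_congr rfl fun v hv => ?_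
  obtain ⟨k, rfl⟩ : ∃ k, m = v + k := ⟨m - v, by have := Finset.mem_range.1 hv; omega⟩
  rw [show v + k + 1 - v = k + 1 by omega, show v + k + 1 - (v + 1) = k by omega,
    show v + k - v = k by omega, show 2 * (v + k) + 1 - v = v + 2 * k + 1 by omega]
  ring

theorem Lsum_eq {q : ℕ} (hq : 2 ≤ q) : ∀ m, Lsum q m = Rsum q m
  | 0 => by simp [Lsum, Rsum, sgn, Nn_zero]
  | m + 1 => by rw [Lsum_succ hq, Rsum_succ hq, Lsum_eq hq m]

/-! ### The count -/

section Main

variable [Fintype F]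

open scoped _root_.Classical in
theorem card_TI [FiniteDimensional F V] [Fintype (Submodule F V)] (hB : IsAltND B) {m : ℕ}
    (hV : finrank F V = 2 * m) (w : ℕ) :
    ((Finset.univ.filter (fun W : Submodule F V => IsTI B W ∧ finrank F W = w)).card : ℚ) =
      Nn (Fintype.card F) w m := by
  haveI := Module.finite_of_finite F (M := V)
  haveI : Finite (Fr F (fun x y => B x y) w) := Subtype.finite
  haveI := Fintype.ofFinite (Fr F (fun x y => B x y) w)
  set T := Finset.univ.filter (fun W : Submodule F V => IsTI B W ∧ finrank F W = w) with hT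
  have hmaps : ∀ s ∈ (Finset.univ : Finset (Fr F (fun x y => B x y) w)), Submodule.span F (Set.range s.1) ∈ T := by
    intro s _
    rw [hT, Finset.mem_filter]
    exact ⟨Finset.mem_univ _, fun x hx y hy => (SympFrames.sesq hB).span_zero s.2.2 hx hy,
      (finrank_span_eq_card s.2.1).trans (Fintype.card_fin w)⟩
  have hcard := Finset.card_eq_sum_card_fiberwise hmaps
  rw [Finset.card_univ, ← Nat.card_eq_fintype_card, SympFrames.card_fr w m hB hV,
    Finset.sum_congr rfl (g := fun _ => ∏ i : Fin w, (Fintype.card F ^ w - Fintype.card F ^ (i : ℕ))) ?_,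
    Finset.sum_const, smul_eq_mul] at hcard
  · have hq : 2 ≤ Fintype.card F := Fintype.one_lt_card
    rw [Nn, eq_div_iff (prod_ne hq w), hcard, Nat.cast_mul, Nat.cast_prod, ← Fin.prod_univ_eq_prod_range]
    congr 1
    refine Finset.prod_congr rfl fun i _ => ?_
    rw [Nat.cast_sub (Nat.pow_le_pow_right (by omega) i.isLt.le), Nat.cast_pow, Nat.cast_pow]
  · intro W hW
    rw [hT, Finset.mem_filter] at hW
    have h := card_spanning (h := fun x y => B x y) hW.2.2 hW.2.1
    rw [Nat.card_eq_fintype_card, Fintype.card_subtype, Nat.card_eq_fintype_card] at h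
    exact h

theorem card_unip (p : ℕ) [Fact p.Prime] [CharP F p] : ∀ (m : ℕ) {V : Type v} [AddCommGroup V] [Module F V]
    [FiniteDimensional F V] {B : V →ₗ[F] V →ₗ[F] F}, IsAltND B → finrank F V = 2 * m →
    Nat.card {g : ↥(G B) // ∃ k : ℕ, g ^ p ^ k = 1} = Fintype.card F ^ (2 * m ^ 2) := by
  intro m
  induction m using Nat.strong_induction_on with
  | _ m ih =>
  intro V _ _ _ B hB hV
  classical
  haveI := Module.finite_of_finite F (M := V)
  haveI : Finite (V ≃ₗ[F] V) := Finite.of_injective _ LinearEquiv.coe_injective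
  haveI := Fintype.ofFinite (Submodule F V)
  haveI := Fintype.ofFinite ↥(G B)
  set q := Fintype.card F with hqdef
  have hq : 2 ≤ q := Fintype.one_lt_card
  have hqN : Nat.card F = q := Nat.card_eq_fintype_card
  set P := Finset.univ.filter (fun g : ↥(G B) => ∃ k : ℕ, g ^ p ^ k = 1) with hP
  set TI := Finset.univ.filter (fun W : Submodule F V => IsTI B W) with hTI
  have hone : (1 : ↥(G B)) ∈ P := by simp [hP]
  have key : ∑ W ∈ TI, sgn q (finrank F W) * ((P.filter fun g => ∀ x ∈ W, g.1 x = x).card : ℚ) =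
      ∑ W ∈ TI, sgn q (finrank F W) := by
    calc ∑ W ∈ TI, sgn q (finrank F W) * ((P.filter fun g => ∀ x ∈ W, g.1 x = x).card : ℚ)
        = ∑ g ∈ P, ∑ W ∈ TI, if ∀ x ∈ W, g.1 x = x then sgn q (finrank F W) else 0 := by
          rw [Finset.sum_comm]
          refine Finset.sum_congr rfl fun W _ => ?_
          rw [← Finset.sum_filter, Finset.sum_const, nsmul_eq_mul, mul_comm]
      _ = ∑ W ∈ TI, if ∀ x ∈ W, (1 : ↥(G B)).1 x = x then sgn q (finrank F W) else 0 := by
          refine Finset.sum_eq_single_of_mem _ hone fun g hg hne => ?_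
          rw [← Finset.sum_filter, hTI, Finset.filter_filter, ← hqN]
          exact sum_fixed_eq_zero hB p g hne (Finset.mem_filter.1 hg).2
      _ = _ := Finset.sum_congr rfl fun W _ => if_pos fun x _ => rfl
  have hle : ∀ W ∈ TI, finrank F W ∈ Finset.range (m + 1) := fun W hW =>
    Finset.mem_range.2 (Nat.lt_succ_of_le (card_fix_unip hB p hV (Finset.mem_filter.1 hW).2 rfl).1)
  have hsum : ∀ f : ℕ → ℚ, ∑ W ∈ TI, f (finrank F W) = ∑ w ∈ Finset.range (m + 1), f w * Nn q w m := by
    intro f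
    rw [← Finset.sum_fiberwise_of_maps_to (g := fun W : Submodule F V => finrank F W) hle]
    refine Finset.sum_congr rfl fun w _ => ?_
    rw [Finset.sum_congr rfl fun W hW => by rw [(Finset.mem_filter.1 hW).2], Finset.sum_const, nsmul_eq_mul,
      mul_comm, ← card_TI hB hV w, hTI, Finset.filter_filter]
  let c : ℕ → ℚ := fun w => if w = 0 then (P.card : ℚ) else
    (q : ℚ) ^ (w * (w + 1) / 2 + 2 * w * (m - w) + 2 * (m - w) ^ 2)
  have hc : ∀ W ∈ TI, ((P.filter fun g => ∀ x ∈ W, g.1 x = x).card : ℚ) = c (finrank F W) := by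
    intro W hW
    simp only [c]
    split_ifs with h0
    · rw [Submodule.finrank_eq_zero] at h0
      subst h0
      rw [Finset.filter_true_of_mem fun g _ x hx => by rw [(Submodule.mem_bot F).1 hx, map_zero]]
    · obtain ⟨hwm, R, hRd, hRnd, hcard⟩ := card_fix_unip hB p hV (Finset.mem_filter.1 hW).2 rfl
      rw [ih (m - finrank F W) (by omega) hRnd hRd, Nat.card_eq_fintype_card, Fintype.card_subtype, ← pow_add] at hcard
      rw [hP, Finset.filter_filter, hcard, Nat.cast_pow]
  rw [Finset.sum_congr rfl fun W hW => by rw [hc W hW]] at key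
  rw [hsum (fun w => sgn q w * c w), hsum (fun w => sgn q w)] at key
  change _ = Rsum q m at key
  rw [← Lsum_eq hq, Lsum, Finset.sum_range_succ' _ m, Finset.sum_range_succ' _ m] at key
  rw [Finset.sum_congr rfl (g := fun v => (-1) ^ (v + 1) * (q : ℚ) ^ ((m - (v + 1)) ^ 2 + m ^ 2) * Nn q (v + 1) m)
    (fun v hv => ?_)] at key
  · have h0 : (P.card : ℚ) = ((q ^ (2 * m ^ 2) : ℕ) : ℚ) := by
      have := add_left_cancel key
      simp only [c, if_pos, sgn, Nn_zero, mul_one, pow_zero, one_mul, Nat.choose_zero_succ, Nat.sub_zero] at this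
      rw [Nat.cast_pow, this, two_mul]
    rw [Nat.card_eq_fintype_card, Fintype.card_subtype, ← hP]
    exact_mod_cast h0
  · obtain ⟨k, rfl⟩ : ∃ k, m = v + 1 + k := ⟨m - (v + 1), by have := Finset.mem_range.1 hv; omega⟩
    simp only [c, Nat.succ_ne_zero, if_false, sgn, Nat.add_sub_cancel_left]
    congr 1
    rw [mul_assoc, ← pow_add]
    congr 2
    have e1 : (v + 1).choose 2 + (v + 1) * (v + 1 + 1) / 2 = (v + 1) ^ 2 := by
      rw [Nat.choose_two_right, Nat.add_sub_cancel,
        show (v + 1) * (v + 1 + 1) = (v + 1) * v + (v + 1) * 2 by ring, Nat.add_mul_div_right _ _ two_pos]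
      obtain ⟨r, hr⟩ := Nat.even_mul_succ_self v
      rw [mul_comm v] at hr
      have : (v + 1) ^ 2 = (v + 1) * v + (v + 1) := by ring
      omega
    linear_combination e1

end Main

theorem count_std {F : Type u} [Field F] [Fintype F] (p : ℕ) [Fact p.Prime] [CharP F p] (m : ℕ) :
    Nat.card {g : ↥(Matrix.symplecticGroup (Fin m) F) // ∃ k : ℕ, orderOf g = p ^ k} =
      Fintype.card F ^ (2 * m ^ 2) := by
  have hB := stdForm_isAltND (F := F) m
  have hV : finrank F (Fin m ⊕ Fin m → F) = 2 * m := by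
    rw [finrank_fintype_fun_eq_card, Fintype.card_sum, Fintype.card_fin, two_mul]
  obtain ⟨e⟩ := exists_isomEquiv hB hV
  rw [← card_unip p m hB hV]
  refine (Nat.card_congr (e.toEquiv.subtypeEquiv fun g => ?_)).symm
  show (∃ k : ℕ, g ^ p ^ k = 1) ↔ ∃ k : ℕ, orderOf (e g) = p ^ k
  rw [show orderOf (e g) = orderOf g from MulEquiv.orderOf_eq e g]
  constructor
  · rintro ⟨k, hk⟩
    obtain ⟨j, -, hj⟩ := (Nat.dvd_prime_pow Fact.out).1 (orderOf_dvd_of_pow_eq_one hk)
    exact ⟨j, hj⟩
  · rintro ⟨k, hk⟩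
    exact ⟨k, hk ▸ pow_orderOf_eq_one g⟩

end Cfsg.Agent.Small.SpUnipCount
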