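import Mathlib

/-!
Fibre powers over a normal subgroup of prime power order have the element orders of the group itself.
-/

set_option autoImplicit false

namespace Cfsg.Agent.Small.SpectrumFibre

/-- A copy of `Fin X` carrying no algebraic instances. -/
structure Carrier (X : ℕ) : Type where
  /-- The underlying index. -/
  val : Fin X

/-- The carrier is `Fin X`. -/
def carrierEquiv (X : ℕ) : Carrier X ≃ Fin X := ⟨Carrier.val, Carrier.mk, fun _ => rfl, fun _ => rfl⟩

instance (X : ℕ) : Fintype (Carrier X) := Fintype.ofEquiv _ (carrierEquiv X).symm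

theorem card_carrier (X : ℕ) : Fintype.card (Carrier X) = X := by
  rw [Fintype.card_congr (carrierEquiv X), Fintype.card_fin]

variable {H : Type*} [Group H] (P : Subgroup H) [P.Normal]

/-- Tuples congruent modulo the subgroup. -/
def fib (n : ℕ) : Subgroup (Fin n → H) where
  carrier := {f | ∀ i j, QuotientGroup.mk' P (f i) = QuotientGroup.mk' P (f j)}
  one_mem' := fun _ _ => rfl
  mul_mem' := fun {a b} ha hb i j => by
    rw [Pi.mul_apply, Pi.mul_apply, map_mul, map_mul, ha i j, hb i j]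
  inv_mem' := fun {a} ha i j => by
    rw [Pi.inv_apply, Pi.inv_apply, map_inv, map_inv, ha i j]

theorem range_fib [Finite H] {p : ℕ} [Fact p.Prime] (hP : IsPGroup p P) (n : ℕ) :
    Set.range (orderOf : fib P (n + 1) → ℕ) = Set.range (orderOf : H → ℕ) := by
  ext d
  constructor
  · rintro ⟨⟨f, hf⟩, rfl⟩
    rw [Subgroup.orderOf_mk]
    obtain ⟨o, ho⟩ : ∃ o, o = orderOf (QuotientGroup.mk' P (f 0)) := ⟨_, rfl⟩
    have he : ∀ i, ∃ e, orderOf (f i) = o * p ^ e := fun i => by
      have hd : o ∣ orderOf (f i) := by rw [ho, ← hf i 0]; exact orderOf_map_dvd _ _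
      have hmem : f i ^ o ∈ P := (QuotientGroup.eq_one_iff _).1 (by
        show QuotientGroup.mk' P (f i ^ o) = 1
        rw [map_pow, hf i 0, ho, pow_orderOf_eq_one])
      obtain ⟨k, hk⟩ := hP ⟨_, hmem⟩
      obtain ⟨e, -, he⟩ := (Nat.dvd_prime_pow (Fact.out : p.Prime)).1
        (orderOf_dvd_of_pow_eq_one (congrArg Subtype.val hk : (f i ^ o) ^ p ^ k = 1))
      refine ⟨e, ?_⟩
      rw [orderOf_pow_of_dvd (ho ▸ (orderOf_pos (QuotientGroup.mk' P (f 0))).ne') hd] at he
      rw [← he, Nat.mul_div_cancel' hd]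
    obtain ⟨i₀, -, hmax⟩ := Finset.exists_max_image Finset.univ (fun i => (he i).choose) Finset.univ_nonempty
    refine ⟨f i₀, Nat.dvd_antisymm ?_ (orderOf_dvd_of_pow_eq_one ?_)⟩
    · exact orderOf_map_dvd (Pi.evalMonoidHom (fun _ => H) i₀) f
    · funext i
      refine orderOf_dvd_iff_pow_eq_one.1 ?_
      rw [(he i).choose_spec, (he i₀).choose_spec]
      exact Nat.mul_dvd_mul_left _ (pow_dvd_pow _ (hmax i (Finset.mem_univ i)))
  · rintro ⟨h, rfl⟩
    have hm : (fun _ => h : Fin (n + 1) → H) ∈ fib P (n + 1) := fun _ _ => rfl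
    refine ⟨⟨_, hm⟩, ?_⟩
    rw [Subgroup.orderOf_mk]
    exact orderOf_injective (Pi.constMonoidHom (Fin (n + 1)) H) (fun a b e => congrFun e 0) h

theorem card_fib [Finite H] (hP : P ≠ ⊥) (n : ℕ) : n < Nat.card (fib P (n + 1)) := by
  have h2 : 2 ≤ Nat.card P := (Subgroup.one_lt_card_iff_ne_bot P).2 hP
  calc n < 2 ^ n := Nat.lt_two_pow_self
    _ ≤ Nat.card P ^ n := Nat.pow_le_pow_left h2 n
    _ = Nat.card (Fin n → P) := by rw [Nat.card_fun, Nat.card_eq_fintype_card (α := Fin n), Fintype.card_fin]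
    _ ≤ _ := by
      have hm : ∀ (g : Fin n → P) (i : Fin (n + 1)),
          QuotientGroup.mk' P ((Fin.cons (1 : P) g : Fin (n + 1) → P) i : H) = 1 := fun g i =>
        (QuotientGroup.eq_one_iff _).2 (Subtype.mem _)
      refine Nat.card_le_card_of_injective
        (fun g => (⟨fun i => ((Fin.cons (1 : P) g : Fin (n + 1) → P) i : H), fun i j => (hm g i).trans (hm g j).symm⟩ :
          fib P (n + 1))) fun g g' e => funext fun i => ?_
      have := congrFun (congrArg Subtype.val e) i.succ
      simpa using this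

end Cfsg.Agent.Small.SpectrumFibre
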