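import Mathlib.GroupTheory.SemidirectProduct
import Mathlib.RepresentationTheory.Basic
import Mathlib.GroupTheory.OrderOfElement
import Mathlib.FieldTheory.Minpoly.Field
import Mathlib.Algebra.CharP.Lemmas

/-!
Orders of elements in a coset of a vector space in a split extension.
-/

set_option autoImplicit false

namespace Cfsg.Agent.Small.SplitCoset

open Polynomial

variable {F : Type*} [Field F] {V : Type*} [AddCommGroup V] [Module F V] {G : Type*} [Group G]
  (ρ : Representation F G V) (φ : G →* MulAut (Multiplicative V))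
  (hφ : ∀ h v, φ h (Multiplicative.ofAdd v) = Multiplicative.ofAdd (ρ h v))

include hφ in
theorem pow_eq (v : V) (g : G) : ∀ i : ℕ,
    ((⟨Multiplicative.ofAdd v, g⟩ : Multiplicative V ⋊[φ] G) ^ i) =
      ⟨Multiplicative.ofAdd ((∑ j ∈ Finset.range i, ρ g ^ j) v), g ^ i⟩
  | 0 => by
    simp only [pow_zero, Finset.range_zero, Finset.sum_empty, LinearMap.zero_apply, ofAdd_zero]
    rfl
  | i + 1 => by
    rw [pow_succ, pow_eq v g i]
    apply SemidirectProduct.ext
    · rw [SemidirectProduct.mul_left, hφ, map_pow ρ, ← ofAdd_add, Finset.sum_range_succ,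
        LinearMap.add_apply]
    · simp only [SemidirectProduct.mul_right, pow_succ]

include hφ in
theorem coset_order_iff (p : ℕ) [hp : Fact p.Prime] [CharP F p] [FiniteDimensional F V] [Nontrivial V]
    [Finite G] (g : G) :
    (∃ x : Multiplicative V ⋊[φ] G, x.right = g ∧ orderOf x = p * orderOf g) ↔
      ¬ (minpoly F (ρ g) ∣ ∑ i ∈ Finset.range (orderOf g), (X : F[X]) ^ i) := by
  have hT : (minpoly F (ρ g) ∣ ∑ i ∈ Finset.range (orderOf g), (X : F[X]) ^ i) ↔
      (∑ j ∈ Finset.range (orderOf g), ρ g ^ j) = 0 := by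
    rw [minpoly.dvd_iff, map_sum]
    simp [map_pow]
  rw [hT]
  have hk : 0 < orderOf g := orderOf_pos g
  have hord : ∀ v : V, ((∑ j ∈ Finset.range (orderOf g), ρ g ^ j) v = 0 →
      orderOf (⟨Multiplicative.ofAdd v, g⟩ : Multiplicative V ⋊[φ] G) = orderOf g) ∧
      ((∑ j ∈ Finset.range (orderOf g), ρ g ^ j) v ≠ 0 →
      orderOf (⟨Multiplicative.ofAdd v, g⟩ : Multiplicative V ⋊[φ] G) = p * orderOf g) := by
    intro v
    set x : Multiplicative V ⋊[φ] G := ⟨Multiplicative.ofAdd v, g⟩ with hx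
    have hxk := pow_eq ρ φ hφ v g (orderOf g)
    rw [← hx, pow_orderOf_eq_one] at hxk
    have hdvd : orderOf g ∣ orderOf x := orderOf_map_dvd SemidirectProduct.rightHom x
    have hw : x ^ orderOf g = SemidirectProduct.inl
        (Multiplicative.ofAdd ((∑ j ∈ Finset.range (orderOf g), ρ g ^ j) v)) := hxk
    have hpw : ∀ w : V, (Multiplicative.ofAdd w) ^ p = (1 : Multiplicative V) := fun w => by
      rw [← ofAdd_nsmul, ← Nat.cast_smul_eq_nsmul F, CharP.cast_eq_zero, zero_smul, ofAdd_zero]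
    have hxfin : x ^ (orderOf g * p) = 1 := by rw [pow_mul, hw, ← map_pow, hpw, map_one]
    have hne : orderOf x ≠ 0 := fun h0 => by
      have := orderOf_eq_zero_iff'.1 h0 _ (Nat.mul_pos hk hp.out.pos)
      exact this hxfin
    have hdiv : orderOf (x ^ orderOf g) * orderOf g = orderOf x := by
      rw [orderOf_pow' x hk.ne', Nat.gcd_eq_right hdvd, Nat.div_mul_cancel hdvd]
    refine ⟨fun h0 => ?_, fun h0 => ?_⟩
    · rw [← hdiv, hw, h0, ofAdd_zero, map_one, orderOf_one, one_mul]
    · rw [← hdiv, hw, orderOf_injective _ SemidirectProduct.inl_injective,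
        orderOf_eq_prime (hpw _) (fun h => h0 (Multiplicative.ofAdd.injective (h.trans ofAdd_zero.symm)))]
  constructor
  · rintro ⟨⟨v, g'⟩, rfl, hx⟩ h0
    have h1 := (hord (Multiplicative.toAdd v)).1 (by rw [h0, LinearMap.zero_apply])
    rw [ofAdd_toAdd] at h1
    rw [h1] at hx
    nlinarith [hp.out.one_lt]
  · intro h0
    obtain ⟨v, hv⟩ : ∃ v, (∑ j ∈ Finset.range (orderOf g), ρ g ^ j) v ≠ 0 := by
      by_contra hc
      exact h0 (LinearMap.ext fun v => not_not.1 fun h' => hc ⟨v, h'⟩)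
    exact ⟨_, rfl, (hord v).2 hv⟩

end Cfsg.Agent.Small.SplitCoset
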