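import Cfsg.Agent.Lib.Small.WeylCosets
import Cfsg.Agent.Lib.Lie.AllFacts
import Cfsg.Agent.Lib.Lie.BruhatAux
import Cfsg.Agent.Lib.Lie.Twist
import Cfsg.Agent.Lib.Char.DadeGen
import Cfsg.Agent.Lib.Char.Coherence
import Cfsg.Agent.Lib.Small.Flags.Character
import Cfsg.Prelude.Def_ParabolicCharacters

/-!
Cosets of standard parabolic subgroups of Chevalley groups and the Steinberg character.
-/

set_option autoImplicit false
set_option synthInstance.maxHeartbeats 400000

namespace Cfsg.Agent.Small.StChar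

open Cfsg Cfsg.Lie Cfsg.Agent.Lie Cfsg.Agent.Small.WeylCosets

variable {D : ChevalleyDatum} (hF : Facts D) {F : Type*} [Field F]

/-- Nodes in a set of indices. -/
def nodes (D : ChevalleyDatum) (J : Finset ℕ) : Set (Fin D.rank) := {i | i.val ∈ J}

/-- The element lies in B n_w B. -/
def InCell (w : hF.weyl) (g : GL D.Idx F) : Prop :=
  ∃ b ∈ (hF.tsys F).B, ∃ b' ∈ (hF.tsys F).B, g = b * (hF.tsys F).nW w * b'

theorem inCell_unique {w v : hF.weyl} {g : GL D.Idx F} (h : InCell hF w g) (h' : InCell hF v g) :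
    w = v := by
  obtain ⟨b, hb, b', hb', rfl⟩ := h
  obtain ⟨c, hc, c', hc', he⟩ := h'
  exact (hF.tsys F).bruhat_eq hF.hsep hb hb' hc hc' he

theorem inCell_mul_B {w : hF.weyl} {g b b' : GL D.Idx F} (h : InCell hF w g)
    (hb : b ∈ (hF.tsys F).B) (hb' : b' ∈ (hF.tsys F).B) : InCell hF w (b * g * b') := by
  obtain ⟨c, hc, c', hc', rfl⟩ := h
  exact ⟨b * c, mul_mem hb hc, c' * b', mul_mem hc' hb', by group⟩

theorem inCell_one {g : GL D.Idx F} (hg : g ∈ (hF.tsys F).B) : InCell hF 1 g :=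
  ⟨g * ((hF.tsys F).nW 1)⁻¹, mul_mem hg ((hF.tsys F).H_le_B (inv_mem (hF.tsys F).nW_one)), 1,
    one_mem _, by group⟩

theorem inCell_nW (w : hF.weyl) : InCell (F := F) hF w ((hF.tsys F).nW w) :=
  ⟨1, one_mem _, 1, one_mem _, by group⟩

theorem inCell_inv {w : hF.weyl} {g : GL D.Idx F} (h : InCell hF w g) : InCell hF w⁻¹ g⁻¹ := by
  obtain ⟨b, hb, b', hb', rfl⟩ := h
  obtain ⟨a, ha, hae⟩ := hF.nW_mul (F := F) w w⁻¹
  rw [mul_inv_cancel] at hae
  refine ⟨b'⁻¹, inv_mem hb', (a * (hF.tsys F).nW 1)⁻¹ * b⁻¹,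
    mul_mem (inv_mem ((hF.tsys F).H_le_B (mul_mem ha (hF.tsys F).nW_one))) (inv_mem hb), ?_⟩
  rw [← hae]
  group

theorem inCell_nS (i : Fin D.rank) {w : hF.weyl} {g : GL D.Idx F} (h : InCell hF w g) :
    InCell hF (hF.wS i * w) ((hF.tsys F).nS i * g) ∨
      (InCell hF w ((hF.tsys F).nS i * g) ∧ w⁻¹ • hF.refSys.α i ∉ hF.refSys.P) := by
  obtain ⟨b, hb, b', hb', rfl⟩ := h
  rcases (hF.tsys F).nS_mul_mem i hb w with ⟨b1, h1, b2, h2, he⟩ | ⟨b1, h1, b2, h2, he, hn⟩
  · exact Or.inl ⟨b1, h1, b2 * b', mul_mem h2 hb', by rw [← mul_assoc, ← mul_assoc, he]; group⟩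
  · exact Or.inr ⟨⟨b1, h1, b2 * b', mul_mem h2 hb', by rw [← mul_assoc, ← mul_assoc, he]; group⟩, hn⟩

theorem inCell_mul_left {J : Set (Fin D.rank)} {v w : hF.weyl} (hv : v ∈ WJ hF.refSys J)
    {g g' : GL D.Idx F} (h : InCell hF v g) (h' : InCell hF w g') :
    ∃ v' ∈ WJ hF.refSys J, InCell hF (v' * w) (g * g') := by
  obtain ⟨ω, hω, rfl⟩ := exists_word_mem hF.refSys hv
  clear hv
  induction ω generalizing g with
  | nil =>
    obtain ⟨b, hb, b', hb', rfl⟩ := h
    refine ⟨1, one_mem _, ?_⟩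
    rw [one_mul]
    simpa using inCell_mul_B hF h'
      (mul_mem (mul_mem hb ((hF.tsys F).H_le_B (hF.tsys F).nW_one)) hb') (one_mem _)
  | cons i ω ih =>
    obtain ⟨b, hb, b', hb', rfl⟩ := h
    obtain ⟨a, ha, hae⟩ := (hF.tsys F).nS_nW i (hF.refSys.pr ω)
    rw [RefSystem.pr_cons, show hF.refSys.s i = hF.wS i from rfl]
    obtain ⟨v', hv', hc⟩ := ih (fun k hk => hω k (List.mem_cons_of_mem _ hk))
      (g := (hF.tsys F).nW (hF.refSys.pr ω) * b')
      ⟨1, one_mem _, b', hb', by group⟩
    have e : b * (hF.tsys F).nW (hF.wS i * hF.refSys.pr ω) * b' * g' =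
        b * a⁻¹ * ((hF.tsys F).nS i * ((hF.tsys F).nW (hF.refSys.pr ω) * b' * g')) * 1 := by
      rw [show (hF.tsys F).nW (hF.wS i * hF.refSys.pr ω) =
        a⁻¹ * ((hF.tsys F).nS i * (hF.tsys F).nW (hF.refSys.pr ω)) by rw [hae]; group]
      group
    rw [e]
    have hba : b * a⁻¹ ∈ (hF.tsys F).B := mul_mem hb ((hF.tsys F).H_le_B (inv_mem ha))
    rcases inCell_nS hF i hc with h1 | ⟨h1, -⟩
    · refine ⟨hF.wS i * v', mul_mem (s_mem hF.refSys (hω i List.mem_cons_self)) hv', ?_⟩
      rw [mul_assoc (hF.wS i)]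
      exact inCell_mul_B hF h1 hba (one_mem _)
    · exact ⟨v', hv', inCell_mul_B hF h1 hba (one_mem _)⟩

theorem inCell_mul_right {J : Set (Fin D.rank)} {v w : hF.weyl} (hv : v ∈ WJ hF.refSys J)
    {g g' : GL D.Idx F} (h : InCell hF w g) (h' : InCell hF v g') :
    ∃ v' ∈ WJ hF.refSys J, InCell hF (w * v') (g * g') := by
  obtain ⟨u, hu, hc⟩ := inCell_mul_left hF (inv_mem hv) (inCell_inv hF h') (inCell_inv hF h)
  refine ⟨u⁻¹, inv_mem hu, ?_⟩
  have h2 := inCell_inv hF hc
  rwa [_root_.mul_inv_rev, inv_inv, _root_.mul_inv_rev, inv_inv, inv_inv] at h2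

/-- Products of cells with additive lengths. -/
theorem inCell_mul_add {x v : hF.weyl} {g g' : GL D.Idx F} (h : InCell hF x g) (h' : InCell hF v g')
    (hlen : hF.refSys.len (x * v) = hF.refSys.len x + hF.refSys.len v) :
    InCell hF (x * v) (g * g') := by
  induction hn : hF.refSys.len x using Nat.strong_induction_on generalizing x g with
  | _ n ih =>
    subst hn
    obtain ⟨ω, hω, hwl⟩ := hF.refSys.exists_reduced x
    obtain ⟨b, hb, b', hb', rfl⟩ := h
    rcases ω with _ | ⟨i, q⟩
    · rw [RefSystem.pr_nil] at hω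
      subst hω
      rw [one_mul]
      simpa using inCell_mul_B hF h'
        (mul_mem (mul_mem hb ((hF.tsys F).H_le_B (hF.tsys F).nW_one)) hb') (one_mem _)
    · rw [RefSystem.pr_cons, show hF.refSys.s i = hF.wS i from rfl] at hω
      rw [List.length_cons] at hwl
      have hq := hF.refSys.len_pr_le q
      have hq' : hF.refSys.len (hF.refSys.pr q * v) ≤ hF.refSys.len (hF.refSys.pr q) + hF.refSys.len v := by
        obtain ⟨a, ha, hal⟩ := hF.refSys.exists_reduced (hF.refSys.pr q)
        obtain ⟨c, hc, hcl⟩ := hF.refSys.exists_reduced v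
        have := hF.refSys.len_pr_le (a ++ c)
        rw [RefSystem.pr_append, ha, hc, List.length_append, hal, hcl] at this
        exact this
      have hs : ∀ y : hF.weyl, hF.refSys.len (hF.wS i * y) ≤ hF.refSys.len y + 1 := by
        intro y
        obtain ⟨a, ha, hal⟩ := hF.refSys.exists_reduced y
        have := hF.refSys.len_pr_le (i :: a)
        rw [RefSystem.pr_cons, ha, List.length_cons, hal] at this
        exact this
      have h1 := hs (hF.refSys.pr q * v)
      rw [← mul_assoc, hω] at h1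
      obtain ⟨a, ha, hae⟩ := (hF.tsys F).nS_nW i (hF.refSys.pr q)
      rw [hω] at hae
      have hrec := ih (hF.refSys.len (hF.refSys.pr q)) (by omega) (x := hF.refSys.pr q)
        (g := (hF.tsys F).nW (hF.refSys.pr q) * b') ⟨1, one_mem _, b', hb', by group⟩ (by omega) rfl
      have e : b * (hF.tsys F).nW x * b' * g' =
          b * a⁻¹ * ((hF.tsys F).nS i * ((hF.tsys F).nW (hF.refSys.pr q) * b' * g')) * 1 := by
        rw [show (hF.tsys F).nW x = a⁻¹ * ((hF.tsys F).nS i * (hF.tsys F).nW (hF.refSys.pr q)) by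
          rw [hae]; group]
        group
      rw [e]
      refine inCell_mul_B hF ?_ (mul_mem hb ((hF.tsys F).H_le_B (inv_mem ha))) (one_mem _)
      rcases inCell_nS hF i hrec with h2 | ⟨-, hn⟩
      · rwa [← mul_assoc, hω] at h2
      · exfalso
        have h3 := hF.refSys.len_mul_s_of_not_mem hn
        rw [show hF.refSys.s i = (hF.refSys.s i)⁻¹ from (RefSystem.s_inv _ i).symm, ← _root_.mul_inv_rev,
          len_inv, len_inv, show hF.refSys.s i = hF.wS i from rfl, ← mul_assoc, hω] at h3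
        omega

theorem mem_parabolic_iff (J : Finset ℕ) {g : GL D.Idx F} :
    g ∈ D.parabolicSubgroup F (↑J : Set ℕ) ↔ ∃ v ∈ WJ hF.refSys (nodes D J), InCell hF v g := by
  constructor
  · intro hg
    let K : Subgroup (GL D.Idx F) :=
      { carrier := {g | ∃ v ∈ WJ hF.refSys (nodes D J), InCell hF v g}
        one_mem' := ⟨1, one_mem _, inCell_one hF (one_mem _)⟩
        mul_mem' := by
          rintro a b ⟨v, hv, h⟩ ⟨w, hw, h'⟩
          obtain ⟨v', hv', hc⟩ := inCell_mul_left hF hv h h'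
          exact ⟨v' * w, mul_mem hv' hw, hc⟩
        inv_mem' := by
          rintro a ⟨v, hv, h⟩
          exact ⟨v⁻¹, inv_mem hv, inCell_inv hF h⟩ }
    suffices hle : D.parabolicSubgroup F (↑J : Set ℕ) ≤ K from hle hg
    refine sup_le ?_ ((Subgroup.closure_le _).2 ?_)
    · intro b hb
      rw [← hF.tsys_B] at hb
      exact ⟨1, one_mem _, inCell_one hF hb⟩
    · rintro n ⟨j, hj, hjr, hn⟩
      rw [hF.eq_tsys_nS hjr hn]
      obtain ⟨a, ha, hae⟩ := (hF.tsys F).nw_eq (ω := [⟨j, hjr⟩]) (w := hF.wS ⟨j, hjr⟩)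
        (RefSystem.pr_singleton _ _)
      rw [TorusSys.nw_singleton] at hae
      exact ⟨hF.wS ⟨j, hjr⟩, s_mem hF.refSys (show (⟨j, hjr⟩ : Fin D.rank) ∈ nodes D J from hj),
        a, (hF.tsys F).H_le_B ha, 1, one_mem _, by rw [mul_one, hae]⟩
  · rintro ⟨v, hv, b, hb, b', hb', rfl⟩
    have hB : ∀ c ∈ (hF.tsys F).B, c ∈ D.parabolicSubgroup F (↑J : Set ℕ) := fun c hc =>
      Subgroup.mem_sup_left (by rwa [← hF.tsys_B])
    refine mul_mem (mul_mem (hB b hb) ?_) (hB b' hb')
    obtain ⟨ω, hω, rfl⟩ := exists_word_mem hF.refSys hv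
    obtain ⟨a, ha, hae⟩ := (hF.tsys F).nw_eq (ω := ω) (w := hF.refSys.pr ω) rfl
    rw [show (hF.tsys F).nW (hF.refSys.pr ω) = a⁻¹ * (hF.tsys F).nw ω by rw [hae]; group]
    refine mul_mem (hB _ ((hF.tsys F).H_le_B (inv_mem ha))) (Subgroup.list_prod_mem _ fun n hn => ?_)
    obtain ⟨i, hi, rfl⟩ := List.mem_map.1 hn
    exact Subgroup.mem_sup_right (Subgroup.subset_closure
      ⟨i.val, hω i hi, i.isLt, by rw [hF.tsys_nS, hF.coe_ng]⟩)

theorem exists_cell (g : ↥(D.group F)) : ∃ w, InCell hF w (g : GL D.Idx F) := by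
  have hg : (g : GL D.Idx F) ∈ (hF.tsys F).G := by rw [hF.tsys_G]; exact g.2
  obtain ⟨b, hb, w, b', hb', he⟩ := (hF.tsys F).mem_BNB hg
  exact ⟨w, b, hb, b', hb', he⟩

/-- The cell of an element. -/
noncomputable def cell (g : ↥(D.group F)) : hF.weyl := Classical.choose (exists_cell hF g)

theorem cell_spec (g : ↥(D.group F)) : InCell hF (cell hF g) (g : GL D.Idx F) :=
  Classical.choose_spec (exists_cell hF g)

theorem cell_eq {g : ↥(D.group F)} {w : hF.weyl} (h : InCell hF w (g : GL D.Idx F)) : cell hF g = w :=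
  inCell_unique hF (cell_spec hF g) h

theorem mem_parabolicIn (J : Finset ℕ) {g : ↥(D.group F)} :
    g ∈ D.parabolicIn F J ↔ ∃ v ∈ WJ hF.refSys (nodes D J), InCell hF v (g : GL D.Idx F) :=
  mem_parabolic_iff hF J

theorem nW_mem_group (w : hF.weyl) : (hF.tsys F).nW w ∈ D.group F := by
  have : (hF.tsys F).nW w ∈ D.monomialSubgroup F := by
    rw [← hF.tsys_N]; exact (hF.tsys F).nW_mem_N w
  exact hF.monomial_le_group this

theorem B_mem_group {b : GL D.Idx F} (hb : b ∈ (hF.tsys F).B) : b ∈ D.group F := by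
  rw [hF.tsys_B] at hb
  exact hF.borel_le_group hb

/-- The minimal representative of a double coset. -/
noncomputable def rep (I J : Set (Fin D.rank)) (w : hF.weyl) : hF.weyl :=
  Classical.choose (exists_min2 hF.refSys I J w)

theorem rep_spec (I J : Set (Fin D.rank)) (w : hF.weyl) :
    IsMin hF.refSys I (rep hF I J w) ∧ IsMin hF.refSys J (rep hF I J w)⁻¹ ∧
      ∃ v ∈ WJ hF.refSys J, ∃ u ∈ WJ hF.refSys I, w = v * rep hF I J w * u :=
  Classical.choose_spec (exists_min2 hF.refSys I J w)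

theorem rep_eq {I J : Set (Fin D.rank)} {d v u : hF.weyl} (h1 : IsMin hF.refSys I d)
    (h2 : IsMin hF.refSys J d⁻¹) (hv : v ∈ WJ hF.refSys J) (hu : u ∈ WJ hF.refSys I) :
    rep hF I J (v * d * u) = d := by
  obtain ⟨r1, r2, v', hv', u', hu', he⟩ := rep_spec hF I J (v * d * u)
  exact min2_unique hF.refSys h1 h2 r1 r2 (mul_mem (inv_mem hv') hv) (mul_mem hu (inv_mem hu'))
    (calc rep hF I J (v * d * u) = v'⁻¹ * (v' * rep hF I J (v * d * u) * u') * u'⁻¹ := by group
      _ = _ := by rw [← he]; group)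

theorem rep_mul {I J : Set (Fin D.rank)} {v w u : hF.weyl} (hv : v ∈ WJ hF.refSys J)
    (hu : u ∈ WJ hF.refSys I) : rep hF I J (v * w * u) = rep hF I J w := by
  obtain ⟨r1, r2, v', hv', u', hu', he⟩ := rep_spec hF I J w
  conv_lhs => rw [he]
  rw [show v * (v' * rep hF I J w * u') * u = v * v' * rep hF I J w * (u' * u) by group]
  exact rep_eq hF r1 r2 (mul_mem hv hv') (mul_mem hu' hu)

theorem cell_translate (I J : Finset ℕ) {g p p' : ↥(D.group F)} (hp : p ∈ D.parabolicIn F J)
    (hp' : p' ∈ D.parabolicIn F I) :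
    ∃ v ∈ WJ hF.refSys (nodes D J), ∃ u ∈ WJ hF.refSys (nodes D I),
      cell hF (p * g * p') = v * cell hF g * u := by
  obtain ⟨v, hv, hcv⟩ := (mem_parabolicIn hF J).1 hp
  obtain ⟨u, hu, hcu⟩ := (mem_parabolicIn hF I).1 hp'
  obtain ⟨v', hv', h1⟩ := inCell_mul_left hF hv hcv (cell_spec hF g)
  obtain ⟨u', hu', h2⟩ := inCell_mul_right hF hu h1 hcu
  exact ⟨v', hv', u', hu', cell_eq hF h2⟩

/-- The orbits on pairs of cosets are the minimal double coset representatives. -/
theorem card_orbits (I J : Finset ℕ) :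
    Nat.card (Quotient (MulAction.orbitRel ↥(D.group F)
      ((↥(D.group F) ⧸ D.parabolicIn F J) × (↥(D.group F) ⧸ D.parabolicIn F I)))) =
    Nat.card {d : hF.weyl // IsMin hF.refSys (nodes D I) d ∧ IsMin hF.refSys (nodes D J) d⁻¹} := by
  let f : (↥(D.group F) ⧸ D.parabolicIn F J) × (↥(D.group F) ⧸ D.parabolicIn F I) →
      {d : hF.weyl // IsMin hF.refSys (nodes D I) d ∧ IsMin hF.refSys (nodes D J) d⁻¹} := fun q =>
    ⟨rep hF (nodes D I) (nodes D J) (cell hF (q.1.out⁻¹ * q.2.out)),
      (rep_spec hF _ _ _).1, (rep_spec hF _ _ _).2.1⟩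
  have hf : ∀ x y : ↥(D.group F), (f (↑x, ↑y)).1 = rep hF (nodes D I) (nodes D J) (cell hF (x⁻¹ * y)) := by
    intro x y
    obtain ⟨p, hp⟩ := QuotientGroup.mk_out_eq_mul (D.parabolicIn F J) x
    obtain ⟨p', hp'⟩ := QuotientGroup.mk_out_eq_mul (D.parabolicIn F I) y
    show rep hF _ _ (cell hF ((↑x : ↥(D.group F) ⧸ D.parabolicIn F J).out⁻¹ *
      (↑y : ↥(D.group F) ⧸ D.parabolicIn F I).out)) = _
    rw [hp, hp', _root_.mul_inv_rev, show (p : ↥(D.group F))⁻¹ * x⁻¹ * (y * p') =
      (p : ↥(D.group F))⁻¹ * (x⁻¹ * y) * p' by group]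
    obtain ⟨v, hv, u, hu, he⟩ := cell_translate hF I J (g := x⁻¹ * y) (inv_mem p.2) p'.2
    rw [he, rep_mul hF hv hu]
  have hinv : ∀ a b, MulAction.orbitRel ↥(D.group F) _ a b → f a = f b := by
    rintro a ⟨b1, b2⟩ ⟨g, rfl⟩
    induction b1 using QuotientGroup.induction_on with
    | H x =>
      induction b2 using QuotientGroup.induction_on with
      | H y =>
        refine Subtype.ext ?_
        show (f (((g * x : ↥(D.group F)) : ↥(D.group F) ⧸ D.parabolicIn F J),
          ((g * y : ↥(D.group F)) : ↥(D.group F) ⧸ D.parabolicIn F I))).1 = _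
        rw [hf, hf]
        congr 2
        group
  refine Nat.card_congr (Equiv.ofBijective (Quotient.lift f hinv) ⟨?_, ?_⟩)
  · intro a b
    induction a using Quotient.inductionOn with
    | h a =>
      induction b using Quotient.inductionOn with
      | h b =>
        obtain ⟨a1, a2⟩ := a
        obtain ⟨b1, b2⟩ := b
        induction a1 using QuotientGroup.induction_on with
        | H x =>
          induction a2 using QuotientGroup.induction_on with
          | H y =>
            induction b1 using QuotientGroup.induction_on with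
            | H x' =>
              induction b2 using QuotientGroup.induction_on with
              | H y' =>
                intro he
                have he' : (f (↑x, ↑y)).1 = (f (↑x', ↑y')).1 := congrArg Subtype.val he
                rw [hf, hf] at he'
                obtain ⟨-, -, v, hv, u, hu, e1⟩ := rep_spec hF (nodes D I) (nodes D J) (cell hF (x⁻¹ * y))
                obtain ⟨-, -, v', hv', u', hu', e2⟩ :=
                  rep_spec hF (nodes D I) (nodes D J) (cell hF (x'⁻¹ * y'))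
                rw [← he'] at e2
                set d := rep hF (nodes D I) (nodes D J) (cell hF (x⁻¹ * y))
                have e3 : cell hF (x⁻¹ * y) = v * v'⁻¹ * cell hF (x'⁻¹ * y') * (u'⁻¹ * u) := by
                  rw [e1, e2]; group
                obtain ⟨b, hb, b', hb', heq⟩ := cell_spec hF (x⁻¹ * y)
                obtain ⟨c, hc, c', hc', heq'⟩ := cell_spec hF (x'⁻¹ * y')
                rw [e3] at heq
                set w' := cell hF (x'⁻¹ * y')
                obtain ⟨z, hz, hze⟩ := hF.nW_mul (F := F) (v * v'⁻¹) w'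
                obtain ⟨z', hz', hze'⟩ := hF.nW_mul (F := F) (v * v'⁻¹ * w') (u'⁻¹ * u)
                have hn : (hF.tsys F).nW (v * v'⁻¹ * w' * (u'⁻¹ * u)) =
                    z'⁻¹ * z⁻¹ * (hF.tsys F).nW (v * v'⁻¹) * (hF.tsys F).nW w' *
                      (hF.tsys F).nW (u'⁻¹ * u) := by
                  rw [mul_assoc (z'⁻¹ * z⁻¹) ((hF.tsys F).nW _), hze,
                    show ∀ n m : GL D.Idx F, z'⁻¹ * z⁻¹ * (z * n) * m = z'⁻¹ * (n * m) from
                      fun n m => by group, hze', inv_mul_cancel_left]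
                let p : ↥(D.group F) := ⟨b * z'⁻¹ * z⁻¹ * (hF.tsys F).nW (v * v'⁻¹) * c⁻¹,
                  mul_mem (mul_mem (mul_mem (mul_mem (B_mem_group hF hb)
                    (inv_mem (B_mem_group hF ((hF.tsys F).H_le_B hz'))))
                    (inv_mem (B_mem_group hF ((hF.tsys F).H_le_B hz)))) (nW_mem_group hF _))
                    (inv_mem (B_mem_group hF hc))⟩
                let p' : ↥(D.group F) := ⟨c'⁻¹ * (hF.tsys F).nW (u'⁻¹ * u) * b',
                  mul_mem (mul_mem (inv_mem (B_mem_group hF hc')) (nW_mem_group hF _)) (B_mem_group hF hb')⟩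
                have hp : p ∈ D.parabolicIn F J := (mem_parabolicIn hF J).2 ⟨v * v'⁻¹,
                  mul_mem hv (inv_mem hv'), b * z'⁻¹ * z⁻¹,
                  mul_mem (mul_mem hb (inv_mem ((hF.tsys F).H_le_B hz'))) (inv_mem ((hF.tsys F).H_le_B hz)),
                  c⁻¹, inv_mem hc, rfl⟩
                have hp' : p' ∈ D.parabolicIn F I := (mem_parabolicIn hF I).2 ⟨u'⁻¹ * u,
                  mul_mem (inv_mem hu') hu, c'⁻¹, inv_mem hc', b', hb', rfl⟩
                have hkey : x⁻¹ * y = p * (x'⁻¹ * y') * p' := by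
                  refine Subtype.ext ?_
                  rw [heq, hn]
                  simp only [Subgroup.coe_mul, p, p']
                  simp only [Subgroup.coe_mul] at heq'
                  rw [heq']
                  group
                refine Quotient.sound ⟨x * p * x'⁻¹, ?_⟩
                refine Prod.ext ?_ ?_
                · show ((x * p * x'⁻¹ * x' : ↥(D.group F)) : ↥(D.group F) ⧸ D.parabolicIn F J) = x
                  rw [QuotientGroup.eq]
                  simpa [mul_assoc] using inv_mem hp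
                · show ((x * p * x'⁻¹ * y' : ↥(D.group F)) : ↥(D.group F) ⧸ D.parabolicIn F I) = y
                  rw [QuotientGroup.eq]
                  have : (x * p * x'⁻¹ * y')⁻¹ * y = p' := by
                    rw [show y = x * (x⁻¹ * y) by group, hkey]; group
                  rw [this]; exact hp'
  · intro d
    refine ⟨Quotient.mk _ (((1 : ↥(D.group F)) : ↥(D.group F) ⧸ D.parabolicIn F J),
      ((⟨(hF.tsys F).nW d.1, nW_mem_group hF _⟩ : ↥(D.group F)) : ↥(D.group F) ⧸ D.parabolicIn F I)), ?_⟩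
    show f (_, _) = d
    refine Subtype.ext ?_
    rw [hf, cell_eq hF (w := d.1) (by simpa using inCell_nW (F := F) hF d.1)]
    simpa using rep_eq hF d.2.1 d.2.2 (one_mem _) (one_mem _)

theorem exists_longest' : ∃ L : hF.weyl, (∀ j, L • hF.refSys.α j ∉ hF.refSys.P) ∧
    (∀ j, L⁻¹ • hF.refSys.α j ∉ hF.refSys.P) ∧ ∀ w : hF.weyl, (∀ j, w • hF.refSys.α j ∉ hF.refSys.P) → w = L := by
  obtain ⟨L, hL⟩ := hF.exists_longest
  have hinv : ∀ j, L⁻¹ • hF.refSys.α j ∉ hF.refSys.P := fun j hj => by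
    have := hL _ hj
    rw [smul_inv_smul] at this
    exact this (hF.refSys.α_mem j)
  refine ⟨L, fun j => hL _ (hF.refSys.α_mem j), hinv, fun w hw => ?_⟩
  have hasc : ∀ j ∈ (Set.univ : Set (Fin D.rank)), (L * w) • hF.refSys.α j ∈ hF.refSys.P := by
    intro j _
    have h1 : hF.refSys.neg (w • hF.refSys.α j) ∈ hF.refSys.P := (hF.refSys.neg_mem _).2 (hw j)
    have h2 := hL _ h1
    rw [RefSystem.smul_neg, hF.refSys.neg_mem, not_not] at h2
    rwa [mul_smul]
  have htop : WJ hF.refSys (Set.univ : Set (Fin D.rank)) = ⊤ := by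
    rw [WJ, Set.image_univ]; exact hF.refSys.gen
  have h3 := ((isMin_iff hF.refSys).2 hasc) (L * w)⁻¹ (htop ▸ Subgroup.mem_top _)
  rw [mul_inv_cancel, RefSystem.len_one] at h3
  have h4 := hF.refSys.eq_one_of_len_eq_zero (Nat.le_zero.1 h3)
  -- w and L are inverse
  have h5 : w = L⁻¹ := eq_inv_of_mul_eq_one_right h4
  have hasc' : ∀ j ∈ (Set.univ : Set (Fin D.rank)), (L * L) • hF.refSys.α j ∈ hF.refSys.P := by
    intro j _
    have h1 : hF.refSys.neg (L • hF.refSys.α j) ∈ hF.refSys.P :=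
      (hF.refSys.neg_mem _).2 (hL _ (hF.refSys.α_mem j))
    have h2 := hL _ h1
    rw [RefSystem.smul_neg, hF.refSys.neg_mem, not_not] at h2
    rwa [mul_smul]
  have h6 := ((isMin_iff hF.refSys).2 hasc') (L * L)⁻¹ (htop ▸ Subgroup.mem_top _)
  rw [mul_inv_cancel, RefSystem.len_one] at h6
  rw [h5]
  exact inv_eq_of_mul_eq_one_right (hF.refSys.eq_one_of_len_eq_zero (Nat.le_zero.1 h6))

/-- The alternating sum over subsets of a set of ascents. -/
theorem alt_sum {n : ℕ} (P : Fin n → Prop) [DecidablePred P] :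
    (∑ J ∈ (Finset.range n).powerset, (-1 : ℤ) ^ J.card * if (∀ i : Fin n, i.val ∈ J → P i) then 1 else 0) =
      if (∀ i, ¬ P i) then 1 else 0 := by
  classical
  let A : Finset ℕ := (Finset.univ.filter P).map Fin.valEmbedding
  have hA : ∀ J ∈ (Finset.range n).powerset, (∀ i : Fin n, i.val ∈ J → P i) ↔ J ⊆ A := by
    intro J hJ
    rw [Finset.mem_powerset] at hJ
    refine ⟨fun h x hx => ?_, fun h i hi => ?_⟩
    · exact Finset.mem_map.2 ⟨⟨x, Finset.mem_range.1 (hJ hx)⟩,
        Finset.mem_filter.2 ⟨Finset.mem_univ _, h ⟨x, _⟩ hx⟩, rfl⟩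
    · obtain ⟨a, ha, hai⟩ := Finset.mem_map.1 (h hi)
      obtain rfl : a = i := Fin.ext hai
      exact (Finset.mem_filter.1 ha).2
  have hsub : A ⊆ Finset.range n := fun x hx => by
    obtain ⟨a, -, rfl⟩ := Finset.mem_map.1 hx
    exact Finset.mem_range.2 a.isLt
  have e : ((Finset.range n).powerset.filter fun J => J ⊆ A) = A.powerset := by
    ext J
    simp only [Finset.mem_filter, Finset.mem_powerset]
    exact ⟨fun h => h.2, fun h => ⟨h.trans hsub, h⟩⟩
  rw [Finset.sum_congr rfl fun J hJ => by rw [if_congr (hA J hJ) rfl rfl, mul_ite, mul_one, mul_zero],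
    ← Finset.sum_filter, e, Finset.sum_powerset_neg_one_pow_card]
  refine if_congr ⟨fun h i hi => ?_, fun h => ?_⟩ rfl rfl
  · have : i.val ∈ A := Finset.mem_map.2 ⟨i, Finset.mem_filter.2 ⟨Finset.mem_univ _, hi⟩, rfl⟩
    simp [h] at this
  · exact Finset.map_eq_empty.2 (Finset.filter_eq_empty_iff.2 fun i _ => h i)

variable [Fintype F]

omit [Fintype F] in
theorem steinberg_eq (g : ↥(D.group F)) :
    D.steinbergCharacter F g = ∑ J ∈ (Finset.range D.rank).powerset,
      (((-1 : ℤ) ^ J.card : ℤ) : ℂ) * fixedPointCharacter (D.parabolicIn F J) g := by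
  simp [ChevalleyDatum.steinbergCharacter]

include hF in
theorem norm_one [Fintype ↥(D.group F)] :
    classInner (D.steinbergCharacter F) (D.steinbergCharacter F) = 1 := by
  classical
  obtain ⟨L, hL, hLi, huniq⟩ := exists_longest' hF
  have := Fintype.ofFinite hF.weyl
  have hcount : ∀ J I, classInner (fixedPointCharacter (D.parabolicIn F J))
      (fixedPointCharacter (D.parabolicIn F I)) =
      ((∑ d : hF.weyl, if (∀ i : Fin D.rank, i.val ∈ I → d • hF.refSys.α i ∈ hF.refSys.P) then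
        (if (∀ j : Fin D.rank, j.val ∈ J → d⁻¹ • hF.refSys.α j ∈ hF.refSys.P) then (1 : ℤ) else 0)
        else 0 : ℤ) : ℂ) := by
    intro J I
    rw [classInner]
    simp only [Flags.conj_fixedPointCharacter]
    rw [Flags.sum_fixedPointCharacter_mul, card_orbits hF I J, Nat.card_eq_fintype_card,
      Fintype.card_subtype]
    have : (Finset.univ.filter fun d : hF.weyl => IsMin hF.refSys (nodes D I) d ∧
        IsMin hF.refSys (nodes D J) d⁻¹).card = (Finset.univ.filter fun d : hF.weyl =>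
        (∀ i : Fin D.rank, i.val ∈ I → d • hF.refSys.α i ∈ hF.refSys.P) ∧
        (∀ j : Fin D.rank, j.val ∈ J → d⁻¹ • hF.refSys.α j ∈ hF.refSys.P)).card := by
      congr 1
      refine Finset.filter_congr fun d _ => ?_
      exact and_congr (isMin_iff hF.refSys) (isMin_iff hF.refSys)
    rw [this, Finset.card_filter]
    push_cast
    refine Finset.sum_congr rfl fun d _ => ?_
    by_cases h : ∀ i : Fin D.rank, i.val ∈ I → d • hF.refSys.α i ∈ hF.refSys.P
    · rw [if_pos h]
      by_cases h2 : ∀ j : Fin D.rank, j.val ∈ J → d⁻¹ • hF.refSys.α j ∈ hF.refSys.P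
      · rw [if_pos h2, if_pos ⟨h, h2⟩]
      · rw [if_neg h2, if_neg fun h' => h2 h'.2]
    · rw [if_neg h, if_neg fun h' => h h'.1]
  have hfun : D.steinbergCharacter F = ∑ J ∈ (Finset.range D.rank).powerset,
      (((-1 : ℤ) ^ J.card : ℤ) : ℂ) • fixedPointCharacter (D.parabolicIn F J) := by
    funext g
    rw [steinberg_eq, Finset.sum_apply]
    rfl
  rw [hfun, Char.classInner_sum_left]
  simp only [Char.classInner_smul_left, Char.classInner_sum_right, Char.classInner_smul_right, hcount,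
    map_intCast, ← Int.cast_mul, ← Int.cast_sum]
  rw [show (1 : ℂ) = ((1 : ℤ) : ℂ) by simp]
  congr 1
  have hI : ∀ J : Finset ℕ,
      (∑ I ∈ (Finset.range D.rank).powerset, (-1 : ℤ) ^ I.card * ∑ d : hF.weyl,
        if (∀ i : Fin D.rank, i.val ∈ I → d • hF.refSys.α i ∈ hF.refSys.P) then
          (if (∀ j : Fin D.rank, j.val ∈ J → d⁻¹ • hF.refSys.α j ∈ hF.refSys.P) then (1 : ℤ) else 0)
          else 0) =
      if (∀ j : Fin D.rank, j.val ∈ J → L⁻¹ • hF.refSys.α j ∈ hF.refSys.P) then 1 else 0 := by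
    intro J
    simp only [Finset.mul_sum]
    rw [Finset.sum_comm, Finset.sum_eq_single L]
    · have h := alt_sum (fun i : Fin D.rank => L • hF.refSys.α i ∈ hF.refSys.P)
      rw [if_pos hL] at h
      by_cases hJ : ∀ j : Fin D.rank, j.val ∈ J → L⁻¹ • hF.refSys.α j ∈ hF.refSys.P
      · simp only [if_pos hJ]; exact h
      · simp [if_neg hJ]
    · intro d _ hd
      by_cases hJ : ∀ j : Fin D.rank, j.val ∈ J → d⁻¹ • hF.refSys.α j ∈ hF.refSys.P
      · simp only [if_pos hJ]
        rw [alt_sum (fun i : Fin D.rank => d • hF.refSys.α i ∈ hF.refSys.P),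
          if_neg fun h => hd (huniq d h)]
      · simp [if_neg hJ]
    · exact fun h => absurd (Finset.mem_univ _) h
  have h := alt_sum (fun i : Fin D.rank => L⁻¹ • hF.refSys.α i ∈ hF.refSys.P)
  rw [if_pos hLi] at h
  refine Eq.trans (Finset.sum_congr rfl fun J _ => ?_) h
  rw [← hI J, Finset.mul_sum]
  exact Finset.sum_congr rfl fun I _ => mul_left_comm _ _ _

/-- The natural map from cosets of B to cosets of a parabolic subgroup. -/
def proj (I : Finset ℕ) : ↥(D.group F) ⧸ (D.borelSubgroup F).subgroupOf (D.group F) →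
    ↥(D.group F) ⧸ D.parabolicIn F I :=
  Quotient.map' id fun a b h => by
    rw [QuotientGroup.leftRel_apply] at h ⊢
    exact Subgroup.mem_sup_left h

theorem proj_mk (I : Finset ℕ) (g : ↥(D.group F)) :
    proj (D := D) (F := F) I (g : ↥(D.group F) ⧸ (D.borelSubgroup F).subgroupOf (D.group F)) =
      (g : ↥(D.group F) ⧸ D.parabolicIn F I) := rfl

/-- The cell of a coset of B. -/
noncomputable def qcell (q : ↥(D.group F) ⧸ (D.borelSubgroup F).subgroupOf (D.group F)) : hF.weyl :=
  cell hF q.out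

theorem qcell_mk (g : ↥(D.group F)) :
    qcell hF (g : ↥(D.group F) ⧸ (D.borelSubgroup F).subgroupOf (D.group F)) = cell hF g := by
  obtain ⟨p, hp⟩ := QuotientGroup.mk_out_eq_mul ((D.borelSubgroup F).subgroupOf (D.group F)) g
  refine cell_eq hF ?_
  rw [hp]
  have := inCell_mul_B hF (cell_spec hF g) (one_mem _) (b' := ((p : ↥(D.group F)) : GL D.Idx F))
    (by rw [hF.tsys_B]; exact p.2)
  simpa using this

theorem cell_B_mul (b : ↥((D.borelSubgroup F).subgroupOf (D.group F))) (g : ↥(D.group F)) :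
    cell hF ((b : ↥(D.group F)) * g) = cell hF g := by
  refine cell_eq hF ?_
  have := inCell_mul_B hF (cell_spec hF g) (b := ((b : ↥(D.group F)) : GL D.Idx F))
    (by rw [hF.tsys_B]; exact b.2) (one_mem _)
  simpa using this

/-- The projection is injective on minimal cells. -/
theorem proj_inj (I : Finset ℕ) {q q' : ↥(D.group F) ⧸ (D.borelSubgroup F).subgroupOf (D.group F)}
    (hq : IsMin hF.refSys (nodes D I) (qcell hF q)) (hq' : IsMin hF.refSys (nodes D I) (qcell hF q'))
    (he : proj I q = proj I q') : q = q' := by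
  induction q using QuotientGroup.induction_on with
  | H g =>
    induction q' using QuotientGroup.induction_on with
    | H g' =>
      rw [qcell_mk] at hq hq'
      rw [proj_mk, proj_mk, QuotientGroup.eq] at he
      rw [QuotientGroup.eq]
      obtain ⟨v, hv, hc⟩ := (mem_parabolicIn hF I).1 he
      have h1 := inCell_mul_add hF (cell_spec hF g) hc (len_add hF.refSys hq hv)
      rw [← Subgroup.coe_mul, mul_inv_cancel_left] at h1
      have h2 := min_unique hF.refSys hq (by rwa [cell_eq hF h1] at hq') (by rwa [inv_mul_cancel_left])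
      have hv1 : v = 1 := by simpa using h2.symm
      subst hv1
      obtain ⟨c, hc1, c', hc2, hce⟩ := hc
      rw [Subgroup.mem_subgroupOf, hce, ← hF.tsys_B]
      exact mul_mem (mul_mem hc1 ((hF.tsys F).H_le_B (hF.tsys F).nW_one)) hc2

/-- Every coset is the projection of one in a minimal cell, fixed when the coset is. -/
theorem exists_proj (I : Finset ℕ) (y : ↥(D.group F) ⧸ D.parabolicIn F I) :
    ∃ q, IsMin hF.refSys (nodes D I) (qcell hF q) ∧ proj I q = y ∧
      ∀ b : ↥((D.borelSubgroup F).subgroupOf (D.group F)),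
        (b : ↥(D.group F)) • y = y → (b : ↥(D.group F)) • q = q := by
  induction y using QuotientGroup.induction_on with
  | H g =>
    obtain ⟨x, hx, hxv⟩ := exists_min hF.refSys (nodes D I) (cell hF g)
    obtain ⟨c, hc, c', hc', hce⟩ := cell_spec hF g
    let g₁ : ↥(D.group F) := ⟨c * (hF.tsys F).nW x, mul_mem (B_mem_group hF hc) (nW_mem_group hF x)⟩
    have hg₁ : cell hF g₁ = x := cell_eq hF ⟨c, hc, 1, one_mem _, (mul_one _).symm⟩
    have heq : (g₁ : ↥(D.group F) ⧸ D.parabolicIn F I) = g := by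
      rw [QuotientGroup.eq]
      obtain ⟨a, ha, hae⟩ := hF.nW_mul (F := F) x (x⁻¹ * cell hF g)
      rw [mul_inv_cancel_left] at hae
      refine (mem_parabolicIn hF I).2 ⟨x⁻¹ * cell hF g, hxv,
        ((hF.tsys F).nW x)⁻¹ * a⁻¹ * (hF.tsys F).nW x, (hF.tsys F).H_le_B ((hF.tsys F).nW_H' (inv_mem ha)),
        c', hc', ?_⟩
      show (c * (hF.tsys F).nW x)⁻¹ * (g : GL D.Idx F) = _
      rw [hce, show (hF.tsys F).nW (cell hF g) = a⁻¹ * ((hF.tsys F).nW x *
        (hF.tsys F).nW (x⁻¹ * cell hF g)) by rw [hae]; group]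
      group
    refine ⟨(g₁ : _ ⧸ _), by rw [qcell_mk, hg₁]; exact hx, by rw [proj_mk, heq], fun b hy => ?_⟩
    rw [MulAction.Quotient.smul_coe, smul_eq_mul]
    refine proj_inj hF I (by rw [qcell_mk, cell_B_mul, hg₁]; exact hx)
      (by rw [qcell_mk, hg₁]; exact hx) ?_
    rw [proj_mk, proj_mk, ← smul_eq_mul, ← MulAction.Quotient.smul_coe, heq]
    exact hy

theorem proj_smul (I : Finset ℕ) (b : ↥(D.group F))
    (q : ↥(D.group F) ⧸ (D.borelSubgroup F).subgroupOf (D.group F)) :
    proj I (b • q) = b • proj (D := D) (F := F) I q := by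
  induction q using QuotientGroup.induction_on with
  | H g => rw [MulAction.Quotient.smul_coe, proj_mk, proj_mk, MulAction.Quotient.smul_coe]

include hF in
theorem fixed_parabolic (I : Finset ℕ) (b : ↥((D.borelSubgroup F).subgroupOf (D.group F))) :
    Nat.card (MulAction.fixedBy (↥(D.group F) ⧸ D.parabolicIn F I) (b : ↥(D.group F))) =
      Nat.card {q : ↥(D.group F) ⧸ (D.borelSubgroup F).subgroupOf (D.group F) //
        (b : ↥(D.group F)) • q = q ∧ IsMin hF.refSys (nodes D I) (qcell hF q)} := by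
  refine (Nat.card_congr (Equiv.ofBijective
    (fun q : {q : ↥(D.group F) ⧸ (D.borelSubgroup F).subgroupOf (D.group F) //
        (b : ↥(D.group F)) • q = q ∧ IsMin hF.refSys (nodes D I) (qcell hF q)} =>
      (⟨proj I q.1, by rw [MulAction.mem_fixedBy, ← proj_smul, q.2.1]⟩ :
        MulAction.fixedBy (↥(D.group F) ⧸ D.parabolicIn F I) (b : ↥(D.group F))))
    ⟨fun q q' he => Subtype.ext (proj_inj hF I q.2.2 q'.2.2 (congrArg Subtype.val he)), ?_⟩)).symm
  rintro ⟨y, hy⟩
  obtain ⟨q, hq, hqy, hfix⟩ := exists_proj hF I y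
  exact ⟨⟨q, hfix b hy, hq⟩, Subtype.ext hqy⟩

include hF in
/-- The Steinberg character on B is the permutation character on the cosets of H. -/
theorem restrict_B (b : ↥((D.borelSubgroup F).subgroupOf (D.group F))) :
    D.steinbergCharacter F (b : ↥(D.group F)) =
      fixedPointCharacter (((D.diagonalSubgroup F).subgroupOf (D.group F)).subgroupOf
        ((D.borelSubgroup F).subgroupOf (D.group F))) b := by
  classical
  obtain ⟨L, hL, hLi, huniq⟩ := exists_longest' hF
  have hLL : L⁻¹ = L := huniq _ hLi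
  have := Fintype.ofFinite (↥(D.group F) ⧸ (D.borelSubgroup F).subgroupOf (D.group F))
  have h1 : D.steinbergCharacter F (b : ↥(D.group F)) =
      (Nat.card {q : ↥(D.group F) ⧸ (D.borelSubgroup F).subgroupOf (D.group F) //
        (b : ↥(D.group F)) • q = q ∧ qcell hF q = L} : ℂ) := by
    rw [steinberg_eq]
    simp only [fixedPointCharacter, fixed_parabolic hF, Nat.card_eq_fintype_card, Fintype.card_subtype,
      Finset.card_filter]
    push_cast
    simp only [Finset.mul_sum]
    rw [Finset.sum_comm]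
    refine Finset.sum_congr rfl fun q _ => ?_
    by_cases hq : (b : ↥(D.group F)) • q = q
    · have h := congrArg (Int.cast (R := ℂ))
        (alt_sum (fun i : Fin D.rank => qcell hF q • hF.refSys.α i ∈ hF.refSys.P))
      push_cast at h
      simp only [hq, true_and, isMin_iff hF.refSys]
      refine Eq.trans (Finset.sum_congr rfl fun J _ => ?_)
        (h.trans (if_congr ⟨fun h' => huniq _ h', fun h' => h' ▸ hL⟩ rfl rfl))
      congr 1
      exact if_congr Iff.rfl rfl rfl
    · simp [hq]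
  rw [h1, fixedPointCharacter]
  congr 1
  let nL : ↥(D.group F) := ⟨(hF.tsys F).nW L, nW_mem_group hF L⟩
  have hHn : ∀ z : ↥((D.borelSubgroup F).subgroupOf (D.group F)),
      z ∈ ((D.diagonalSubgroup F).subgroupOf (D.group F)).subgroupOf
        ((D.borelSubgroup F).subgroupOf (D.group F)) ↔
      nL⁻¹ * (z : ↥(D.group F)) * nL ∈ (D.borelSubgroup F).subgroupOf (D.group F) := by
    intro z
    simp only [Subgroup.mem_subgroupOf, Subgroup.coe_mul, Subgroup.coe_inv, nL]
    have eB := hF.tsys_B (F := F)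
    have eH := hF.tsys_H (F := F)
    refine ⟨fun h => eB.le ((hF.tsys F).H_le_B ((hF.tsys F).nW_H' (eH.ge h))), fun h => eH.le ?_⟩
    replace h := eB.ge h
    have hzB : ((z : ↥(D.group F)) : GL D.Idx F) ∈ (hF.tsys F).B := by rw [hF.tsys_B]; exact z.2
    obtain ⟨a, ha, u, hu, hau⟩ := (hF.tsys F).mem_B' hzB
    rw [hau] at h ⊢
    have hu' : ((hF.tsys F).nW L)⁻¹ * u * (hF.tsys F).nW L ∈ (hF.tsys F).B := by
      have := mul_mem (inv_mem ((hF.tsys F).H_le_B ((hF.tsys F).nW_H' (w := L) ha))) h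
      rwa [show (((hF.tsys F).nW L)⁻¹ * a * (hF.tsys F).nW L)⁻¹ *
        (((hF.tsys F).nW L)⁻¹ * (a * u) * (hF.tsys F).nW L) =
        ((hF.tsys F).nW L)⁻¹ * u * (hF.tsys F).nW L by group] at this
    obtain ⟨c, hc, hce⟩ := hF.nW_mul (F := F) L L
    rw [show L * L = 1 by nth_rewrite 1 [← hLL]; exact inv_mul_cancel L] at hce
    set k := c * (hF.tsys F).nW 1 with hk
    have hkH : k ∈ (hF.tsys F).H := mul_mem hc (hF.tsys F).nW_one
    have hinv : ((hF.tsys F).nW L)⁻¹ = k⁻¹ * (hF.tsys F).nW L := by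
      rw [← hce]; group
    have hB2 : (hF.tsys F).nW L * u * ((hF.tsys F).nW L)⁻¹ ∈ (hF.tsys F).B := by
      have := mul_mem (mul_mem ((hF.tsys F).H_le_B hkH) hu') (inv_mem ((hF.tsys F).H_le_B hkH))
      rwa [show k * (((hF.tsys F).nW L)⁻¹ * u * (hF.tsys F).nW L) * k⁻¹ =
        (hF.tsys F).nW L * u * ((hF.tsys F).nW L)⁻¹ by rw [← hce]; group] at this
    have hV : (hF.tsys F).nW L * u * ((hF.tsys F).nW L)⁻¹ ∈ D.negUnipotent F := by
      rw [← hF.conj_longest (F := F) (hF.neg_of_simple_neg L hL)]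
      refine ⟨u, ?_, rfl⟩
      rw [← hF.tsys_U]; exact hu
    have h3 := hF.B_inter_V hB2 hV
    rw [conj_eq_one_iff] at h3
    rw [h3, mul_one]
    exact ha
  let ψ : ↥((D.borelSubgroup F).subgroupOf (D.group F)) ⧸
      ((D.diagonalSubgroup F).subgroupOf (D.group F)).subgroupOf ((D.borelSubgroup F).subgroupOf (D.group F)) →
      ↥(D.group F) ⧸ (D.borelSubgroup F).subgroupOf (D.group F) :=
    Quotient.lift (fun z => (((z : ↥(D.group F)) * nL : ↥(D.group F)) :
        ↥(D.group F) ⧸ (D.borelSubgroup F).subgroupOf (D.group F))) fun z z' h => by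
      have h' := (hHn _).1 (QuotientGroup.leftRel_apply.1 h)
      rw [QuotientGroup.eq]
      simpa [mul_assoc] using h'
  have hψ : ∀ z : ↥((D.borelSubgroup F).subgroupOf (D.group F)), ψ (z : _ ⧸ _) = (((z : ↥(D.group F)) * nL : ↥(D.group F)) :
      ↥(D.group F) ⧸ (D.borelSubgroup F).subgroupOf (D.group F)) := fun _ => rfl
  have hψinj : Function.Injective ψ := by
    intro x y
    induction x using QuotientGroup.induction_on with
    | H z =>
      induction y using QuotientGroup.induction_on with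
      | H z' =>
        intro he
        rw [hψ, hψ, QuotientGroup.eq] at he
        rw [QuotientGroup.eq]
        refine (hHn _).2 ?_
        simpa [mul_assoc] using he
  have hψeq : ∀ x, ψ (b • x) = (b : ↥(D.group F)) • ψ x := by
    intro x
    induction x using QuotientGroup.induction_on with
    | H z =>
      show ψ ((b * z : ↥((D.borelSubgroup F).subgroupOf (D.group F))) : _ ⧸ _) = _
      rw [hψ, hψ, Subgroup.coe_mul, mul_assoc]
      rfl
  refine (Nat.card_congr (Equiv.ofBijective (fun x => (⟨ψ x.1, ?_, ?_⟩ :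
    {q : ↥(D.group F) ⧸ (D.borelSubgroup F).subgroupOf (D.group F) //
        (b : ↥(D.group F)) • q = q ∧ qcell hF q = L})) ⟨?_, ?_⟩)).symm
  · rw [← hψeq]; exact congrArg ψ x.2
  · obtain ⟨x, -⟩ := x
    induction x using QuotientGroup.induction_on with
    | H z =>
      rw [hψ, qcell_mk]
      exact cell_eq hF ⟨_, by rw [hF.tsys_B]; exact z.2, 1, one_mem _, (mul_one _).symm⟩
  · exact fun x y he => Subtype.ext (hψinj (congrArg Subtype.val he))
  · rintro ⟨q, hq, hqL⟩
    induction q using QuotientGroup.induction_on with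
    | H g =>
      rw [qcell_mk] at hqL
      obtain ⟨c, hc, c', hc', hce⟩ := cell_spec hF g
      rw [hqL] at hce
      let z : ↥((D.borelSubgroup F).subgroupOf (D.group F)) :=
        ⟨⟨c, B_mem_group hF hc⟩, by show c ∈ D.borelSubgroup F; rwa [← hF.tsys_B]⟩
      have hz : ψ (z : _ ⧸ _) = (g : ↥(D.group F) ⧸ (D.borelSubgroup F).subgroupOf (D.group F)) := by
        rw [hψ, QuotientGroup.eq, Subgroup.mem_subgroupOf]
        simp only [Subgroup.coe_mul, Subgroup.coe_inv, z, nL]
        rw [hce, ← hF.tsys_B, show (c * (hF.tsys F).nW L)⁻¹ * (c * (hF.tsys F).nW L * c') = c' by group]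
        exact hc'
      refine ⟨⟨(z : _ ⧸ _), ?_⟩, Subtype.ext hz⟩
      refine hψinj ?_
      rw [hψeq, hz]
      exact hq

include hF in
/-- The Steinberg character is irreducible. -/
theorem isIrr : IsIrrCharacter ↥(D.group F) (D.steinbergCharacter F) := by
  classical
  have := Fintype.ofFinite ↥(D.group F)
  have hgen : IsGeneralizedCharacter ↥(D.group F) (D.steinbergCharacter F) := by
    have : D.steinbergCharacter F = ∑ J ∈ (Finset.range D.rank).powerset,
        ((-1 : ℂ) ^ J.card) • fixedPointCharacter (D.parabolicIn F J) := by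
      funext g
      rw [Finset.sum_apply]
      rfl
    rw [this]
    exact Char.isGenChar_sum _ _ fun J _ => Char.isGenChar_neg_one_pow
      ⟨_, 0, Flags.isCharacter_fixedPointCharacter _, Char.isCharacter_zero, (sub_zero _).symm⟩ _
  obtain ⟨e, χ, he, heq⟩ := Char.exists_sign_of_norm_one hgen (norm_one hF)
  rcases he with rfl | rfl
  · rw [heq, Int.cast_one, one_smul]
    exact χ.2
  · exfalso
    obtain ⟨d, hd⟩ := Char.charOne_eq_natCast (Char.irr_isCharacter χ.2)
    have h1 := restrict_B hF (F := F) (1 : ↥((D.borelSubgroup F).subgroupOf (D.group F)))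
    rw [Subgroup.coe_one, heq, Pi.smul_apply, hd, fixedPointCharacter] at h1
    have hpos : 0 < Nat.card (MulAction.fixedBy
        (↥((D.borelSubgroup F).subgroupOf (D.group F)) ⧸
          ((D.diagonalSubgroup F).subgroupOf (D.group F)).subgroupOf ((D.borelSubgroup F).subgroupOf (D.group F)))
        (1 : ↥((D.borelSubgroup F).subgroupOf (D.group F)))) := by
      rw [Nat.card_pos_iff]
      exact ⟨⟨⟨((1 : ↥((D.borelSubgroup F).subgroupOf (D.group F))) : _ ⧸ _), one_smul _ _⟩⟩,
        inferInstance⟩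
    revert h1 hpos
    generalize Nat.card _ = N
    intro h1 hpos
    have h2 : ((-(d : ℤ) : ℤ) : ℂ) = ((N : ℤ) : ℂ) := by push_cast; simpa using h1
    have h3 : (-(d : ℤ) : ℤ) = (N : ℤ) := by exact_mod_cast h2
    omega

end Cfsg.Agent.Small.StChar
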