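import Cfsg.Agent.Lib.Small.SteinbergValues

/-!
The degree of the Steinberg character and its vanishing off the semisimple elements.
-/

set_option autoImplicit false
set_option synthInstance.maxHeartbeats 400000
set_option linter.style.haveILetI false

namespace Cfsg.Agent.Small.StValues

open Cfsg Cfsg.Lie Cfsg.Agent.Lie Cfsg.Agent.Small.WeylCosets Cfsg.Agent.Small.StChar Module
open scoped MatrixGroups

variable {D : ChevalleyDatum} (hF : Facts D) {F : Type*} [Field F] [Fintype F]
  {p : ℕ} [Fact p.Prime] [CharP F p]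

include hF in
theorem degree_eq {l : List (List ℤ)} (hl : okCoeff D l = true) :
    D.steinbergCharacter F 1 = ((p ^ (Nat.card ↥(D.group F)).factorization p : ℕ) : ℂ) := by
  classical
  have hp : p.Prime := Fact.out
  obtain ⟨e, he, h⟩ := value hF (F := F) (p := p) hl (s := (1 : ↥(D.group F))) (by
    rw [orderOf_one]; exact hp.not_dvd_one)
  have htop : Subgroup.centralizer ({(1 : ↥(D.group F))} : Set ↥(D.group F)) = ⊤ := by
    ext g; simp [Subgroup.mem_centralizer_singleton_iff]
  rw [htop, Subgroup.card_top] at h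
  rcases he with rfl | rfl
  · rw [h, one_mul]
  · exfalso
    have h1 := restrict_B hF (F := F) (1 : ↥((D.borelSubgroup F).subgroupOf (D.group F)))
    rw [Subgroup.coe_one, h, fixedPointCharacter, neg_one_mul] at h1
    obtain ⟨N, hN⟩ : ∃ N : ℕ, (-((p ^ (Nat.card ↥(D.group F)).factorization p : ℕ) : ℂ)) = (N : ℂ) := ⟨_, h1⟩
    have h2 : ((-((p ^ (Nat.card ↥(D.group F)).factorization p : ℕ) : ℤ) : ℤ) : ℂ) = ((N : ℤ) : ℂ) := by
      push_cast at hN ⊢
      exact hN
    have h3 := Int.cast_injective h2
    have := pow_pos hp.pos ((Nat.card ↥(D.group F)).factorization p)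
    omega

include hF in
theorem degree_eq_card (r : ℕ) [Fact r.Prime] [CharP F r] {l : List (List ℤ)} (hl : okCoeff D l = true) :
    D.steinbergCharacter F 1 = (Fintype.card F : ℂ) ^ (D.nroots / 2) := by
  rw [degree_eq hF (p := r) hl, ← card_U_eq hF (F := F) (p := r),
    show (hF.tsys F).U = (hF.tsys F).US (Facts.posL D) from rfl, hF.card_US hF.closedList_posL,
    hF.length_posL, Nat.card_eq_fintype_card, Nat.cast_pow]

end Cfsg.Agent.Small.StValues
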