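import Cfsg.Agent.Lib.Small.UnipCount
import Cfsg.Agent.Lib.Lie.BruhatAux
import Cfsg.Agent.Lib.Small.ChevRationalPoints
import Mathlib.LinearAlgebra.Dimension.Constructions
import Mathlib.LinearAlgebra.FiniteDimensional.Basic
import Mathlib.LinearAlgebra.LinearIndependent.Lemmas

/-!
Modules of a Chevalley group over a field: highest vectors, the operators T_i, and the bound
dim ≤ q^N for irreducible modules in the defining characteristic (Steinberg, Curtis).
-/

set_option autoImplicit false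

namespace Cfsg.Agent.Small.StModule

open Cfsg.Lie Cfsg.Agent.Lie Matrix Cfsg.Agent.Small.StChar Cfsg.Agent.Small
open scoped MatrixGroups

variable {D : ChevalleyDatum} {F : Type*} [Field F] (hF : Facts D)
variable {k : Type*} [Field k] {W : Type*} [AddCommGroup W] [Module k W]

/-- A linear action of the group, written on the ambient matrix group. -/
structure Act (D : ChevalleyDatum) (F : Type*) [Field F] (k W : Type*) [Field k] [AddCommGroup W]
    [Module k W] where
  ρ : GL D.Idx F → W →ₗ[k] W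
  one : ρ 1 = LinearMap.id
  mul : ∀ a ∈ D.group F, ∀ b ∈ D.group F, ∀ v, ρ (a * b) v = ρ a (ρ b v)

variable (A : Act D F k W)

/-- v is fixed by the positive unipotent subgroup. -/
def UFix (v : W) : Prop := ∀ u ∈ (hF.tsys F).U, A.ρ u v = v

/-- v is fixed by U and an eigenvector of H. -/
def Eig (v : W) : Prop := UFix hF A v ∧ ∀ a ∈ (hF.tsys F).H, ∃ c : k, A.ρ a v = c • v

theorem U_mem {u : GL D.Idx F} (hu : u ∈ (hF.tsys F).U) : u ∈ D.group F :=
  B_mem_group hF ((hF.tsys F).U_le_B hu)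

theorem H_mem {a : GL D.Idx F} (ha : a ∈ (hF.tsys F).H) : a ∈ D.group F :=
  B_mem_group hF ((hF.tsys F).H_le_B ha)

theorem nS_mem (i : Fin D.rank) : (hF.tsys F).nS i ∈ D.group F := by
  rw [hF.tsys_nS]; exact hF.wg_mem_group _

theorem simple_mem_U (i : Fin D.rank) (t : F) :
    hF.xg (D.simple i.val) t ∈ (hF.tsys F).U :=
  (hF.tsys F).x_mem_U (hF.simple_ge i.val i.isLt) (hF.simple_lt i.val i.isLt) t

theorem US_inv_le_U (w : hF.weyl) {u : GL D.Idx F}
    (hu : u ∈ (hF.tsys F).US (TorusSys.invList w)) : u ∈ (hF.tsys F).U :=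
  CommSys.US_mono _ (fun r hr => Facts.mem_posL.2 ((TorusSys.closed_invList w).mem_pos r hr)) hu

variable [Fintype F] [Fintype Fˣ]

/-- The operator of a simple reflection on U-fixed vectors. -/
noncomputable def T (i : Fin D.rank) : W →ₗ[k] W :=
  ∑ t : F, A.ρ (hF.xg (D.simple i.val) t * (hF.tsys F).nS i)

theorem T_apply (i : Fin D.rank) (v : W) :
    T hF A i v = ∑ t : F, A.ρ (hF.xg (D.simple i.val) t * (hF.tsys F).nS i) v := by
  rw [T, LinearMap.sum_apply]

theorem T_ufix (i : Fin D.rank) {v : W} (hv : UFix hF A v) : UFix hF A (T hF A i v) := by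
  intro u hu
  obtain ⟨z, hz, a, rfl⟩ := (hF.tsys F).U_split i hu
  rw [T_apply, map_sum]
  refine Fintype.sum_equiv (Equiv.addLeft a) _ _ fun t => ?_
  rw [Equiv.coe_addLeft]
  set x := hF.xg (F := F) (D.simple i.val) with hx
  set n := (hF.tsys F).nS i with hn
  have hxG : ∀ t, x t ∈ D.group F := fun t => hF.xg_mem_group _ t
  have hnG : n ∈ D.group F := nS_mem hF i
  have hzU : z ∈ (hF.tsys F).U := (hF.tsys F).US_posNe_le_U i hz
  rw [show (hF.tsys F).x (D.simple i.val) a = x a from rfl, ← A.mul _ (mul_mem (U_mem hF hzU) (hxG a))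
    _ (mul_mem (hxG t) hnG)]
  have h1 : (x (a + t))⁻¹ * z * x (a + t) ∈ (hF.tsys F).US (TorusSys.posNe D i) :=
    (Subgroup.mem_normalizer_iff''.1 ((hF.tsys F).simple_normalizes_posNe i (a + t)) z).1 hz
  have h2 := (hF.tsys F).US_posNe_le_U i ((hF.tsys F).nS_conj_posNe i h1).2
  have e : z * x a * (x t * n) = (x (a + t) * n) * (n⁻¹ * ((x (a + t))⁻¹ * z * x (a + t)) * n) := by
    rw [show x (a + t) = x a * x t from hF.xg_add _ a t]
    group
  rw [e, A.mul _ (mul_mem (hxG _) hnG) _ (U_mem hF h2), hv _ h2]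

theorem T_eig (i : Fin D.rank) {v : W} (hv : Eig hF A v) : Eig hF A (T hF A i v) := by
  refine ⟨T_ufix hF A i hv.1, fun a ha => ?_⟩
  have hnN := (hF.tsys F).nS_mem_N i
  have ha' : ((hF.tsys F).nS i)⁻¹ * a * (hF.tsys F).nS i ∈ (hF.tsys F).H := by
    have := (hF.tsys F).H_normal_in_N (inv_mem hnN) ha
    rwa [inv_inv] at this
  obtain ⟨c, hc⟩ := hv.2 _ ha'
  refine ⟨c, ?_⟩
  have hat := ha
  rw [hF.tsys_H, hF.diagonalSubgroup_eq] at hat
  obtain ⟨d, rfl⟩ := hat
  have hs := hF.simple_lt i.val i.isLt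
  let e := torChar D d (D.simple i.val)
  rw [T_apply, map_sum, Finset.smul_sum]
  refine Fintype.sum_equiv (Equiv.mulLeft₀ (e : F) e.ne_zero) _ _ fun t => ?_
  rw [Equiv.mulLeft₀_apply, ← A.mul _ (H_mem hF ha) _ (mul_mem (hF.xg_mem_group _ t) (nS_mem hF i))]
  have he : torus D F d * (hF.xg (D.simple i.val) t * (hF.tsys F).nS i) =
      hF.xg (D.simple i.val) ((e : F) * t) * (hF.tsys F).nS i *
        (((hF.tsys F).nS i)⁻¹ * torus D F d * (hF.tsys F).nS i) := by
    rw [← hF.torus_conj d hs t]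
    group
  rw [he, A.mul _ (mul_mem (hF.xg_mem_group _ _) (nS_mem hF i)) _ (H_mem hF ha'), hc, map_smul]

/-- The rank-one product. -/
theorem nxn (i : Fin D.rank) (y : Fˣ) : ∃ a : F,
    (hF.tsys F).nS i * hF.xg (D.simple i.val) (y : F) * (hF.tsys F).nS i =
      hF.xg (D.simple i.val) a *
        hF.hg (D.simple i.val) (-(hF.sgn F i.val (D.simple i.val) * (y : F))⁻¹) *
          (hF.tsys F).nS i * hF.xg (D.simple i.val) a *
            ((hF.tsys F).nS i * (hF.tsys F).nS i) := by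
  have hs := hF.simple_lt i.val i.isLt
  have h1 : hF.sgn F i.val (D.simple i.val) ≠ 0 :=
    left_ne_zero_of_mul_eq_one (hF.sgn_mul_self i.isLt hs)
  set t := hF.sgn F i.val (D.simple i.val) * (y : F) with ht
  have ht0 : t ≠ 0 := mul_ne_zero h1 y.ne_zero
  have hc := (hF.tsys F).nS_conj i hs (y : F)
  rw [Facts.refl_simple, ← ht] at hc
  simp only [Facts.tsys_x] at hc
  refine ⟨t⁻¹, ?_⟩
  have e : hF.ng (D.simple i.val) (-t⁻¹) =
      hF.xg (D.simple i.val) (-t⁻¹) * hF.xg (D.neg (D.simple i.val)) t *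
        hF.xg (D.simple i.val) (-t⁻¹) := by
    rw [hF.ng_eq, inv_neg, neg_neg, inv_inv]
  have h2 : hF.hg (D.simple i.val) (-t⁻¹) * (hF.tsys F).nS i = hF.ng (D.simple i.val) (-t⁻¹) := by
    rw [hF.hg_eq, hF.tsys_nS, hF.ng_neg _ 1, inv_mul_cancel_right]
  have h3 : hF.xg (D.neg (D.simple i.val)) t = hF.xg (D.simple i.val) t⁻¹ *
      (hF.hg (D.simple i.val) (-t⁻¹) * (hF.tsys F).nS i) * hF.xg (D.simple i.val) t⁻¹ := by
    rw [h2, e, hF.xg_neg]
    group
  calc (hF.tsys F).nS i * hF.xg (D.simple i.val) (y : F) * (hF.tsys F).nS i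
      = (hF.tsys F).nS i * hF.xg (D.simple i.val) (y : F) * ((hF.tsys F).nS i)⁻¹ *
          ((hF.tsys F).nS i * (hF.tsys F).nS i) := by group
    _ = _ := by rw [hc, h3]; group

/-- n⁻¹ h(t) n = h(t)⁻¹. -/
theorem nhn (i : Fin D.rank) (t : Fˣ) :
    ((hF.tsys F).nS i)⁻¹ * hF.hg (D.simple i.val) (t : F) * (hF.tsys F).nS i =
      (hF.hg (D.simple i.val) (t : F))⁻¹ := by
  have e : hF.hg (D.simple i.val) (-(t : F)) * (hF.hg (D.simple i.val) (-1 : F))⁻¹ =
      hF.hg (D.simple i.val) (t : F) := by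
    rw [show (-(t : F)) = ((-t : Fˣ) : F) by simp, show ((-1 : F)) = ((-1 : Fˣ) : F) by simp,
      ← hF.torus_single, ← hF.torus_single, ← hF.torus_single, ← map_inv, ← map_mul]
    congr 1
    rw [← Pi.mulSingle_inv, ← Pi.mulSingle_mul]
    congr 1
    simp
  have hnn := (hF.tsys F).n_mul_n (D.simple i.val) (-(t : F)) (-1)
  rw [hF.tsys_h, hF.tsys_h, hF.tsys_n, hF.tsys_n, neg_neg, e] at hnn
  conv_rhs => rw [← hnn, _root_.mul_inv_rev, hF.ng_neg, inv_inv]
  rw [hF.hg_eq, hF.ng_neg, hF.tsys_nS]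
  group

theorem n_T (i : Fin D.rank) {v : W} (hv : UFix hF A v) :
    A.ρ ((hF.tsys F).nS i) (T hF A i v) =
      ∑ y : F, A.ρ ((hF.tsys F).nS i * hF.xg (D.simple i.val) y * (hF.tsys F).nS i) v := by
  rw [T_apply, map_sum]
  refine Finset.sum_congr rfl fun y _ => ?_
  rw [← A.mul _ (nS_mem hF i) _ (mul_mem (hF.xg_mem_group _ _) (nS_mem hF i)), mul_assoc]

theorem hg_mem_H (i : Fin D.rank) (t : Fˣ) :
    hF.hg (D.simple i.val) (t : F) ∈ (hF.tsys F).H := by
  rw [← hF.tsys_h]
  exact (hF.tsys F).h_mem (hF.simple_lt i.val i.isLt) t.ne_zero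

theorem nn_mem_H (i : Fin D.rank) : (hF.tsys F).nS i * (hF.tsys F).nS i ∈ (hF.tsys F).H := by
  rw [(hF.tsys F).nS_sq]
  exact inv_mem ((hF.tsys F).h_mem (hF.simple_lt i.val i.isLt) (neg_ne_zero.2 one_ne_zero))

/-- For an eigenvector, n x(y) n acts through X n. -/
theorem act_nxn (i : Fin D.rank) {v : W} (hv : Eig hF A v) : ∃ (c : k) (μ : Fˣ → k) (a : Fˣ → F),
    A.ρ ((hF.tsys F).nS i * (hF.tsys F).nS i) v = c • v ∧
    (∀ t : Fˣ, A.ρ (hF.hg (D.simple i.val) (t : F))⁻¹ v = μ t • v) ∧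
    ∀ y : Fˣ, ∃ u : Fˣ, (u : F) = -(hF.sgn F i.val (D.simple i.val) * (y : F))⁻¹ ∧
      A.ρ ((hF.tsys F).nS i * hF.xg (D.simple i.val) (y : F) * (hF.tsys F).nS i) v =
        (c * μ u) • A.ρ (hF.xg (D.simple i.val) (a y) * (hF.tsys F).nS i) v := by
  obtain ⟨c, hc⟩ := hv.2 _ (nn_mem_H hF i)
  choose μ hμ using fun t : Fˣ => hv.2 _ (inv_mem (hg_mem_H hF i t))
  choose a ha using fun y : Fˣ => nxn hF i y
  refine ⟨c, μ, a, hc, hμ, fun y => ?_⟩
  have hs := hF.simple_lt i.val i.isLt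
  have h1 : hF.sgn F i.val (D.simple i.val) ≠ 0 :=
    left_ne_zero_of_mul_eq_one (hF.sgn_mul_self i.isLt hs)
  refine ⟨Units.mk0 _ (neg_ne_zero.2 (inv_ne_zero (mul_ne_zero h1 y.ne_zero))), rfl, ?_⟩
  set u : Fˣ := Units.mk0 _ (neg_ne_zero.2 (inv_ne_zero (mul_ne_zero h1 y.ne_zero))) with hu
  rw [ha y, show -(hF.sgn F i.val (D.simple i.val) * (y : F))⁻¹ = (u : F) from rfl]
  have hxG : ∀ t, hF.xg (D.simple i.val) t ∈ D.group F := fun t => hF.xg_mem_group _ t
  have hnG : (hF.tsys F).nS i ∈ D.group F := nS_mem hF i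
  have hhG := H_mem hF (hg_mem_H hF i u)
  rw [A.mul _ (mul_mem (mul_mem (mul_mem (hxG _) hhG) hnG) (hxG _)) _ (mul_mem hnG hnG), hc,
    map_smul, A.mul _ (mul_mem (mul_mem (hxG _) hhG) hnG) _ (hxG _),
    hv.1 _ (simple_mem_U hF i _)]
  have e : hF.xg (D.simple i.val) (a y) * hF.hg (D.simple i.val) (u : F) * (hF.tsys F).nS i =
      hF.xg (D.simple i.val) (a y) * (hF.tsys F).nS i * (hF.hg (D.simple i.val) (u : F))⁻¹ := by
    rw [← nhn hF i u]; group
  rw [e, A.mul _ (mul_mem (hxG _) hnG) _ (inv_mem hhG), hμ u, map_smul, smul_smul]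

/-- T² is a scalar multiple of T, with the scalar recorded. -/
theorem T_T' (hqk : ((Fintype.card F : ℕ) : k) = 0) (i : Fin D.rank) {v : W} (hv : Eig hF A v) : ∃ (c : k) (μ : Fˣ → k),
    A.ρ ((hF.tsys F).nS i * (hF.tsys F).nS i) v = c • v ∧
    (∀ t : Fˣ, A.ρ (hF.hg (D.simple i.val) (t : F))⁻¹ v = μ t • v) ∧
      T hF A i (T hF A i v) = (c * ∑ t : Fˣ, μ t) • T hF A i v := by
  classical
  obtain ⟨c, μ, a, hc, hμ, hy⟩ := act_nxn hF A i hv
  choose u hu hact using hy
  refine ⟨c, μ, hc, hμ, ?_⟩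
  have hxG : ∀ t, hF.xg (D.simple i.val) t ∈ D.group F := fun t => hF.xg_mem_group _ t
  have hnG : (hF.tsys F).nS i ∈ D.group F := nS_mem hF i
  have hinj : Function.Injective u := by
    intro y y' h
    have h' := congrArg Units.val h
    rw [hu, hu, neg_inj, _root_.inv_inj] at h'
    exact Units.ext (mul_left_cancel₀ (left_ne_zero_of_mul_eq_one
      (hF.sgn_mul_self i.isLt (hF.simple_lt i.val i.isLt))) h')
  have hsum : ∑ t : Fˣ, μ t = ∑ y : Fˣ, μ (u y) :=
    (Fintype.sum_bijective u (Finite.injective_iff_bijective.1 hinj) _ _ fun _ => rfl).symm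
  rw [hsum, T_apply (v := T hF A i v)]
  have hx : ∀ x : F, A.ρ (hF.xg (D.simple i.val) x * (hF.tsys F).nS i) (T hF A i v) =
      A.ρ (hF.xg (D.simple i.val) x) (c • v) + ∑ y : Fˣ, (c * μ (u y)) •
        A.ρ (hF.xg (D.simple i.val) (x + a y) * (hF.tsys F).nS i) v := by
    intro x
    rw [A.mul _ (hxG x) _ hnG, n_T hF A i hv.1,
      ← Finset.add_sum_erase _ _ (Finset.mem_univ (0 : F)), map_add, map_sum]
    congr 1
    · rw [show hF.xg (D.simple i.val) (0 : F) = 1 from CommSys.x_zero (hF.sys F).toCommSys _,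
        mul_one, hc]
    · symm
      refine Finset.sum_bij (fun y _ => (y : F)) (fun y _ => Finset.mem_erase.2 ⟨y.ne_zero, Finset.mem_univ _⟩)
        (fun y _ y' _ h => Units.ext h)
        (fun y hy => ⟨Units.mk0 y (Finset.mem_erase.1 hy).1, Finset.mem_univ _, rfl⟩) fun y _ => ?_
      rw [hact y, map_smul, ← A.mul _ (hxG x) _ (mul_mem (hxG _) hnG), ← mul_assoc, ← hF.xg_add]
  simp only [hx, map_smul]
  rw [Finset.sum_add_distrib, Finset.sum_comm, ← Finset.smul_sum]
  have h0 : ∑ x : F, A.ρ (hF.xg (D.simple i.val) x) v = 0 := by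
    rw [Finset.sum_congr rfl (g := fun _ => v) fun x _ => hv.1 _ (simple_mem_U hF i x),
      Finset.sum_const, Finset.card_univ, ← Nat.cast_smul_eq_nsmul k, hqk, zero_smul]
  rw [h0, smul_zero, zero_add, Finset.mul_sum, Finset.sum_smul]
  refine Finset.sum_congr rfl fun y _ => ?_
  rw [← Finset.smul_sum, T_apply]
  congr 1
  exact Fintype.sum_equiv (Equiv.addRight (a y)) _ _ fun x => rfl

/-- T² is a scalar multiple of T. -/
theorem T_T (hqk : ((Fintype.card F : ℕ) : k) = 0) (i : Fin D.rank) {v : W} (hv : Eig hF A v) : ∃ (c : k) (μ : Fˣ → k),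
    (∀ t : Fˣ, A.ρ (hF.hg (D.simple i.val) (t : F))⁻¹ v = μ t • v) ∧
      T hF A i (T hF A i v) = (c * ∑ t : Fˣ, μ t) • T hF A i v := by
  obtain ⟨c, μ, -, h⟩ := T_T' hF A hqk i hv
  exact ⟨c, μ, h⟩

/-- The orbit sum of n_w v. -/
noncomputable def Phi (v : W) (w : hF.weyl) : W :=
  ∑ᶠ u : ↥((hF.tsys F).US (TorusSys.invList w⁻¹)), A.ρ ((u : GL D.Idx F) * (hF.tsys F).nW w) v

omit [Fintype F] [Fintype Fˣ] in
theorem act_cell {v : W} (hv : Eig hF A v) {g h : GL D.Idx F} (hg : g ∈ D.group F)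
    (hh : h ∈ (hF.tsys F).H) : ∃ c : k, A.ρ (g * h) v = c • A.ρ g v := by
  obtain ⟨c, hc⟩ := hv.2 h hh
  exact ⟨c, by rw [A.mul _ hg _ (H_mem hF hh), hc, map_smul]⟩

omit [Fintype Fˣ] in
theorem T_Phi (i : Fin D.rank) {v : W} (hv : Eig hF A v) {w : hF.weyl}
    (hw : w⁻¹ • hF.refSys.α i ∈ hF.refSys.P) :
    ∃ c : k, c ≠ 0 ∧ T hF A i (Phi hF A v w) = c • Phi hF A v (hF.wS i * w) := by
  classical
  rcases eq_or_ne v 0 with rfl | hv0
  · exact ⟨1, one_ne_zero, by simp [Phi, T_apply, finsum_eq_sum_of_fintype]⟩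
  set L := TorusSys.invList w⁻¹ with hL
  set L' := TorusSys.invList (hF.wS i * w)⁻¹ with hL'
  set n := (hF.tsys F).nS i with hn
  have hinv : (hF.wS i * w)⁻¹ = w⁻¹ * hF.wS i := by
    rw [_root_.mul_inv_rev, inv_eq_of_mul_eq_one_right (hF.wS_sq i)]
  have hlen : hF.refSys.len (hF.wS i * w)⁻¹ = hF.refSys.len w⁻¹ + 1 := by
    rw [hinv]; exact hF.refSys.len_mul_s_of_mem hw
  have hα : (hF.refSys.α i).val = D.simple i.val := rfl
  have hαL' : D.simple i.val ∈ L' := by
    refine TorusSys.mem_invList.2 ⟨hF.simple_lt i.val i.isLt, (RefSystem.mem_inv _).2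
      ⟨hF.refSys.α_mem i, ?_⟩⟩
    show (hF.wS i * w)⁻¹ • hF.refSys.α i ∉ hF.refSys.P
    rw [hinv, mul_smul, show hF.wS i • hF.refSys.α i = hF.refSys.neg (hF.refSys.α i) from
      hF.refSys.s_α i, RefSystem.smul_neg, hF.refSys.neg_mem, not_not]
    exact hw
  have hLne : ∀ r ∈ L, r ∈ TorusSys.posNe D i := by
    intro r hr
    obtain ⟨h, h'⟩ := TorusSys.mem_invList.1 hr
    obtain ⟨h1, h2⟩ := (RefSystem.mem_inv _).1 h'
    refine TorusSys.mem_posNe.2 ⟨((TorusSys.closed_invList w⁻¹).mem_pos r hr).1, h, fun he => h2 ?_⟩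
    rwa [show (⟨r, h⟩ : Fin D.nroots) = hF.refSys.α i from Fin.ext (he.trans hα.symm)]
  have hconj : ∀ u ∈ (hF.tsys F).US L, n * u * n⁻¹ ∈ (hF.tsys F).US L' := by
    intro u hu
    induction hu using Subgroup.closure_induction with
    | mem g hg =>
      obtain ⟨r, hr, a, rfl⟩ := hg
      obtain ⟨h, h'⟩ := TorusSys.mem_invList.1 hr
      obtain ⟨h1, h2⟩ := (RefSystem.mem_inv _).1 h'
      rw [(hF.tsys F).nS_conj i h]
      refine CommSys.x_mem_US _ (TorusSys.mem_invList.2 ⟨hF.refl_lt i.val i.isLt r h, (RefSystem.mem_inv _).2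
        ⟨?_, ?_⟩⟩) _
      · have := TorusSys.mem_posNe.1 (TorusSys.refl_posNe (hF := hF) i (hLne r hr))
        simpa [Facts.refSys] using this.1
      · rw [hinv, mul_smul, show hF.wS i • (⟨D.reflectRoot i.val r, hF.refl_lt i.val i.isLt r h⟩ :
            Fin D.nroots) = ⟨r, h⟩ from Fin.ext (by
          rw [hF.wS_smul]; exact hF.refl_refl i.val i.isLt r h)]
        exact h2
    | one => simp
    | mul p q _ _ hp hq =>
      rw [show n * (p * q) * n⁻¹ = n * p * n⁻¹ * (n * q * n⁻¹) by group]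
      exact mul_mem hp hq
    | inv p _ hp =>
      rw [show n * p⁻¹ * n⁻¹ = (n * p * n⁻¹)⁻¹ by group]
      exact inv_mem hp
  let f : F × ↥((hF.tsys F).US L) → ↥((hF.tsys F).US L') := fun x =>
    ⟨hF.xg (D.simple i.val) x.1 * (n * (x.2 : GL D.Idx F) * n⁻¹),
      mul_mem (CommSys.x_mem_US _ hαL' _) (hconj _ x.2.2)⟩
  have hinj : Function.Injective f := by
    rintro ⟨t, u⟩ ⟨t', u'⟩ h
    have h1 : hF.xg (D.simple i.val) t * (n * (u : GL D.Idx F) * n⁻¹) =
        hF.xg (D.simple i.val) t' * (n * (u' : GL D.Idx F) * n⁻¹) := congrArg Subtype.val h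
    have hu : (u' : GL D.Idx F) * (u : GL D.Idx F)⁻¹ ∈ (hF.tsys F).US L :=
      mul_mem u'.2 (inv_mem u.2)
    have hU := US_inv_le_U hF _ hu
    have h2 : (u' : GL D.Idx F) * (u : GL D.Idx F)⁻¹ =
        n⁻¹ * hF.xg (D.simple i.val) (-t' + t) * n := by
      rw [hF.xg_add, hF.xg_neg]
      calc _ = n⁻¹ * (hF.xg (D.simple i.val) t')⁻¹ *
            (hF.xg (D.simple i.val) t' * (n * (u' : GL D.Idx F) * n⁻¹)) * n *
              (u : GL D.Idx F)⁻¹ := by group
        _ = _ := by rw [← h1]; group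
    rw [← Facts.tsys_x (hF := hF), hn, (hF.tsys F).nS_conj_inv i (hF.simple_lt i.val i.isLt),
      Facts.refl_simple] at h2
    have h3 : (u' : GL D.Idx F) * (u : GL D.Idx F)⁻¹ = 1 :=
      hF.B_inter_V ((hF.tsys F).U_le_B hU) (h2 ▸ hF.x_mem_negUnipotent (by
        have hp := hF.refSys.α_mem i
        have := (hF.neg_ge_iff (hF.simple_lt i.val i.isLt)).not.2 (by
          simpa [Facts.refSys] using hF.simple_ge i.val i.isLt)
        omega) _)
    obtain rfl : u = u' := Subtype.ext (mul_inv_eq_one.1 h3).symm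
    have h4 := ChevRat.xg_inj hF (hF.simple_lt i.val i.isLt) (mul_right_cancel h1)
    rw [h4]
  have hbij : Function.Bijective f := by
    refine (Nat.bijective_iff_injective_and_card f).2 ⟨hinj, ?_⟩
    rw [Nat.card_prod, hF.card_US (TorusSys.closed_invList _), hF.card_US (TorusSys.closed_invList _),
      TorusSys.length_invList, TorusSys.length_invList, hlen, pow_succ, mul_comm]
  obtain ⟨g, hg, hgeq⟩ := (hF.tsys F).nS_nW i w
  have hg' : ((hF.tsys F).nW (hF.wS i * w))⁻¹ * g * (hF.tsys F).nW (hF.wS i * w) ∈ (hF.tsys F).H := by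
    have := (hF.tsys F).H_normal_in_N (inv_mem ((hF.tsys F).nW_mem_N (hF.wS i * w))) hg
    rwa [inv_inv] at this
  obtain ⟨c, hc⟩ := hv.2 _ hg'
  have hG : ∀ w', (hF.tsys F).nW w' ∈ D.group F := fun w' => StChar.nW_mem_group hF w'
  refine ⟨c, fun h0 => hv0 ?_, ?_⟩
  · rw [h0, zero_smul] at hc
    have h1 := congrArg (A.ρ (((hF.tsys F).nW (hF.wS i * w))⁻¹ * g *
      (hF.tsys F).nW (hF.wS i * w))⁻¹) hc
    rw [map_zero, ← A.mul _ (inv_mem (H_mem hF hg')) _ (H_mem hF hg'), inv_mul_cancel, A.one] at h1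
    exact h1
  rw [Phi, Phi, finsum_eq_sum_of_fintype, finsum_eq_sum_of_fintype, map_sum, Finset.smul_sum]
  simp only [T_apply]
  rw [Finset.sum_comm, ← Fintype.sum_prod_type']
  refine Fintype.sum_bijective f hbij _ _ fun x => ?_
  have hx2 : (x.2 : GL D.Idx F) ∈ D.group F := U_mem hF (US_inv_le_U hF _ x.2.2)
  have hu' := U_mem hF (US_inv_le_U hF _ (f x).2)
  rw [← A.mul _ (mul_mem (hF.xg_mem_group _ _) (nS_mem hF i)) _ (mul_mem hx2 (hG w)),
    ← map_smul, ← hc, ← A.mul _ (mul_mem hu' (hG _)) _ (H_mem hF hg')]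
  congr 2
  show _ = hF.xg (D.simple i.val) x.1 * (n * (x.2 : GL D.Idx F) * n⁻¹) *
    (hF.tsys F).nW (hF.wS i * w) * (((hF.tsys F).nW (hF.wS i * w))⁻¹ * g * _)
  calc _ = hF.xg (D.simple i.val) x.1 * (n * (x.2 : GL D.Idx F) * n⁻¹) *
        ((hF.tsys F).nS i * (hF.tsys F).nW w) := by rw [hn]; group
    _ = _ := by rw [hgeq]; group

omit [Fintype F] [Fintype Fˣ] in
theorem Phi_one {v : W} (hv : Eig hF A v) (hv0 : v ≠ 0) : Phi hF A v 1 ≠ 0 := by
  classical
  have hnil : TorusSys.invList (hF := hF) (1 : hF.weyl)⁻¹ = [] := by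
    rw [← List.length_eq_zero_iff, TorusSys.length_invList, inv_one, RefSystem.len_one]
  have hsub : ∀ u : ↥((hF.tsys F).US (TorusSys.invList (hF := hF) (1 : hF.weyl)⁻¹)),
      (u : GL D.Idx F) = 1 := by
    rw [hnil]
    intro u
    have := u.2
    simpa [CommSys.US] using this
  rw [Phi, finsum_eq_single _ 1 fun u hu => absurd (Subtype.ext (hsub u)) hu, Subgroup.coe_one,
    one_mul]
  intro h
  have hm := H_mem hF (hF.tsys F).nW_one
  have h1 := congrArg (A.ρ ((hF.tsys F).nW 1)⁻¹) h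
  rw [map_zero, ← A.mul _ (inv_mem hm) _ hm, inv_mul_cancel, A.one] at h1
  exact hv0 h1

omit [Fintype F] [Fintype Fˣ] in
theorem len_inv' (w : hF.weyl) : hF.refSys.len w⁻¹ = hF.refSys.len w := WeylCosets.len_inv hF.refSys w

omit [Fintype Fˣ] in
theorem Phi_eig {v : W} (hv : Eig hF A v) : ∀ (n : ℕ) (w : hF.weyl), hF.refSys.len w = n →
    Eig hF A (Phi hF A v w) := by
  classical
  intro n
  induction n with
  | zero =>
    intro w hw
    obtain rfl := hF.refSys.eq_one_of_len_eq_zero hw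
    have hnil : TorusSys.invList (hF := hF) (1 : hF.weyl)⁻¹ = [] := by
      rw [← List.length_eq_zero_iff, TorusSys.length_invList, inv_one, RefSystem.len_one]
    obtain ⟨c, hc⟩ := hv.2 _ (hF.tsys F).nW_one
    have : Phi hF A v 1 = c • v := by
      rw [Phi, finsum_eq_single _ 1 fun u hu => absurd (Subtype.ext (by
        have := u.2
        simp only [hnil] at this
        simpa [CommSys.US] using this)) hu, Subgroup.coe_one, one_mul, hc]
    rw [this]
    refine ⟨fun u hu => by rw [map_smul, hv.1 u hu], fun a ha => ?_⟩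
    obtain ⟨d, hd⟩ := hv.2 a ha
    exact ⟨d, by rw [map_smul, hd, smul_comm]⟩
  | succ n ih =>
    intro w hw
    obtain ⟨i, hi⟩ : ∃ i : Fin D.rank, w⁻¹ • hF.refSys.α i ∉ hF.refSys.P := by
      by_contra hcon
      push Not at hcon
      have hmin := (WeylCosets.isMin_iff hF.refSys (J := (Set.univ : Set (Fin D.rank)))
        (x := w⁻¹)).2 fun j _ => hcon j
      have := hmin w (by rw [WeylCosets.WJ, Set.image_univ, hF.refSys.gen]; exact Subgroup.mem_top _)
      rw [inv_mul_cancel, RefSystem.len_one, len_inv' hF] at this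
      omega
    set w' := hF.wS i * w with hw'
    have hw'i : w'⁻¹ = w⁻¹ * hF.wS i := by
      rw [hw', _root_.mul_inv_rev, inv_eq_of_mul_eq_one_right (hF.wS_sq i)]
    have hasc : w'⁻¹ • hF.refSys.α i ∈ hF.refSys.P := by
      rw [hw'i, mul_smul, show hF.wS i • hF.refSys.α i = hF.refSys.neg (hF.refSys.α i) from
        hF.refSys.s_α i, RefSystem.smul_neg, hF.refSys.neg_mem]
      exact hi
    have hlen : hF.refSys.len w' = n := by
      have := hF.refSys.len_mul_s_of_not_mem hi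
      rw [show hF.refSys.s i = hF.wS i from rfl, ← hw'i, len_inv' hF, len_inv' hF] at this
      omega
    obtain ⟨c, hc0, hc⟩ := T_Phi hF A i hv hasc
    rw [hw', ← mul_assoc, hF.wS_sq, one_mul, ← hw'] at hc
    have h := T_eig hF A i (ih w' hlen)
    rw [hc] at h
    refine ⟨fun u hu => ?_, fun a ha => ?_⟩
    · have := h.1 u hu
      rw [map_smul] at this
      exact smul_right_injective W hc0 this
    · obtain ⟨d, hd⟩ := h.2 a ha
      rw [map_smul, smul_comm] at hd
      exact ⟨d, smul_right_injective W hc0 hd⟩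

/-- A common eigenvector of all T_i. -/
theorem exists_Teig (hqk : ((Fintype.card F : ℕ) : k) = 0) {v : W} (hv : Eig hF A v) (hv0 : v ≠ 0) :
    ∃ z : W, z ≠ 0 ∧ Eig hF A z ∧ ∀ i, ∃ c : k, T hF A i z = c • z := by
  classical
  haveI := Fintype.ofFinite hF.weyl
  obtain ⟨w, hw, hmax⟩ := Finset.exists_max_image
    (Finset.univ.filter fun w : hF.weyl => Phi hF A v w ≠ 0) (fun w => hF.refSys.len w)
    ⟨1, by simp [Phi_one hF A hv hv0]⟩
  rw [Finset.mem_filter] at hw
  refine ⟨_, hw.2, Phi_eig hF A hv _ w rfl, fun i => ?_⟩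
  by_cases hi : w⁻¹ • hF.refSys.α i ∈ hF.refSys.P
  · obtain ⟨c, -, hc⟩ := T_Phi hF A i hv hi
    refine ⟨0, ?_⟩
    rw [hc, zero_smul]
    by_contra hne
    have h1 := hmax (hF.wS i * w) (by simp [right_ne_zero_of_smul hne])
    have h2 := hF.refSys.len_mul_s_of_mem hi
    rw [show hF.refSys.s i = hF.wS i from rfl, len_inv' hF,
      show w⁻¹ * hF.wS i = (hF.wS i * w)⁻¹ by
        rw [_root_.mul_inv_rev, inv_eq_of_mul_eq_one_right (hF.wS_sq i)], len_inv' hF] at h2
    omega
  · set w' := hF.wS i * w with hw'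
    have hasc : w'⁻¹ • hF.refSys.α i ∈ hF.refSys.P := by
      rw [hw', _root_.mul_inv_rev, inv_eq_of_mul_eq_one_right (hF.wS_sq i), mul_smul,
        show hF.wS i • hF.refSys.α i = hF.refSys.neg (hF.refSys.α i) from hF.refSys.s_α i,
        RefSystem.smul_neg, hF.refSys.neg_mem]
      exact hi
    obtain ⟨c, hc0, hc⟩ := T_Phi hF A i hv hasc
    rw [hw', ← mul_assoc, hF.wS_sq, one_mul, ← hw'] at hc
    obtain ⟨d, μ, -, hd⟩ := T_T hF A hqk i (Phi_eig hF A hv _ w' rfl)
    rw [hc, map_smul, smul_comm] at hd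
    exact ⟨_, smul_right_injective W hc0 hd⟩

/-- The translates of n_0 z by U. -/
noncomputable def low (z : W) (w : hF.weyl) : ↥((hF.tsys F).U) → W :=
  fun u => A.ρ ((u : GL D.Idx F) * (hF.tsys F).nW w) z

omit [Fintype F] [Fintype Fˣ] in
theorem low_U {z : W} {w : hF.weyl} {u : GL D.Idx F} (hu : u ∈ (hF.tsys F).U) {x : W}
    (hx : x ∈ Submodule.span k (Set.range (low hF A z w))) :
    A.ρ u x ∈ Submodule.span k (Set.range (low hF A z w)) := by
  induction hx using Submodule.span_induction with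
  | mem x hx =>
    obtain ⟨u', rfl⟩ := hx
    refine Submodule.subset_span ⟨⟨u, hu⟩ * u', ?_⟩
    show A.ρ (u * (u' : GL D.Idx F) * (hF.tsys F).nW w) z = _
    rw [mul_assoc, A.mul _ (U_mem hF hu) _ (mul_mem (U_mem hF u'.2) (StChar.nW_mem_group hF w))]
    rfl
  | zero => simp
  | add a b _ _ ha hb => rw [map_add]; exact add_mem ha hb
  | smul c a _ ha => rw [map_smul]; exact Submodule.smul_mem _ c ha

theorem all_mem_low {z : W} (hz : Eig hF A z) (hT : ∀ i, ∃ c : k, T hF A i z = c • z) {L : hF.weyl}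
    (hL : ∀ w : hF.weyl, (∀ j, w • hF.refSys.α j ∉ hF.refSys.P) → w = L)
    {g : GL D.Idx F} (hg : g ∈ D.group F) :
    A.ρ g z ∈ Submodule.span k (Set.range (low hF A z L)) := by
  classical
  set S := Submodule.span k (Set.range (low hF A z L)) with hS
  have hH : ∀ a ∈ (hF.tsys F).H, ∀ x ∈ S, A.ρ a x ∈ S := by
    intro a ha x hx
    induction hx using Submodule.span_induction with
    | mem x hx =>
      obtain ⟨u, rfl⟩ := hx
      have hn := StChar.nW_mem_group (F := F) hF L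
      have ha' : ((hF.tsys F).nW L)⁻¹ * a * (hF.tsys F).nW L ∈ (hF.tsys F).H := by
        have := (hF.tsys F).H_normal_in_N (inv_mem ((hF.tsys F).nW_mem_N L)) ha
        rwa [inv_inv] at this
      have hu' : a * (u : GL D.Idx F) * a⁻¹ ∈ (hF.tsys F).U :=
        (hF.tsys F).H_conj_US ha TorusSys.posL_lt u.2
      obtain ⟨c, hc⟩ := hz.2 _ ha'
      show A.ρ a (A.ρ ((u : GL D.Idx F) * (hF.tsys F).nW L) z) ∈ S
      rw [← A.mul _ (H_mem hF ha) _ (mul_mem (U_mem hF u.2) hn),
        show a * ((u : GL D.Idx F) * (hF.tsys F).nW L) = a * (u : GL D.Idx F) * a⁻¹ *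
          (hF.tsys F).nW L * (((hF.tsys F).nW L)⁻¹ * a * (hF.tsys F).nW L) by group,
        A.mul _ (mul_mem (U_mem hF hu') hn) _ (H_mem hF ha'), hc, map_smul]
      exact Submodule.smul_mem _ _ (Submodule.subset_span ⟨⟨_, hu'⟩, rfl⟩)
    | zero => simp
    | add a b _ _ ha hb => rw [map_add]; exact add_mem ha hb
    | smul c a _ ha => rw [map_smul]; exact Submodule.smul_mem _ c ha
  have key : ∀ (m : ℕ) (w : hF.weyl), hF.refSys.len L ≤ hF.refSys.len w + m →
      A.ρ ((hF.tsys F).nW w) z ∈ S := by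
    intro m
    induction m using Nat.strong_induction_on with
    | _ m ih =>
      intro w hm
      by_cases hw : ∀ j, w • hF.refSys.α j ∉ hF.refSys.P
      · obtain rfl := hL w hw
        exact Submodule.subset_span ⟨1, by simp [low]⟩
      push Not at hw
      obtain ⟨i, hi⟩ := hw
      have hl := hF.refSys.len_mul_s_of_mem hi
      -- z is in the span of X n z
      obtain ⟨c, μ, a, hc, -, hy⟩ := act_nxn hF A i hz
      obtain ⟨d, hd⟩ := hT i
      choose u hu hact using hy
      have hcne : c ≠ 0 ∨ z = 0 := by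
        by_cases h : c = 0
        · right
          have hh := nn_mem_H (F := F) hF i
          rw [h, zero_smul] at hc
          have h1 := congrArg (A.ρ ((hF.tsys F).nS i * (hF.tsys F).nS i)⁻¹) hc
          rwa [map_zero, ← A.mul _ (inv_mem (H_mem hF hh)) _ (H_mem hF hh), inv_mul_cancel,
            A.one] at h1
        · exact Or.inl h
      rcases hcne with hcne | rfl
      swap
      · simp
      set n := (hF.tsys F).nS i with hn
      have hspan : z ∈ Submodule.span k
          (Set.range fun t : F => A.ρ (hF.xg (D.simple i.val) t * n) z) := by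
        have h1 := n_T hF A i hz.1
        rw [hd, map_smul, ← Finset.add_sum_erase _ _ (Finset.mem_univ (0 : F)),
          show hF.xg (D.simple i.val) (0 : F) = 1 from CommSys.x_zero (hF.sys F).toCommSys _,
          mul_one, hc, ← sub_eq_iff_eq_add] at h1
        refine (Submodule.smul_mem_iff _ hcne).1 ?_
        rw [← h1]
        refine (sub_mem (Submodule.smul_mem _ _ (Submodule.subset_span
          ⟨0, by simp [show hF.xg (D.simple i.val) (0 : F) = 1 from
            CommSys.x_zero (hF.sys F).toCommSys _, hn]⟩)) (Submodule.sum_mem _ fun y hy => ?_))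
        have hy0 := (Finset.mem_erase.1 hy).1
        rw [show y = ((Units.mk0 y hy0 : Fˣ) : F) from rfl, hact]
        exact Submodule.smul_mem _ _ (Submodule.subset_span ⟨_, rfl⟩)
      have hmain : ∀ x ∈ Submodule.span k
          (Set.range fun t : F => A.ρ (hF.xg (D.simple i.val) t * n) z),
          A.ρ ((hF.tsys F).nW w) x ∈ S := by
        intro x hx
        induction hx using Submodule.span_induction with
        | mem x hx =>
          obtain ⟨t, rfl⟩ := hx
          obtain ⟨e, -, he⟩ := hF.nW_conj (F := F) w (hF.refSys.α i)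
          have hwG := StChar.nW_mem_group (F := F) hF w
          obtain ⟨g1, hg1, hg1e⟩ := (hF.tsys F).nw_eq (ω := TorusSys.word w ++ [i])
            (w := w * hF.wS i) (by rw [RefSystem.pr_append, RefSystem.pr_singleton, TorusSys.pr_word]; rfl)
          rw [TorusSys.nw_append, TorusSys.nw_singleton] at hg1e
          show A.ρ ((hF.tsys F).nW w) (A.ρ (hF.xg (D.simple i.val) t * n) z) ∈ S
          rw [← A.mul _ hwG _ (mul_mem (hF.xg_mem_group _ _) (nS_mem hF i))]
          have he' : (hF.tsys F).nW w * (hF.xg (D.simple i.val) t * n) =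
              hF.xg (w • hF.refSys.α i : Fin D.nroots).val (e * t) *
                (g1 * (hF.tsys F).nW (w * hF.wS i)) := by
            rw [← hg1e, ← he t]
            show _ = (hF.tsys F).nW w * hF.xg (hF.refSys.α i).val t * ((hF.tsys F).nW w)⁻¹ *
              ((hF.tsys F).nW w * (hF.tsys F).nS i)
            rw [hn]
            show (hF.tsys F).nW w * (hF.xg (hF.refSys.α i).val t * (hF.tsys F).nS i) = _
            group
          have hxU : hF.xg (w • hF.refSys.α i : Fin D.nroots).val (e * t) ∈ (hF.tsys F).U :=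
            (hF.tsys F).x_mem_U (by simpa [Facts.refSys] using hi) (Fin.isLt _) _
          have hws := StChar.nW_mem_group (F := F) hF (w * hF.wS i)
          rw [he', A.mul _ (U_mem hF hxU) _ (mul_mem (H_mem hF hg1) hws),
            A.mul _ (H_mem hF hg1) _ hws]
          refine low_U hF A hxU (hH _ hg1 _ (ih (m - 1) ?_ _ ?_))
          · have : m ≠ 0 := by
              rintro rfl
              have h3 : hF.refSys.len (w * hF.wS i) ≤ hF.refSys.len L := by
                obtain ⟨L', hL'⟩ := hF.exists_longest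
                obtain rfl : L' = L := hL L' fun j => hL' _ (hF.refSys.α_mem j)
                refine Finset.card_le_card fun x hx => ?_
                exact (RefSystem.mem_inv _).2 ⟨((RefSystem.mem_inv _).1 hx).1,
                  hL' x ((RefSystem.mem_inv _).1 hx).1⟩
              rw [show hF.refSys.s i = hF.wS i from rfl] at hl
              omega
            omega
          · rw [show hF.refSys.s i = hF.wS i from rfl] at hl
            omega
        | zero => simp
        | add a b _ _ ha hb => rw [map_add]; exact add_mem ha hb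
        | smul c a _ ha => rw [map_smul]; exact Submodule.smul_mem _ c ha
      exact hmain z hspan
  obtain ⟨b, hb, w, u, hu, rfl⟩ := hF.mem_bnu hg
  have hbG := StChar.B_mem_group hF hb
  have huU := US_inv_le_U hF _ hu
  rw [A.mul _ (mul_mem hbG (StChar.nW_mem_group hF w)) _ (U_mem hF huU), hz.1 u huU,
    A.mul _ hbG _ (StChar.nW_mem_group hF w)]
  obtain ⟨u', hu', a, ha, rfl⟩ := (hF.tsys F).mem_B.1 hb
  rw [A.mul _ (U_mem hF hu') _ (H_mem hF ha)]
  exact low_U hF A hu' (hH a ha _ (key _ w le_add_self))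

/-- In a module generated by z of dimension ≥ q^N, no T_i kills z and the characters of the
h_i(t) are trivial. -/
theorem structure_of_irr (hqk : ((Fintype.card F : ℕ) : k) = 0) [FiniteDimensional k W]
    (hirr : ∀ S : Submodule k W, S ≠ ⊥ → (∀ g ∈ D.group F, ∀ x ∈ S, A.ρ g x ∈ S) → S = ⊤)
    {z : W} (hz0 : z ≠ 0) (hz : Eig hF A z) (hT : ∀ i, ∃ c : k, T hF A i z = c • z) :
    Module.finrank k W ≤ Nat.card ↥((hF.tsys F).U) ∧
      (Nat.card ↥((hF.tsys F).U) ≤ Module.finrank k W →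
        ∀ i, (∀ c : k, T hF A i z = c • z → c ≠ 0) ∧
          ∀ t : Fˣ, A.ρ (hF.hg (D.simple i.val) (t : F)) z = z) := by
  classical
  obtain ⟨L, hL1, -, hL⟩ := exists_longest' hF
  have htop : Submodule.span k (Set.range (low hF A z L)) = ⊤ := by
    refine eq_top_iff.2 ?_
    rw [← hirr (Submodule.span k (Set.range fun g : ↥(D.group F) => A.ρ (g : GL D.Idx F) z)) ?_ ?_]
    · refine Submodule.span_le.2 ?_
      rintro _ ⟨g, rfl⟩
      exact all_mem_low hF A hz hT hL g.2
    · intro h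
      refine hz0 ?_
      have h1 : A.ρ ((1 : ↥(D.group F)) : GL D.Idx F) z ∈
          Submodule.span k (Set.range fun g : ↥(D.group F) => A.ρ (g : GL D.Idx F) z) :=
        Submodule.subset_span ⟨1, rfl⟩
      rw [h, Submodule.mem_bot, Subgroup.coe_one, A.one] at h1
      exact h1
    · intro g hg x hx
      induction hx using Submodule.span_induction with
      | mem x hx =>
        obtain ⟨h, rfl⟩ := hx
        exact Submodule.subset_span ⟨⟨g, hg⟩ * h, by
          show A.ρ (g * (h : GL D.Idx F)) z = _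
          rw [A.mul _ hg _ h.2]⟩
      | zero => simp
      | add a b _ _ ha hb => rw [map_add]; exact add_mem ha hb
      | smul c a _ ha => rw [map_smul]; exact Submodule.smul_mem _ c ha
  have hrank : (Set.range (low hF A z L)).finrank k = Module.finrank k W := by
    rw [Set.finrank, htop, finrank_top]
  refine ⟨?_, fun hge i => ?_⟩
  · rw [← hrank, Nat.card_eq_fintype_card]
    exact finrank_range_le_card _
  have hli : LinearIndependent k (low hF A z L) :=
    linearIndependent_iff_card_le_finrank_span.2 (by rw [hrank, ← Nat.card_eq_fintype_card]; exact hge)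
  have hcne : ∀ c : k, T hF A i z = c • z → c ≠ 0 := by
    intro c hc h0
    rw [h0, zero_smul] at hc
    set w := L * hF.wS i with hw
    have hwi : w • hF.refSys.α i ∈ hF.refSys.P := by
      rw [hw, mul_smul, show hF.wS i • hF.refSys.α i = hF.refSys.neg (hF.refSys.α i) from
        hF.refSys.s_α i, RefSystem.smul_neg, hF.refSys.neg_mem]
      exact hL1 i
    obtain ⟨e, hee, he⟩ := hF.nW_conj (F := F) w (hF.refSys.α i)
    obtain ⟨g1, hg1, hg1e⟩ := (hF.tsys F).nw_eq (ω := TorusSys.word w ++ [i])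
      (w := w * hF.wS i) (by rw [RefSystem.pr_append, RefSystem.pr_singleton, TorusSys.pr_word]; rfl)
    rw [TorusSys.nw_append, TorusSys.nw_singleton] at hg1e
    have hL' : w * hF.wS i = L := by rw [hw, mul_assoc, hF.wS_sq, mul_one]
    rw [hL'] at hg1e
    have ha' : ((hF.tsys F).nW L)⁻¹ * g1 * (hF.tsys F).nW L ∈ (hF.tsys F).H := by
      have := (hF.tsys F).H_normal_in_N (inv_mem ((hF.tsys F).nW_mem_N L)) hg1
      rwa [inv_inv] at this
    obtain ⟨d, hd⟩ := hz.2 _ ha'
    let x : F → ↥((hF.tsys F).U) := fun t => ⟨hF.xg (w • hF.refSys.α i : Fin D.nroots).val (e * t),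
      (hF.tsys F).x_mem_U (by simpa [Facts.refSys] using hwi) (Fin.isLt _) _⟩
    have hrel : ∑ t : F, d • low hF A z L (x t) = 0 := by
      rw [← map_zero (A.ρ ((hF.tsys F).nW w)), ← hc, T_apply, map_sum]
      refine Finset.sum_congr rfl fun t _ => ?_
      have hLG := StChar.nW_mem_group (F := F) hF L
      rw [low, ← map_smul, ← hd,
        ← A.mul _ (mul_mem (U_mem hF (x t).2) hLG) _ (H_mem hF ha'),
        ← A.mul _ (StChar.nW_mem_group hF w) _ (mul_mem (hF.xg_mem_group _ _) (nS_mem hF i))]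
      congr 2
      calc hF.xg (w • hF.refSys.α i : Fin D.nroots).val (e * t) * (hF.tsys F).nW L *
            (((hF.tsys F).nW L)⁻¹ * g1 * (hF.tsys F).nW L)
          = hF.xg (w • hF.refSys.α i : Fin D.nroots).val (e * t) * (g1 * (hF.tsys F).nW L) := by group
        _ = _ := by
          rw [← hg1e, ← he t]
          show (hF.tsys F).nW w * hF.xg (hF.refSys.α i).val t * ((hF.tsys F).nW w)⁻¹ *
            ((hF.tsys F).nW w * (hF.tsys F).nS i) =
              (hF.tsys F).nW w * (hF.xg (hF.refSys.α i).val t * (hF.tsys F).nS i)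
          group
    have hxinj : Function.Injective x := by
      intro t t' h
      exact mul_left_cancel₀ (left_ne_zero_of_mul_eq_one hee)
        (ChevRat.xg_inj hF (Fin.isLt _) (congrArg Subtype.val h))
    have hd0 : d = 0 := Fintype.linearIndependent_iff.1 (hli.comp x hxinj) (fun _ => d) hrel 0
    rw [hd0, zero_smul] at hd
    refine hz0 ?_
    have h1 := congrArg (A.ρ (((hF.tsys F).nW L)⁻¹ * g1 * (hF.tsys F).nW L)⁻¹) hd
    rwa [map_zero, ← A.mul _ (inv_mem (H_mem hF ha')) _ (H_mem hF ha'), inv_mul_cancel, A.one] at h1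
  refine ⟨hcne, fun t => ?_⟩
  obtain ⟨c, hc⟩ := hT i
  obtain ⟨d, μ, hμ, hTT⟩ := T_T hF A hqk i hz
  rw [hc, map_smul, hc, smul_smul, smul_smul] at hTT
  have hK : ∑ t : Fˣ, μ t ≠ 0 := by
    intro h0
    rw [h0, mul_zero, zero_mul, zero_smul, smul_eq_zero, or_iff_left hz0, mul_eq_zero, or_self] at hTT
    exact hcne c hc hTT
  have hhom : ∀ a b : Fˣ, μ (a * b) = μ a * μ b := by
    intro a b
    have h1 : A.ρ (hF.hg (D.simple i.val) ((a * b : Fˣ) : F))⁻¹ z = (μ a * μ b) • z := by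
      rw [← hF.torus_single, Pi.mulSingle_mul, map_mul, hF.torus_single, hF.torus_single,
        _root_.mul_inv_rev, A.mul _ (inv_mem (H_mem hF (hg_mem_H hF i b))) _
          (inv_mem (H_mem hF (hg_mem_H hF i a))), hμ, map_smul, hμ, smul_smul]
    rw [hμ] at h1
    exact smul_left_injective k hz0 h1
  have h1 : μ t = 1 := by
    by_contra hne
    refine hK ?_
    have h2 : μ t * ∑ a : Fˣ, μ a = ∑ a : Fˣ, μ a := by
      rw [Finset.mul_sum]
      exact Fintype.sum_bijective (fun a => t * a) (Group.mulLeft_bijective t) _ _ fun a =>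
        (hhom t a).symm
    by_contra h3
    exact hne (mul_eq_right₀ h3 |>.1 h2)
  have h4 := congrArg (A.ρ (hF.hg (D.simple i.val) (t : F))) (hμ t)
  have hm := H_mem hF (hg_mem_H hF i t)
  rw [← A.mul _ hm _ (inv_mem hm), mul_inv_cancel, A.one, h1, one_smul] at h4
  exact h4.symm

end Cfsg.Agent.Small.StModule
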