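import Cfsg.Agent.Lib.Small.SuzukiAut
import Cfsg.Agent.Lib.Lie.SuzukiToriCount
import Cfsg.Agent.S3639

/-!
# `Sz(8):3` acting on a module over the field with eight elements

The module is the sum of the three Galois conjugates of `4 ⊗ 4^σ`, repeated `n` times. Elements of order
thirteen fix no nonzero vector, elements of order five and seven do.
-/

set_option autoImplicit false
set_option linter.unusedSectionVars false

namespace Cfsg.Agent.Small.SuzukiEight

open Matrix Cfsg.Agent.Lie.Suzuki Polynomial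

variable {F : Type} [Field F] [Fintype F] (hF : Fintype.card F = 2 ^ (2 * 1 + 1))

/-- The matrix of an element. -/
def mat (g : Cfsg.Sz F 1) : Matrix (Fin 4) (Fin 4) F := ((g : Matrix.SpecialLinearGroup (Fin 4) F) : Matrix (Fin 4) (Fin 4) F)

theorem mat_mul (g h : Cfsg.Sz F 1) : mat (g * h) = mat g * mat h := rfl

theorem mat_one : mat (1 : Cfsg.Sz F 1) = 1 := rfl

theorem mat_pow (g : Cfsg.Sz F 1) (k : ℕ) : mat (g ^ k) = mat g ^ k := by
  induction k with
  | zero => rfl
  | succ k ih => rw [pow_succ, pow_succ, mat_mul, ih]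

include hF

theorem pow_eight (x : F) : x ^ 8 = x := by
  have h := FiniteField.pow_card x
  rw [hF] at h
  exact h

/-- The Frobenius automorphism. -/
noncomputable def frob : F ≃+* F :=
  haveI := charTwo hF
  RingEquiv.ofBijective (frobenius F 2) (Finite.injective_iff_bijective.1 (frobenius F 2).injective)

theorem frob_apply (x : F) : frob hF x = x ^ 2 := rfl

theorem frob_pow_three : frob hF ^ 3 = 1 := RingEquiv.ext fun x => by
  show frob hF (frob hF (frob hF x)) = x
  rw [frob_apply, frob_apply, frob_apply, ← pow_mul, ← pow_mul]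
  exact pow_eight hF x

theorem frob_ne_one : frob hF ≠ 1 := fun h => by
  classical
  obtain ⟨k, hk⟩ := exists_unit_ne_one (m := 1) hF le_rfl
  have h2 : (k : F) ^ 2 = k := by rw [← frob_apply hF, h]; rfl
  exact hk (mul_right_cancel₀ k.ne_zero (by rw [one_mul, ← pow_two]; exact h2))

/-- The group of field automorphisms. -/
noncomputable abbrev A : Subgroup (F ≃+* F) := Subgroup.zpowers (frob hF)

theorem card_A : Nat.card ↥(A hF) = 3 := by
  haveI : Fact (Nat.Prime 3) := ⟨Nat.prime_three⟩
  rw [Nat.card_zpowers, orderOf_eq_prime (frob_pow_three hF) (frob_ne_one hF)]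

instance finite_A : Finite ↥(A hF) := Nat.finite_of_card_ne_zero (by rw [card_A]; norm_num)

/-- The generator. -/
noncomputable def s : ↥(A hF) := ⟨frob hF, Subgroup.mem_zpowers _⟩

/-- The action on the Suzuki group. -/
noncomputable def φ : ↥(A hF) →* MulAut (Cfsg.Sz F 1) :=
  (SuzukiAut.fieldAut hF le_rfl).comp (A hF).subtype

theorem mat_φ (a : ↥(A hF)) (g : Cfsg.Sz F 1) : mat (φ hF a g) = (mat g).map (a : F ≃+* F) := rfl

theorem φ_mul (a b : ↥(A hF)) (g : Cfsg.Sz F 1) : φ hF (a * b) g = φ hF a (φ hF b g) := by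
  rw [map_mul, MulAut.mul_apply]

/-- Entries fixed by a nontrivial field automorphism are fixed by squaring. -/
theorem sq_eq_of_fixed {a : ↥(A hF)} (ha : a ≠ 1) {x : F} (h : (a : F ≃+* F) x = x) : x ^ 2 = x := by
  haveI : Fact (Nat.Prime 3) := ⟨Nat.prime_three⟩
  have ho : orderOf a = 3 := (Nat.prime_three.eq_one_or_self_of_dvd _ (card_A hF ▸ orderOf_dvd_natCard a)).resolve_left
    fun h => ha (orderOf_eq_one_iff.1 h)
  have hmem : s hF ∈ Subgroup.zpowers a := by
    rw [Subgroup.eq_top_of_card_eq (Subgroup.zpowers a) (by rw [Nat.card_zpowers, ho, card_A])]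
    trivial
  obtain ⟨i, hi⟩ := mem_powers_iff_mem_zpowers.2 hmem
  rw [← frob_apply hF]
  have hi' : ((a : F ≃+* F) ^ i) = frob hF := by
    rw [← Subgroup.coe_pow]; exact congrArg Subtype.val hi
  rw [← hi']
  clear hi hi'
  induction i with
  | zero => rfl
  | succ i ih => rw [pow_succ, RingAut.mul_apply, h, ih]

/-! ### Elements of order thirteen -/

/-- An element of order thirteen fixes no nonzero matrix. -/
theorem fixed_thirteen {g : Cfsg.Sz F 1} (hg : orderOf g = 13) {M : Matrix (Fin 4) (Fin 4) F}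
    (h : mat g * M * ((mat g).map (frob hF))ᵀ = M) : M = 0 := by
  classical
  haveI := charTwo hF
  haveI : Fact (Nat.Prime 2) := ⟨Nat.prime_two⟩
  have hg13 : g ^ 13 = 1 := hg ▸ pow_orderOf_eq_one g
  let G := mat g
  let Y := (((mat (g⁻¹)).map (frob hF))ᵀ)
  have hcomm : G * M = M * Y := by
    have h1 : ((mat g).map (frob hF))ᵀ * Y = 1 := by
      rw [← Matrix.transpose_mul, ← Matrix.map_mul, ← mat_mul, inv_mul_cancel, mat_one]
      simp
    calc G * M = G * M * (((mat g).map (frob hF))ᵀ * Y) := by rw [h1, mul_one]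
      _ = G * M * ((mat g).map (frob hF))ᵀ * Y := (Matrix.mul_assoc _ _ _).symm
      _ = M * Y := by rw [h]
  have hpoly : ∀ P : F[X], aeval G P * M = M * aeval Y P := by
    intro P
    induction P using Polynomial.induction_on' with
    | add a b ha hb => rw [map_add, map_add, Matrix.add_mul, Matrix.mul_add, ha, hb]
    | monomial k c =>
      rw [aeval_monomial, aeval_monomial, ← Algebra.smul_def, ← Algebra.smul_def, Matrix.smul_mul, Matrix.mul_smul]
      congr 1
      induction k with
      | zero => simp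
      | succ k ih => rw [pow_succ, pow_succ, Matrix.mul_assoc, hcomm, ← Matrix.mul_assoc, ih, Matrix.mul_assoc]
  have hcop : IsCoprime G.charpoly Y.charpoly := by
    rw [Polynomial.isCoprime_iff_aeval_ne_zero_of_isAlgClosed F (AlgebraicClosure F)]
    intro z
    by_contra! hz
    obtain ⟨hzG, hzY⟩ := hz
    haveI : CharP (AlgebraicClosure F) 2 := charP_of_injective_algebraMap (algebraMap F (AlgebraicClosure F)).injective 2
    -- roots of a characteristic polynomial are eigenvalues
    have heig : ∀ (N : Matrix (Fin 4) (Fin 4) F) (t : (AlgebraicClosure F)), aeval t N.charpoly = 0 →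
        ∃ v : Fin 4 → (AlgebraicClosure F), v ≠ 0 ∧ N.map (algebraMap F (AlgebraicClosure F)) *ᵥ v = t • v := by
      intro N t ht
      have hd : (Matrix.scalar (Fin 4) t - N.map (algebraMap F (AlgebraicClosure F))).det = 0 := by
        rw [← Matrix.eval_charpoly, ← Polynomial.IsRoot.def, Matrix.charpoly_map, Polynomial.IsRoot.def,
          Polynomial.eval_map_algebraMap]
        exact ht
      obtain ⟨v, hv, hv'⟩ := Matrix.exists_mulVec_eq_zero_iff.2 hd
      rw [Matrix.sub_mulVec, sub_eq_zero] at hv'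
      exact ⟨v, hv, by rw [← hv']; funext i; simp [Matrix.scalar, Matrix.mulVec_diagonal]⟩
    have hpw : ∀ (N : Matrix (Fin 4) (Fin 4) (AlgebraicClosure F)) (t : (AlgebraicClosure F)) (v : Fin 4 → (AlgebraicClosure F)), N *ᵥ v = t • v →
        ∀ k : ℕ, (N ^ k) *ᵥ v = t ^ k • v := fun N t v h k => by
      induction k with
      | zero => simp
      | succ k ih => rw [pow_succ', ← Matrix.mulVec_mulVec, ih, Matrix.mulVec_smul, h, smul_smul, ← pow_succ]
    have hord : ∀ t : (AlgebraicClosure F), aeval t G.charpoly = 0 → t ^ 13 = 1 ∧ t ≠ 1 := by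
      intro t ht
      obtain ⟨v, hv, hv'⟩ := heig G t ht
      constructor
      · have h1 := hpw _ t v hv' 13
        rw [← Matrix.map_pow, ← mat_pow, hg13, mat_one, Matrix.map_one _ (map_zero _) (map_one _),
          Matrix.one_mulVec] at h1
        have h2 : (t ^ 13 - 1) • v = 0 := by rw [sub_smul, one_smul, ← h1, sub_self]
        exact sub_eq_zero.1 ((smul_eq_zero.1 h2).resolve_right hv)
      · rintro rfl
        have hd : (G - 1).map (algebraMap F (AlgebraicClosure F)) *ᵥ v = 0 := by
          rw [Matrix.map_sub _ (map_sub _), Matrix.map_one _ (map_zero _) (map_one _), Matrix.sub_mulVec,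
            Matrix.one_mulVec, hv', one_smul, sub_self]
        have hd2 : (G - 1).det = 0 := by
          refine (algebraMap F (AlgebraicClosure F)).injective ?_
          rw [map_zero, RingHom.map_det]
          exact Matrix.exists_mulVec_eq_zero_iff.1 ⟨v, hv, hd⟩
        obtain ⟨u, hu, hu'⟩ := Matrix.exists_mulVec_eq_zero_iff.2 hd2
        rw [Matrix.sub_mulVec, Matrix.one_mulVec, sub_eq_zero] at hu'
        exact hu (S3639.fixed_eq_zero hF le_rfl (by norm_num) (by norm_num) hg hu')
    have hclosed : ∀ t : (AlgebraicClosure F), aeval t G.charpoly = 0 → aeval (t ^ 8) G.charpoly = 0 := by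
      intro t ht
      rw [show (8 : ℕ) = Fintype.card F from hF.symm, ← Polynomial.expand_aeval, FiniteField.expand_card,
        map_pow, ht, zero_pow (Fintype.card_ne_zero)]
    -- the second condition gives a further root
    have hw : aeval (z ^ 6) G.charpoly = 0 := by
      obtain ⟨v, hv, hv'⟩ := heig Y z hzY
      have h1 : ((mat g).map (frob hF))ᵀ.map (algebraMap F (AlgebraicClosure F)) *ᵥ (z • v) = v := by
        rw [← hv', Matrix.mulVec_mulVec, ← Matrix.map_mul, ← Matrix.transpose_mul, ← Matrix.map_mul, ← mat_mul,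
          inv_mul_cancel, mat_one]
        simp
      have hz13 := (hord z hzG).1
      have hz0 : z ≠ 0 := fun h => by rw [h] at hz13; simp at hz13
      have h2 : ((mat g).map (frob hF))ᵀ.map (algebraMap F (AlgebraicClosure F)) *ᵥ v = z ^ 12 • v := by
        rw [Matrix.mulVec_smul] at h1
        calc _ = (z ^ 12 * z) • (((mat g).map (frob hF))ᵀ.map (algebraMap F (AlgebraicClosure F)) *ᵥ v) := by
              rw [← pow_succ, hz13, one_smul]
          _ = z ^ 12 • v := by rw [mul_smul, h1]
      have h3 : aeval (z ^ 12) ((mat g).map (frob hF))ᵀ.charpoly = 0 := by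
        rw [← Polynomial.eval_map_algebraMap, ← Matrix.charpoly_map, Matrix.eval_charpoly]
        refine Matrix.exists_mulVec_eq_zero_iff.1 ⟨v, hv, ?_⟩
        rw [Matrix.sub_mulVec, h2, sub_eq_zero]
        funext i; simp [Matrix.scalar, Matrix.mulVec_diagonal]
      rw [Matrix.charpoly_transpose, show (mat g).map (frob hF) = (mat g).map (frobenius F 2) from rfl,
        Matrix.charpoly_map] at h3
      have h4 : (aeval (z ^ 6) G.charpoly) ^ 2 = 0 := by
        rw [← h3, aeval_def, aeval_def, Polynomial.eval₂_map, ← frobenius_def (p := 2),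
          Polynomial.hom_eval₂, frobenius_def, ← pow_mul]
        congr 1
        ext x
        simp [frobenius_def]
      exact eq_zero_of_pow_eq_zero h4
    obtain ⟨hz13, hz1⟩ := hord z hzG
    haveI : Fact (Nat.Prime 13) := ⟨by norm_num⟩
    have ho : orderOf z = 13 := orderOf_eq_prime hz13 hz1
    have hz0 : z ≠ 0 := fun h => by rw [h] at hz13; simp at hz13
    have hroot : ∀ i ∈ ({1, 8, 12, 5, 6, 9, 7, 4} : Finset ℕ), aeval (z ^ i) G.charpoly = 0 := by
      have hmod : ∀ i : ℕ, z ^ i = z ^ (i % 13) := fun i => by rw [← ho, pow_mod_orderOf]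
      have step : ∀ i, aeval (z ^ i) G.charpoly = 0 → aeval (z ^ (i * 8 % 13)) G.charpoly = 0 := fun i hi => by
        rw [← hmod, pow_mul]; exact hclosed _ hi
      have h1 : aeval (z ^ 1) G.charpoly = 0 := by rw [pow_one]; exact hzG
      intro i hi
      simp only [Finset.mem_insert, Finset.mem_singleton] at hi
      rcases hi with rfl | rfl | rfl | rfl | rfl | rfl | rfl | rfl
      exacts [h1, step 1 h1, step 8 (step 1 h1), step 12 (step 8 (step 1 h1)), hw, step 6 hw,
        step 4 (step 7 (step 9 (step 6 hw))) |> fun _ => step 9 (step 6 hw), step 7 (step 9 (step 6 hw))]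
    have hinj : Set.InjOn (fun i => z ^ i) (({1, 8, 12, 5, 6, 9, 7, 4} : Finset ℕ) : Set ℕ) := by
      intro i hi j hj h
      have hu : orderOf (Units.mk0 z hz0) = 13 := by rw [← orderOf_units]; exact ho
      have h' : Units.mk0 z hz0 ^ i = Units.mk0 z hz0 ^ j := Units.ext (by simpa using h)
      rw [pow_inj_mod, hu] at h'
      simp only [Finset.coe_insert, Finset.coe_singleton, Set.mem_insert_iff, Set.mem_singleton_iff] at hi hj
      omega
    have h8 : 8 ≤ (G.charpoly.aroots (AlgebraicClosure F)).toFinset.card := by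
      have hsub : (({1, 8, 12, 5, 6, 9, 7, 4} : Finset ℕ).image fun i => z ^ i) ⊆ (G.charpoly.aroots (AlgebraicClosure F)).toFinset := by
        intro t ht
        obtain ⟨i, hi, rfl⟩ := Finset.mem_image.1 ht
        rw [Multiset.mem_toFinset, mem_aroots]
        exact ⟨(Matrix.charpoly_monic G).ne_zero, hroot i hi⟩
      have h' := Finset.card_le_card hsub
      rw [Finset.card_image_of_injOn hinj] at h'
      exact h'
    have h4 : (G.charpoly.aroots (AlgebraicClosure F)).toFinset.card ≤ 4 := by
      refine (Multiset.toFinset_card_le _).trans ((Polynomial.card_roots' _).trans ?_)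
      rw [Polynomial.natDegree_map, Matrix.charpoly_natDegree_eq_dim, Fintype.card_fin]
    omega
  obtain ⟨a, b, hab⟩ := hcop
  have h1 := hpoly (a * G.charpoly)
  rw [map_mul, map_mul, Matrix.aeval_self_charpoly, mul_zero, Matrix.zero_mul] at h1
  have h2 : aeval Y (a * G.charpoly) = 1 := by
    have := congrArg (aeval Y) hab
    rwa [map_add, map_mul (aeval Y) b, Matrix.aeval_self_charpoly, mul_zero, add_zero, map_one] at this
  rw [← map_mul (aeval Y), h2, mul_one] at h1
  exact h1.symm

/-! ### Centralisers in `Sz(8)` -/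

theorem card_S : Nat.card (Cfsg.Sz F 1) = 29120 := by
  rw [card_sz hF le_rfl, hF]; norm_num

omit [Fintype F] hF in
theorem factorization_one {p m : ℕ} (hp : p.Prime) (hm : ¬ p ∣ m) : (p * m).factorization p = 1 := by
  have hm0 : m ≠ 0 := fun h => hm (h ▸ dvd_zero p)
  rw [Nat.factorization_mul hp.ne_zero hm0, Finsupp.add_apply, hp.factorization_self,
    Nat.factorization_eq_zero_of_not_dvd hm]

/-- Elements with a power of order five or thirteen. -/
theorem torus_power {p : ℕ} (hp : p = 5 ∨ p = 13) {g : Cfsg.Sz F 1} (hd : p ∣ orderOf g) : orderOf g = p := by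
  obtain ⟨U, hcyc, hU, hC, -⟩ := two_tori hF le_rfl p (by
    rcases hp with rfl | rfl
    · exact Or.inr rfl
    · exact Or.inl rfl)
  have hpp : p.Prime := by rcases hp with rfl | rfl <;> norm_num
  haveI : Fact p.Prime := ⟨hpp⟩
  obtain ⟨x, hxdef⟩ : ∃ x, x = g ^ (orderOf g / p) := ⟨_, rfl⟩
  have hx : orderOf x = p := hxdef ▸ orderOf_pow_orderOf_div (orderOf_pos g).ne' hd
  have hS : p ^ (Nat.card (Cfsg.Sz F 1)).factorization p = p := by
    rw [card_S hF]
    have e : (29120).factorization p = 1 := by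
      rcases hp with rfl | rfl <;> first
        | exact factorization_one (p := 5) (m := 5824) (by norm_num) (by norm_num)
        | exact factorization_one (p := 13) (m := 2240) (by norm_num) (by norm_num)
    rw [e, pow_one]
  obtain ⟨h, hh⟩ : ∃ h : Cfsg.Sz F 1, h * x * h⁻¹ ∈ U := by
    let P : Sylow p (Cfsg.Sz F 1) := Sylow.ofCard U (by rw [hU, hS])
    let Q : Sylow p (Cfsg.Sz F 1) := Sylow.ofCard (Subgroup.zpowers x) (by rw [Nat.card_zpowers, hx, hS])
    obtain ⟨h, hh⟩ := MulAction.exists_smul_eq (Cfsg.Sz F 1) Q P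
    refine ⟨h, ?_⟩
    have e : ((h • Q : Sylow p (Cfsg.Sz F 1)) : Subgroup (Cfsg.Sz F 1)) = U := by rw [hh]; rfl
    rw [← e]
    exact Subgroup.smul_mem_pointwise_smul x (MulAut.conj h) _ (Subgroup.mem_zpowers x)
  have hx1 : h * x * h⁻¹ ≠ 1 := fun e => hpp.ne_one (by
    rw [← hx, orderOf_eq_one_iff]; exact conj_eq_one_iff.1 e)
  have hg : h * g * h⁻¹ ∈ Subgroup.centralizer ({h * x * h⁻¹} : Set (Cfsg.Sz F 1)) := by
    rw [Subgroup.mem_centralizer_singleton_iff, conj_mul, conj_mul, hxdef, (Commute.self_pow g _).eq]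
  rw [hC _ hh hx1] at hg
  refine Nat.dvd_antisymm ?_ hd
  rw [← MulEquiv.orderOf_eq (MulAut.conj h) g, MulAut.conj_apply, ← hU]
  exact Subgroup.orderOf_dvd_natCard U hg

/-- An element of order seven or thirteen moved by every field automorphism. -/
theorem not_fixed {g : Cfsg.Sz F 1} (hg : orderOf g = 7 ∨ orderOf g = 13) :
    ¬ ∀ i j, mat g i j ^ 2 = mat g i j := by
  intro hfix
  haveI := charTwo hF
  rcases hg with hg | hg
  · haveI : Fact (Nat.Prime 7) := ⟨by norm_num⟩
    obtain ⟨⟨p, hp⟩, ha⟩ := exists_fixed hF le_rfl (y := g) (r := 7) (by norm_num) hg (by rw [hF]; norm_num)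
    obtain ⟨h, hh, hinf⟩ := to_inf hF hp
    let hS : Cfsg.Sz F 1 := ⟨h, hh⟩
    have hgp : (g : Matrix.SpecialLinearGroup (Fin 4) F) • p = p := congrArg Subtype.val ha
    have hginf : (hS * g * hS⁻¹) • Cfsg.suzukiPointInfinity F = Cfsg.suzukiPointInfinity F := by
      show (h * (g : Matrix.SpecialLinearGroup (Fin 4) F) * h⁻¹) • Cfsg.suzukiPointInfinity F = _
      rw [← hinf, mul_smul, mul_smul, inv_smul_smul, hgp]
    obtain ⟨a, b, k, hk⟩ := sz_fix hF le_rfl _ hginf
    have ho : orderOf (hS * g * hS⁻¹) = 7 := by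
      rw [← MulAut.conj_apply, MulEquiv.orderOf_eq, hg]
    have hk1 : k ≠ 1 := by
      rintro rfl
      rw [map_one, mul_one] at hk
      have h4 : (hS * g * hS⁻¹) ^ 4 = 1 := uSub_pow_four hF (g := hS * g * hS⁻¹) ⟨a, b, hk⟩
      have := orderOf_dvd_of_pow_eq_one h4
      rw [ho] at this
      norm_num at this
    have htr : (mat g).trace = (mat (hS * g * hS⁻¹)).trace := by
      rw [mat_mul, mat_mul, Matrix.trace_mul_cycle, ← mat_mul, inv_mul_cancel, mat_one, one_mul]
    have hT : (mat g).trace ^ 2 = (mat g).trace := by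
      simp only [Matrix.trace, Matrix.diag, Fin.sum_univ_four, CharTwo.add_sq, hfix]
    rw [htr, hk] at hT
    have e2 := two_eq_zero hF
    have h7 : (k : F) ^ 7 = 1 := by
      have := FiniteField.pow_card_sub_one_eq_one (k : F) k.ne_zero
      rwa [hF] at this
    have hi2 : ((k : F) ^ 2)⁻¹ = (k : F) ^ 5 := inv_eq_of_mul_eq_one_right (by rw [← pow_add]; exact h7)
    have hi3 : ((k : F) ^ 3)⁻¹ = (k : F) ^ 4 := inv_eq_of_mul_eq_one_right (by rw [← pow_add]; exact h7)
    have htrace : (mat (tS hF a b * dS hF k)).trace = (k : F) ^ 3 + (k : F) ^ 2 + (k : F) ^ 5 + (k : F) ^ 4 := by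
      rw [mat_mul, ← hi2, ← hi3]
      simp [mat, tS, dS, tM, tMat, dM, Matrix.trace, Fin.sum_univ_four, Matrix.vecMul_diagonal]
    rw [htrace] at hT
    obtain ⟨x, hx⟩ : ∃ x, x = (k : F) := ⟨_, rfl⟩
    rw [← hx] at hT h7
    have h4 : x * ((x ^ 4 + 1) * (x + 1)) = 0 := by
      linear_combination hT - (x ^ 3 + x) * h7 +
        (x ^ 2 - x ^ 8 - 2 * x ^ 7 - x ^ 6 - x ^ 9) * e2
    rcases mul_eq_zero.1 h4 with h | h
    · exact k.ne_zero (hx ▸ h)
    rcases mul_eq_zero.1 h with h | h
    · have hx4 : x ^ 4 = 1 := by linear_combination h - e2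
      have hx1 : x = 1 := by linear_combination (x ^ 4 + 1) * hx4 - x * h7
      exact hk1 (Units.ext (hx ▸ hx1))
    · have hx1 : x = 1 := by linear_combination h - e2
      exact hk1 (Units.ext (hx ▸ hx1))
  · have hmap : (mat g).map (frob hF) = mat g := Matrix.ext fun i j => by
      rw [Matrix.map_apply, frob_apply]; exact hfix i j
    have hJ : mat g * Cfsg.suzukiForm F * ((mat g).map (frob hF))ᵀ = Cfsg.suzukiForm F := by
      rw [hmap]
      have h1 : (mat g)ᵀ * Cfsg.suzukiForm F * mat g = Cfsg.suzukiForm F := form_preserved hF le_rfl g.2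
      have hJJ : Cfsg.suzukiForm F * Cfsg.suzukiForm F = 1 := by
        ext i j
        fin_cases i <;> fin_cases j <;> simp [Cfsg.suzukiForm, Matrix.mul_apply, Fin.sum_univ_four]
      have h2 : (Cfsg.suzukiForm F * (mat g)ᵀ * Cfsg.suzukiForm F) * mat g = 1 := by
        rw [Matrix.mul_assoc (Cfsg.suzukiForm F), Matrix.mul_assoc (Cfsg.suzukiForm F), h1, hJJ]
      have h3 := mul_eq_one_comm.1 h2
      calc mat g * Cfsg.suzukiForm F * (mat g)ᵀ
          = mat g * (Cfsg.suzukiForm F * (mat g)ᵀ * Cfsg.suzukiForm F) * Cfsg.suzukiForm F := by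
            simp only [Matrix.mul_assoc, hJJ, mul_one]
        _ = Cfsg.suzukiForm F := by rw [h3, one_mul]
    have h0 := fixed_thirteen hF hg hJ
    have := congrFun (congrFun h0 0) 3
    simp [Cfsg.suzukiForm] at this

/-! ### The extension -/

/-- `Sz(8):3`. -/
noncomputable abbrev L := Cfsg.Sz F 1 ⋊[φ hF] ↥(A hF)

instance finite_L : Finite (L hF) := Finite.of_equiv _ SemidirectProduct.equivProd.symm

theorem card_L : Nat.card (L hF) = 87360 := by
  rw [SemidirectProduct.card, card_S hF, card_A hF]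

/-- An element of order prime to three lies in `Sz(8)`. -/
theorem eq_inl {x : L hF} {r : ℕ} (hx : orderOf x = r) (hr : r.Coprime 3) :
    x = SemidirectProduct.inl x.left ∧ orderOf x.left = r := by
  have hright : x.right = 1 := by
    have h1 : orderOf x.right ∣ r := (orderOf_map_dvd SemidirectProduct.rightHom x).trans (dvd_of_eq hx)
    have h2 : orderOf x.right ∣ 3 := (orderOf_dvd_natCard x.right).trans (dvd_of_eq (card_A hF))
    exact orderOf_eq_one_iff.1 (Nat.eq_one_of_dvd_coprimes hr h1 h2)
  have he : x = SemidirectProduct.inl x.left := by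
    conv_lhs => rw [← SemidirectProduct.inl_left_mul_inr_right x]
    rw [hright, map_one, mul_one]
  refine ⟨he, ?_⟩
  rw [← orderOf_injective _ (SemidirectProduct.inl_injective (φ := φ hF)), ← he, hx]

theorem no_order {r p : ℕ} (hr : r = 2 ∨ r = 5 ∨ r = 7) (hp : p = 5 ∨ p = 13) (hrp : r ≠ p) (x : L hF) :
    orderOf x ≠ r * p := by
  intro hx
  obtain ⟨-, ho⟩ := eq_inl hF hx (by rcases hr with rfl | rfl | rfl <;> rcases hp with rfl | rfl <;> norm_num)
  have := torus_power hF hp (g := x.left) (ho ▸ dvd_mul_left p r)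
  rw [ho] at this
  rcases hr with rfl | rfl | rfl <;> rcases hp with rfl | rfl <;> omega

theorem no_order_three {r : ℕ} (hr : r = 7 ∨ r = 13) (x : L hF) : orderOf x ≠ 3 * r := by
  intro hx
  have hrp : r.Prime := by rcases hr with rfl | rfl <;> norm_num
  haveI : Fact (Nat.Prime 3) := ⟨Nat.prime_three⟩
  have h3 : orderOf (x ^ r) = 3 := by
    rw [orderOf_pow' _ hrp.ne_zero, hx, Nat.gcd_eq_right (dvd_mul_left r 3), Nat.mul_div_cancel _ hrp.pos]
  have hzr : orderOf (x ^ 3) = r := by
    rw [orderOf_pow' _ (by norm_num), hx, Nat.gcd_eq_right (dvd_mul_right 3 r), Nat.mul_div_cancel_left _ (by norm_num)]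
  have hS : 3 ^ (Nat.card (L hF)).factorization 3 = 3 := by
    rw [card_L, show (87360 : ℕ).factorization 3 = 1 from factorization_one (p := 3) (m := 29120) (by norm_num) (by norm_num),
      pow_one]
  let P : Sylow 3 (L hF) := Sylow.ofCard (SemidirectProduct.inr (φ := φ hF)).range (by
    rw [← Nat.card_congr (MonoidHom.ofInjective SemidirectProduct.inr_injective).toEquiv, card_A, hS])
  let Q : Sylow 3 (L hF) := Sylow.ofCard (Subgroup.zpowers (x ^ r)) (by rw [Nat.card_zpowers, h3, hS])
  obtain ⟨h, hh⟩ := MulAction.exists_smul_eq (L hF) Q P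
  have hmem : h * x ^ r * h⁻¹ ∈ (SemidirectProduct.inr (φ := φ hF)).range := by
    have e : ((h • Q : Sylow 3 (L hF)) : Subgroup (L hF)) = (SemidirectProduct.inr (φ := φ hF)).range := by
      rw [hh]; rfl
    rw [← e]
    exact Subgroup.smul_mem_pointwise_smul _ (MulAut.conj h) _ (Subgroup.mem_zpowers _)
  obtain ⟨a, ha⟩ := hmem
  have ho : orderOf (h * x ^ 3 * h⁻¹) = r := by rw [← MulAut.conj_apply, MulEquiv.orderOf_eq, hzr]
  obtain ⟨he, ho'⟩ := eq_inl hF ho (by rcases hr with rfl | rfl <;> norm_num)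
  obtain ⟨g, hg⟩ : ∃ g, g = (h * x ^ 3 * h⁻¹).left := ⟨_, rfl⟩
  rw [← hg] at he ho'
  have ha1 : a ≠ 1 := by
    rintro rfl
    rw [map_one] at ha
    have : x ^ r = 1 := conj_eq_one_iff.1 ha.symm
    rw [this, orderOf_one] at h3
    omega
  have hcomm : SemidirectProduct.inr a * SemidirectProduct.inl g =
      (SemidirectProduct.inl g * SemidirectProduct.inr a : L hF) := by
    rw [← he, ha, conj_mul, conj_mul, ← pow_add, ← pow_add, add_comm]
  have hfix : φ hF a g = g := by
    have := congrArg SemidirectProduct.left hcomm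
    simpa using this
  refine not_fixed hF (g := g) (by rw [ho']; exact hr) fun i j => sq_eq_of_fixed hF ha1 ?_
  exact congrFun (congrFun (congrArg mat hfix) i) j

end Cfsg.Agent.Small.SuzukiEight
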