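import Cfsg.Agent.Lib.Small.SuzukiSylowFacts
import Cfsg.Agent.Lib.Classical.Subfield
import Cfsg.Prelude.Def_Transfer

/-!
Two generators of a Suzuki group; elementary abelian TI subgroups.
-/

set_option autoImplicit false

namespace Cfsg.Agent.Small.SuzukiGen

open Cfsg.Agent.Lie.Suzuki

variable {F : Type*} [Field F] {m : ℕ} [Fintype F] (hF : Fintype.card F = 2 ^ (2 * m + 1))
include hF

theorem tS_inj {a b c d : F} (h : tS (m := m) hF a b = tS hF c d) : a = c ∧ b = d :=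
  tM_injective (congrArg Subtype.val h : tM m a b = tM m c d)

theorem two_generated (hm : 1 ≤ m) :
    ∃ a b : Cfsg.Sz F m, Subgroup.closure ({a, b} : Set (Cfsg.Sz F m)) = ⊤ := by
  obtain ⟨k, hk⟩ := IsCyclic.exists_generator (α := Fˣ)
  refine ⟨dS hF k, tS hF 1 0 * wS hF, ?_⟩
  obtain ⟨K, hK⟩ : ∃ K, K = Subgroup.closure ({dS hF k, tS hF 1 0 * wS hF} : Set (Cfsg.Sz F m)) := ⟨_, rfl⟩
  rw [← hK]
  have hd : dS hF k ∈ K := hK ▸ Subgroup.subset_closure (by simp)
  have hb : tS hF 1 0 * wS hF ∈ K := hK ▸ Subgroup.subset_closure (by simp)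
  have hk1 : (k : F) ≠ 1 := by
    intro e
    obtain ⟨l, hl⟩ := exists_unit_ne_one hF hm
    obtain ⟨i, hi⟩ := Subgroup.mem_zpowers_iff.1 (hk l)
    rw [show k = 1 from Units.ext e, one_zpow] at hi
    exact hl (by rw [← hi]; rfl)
  have hall : ∀ l : Fˣ, dS hF l ∈ K := by
    intro l
    obtain ⟨i, rfl⟩ := Subgroup.mem_zpowers_iff.1 (hk l)
    rw [map_zpow]
    exact zpow_mem hd i
  -- an element of order four in the translation group
  obtain ⟨a0, c0, ha0, hu⟩ : ∃ a c : F, a ≠ 0 ∧ tS hF a c ∈ K := by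
    have e : (tS hF 1 0 * wS hF) * dS hF k * (tS hF 1 0 * wS hF)⁻¹ * dS hF k =
        tS hF 1 0 * (dS hF k⁻¹ * (tS hF 1 0)⁻¹ * dS hF k) := by
      have hw : wS (m := m) hF * dS hF k * (wS hF)⁻¹ = dS hF k⁻¹ := by
        rw [wS_inv hF]
        exact Subtype.ext (wM_dM_wM k)
      rw [← hw]
      group
    have hmem := K.mul_mem (K.mul_mem (K.mul_mem hb hd) (K.inv_mem hb)) hd
    rw [e, tS_inv hF, dS_mul_tS hF hm, mul_assoc, ← map_mul, inv_mul_cancel, map_one, mul_one,
      tS_mul hF] at hmem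
    refine ⟨_, _, ?_, hmem⟩
    intro e0
    rw [mul_one] at e0
    have h1 : ((k⁻¹ : Fˣ) : F) = 1 := ((eq_neg_of_add_eq_zero_right e0).trans (neg_eq hF _))
    exact hk1 (by rw [show k = 1 by rw [← inv_eq_one]; exact Units.ext h1]; rfl)
  have hconj : ∀ (l : Fˣ) a c, tS hF a c ∈ K →
      tS hF ((l : F) * a) ((l : F) ^ (2 ^ (m + 1) + 1) * c) ∈ K := by
    intro l a c h
    have := K.mul_mem (K.mul_mem (hall l) h) (K.inv_mem (hall l))
    rwa [dS_mul_tS hF hm, mul_inv_cancel_right] at this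
  have hZ : ∀ z, tS hF 0 z ∈ K := by
    intro z
    rcases eq_or_ne z 0 with rfl | hz
    · rw [tS_zero hF]; exact K.one_mem
    have hsq := K.mul_mem hu hu
    rw [tS_mul hF, add_self hF, add_self hF, zero_add] at hsq
    have hz0 : a0 ^ 2 ^ (m + 1) * a0 ≠ 0 := mul_ne_zero (pow_ne_zero _ ha0) ha0
    have := hconj (Units.mk0 _ (pow_ne_zero (2 ^ (m + 1) - 1) (div_ne_zero hz hz0))) 0 _ hsq
    rw [mul_zero, Units.val_mk0, (sg_add_one_left_inv hF _).1, div_mul_cancel₀ _ hz0] at this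
    exact this
  have hU : uSub hF ≤ K := by
    rintro _ ⟨a, c, rfl⟩
    rcases eq_or_ne a 0 with rfl | ha
    · exact hZ c
    have h1 := hconj (Units.mk0 _ (div_ne_zero ha ha0)) a0 c0 hu
    rw [Units.val_mk0, div_mul_cancel₀ _ ha0] at h1
    have h2 := K.mul_mem (hZ (c + (a / a0) ^ (2 ^ (m + 1) + 1) * c0)) h1
    rw [tS_mul hF, zero_add, zero_pow (pow_ne_zero _ (two_ne_zero (α := ℕ))), zero_mul, add_zero,
      add_assoc, add_self hF, add_zero] at h2
    exact h2
  by_contra hne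
  obtain ⟨M, hM, hKM⟩ := (eq_top_or_exists_le_coatom K).resolve_left hne
  have h2 := (SuzukiFacts.stab_maximal hF hm).2 M hM (hU.trans hKM)
  have hbM : tS hF 1 0 * wS hF ∈ MulAction.stabilizer (Cfsg.Sz F m) (Cfsg.suzukiPointInfinity F) :=
    h2 ▸ hKM hb
  have h3 : (tM m (1 : F) 0 * wM F) • Cfsg.suzukiPointInfinity F = Cfsg.suzukiPointInfinity F := hbM
  rw [mul_smul, wM_inf (m := m), tM_pt_zero hF] at h3
  exact pt_ne_inf (1 : F) 0 h3

theorem ti_iff (hm : 1 ≤ m) (n : ℕ) (hn : 1 ≤ n) :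
    (∃ E : Subgroup (Cfsg.Sz F m), Cfsg.IsElementaryAbelian 2 E ∧ Nat.card E = 2 ^ n ∧
      ∀ x : Cfsg.Sz F m, E ⊓ E.map (MulAut.conj x).toMonoidHom ≠ ⊥ →
        x ∈ Subgroup.normalizer (E : Set (Cfsg.Sz F m))) ↔ n ∣ 2 * m + 1 := by
  haveI : Fact (Nat.Prime 2) := ⟨Nat.prime_two⟩
  haveI := charTwo hF
  constructor
  · rintro ⟨E0, ⟨hab, hexp⟩, hcard, hti⟩
    -- move E into the translation group
    obtain ⟨P, hP⟩ := (IsPGroup.of_card (n := n) hcard).exists_le_sylow
    obtain ⟨g, hg⟩ := SuzukiFacts.exists_conj_uSub hF hm P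
    rw [hg] at hP
    let A : AddSubgroup F :=
      { carrier := {b | g * tS hF 0 b * g⁻¹ ∈ E0}
        zero_mem' := by
          show g * tS hF 0 0 * g⁻¹ ∈ E0
          rw [tS_zero hF, mul_one, mul_inv_cancel]
          exact E0.one_mem
        add_mem' := fun {b c} hb hc => by
          show g * tS hF 0 (b + c) * g⁻¹ ∈ E0
          have e : tS (m := m) hF 0 (b + c) = tS hF 0 b * tS hF 0 c := by
            rw [tS_mul hF]; simp
          rw [e, show g * (tS hF 0 b * tS hF 0 c) * g⁻¹ =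
            g * tS hF 0 b * g⁻¹ * (g * tS hF 0 c * g⁻¹) by group]
          exact mul_mem hb hc
        neg_mem' := fun {b} hb => by
          show g * tS hF 0 (-b) * g⁻¹ ∈ E0
          rw [neg_eq hF]
          exact hb }
    have hAE : Nat.card A = 2 ^ n := by
      rw [← hcard]
      refine Nat.card_eq_of_bijective (fun b : A => (⟨g * tS hF 0 b.1 * g⁻¹, b.2⟩ : E0)) ⟨?_, ?_⟩
      · intro b c h
        exact Subtype.ext ((tM_injective (congrArg Subtype.val
          (mul_left_cancel (mul_right_cancel (congrArg Subtype.val h))) : tM m 0 b.1 = tM m 0 c.1)).2)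
      · rintro ⟨x, hx⟩
        obtain ⟨u, ⟨a, b, rfl⟩, rfl⟩ := hP hx
        have hx2 : g * tS hF a b * g⁻¹ * (g * tS hF a b * g⁻¹) = 1 := by
          have h1 := hexp _ hx
          rw [sq] at h1
          exact h1
        rw [show g * tS hF a b * g⁻¹ * (g * tS hF a b * g⁻¹) = g * (tS hF a b * tS hF a b) * g⁻¹ by group,
          conj_eq_one_iff, tS_mul hF, ← tS_zero hF] at hx2
        have h2 := (tS_inj hF hx2).2
        rw [add_self hF, zero_add] at h2
        have ha : a = 0 := by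
          rcases mul_eq_zero.1 h2 with h3 | h3
          · exact eq_zero_of_pow_eq_zero h3
          · exact h3
        subst ha
        exact ⟨⟨b, hx⟩, rfl⟩
    -- scaling invariance
    have hscale : ∀ s : F, s ≠ 0 → ∀ a ∈ A, a ≠ 0 → s * a ∈ A → ∀ b ∈ A, s * b ∈ A := by
      intro s hs a ha ha0 hsa b hb
      obtain ⟨k, hk⟩ : ∃ k : Fˣ, (k : F) ^ (2 ^ (m + 1) + 1) = s :=
        ⟨Units.mk0 _ (pow_ne_zero (2 ^ (m + 1) - 1) hs), (sg_add_one_left_inv hF s).1⟩
      have hc : ∀ c : F, MulAut.conj (g * dS hF k * g⁻¹) (g * tS hF 0 c * g⁻¹) =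
          g * tS hF 0 (s * c) * g⁻¹ := by
        intro c
        calc MulAut.conj (g * dS hF k * g⁻¹) (g * tS hF 0 c * g⁻¹)
            = g * (dS hF k * tS hF 0 c * (dS hF k)⁻¹) * g⁻¹ := by rw [MulAut.conj_apply]; group
          _ = _ := by rw [dS_mul_tS hF hm, mul_inv_cancel_right, mul_zero, hk]
      have hN := hti (g * dS hF k * g⁻¹) fun hbot => ?_
      · have := (Subgroup.mem_set_normalizer_iff.1 hN _).1 hb
        rw [← MulAut.conj_apply, hc] at this
        exact this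
      · have : g * tS hF 0 (s * a) * g⁻¹ ∈ E0 ⊓ E0.map (MulAut.conj (g * dS hF k * g⁻¹)).toMonoidHom :=
          Subgroup.mem_inf.mpr ⟨hsa, ⟨_, ha, hc a⟩⟩
        rw [hbot, Subgroup.mem_bot, conj_eq_one_iff, ← tS_zero hF] at this
        have h2 := (tS_inj hF this).2
        exact mul_ne_zero hs ha0 h2
    obtain ⟨a0, ha0A, ha0⟩ : ∃ a ∈ A, a ≠ 0 := by
      by_contra! h
      have : A = ⊥ := eq_bot_iff.2 fun x hx => AddSubgroup.mem_bot.2 (h x hx)
      rw [this, AddSubgroup.card_bot] at hAE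
      exact absurd hAE.symm (Nat.one_lt_two_pow (by omega)).ne'
    let K : Subfield F :=
      { carrier := {s | s * a0 ∈ A}
        one_mem' := by show 1 * a0 ∈ A; rw [one_mul]; exact ha0A
        mul_mem' := fun {x y} hx hy => by
          show x * y * a0 ∈ A
          rcases eq_or_ne x 0 with rfl | hx0
          · rw [zero_mul, zero_mul]; exact A.zero_mem
          rw [mul_assoc]
          exact hscale x hx0 a0 ha0A ha0 hx _ hy
        zero_mem' := by show 0 * a0 ∈ A; rw [zero_mul]; exact A.zero_mem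
        add_mem' := fun {x y} hx hy => by show (x + y) * a0 ∈ A; rw [add_mul]; exact A.add_mem hx hy
        neg_mem' := fun {x} hx => by show -x * a0 ∈ A; rw [neg_mul]; exact A.neg_mem hx
        inv_mem' := fun x hx => by
          show x⁻¹ * a0 ∈ A
          rcases eq_or_ne x 0 with rfl | hx0
          · rw [inv_zero, zero_mul]; exact A.zero_mem
          refine hscale x⁻¹ (inv_ne_zero hx0) (x * a0) hx (mul_ne_zero hx0 ha0) ?_ a0 ha0A
          rw [inv_mul_cancel_left₀ hx0]; exact ha0A }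
    have hKA : Nat.card K = 2 ^ n := by
      rw [← hAE]
      refine Nat.card_eq_of_bijective (fun s : K => (⟨s.1 * a0, s.2⟩ : A)) ⟨?_, ?_⟩
      · intro s t h
        exact Subtype.ext (mul_right_cancel₀ ha0 (congrArg Subtype.val h))
      · rintro ⟨b, hb⟩
        have hbK : b / a0 * a0 ∈ A := by rw [div_mul_cancel₀ _ ha0]; exact hb
        exact ⟨⟨b / a0, hbK⟩, Subtype.ext (div_mul_cancel₀ b ha0)⟩
    have h := Module.natCard_eq_pow_finrank (K := K) (V := F)
    rw [hKA, Nat.card_eq_fintype_card, hF, ← pow_mul] at h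
    exact ⟨_, (Nat.pow_right_injective le_rfl h)⟩
  · intro hd
    obtain ⟨K, hKcard, -⟩ := Cfsg.Agent.Classical.exists_subfield_pow Nat.prime_two hF hd (by omega)
    let φ : Multiplicative K →* Cfsg.Sz F m :=
      MonoidHom.mk' (fun s => tS hF 0 (s.toAdd : F)) fun s t => by
        rw [tS_mul hF]; simp
    have hinj : Function.Injective φ := fun s t h =>
      Subtype.ext (tM_injective (congrArg Subtype.val h : tM m 0 (s.toAdd : F) = tM m 0 (t.toAdd : F))).2
    refine ⟨φ.range, ⟨⟨⟨?_⟩⟩, ?_⟩, ?_, ?_⟩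
    · rintro ⟨_, s, rfl⟩ ⟨_, t, rfl⟩
      exact Subtype.ext (by show φ s * φ t = φ t * φ s; rw [← map_mul, ← map_mul, mul_comm])
    · rintro _ ⟨s, rfl⟩
      rw [sq]
      show tS hF 0 _ * tS hF 0 _ = 1
      rw [tS_mul hF]
      simp [add_self hF, tS_zero hF]
    · rw [← Nat.card_congr (MonoidHom.ofInjective hinj).toEquiv]
      exact hKcard
    intro x hx
    obtain ⟨y, ⟨⟨s, rfl⟩, ⟨z, ⟨t, rfl⟩, hzt⟩⟩, hy1⟩ := (Subgroup.bot_or_exists_ne_one _).resolve_left hx
    have hs0 : (s.toAdd : F) ≠ 0 := fun e => hy1 (by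
      show tS hF 0 (s.toAdd : F) = 1
      rw [e, tS_zero hF])
    have hzt' : x * tS hF 0 (t.toAdd : F) * x⁻¹ = tS hF 0 (s.toAdd : F) := hzt
    have hinf : x • Cfsg.suzukiPointInfinity F = Cfsg.suzukiPointInfinity F := by
      rcases mem_ovoid.1 (smul_mem hF x.2 inf_mem) with h | ⟨a, b, h⟩
      · exact h
      · exfalso
        have h' : x • Cfsg.suzukiPointInfinity F = pt m a b := h
        have h1 : tS hF 0 (s.toAdd : F) • pt m a b = pt m a b := by
          rw [← hzt', ← h', mul_smul, mul_smul, inv_smul_smul]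
          exact congrArg (x • ·) (tM_inf _ _)
        have h2 : tM m 0 (s.toAdd : F) • pt m a b = pt m a b := h1
        rw [tM_pt hF] at h2
        have := (pt_inj h2).2
        rw [zero_pow (pow_ne_zero _ (two_ne_zero (α := ℕ))), zero_mul, add_zero] at this
        exact hs0 (add_eq_left.1 this)
    obtain ⟨a, b, k, rfl⟩ := sz_fix hF hm x hinf
    have hform : ∀ c : F, tS hF a b * dS hF k * tS hF 0 c * (tS hF a b * dS hF k)⁻¹ =
        tS hF 0 ((k : F) ^ (2 ^ (m + 1) + 1) * c) := by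
      intro c
      rw [mul_assoc (tS hF a b), dS_mul_tS hF hm, mul_zero, mul_inv_rev, mul_assoc,
        mul_assoc (tS hF 0 _), mul_inv_cancel_left, ← mul_assoc, ← tS_zero_comm hF, mul_inv_cancel_right]
    rw [hform] at hzt'
    have hke : (k : F) ^ (2 ^ (m + 1) + 1) * (t.toAdd : F) = (s.toAdd : F) :=
      (tS_inj hF hzt').2
    have ht0 : (t.toAdd : F) ≠ 0 := fun e => hs0 (by rw [← hke, e, mul_zero])
    have hkK : (k : F) ^ (2 ^ (m + 1) + 1) ∈ K := by
      rw [show (k : F) ^ (2 ^ (m + 1) + 1) = (s.toAdd : F) / (t.toAdd : F) by rw [← hke, mul_div_cancel_right₀ _ ht0]]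
      exact K.div_mem s.toAdd.2 t.toAdd.2
    have hle : φ.range.map (MulAut.conj (tS hF a b * dS hF k)).toMonoidHom ≤ φ.range := by
      rintro _ ⟨_, ⟨r, rfl⟩, rfl⟩
      exact ⟨Multiplicative.ofAdd ⟨_, K.mul_mem hkK r.toAdd.2⟩, (hform _).symm⟩
    have heq := Subgroup.eq_of_le_of_card_ge hle
      (Subgroup.card_map_of_injective (MulAut.conj (tS hF a b * dS hF k)).injective).ge
    rw [Subgroup.mem_set_normalizer_iff]
    intro h
    constructor
    · exact fun hh => hle ⟨h, hh, rfl⟩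
    · intro hh
      rw [← heq] at hh
      obtain ⟨w, hw, hwh⟩ := hh
      rwa [← (MulAut.conj (tS hF a b * dS hF k)).injective hwh]

end Cfsg.Agent.Small.SuzukiGen
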