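import Mathlib

/-!
Sylow subgroups of general and special linear groups for primes larger than the dimension.
-/

set_option autoImplicit false
set_option linter.style.haveILetI false
set_option linter.unusedSectionVars false

namespace Cfsg.Agent.Small.SylowLarge

open Matrix

variable {q r : ℕ}

/-- The exponent of the cyclic factors. -/
noncomputable def expo (q r : ℕ) : ℕ :=
  padicValNat r ((Polynomial.cyclotomic (orderOf (q : ZMod r)) ℤ).eval (q : ℤ)).natAbs

theorem one_le_pow_q (hq : 2 ≤ q) (i : ℕ) : 1 ≤ q ^ i := Nat.one_le_pow _ _ (by omega)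

theorem order_pos (hr : r.Prime) (hrq : ¬ r ∣ q) : 0 < orderOf (q : ZMod r) := by
  haveI := Fact.mk hr
  have hne : (q : ZMod r) ≠ 0 := fun h => hrq ((ZMod.natCast_eq_zero_iff q r).1 h)
  exact orderOf_pos_iff.2 (isOfFinOrder_iff_pow_eq_one.2
    ⟨r - 1, by have := hr.two_le; omega, ZMod.pow_card_sub_one_eq_one hne⟩)

theorem dvd_pow_sub_one_iff (hq : 2 ≤ q) (i : ℕ) : r ∣ q ^ i - 1 ↔ orderOf (q : ZMod r) ∣ i := by
  rw [orderOf_dvd_iff_pow_eq_one, ← ZMod.natCast_eq_zero_iff, Nat.cast_sub (one_le_pow_q hq i), sub_eq_zero,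
    Nat.cast_pow, Nat.cast_one]

theorem expo_eq (hr : r.Prime) (hq : 2 ≤ q) (hrq : ¬ r ∣ q) :
    expo q r = padicValNat r (q ^ orderOf (q : ZMod r) - 1) := by
  classical
  haveI := Fact.mk hr
  obtain ⟨d, hd⟩ : ∃ d, d = orderOf (q : ZMod r) := ⟨_, rfl⟩
  have hdpos : 0 < d := hd ▸ order_pos hr hrq
  rw [expo, ← hd]
  have hprod := congrArg (fun P : Polynomial ℤ => (P.eval (q : ℤ)).natAbs)
    (Polynomial.prod_cyclotomic_eq_X_pow_sub_one hdpos ℤ)
  simp only [Polynomial.eval_prod, Polynomial.eval_sub, Polynomial.eval_pow, Polynomial.eval_X,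
    Polynomial.eval_one] at hprod
  rw [show ((q : ℤ) ^ d - 1).natAbs = q ^ d - 1 by
    rw [show (q : ℤ) ^ d - 1 = ((q ^ d - 1 : ℕ) : ℤ) by rw [Nat.cast_sub (one_le_pow_q hq d)]; simp]
    exact Int.natAbs_natCast _,
    ← Finset.mul_prod_erase _ _ (Nat.mem_divisors_self d hdpos.ne'), Int.natAbs_mul] at hprod
  have hne : q ^ d - 1 ≠ 0 := by
    have : 2 ^ 1 ≤ q ^ d := le_trans (Nat.pow_le_pow_left hq 1) (Nat.pow_le_pow_right (by omega) hdpos)
    omega
  rw [← hprod, padicValNat.mul (left_ne_zero_of_mul (hprod ▸ hne)) (right_ne_zero_of_mul (hprod ▸ hne))]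
  refine (Nat.add_eq_left.2 (padicValNat.eq_zero_of_not_dvd fun hdvd => ?_)).symm
  rw [← Int.natCast_dvd] at hdvd
  obtain ⟨c, hc, hcd⟩ := (Nat.prime_iff_prime_int.1 hr).exists_mem_finset_dvd hdvd
  obtain ⟨hcd', hcmem⟩ := Finset.mem_erase.1 hc
  have hcdvd := (Nat.mem_divisors.1 hcmem).1
  have h1 : (r : ℤ) ∣ ((q : ℤ) ^ c - 1) := by
    have := Polynomial.eval_dvd (x := (q : ℤ)) (Polynomial.cyclotomic.dvd_X_pow_sub_one c ℤ)
    simpa using hcd.trans this
  rw [show (q : ℤ) ^ c - 1 = ((q ^ c - 1 : ℕ) : ℤ) by rw [Nat.cast_sub (one_le_pow_q hq c)]; simp,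
    Int.natCast_dvd_natCast, dvd_pow_sub_one_iff hq, ← hd] at h1
  exact hcd' (Nat.dvd_antisymm hcdvd h1)

theorem val_pow_sub_one (hr : r.Prime) (hq : 2 ≤ q) (hrq : ¬ r ∣ q) {i : ℕ} (hi : 1 ≤ i) (hir : i < r) :
    padicValNat r (q ^ i - 1) = if orderOf (q : ZMod r) ∣ i then expo q r else 0 := by
  haveI := Fact.mk hr
  split_ifs with h
  · obtain ⟨k, hk⟩ := h
    obtain ⟨d, hd⟩ : ∃ d, d = orderOf (q : ZMod r) := ⟨_, rfl⟩
    rw [expo_eq hr hq hrq, ← hd]
    rw [← hd] at hk
    have hk0 : 1 ≤ k := by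
      rcases Nat.eq_zero_or_pos k with rfl | hk0
      · omega
      · exact hk0
    have hgs : (∑ j ∈ Finset.range k, (q ^ d) ^ j) * (q ^ d - 1) = q ^ i - 1 := by
      rw [hk, pow_mul]
      exact geom_sum_mul_of_one_le (one_le_pow_q hq d) k
    have hne : q ^ i - 1 ≠ 0 := by
      have : 2 ^ 1 ≤ q ^ i := le_trans (Nat.pow_le_pow_left hq 1) (Nat.pow_le_pow_right (by omega) hi)
      omega
    rw [← hgs, padicValNat.mul (left_ne_zero_of_mul (hgs ▸ hne)) (right_ne_zero_of_mul (hgs ▸ hne))]
    refine Nat.add_eq_right.2 (padicValNat.eq_zero_of_not_dvd fun hdvd => ?_)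
    rw [← ZMod.natCast_eq_zero_iff] at hdvd
    push_cast at hdvd
    rw [show (q : ZMod r) ^ d = 1 from hd ▸ pow_orderOf_eq_one _] at hdvd
    simp only [one_pow, Finset.sum_const, Finset.card_range, nsmul_eq_mul, mul_one] at hdvd
    rw [ZMod.natCast_eq_zero_iff] at hdvd
    have hd1 : 1 ≤ d := hd ▸ order_pos hr hrq
    have hki : k ≤ i := hk ▸ Nat.le_mul_of_pos_left k hd1
    have := Nat.le_of_dvd hk0 hdvd
    omega
  · exact padicValNat.eq_zero_of_not_dvd fun hdvd => h ((dvd_pow_sub_one_iff hq i).1 hdvd)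

variable {F : Type*} [Field F] [Fintype F]

theorem fact_GL (hr : r.Prime) (hF : Fintype.card F = q) (hrq : ¬ r ∣ q) (n : ℕ) (hn : n < r) :
    (Nat.card (GL (Fin n) F)).factorization r =
      ((Finset.Icc 1 n).filter (fun i => orderOf (q : ZMod r) ∣ i)).card * expo q r := by
  haveI := Fact.mk hr
  have hq : 2 ≤ q := hF ▸ Fintype.one_lt_card
  rw [Matrix.card_GL_field, hF]
  have hterm : ∀ i : Fin n, q ^ n - q ^ (i : ℕ) = q ^ (i : ℕ) * (q ^ (n - i) - 1) := fun i => by
    rw [Nat.mul_sub, ← pow_add, Nat.add_sub_cancel' i.isLt.le, mul_one]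
  have hne : ∀ i : Fin n, q ^ (n - (i : ℕ)) - 1 ≠ 0 := fun i => by
    have : 2 ^ 1 ≤ q ^ (n - (i : ℕ)) :=
      le_trans (Nat.pow_le_pow_left hq 1) (Nat.pow_le_pow_right (by omega) (by have := i.isLt; omega))
    omega
  simp only [hterm]
  rw [Nat.factorization_prod fun i _ => mul_ne_zero (pow_ne_zero _ (by omega)) (hne i), Finsupp.coe_finsetSum,
    Finset.sum_apply, Finset.card_filter, Finset.sum_mul]
  have hval : ∀ i : Fin n, (q ^ (i : ℕ) * (q ^ (n - i) - 1)).factorization r =
      (if orderOf (q : ZMod r) ∣ n - (i : ℕ) then 1 else 0) * expo q r := fun i => by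
    rw [Nat.factorization_mul (pow_ne_zero _ (by omega)) (hne i), Finsupp.add_apply, Nat.factorization_pow,
      Finsupp.smul_apply, Nat.factorization_eq_zero_of_not_dvd hrq, smul_zero, zero_add,
      Nat.factorization_def _ hr, val_pow_sub_one hr hq hrq (by have := i.isLt; omega) (by omega)]
    split_ifs <;> simp
  rw [Finset.sum_congr rfl fun i _ => hval i,
    Fin.sum_univ_eq_sum_range (fun i => (if orderOf (q : ZMod r) ∣ n - i then 1 else 0) * expo q r) n]
  refine Finset.sum_bij' (fun i _ => n - i) (fun i _ => n - i) ?_ ?_ ?_ ?_ ?_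
  · intro i hi
    simp only [Finset.mem_range] at hi
    simp only [Finset.mem_Icc]
    omega
  · intro i hi
    simp only [Finset.mem_Icc] at hi
    simp only [Finset.mem_range]
    omega
  · intro i hi
    simp only [Finset.mem_range] at hi
    omega
  · intro i hi
    simp only [Finset.mem_Icc] at hi
    omega
  · intro i hi
    rfl

theorem card_multiples {n d : ℕ} (hd : 1 ≤ d) :
    ((Finset.Icc 1 n).filter (fun i => d ∣ i)).card = n / d := by
  rw [← Nat.Ioc_filter_dvd_card_eq_div n d]
  rfl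

theorem card_GL_eq_mul (n : ℕ) (hn : 1 ≤ n) :
    Nat.card (GL (Fin n) F) = (Fintype.card F - 1) * Nat.card (Matrix.SpecialLinearGroup (Fin n) F) := by
  classical
  have hker : Nat.card (Matrix.GeneralLinearGroup.det : GL (Fin n) F →* Fˣ).ker =
      Nat.card (Matrix.SpecialLinearGroup (Fin n) F) := by
    refine (Nat.card_eq_of_bijective (fun g : Matrix.SpecialLinearGroup (Fin n) F =>
      (⟨Matrix.SpecialLinearGroup.toGL g, Units.ext g.2⟩ : (Matrix.GeneralLinearGroup.det : GL (Fin n) F →* Fˣ).ker))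
      ⟨fun a b h => Subtype.ext (congrArg (fun x : GL (Fin n) F => (x : Matrix (Fin n) (Fin n) F))
        (congrArg Subtype.val h)), fun g => ⟨⟨(g.1 : Matrix (Fin n) (Fin n) F), congrArg Units.val g.2⟩,
          Subtype.ext (Units.ext rfl)⟩⟩).symm
  have hsurj : Function.Surjective (Matrix.GeneralLinearGroup.det : GL (Fin n) F →* Fˣ) := fun u =>
    ⟨Matrix.GeneralLinearGroup.mkOfDetNeZero (Matrix.diagonal (Function.update 1 ⟨0, hn⟩ (u : F)))
      (by rw [Matrix.det_diagonal, Finset.prod_update_of_mem (Finset.mem_univ _)]; simp),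
      Units.ext (by
        rw [Matrix.GeneralLinearGroup.val_det_apply, Matrix.GeneralLinearGroup.val_mkOfDetNeZero,
          Matrix.det_diagonal, Finset.prod_update_of_mem (Finset.mem_univ _)]
        simp)⟩
  rw [← hker, ← Subgroup.card_mul_index (Matrix.GeneralLinearGroup.det : GL (Fin n) F →* Fˣ).ker,
    Subgroup.index_ker, MonoidHom.range_eq_top.2 hsurj, Subgroup.card_top, Nat.card_units,
    Nat.card_eq_fintype_card (α := F), mul_comm]

/-- An injective hom from a group of the right order gives every Sylow subgroup. -/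
theorem sylow_equiv {G A : Type*} [Group G] [Finite G] [Group A] [Fact r.Prime] (f : A →* G)
    (hf : Function.Injective f) (hcard : Nat.card A = r ^ (Nat.card G).factorization r) (P : Sylow r G) :
    Nonempty (↥(P : Subgroup G) ≃* A) := by
  have h : Nat.card f.range = r ^ (Nat.card G).factorization r := by
    rw [← hcard, Nat.card_congr (MonoidHom.ofInjective hf).toEquiv]
  exact ⟨((P.equiv (Sylow.ofCard f.range h)).trans (MonoidHom.ofInjective hf).symm)⟩

theorem exists_cyclic_hom {G : Type*} [CommGroup G] [IsCyclic G] [Finite G] (m : ℕ) (hm : m ∣ Nat.card G) :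
    ∃ f : Multiplicative (ZMod m) →* G, Function.Injective f := by
  obtain ⟨g, hg⟩ := IsCyclic.exists_generator (α := G)
  have ho : orderOf g = Nat.card G := orderOf_eq_card_of_forall_mem_zpowers hg
  obtain ⟨c, hc⟩ := hm
  have hc0 : c ≠ 0 := fun h => Nat.card_pos.ne' (by rw [hc, h, mul_zero] : Nat.card G = 0)
  have hy : orderOf (g ^ c) = m := by
    rw [orderOf_pow' _ hc0, ho, hc, Nat.gcd_mul_left_left, Nat.mul_div_cancel _ (Nat.pos_of_ne_zero hc0)]
  haveI : Finite (Subgroup.zpowers (g ^ c)) := inferInstance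
  have e : Multiplicative (ZMod m) ≃* Subgroup.zpowers (g ^ c) :=
    zmodCyclicMulEquiv (G := Subgroup.zpowers (g ^ c)) inferInstance |> fun e =>
      (hy ▸ Nat.card_zpowers (g ^ c) ▸ e : Multiplicative (ZMod m) ≃* Subgroup.zpowers (g ^ c))
  exact ⟨(Subgroup.zpowers (g ^ c)).subtype.comp e.toMonoidHom,
    Subtype.val_injective.comp e.injective⟩

/-- Tuples of units of an extension of degree `d` act on `n ≥ k d` coordinates. -/
theorem exists_torus (p : ℕ) [Fact p.Prime] [CharP F p] {n d k : ℕ} [NeZero d] (hk : k * d ≤ n) :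
    ∃ f : (Fin k → (FiniteField.Extension F p d)ˣ) →* GL (Fin n) F, Function.Injective f := by
  let L := FiniteField.Extension F p d
  have hdim : Module.finrank F ((Fin k → L) × (Fin (n - k * d) → F)) = n := by
    rw [Module.finrank_prod, Module.finrank_pi_fintype, Finset.sum_const, Finset.card_univ, Fintype.card_fin,
      smul_eq_mul, FiniteField.finrank_extension, Module.finrank_fin_fun]
    omega
  let E : (Fin n → F) ≃ₗ[F] (Fin k → L) × (Fin (n - k * d) → F) :=
    LinearEquiv.ofFinrankEq _ _ (by rw [Module.finrank_fin_fun, hdim])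
  let a : (Fin k → Lˣ) →* Module.End F (Fin n → F) :=
    { toFun := fun u => E.symm.conj ((LinearMap.mulLeft F fun i => (u i : L)).prodMap LinearMap.id)
      map_one' := by
        rw [show (fun i => ((1 : Fin k → Lˣ) i : L)) = 1 from rfl, LinearMap.mulLeft_one, LinearMap.prodMap_id,
          LinearEquiv.conj_id]
        rfl
      map_mul' := fun u v => by
        rw [Module.End.mul_eq_comp, ← LinearEquiv.conj_comp, LinearMap.prodMap_comp, ← LinearMap.mulLeft_mul,
          LinearMap.id_comp]
        rfl }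
  refine ⟨(Matrix.GeneralLinearGroup.toLin (n := Fin n) (R := F)).symm.toMonoidHom.comp a.toHomUnits, ?_⟩
  refine (Matrix.GeneralLinearGroup.toLin (n := Fin n) (R := F)).symm.injective.comp ?_
  intro u v huv
  have h := congrArg (fun x : (Module.End F (Fin n → F))ˣ => (x : Module.End F (Fin n → F))) huv
  simp only [MonoidHom.coe_toHomUnits] at h
  have h2 := LinearEquiv.injective _ h
  funext i
  refine Units.ext ?_
  have h3 := congrArg Prod.fst (LinearMap.congr_fun h2 ((1 : Fin k → L), (0 : Fin (n - k * d) → F)))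
  simpa using congrFun h3 i

theorem exists_GL_hom {p : ℕ} [Fact p.Prime] [CharP F p] (hr : r.Prime) (hF : Fintype.card F = q)
    (hrq : ¬ r ∣ q) (n : ℕ) :
    ∃ f : (Fin (n / orderOf (q : ZMod r)) → Multiplicative (ZMod (r ^ expo q r))) →* GL (Fin n) F,
      Function.Injective f := by
  haveI := Fact.mk hr
  have hq : 2 ≤ q := hF ▸ Fintype.one_lt_card
  obtain ⟨d, hd⟩ : ∃ d, d = orderOf (q : ZMod r) := ⟨_, rfl⟩
  haveI : NeZero d := ⟨(hd ▸ order_pos hr hrq).ne'⟩
  rw [← hd]
  obtain ⟨c, hc⟩ : ∃ f : Multiplicative (ZMod (r ^ expo q r)) →* (FiniteField.Extension F p d)ˣ,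
      Function.Injective f := exists_cyclic_hom _ (by
    rw [Nat.card_units, FiniteField.natCard_extension, Nat.card_eq_fintype_card, hF, expo_eq hr hq hrq, ← hd]
    exact pow_padicValNat_dvd)
  obtain ⟨t, ht⟩ := exists_torus (F := F) p (n := n) (d := d) (k := n / d) (Nat.div_mul_le_self n d)
  exact ⟨t.comp (c.compLeft (Fin (n / d))), ht.comp fun u v h => funext fun i => hc (congrFun h i)⟩

theorem sylow_GL (hF : Fintype.card F = q) (n : ℕ) (hr : r.Prime) (hrn : n < r) (hrq : ¬ r ∣ q)
    (P : Sylow r (GL (Fin n) F)) :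
    Nonempty (↥(P : Subgroup (GL (Fin n) F)) ≃*
      (Fin (n / orderOf (q : ZMod r)) → Multiplicative (ZMod (r ^ expo q r)))) := by
  classical
  haveI := Fact.mk hr
  obtain ⟨p, hp⟩ := CharP.exists F
  haveI : Fact p.Prime := ⟨CharP.char_is_prime F p⟩
  obtain ⟨f, hf⟩ := exists_GL_hom (p := p) hr hF hrq n
  refine sylow_equiv f hf ?_ P
  rw [Nat.card_fun, fact_GL hr hF hrq n hrn, card_multiples (order_pos hr hrq), Nat.card_fin,
    Nat.card_congr Multiplicative.toAdd, Nat.card_zmod, ← pow_mul, Nat.mul_comm]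

theorem sylow_SL (hF : Fintype.card F = q) (n : ℕ) (hr : r.Prime) (hrn : n < r) (hrq : ¬ r ∣ q)
    (P : Sylow r (Matrix.SpecialLinearGroup (Fin n) F)) :
    Nonempty (↥(P : Subgroup (Matrix.SpecialLinearGroup (Fin n) F)) ≃*
      (Fin ((Finset.Icc 2 n).filter (fun i => orderOf (q : ZMod r) ∣ i)).card →
        Multiplicative (ZMod (r ^ expo q r)))) := by
  classical
  haveI := Fact.mk hr
  have hq : 2 ≤ q := hF ▸ Fintype.one_lt_card
  obtain ⟨p, hp⟩ := CharP.exists F
  haveI : Fact p.Prime := ⟨CharP.char_is_prime F p⟩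
  have hcardA : ∀ j, Nat.card (Fin j → Multiplicative (ZMod (r ^ expo q r))) = r ^ (j * expo q r) := fun j => by
    rw [Nat.card_fun, Nat.card_fin, Nat.card_congr Multiplicative.toAdd, Nat.card_zmod, ← pow_mul, Nat.mul_comm]
  rcases Nat.eq_zero_or_pos n with rfl | hn
  · refine sylow_equiv 1 ?_ (by rw [hcardA, Nat.card_of_subsingleton (1 : Matrix.SpecialLinearGroup (Fin 0) F)]; simp) P
    haveI : IsEmpty (Fin ((Finset.Icc 2 0).filter (fun i => orderOf (q : ZMod r) ∣ i)).card) := by
      simp only [show Finset.Icc 2 0 = ∅ from rfl, Finset.filter_empty, Finset.card_empty]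
      infer_instance
    exact Function.injective_of_subsingleton _
  have hIcc : (Finset.Icc 1 n).filter (fun i => orderOf (q : ZMod r) ∣ i) =
      if orderOf (q : ZMod r) = 1 then insert 1 ((Finset.Icc 2 n).filter (fun i => orderOf (q : ZMod r) ∣ i))
      else (Finset.Icc 2 n).filter (fun i => orderOf (q : ZMod r) ∣ i) := by
    ext i
    split_ifs with h1
    · simp only [Finset.mem_filter, Finset.mem_Icc, Finset.mem_insert, h1, Nat.one_dvd, and_true]
      omega
    · simp only [Finset.mem_filter, Finset.mem_Icc]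
      constructor
      · rintro ⟨hi, hdvd⟩
        refine ⟨⟨?_, hi.2⟩, hdvd⟩
        by_contra hlt
        exact h1 (Nat.dvd_one.1 ((show i = 1 by omega) ▸ hdvd))
      · rintro ⟨hi, hdvd⟩
        exact ⟨⟨by omega, hi.2⟩, hdvd⟩
  have hfactq : (q - 1).factorization r = if orderOf (q : ZMod r) = 1 then expo q r else 0 := by
    rw [Nat.factorization_def _ hr]
    have := val_pow_sub_one (i := 1) hr hq hrq le_rfl hr.one_lt
    rw [pow_one] at this
    rw [this]
    simp only [Nat.dvd_one]
  have hSL : (Nat.card (Matrix.SpecialLinearGroup (Fin n) F)).factorization r =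
      ((Finset.Icc 2 n).filter (fun i => orderOf (q : ZMod r) ∣ i)).card * expo q r := by
    have h := fact_GL hr hF hrq n hrn
    rw [card_GL_eq_mul n hn, hF, Nat.factorization_mul (by omega) Nat.card_pos.ne', Finsupp.add_apply, hfactq,
      hIcc] at h
    split_ifs at h with h1
    · rw [Finset.card_insert_of_notMem (by simp), Nat.add_mul, one_mul] at h
      omega
    · omega
  by_cases h1 : orderOf (q : ZMod r) = 1
  · obtain ⟨m, rfl⟩ : ∃ m, n = m + 1 := ⟨n - 1, by omega⟩
    have hm : ((Finset.Icc 2 (m + 1)).filter (fun i => orderOf (q : ZMod r) ∣ i)).card = m := by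
      rw [Finset.filter_true_of_mem fun i _ => h1 ▸ one_dvd i, Nat.card_Icc]
      omega
    rw [hm] at hSL ⊢
    obtain ⟨c, hc⟩ : ∃ f : Multiplicative (ZMod (r ^ expo q r)) →* Fˣ, Function.Injective f :=
      exists_cyclic_hom _ (by
        rw [Nat.card_units, Nat.card_eq_fintype_card, hF, expo_eq hr hq hrq, h1, pow_one]
        exact pow_padicValNat_dvd)
    let f : (Fin m → Multiplicative (ZMod (r ^ expo q r))) →* Matrix.SpecialLinearGroup (Fin (m + 1)) F :=
      { toFun := fun u => ⟨Matrix.diagonal (Fin.snoc (fun i => (c (u i) : F)) (((∏ i, c (u i))⁻¹ : Fˣ) : F)), by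
          rw [Matrix.det_diagonal, Fin.prod_univ_castSucc]
          simp only [Fin.snoc_castSucc, Fin.snoc_last]
          rw [← Units.coe_prod, Units.mul_inv]⟩
        map_one' := Subtype.ext (by
          refine (congrArg Matrix.diagonal (funext fun i => ?_)).trans Matrix.diagonal_one
          induction i using Fin.lastCases <;> simp)
        map_mul' := fun u v => Subtype.ext (by
          show Matrix.diagonal _ = Matrix.diagonal _ * Matrix.diagonal _
          rw [Matrix.diagonal_mul_diagonal]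
          congr 1
          funext i
          induction i using Fin.lastCases with
          | last =>
            simp only [Fin.snoc_last, Pi.mul_apply, map_mul, Finset.prod_mul_distrib, mul_inv, Units.val_mul]
          | cast i => simp only [Fin.snoc_castSucc, Pi.mul_apply, map_mul, Units.val_mul]) }
    refine sylow_equiv f (fun u v h => funext fun i => hc (Units.ext ?_)) (by rw [hcardA, hSL]) P
    have h2 := congrFun (Matrix.diagonal_injective (congrArg Subtype.val h)) i.castSucc
    simpa using h2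
  · have hk : ((Finset.Icc 2 n).filter (fun i => orderOf (q : ZMod r) ∣ i)).card = n / orderOf (q : ZMod r) := by
      have h := card_multiples (n := n) (order_pos hr hrq)
      rwa [hIcc, if_neg h1] at h
    rw [hk] at hSL ⊢
    obtain ⟨f, hf⟩ := exists_GL_hom (p := p) hr hF hrq n
    have hdet : ∀ u, Matrix.GeneralLinearGroup.det (f u) = 1 := by
      intro u
      rw [← orderOf_eq_one_iff]
      have h2 : orderOf (Matrix.GeneralLinearGroup.det (f u)) ∣ r ^ expo q r := by
        refine ((orderOf_map_dvd _ _).trans (orderOf_map_dvd f u)).trans (orderOf_dvd_of_pow_eq_one (funext fun i => ?_))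
        refine Multiplicative.toAdd.injective ?_
        rw [Pi.pow_apply, toAdd_pow, Pi.one_apply, toAdd_one, nsmul_eq_mul, ZMod.natCast_self, zero_mul]
      have h3 : orderOf (Matrix.GeneralLinearGroup.det (f u)) ∣ q - 1 := by
        refine (orderOf_dvd_natCard _).trans ?_
        rw [Nat.card_units, Nat.card_eq_fintype_card, hF]
      have hco : Nat.Coprime (r ^ expo q r) (q - 1) := Nat.Coprime.pow_left _ ((hr.coprime_iff_not_dvd).2 fun h => by
        have := (dvd_pow_sub_one_iff (r := r) hq 1).1 (by rwa [pow_one])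
        exact h1 (Nat.dvd_one.1 this))
      exact Nat.eq_one_of_dvd_coprimes hco h2 h3
    let g : (Fin (n / orderOf (q : ZMod r)) → Multiplicative (ZMod (r ^ expo q r))) →*
        Matrix.SpecialLinearGroup (Fin n) F :=
      { toFun := fun u => ⟨(f u : Matrix (Fin n) (Fin n) F), by
          rw [← Matrix.GeneralLinearGroup.val_det_apply, hdet, Units.val_one]⟩
        map_one' := Subtype.ext (by
          show (f 1 : Matrix (Fin n) (Fin n) F) = 1
          rw [map_one, Units.val_one])
        map_mul' := fun u v => Subtype.ext (by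
          show (f (u * v) : Matrix (Fin n) (Fin n) F) = (f u : Matrix (Fin n) (Fin n) F) * (f v : Matrix (Fin n) (Fin n) F)
          rw [map_mul, Units.val_mul]) }
    exact sylow_equiv g (fun u v h => hf (Units.ext (congrArg Subtype.val h))) (by rw [hcardA, hSL]) P

end Cfsg.Agent.Small.SylowLarge
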