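import Cfsg.Agent.Lib.Small.SylowGLLarge
import Cfsg.Agent.Lib.Small.SymplecticElems
import Cfsg.Agent.Lib.Classical.SymplecticCount

/-!
Sylow subgroups of symplectic groups for primes larger than the rank.
-/

set_option autoImplicit false
set_option linter.style.haveILetI false
set_option linter.unusedSectionVars false

namespace Cfsg.Agent.Small.SylowLarge

open Matrix

variable {q r : ℕ}

theorem val_pow_sub_one' (hr : r.Prime) (hq : 2 ≤ q) (hrq : ¬ r ∣ q) {i : ℕ} (hi : 1 ≤ i) (hir : ¬ r ∣ i) :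
    padicValNat r (q ^ i - 1) = if orderOf (q : ZMod r) ∣ i then expo q r else 0 := by
  haveI := Fact.mk hr
  split_ifs with h
  · obtain ⟨k, hk⟩ := h
    obtain ⟨d, hd⟩ : ∃ d, d = orderOf (q : ZMod r) := ⟨_, rfl⟩
    rw [expo_eq hr hq hrq, ← hd]
    rw [← hd] at hk
    have hgs : (∑ j ∈ Finset.range k, (q ^ d) ^ j) * (q ^ d - 1) = q ^ i - 1 := by
      rw [hk, pow_mul]
      exact geom_sum_mul_of_one_le (one_le_pow_q hq d) k
    have hne : q ^ i - 1 ≠ 0 := by
      have : 2 ^ 1 ≤ q ^ i := le_trans (Nat.pow_le_pow_left hq 1) (Nat.pow_le_pow_right (by omega) hi)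
      omega
    rw [← hgs, padicValNat.mul (left_ne_zero_of_mul (hgs ▸ hne)) (right_ne_zero_of_mul (hgs ▸ hne))]
    refine Nat.add_eq_right.2 (padicValNat.eq_zero_of_not_dvd fun hdvd => hir ?_)
    rw [← ZMod.natCast_eq_zero_iff] at hdvd
    push_cast at hdvd
    rw [show (q : ZMod r) ^ d = 1 from hd ▸ pow_orderOf_eq_one _] at hdvd
    simp only [one_pow, Finset.sum_const, Finset.card_range, nsmul_eq_mul, mul_one] at hdvd
    rw [ZMod.natCast_eq_zero_iff] at hdvd
    exact hk ▸ dvd_mul_of_dvd_right hdvd d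
  · exact padicValNat.eq_zero_of_not_dvd fun hdvd => h ((dvd_pow_sub_one_iff hq i).1 hdvd)

variable {F : Type*} [Field F] [Fintype F]

theorem fact_Sp (hr : r.Prime) (hr2 : r ≠ 2) (hF : Fintype.card F = q) (hrq : ¬ r ∣ q) (n : ℕ) (hn : n < r) :
    (Nat.card (Matrix.symplecticGroup (Fin n) F)).factorization r =
      ((Finset.Icc 1 n).filter (fun i => orderOf (q : ZMod r) ∣ 2 * i)).card * expo q r := by
  haveI := Fact.mk hr
  have hq : 2 ≤ q := hF ▸ Fintype.one_lt_card
  have hne : ∀ i : ℕ, q ^ (2 * (i + 1)) - 1 ≠ 0 := fun i => by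
    have : 2 ^ 1 ≤ q ^ (2 * (i + 1)) :=
      le_trans (Nat.pow_le_pow_left hq 1) (Nat.pow_le_pow_right (by omega) (by omega))
    omega
  rw [Classical.SpCount.card_symplecticGroup, hF, Nat.factorization_mul (pow_ne_zero _ (by omega))
    (Finset.prod_ne_zero_iff.2 fun i _ => hne i), Finsupp.add_apply, Nat.factorization_pow, Finsupp.smul_apply,
    Nat.factorization_eq_zero_of_not_dvd hrq, smul_zero, zero_add, Nat.factorization_prod fun i _ => hne i,
    Finsupp.coe_finsetSum, Finset.sum_apply, Finset.card_filter, Finset.sum_mul,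
    show Finset.Icc 1 n = (Finset.range n).map (addRightEmbedding 1) by
      ext i; simp only [Finset.mem_Icc, Finset.mem_map, Finset.mem_range, addRightEmbedding_apply]
      exact ⟨fun h => ⟨i - 1, by omega, by omega⟩, fun ⟨a, ha, e⟩ => by omega⟩,
    Finset.sum_map]
  refine Finset.sum_congr rfl fun i hi => ?_
  rw [Finset.mem_range] at hi
  rw [Nat.factorization_def _ hr, val_pow_sub_one' hr hq hrq (by omega)]
  · simp only [addRightEmbedding_apply]
    split_ifs <;> simp
  · intro h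
    rcases hr.dvd_mul.1 h with h | h
    · exact hr2 ((Nat.prime_dvd_prime_iff_eq hr Nat.prime_two).1 h)
    · have := Nat.le_of_dvd (by omega) h; omega

/-- Copies of a group on orthogonal symplectic blocks. -/
theorem exists_copies {A : Type*} [CommGroup A] {d : ℕ} (f : A →* Matrix.symplecticGroup (Fin d) F)
    (hf : Function.Injective f) : ∀ (a n : ℕ), a * d ≤ n →
      ∃ g : (Fin a → A) →* Matrix.symplecticGroup (Fin n) F, Function.Injective g := by
  intro a
  induction a with
  | zero => exact fun n _ => ⟨1, Function.injective_of_subsingleton _⟩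
  | succ a ih =>
    intro n h
    rw [Nat.succ_mul] at h
    obtain ⟨g, hg⟩ := ih (n - d) (by omega)
    let split : (Fin (a + 1) → A) →* A × (Fin a → A) :=
      { toFun := fun u => (u 0, Fin.tail u), map_one' := rfl, map_mul' := fun _ _ => rfl }
    refine ⟨(spBlockHom F (show d + (n - d) = n by omega)).comp ((f.prodMap g).comp split), ?_⟩
    intro u v huv
    have h1 := spBlockMat_injective (F := F) (show d + (n - d) = n by omega) (congrArg Subtype.val huv)
    have hh : f (u 0) = f (v 0) := Subtype.ext (congrArg Prod.fst h1)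
    have ht : g (Fin.tail u) = g (Fin.tail v) := Subtype.ext (congrArg Prod.snd h1)
    rw [← Fin.cons_self_tail u, ← Fin.cons_self_tail v, hf hh, hg ht]

theorem sylow_Sp (hF : Fintype.card F = q) (n : ℕ) (hr : r.Prime) (hr2 : r ≠ 2) (hrn : n < r) (hrq : ¬ r ∣ q)
    (P : Sylow r ↥(Matrix.symplecticGroup (Fin n) F)) :
    Nonempty (↥(P : Subgroup ↥(Matrix.symplecticGroup (Fin n) F)) ≃*
      (Fin ((Finset.Icc 1 n).filter (fun i => orderOf (q : ZMod r) ∣ 2 * i)).card →
        Multiplicative (ZMod (r ^ expo q r)))) := by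
  classical
  haveI := Fact.mk hr
  have hq : 2 ≤ q := hF ▸ Fintype.one_lt_card
  obtain ⟨p, hp⟩ := CharP.exists F
  haveI : Fact p.Prime := ⟨CharP.char_is_prime F p⟩
  obtain ⟨d, hd⟩ : ∃ d, d = orderOf (q : ZMod r) := ⟨_, rfl⟩
  have hd1 : 1 ≤ d := hd ▸ order_pos hr hrq
  have hfact := fact_Sp hr hr2 hF hrq n hrn
  suffices h : ∃ f : (Fin ((Finset.Icc 1 n).filter (fun i => orderOf (q : ZMod r) ∣ 2 * i)).card →
      Multiplicative (ZMod (r ^ expo q r))) →* ↥(Matrix.symplecticGroup (Fin n) F), Function.Injective f by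
    obtain ⟨f, hf⟩ := h
    refine sylow_equiv f hf ?_ P
    rw [hfact, Nat.card_fun, Nat.card_fin, Nat.card_congr Multiplicative.toAdd, Nat.card_zmod, ← pow_mul, Nat.mul_comm]
  rw [← hd]
  rcases Nat.even_or_odd d with he | ho
  · obtain ⟨e, rfl⟩ : ∃ e, d = 2 * e := ⟨d / 2, by obtain ⟨k, hk⟩ := he; omega⟩
    rw [Finset.filter_congr (q := fun i => e ∣ i) (fun i _ => Nat.mul_dvd_mul_iff_left two_pos),
      card_multiples (by omega)]
    obtain ⟨T, hT⟩ := exists_sp_torus_plus (F := F) e (by omega)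
    rw [Nat.card_eq_fintype_card, hF] at hT
    have hcop : ¬ r ∣ q ^ e - 1 := fun h => by
      have h1 := Nat.le_of_dvd (by omega) ((dvd_pow_sub_one_iff hq e).1 h)
      omega
    have hfac : q ^ (2 * e) - 1 = (q ^ e + 1) * (q ^ e - 1) := by
      rw [← Nat.sq_sub_sq, one_pow, ← pow_mul, Nat.mul_comm e]
    have hdvd : r ^ expo q r ∣ Nat.card (Subgroup.zpowers T) := by
      rw [Nat.card_zpowers, hT, expo_eq hr hq hrq, ← hd]
      have h1 : r ^ padicValNat r (q ^ (2 * e) - 1) ∣ (q ^ e + 1) * (q ^ e - 1) := hfac ▸ pow_padicValNat_dvd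
      exact (Nat.Coprime.pow_left _ ((hr.coprime_iff_not_dvd).2 hcop)).dvd_of_dvd_mul_right h1
    let _ := IsCyclic.commGroup (α := Subgroup.zpowers T)
    obtain ⟨c, hc⟩ := exists_cyclic_hom (G := Subgroup.zpowers T) _ hdvd
    exact exists_copies ((Subgroup.zpowers T).subtype.comp c) (Subtype.val_injective.comp hc) _ n
      (Nat.div_mul_le_self n e)
  · rw [Finset.filter_congr (q := fun i => d ∣ i) (fun i _ =>
        ⟨fun h => (Nat.Coprime.dvd_of_dvd_mul_left (Nat.coprime_two_right.2 ho) h), fun h => dvd_mul_of_dvd_right h 2⟩),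
      card_multiples hd1]
    have hGL := exists_GL_hom (p := p) (F := F) hr hF hrq n
    rw [← hd] at hGL
    obtain ⟨f, hf⟩ := hGL
    exact ⟨(spHom n F).comp f, (spHom_injective n).comp hf⟩

end Cfsg.Agent.Small.SylowLarge
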