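import Cfsg.Agent.Lib.Small.SylowTwoSpWreath

/-!
The derived length of the Sylow 2-subgroups of symmetric and symplectic groups.
-/

set_option autoImplicit false
set_option linter.unusedSectionVars false
set_option linter.style.haveILetI false

open scoped commutatorElement

namespace Cfsg.Agent.Small.SylowTwoDerived

open Cfsg.Agent.Char

/-- The derived series of a subgroup, inside the whole group. -/
def D {X : Type*} [Group X] (H : Subgroup X) : ℕ → Subgroup X
  | 0 => H
  | k + 1 => ⁅D H k, D H k⁆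

section Basic

variable {X Y : Type*} [Group X] [Group Y]

theorem map_subtype_derived (H : Subgroup X) (k : ℕ) : (derivedSeries ↥H k).map H.subtype = D H k := by
  induction k with
  | zero => rw [derivedSeries_zero, ← MonoidHom.range_eq_map, Subgroup.range_subtype]; rfl
  | succ k ih => rw [derivedSeries_succ, Subgroup.map_commutator, ih]; rfl

theorem D_eq_bot_iff (H : Subgroup X) (k : ℕ) : derivedSeries ↥H k = ⊥ ↔ D H k = ⊥ := by
  rw [← map_subtype_derived, Subgroup.map_eq_bot_iff_of_injective _ H.subtype_injective]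

theorem D_mono {H H' : Subgroup X} (h : H ≤ H') (k : ℕ) : D H k ≤ D H' k := by
  induction k with
  | zero => exact h
  | succ k ih => exact Subgroup.commutator_mono ih ih

theorem D_map (f : X →* Y) (H : Subgroup X) (k : ℕ) : D (H.map f) k = (D H k).map f := by
  induction k with
  | zero => rfl
  | succ k ih => show ⁅_, _⁆ = (⁅_, _⁆ : Subgroup X).map f; rw [ih, Subgroup.map_commutator]

theorem D_le (H : Subgroup X) (k : ℕ) : D H k ≤ H := by
  induction k with
  | zero => exact le_rfl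
  | succ k ih => exact (Subgroup.commutator_mono ih ih).trans (Subgroup.commutator_le_self H)

theorem D_add (H : Subgroup X) (k l : ℕ) : D H (k + l) = D (D H k) l := by
  induction l with
  | zero => rfl
  | succ l ih => show ⁅D H (k + l), D H (k + l)⁆ = ⁅_, _⁆; rw [ih]

/-- One step of doubling: the derived series of a subgroup moves one step down in the doubled group. -/
theorem double {V W : Subgroup X} {t : X} (hV : V ≤ W) (ht : t ∈ W)
    (hcomm : ∀ x ∈ V, ∀ y ∈ V, Commute x (t * y * t⁻¹)) (k : ℕ) :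
    ∀ x ∈ D V k, ∃ y ∈ V, x * (t * y * t⁻¹) ∈ D W (k + 1) := by
  induction k with
  | zero =>
    intro x hx
    refine ⟨x⁻¹, inv_mem hx, ?_⟩
    rw [show x * (t * x⁻¹ * t⁻¹) = ⁅x, t⁆ by rw [commutatorElement_def]; group]
    exact Subgroup.commutator_mem_commutator (hV hx) ht
  | succ k ih =>
    intro x hx
    change x ∈ ⁅D V k, D V k⁆ at hx
    have hle : ∀ {z}, z ∈ ⁅D V k, D V k⁆ → z ∈ V := fun h => D_le V (k + 1) h
    rw [Subgroup.commutator_def] at hx
    induction hx using Subgroup.closure_induction with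
    | mem z hz =>
      obtain ⟨a, ha, b, hb, rfl⟩ := hz
      obtain ⟨a', ha', hA⟩ := ih a ha
      obtain ⟨b', hb', hB⟩ := ih b hb
      refine ⟨⁅a', b'⁆, ?_, ?_⟩
      · rw [commutatorElement_def]; exact mul_mem (mul_mem (mul_mem ha' hb') (inv_mem ha')) (inv_mem hb')
      · have e : ⁅a * (t * a' * t⁻¹), b * (t * b' * t⁻¹)⁆ = ⁅a, b⁆ * (t * ⁅a', b'⁆ * t⁻¹) := by
          have hav := D_le V k ha
          have hbv := D_le V k hb
          have c1 := hcomm b hbv a' ha'
          have c3 := hcomm _ (inv_mem hav) _ (mul_mem ha' hb')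
          have c5 := hcomm _ (inv_mem hbv) _ (mul_mem (mul_mem ha' hb') (inv_mem ha'))
          calc ⁅a * (t * a' * t⁻¹), b * (t * b' * t⁻¹)⁆
              = a * ((t * a' * t⁻¹) * b) * ((t * b' * t⁻¹) * (t * a'⁻¹ * t⁻¹)) * a⁻¹ *
                  (t * b'⁻¹ * t⁻¹) * b⁻¹ := by rw [commutatorElement_def]; group
            _ = a * b * (t * (a' * b' * a'⁻¹) * t⁻¹ * a⁻¹) * (t * b'⁻¹ * t⁻¹) * b⁻¹ := by rw [← c1.eq]; group
            _ = a * b * (a⁻¹ * (t * (a' * b' * a'⁻¹) * t⁻¹)) * (t * b'⁻¹ * t⁻¹) * b⁻¹ := by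
              rw [(hcomm _ (inv_mem hav) _ (mul_mem (mul_mem ha' hb') (inv_mem ha'))).eq]
            _ = a * b * a⁻¹ * ((t * ⁅a', b'⁆ * t⁻¹) * b⁻¹) := by rw [commutatorElement_def]; group
            _ = a * b * a⁻¹ * (b⁻¹ * (t * ⁅a', b'⁆ * t⁻¹)) := by
              rw [(hcomm _ (inv_mem hbv) _ (by
                rw [commutatorElement_def]; exact mul_mem (mul_mem (mul_mem ha' hb') (inv_mem ha')) (inv_mem hb'))).eq]
            _ = _ := by rw [commutatorElement_def]; group
        rw [← e]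
        exact Subgroup.commutator_mem_commutator hA hB
    | one => exact ⟨1, one_mem V, by simp [one_mem]⟩
    | mul z w hz hw ez ew =>
      rw [← Subgroup.commutator_def] at hz hw
      obtain ⟨z', hz', hZ⟩ := ez
      obtain ⟨w', hw', hW⟩ := ew
      refine ⟨z' * w', mul_mem hz' hw', ?_⟩
      have e : z * (t * z' * t⁻¹) * (w * (t * w' * t⁻¹)) = z * w * (t * (z' * w') * t⁻¹) := by
        rw [show z * (t * z' * t⁻¹) * (w * (t * w' * t⁻¹)) = z * ((t * z' * t⁻¹) * w) * (t * w' * t⁻¹) by group,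
          ← (hcomm w (hle hw) z' hz').eq]
        group
      rw [← e]
      exact mul_mem hZ hW
    | inv z hz ez =>
      rw [← Subgroup.commutator_def] at hz
      obtain ⟨z', hz', hZ⟩ := ez
      refine ⟨z'⁻¹, inv_mem hz', ?_⟩
      rw [(hcomm _ (inv_mem (hle hz)) _ (inv_mem hz')).eq,
        show t * z'⁻¹ * t⁻¹ * z⁻¹ = (z * (t * z' * t⁻¹))⁻¹ by group]
      exact inv_mem hZ

end Basic

/-! ### Wreath products -/

section Wreath

variable {n : ℕ} {K : Type*} [Group K] {X : Type*} [Group X]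
  (φ : (Fin n → K) →* X) (ψ : Equiv.Perm (Fin n) →* X)
  (hc : ∀ (h : Equiv.Perm (Fin n)) (v : Fin n → K), φ v * ψ h = ψ h * φ (v ∘ h))

theorem wr_bot (S : Subgroup K) : TwoWreath.wr φ ψ hc S ⊥ ≤ (Subgroup.pi Set.univ fun _ : Fin n => S).map φ := by
  rintro _ ⟨h, hh, v, hv, rfl⟩
  rw [Subgroup.mem_bot] at hh
  subst hh
  exact ⟨v, fun i _ => hv i, by rw [map_one, one_mul]⟩

theorem D_wr (S : Subgroup K) (T : Subgroup (Equiv.Perm (Fin n))) (k : ℕ) :
    D (TwoWreath.wr φ ψ hc S T) k ≤ TwoWreath.wr φ ψ hc S (D T k) := by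
  induction k with
  | zero => exact le_rfl
  | succ k ih =>
    show ⁅_, _⁆ ≤ _
    rw [Subgroup.commutator_le]
    intro x hx y hy
    obtain ⟨g, hg, u, hu, rfl⟩ := ih hx
    obtain ⟨h, hh, v, hv, rfl⟩ := ih hy
    have hsw : ∀ (a : Equiv.Perm (Fin n)) (w : Fin n → K), ψ a * φ w = φ (w ∘ ⇑a⁻¹) * ψ a := fun a w => by
      rw [hc a (w ∘ ⇑a⁻¹)]
      exact congrArg (fun z => ψ a * φ z) (funext fun i => by simp)
    refine ⟨⁅g, h⁆, Subgroup.commutator_mem_commutator hg hh,
      (fun i => ((u (h (g⁻¹ (h⁻¹ i)))) * v (g⁻¹ (h⁻¹ i))) * (u (g⁻¹ (h⁻¹ i)))⁻¹ * (v (h⁻¹ i))⁻¹),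
      fun i => mul_mem (mul_mem (mul_mem (hu _) (hv _)) (inv_mem (hu _))) (inv_mem (hv _)), ?_⟩
    rw [commutatorElement_def, commutatorElement_def]
    set a := ψ g * φ u with ha
    set b := ψ h * φ v with hb
    have eab : a * b = ψ (g * h) * φ ((u ∘ h) * v) := by
      rw [ha, hb, map_mul, map_mul, mul_assoc, ← mul_assoc (φ u), hc]; group
    have ea : a⁻¹ = ψ g⁻¹ * φ (u⁻¹ ∘ ⇑g⁻¹) := by rw [ha, ← hc, mul_inv_rev, map_inv, map_inv]
    have eb : b⁻¹ = ψ h⁻¹ * φ (v⁻¹ ∘ ⇑h⁻¹) := by rw [hb, ← hc, mul_inv_rev, map_inv, map_inv]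
    rw [eab, ea, eb, map_mul ψ (g * h * g⁻¹), map_mul ψ (g * h), mul_assoc (ψ (g * h)), mul_assoc (ψ (g * h)),
      ← mul_assoc (φ _) (ψ g⁻¹), hc, mul_assoc (ψ g⁻¹), ← map_mul, mul_assoc (ψ (g * h)), mul_assoc (ψ (g * h)),
      mul_assoc (ψ g⁻¹), ← mul_assoc (φ _) (ψ h⁻¹), hc, mul_assoc (ψ h⁻¹), ← map_mul, mul_assoc (ψ g⁻¹)]
    congr 4

theorem D_base (S : Subgroup K) (l : ℕ) :
    D ((Subgroup.pi Set.univ fun _ : Fin n => S).map φ) l ≤ (Subgroup.pi Set.univ fun _ : Fin n => D S l).map φ := by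
  rw [D_map]
  refine Subgroup.map_mono ?_
  induction l with
  | zero => exact le_rfl
  | succ l ih =>
    refine (Subgroup.commutator_mono ih ih).trans ?_
    exact Subgroup.commutator_pi_pi_le _ _

theorem D_wr_eq_bot (S : Subgroup K) (T : Subgroup (Equiv.Perm (Fin n))) {a b : ℕ} (hT : D T a = ⊥)
    (hS : D S b = ⊥) : D (TwoWreath.wr φ ψ hc S T) (a + b) = ⊥ := by
  rw [D_add]
  refine le_bot_iff.1 ((D_mono ((D_wr φ ψ hc S T a).trans (hT ▸ wr_bot φ ψ hc S)) b).trans
    ((D_base φ S b).trans ?_))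
  rintro _ ⟨v, hv, rfl⟩
  rw [Subgroup.mem_bot]
  refine (congrArg φ (funext fun i => ?_)).trans (map_one φ)
  have := hv i trivial
  rw [hS] at this
  exact this

variable (hinj : ∀ h v, ψ h * φ v = 1 → h = 1 ∧ v = 1)
include hc hinj

/-- Iterated doubling inside the wreath product. -/
theorem exists_deep {S : Subgroup K} (hS2 : IsPGroup 2 S) (hS : D S 1 ≠ ⊥) :
    ∀ i : ℕ, 2 ^ i ≤ n → ∃ L : Subgroup X, IsPGroup 2 L ∧ D L (i + 1) ≠ ⊥ ∧
      ∀ g ∈ L, ∃ (h : Equiv.Perm (Fin n)) (v : Fin n → K), g = ψ h * φ v ∧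
        ∀ x : Fin n, 2 ^ i ≤ x.val → h x = x ∧ v x = 1 := by
  classical
  haveI : Fact (Nat.Prime 2) := ⟨Nat.prime_two⟩
  intro i
  induction i with
  | zero =>
    intro hn
    let f : K →* X := φ.comp (MonoidHom.mulSingle (fun _ : Fin n => K) ⟨0, by omega⟩)
    have hf : Function.Injective f := fun a b h => by
      have := (hinj 1 (Pi.mulSingle ⟨0, by omega⟩ (a * b⁻¹)) (by
        rw [map_one, one_mul, show φ (Pi.mulSingle ⟨0, by omega⟩ (a * b⁻¹)) = f (a * b⁻¹) from rfl, map_mul, map_inv,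
          h, mul_inv_cancel])).2
      exact mul_inv_eq_one.1 (by simpa using congrFun this ⟨0, by omega⟩)
    refine ⟨S.map f, hS2.map f, fun h => hS ?_, ?_⟩
    · rwa [D_map, Subgroup.map_eq_bot_iff_of_injective _ hf] at h
    · rintro _ ⟨s, -, rfl⟩
      refine ⟨1, Pi.mulSingle ⟨0, by omega⟩ s, by rw [map_one, one_mul]; rfl, fun x hx => ⟨rfl, ?_⟩⟩
      exact Pi.mulSingle_eq_of_ne (fun h => by rw [h] at hx; simp at hx) _
  | succ i ih =>
    intro hn
    obtain ⟨L, hLp, hLd, hLs⟩ := ih (le_trans (Nat.pow_le_pow_right two_pos (Nat.le_succ i)) hn)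
    have hpow : 2 ^ (i + 1) = 2 ^ i + 2 ^ i := by rw [pow_succ]; ring
    let tf : Fin n → Fin n := fun x => if hx : x.val < 2 ^ i then ⟨x.val + 2 ^ i, by omega⟩ else
      if hx' : x.val < 2 ^ (i + 1) then ⟨x.val - 2 ^ i, by omega⟩ else x
    have htf : Function.Involutive tf := fun x => by
      simp only [tf]
      split_ifs <;> (first | rfl | (apply Fin.ext; simp only; omega) | (exfalso; simp_all; omega) | (exfalso; simp_all) | omega)
    let t : Equiv.Perm (Fin n) := htf.toPerm tf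
    have ht2 : t * t = 1 := Equiv.ext htf
    have htinv : t⁻¹ = t := inv_eq_of_mul_eq_one_right ht2
    have htlow : ∀ x : Fin n, x.val < 2 ^ i → 2 ^ i ≤ (t x).val ∧ (t x).val < 2 ^ (i + 1) := fun x hx => by
      show 2 ^ i ≤ (tf x).val ∧ (tf x).val < _
      simp only [tf, dif_pos hx]
      omega
    have hthigh : ∀ x : Fin n, 2 ^ (i + 1) ≤ x.val → t x = x := fun x hx => by
      show tf x = x
      simp only [tf, dif_neg (show ¬ x.val < 2 ^ i by omega), dif_neg (show ¬ x.val < 2 ^ (i + 1) by omega)]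
    have hconj : ∀ (h : Equiv.Perm (Fin n)) (v : Fin n → K),
        ψ t * (ψ h * φ v) * (ψ t)⁻¹ = ψ (t * h * t⁻¹) * φ (v ∘ ⇑t⁻¹) := fun h v => by
      rw [map_mul, map_mul, map_inv]
      have e : φ v * (ψ t)⁻¹ = (ψ t)⁻¹ * φ (v ∘ ⇑t⁻¹) := by rw [← map_inv, hc]
      rw [mul_assoc, mul_assoc (ψ h), e]
      group
    have hcomm : ∀ x ∈ L, ∀ y ∈ L, Commute x (ψ t * y * (ψ t)⁻¹) := by
      intro x hx y hy
      obtain ⟨g, u, rfl, hgu⟩ := hLs x hx
      obtain ⟨h, v, rfl, hhv⟩ := hLs y hy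
      rw [hconj, htinv]
      have h' : ∀ z : Fin n, z.val < 2 ^ i → (t * h * t) z = z ∧ (v ∘ ⇑t) z = 1 := fun z hz => by
        obtain ⟨e1, e2⟩ := hhv (t z) (htlow z hz).1
        exact ⟨by rw [Equiv.Perm.mul_apply, Equiv.Perm.mul_apply, e1]; exact htf z, e2⟩
      obtain ⟨p, hp⟩ : ∃ p, p = t * h * t := ⟨_, rfl⟩
      obtain ⟨w, hw⟩ : ∃ w, w = v ∘ ⇑t := ⟨_, rfl⟩
      rw [← hp, ← hw] at h' ⊢
      have hg1 : g * p = p * g := by
        refine Equiv.ext fun z => ?_
        simp only [Equiv.Perm.mul_apply]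
        rcases lt_or_ge z.val (2 ^ i) with hz | hz
        · have hgz : (g z).val < 2 ^ i := by
            by_contra hcon
            have := (hgu (g z) (not_lt.1 hcon)).1
            have := g.injective this
            rw [this] at hcon
            exact hcon hz
          rw [(h' z hz).1, (h' _ hgz).1]
        · rw [(hgu z hz).1]
          have hpz : 2 ^ i ≤ (p z).val := by
            by_contra hcon
            have := (h' (p z) (not_le.1 hcon)).1
            have := p.injective this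
            rw [this] at hcon
            exact hcon hz
          rw [(hgu _ hpz).1]
      show ψ g * φ u * (ψ p * φ w) = ψ p * φ w * (ψ g * φ u)
      have hmulf : ∀ a b (x y : Fin n → K), ψ a * φ x * (ψ b * φ y) = ψ (a * b) * φ ((x ∘ ⇑b) * y) := fun a b x y => by
        rw [map_mul, map_mul, mul_assoc, ← mul_assoc (φ x), hc]
        group
      rw [hmulf, hmulf, hg1]
      congr 2
      funext z
      simp only [Pi.mul_apply, Function.comp_apply]
      rcases lt_or_ge z.val (2 ^ i) with hz | hz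
      · rw [(h' z hz).1, (h' z hz).2, mul_one]
        have hgz : (g z).val < 2 ^ i := by
          by_contra hcon
          have := (hgu (g z) (not_lt.1 hcon)).1
          have := g.injective this
          rw [this] at hcon
          exact hcon hz
        rw [(h' _ hgz).2, one_mul]
      · rw [(hgu z hz).1, (hgu z hz).2, mul_one]
        have hpz : 2 ^ i ≤ (p z).val := by
          by_contra hcon
          have := (h' (p z) (not_le.1 hcon)).1
          have := p.injective this
          rw [this] at hcon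
          exact hcon hz
        rw [(hgu _ hpz).2, one_mul]
    have ht' : ψ t * ψ t = 1 := by rw [← map_mul, ht2, map_one]
    let L' := L.map (MulAut.conj (ψ t)).toMonoidHom
    let W := (L ⊔ L') ⊔ Subgroup.zpowers (ψ t)
    refine ⟨W, ?_, ?_, ?_⟩
    · refine IsPGroup.to_sup_of_normal_left' (IsPGroup.to_sup_of_normal_right' hLp (hLp.map _) ?_) ?_ ?_
      · intro x hx
        rw [Subgroup.mem_normalizer_iff]
        intro y
        constructor
        · rintro ⟨z, hz, rfl⟩
          refine ⟨z, hz, ?_⟩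
          show ψ t * z * (ψ t)⁻¹ = x * (ψ t * z * (ψ t)⁻¹) * x⁻¹
          rw [(hcomm x hx z hz).eq, mul_inv_cancel_right]
        · rintro ⟨z, hz, hze⟩
          refine ⟨z, hz, ?_⟩
          have e : ψ t * z * (ψ t)⁻¹ = x * y * x⁻¹ := hze
          show ψ t * z * (ψ t)⁻¹ = y
          have e2 := congrArg (fun a => x⁻¹ * a * x) e
          rw [(hcomm _ (inv_mem hx) z hz).eq, mul_assoc, inv_mul_cancel, mul_one] at e2
          rw [e2]; group
      · refine IsPGroup.of_card (n := (orderOf (ψ t)).factorization 2) ?_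
        have hd : orderOf (ψ t) ∣ 2 := orderOf_dvd_of_pow_eq_one (by rw [pow_two, ht'])
        rw [Nat.card_zpowers]
        rcases (Nat.dvd_prime Nat.prime_two).1 hd with e | e <;> rw [e]
        · simp
        · rw [Nat.prime_two.factorization_self, pow_one]
      · rw [Subgroup.zpowers_le, Subgroup.mem_normalizer_iff_map_conj_eq, Subgroup.map_sup]
        have hinv : (ψ t)⁻¹ = ψ t := inv_eq_of_mul_eq_one_right ht'
        have hL : L'.map (MulAut.conj (ψ t)).toMonoidHom = L := by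
          show (L.map _).map _ = L
          rw [Subgroup.map_map, show (MulAut.conj (ψ t)).toMonoidHom.comp (MulAut.conj (ψ t)).toMonoidHom = MonoidHom.id X by
            refine MonoidHom.ext fun z => ?_
            show ψ t * (ψ t * z * (ψ t)⁻¹) * (ψ t)⁻¹ = z
            rw [hinv]
            rw [show ψ t * (ψ t * z * ψ t) * ψ t = (ψ t * ψ t) * z * (ψ t * ψ t) by group, ht', one_mul, mul_one]
            , Subgroup.map_id]
        exact (congrArg (fun M => L' ⊔ M) hL).trans (sup_comm L' L)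
    · obtain ⟨x, hx, hx1⟩ := (Subgroup.ne_bot_iff_exists_ne_one).1 hLd |> fun ⟨x, hx⟩ =>
        (⟨x.1, x.2, fun h => hx (Subtype.ext h)⟩ : ∃ x ∈ D L (i + 1), x ≠ 1)
      obtain ⟨y, hy, hxy⟩ := double (t := ψ t) (W := W) (le_sup_of_le_left le_sup_left)
        (Subgroup.mem_sup_right (Subgroup.mem_zpowers _)) hcomm (i + 1) x hx
      intro hbot
      rw [hbot, Subgroup.mem_bot] at hxy
      refine hx1 ?_
      obtain ⟨g, u, rfl, hgu⟩ := hLs x (D_le L _ hx)
      obtain ⟨h, v, rfl, hhv⟩ := hLs y hy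
      rw [hconj, mul_assoc, ← mul_assoc (φ u), hc, ← mul_assoc, ← mul_assoc, ← map_mul, mul_assoc, ← map_mul] at hxy
      obtain ⟨e1, e2⟩ := hinj _ _ hxy
      have hp : ∀ z : Fin n, z.val < 2 ^ i → (t * h * t⁻¹) z = z ∧ (v ∘ ⇑t⁻¹) z = 1 := fun z hz => by
        rw [htinv]
        obtain ⟨a, b⟩ := hhv (t z) (htlow z hz).1
        exact ⟨by rw [Equiv.Perm.mul_apply, Equiv.Perm.mul_apply, a]; exact htf z, b⟩
      have hgone : g = 1 := Equiv.ext fun z => by
        rcases lt_or_ge z.val (2 ^ i) with hz | hz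
        · have := Equiv.congr_fun e1 z
          rwa [Equiv.Perm.mul_apply, (hp z hz).1] at this
        · exact (hgu z hz).1
      have huone : u = 1 := funext fun z => by
        rcases lt_or_ge z.val (2 ^ i) with hz | hz
        · have := congrFun e2 z
          rwa [Pi.mul_apply, Function.comp_apply, (hp z hz).1, (hp z hz).2, mul_one] at this
        · exact (hgu z hz).2
      rw [hgone, huone, map_one, map_one, one_mul]
    · let Sup : Subgroup X :=
        { carrier := {g | ∃ (h : Equiv.Perm (Fin n)) (v : Fin n → K), g = ψ h * φ v ∧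
            ∀ x : Fin n, 2 ^ (i + 1) ≤ x.val → h x = x ∧ v x = 1}
          one_mem' := ⟨1, 1, by simp, fun x _ => ⟨rfl, rfl⟩⟩
          mul_mem' := by
            rintro _ _ ⟨g, u, rfl, hu⟩ ⟨h, v, rfl, hv⟩
            refine ⟨g * h, (u ∘ h) * v, by rw [map_mul, map_mul, mul_assoc, ← mul_assoc (φ u), hc]; group, fun x hx => ?_⟩
            rw [Equiv.Perm.mul_apply, Pi.mul_apply, Function.comp_apply, (hv x hx).1, (hv x hx).2, (hu x hx).1,
              (hu x hx).2, mul_one]
            exact ⟨rfl, rfl⟩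
          inv_mem' := by
            rintro _ ⟨g, u, rfl, hu⟩
            refine ⟨g⁻¹, u⁻¹ ∘ ⇑g⁻¹, by rw [← hc, mul_inv_rev, map_inv, map_inv], fun x hx => ?_⟩
            have e : g⁻¹ x = x := Equiv.Perm.inv_eq_iff_eq.2 (hu x hx).1.symm
            rw [Function.comp_apply, e, Pi.inv_apply, (hu x hx).2, inv_one]
            exact ⟨rfl, rfl⟩ }
      have hWS : W ≤ Sup := by
        refine sup_le (sup_le ?_ ?_) ((Subgroup.zpowers_le).2 ⟨t, 1, by rw [map_one, mul_one], fun x hx => ⟨hthigh x hx, rfl⟩⟩)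
        · intro g hg
          obtain ⟨h, v, rfl, hv⟩ := hLs g hg
          exact ⟨h, v, rfl, fun x hx => hv x (by omega)⟩
        · rintro _ ⟨g, hg, rfl⟩
          obtain ⟨h, v, rfl, hv⟩ := hLs g hg
          refine ⟨t * h * t⁻¹, v ∘ ⇑t⁻¹, hconj h v, fun x hx => ?_⟩
          rw [htinv, Equiv.Perm.mul_apply, Equiv.Perm.mul_apply, Function.comp_apply, hthigh x hx,
            (hv x (by omega)).1, (hv x (by omega)).2, hthigh x hx]
          exact ⟨rfl, rfl⟩
      exact fun g hg => hWS hg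

end Wreath

/-! ### The symmetric group -/

theorem exists_sylow_sym : ∀ n : ℕ, ∃ W : Subgroup (Equiv.Perm (Fin n)),
    Nat.card W = 2 ^ (n.factorial.factorization 2) ∧ D W (Nat.log 2 n) = ⊥ := by
  haveI : Fact (Nat.Prime 2) := ⟨Nat.prime_two⟩
  intro n
  induction n using Nat.strong_induction_on with
  | _ n ih =>
    rcases Nat.lt_or_ge n 2 with hlt | hge
    · refine ⟨⊥, ?_, by rw [Nat.log_of_lt hlt]; rfl⟩
      rw [Subgroup.card_bot, Nat.factorization_eq_zero_of_not_dvd
        (fun h => absurd (Nat.prime_two.dvd_factorial.mp h) (not_le.mpr hlt)), pow_zero]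
    obtain ⟨m, r, hm, hr⟩ : ∃ m r, n = 2 * m + r ∧ r < 2 :=
      ⟨n / 2, n % 2, (Nat.div_add_mod n 2).symm, Nat.mod_lt _ two_pos⟩
    obtain ⟨S, hScard, hSd⟩ := ih m (by omega)
    have hwr : SymGen.wr (p := 2) S = TwoWreath.wr (SymGen.base (p := 2) (m := m)) SymGen.lift SymGen.base_lift ⊤ S := by
      ext g
      exact ⟨fun ⟨h, hh, v, e⟩ => ⟨h, hh, v, fun _ => trivial, e⟩, fun ⟨h, hh, v, _, e⟩ => ⟨h, hh, v, e⟩⟩
    let e : (Fin m × ZMod 2) ⊕ Fin r ≃ Fin n :=
      Fintype.equivFinOfCardEq (by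
        rw [Fintype.card_sum, Fintype.card_prod, Fintype.card_fin, Fintype.card_fin, ZMod.card, hm, mul_comm])
    let F : Equiv.Perm (Fin m × ZMod 2) →* Equiv.Perm (Fin n) :=
      (Equiv.permCongrHom e).toMonoidHom.comp
        ((Equiv.Perm.sumCongrHom (Fin m × ZMod 2) (Fin r)).comp (MonoidHom.inl _ _))
    have hF : Function.Injective F := (Equiv.permCongrHom e).injective.comp
      (Equiv.Perm.sumCongrHom_injective.comp fun a b h => (Prod.mk.inj h).1)
    refine ⟨(SymGen.wr (p := 2) S).map F, ?_, ?_⟩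
    · have h1 : n.factorial.factorization 2 = m + m.factorial.factorization 2 := by
        rw [Nat.factorization_def _ Nat.prime_two, Nat.factorization_def _ Nat.prime_two, hm,
          padicValNat_factorial_mul_add m hr, padicValNat_factorial_mul, add_comm]
      rw [Subgroup.card_map_of_injective hF, SymGen.card_wr, hScard, h1, pow_add]
    · have hlog : Nat.log 2 n = Nat.log 2 m + 1 := by
        rw [Nat.log_of_one_lt_of_le one_lt_two hge, show n / 2 = m by omega]
      have hab : D (⊤ : Subgroup (Multiplicative (ZMod 2))) 1 = ⊥ := by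
        show ⁅(⊤ : Subgroup (Multiplicative (ZMod 2))), ⊤⁆ = ⊥
        rw [Subgroup.commutator_eq_bot_iff_le_centralizer]
        exact fun x _ => Subgroup.mem_centralizer_iff.2 fun y _ => mul_comm y x
      rw [D_map, hwr, hlog, D_wr_eq_bot _ _ _ _ _ hSd hab, Subgroup.map_bot]

/-! ### The symplectic group -/

theorem quaternion_D {k : ℕ} (hk : 1 ≤ k) :
    D (⊤ : Subgroup (QuaternionGroup (2 ^ k))) 2 = ⊥ ∧ D (⊤ : Subgroup (QuaternionGroup (2 ^ k))) 1 ≠ ⊥ := by
  let A : Subgroup (QuaternionGroup (2 ^ k)) := Subgroup.zpowers (QuaternionGroup.a 1)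
  have hA : ∀ i : ZMod (2 * 2 ^ k), QuaternionGroup.a i ∈ A := fun i => by
    refine ⟨(i.val : ℤ), ?_⟩
    show QuaternionGroup.a 1 ^ (i.val : ℤ) = _
    rw [zpow_natCast, QuaternionGroup.a_one_pow, ZMod.natCast_zmod_val]
  have hle : D (⊤ : Subgroup (QuaternionGroup (2 ^ k))) 1 ≤ A := by
    show ⁅(⊤ : Subgroup (QuaternionGroup (2 ^ k))), ⊤⁆ ≤ A
    rw [Subgroup.commutator_le]
    intro x _ y _
    rw [commutatorElement_def]
    have ia : ∀ i : ZMod (2 * 2 ^ k), (QuaternionGroup.a i)⁻¹ = QuaternionGroup.a (-i) := fun i => rfl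
    have ixa : ∀ i : ZMod (2 * 2 ^ k), (QuaternionGroup.xa i)⁻¹ = QuaternionGroup.xa (((2 ^ k : ℕ) : ZMod (2 * 2 ^ k)) + i) := fun i => rfl
    cases x with
    | a i => cases y with
      | a j => simp only [ia, QuaternionGroup.a_mul_a, hA]
      | xa j => simp only [ia, ixa, QuaternionGroup.a_mul_xa,
          QuaternionGroup.xa_mul_a, QuaternionGroup.xa_mul_xa, hA]
    | xa i => cases y with
      | a j => simp only [ia, ixa, QuaternionGroup.xa_mul_a,
          QuaternionGroup.xa_mul_xa, QuaternionGroup.a_mul_a, hA]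
      | xa j => simp only [ixa, QuaternionGroup.xa_mul_xa, QuaternionGroup.a_mul_xa,
          QuaternionGroup.xa_mul_xa, hA]
  constructor
  · refine le_bot_iff.1 ((Subgroup.commutator_mono hle hle).trans ?_)
    rw [le_bot_iff, Subgroup.commutator_eq_bot_iff_le_centralizer]
    exact fun x hx => Subgroup.mem_centralizer_iff.2 fun y hy => by
      obtain ⟨a, rfl⟩ := hx
      obtain ⟨b, rfl⟩ := hy
      show QuaternionGroup.a 1 ^ b * QuaternionGroup.a 1 ^ a = QuaternionGroup.a 1 ^ a * QuaternionGroup.a 1 ^ b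
      rw [← zpow_add, ← zpow_add, add_comm]
  · intro h
    have h1 : (QuaternionGroup.a 1 : QuaternionGroup (2 ^ k)) * QuaternionGroup.xa 0 =
        QuaternionGroup.xa 0 * QuaternionGroup.a 1 := by
      have := Subgroup.commutator_mem_commutator (Subgroup.mem_top (QuaternionGroup.a 1 : QuaternionGroup (2 ^ k)))
        (Subgroup.mem_top (QuaternionGroup.xa 0))
      change _ ∈ D (⊤ : Subgroup (QuaternionGroup (2 ^ k))) 1 at this
      rw [h, Subgroup.mem_bot, commutatorElement_eq_one_iff_mul_comm] at this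
      exact this
    rw [QuaternionGroup.a_mul_xa, QuaternionGroup.xa_mul_a] at h1
    have h2 : ((2 : ℕ) : ZMod (2 * 2 ^ k)) = 0 := by
      have := QuaternionGroup.xa.inj h1
      push_cast
      linear_combination -this
    have h3 := Nat.le_of_dvd two_pos ((ZMod.natCast_eq_zero_iff _ _).1 h2)
    have := Nat.one_lt_two_pow (show k ≠ 0 by omega)
    omega

theorem derived_length_symplectic {F : Type*} [Field F] [Fintype F] (hF : Odd (Fintype.card F)) (n : ℕ)
    (hn : 1 ≤ n) (R : Sylow 2 ↥(Matrix.symplecticGroup (Fin n) F)) :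
    D (R : Subgroup ↥(Matrix.symplecticGroup (Fin n) F)) (Nat.log 2 n + 2) = ⊥ ∧
    D (R : Subgroup ↥(Matrix.symplecticGroup (Fin n) F)) (Nat.log 2 n + 1) ≠ ⊥ := by
  classical
  haveI : Fact (Nat.Prime 2) := ⟨Nat.prime_two⟩
  have h2 : (2 : F) ≠ 0 := Classical.SL2Four.two_ne_zero_of_odd rfl hF
  obtain ⟨S⟩ : Nonempty (Sylow 2 (Matrix.SpecialLinearGroup (Fin 2) F)) := inferInstance
  obtain ⟨k, hk, ⟨eS⟩⟩ := Classical.SL2Four.sylow_two_quaternion h2 S
  have hSD : ∀ i, D (S : Subgroup (Matrix.SpecialLinearGroup (Fin 2) F)) i = ⊥ ↔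
      D (⊤ : Subgroup (QuaternionGroup (2 ^ k))) i = ⊥ := fun i => by
    have e : ((⊤ : Subgroup (QuaternionGroup (2 ^ k))).map
        ((S : Subgroup (Matrix.SpecialLinearGroup (Fin 2) F)).subtype.comp eS.symm.toMonoidHom)) =
        (S : Subgroup (Matrix.SpecialLinearGroup (Fin 2) F)) := by
      rw [← MonoidHom.range_eq_map, MonoidHom.range_comp, MonoidHom.range_eq_top.2 eS.symm.surjective,
        ← MonoidHom.range_eq_map, Subgroup.range_subtype]
    conv_lhs => rw [← e]
    rw [D_map, Subgroup.map_eq_bot_iff_of_injective _ (Subtype.val_injective.comp eS.symm.injective)]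
  obtain ⟨W, hW, hWd⟩ := exists_sylow_sym n
  let T : Sylow 2 (Equiv.Perm (Fin n)) := Sylow.ofCard W (by rw [hW, Nat.card_perm, Nat.card_fin])
  have hcard := TwoWreath.card_sylow_symplectic (n := n) hF S T
  have hinj := TwoWreath.psi_phi_inj (F := F) (n := n)
  constructor
  · obtain ⟨g, hg⟩ := MulAction.exists_smul_eq ↥(Matrix.symplecticGroup (Fin n) F) (Sylow.ofCard _ hcard) R
    rw [← hg]
    show D ((TwoWreath.wr (TwoWreath.phiSp F n) (TwoWreath.psiSp F n) TwoWreath.phi_psi (S : Subgroup _) W).map (MulAut.conj g).toMonoidHom) _ = ⊥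
    rw [D_map, D_wr_eq_bot _ _ _ _ _ hWd ((hSD 2).2 (quaternion_D hk).1), Subgroup.map_bot]
  · obtain ⟨S', hS'⟩ : ∃ S' : Subgroup (Matrix.SpecialLinearGroup (Fin 2) F),
        S' = (S : Subgroup (Matrix.SpecialLinearGroup (Fin 2) F)) := ⟨_, rfl⟩
    have hS1 : D S' 1 ≠ ⊥ := by
      rw [hS']
      exact fun h => (quaternion_D hk).2 ((hSD 1).1 h)
    have hS2 : IsPGroup 2 ↥S' := by
      rw [hS']
      exact S.isPGroup'
    obtain ⟨L, hLp, hLd, -⟩ := exists_deep (TwoWreath.phiSp F n) (TwoWreath.psiSp F n)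
      (TwoWreath.phi_psi (F := F) (n := n)) hinj hS2 hS1 (Nat.log 2 n) (Nat.pow_log_le_self 2 (by omega))
    obtain ⟨Q, hQ⟩ := hLp.exists_le_sylow
    obtain ⟨g, hg⟩ := MulAction.exists_smul_eq ↥(Matrix.symplecticGroup (Fin n) F) Q R
    intro h
    refine hLd (le_bot_iff.1 ((D_mono hQ _).trans ?_))
    rw [← hg] at h
    change D ((Q : Subgroup ↥(Matrix.symplecticGroup (Fin n) F)).map (MulAut.conj g).toMonoidHom) _ = ⊥ at h
    rw [D_map, Subgroup.map_eq_bot_iff] at h
    exact h.trans_eq (MonoidHom.ker_eq_bot_iff _ |>.2 (MulEquiv.injective _))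

end Cfsg.Agent.Small.SylowTwoDerived
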