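import Cfsg.Agent.Lib.Char.SylowTwoWreath

/-!
A two-group `D wr T` times an elementary abelian group, cut by a normal subgroup containing all squares, is
generated by elements whose squares are commutators.
-/

set_option autoImplicit false
set_option linter.unusedSectionVars false

open scoped commutatorElement

namespace Cfsg.Agent.Small.SylowTwoKernel

open Cfsg.Agent.Char

variable {m : ℕ} {D : Type*} [Group D] {X : Type*} [Group X] (φ : (Fin m → D) →* X)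
  (ψ : Equiv.Perm (Fin m) →* X) (hc : ∀ (h : Equiv.Perm (Fin m)) (v : Fin m → D), φ v * ψ h = ψ h * φ (v ∘ h))
  (T : Subgroup (Equiv.Perm (Fin m))) (K : Subgroup X)
  (hKψ : ∀ κ ∈ K, ∀ h, Commute κ (ψ h)) (hKφ : ∀ κ ∈ K, ∀ v, Commute κ (φ v))

/-- The wreath product times the complement. -/
def wk : Subgroup X where
  carrier := {g | ∃ h ∈ T, ∃ v, ∃ κ ∈ K, g = ψ h * φ v * κ}
  one_mem' := ⟨1, T.one_mem, 1, 1, K.one_mem, by simp⟩
  mul_mem' := by
    rintro _ _ ⟨h, hh, v, κ, hκ, rfl⟩ ⟨h', hh', v', κ', hκ', rfl⟩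
    refine ⟨h * h', T.mul_mem hh hh', (v ∘ h') * v', κ * κ', K.mul_mem hκ hκ', ?_⟩
    have e : φ v * κ * ψ h' = ψ h' * φ (v ∘ h') * κ := by
      rw [mul_assoc, (hKψ κ hκ h').eq, ← mul_assoc, hc, mul_assoc]
    calc ψ h * φ v * κ * (ψ h' * φ v' * κ') = ψ h * (φ v * κ * ψ h') * φ v' * κ' := by group
      _ = ψ h * ψ h' * φ (v ∘ h') * (κ * φ v') * κ' := by rw [e]; group
      _ = _ := by rw [(hKφ κ hκ v').eq, map_mul, map_mul]; group
  inv_mem' := by
    rintro _ ⟨h, hh, v, κ, hκ, rfl⟩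
    refine ⟨h⁻¹, T.inv_mem hh, v⁻¹ ∘ ⇑h⁻¹, κ⁻¹, K.inv_mem hκ, ?_⟩
    rw [mul_inv_rev, mul_inv_rev, ← map_inv, ← map_inv, hc, ← mul_assoc, (hKψ _ (K.inv_mem hκ) h⁻¹).eq, mul_assoc,
      (hKφ _ (K.inv_mem hκ) _).eq, ← mul_assoc]

theorem card_wk (hinj : ∀ h v, ∀ κ ∈ K, ψ h * φ v * κ = 1 → h = 1 ∧ v = 1) :
    Nat.card (wk φ ψ hc T K hKψ hKφ) = Nat.card T * Nat.card D ^ m * Nat.card K := by
  let f : T × (Fin m → D) × K → wk φ ψ hc T K hKψ hKφ := fun x =>
    ⟨ψ x.1.1 * φ x.2.1 * x.2.2.1, x.1.1, x.1.2, x.2.1, x.2.2.1, x.2.2.2, rfl⟩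
  have hf : Function.Bijective f := by
    constructor
    · rintro ⟨⟨h, hh⟩, v, ⟨κ, hκ⟩⟩ ⟨⟨h', hh'⟩, v', ⟨κ', hκ'⟩⟩ e
      have e1 : ψ h * φ v * κ = ψ h' * φ v' * κ' := congrArg Subtype.val e
      have e2 : ψ (h'⁻¹ * h) * φ ((v'⁻¹ ∘ ⇑(h'⁻¹ * h)) * v) * (κ * κ'⁻¹) = 1 := by
        rw [map_mul φ, ← mul_assoc (ψ (h'⁻¹ * h)), ← hc, map_mul, map_inv, map_inv, mul_assoc, mul_assoc, mul_assoc]
        calc (φ v')⁻¹ * ((ψ h')⁻¹ * (ψ h * (φ v * (κ * κ'⁻¹))))
            = (φ v')⁻¹ * (ψ h')⁻¹ * (ψ h * φ v * κ) * κ'⁻¹ := by group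
          _ = 1 := by rw [e1]; group
      obtain ⟨a, b⟩ := hinj _ _ _ (mul_mem hκ (inv_mem hκ')) e2
      obtain rfl : h' = h := inv_mul_eq_one.1 a
      have hv : v' = v := by
        refine inv_mul_eq_one.1 (funext fun i => ?_)
        have hb := congrFun b i
        simpa using hb
      subst hv
      obtain rfl : κ = κ' := mul_left_cancel e1
      rfl
    · rintro ⟨g, h, hh, v, κ, hκ, rfl⟩
      exact ⟨(⟨h, hh⟩, v, ⟨κ, hκ⟩), rfl⟩
  rw [← Nat.card_eq_of_bijective f hf, Nat.card_prod, Nat.card_prod, Nat.card_fun, Nat.card_fin, mul_assoc]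

/-- The generation. -/
theorem gen2_kernel (N : Subgroup X) [N.Normal] (hsq : ∀ x : X, x * x ∈ N) (hψ : ∀ h, ψ h ∈ N)
    (r ρ : D) (hr : r * r = 1) (hrρ : r * ρ * r = ρ⁻¹) (hD : ∀ x, ∃ k : ℤ, x = ρ ^ k ∨ x = ρ ^ k * r)
    (hK2 : ∀ κ ∈ K, κ * κ = 1) (hT : SymGen.GenP 2 T) (hm : 2 ≤ m)
    (himp : ∀ i, ∀ κ ∈ K, φ (Pi.mulSingle i ρ) * κ ∈ N → κ = 1 ∨ ∃ κ' ∈ K, φ (Pi.mulSingle i r) * κ' ∈ N) :
    TwoWreath.Gen2 (wk φ ψ hc T K hKψ hKφ ⊓ N) := by
  classical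
  set W := wk φ ψ hc T K hKψ hKφ
  set P := W ⊓ N with hP
  set H := Subgroup.closure {x | x ∈ P ∧ x ^ 2 ∈ ⁅P, P⁆} with hH
  have hWφ : ∀ v κ, κ ∈ K → φ v * κ ∈ W := fun v κ hκ => ⟨1, T.one_mem, v, κ, hκ, by rw [map_one, one_mul]⟩
  have hWφ' : ∀ v, φ v ∈ W := fun v => by simpa using hWφ v 1 K.one_mem
  have hrpow : ∀ k : ℤ, r * ρ ^ k * r = (ρ ^ k)⁻¹ := by
    intro k
    have e : r⁻¹ = r := inv_eq_of_mul_eq_one_right hr
    have h := map_zpow (MulAut.conj r).toMonoidHom ρ k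
    rw [MulEquiv.coe_toMonoidHom, MulAut.conj_apply, MulAut.conj_apply, e, hrρ, inv_zpow] at h
    exact h
  have hrefl : ∀ k : ℤ, ρ ^ k * r * (ρ ^ k * r) = 1 := fun k => by
    rw [show ρ ^ k * r * (ρ ^ k * r) = ρ ^ k * (r * ρ ^ k * r) by group, hrpow, mul_inv_cancel]
  -- two equal entries give an element of the kernel
  have hpairN : ∀ i j (x : D), φ (Pi.mulSingle i x) * φ (Pi.mulSingle j x) ∈ N := by
    intro i j x
    have e : ψ (Equiv.swap i j) * φ (Pi.mulSingle i x) = φ (Pi.mulSingle j x) * ψ (Equiv.swap i j) := by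
      rw [hc, show ((Pi.mulSingle j x : Fin m → D) ∘ ⇑(Equiv.swap i j)) = Pi.mulSingle i x from funext fun l => by
        rw [Function.comp_apply, Pi.mulSingle_apply, Pi.mulSingle_apply]
        congr 1
        rw [Equiv.swap_apply_eq_iff, Equiv.swap_apply_right]]
    have e2 : φ (Pi.mulSingle i x) * φ (Pi.mulSingle j x) =
        (φ (Pi.mulSingle i x) * ψ (Equiv.swap i j)) * (φ (Pi.mulSingle i x) * ψ (Equiv.swap i j)) := by
      rw [show φ (Pi.mulSingle i x) * ψ (Equiv.swap i j) * (φ (Pi.mulSingle i x) * ψ (Equiv.swap i j)) =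
          φ (Pi.mulSingle i x) * (ψ (Equiv.swap i j) * φ (Pi.mulSingle i x)) * ψ (Equiv.swap i j) by group, e,
        mul_assoc, mul_assoc (φ (Pi.mulSingle j x)), ← map_mul ψ, Equiv.swap_mul_self, map_one, mul_one]
    rw [e2]
    exact hsq _
  have hsing : ∀ (i : Fin m) (x y : D), φ (Pi.mulSingle i x) * φ (Pi.mulSingle i y) = φ (Pi.mulSingle i (x * y)) :=
    fun i x y => by rw [← map_mul, ← Pi.mulSingle_mul]
  have hother : ∀ i : Fin m, ∃ j, j ≠ i := fun i => by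
    rcases eq_or_ne i ⟨0, by omega⟩ with h | h
    · exact ⟨⟨1, by omega⟩, by rw [h]; simp [Fin.ext_iff]⟩
    · exact ⟨⟨0, by omega⟩, h.symm⟩
  have hcomm2 : ∀ v w : Fin m → D, φ v ∈ N → φ w ∈ N → φ ⁅v, w⁆ ∈ ⁅P, P⁆ := fun v w hv hw => by
    rw [map_commutatorElement]
    exact Subgroup.commutator_mem_commutator ⟨hWφ' v, hv⟩ ⟨hWφ' w, hw⟩
  have hcommr : ∀ k : ℤ, ⁅ρ ^ k, r⁆ = ρ ^ k * ρ ^ k := fun k => by
    rw [commutatorElement_def, inv_eq_of_mul_eq_one_right hr, show ρ ^ k * r * (ρ ^ k)⁻¹ * r =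
      ρ ^ k * (r * (ρ ^ k)⁻¹ * r) by group, ← zpow_neg, hrpow, zpow_neg, inv_inv]
  -- squares of a rotation in one coordinate
  have hgen : ∀ x, x ∈ P → x ^ 2 ∈ ⁅P, P⁆ → x ∈ H := fun x h1 h2 => Subgroup.subset_closure ⟨h1, h2⟩
  have hrot : ∀ i (k : ℤ), φ (Pi.mulSingle i (ρ ^ k)) ∈ N → φ (Pi.mulSingle i (ρ ^ k)) ∈ H := by
    intro i k hk
    obtain ⟨j, hj⟩ := hother i
    refine hgen _ ⟨hWφ' _, hk⟩ ?_
    have h := hcomm2 (Pi.mulSingle i (ρ ^ k)) (Pi.mulSingle i r * Pi.mulSingle j r) hk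
      (by rw [map_mul]; exact hpairN i j r)
    rw [pow_two, hsing]
    convert h using 2
    funext l
    rw [commutatorElement_def, Pi.mul_apply, Pi.mul_apply, Pi.mul_apply, Pi.mul_apply, Pi.inv_apply, Pi.inv_apply,
      Pi.mul_apply]
    rcases eq_or_ne l i with rfl | hl
    · rw [Pi.mulSingle_eq_same, Pi.mulSingle_eq_same, Pi.mulSingle_eq_same, Pi.mulSingle_eq_of_ne (Ne.symm hj), mul_one,
        ← commutatorElement_def, hcommr]
    · rw [Pi.mulSingle_eq_of_ne hl, Pi.mulSingle_eq_of_ne hl, Pi.mulSingle_eq_of_ne hl]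
      simp
  -- two equal entries
  have hpair : ∀ i j, i ≠ j → ∀ x, φ (Pi.mulSingle i x) * φ (Pi.mulSingle j x) ∈ H := by
    intro i j hij x
    refine hgen _ ⟨mul_mem (hWφ' _) (hWφ' _), hpairN i j x⟩ ?_
    have hsqp : (φ (Pi.mulSingle i x) * φ (Pi.mulSingle j x)) ^ 2 =
        φ (Pi.mulSingle i (x * x) * Pi.mulSingle j (x * x)) := by
      rw [pow_two, ← map_mul, ← map_mul]
      congr 1
      funext l
      simp only [Pi.mul_apply]
      rcases eq_or_ne l i with rfl | hl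
      · simp [hij]
      · simp [hl]
        rcases eq_or_ne l j with rfl | hl'
        · simp
        · simp [hl']
    rw [hsqp]
    obtain ⟨k, rfl | rfl⟩ := hD x
    · have h := hcomm2 (Pi.mulSingle i (ρ ^ k) * Pi.mulSingle j (ρ ^ k)) (Pi.mulSingle i r * Pi.mulSingle j r)
        (by rw [map_mul]; exact hpairN _ _ _) (by rw [map_mul]; exact hpairN _ _ _)
      convert h using 2
      funext l
      simp only [commutatorElement_def, Pi.mul_apply, Pi.inv_apply]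
      rcases eq_or_ne l i with rfl | hl
      · rw [Pi.mulSingle_eq_same, Pi.mulSingle_eq_same, Pi.mulSingle_eq_same, Pi.mulSingle_eq_of_ne hij,
          Pi.mulSingle_eq_of_ne hij, Pi.mulSingle_eq_of_ne hij, mul_one, mul_one, mul_one, ← commutatorElement_def,
          hcommr]
      · rcases eq_or_ne l j with rfl | hl'
        · rw [Pi.mulSingle_eq_same, Pi.mulSingle_eq_same, Pi.mulSingle_eq_same, Pi.mulSingle_eq_of_ne hl,
            Pi.mulSingle_eq_of_ne hl, Pi.mulSingle_eq_of_ne hl, one_mul, one_mul, one_mul, ← commutatorElement_def,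
            hcommr]
        · simp [hl, hl']
    · rw [hrefl]
      simp [one_mem]
  -- the base part
  have hbase : ∀ (d : ℕ) (v : Fin m → D) (κ : X), κ ∈ K → φ v * κ ∈ N →
      (Finset.univ.filter fun i => i ≠ (⟨0, by omega⟩ : Fin m) ∧ v i ≠ 1).card = d → φ v * κ ∈ H := by
    intro d
    induction d using Nat.strong_induction_on with
    | _ d ih =>
    intro v κ hκ hN hd
    set i₀ : Fin m := ⟨0, by omega⟩
    by_cases he : ∃ i, i ≠ i₀ ∧ v i ≠ 1
    · obtain ⟨i, hi, hvi⟩ := he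
      have hu := hpair i i₀ hi (v i)
      set u := φ (Pi.mulSingle i (v i)) * φ (Pi.mulSingle i₀ (v i))
      have e : φ v * κ = u * (φ ((Pi.mulSingle i (v i) * Pi.mulSingle i₀ (v i))⁻¹ * v) * κ) := by
        rw [map_mul φ (_)⁻¹, map_inv, map_mul, mul_assoc _⁻¹ (φ v), mul_inv_cancel_left]
      rw [e]
      refine mul_mem hu (ih _ ?_ _ κ hκ ((Subgroup.mul_mem_cancel_left N (hpairN i i₀ (v i))).1 (e ▸ hN)) rfl)
      rw [← hd]
      refine Finset.card_lt_card ((Finset.ssubset_iff_of_subset fun l hl => ?_).2 ⟨i, by simp [hi, hvi], ?_⟩)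
      · simp only [Finset.mem_filter, Finset.mem_univ, true_and] at hl ⊢
        refine ⟨hl.1, fun h0 => hl.2 ?_⟩
        rcases eq_or_ne l i with rfl | hli
        · exact absurd h0 hvi
        · simp [Pi.mulSingle_eq_of_ne hli, Pi.mulSingle_eq_of_ne hl.1, h0]
      · simp [Pi.mulSingle_eq_of_ne hi]
    · push Not at he
      have hv : v = Pi.mulSingle i₀ (v i₀) := funext fun l => by
        rcases eq_or_ne l i₀ with rfl | hl
        · rw [Pi.mulSingle_eq_same]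
        · rw [Pi.mulSingle_eq_of_ne hl, he l hl]
      rw [hv] at hN ⊢
      obtain ⟨k, hk | hk⟩ := hD (v i₀) <;> rw [hk] at hN ⊢
      · rcases Int.even_or_odd k with ⟨l, rfl⟩ | ⟨l, rfl⟩
        · have h0 : φ (Pi.mulSingle i₀ (ρ ^ (l + l))) ∈ N := by rw [zpow_add, ← hsing]; exact hsq _
          refine mul_mem (hrot i₀ _ h0) (hgen κ ⟨by simpa using hWφ 1 κ hκ, (Subgroup.mul_mem_cancel_left N h0).1 hN⟩ ?_)
          rw [pow_two, hK2 κ hκ]
          exact one_mem _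
        · have h0 : φ (Pi.mulSingle i₀ (ρ ^ (l + l))) ∈ N := by rw [zpow_add, ← hsing]; exact hsq _
          have h1 : φ (Pi.mulSingle i₀ ρ) * κ ∈ N := by
            rw [show (2 * l + 1 : ℤ) = l + l + 1 by ring, zpow_add_one, ← hsing, mul_assoc] at hN
            exact (Subgroup.mul_mem_cancel_left N h0).1 hN
          rcases himp i₀ κ hκ h1 with rfl | ⟨κ', hκ', hκN⟩
          · rw [mul_one] at hN ⊢
            exact hrot i₀ _ hN
          · refine hgen _ ⟨hWφ _ κ hκ, hN⟩ ?_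
            have hmem := Subgroup.commutator_mem_commutator (H₁ := P) (H₂ := P) ⟨hWφ _ κ hκ, hN⟩ ⟨hWφ _ κ' hκ', hκN⟩
            convert hmem using 1
            have c1 := hKφ κ hκ (Pi.mulSingle i₀ (ρ ^ (2 * l + 1)))
            have c2 := hKφ κ hκ (Pi.mulSingle i₀ r)
            have c3 := hKφ κ' hκ' (Pi.mulSingle i₀ (ρ ^ (2 * l + 1)))
            have c4 := hKφ κ' hκ' (Pi.mulSingle i₀ r)
            have c5 : Commute κ κ' := by
              have h := hK2 _ (mul_mem hκ hκ')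
              calc κ * κ' = (κ * κ) * (κ' * κ) * ((κ' * κ') : X) := by
                    rw [hK2 κ hκ, hK2 κ' hκ', one_mul, mul_one]
                    refine (mul_eq_one_iff_eq_inv.1 h).trans ?_
                    rw [mul_inv_rev, inv_eq_of_mul_eq_one_right (hK2 κ hκ), inv_eq_of_mul_eq_one_right (hK2 κ' hκ')]
                _ = κ' * κ := by rw [hK2 κ hκ, hK2 κ' hκ', one_mul, mul_one]
            rw [pow_two, commutatorElement_def]
            set a := φ (Pi.mulSingle i₀ (ρ ^ (2 * l + 1))) with ha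
            set b := φ (Pi.mulSingle i₀ r) with hb
            have eb : a * a = a * b * a⁻¹ * b⁻¹ := by
              rw [ha, hb, ← map_inv, ← map_inv, ← map_mul, ← map_mul, ← map_mul, ← map_mul, ← Pi.mulSingle_inv,
                ← Pi.mulSingle_inv, ← Pi.mulSingle_mul, ← Pi.mulSingle_mul, ← Pi.mulSingle_mul, ← Pi.mulSingle_mul,
                ← commutatorElement_def, hcommr]
            calc a * κ * (a * κ) = a * (κ * a) * κ := by group
              _ = a * a := by rw [c1.eq, mul_assoc, mul_assoc a, hK2 κ hκ, mul_one]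
              _ = a * b * a⁻¹ * b⁻¹ := eb
              _ = a * (b * κ) * (κ⁻¹ * κ') * (κ'⁻¹ * a⁻¹) * b⁻¹ := by group
              _ = a * (κ * b) * (κ' * κ⁻¹) * (a⁻¹ * κ'⁻¹) * b⁻¹ := by
                  rw [c2.eq, c5.inv_left.eq, (c3.inv_inv).eq]
              _ = _ := by group
      · refine hgen _ ⟨hWφ _ κ hκ, hN⟩ ?_
        rw [pow_two, mul_assoc, ← mul_assoc κ, (hKφ κ hκ _).eq, mul_assoc, hK2 κ hκ, mul_one, hsing, hrefl,
          Pi.mulSingle_one, map_one]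
        exact one_mem _
  rintro g ⟨⟨h, hh, v, κ, hκ, rfl⟩, hgN⟩
  rw [mul_assoc] at hgN ⊢
  refine mul_mem ?_ (hbase _ v κ hκ ((Subgroup.mul_mem_cancel_left N (hψ h)).1 hgN) rfl)
  refine Subgroup.closure_mono ?_ (SymGen.genP_map ψ hT (Subgroup.mem_map_of_mem ψ hh))
  rintro x ⟨⟨y, hy, rfl⟩, hx⟩
  exact ⟨⟨⟨y, hy, 1, 1, K.one_mem, by simp⟩, hψ y⟩, by rw [hx]; exact one_mem _⟩

end Cfsg.Agent.Small.SylowTwoKernel
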