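import Cfsg.Agent.Lib.Char.SylowTwoSymplectic

/-!
A wreath product of Sylow subgroups has the order of a Sylow two-subgroup of the symplectic group.
-/

set_option autoImplicit false

open Matrix

namespace Cfsg.Agent.Char.TwoWreath

variable {F : Type*} [Field F] [Fintype F] {n : ℕ}

theorem card_sylow_symplectic (hF : Odd (Fintype.card F)) (S : Sylow 2 (SpecialLinearGroup (Fin 2) F))
    (T : Sylow 2 (Equiv.Perm (Fin n))) :
    Nat.card (wr (phiSp F n) (psiSp F n) phi_psi (S : Subgroup _) (T : Subgroup _)) =
      2 ^ (Nat.card (Matrix.symplecticGroup (Fin n) F)).factorization 2 := by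
  classical
  haveI : Fact (Nat.Prime 2) := ⟨Nat.prime_two⟩
  rw [card_wr _ _ _ psi_phi_inj, S.card_eq_multiplicity, T.card_eq_multiplicity, Nat.card_perm, Nat.card_fin, ← pow_mul, ← pow_add,
    Classical.SpCount.card_symplecticGroup, Small.SL2C.card_SL2]
  congr 1
  have hq2 : 2 ≤ Fintype.card F := Fintype.one_lt_card
  have hpow : ∀ i : ℕ, Fintype.card F ^ (2 * (i + 1)) - 1 ≠ 0 := fun i => by
    have : 1 < Fintype.card F ^ (2 * (i + 1)) := Nat.one_lt_pow (by omega) (by omega)
    omega
  rw [Nat.factorization_mul (pow_ne_zero _ (by omega)) (Finset.prod_ne_zero_iff.mpr fun i _ => hpow i),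
    Nat.factorization_mul (by omega) (by
      have : 1 < Fintype.card F ^ 2 := Nat.one_lt_pow (by omega) (by omega)
      omega),
    Nat.factorization_prod fun i _ => hpow i]
  simp only [Finsupp.add_apply, Finsupp.finsetSum_apply]
  rw [odd_card_pow hF, Nat.factorization_eq_zero_of_not_dvd
    (n := Fintype.card F) (fun h => by rcases hF with ⟨c, hc⟩; omega), zero_add, zero_add,
    Finset.sum_congr rfl (g := fun i => (Fintype.card F ^ 2 - 1).factorization 2 + (i + 1).factorization 2)
      fun i _ => by
        simp only [Nat.factorization_def _ Nat.prime_two]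
        exact sq_sub_one hF (i + 1) (by omega),
    Finset.sum_add_distrib, Finset.sum_const, Finset.card_range, smul_eq_mul, mul_comm]
  congr 1
  rw [← Finset.prod_range_add_one_eq_factorial, Nat.factorization_prod fun i _ => by omega,
    Finsupp.finsetSum_apply]

end Cfsg.Agent.Char.TwoWreath
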