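import Cfsg.Agent.Lib.Classical.SymmetricSymplectic
import Cfsg.Agent.Lib.Small.QuadTwo

/-!
# The symmetric group of degree `4k + 4` inside `O_{4k+2}(2)`
-/

set_option autoImplicit false
set_option linter.unusedSectionVars false

namespace Cfsg.Agent.Small.SymmOrth

open Module QuadraticMap Cfsg.Agent.Classical Cfsg.Agent.Small

variable {n : ℕ}

theorem zmod_two : ∀ a : ZMod 2, a = 0 ∨ a = 1 := by decide

theorem two_cases : ∀ a b : ZMod 2, ((if a + b = 1 then 1 else 0) + 2 * if a = 1 ∧ b = 1 then 1 else 0 : ℕ) =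
    (if a = 1 then 1 else 0) + if b = 1 then 1 else 0 := by decide

/-- The weight. -/
def wt (x : Fin (2 * n) → ZMod 2) : ℕ := (Finset.univ.filter fun i => x i = 1).card

/-- Half the weight modulo two. -/
def halfWt (x : Fin (2 * n) → ZMod 2) : ZMod 2 := ((wt x / 2 : ℕ) : ZMod 2)

theorem sum_eq_wt (x : Fin (2 * n) → ZMod 2) : ∑ i, x i = (wt x : ZMod 2) := by
  rw [wt, ← Finset.sum_boole]
  refine Finset.sum_congr rfl fun i _ => ?_
  generalize x i = a
  revert a
  decide

theorem wt_even (x : SymmSp.E n) : 2 ∣ wt (x : Fin (2 * n) → ZMod 2) := by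
  have h := (SymmSp.mem_evenSub n _).1 x.2
  rw [sum_eq_wt, ZMod.natCast_eq_zero_iff] at h
  exact h

theorem halfWt_add (x y : SymmSp.E n) :
    halfWt (x + y : SymmSp.E n).1 = halfWt x.1 + halfWt y.1 + SymmSp.dot n x y := by
  obtain ⟨c, hc⟩ : ∃ c, c = (Finset.univ.filter fun i => x.1 i = 1 ∧ y.1 i = 1).card := ⟨_, rfl⟩
  have hdot : SymmSp.dot n x y = (c : ZMod 2) := by
    rw [SymmSp.dot_apply, hc, ← Finset.sum_boole]
    refine Finset.sum_congr rfl fun i _ => ?_
    generalize (x : Fin (2 * n) → ZMod 2) i = a, (y : Fin (2 * n) → ZMod 2) i = b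
    revert a b
    decide
  have hw : wt (x + y : SymmSp.E n).1 + 2 * c = wt x.1 + wt y.1 := by
    rw [hc, wt, wt, wt, Finset.card_filter, Finset.card_filter, Finset.card_filter, Finset.card_filter,
      Finset.mul_sum, ← Finset.sum_add_distrib, ← Finset.sum_add_distrib]
    refine Finset.sum_congr rfl fun i _ => ?_
    simp only [Submodule.coe_add, Pi.add_apply]
    exact two_cases _ _
  obtain ⟨a, ha⟩ := wt_even (x + y)
  obtain ⟨b, hb⟩ := wt_even x
  obtain ⟨d, hd⟩ := wt_even y
  have h : a + c = b + d := by omega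
  rw [halfWt, halfWt, halfWt, ha, hb, hd, Nat.mul_div_cancel_left _ two_pos, Nat.mul_div_cancel_left _ two_pos,
    Nat.mul_div_cancel_left _ two_pos, hdot, ← Nat.cast_add b d, ← h, Nat.cast_add, add_assoc,
    CharTwo.add_self_eq_zero, add_zero]

/-- The form on even sets modulo complementation. -/
noncomputable def form (v : SymmSp.Q n) : ZMod 2 := halfWt (Quotient.out v : SymmSp.E n).1

theorem one_halfWt (hn : Even n) : halfWt (1 : Fin (2 * n) → ZMod 2) = 0 := by
  obtain ⟨j, rfl⟩ := hn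
  rw [halfWt, wt, Finset.filter_true_of_mem (fun i _ => Pi.one_apply i), Finset.card_univ, Fintype.card_fin,
    Nat.mul_div_cancel_left _ two_pos, Nat.cast_add, CharTwo.add_self_eq_zero]

theorem halfWt_zero : halfWt (0 : Fin (2 * n) → ZMod 2) = 0 := by
  simp [halfWt, wt]

theorem form_mk (hn : Even n) (x : SymmSp.E n) : form (Submodule.Quotient.mk x) = halfWt x.1 := by
  rw [form]
  obtain ⟨y, hy⟩ : ∃ y, y = (Quotient.out (Submodule.Quotient.mk x : SymmSp.Q n) : SymmSp.E n) := ⟨_, rfl⟩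
  rw [← hy]
  have h : (Submodule.Quotient.mk y : SymmSp.Q n) = Submodule.Quotient.mk x := by rw [hy]; exact Quotient.out_eq _
  rw [Submodule.Quotient.eq, SymmSp.ones, Submodule.mem_span_singleton] at h
  obtain ⟨c, hc⟩ := h
  have hy' : y = x + c • (⟨1, SymmSp.one_mem n⟩ : SymmSp.E n) := by rw [hc, add_sub_cancel]
  rcases zmod_two c with rfl | rfl
  · rw [hy', zero_smul, add_zero]
  · rw [hy', one_smul, halfWt_add, SymmSp.dot_one, one_halfWt hn, add_zero, add_zero]

theorem form_add (hn : Even n) (v w : SymmSp.Q n) : form (v + w) = form v + form w + SymmSp.form n v w := by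
  obtain ⟨x, rfl⟩ := Submodule.Quotient.mk_surjective _ v
  obtain ⟨y, rfl⟩ := Submodule.Quotient.mk_surjective _ w
  rw [← Submodule.Quotient.mk_add, form_mk hn, form_mk hn, form_mk hn, SymmSp.form_mk, halfWt_add]

theorem form_perm (hn : Even n) (σ : Equiv.Perm (Fin (2 * n))) (v : SymmSp.Q n) :
    form (SymmSp.permQ n σ v) = form v := by
  obtain ⟨x, rfl⟩ := Submodule.Quotient.mk_surjective _ v
  rw [SymmSp.permQ_mk, form_mk hn, form_mk hn, halfWt, halfWt]
  congr 2
  exact Finset.card_equiv σ.symm fun i => by simp only [Finset.mem_filter, Finset.mem_univ, true_and]; rw [SymmSp.permE_apply]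

/-- The real part, as an additive map. -/
def reHom : GaussianInt →+ ℤ where
  toFun := Zsqrtd.re
  map_zero' := rfl
  map_add' _ _ := rfl

theorem sgn_natCast (j : ℕ) : QuadTwo.sgn (j : ZMod 2) = (-1) ^ j := by
  induction j with
  | zero => rfl
  | succ j ih =>
    rw [Nat.cast_succ, QuadTwo.sgn_add, ih, pow_succ]
    rfl

theorem sum_sgn_even (j : ℕ) [Fintype (SymmSp.E (2 * j))] :
    ∑ x : SymmSp.E (2 * j), QuadTwo.sgn (halfWt x.1) = (-4) ^ j := by
  classical
  obtain ⟨I, hI⟩ : ∃ I : GaussianInt, I = ⟨0, 1⟩ := ⟨_, rfl⟩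
  have hI2 : I ^ 2 = -1 := by rw [hI, pow_two]; rfl
  have hterm : ∀ x : Fin (2 * (2 * j)) → ZMod 2, reHom (∏ i, if x i = 1 then I else 1) =
      if x ∈ SymmSp.evenSub (2 * j) then QuadTwo.sgn (halfWt x) else 0 := by
    intro x
    rw [Finset.prod_ite, Finset.prod_const_one, mul_one, Finset.prod_const, show
      (Finset.univ.filter fun i => x i = 1).card = wt x from rfl]
    rcases Nat.even_or_odd' (wt x) with ⟨a, ha | ha⟩
    · rw [if_pos, ha, pow_mul, hI2, halfWt, ha, Nat.mul_div_cancel_left _ two_pos, sgn_natCast]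
      · rcases neg_one_pow_eq_or GaussianInt a with h | h <;> rcases neg_one_pow_eq_or ℤ a with h' | h'
        · rw [h, h']; rfl
        · exfalso
          rcases Nat.even_or_odd a with he | he
          · rw [he.neg_one_pow] at h'; exact absurd h' (by decide)
          · rw [he.neg_one_pow] at h; exact absurd h (by decide)
        · exfalso
          rcases Nat.even_or_odd a with he | he
          · rw [he.neg_one_pow] at h; exact absurd h (by decide)
          · rw [he.neg_one_pow] at h'; exact absurd h' (by decide)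
        · rw [h, h']; rfl
      · rw [SymmSp.mem_evenSub, sum_eq_wt, ha, ZMod.natCast_eq_zero_iff]
        exact dvd_mul_right 2 a
    · rw [if_neg, ha, pow_succ, pow_mul, hI2]
      · rcases neg_one_pow_eq_or GaussianInt a with h | h <;> rw [h, hI] <;> rfl
      · rw [SymmSp.mem_evenSub, sum_eq_wt, ha, ZMod.natCast_eq_zero_iff]
        omega
  have h1 : ∑ x : Fin (2 * (2 * j)) → ZMod 2, reHom (∏ i, if x i = 1 then I else 1) = reHom (((1 + I) ^ 4) ^ j) := by
    rw [← map_sum, ← Fintype.prod_sum fun (_ : Fin (2 * (2 * j))) (a : ZMod 2) => if a = 1 then I else 1,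
      Finset.prod_const, Finset.card_univ, Fintype.card_fin, ← pow_mul, show 4 * j = 2 * (2 * j) by ring,
      show (∑ a : ZMod 2, if a = 1 then I else 1) = 1 + I by
        rw [show (Finset.univ : Finset (ZMod 2)) = {0, 1} by decide, Finset.sum_pair (by decide)]; simp]
  rw [show (1 + I) ^ 4 = ((-4 : ℤ) : GaussianInt) by rw [hI]; rfl, ← Int.cast_pow] at h1
  simp only [hterm] at h1
  rw [← Finset.sum_filter] at h1
  refine (Finset.sum_subtype _ (fun x => by simp) fun x => QuadTwo.sgn (halfWt x)).symm.trans (h1.trans ?_)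
  exact Zsqrtd.re_intCast (d := -1) _

theorem sum_sgn_form {j : ℕ} (hj : 1 ≤ j) [Fintype (SymmSp.Q (2 * j))] [Fintype (SymmSp.E (2 * j))] :
    2 * ∑ v : SymmSp.Q (2 * j), QuadTwo.sgn (form v) = (-4) ^ j := by
  classical
  rw [← sum_sgn_even, Finset.mul_sum,
    ← Finset.sum_fiberwise Finset.univ (fun x : SymmSp.E (2 * j) => (Submodule.Quotient.mk x : SymmSp.Q (2 * j)))]
  refine Finset.sum_congr rfl fun v _ => ?_
  obtain ⟨x, rfl⟩ := Submodule.Quotient.mk_surjective _ v
  obtain ⟨one, hone⟩ : ∃ one : SymmSp.E (2 * j), one = ⟨1, SymmSp.one_mem _⟩ := ⟨_, rfl⟩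
  have hfib : (Finset.univ.filter fun y : SymmSp.E (2 * j) =>
      (Submodule.Quotient.mk y : SymmSp.Q (2 * j)) = Submodule.Quotient.mk x) = {x, x + one} := by
    ext y
    simp only [Finset.mem_filter, Finset.mem_univ, true_and, Finset.mem_insert, Finset.mem_singleton,
      Submodule.Quotient.eq, SymmSp.ones, Submodule.mem_span_singleton, ← hone]
    constructor
    · rintro ⟨c, hc⟩
      rcases zmod_two c with rfl | rfl
      · exact Or.inl (sub_eq_zero.1 (by rw [← hc, zero_smul]))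
      · exact Or.inr (by rw [one_smul] at hc; rw [hc, add_sub_cancel])
    · rintro (rfl | rfl)
      · exact ⟨0, by rw [zero_smul, sub_self]⟩
      · exact ⟨1, by rw [one_smul, add_sub_cancel_left]⟩
  have hne : x ≠ x + one := fun h => by
    have := congrFun (congrArg Subtype.val (left_eq_add.1 h)) ⟨0, by omega⟩
    rw [hone] at this
    simp at this
  rw [hfib, Finset.sum_pair hne, form_mk (even_two_mul j), halfWt_add, hone, SymmSp.dot_one,
    one_halfWt (even_two_mul j), add_zero, add_zero, two_mul]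

/-- The embedding, with the type of the form. -/
theorem exists_embedding (k : ℕ) (hk1 : 1 ≤ k) :
    (Odd k → ∃ φ : Equiv.Perm (Fin (2 * (2 * (k + 1)))) →*
        ↥(Cfsg.isometryGroup (ZMod 2) (Cfsg.quadFormPlus (2 * k + 1) (ZMod 2))), Function.Injective φ) ∧
      (Even k → ∃ φ : Equiv.Perm (Fin (2 * (2 * (k + 1)))) →*
        ↥(Cfsg.isometryGroup (ZMod 2) (Cfsg.quadFormMinus (2 * k) (ZMod 2) 1 1)), Function.Injective φ) := by
  classical
  obtain ⟨n, hn⟩ : ∃ n, n = 2 * (k + 1) := ⟨_, rfl⟩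
  rw [← hn]
  have hne : Even n := ⟨k + 1, by omega⟩
  have hB := SymmSp.form_isAltND n (by omega)
  have hV := SymmSp.finrank_form n (by omega)
  rw [show n - 1 = 2 * k + 1 by omega] at hV
  obtain ⟨fam⟩ := SpCount.exists_fam (2 * k + 1) hB hV
  obtain ⟨L, hL⟩ : ∃ L : (Fin (2 * k + 1) ⊕ Fin (2 * k + 1) → ZMod 2) ≃ₗ[ZMod 2] SymmSp.Q n,
      L = (SpCount.famBasis hB hV fam).equivFun.symm := ⟨_, rfl⟩
  have hpol : ∀ u v, SymmSp.form n (L u) (L v) = polar (QuadTwo.plusQ (ZMod 2) (2 * k + 1)) u v := by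
    have h : (SymmSp.form n).compl₁₂ L.toLinearMap L.toLinearMap = polarBilin (QuadTwo.plusQ (ZMod 2) (2 * k + 1)) := by
      refine (Pi.basisFun (ZMod 2) _).ext fun a => (Pi.basisFun (ZMod 2) _).ext fun b => ?_
      rw [Pi.basisFun_apply, Pi.basisFun_apply, LinearMap.compl₁₂_apply, polarBilin_apply_apply, QuadTwo.polar_plusQ,
        hL]
      simp only [LinearEquiv.coe_coe, Basis.equivFun_symm_apply, Pi.single_apply, ite_smul, one_smul, zero_smul,
        Finset.sum_ite_eq', Finset.mem_univ, if_true]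
      rw [SpCount.famBasis, Basis.mk_apply, Basis.mk_apply, fam.2]
      rcases a with a | a <;> rcases b with b | b <;>
        simp [SpCount.J_apply, Matrix.J, Matrix.one_apply, eq_comm]
    exact fun u v => LinearMap.congr_fun (LinearMap.congr_fun h u) v
  have hq : ∀ u v, form (L (u + v)) = form (L u) + form (L v) + (Cfsg.quadFormPlus (2 * k + 1) (ZMod 2) (u + v) -
      Cfsg.quadFormPlus (2 * k + 1) (ZMod 2) u - Cfsg.quadFormPlus (2 * k + 1) (ZMod 2) v) := fun u v => by
    rw [map_add, form_add hne, hpol]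
    rfl
  have build : ∀ {ι : Type} [Fintype ι] [DecidableEq ι] (S : (ι → ZMod 2) → ZMod 2)
      (g : (Fin (2 * k + 1) ⊕ Fin (2 * k + 1) → ZMod 2) ≃ₗ[ZMod 2] (ι → ZMod 2)), (∀ v, form (L v) = S (g v)) →
        ∃ φ : Equiv.Perm (Fin (2 * n)) →* ↥(Cfsg.isometryGroup (ZMod 2) S), Function.Injective φ := by
    intro ι _ _ S g hg
    let e : SymmSp.Q n ≃ₗ[ZMod 2] (ι → ZMod 2) := L.symm.trans g
    let ρ : Equiv.Perm (Fin (2 * n)) →* Module.End (ZMod 2) (SymmSp.Q n) :=
      { toFun := fun σ => (SymmSp.permQ n σ).toLinearMap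
        map_one' := LinearMap.ext fun v => by
          obtain ⟨x, rfl⟩ := Submodule.Quotient.mk_surjective _ v
          rfl
        map_mul' := fun σ τ => LinearMap.ext fun v => by
          obtain ⟨x, rfl⟩ := Submodule.Quotient.mk_surjective _ v
          rfl }
    let ψ : Equiv.Perm (Fin (2 * n)) →* Matrix.GeneralLinearGroup ι (ZMod 2) :=
      (((LinearMap.toMatrixAlgEquiv').toMulEquiv.toMonoidHom).comp
        (((e.conjAlgEquiv (ZMod 2)).toMulEquiv.toMonoidHom).comp ρ)).toHomUnits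
    have hψ : ∀ σ v, (ψ σ).1.mulVec v = e (SymmSp.permQ n σ (e.symm v)) := fun σ v => by
      show (LinearMap.toMatrixAlgEquiv' (e.conjAlgEquiv (ZMod 2) (ρ σ))).mulVec v = _
      rw [← Matrix.toLinAlgEquiv'_apply, Matrix.toLinAlgEquiv'_toMatrixAlgEquiv', LinearEquiv.conjAlgEquiv_apply]
      rfl
    have hform : ∀ v, S v = form (e.symm v) := fun v => by
      obtain ⟨w, rfl⟩ := g.surjective v
      rw [← hg]
      simp [e]
    refine ⟨ψ.codRestrict _ fun σ u v => ?_, fun σ τ h => SymmSp.toIsom_injective n (by omega) (Subtype.ext ?_)⟩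
    · show S ((ψ σ).1.mulVec u) = S u
      rw [hψ, hform, hform, LinearEquiv.symm_apply_apply, form_perm hne]
    · refine LinearEquiv.ext fun v => e.injective ?_
      have h' := congrArg (fun X : Matrix.GeneralLinearGroup ι (ZMod 2) => X.1.mulVec (e v)) (congrArg Subtype.val h)
      change (ψ σ).1.mulVec (e v) = (ψ τ).1.mulVec (e v) at h'
      rw [hψ, hψ, e.symm_apply_apply] at h'
      exact h'
  haveI := Fintype.ofFinite (SymmSp.E (2 * (k + 1)))
  haveI := Fintype.ofFinite (SymmSp.E (2 * (2 * (k + 1))))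
  haveI : Finite (SymmSp.Q n) := Finite.of_surjective _ L.surjective
  haveI := Fintype.ofFinite (SymmSp.Q n)
  have hsum : 2 * ∑ v : Fin (2 * k + 1) ⊕ Fin (2 * k + 1) → ZMod 2, QuadTwo.sgn (form (L v)) = (-4) ^ (k + 1) := by
    subst hn
    rw [← sum_sgn_form (j := k + 1) (by omega)]
    congr 1
    exact L.toEquiv.sum_comp fun v => QuadTwo.sgn (form v)
  rcases QuadTwo.classify (by omega : 1 ≤ 2 * k + 1) (fun v => form (L v)) hq with ⟨g, hg⟩ | ⟨g, hg⟩
  · refine ⟨fun _ => build _ g hg, fun hk => ?_⟩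
    simp only [hg] at hsum
    erw [g.toEquiv.sum_comp fun v => QuadTwo.sgn (Cfsg.quadFormPlus (2 * k + 1) (ZMod 2) v), QuadTwo.sum_sgn_plus,
      (hk.add_one).neg_pow] at hsum
    have : (0 : ℤ) < 2 * 2 ^ (2 * k + 1) := by positivity
    have : (0 : ℤ) < 4 ^ (k + 1) := by positivity
    try rw [show 2 * k + 1 - 1 + 1 = 2 * k + 1 by omega] at hsum
    linarith
  · refine ⟨fun hk => ?_, fun _ => build _ g hg⟩
    simp only [hg] at hsum
    erw [g.toEquiv.sum_comp fun v => QuadTwo.sgn (Cfsg.quadFormMinus (2 * k) (ZMod 2) 1 1 v), QuadTwo.sum_sgn_minus,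
      (hk.add_one).neg_pow] at hsum
    have : (0 : ℤ) < 2 * 2 ^ (2 * k + 1) := by positivity
    have : (0 : ℤ) < 4 ^ (k + 1) := by positivity
    try rw [show 2 * k + 1 - 1 + 1 = 2 * k + 1 by omega] at hsum
    linarith

end Cfsg.Agent.Small.SymmOrth
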