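import Cfsg.Agent.Lib.Small.DegreeSearch

/-!
# Principal block degrees when the automiser of a Sylow subgroup of order `p` is the largest possible

All `p` characters of the block take the value `1` or `-1` at an element of order `p`, so all their
degrees divide the size of its class, and their signed sum vanishes.
-/

set_option autoImplicit false

namespace Cfsg.Agent.Small.TopAutomiser

open Cfsg Cfsg.Agent.Char Cfsg.Agent.Lead.BlockDeg Cfsg.Agent.Small.Order459648
open Cfsg.Agent.Small.DegreeSearch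
open scoped ComplexConjugate

universe u

variable {G : Type u} [Group G] [Fintype G]

theorem false_of_top [IsSimpleGroup G] (hna : ¬ IsMulCommutative G) {p : ℕ} [Fact p.Prime]
    (hp2 : 2 < p) (P : Sylow p G) (hP : Nat.card P = p) {e : ℕ}
    (he : (Subgroup.centralizer ((P : Subgroup G) : Set G)).relIndex
      (Subgroup.normalizer ((P : Subgroup G) : Set G)) = e) (hep : e + 1 = p)
    (hC : ¬ IsPGroup p ↥(Subgroup.centralizer ((P : Subgroup G) : Set G)))
    {N n : ℕ} (hN : Nat.card G = N) (hn : Nat.card (Sylow p G) = n)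
    (hc : search N (fun S _ => decide (S ≠ -1)) (cands N p n e (2 * p - 1)) e 0 1 = true) :
    False := by
  classical
  have hp : p.Prime := Fact.out
  obtain ⟨M, hM⟩ := exists_pModular hp
  obtain ⟨X, Y, a, δ, h⟩ := exists_prime_principal hM hP he
  have hN0 : N ≠ 0 := by rw [← hN]; exact Nat.card_pos.ne'
  have hY1 : Y.card = 1 := by
    rw [h.cardY, show (p - 1) = e by omega, Nat.div_self (by omega)]
  obtain ⟨θ, rfl⟩ := Finset.card_eq_one.mp hY1
  have hθX : θ ∉ X := fun h' => Finset.disjoint_left.mp h.disj h' (Finset.mem_singleton_self θ)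
  have hθY : θ ∈ ({θ} : Finset (IrrCharacter G)) := Finset.mem_singleton_self θ
  have hval : ∀ χ : IrrCharacter G, (χ : G → ℂ) 1 = (charDegree (χ : G → ℂ) : ℂ) :=
    fun χ => char_one_eq_deg (irr_isCharacter χ.2)
  have hnp1 : ¬ p ∣ orderOf (1 : G) := by rw [orderOf_one]; exact hp.not_dvd_one
  obtain ⟨y, hy⟩ : ∃ y : ↥(P : Subgroup G), y ∈ nonOne P := by
    have : Nontrivial ↥(P : Subgroup G) := by
      rw [← Finite.one_lt_card_iff_nontrivial, show Nat.card ↥(P : Subgroup G) = p from hP]
      exact hp.one_lt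
    obtain ⟨y, hy⟩ := exists_ne (1 : ↥(P : Subgroup G))
    exact ⟨y, mem_nonOne.mpr fun e1 => hy (Subtype.ext e1)⟩
  have hy1 : (y : G) ≠ 1 := mem_nonOne.mp hy
  have hyord : p ∣ orderOf (y : G) := by
    have h1 : orderOf (y : G) ∣ p := by
      rw [Subgroup.orderOf_coe]
      exact (_root_.orderOf_dvd_natCard y).trans (dvd_of_eq hP)
    rcases (Nat.dvd_prime hp).mp h1 with h2 | h2
    · exact absurd (orderOf_eq_one_iff.mp h2) hy1
    · rw [h2]
  -- the value of the exceptional character
  have hθval : (θ : G → ℂ) (y : G) = ((-δ : ℤ) : ℂ) := by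
    have h0 := weak_orthogonality hM (isPBlock_principalBlock M) hnp1 hyord
    rw [finsum_mem_irr] at h0
    have hset : (Finset.univ.filter fun χ : IrrCharacter G => χ ∈ principalBlock M G) =
        insert θ X := by
      ext χ
      simp only [Finset.mem_filter, Finset.mem_univ, true_and, h.mem_iff, Finset.mem_insert,
        Finset.mem_singleton]
      tauto
    rw [hset, Finset.sum_insert hθX,
      Finset.sum_congr rfl (g := fun χ => (a χ : ℂ) * (χ : G → ℂ) 1) fun χ hχ => by
        rw [h.a_val χ hχ y hy, map_intCast, mul_comm], ← h.rel θ hθY 1 hnp1] at h0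
    have h1 : (θ : G → ℂ) 1 * (conj ((θ : G → ℂ) (y : G)) + (δ : ℂ)) = 0 := by
      linear_combination h0
    have h2 : (θ : G → ℂ) 1 ≠ 0 := by
      rw [hval]; exact Nat.cast_ne_zero.mpr (deg_pos θ.2).ne'
    have h3 : conj ((θ : G → ℂ) (y : G)) = ((-δ : ℤ) : ℂ) := by
      push_cast
      linear_combination (mul_eq_zero.mp h1).resolve_left h2
    rw [← Complex.conj_conj ((θ : G → ℂ) (y : G)), h3, map_intCast]
  set w : IrrCharacter G → ℤ := fun χ => if χ = θ then -δ else a χ with hw
  set B := insert θ X with hBdef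
  have hwX : ∀ χ ∈ X, w χ = a χ := fun χ hχ => by
    simp only [hw]; rw [if_neg]; exact fun e1 => hθX (e1 ▸ hχ)
  have hwθ : w θ = -δ := by simp [hw]
  have hwval : ∀ χ ∈ B, (w χ = 1 ∨ w χ = -1) ∧ (χ : G → ℂ) (y : G) = (w χ : ℂ) ∧
      (charDegree (χ : G → ℂ) : ℤ) ≡ w χ [ZMOD p] ∧ χ ∈ principalBlock M G := by
    intro χ hχ
    rcases Finset.mem_insert.mp hχ with rfl | hχ
    · rw [hwθ]
      refine ⟨by rcases h.sign with e1 | e1 <;> simp [e1], hθval, ?_, (h.mem_iff _).mpr (Or.inr hθY)⟩
      refine (h.congrY _ hθY).trans (Int.modEq_iff_dvd.mpr ⟨-δ, ?_⟩)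
      rw [show (e : ℤ) = (p : ℤ) - 1 by omega]
      ring
    · rw [hwX χ hχ]
      exact ⟨h.a_sign χ hχ, h.a_val χ hχ y hy, h.a_congr χ hχ, (h.mem_iff χ).mpr (Or.inl hχ)⟩
  have hzero : ∑ χ ∈ B, w χ * (charDegree (χ : G → ℂ) : ℤ) = 0 := by
    rw [hBdef, Finset.sum_insert hθX, Finset.sum_congr rfl fun χ hχ => by rw [hwX χ hχ], hwθ]
    have h2 := h.rel θ hθY 1 hnp1
    simp only [hval] at h2
    have h2' : δ * (charDegree (θ : G → ℂ) : ℤ) =
        ∑ χ ∈ X, a χ * (charDegree (χ : G → ℂ) : ℤ) := by exact_mod_cast h2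
    rw [← h2']
    ring
  have hclass : Nat.card {x : G // IsConj (y : G) x} = n * e := by
    rw [← hn, card_conjClass_eq_index, ← centralizer_zpowers_eq,
      eq_zpowers_of_prime_sylow hP y.2 hy1, Sylow.card_eq_index_normalizer P, ← he, Nat.mul_comm]
    exact (Subgroup.relIndex_mul_index (Subgroup.centralizer_le_normalizer _)).symm
  have hdvd : ∀ χ ∈ B, charDegree (χ : G → ℂ) ∣ n * e := by
    intro χ hχ
    rw [← hclass]
    have h2 := omega_isIntegral χ.2 (y : G)
    rw [omega, (hwval χ hχ).2.1, hval] at h2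
    obtain ⟨z, hz⟩ := isIntegral_rat_cast_imp
      (q := (Nat.card {x : G // IsConj (y : G) x} : ℚ) * w χ / charDegree (χ : G → ℂ))
      (by push_cast; exact h2)
    have hd0 : (charDegree (χ : G → ℂ) : ℚ) ≠ 0 := Nat.cast_ne_zero.mpr (deg_pos χ.2).ne'
    have h3 : (Nat.card {x : G // IsConj (y : G) x} : ℤ) * w χ =
        z * charDegree (χ : G → ℂ) := by
      rw [eq_div_iff hd0] at hz
      exact_mod_cast hz.symm
    have h4 := congrArg Int.natAbs h3
    rw [Int.natAbs_mul, Int.natAbs_mul, Int.natAbs_natCast, Int.natAbs_natCast] at h4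
    refine ⟨z.natAbs, ?_⟩
    rw [Nat.mul_comm, ← h4]
    rcases (hwval χ hχ).1 with e1 | e1 <;> simp [e1]
  have hone : (oneChar : IrrCharacter G) ∈ B := by
    have h1 : (oneChar : IrrCharacter G) ∈ principalBlock M G :=
      sameBlock_refl (pmod_prime hM) (fun _ : G => (1 : ℂ))
    rcases (h.mem_iff _).mp h1 with h1 | h1
    · exact Finset.mem_insert_of_mem h1
    · rw [Finset.mem_singleton.mp h1]; exact Finset.mem_insert_self _ _
  have hw1 : w oneChar = 1 := by
    have h2 := (hwval _ hone).2.2.1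
    rw [charDegree_oneChar] at h2
    rcases (hwval _ hone).1 with e1 | e1
    · exact e1
    · exfalso
      rw [e1] at h2
      have h3 := Int.dvd_neg.mpr (Int.modEq_iff_dvd.mp h2)
      have := Int.le_of_dvd (by norm_num) h3
      omega
  set f : IrrCharacter G → ℤ := fun χ => w χ * (charDegree (χ : G → ℂ) : ℤ)
  have hf : ∀ χ ∈ B, (f χ).natAbs = charDegree (χ : G → ℂ) := fun χ hχ => by
    rcases (hwval χ hχ).1 with e1 | e1 <;> simp [f, e1]
  have hmem : ∀ χ ∈ B.erase oneChar, f χ ∈ cands N p n e (2 * p - 1) := by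
    intro χ hχ
    obtain ⟨hne, hχ⟩ := Finset.mem_erase.mp hχ
    obtain ⟨h1, h2, h3, h4⟩ := hwval χ hχ
    refine mem_cands ?_ ?_ (hdvd χ hχ) hN0 hp2 h1 h3
    · by_contra hlt
      exact hC (centralizer_sylow_isPGroup_of_small_degree hM (perfect hna) P χ h4
        (faithful hne (one_lt_degree hna hne).ne') (by omega))
    · rw [← hN]; exact deg_dvd_card χ.2
  have hsq : 1 + ∑ χ ∈ B.erase oneChar, (f χ).natAbs ^ 2 ≤ N := by
    have h1 : ∑ χ : IrrCharacter G, charDegree (χ : G → ℂ) ^ 2 = N := by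
      have := sum_sq_deg (G := G)
      simp only [hval] at this
      rw [← hN]
      exact_mod_cast this
    rw [← h1, Finset.sum_congr rfl fun χ hχ => by rw [hf χ (Finset.mem_of_mem_erase hχ)],
      ← Finset.add_sum_erase (Finset.univ : Finset (IrrCharacter G))
        (fun χ => charDegree (χ : G → ℂ) ^ 2) (Finset.mem_univ oneChar), charDegree_oneChar, one_pow]
    exact Nat.add_le_add_left (Finset.sum_le_sum_of_subset
      (Finset.erase_subset_erase _ (Finset.subset_univ _))) 1
  have hcard : (B.erase oneChar).card = e := by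
    rw [Finset.card_erase_of_mem hone, hBdef, Finset.card_insert_of_notMem hθX, h.cardX,
      Nat.add_sub_cancel]
  have h4 := search_sound _ e 0 1 (B.erase oneChar) hmem hcard hc hsq
  rw [decide_eq_true_eq] at h4
  refine h4 ?_
  rw [← Finset.add_sum_erase B _ hone, hw1, charDegree_oneChar] at hzero
  simp only [f]
  push_cast at hzero
  linarith

end Cfsg.Agent.Small.TopAutomiser
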