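import Cfsg.Agent.Lib.Small.TransvectionConj
import Mathlib.LinearAlgebra.Matrix.GeneralLinearGroup.Card

/-!
The order of the centralizer of a transvection in a general linear group.
-/

set_option autoImplicit false

namespace Cfsg.Agent.Small.TransvectionCent

open Matrix

variable {F : Type*} [Field F]

abbrev E (F : Type*) [Field F] (k : ℕ) := F × F × (Fin k → F)

/-- The nilpotent part of the standard transvection. -/
def N0 (k : ℕ) : E F k →ₗ[F] E F k :=
  (LinearMap.inl F F (F × (Fin k → F))).comp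
    ((LinearMap.fst F F (Fin k → F)).comp (LinearMap.snd F F (F × (Fin k → F))))

theorem N0_apply (k : ℕ) (z : E F k) : N0 k z = (z.2.1, 0, 0) := rfl

/-- The data of a map commuting with `N0`. -/
abbrev P (F : Type*) [Field F] (k : ℕ) :=
  Fˣ × F × (Fin k → F) × ((Fin k → F) →ₗ[F] F) × ((Fin k → F) ≃ₗ[F] (Fin k → F))

/-- The linear map with given data. -/
def mk {k : ℕ} (p : P F k) : E F k →ₗ[F] E F k where
  toFun z := ((p.1 : F) * z.1 + p.2.1 * z.2.1 + p.2.2.2.1 z.2.2, (p.1 : F) * z.2.1,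
    z.2.1 • p.2.2.1 + p.2.2.2.2 z.2.2)
  map_add' a b := by
    simp only [Prod.fst_add, Prod.snd_add, map_add, add_smul, Prod.mk_add_mk]
    refine Prod.ext ?_ (Prod.ext ?_ ?_) <;> simp only <;> first | ring | abel
  map_smul' c a := by
    simp only [Prod.smul_fst, Prod.smul_snd, map_smul, RingHom.id_apply, Prod.smul_mk, smul_eq_mul, smul_add,
      smul_smul]
    refine Prod.ext ?_ (Prod.ext ?_ ?_) <;> simp only <;> ring

theorem mk_apply {k : ℕ} (p : P F k) (z : E F k) :
    mk p z = ((p.1 : F) * z.1 + p.2.1 * z.2.1 + p.2.2.2.1 z.2.2, (p.1 : F) * z.2.1,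
      z.2.1 • p.2.2.1 + p.2.2.2.2 z.2.2) := rfl

theorem mk_injective {k : ℕ} (p : P F k) : Function.Injective (mk p) := by
  rw [← LinearMap.ker_eq_bot, eq_bot_iff]
  rintro ⟨x, y, w⟩ hz
  rw [LinearMap.mem_ker, mk_apply, Prod.mk_eq_zero, Prod.mk_eq_zero] at hz
  obtain ⟨h1, h2, h3⟩ := hz
  simp only at h1 h2 h3
  have hy : y = 0 := (mul_eq_zero.1 h2).resolve_left p.1.ne_zero
  subst hy
  rw [zero_smul, zero_add] at h3
  have hw : w = 0 := (LinearEquiv.map_eq_zero_iff _).1 h3
  subst hw
  rw [map_zero, mul_zero, add_zero, add_zero] at h1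
  rw [Submodule.mem_bot, (mul_eq_zero.1 h1).resolve_left p.1.ne_zero]
  rfl

/-- The automorphism with given data. -/
noncomputable def mkEquiv {k : ℕ} (p : P F k) :
    {g : E F k ≃ₗ[F] E F k // ∀ z, g (N0 k z) = N0 k (g z)} :=
  ⟨LinearMap.linearEquivOfInjective (mk p) (mk_injective p) rfl, fun z => by
    simp [LinearMap.linearEquivOfInjective_apply, mk_apply, N0_apply]⟩

theorem mkEquiv_bijective {k : ℕ} : Function.Bijective (mkEquiv (F := F) (k := k)) := by
  constructor
  · intro p p' h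
    have hz : ∀ z, mk p z = mk p' z := fun z => by
      have := LinearEquiv.congr_fun (congrArg Subtype.val h) z
      simpa [mkEquiv, LinearMap.linearEquivOfInjective_apply] using this
    have h2 := hz (0, 1, 0)
    simp only [mk_apply, map_zero, mul_zero, mul_one, zero_add, add_zero, one_smul, Prod.mk.injEq] at h2
    obtain ⟨hx, hu, hw⟩ := h2
    have h3 : ∀ w, p.2.2.2.1 w = p'.2.2.2.1 w ∧ p.2.2.2.2 w = p'.2.2.2.2 w := fun w => by
      have h3 := hz (0, 0, w)
      simp only [mk_apply, mul_zero, zero_add, zero_smul, Prod.mk.injEq, true_and] at h3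
      exact h3
    exact Prod.ext (Units.ext hu) (Prod.ext hx (Prod.ext hw
      (Prod.ext (LinearMap.ext fun w => (h3 w).1) (LinearEquiv.ext fun w => (h3 w).2))))
  · rintro ⟨g, hg⟩
    obtain ⟨u, hu⟩ : ∃ u, u = (g (0, 1, 0)).2.1 := ⟨_, rfl⟩
    have ha : g (1, 0, 0) = (u, 0, 0) := by
      have := hg (0, 1, 0)
      rwa [N0_apply, N0_apply, ← hu] at this
    have hu0 : u ≠ 0 := fun h => by
      rw [h] at ha
      have h0 : g ((1 : F), (0 : F), (0 : Fin k → F)) = 0 := ha
      rw [LinearEquiv.map_eq_zero_iff] at h0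
      exact one_ne_zero (congrArg Prod.fst h0)
    have hmid : ∀ w, (g (0, 0, w)).2.1 = 0 := fun w => by
      have := hg (0, 0, w)
      rw [N0_apply, N0_apply, show ((0 : F), (0 : F), (0 : Fin k → F)) = 0 from rfl, map_zero] at this
      exact (congrArg Prod.fst this).symm
    let incl : (Fin k → F) →ₗ[F] E F k := (LinearMap.inr F F _).comp (LinearMap.inr F F _)
    let lam : (Fin k → F) →ₗ[F] F := (LinearMap.fst F F _).comp (g.toLinearMap.comp incl)
    let A0 : (Fin k → F) →ₗ[F] (Fin k → F) :=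
      (LinearMap.snd F F _).comp ((LinearMap.snd F F _).comp (g.toLinearMap.comp incl))
    have hgw : ∀ w, g (0, 0, w) = (lam w, 0, A0 w) := fun w =>
      Prod.ext rfl (Prod.ext (hmid w) rfl)
    have hA : Function.Injective A0 := by
      rw [← LinearMap.ker_eq_bot, eq_bot_iff]
      intro w hw
      have : g (0, 0, w) = g ((lam w / u) • (1, 0, 0)) := by
        rw [map_smul, ha, hgw, LinearMap.mem_ker.1 hw]
        simp [div_mul_cancel₀ _ hu0]
      have := g.injective this
      rw [Submodule.mem_bot]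
      simpa using congrArg (fun z : E F k => z.2.2) this
    let A1 : (Fin k → F) ≃ₗ[F] (Fin k → F) := LinearMap.linearEquivOfInjective A0 hA rfl
    have hA1 : ∀ w, A1 w = A0 w := fun w => LinearMap.linearEquivOfInjective_apply (hf := hA) (hdim := rfl) w
    clear_value A1
    let p : P F k := (Units.mk0 u hu0, (g (0, 1, 0)).1, (g (0, 1, 0)).2.2, lam, A1)
    refine ⟨p, Subtype.ext (LinearEquiv.ext fun z => ?_)⟩
    obtain ⟨x, y, w⟩ := z
    have hdec : ((x, y, w) : E F k) = x • (1, 0, 0) + y • (0, 1, 0) + (0, 0, w) := by simp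
    show LinearMap.linearEquivOfInjective (mk p) (mk_injective p) rfl (x, y, w) = g (x, y, w)
    rw [LinearMap.linearEquivOfInjective_apply, mk_apply, hdec, map_add, map_add, map_smul, map_smul, ha, hgw]
    simp only [p, hA1, Units.val_mk0]
    refine Prod.ext ?_ (Prod.ext ?_ ?_) <;> simp [hu, mul_comm]

theorem card_P [Fintype F] (k : ℕ) :
    Nat.card (P F k) = (Fintype.card F - 1) * (Fintype.card F * (Fintype.card F ^ k *
      (Fintype.card F ^ k * ∏ i : Fin k, (Fintype.card F ^ k - Fintype.card F ^ (i : ℕ))))) := by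
  classical
  rw [Nat.card_prod, Nat.card_prod, Nat.card_prod, Nat.card_prod]
  have h1 : Nat.card Fˣ = Fintype.card F - 1 := by rw [Nat.card_eq_fintype_card, Fintype.card_units]
  have h2 : Nat.card (Fin k → F) = Fintype.card F ^ k := by simp [Nat.card_eq_fintype_card]
  have h3 : Nat.card ((Fin k → F) →ₗ[F] F) = Fintype.card F ^ k := by
    rw [Module.natCard_eq_pow_finrank (K := F), Module.finrank_linearMap, Module.finrank_self, mul_one,
      Module.finrank_fintype_fun_eq_card, Fintype.card_fin, Nat.card_eq_fintype_card]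
  have h4 : Nat.card ((Fin k → F) ≃ₗ[F] (Fin k → F)) =
      ∏ i : Fin k, (Fintype.card F ^ k - Fintype.card F ^ (i : ℕ)) := by
    rw [← Nat.card_congr (Matrix.GeneralLinearGroup.toLin.trans
      (LinearMap.GeneralLinearGroup.generalLinearEquiv F (Fin k → F))).toEquiv, Matrix.card_GL_field]
  rw [h1, h2, h3, h4, Nat.card_eq_fintype_card]

theorem card_centralizer [Fintype F] {n : ℕ} (t : GL (Fin n) F)
    (ht : Cfsg.IsTransvection (t : Matrix (Fin n) (Fin n) F)) :
    Nat.card ↥(Subgroup.centralizer ({t} : Set (GL (Fin n) F))) =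
      Fintype.card F ^ (2 * n - 3) * (Fintype.card F - 1) *
        ∏ i : Fin (n - 2), (Fintype.card F ^ (n - 2) - Fintype.card F ^ (i : ℕ)) := by
  obtain ⟨hr, hsq⟩ := ht
  obtain ⟨N, hN⟩ : ∃ N : Module.End F (Fin n → F), N = Matrix.toLin' ((t : Matrix (Fin n) (Fin n) F) - 1) :=
    ⟨_, rfl⟩
  have hN1 : Module.finrank F (LinearMap.range N) = 1 := hN ▸ hr
  have hN2 : N * N = 0 := by
    rw [hN, Module.End.mul_eq_comp, ← Matrix.toLin'_mul, hsq, map_zero]
  obtain ⟨a, b, W, ψ, hψ, hNψ, hdim⟩ := TransvectionConj.exists_frame N hN1 hN2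
  rw [Module.finrank_fintype_fun_eq_card, Fintype.card_fin] at hdim
  have hk : Module.finrank F W = n - 2 := by omega
  let bW := (Module.finBasisOfFinrankEq F W hk).equivFun
  let Φ : E F (n - 2) ≃ₗ[F] (Fin n → F) :=
    ((LinearEquiv.refl F F).prodCongr ((LinearEquiv.refl F F).prodCongr bW.symm)).trans ψ
  have hΦ : ∀ z, N (Φ z) = Φ (N0 (n - 2) z) := by
    intro z
    show N (ψ _) = ψ _
    rw [hNψ, hψ]
    simp [N0_apply]
  let e : GL (Fin n) F ≃ (E F (n - 2) ≃ₗ[F] E F (n - 2)) :=
    (Matrix.GeneralLinearGroup.toLin.trans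
      (LinearMap.GeneralLinearGroup.generalLinearEquiv F (Fin n → F))).toEquiv.trans
      { toFun := fun f => (Φ.trans f).trans Φ.symm
        invFun := fun f => (Φ.symm.trans f).trans Φ
        left_inv := fun f => by ext; simp
        right_inv := fun f => by ext <;> simp }
  have he : ∀ (g : GL (Fin n) F) z, Φ (e g z) = (g : Matrix (Fin n) (Fin n) F) *ᵥ Φ z := by
    intro g z
    exact Φ.apply_symm_apply _
  have hiff : ∀ g : GL (Fin n) F,
      g ∈ Subgroup.centralizer ({t} : Set (GL (Fin n) F)) ↔ ∀ z, e g (N0 (n - 2) z) = N0 (n - 2) (e g z) := by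
    intro g
    have hNm : ∀ v, N v = (t : Matrix (Fin n) (Fin n) F) *ᵥ v - v := fun v => by
      rw [hN, Matrix.toLin'_apply, Matrix.sub_mulVec, Matrix.one_mulVec]
    rw [Subgroup.mem_centralizer_singleton_iff]
    constructor
    · intro h z
      apply Φ.injective
      rw [he, ← hΦ, ← hΦ, he, hNm, hNm, Matrix.mulVec_sub, Matrix.mulVec_mulVec, Matrix.mulVec_mulVec,
        ← Units.val_mul, ← Units.val_mul, h]
    · intro h
      refine Units.ext (Matrix.ext_iff_mulVec.2 fun v => ?_)
      obtain ⟨z, rfl⟩ := Φ.surjective v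
      have := congrArg Φ (h z)
      rw [he, ← hΦ, ← hΦ, he, hNm, hNm, Matrix.mulVec_sub, sub_left_inj] at this
      rw [Units.val_mul, Units.val_mul, ← Matrix.mulVec_mulVec, ← Matrix.mulVec_mulVec]
      exact this
  rw [Nat.card_congr (Equiv.subtypeEquiv e hiff :
      ↥(Subgroup.centralizer ({t} : Set (GL (Fin n) F))) ≃
        {g : E F (n - 2) ≃ₗ[F] E F (n - 2) // ∀ z, g (N0 (n - 2) z) = N0 (n - 2) (g z)}),
    ← Nat.card_congr (Equiv.ofBijective _ (mkEquiv_bijective (F := F) (k := n - 2))), card_P]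
  rw [show 2 * n - 3 = 1 + (n - 2) + (n - 2) by omega, pow_add, pow_add, pow_one]
  ring

end Cfsg.Agent.Small.TransvectionCent
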