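import Mathlib
import Cfsg.Prelude.Def_ClassicalGeometry
import Cfsg.Agent.Lib.Small.LinearTricks

/-!
Any two transvections of `SL_n(F)`, `n ≥ 3`, are conjugate.
-/

set_option autoImplicit false

namespace Cfsg.Agent.Small.TransvectionConj

open Matrix

variable {F V : Type*} [Field F] [AddCommGroup V] [Module F V] [FiniteDimensional F V]

theorem exists_frame (N : Module.End F V) (h1 : Module.finrank F (LinearMap.range N) = 1) (h2 : N * N = 0) :
    ∃ (a b : V) (W : Submodule F V) (ψ : (F × F × W) ≃ₗ[F] V),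
      (∀ z, ψ z = z.1 • a + z.2.1 • b + (z.2.2 : V)) ∧ (∀ z, N (ψ z) = z.2.1 • a) ∧
      Module.finrank F W + 2 = Module.finrank F V := by
  obtain ⟨b, hb⟩ : ∃ b, N b ≠ 0 := by
    by_contra h
    push Not at h
    have : N = 0 := LinearMap.ext h
    rw [this, LinearMap.range_zero, finrank_bot] at h1
    omega
  obtain ⟨a, ha⟩ : ∃ a, a = N b := ⟨_, rfl⟩
  have hNa : N a = 0 := by rw [ha, ← Module.End.mul_apply, h2, LinearMap.zero_apply]
  obtain ⟨W₀, hW₀⟩ := (Submodule.comap (LinearMap.ker N).subtype (F ∙ a)).exists_isCompl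
  obtain ⟨W, hW⟩ : ∃ W, W = W₀.map (LinearMap.ker N).subtype := ⟨_, rfl⟩
  have hWk : W ≤ LinearMap.ker N := hW ▸ Submodule.map_subtype_le _ _
  have ha0 : a ≠ 0 := ha ▸ hb
  have hdim : Module.finrank F W + 2 = Module.finrank F V := by
    have e1 := N.finrank_range_add_finrank_ker
    have e2 := Submodule.finrank_add_eq_of_isCompl hW₀
    have e3 : Module.finrank F (Submodule.comap (LinearMap.ker N).subtype (F ∙ a)) = 1 := by
      rw [(Submodule.comapSubtypeEquivOfLe ((Submodule.span_singleton_le_iff_mem a (LinearMap.ker N)).mpr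
        (LinearMap.mem_ker.mpr hNa))).finrank_eq, finrank_span_singleton ha0]
    have e4 : Module.finrank F W = Module.finrank F W₀ := by
      rw [hW]; exact Submodule.finrank_map_subtype_eq _ _
    omega
  let l : (F × F × W) →ₗ[F] V :=
    (LinearMap.toSpanSingleton F V a).coprod ((LinearMap.toSpanSingleton F V b).coprod W.subtype)
  have hl : ∀ z, l z = z.1 • a + z.2.1 • b + (z.2.2 : V) := fun z => by simp [l, add_assoc]
  have hNl : ∀ z, N (l z) = z.2.1 • a := fun z => by
    rw [hl, map_add, map_add, map_smul, map_smul, hNa, ← ha, LinearMap.mem_ker.mp (hWk z.2.2.2)]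
    simp
  have hinj : Function.Injective l := by
    rw [← LinearMap.ker_eq_bot, eq_bot_iff]
    rintro ⟨x, y, w⟩ hz
    rw [LinearMap.mem_ker] at hz
    have hy : y = 0 := by
      have := hNl (x, y, w)
      rw [hz, map_zero] at this
      exact (smul_eq_zero.mp this.symm).resolve_right ha0
    subst hy
    rw [hl] at hz
    simp only [zero_smul, add_zero] at hz
    have hwmem : (w : V) ∈ (F ∙ a) := by
      rw [← neg_eq_of_add_eq_zero_right hz]
      exact neg_mem (Submodule.smul_mem _ x (Submodule.mem_span_singleton_self a))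
    obtain ⟨w₀, hw₀, hwe⟩ : (w : V) ∈ W₀.map (LinearMap.ker N).subtype := hW ▸ w.2
    have hw0 : w₀ = 0 := by
      have : w₀ ∈ Submodule.comap (LinearMap.ker N).subtype (F ∙ a) ⊓ W₀ :=
        ⟨by rw [SetLike.mem_coe, Submodule.mem_comap, hwe]; exact hwmem, hw₀⟩
      rwa [hW₀.inf_eq_bot, Submodule.mem_bot] at this
    have hwz : (w : V) = 0 := by rw [← hwe, hw0, map_zero]
    rw [hwz, add_zero] at hz
    have hx : x = 0 := (smul_eq_zero.mp hz).resolve_right ha0
    rw [Submodule.mem_bot]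
    exact Prod.ext hx (Prod.ext rfl (Subtype.ext hwz))
  have hrank : Module.finrank F (F × F × W) = Module.finrank F V := by
    rw [Module.finrank_prod, Module.finrank_prod, Module.finrank_self]
    omega
  exact ⟨a, b, W, LinearMap.linearEquivOfInjective l hinj hrank, hl, hNl, hdim⟩

theorem exists_conj (hn : 3 ≤ Module.finrank F V) (S T : Module.End F V)
    (hS : Module.finrank F (LinearMap.range S) = 1) (hS2 : S * S = 0)
    (hT : Module.finrank F (LinearMap.range T) = 1) (hT2 : T * T = 0) :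
    ∃ g : V ≃ₗ[F] V, LinearEquiv.det g = 1 ∧ ∀ v, g (S v) = T (g v) := by
  obtain ⟨a, b, W, ψ, hψ, hSψ, hd⟩ := exists_frame S hS hS2
  obtain ⟨a', b', W', ψ', hψ', hTψ', hd'⟩ := exists_frame T hT hT2
  obtain ⟨h₀⟩ := FiniteDimensional.nonempty_linearEquiv_of_finrank_eq
    (show Module.finrank F W = Module.finrank F W' by omega)
  have : Nontrivial W := Module.nontrivial_of_finrank_pos (R := F) (by omega)
  let lift : (W ≃ₗ[F] W) → (V ≃ₗ[F] V) := fun α =>
    ψ.symm.trans (((LinearEquiv.refl F F).prodCongr ((LinearEquiv.refl F F).prodCongr α)).trans ψ)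
  let g₀ : V ≃ₗ[F] V :=
    ψ.symm.trans (((LinearEquiv.refl F F).prodCongr ((LinearEquiv.refl F F).prodCongr h₀)).trans ψ')
  obtain ⟨α, hα⟩ := Small.LinTricks.exists_equiv_det (U := W) (LinearEquiv.det g₀)⁻¹
  have hdet : LinearEquiv.det (lift α) = LinearEquiv.det α := by
    refine Units.ext ?_
    rw [LinearEquiv.coe_det, LinearEquiv.coe_det]
    have h1 : ((lift α : V ≃ₗ[F] V) : V →ₗ[F] V) = ψ.toLinearMap ∘ₗ
        ((LinearMap.id : F →ₗ[F] F).prodMap ((LinearMap.id : F →ₗ[F] F).prodMap (α : W →ₗ[F] W))) ∘ₗ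
        ψ.symm.toLinearMap := LinearMap.ext fun x => rfl
    rw [h1, LinearMap.det_conj, LinearMap.det_prodMap, LinearMap.det_prodMap, LinearMap.det_id, one_mul, one_mul]
  refine ⟨(lift α).trans g₀, ?_, fun v => ?_⟩
  · rw [LinearEquiv.det_trans, hdet, hα, mul_inv_cancel]
  · obtain ⟨z, rfl⟩ := ψ.surjective v
    have h1 : ((lift α).trans g₀) (ψ z) = ψ' (z.1, z.2.1, h₀ (α z.2.2)) := by simp [lift, g₀]
    have h2 : S (ψ z) = ψ (z.2.1, 0, 0) := by
      rw [hSψ, hψ]
      simp
    have h3 : ((lift α).trans g₀) (ψ (z.2.1, 0, 0)) = ψ' (z.2.1, 0, 0) := by simp [lift, g₀]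
    rw [h2, h3, h1, hTψ', hψ']
    simp

theorem isConj_transvection {F : Type*} [Field F] {n : ℕ} (hn : 3 ≤ n)
    (s t : Matrix.SpecialLinearGroup (Fin n) F) (hs : Cfsg.IsTransvection (s : Matrix (Fin n) (Fin n) F))
    (ht : Cfsg.IsTransvection (t : Matrix (Fin n) (Fin n) F)) : IsConj s t := by
  have hsq : ∀ M : Matrix (Fin n) (Fin n) F, M * M = 0 → (Matrix.toLin' M * Matrix.toLin' M : Module.End F _) = 0 :=
    fun M hM => by rw [Module.End.mul_eq_comp, ← Matrix.toLin'_mul, hM, map_zero]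
  obtain ⟨g, hg, hgc⟩ := exists_conj (F := F) (V := Fin n → F) (by simpa using hn)
    (Matrix.toLin' ((s : Matrix (Fin n) (Fin n) F) - 1)) (Matrix.toLin' ((t : Matrix (Fin n) (Fin n) F) - 1))
    (by rw [Matrix.toLin'_apply']; exact hs.1) (hsq _ hs.2) (by rw [Matrix.toLin'_apply']; exact ht.1) (hsq _ ht.2)
  obtain ⟨M, hM⟩ : ∃ M, M = LinearMap.toMatrix' (g : (Fin n → F) →ₗ[F] (Fin n → F)) := ⟨_, rfl⟩
  have hdet : M.det = 1 := by
    rw [hM, LinearMap.det_toMatrix', ← LinearEquiv.coe_det, hg, Units.val_one]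
  obtain ⟨C, hC⟩ : ∃ C : Matrix.SpecialLinearGroup (Fin n) F, (C : Matrix (Fin n) (Fin n) F) = M :=
    ⟨⟨M, hdet⟩, rfl⟩
  refine isConj_iff.mpr ⟨C, mul_inv_eq_iff_eq_mul.mpr ?_⟩
  subst hC
  apply Subtype.ext
  show (C : Matrix (Fin n) (Fin n) F) * (s : Matrix (Fin n) (Fin n) F) = (t : Matrix (Fin n) (Fin n) F) * C
  have : (C : Matrix (Fin n) (Fin n) F) * ((s : Matrix (Fin n) (Fin n) F) - 1) = ((t : Matrix (Fin n) (Fin n) F) - 1) * C := by
    apply Matrix.toLin'.injective
    rw [Matrix.toLin'_mul, Matrix.toLin'_mul, hM, Matrix.toLin'_toMatrix']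
    exact LinearMap.ext fun v => hgc v
  rw [Matrix.mul_sub, Matrix.sub_mul, Matrix.mul_one, Matrix.one_mul] at this
  exact sub_left_inj.mp this

end Cfsg.Agent.Small.TransvectionConj
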