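import Mathlib
import Cfsg.Agent.Lib.Solv.Kulakoff

/-!
# Odd `p`-groups of automorphisms of `q`-groups covered by two fixed-point groups

If a `p`-group `P` (`p` odd) acts on a `q`-group `R` and, for generating sets `C`, `D` of `P`, every
element of `R` is a product of a fixed point of `d` and a fixed point of `c`, then the action is trivial.
-/

set_option autoImplicit false

namespace Cfsg.Agent.Small.TwoFixedSpaces

universe u v

/-- Irreducible faithful case. -/
theorem irreducible_case {R : Type v} [Group R] [Finite R] {p q : ℕ} [hp : Fact p.Prime] (hp2 : p ≠ 2)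
    (hq : q.Prime) (hpq : p ≠ q) (hcomm : ∀ a b : R, a * b = b * a) (hR : IsPGroup q R) [Nontrivial R]
    (P : Subgroup (MulAut R)) (hP : IsPGroup p P)
    (hirr : ∀ W : Subgroup R, (∀ g ∈ P, ∀ w ∈ W, (g : MulAut R) w ∈ W) → W = ⊥ ∨ W = ⊤)
    (C D : Set P) (hC : Subgroup.closure C = ⊤) (hD : Subgroup.closure D = ⊤)
    (hfac : ∀ c ∈ C, ∀ d ∈ D, ∀ x : R, ∃ v w : R, (d : MulAut R) v = v ∧ (c : MulAut R) w = w ∧ v * w = x) :
    P = ⊥ := by
  classical
  haveI : Fact q.Prime := ⟨hq⟩
  letI : CommGroup R := { ‹Group R› with mul_comm := hcomm }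
  haveI : Finite (MulAut R) := Finite.of_injective (fun e : MulAut R => (e : R → R))
    (fun a b h => MulEquiv.ext fun x => congrFun h x)
  by_contra hne
  haveI := (Subgroup.nontrivial_iff_ne_bot P).mpr hne
  have hpR : ∀ r : R, r ^ p = 1 → r = 1 := by
    intro r hr
    obtain ⟨k, hk⟩ := IsPGroup.iff_orderOf.1 hR r
    rw [← orderOf_eq_one_iff, hk]
    have h := orderOf_dvd_of_pow_eq_one hr
    rw [hk] at h
    rcases Nat.eq_zero_or_pos k with rfl | hk0
    · simp
    · exact absurd ((Nat.prime_dvd_prime_iff_eq hq hp.out).mp ((dvd_pow_self q hk0.ne').trans h)) (Ne.symm hpq)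
  have hcard : 1 < Nat.card R := Finite.one_lt_card
  -- the fixed points of one automorphism
  let Fix : MulAut R → Subgroup R := fun a =>
    { carrier := {r | a r = r}
      one_mem' := map_one a
      mul_mem' := fun {x y} hx hy => by
        show a (x * y) = x * y
        rw [map_mul, hx, hy]
      inv_mem' := fun {x} hx => by
        show a x⁻¹ = x⁻¹
        rw [map_inv, hx] }
  have hFix : ∀ a r, r ∈ Fix a ↔ a r = r := fun a r => Iff.rfl
  have hfixpow : ∀ (a : P) (r : R), (a : MulAut R) r = r → ∀ j : ℕ, ((a ^ j : P) : MulAut R) r = r := by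
    intro a r ha j
    induction j with
    | zero => simp
    | succ j ih =>
      rw [pow_succ']
      show ((a : MulAut R) * ((a ^ j : P) : MulAut R)) r = r
      rw [MulAut.mul_apply, ih, ha]
  have hfpf : ∀ a ∈ P, a ≠ 1 → (∀ g ∈ P, Commute g a) → Fix a = ⊥ := by
    intro a _ ha1 hac
    rcases hirr (Fix a) (fun g hg w hw => by
      rw [hFix] at hw ⊢
      rw [← MulAut.mul_apply, ← (hac g hg).eq, MulAut.mul_apply, hw]) with h | h
    · exact h
    · exact absurd (MulEquiv.ext fun r => (hFix a r).1 (h ▸ Subgroup.mem_top r)) ha1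
  have exC : ∀ S : Set P, Subgroup.closure S = ⊤ → ∀ K : Subgroup P, K ≠ ⊤ → ∃ c ∈ S, c ∉ K := by
    intro S hS K hK
    by_contra h
    push Not at h
    exact hK (top_le_iff.1 (hS ▸ (Subgroup.closure_le K).2 h))
  by_cases hall : ∀ a : P, a ≠ 1 → Fix (a : MulAut R) = ⊥
  · obtain ⟨c, hc, hc1⟩ := exC C hC ⊥ (bot_ne_top)
    obtain ⟨d, hd, hd1⟩ := exC D hD ⊥ (bot_ne_top)
    rw [Subgroup.mem_bot] at hc1 hd1
    obtain ⟨x, hx⟩ := exists_ne (1 : R)
    obtain ⟨v, w, hv, hw, rfl⟩ := hfac c hc d hd x
    have hv1 : v ∈ Fix (d : MulAut R) := hv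
    have hw1 : w ∈ Fix (c : MulAut R) := hw
    rw [hall d hd1, Subgroup.mem_bot] at hv1
    rw [hall c hc1, Subgroup.mem_bot] at hw1
    exact hx (by rw [hv1, hw1, mul_one])
  push Not at hall
  obtain ⟨a₀, ha₀, hfa₀⟩ := hall
  have hnc : ¬ IsCyclic P := by
    intro hcy
    exact hfa₀ (hfpf _ a₀.2 (fun h => ha₀ (Subtype.ext h)) fun g hg => by
      letI : CommGroup P := IsCyclic.commGroup
      exact congrArg Subtype.val (mul_comm (⟨g, hg⟩ : P) a₀))
  obtain ⟨E, hEn, hEe, hEcard⟩ := Cfsg.Agent.Solv.exists_normal_elementary_sq hp2 hP hnc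
  haveI := hEn
  have hEne : E ≠ ⊥ := by
    intro h; rw [h, Subgroup.card_bot] at hEcard
    exact (Nat.one_lt_pow two_ne_zero hp.out.one_lt).ne hEcard
  obtain ⟨z, hzE, hzc, hzo⟩ := Cfsg.Agent.Solv.exists_central_order hP E hEne
  have hz1 : (z : MulAut R) ≠ 1 := fun h => by
    rw [show z = 1 from Subtype.ext h, orderOf_one] at hzo
    exact hp.out.one_lt.ne hzo
  have hcomm' : ∀ {a : P}, a ∈ Subgroup.center P → ∀ g ∈ P, Commute g (a : MulAut R) := fun {a} ha g hg =>
    congrArg Subtype.val (Subgroup.mem_center_iff.1 ha ⟨g, hg⟩)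
  have hzfpf : ∀ k : ℕ, ¬ p ∣ k → Fix ((z ^ k : P) : MulAut R) = ⊥ := by
    intro k hk
    refine hfpf _ (z ^ k).2 (fun h => hk ?_) (hcomm' (Subgroup.pow_mem _ hzc k))
    rw [← hzo]
    exact orderOf_dvd_of_pow_eq_one (Subtype.ext h)
  obtain ⟨y, hyE, hyz⟩ : ∃ y ∈ E, y ∉ Subgroup.zpowers z := by
    by_contra h
    push Not at h
    have := Subgroup.card_le_of_le (K := Subgroup.zpowers z) h
    rw [hEcard, Nat.card_zpowers, hzo, pow_two] at this
    nlinarith [hp.out.one_lt]
  have hEcomm : ∀ a ∈ E, ∀ b ∈ E, Commute a b := fun a ha b hb => by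
    haveI := hEe.1
    exact congrArg Subtype.val (mul_comm' (⟨a, ha⟩ : E) ⟨b, hb⟩)
  -- one of the other subgroups of order p has non-trivial fixed points
  let avg : P → R → R := fun e r => ∏ j ∈ Finset.range p, ((e ^ j : P) : MulAut R) r
  have havg : ∀ e : P, e ^ p = 1 → ∀ r, avg e r ∈ Fix (e : MulAut R) := by
    intro e he r
    rw [hFix]
    simp only [avg, map_prod, ← MulAut.mul_apply, ← Subgroup.coe_mul, ← pow_succ']
    have h1 := Finset.prod_range_succ' (fun j => ((e ^ j : P) : MulAut R) r) p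
    rw [Finset.prod_range_succ, he, pow_zero] at h1
    exact (mul_right_cancel h1).symm
  have hzz : ∀ i, (y * z ^ i) ^ p = 1 := fun i => hEe.2 _ (E.mul_mem hyE (E.pow_mem hzE i))
  have havgz : ∀ k, ¬ p ∣ k → ∀ r, avg (z ^ k) r = 1 := fun k hk r => by
    have h := havg (z ^ k) (by rw [← pow_mul, mul_comm, pow_mul, ← hzo, pow_orderOf_eq_one, one_pow]) r
    rwa [hzfpf k hk, Subgroup.mem_bot] at h
  have hident : ∀ r, ∏ i ∈ Finset.range p, avg (y * z ^ i) r = r ^ p := by
    intro r
    rw [Finset.prod_comm]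
    rw [Finset.prod_eq_single_of_mem 0 (Finset.mem_range.2 hp.out.pos)]
    · simp
    · intro j hj hj0
      have hjp : ¬ p ∣ j := fun h => hj0 (Nat.eq_zero_of_dvd_of_lt h (Finset.mem_range.1 hj))
      have e : ∀ i, (((y * z ^ i) ^ j : P) : MulAut R) r =
          ((y ^ j : P) : MulAut R) ((((z ^ j) ^ i : P) : MulAut R) r) := fun i => by
        rw [(hEcomm y hyE _ (E.pow_mem hzE i)).mul_pow, ← pow_mul, mul_comm i, pow_mul, Subgroup.coe_mul,
          MulAut.mul_apply]
      simp only [e, ← map_prod]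
      rw [show ∏ i ∈ Finset.range p, (((z ^ j) ^ i : P) : MulAut R) r = avg (z ^ j) r from rfl, havgz j hjp,
        map_one]
  obtain ⟨i₀, -, hi₀⟩ : ∃ i ∈ Finset.range p, Fix ((y * z ^ i : P) : MulAut R) ≠ ⊥ := by
    by_contra h
    push Not at h
    obtain ⟨x, hx⟩ := exists_ne (1 : R)
    refine hx (hpR x ?_)
    rw [← hident x]
    refine Finset.prod_eq_one fun i hi => ?_
    have := havg _ (hzz i) x
    rwa [h i hi, Subgroup.mem_bot] at this
  set h := y * z ^ i₀ with hh
  have hhE : h ∈ E := E.mul_mem hyE (E.pow_mem hzE i₀)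
  have hhz : h ∉ Subgroup.zpowers z := fun h' => hyz (by
    have := Subgroup.mul_mem _ h' (Subgroup.inv_mem _ (Subgroup.pow_mem _ (Subgroup.mem_zpowers z) i₀))
    rwa [hh, mul_inv_cancel_right] at this)
  -- conjugation moves `h` along its coset
  let zz : ZMod p → P := fun k => z ^ k.val
  have hzmod : ∀ n, z ^ (n % p) = z ^ n := fun n =>
    (pow_eq_pow_mod n (hzo ▸ pow_orderOf_eq_one z)).symm
  have hzz_add : ∀ a b, zz (a + b) = zz a * zz b := fun a b => by
    simp only [zz, ← pow_add, ZMod.val_add, hzmod]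
  have hzz_inj : ∀ a, zz a = 1 → a = 0 := fun a ha => by
    have h1 := orderOf_dvd_of_pow_eq_one ha
    rw [hzo] at h1
    exact (ZMod.val_eq_zero a).1 (Nat.eq_zero_of_dvd_of_lt h1 a.val_lt)
  have hkex : ∀ g : P, ∃ k : ZMod p, g * h * g⁻¹ = h * zz k := by
    haveI : (Subgroup.zpowers z).Normal :=
      Cfsg.Agent.Solv.normal_of_le_center' (Subgroup.zpowers_le.2 hzc)
    let f := QuotientGroup.mk' (Subgroup.zpowers z)
    haveI : (E.map f).Normal := hEn.map f (QuotientGroup.mk'_surjective _)
    have hfh : f h ≠ 1 := fun h1 => hhz ((QuotientGroup.eq_one_iff h).1 h1)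
    have hEb : E.map f ≠ ⊥ := fun hb => hfh (Subgroup.mem_bot.1 (hb ▸ Subgroup.mem_map_of_mem f hhE))
    obtain ⟨w, hw, hwc, hwo⟩ := Cfsg.Agent.Solv.exists_central_order (hP.to_quotient _) (E.map f) hEb
    have hcardmap : Nat.card (E.map f) = p := by
      have e := Subgroup.card_eq_card_quotient_mul_card_subgroup (f.comp E.subtype).ker
      rw [Nat.card_congr (QuotientGroup.quotientKerEquivRange _).toEquiv, hEcard] at e
      have hr : (f.comp E.subtype).range = E.map f := by rw [MonoidHom.range_comp, Subgroup.range_subtype]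
      have hk : (f.comp E.subtype).ker = (Subgroup.zpowers z).subgroupOf E := by
        ext x; simp [f, Subgroup.mem_subgroupOf]
      rw [hr, hk, Nat.card_congr (Subgroup.subgroupOfEquivOfLe (Subgroup.zpowers_le.2 hzE)).toEquiv,
        Nat.card_zpowers, hzo, pow_two] at e
      exact (Nat.eq_of_mul_eq_mul_right hp.out.pos e).symm
    have hEeq : E.map f = Subgroup.zpowers w := (Subgroup.eq_of_le_of_card_ge (Subgroup.zpowers_le.2 hw)
      (by rw [hcardmap, Nat.card_zpowers, hwo])).symm
    have hcen : f h ∈ Subgroup.center _ :=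
      (hEeq ▸ Subgroup.zpowers_le.2 hwc : E.map f ≤ _) (Subgroup.mem_map_of_mem f hhE)
    intro g
    have h1 : h⁻¹ * (g * h * g⁻¹) ∈ Subgroup.zpowers z := by
      rw [← QuotientGroup.eq_one_iff]
      show f (h⁻¹ * (g * h * g⁻¹)) = 1
      rw [map_mul, map_mul, map_mul, Subgroup.mem_center_iff.1 hcen (f g), mul_assoc (f h), ← map_mul f g,
        mul_inv_cancel, map_one, mul_one, map_inv, inv_mul_cancel]
    obtain ⟨n, hnz⟩ := ((isOfFinOrder_of_finite z).mem_powers_iff_mem_zpowers.2 h1)
    refine ⟨(n : ZMod p), ?_⟩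
    simp only [zz, ZMod.val_natCast, hzmod]
    rw [show z ^ n = _ from hnz, mul_inv_cancel_left]
  choose k hk using hkex
  let e : ZMod p → P := fun i => h * zz i
  have heg : ∀ g i, g * e i = e (i + k g) * g := fun g i => by
    have hzg : Commute g (zz i) := Subgroup.mem_center_iff.1 (Subgroup.pow_mem _ hzc i.val) g
    simp only [e, zz] at hk ⊢
    rw [← mul_assoc, show g * h = h * z ^ (k g).val * g by rw [← hk, inv_mul_cancel_right]]
    show h * zz (k g) * g * zz i = h * zz (i + k g) * g
    rw [mul_assoc (h * zz (k g)), hzg.eq, ← mul_assoc, mul_assoc h, ← hzz_add, add_comm]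
  have hkmul : ∀ a b, k (a * b) = k a + k b := by
    intro a b
    have h1 : e (0 + k (a * b)) * (a * b) = e (0 + k b + k a) * (a * b) := by
      rw [← heg (a * b) 0, mul_assoc, heg b 0, ← mul_assoc, heg a, mul_assoc]
    have h2 := mul_right_cancel h1
    simp only [e, mul_right_inj, zero_add] at h2
    have h3 : zz (k (a * b) + -(k b + k a)) = 1 := by
      rw [hzz_add, h2, ← hzz_add, add_neg_cancel]; simp [zz]
    rw [← sub_eq_zero, sub_eq_add_neg, add_comm (k a)]
    exact hzz_inj _ h3
  let kh : P →* Multiplicative (ZMod p) :=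
    MonoidHom.mk' (fun g => Multiplicative.ofAdd (k g)) (fun a b => by rw [hkmul]; rfl)
  have hker : kh.ker ≠ ⊤ := by
    intro htop
    have hcen : h ∈ Subgroup.center P := Subgroup.mem_center_iff.2 fun g => by
      have hg : g ∈ kh.ker := htop ▸ Subgroup.mem_top g
      have h0 : k g = 0 := Multiplicative.ofAdd.injective (MonoidHom.mem_ker.1 hg)
      have := hk g
      rw [h0, show zz 0 = 1 by simp [zz], mul_one] at this
      exact mul_inv_eq_iff_eq_mul.1 this
    exact hi₀ (hfpf _ h.2 (fun h1 => hhz (by rw [show h = 1 from Subtype.ext h1]; exact Subgroup.one_mem _))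
      (hcomm' hcen))
  -- the projections on the fixed spaces
  let π : ZMod p → R → R := fun i r => avg (e i) r
  have heE : ∀ i, e i ∈ E := fun i => E.mul_mem hhE (E.pow_mem hzE _)
  have hπmem : ∀ i r, π i r ∈ Fix (e i : MulAut R) := fun i r => havg _ (hEe.2 _ (heE i)) r
  have hπconj : ∀ (g : P) i r, (g : MulAut R) (π i r) = π (i + k g) ((g : MulAut R) r) := by
    intro g i r
    simp only [π, avg, map_prod, ← MulAut.mul_apply, ← Subgroup.coe_mul]
    refine Finset.prod_congr rfl fun j _ => ?_
    have hj : g * e i ^ j = e (i + k g) ^ j * g :=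
      (SemiconjBy.pow_right (show SemiconjBy g (e i) (e (i + k g)) from heg g i) j).eq
    rw [hj]
  have hπfix : ∀ i r, r ∈ Fix (e i : MulAut R) → π i r = r ^ p := by
    intro i r hr
    simp only [π, avg]
    rw [Finset.prod_congr rfl (fun j _ => show ((e i ^ j : P) : MulAut R) r = r from ?_), Finset.prod_const,
      Finset.card_range]
    exact hfixpow _ _ hr j
  have hπne : ∀ i j, i ≠ j → ∀ r, r ∈ Fix (e j : MulAut R) → π i r = 1 := by
    intro i j hij r hr
    have hd : i - j ≠ 0 := sub_ne_zero.2 hij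
    have hei : e i = zz (i - j) * e j := by
      have hc : Commute (zz (i - j)) h := hEcomm _ (E.pow_mem hzE _) _ hhE
      show h * zz i = zz (i - j) * (h * zz j)
      rw [← mul_assoc (zz (i - j)) h, hc.eq, mul_assoc h, ← hzz_add, sub_add_cancel]
    have hval : ¬ p ∣ (i - j).val := fun h0 =>
      hd ((ZMod.val_eq_zero _).1 (Nat.eq_zero_of_dvd_of_lt h0 (ZMod.val_lt _)))
    rw [show π i r = avg (z ^ (i - j).val) r from Finset.prod_congr rfl fun l _ => ?_]
    · exact havgz _ hval r
    · rw [hei, (hEcomm _ (E.pow_mem hzE _) _ (heE j)).mul_pow, Subgroup.coe_mul, MulAut.mul_apply]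
      congr 1
      exact hfixpow _ _ hr l
  have he0 : e 0 = h := by simp [e, zz]
  set W := Fix ((h : P) : MulAut R) with hW
  have hWcard : 1 < Nat.card W := by
    haveI := (Subgroup.nontrivial_iff_ne_bot W).2 hi₀
    exact Finite.one_lt_card
  have hbound : ∀ c : P, c ∉ kh.ker → Nat.card (Fix (c : MulAut R)) ≤ Nat.card W ∧
      Nat.card W ^ p ≤ Nat.card R := by
    intro c hc
    have hkc : k c ≠ 0 := fun h0 => hc (MonoidHom.mem_ker.2 (by show Multiplicative.ofAdd (k c) = 1; rw [h0]; rfl))
    have hkpow : ∀ m : ℕ, k (c ^ m) = (m : ZMod p) * k c := by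
      intro m
      induction m with
      | zero =>
        have := hkmul 1 1
        rw [one_mul, left_eq_add] at this
        simpa using this
      | succ m ih => rw [pow_succ, hkmul, ih]; push_cast; ring
    have hsurj : ∀ i : ZMod p, ∃ m : ℕ, k (c ^ m) = i := fun i =>
      ⟨(i * (k c)⁻¹).val, by rw [hkpow, ZMod.natCast_val, ZMod.cast_id, mul_assoc, inv_mul_cancel₀ hkc, mul_one]⟩
    choose m hm using hsurj
    constructor
    · refine Nat.card_le_card_of_injective (fun r : Fix (c : MulAut R) => (⟨π 0 r, by have := hπmem 0 (r : R); rwa [he0] at this⟩ : W))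
        fun r s hrs => ?_
      have h0 : π 0 (r : R) = π 0 (s : R) := congrArg Subtype.val hrs
      have hall : ∀ i, π i (r : R) = π i (s : R) := fun i => by
        have hfixm : ∀ t : Fix (c : MulAut R), ((c ^ m i : P) : MulAut R) (t : R) = t := fun t =>
          hfixpow _ _ t.2 _
        have er := hπconj (c ^ m i) 0 (r : R)
        have es := hπconj (c ^ m i) 0 (s : R)
        rw [zero_add, hm, hfixm] at er es
        rw [← er, ← es, h0]
      apply Subtype.ext
      have hp' : ((r : R) / (s : R)) ^ p = 1 := by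
        have e1 : ∀ t : R, ∏ i ∈ Finset.range p, avg (y * z ^ i) t = t ^ p := hident
        have e2 : ∀ i, avg (y * z ^ i) (r : R) = avg (y * z ^ i) (s : R) := fun i => by
          have hei : y * z ^ i = e ((i : ZMod p) - (i₀ : ZMod p)) := by
            simp only [e, hh]
            rw [mul_assoc]
            congr 1
            have e3 : zz (i : ZMod p) = z ^ i := by simp only [zz, ZMod.val_natCast, hzmod]
            have e4 : zz (i₀ : ZMod p) = z ^ i₀ := by simp only [zz, ZMod.val_natCast, hzmod]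
            rw [← e3, ← e4, ← hzz_add, add_sub_cancel]
          rw [hei]; exact hall _
        rw [div_pow, ← e1, ← e1, Finset.prod_congr rfl fun i _ => e2 i, div_self']
      exact div_eq_one.1 (hpR _ hp')
    · have hinj : Function.Injective (fun f : ZMod p → W => ∏ i, ((c ^ m i : P) : MulAut R) (f i : R)) := by
        intro f g hfg
        have key : ∀ f : ZMod p → W, ∀ i, π i (∏ l, ((c ^ m l : P) : MulAut R) (f l : R)) =
            ((c ^ m i : P) : MulAut R) (f i : R) ^ p := by
          intro f i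
          have hmem : ∀ l, ((c ^ m l : P) : MulAut R) (f l : R) ∈ Fix (e l : MulAut R) := fun l => by
            rw [hFix, ← MulAut.mul_apply, ← Subgroup.coe_mul]
            have h1 : e l * c ^ m l = c ^ m l * e 0 := by rw [heg, zero_add, hm]
            rw [h1, Subgroup.coe_mul, MulAut.mul_apply, he0]
            exact congrArg _ (f l).2
          have hmul : π i (∏ l, ((c ^ m l : P) : MulAut R) (f l : R)) =
              ∏ l, π i (((c ^ m l : P) : MulAut R) (f l : R)) := by
            simp only [π, avg, map_prod]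
            exact Finset.prod_comm
          rw [hmul, Finset.prod_eq_single_of_mem i (Finset.mem_univ i) (fun l _ hl => hπne i l (Ne.symm hl) _ (hmem l)),
            hπfix i _ (hmem i)]
        funext i
        have h1 := key f i
        have h2 := key g i
        simp only at hfg
        rw [hfg, h2] at h1
        have h3 : ((g i : R) / (f i : R)) ^ p = 1 := by
          rw [← map_pow, ← map_pow] at h1
          rw [div_pow, (MulEquiv.injective _ h1), div_self']
        exact Subtype.ext (div_eq_one.1 (hpR _ h3)).symm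
      have h1 := Nat.card_le_card_of_injective _ hinj
      rwa [Nat.card_fun, Nat.card_zmod] at h1
  obtain ⟨c, hc, hck⟩ := exC C hC kh.ker hker
  obtain ⟨d, hd, hdk⟩ := exC D hD kh.ker hker
  obtain ⟨hcW, hpow⟩ := hbound c hck
  obtain ⟨hdW, -⟩ := hbound d hdk
  have hsurj : Function.Surjective (fun x : Fix (d : MulAut R) × Fix (c : MulAut R) => (x.1 : R) * x.2) := fun x => by
    obtain ⟨v, w, hv, hw, h⟩ := hfac c hc d hd x
    exact ⟨(⟨v, hv⟩, ⟨w, hw⟩), h⟩
  have h1 := Nat.card_le_card_of_surjective _ hsurj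
  rw [Nat.card_prod] at h1
  have h2 : Nat.card W ^ p ≤ Nat.card W ^ 2 := hpow.trans (h1.trans (by rw [pow_two]; exact Nat.mul_le_mul hdW hcW))
  have h3 := (Nat.pow_le_pow_iff_right hWcard).1 h2
  have := hp.out.two_le
  omega

/-- The action is trivial. -/
theorem trivial_of_factor {p q : ℕ} [hp : Fact p.Prime] (hp2 : p ≠ 2) (hq : q.Prime) (hpq : p ≠ q) :
    ∀ (n : ℕ) {R : Type v} [Group R] [Finite R] {P : Type u} [Group P] [Finite P] (φ : P →* MulAut R),
      IsPGroup q R → IsPGroup p P → ∀ C D : Set P, Subgroup.closure C = ⊤ → Subgroup.closure D = ⊤ →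
      (∀ c ∈ C, ∀ d ∈ D, ∀ x : R, ∃ v w : R, φ d v = v ∧ φ c w = w ∧ v * w = x) →
      Nat.card R = n → ∀ g r, φ g r = r := by
  intro n
  induction n using Nat.strong_induction_on with
  | _ n ih =>
    intro R _ _ P _ _ φ hR hP C D hC hD hfac hn g r
    haveI : Fact q.Prime := ⟨hq⟩
    rcases subsingleton_or_nontrivial R with hs | hnt
    · exact Subsingleton.elim _ _
    by_cases hW : ∃ W : Subgroup R, W.Normal ∧ (∀ a, ∀ w ∈ W, φ a w ∈ W) ∧ W ≠ ⊥ ∧ W ≠ ⊤
    · obtain ⟨W, hWn, hWi, hWb, hWt⟩ := hW
      have hmem : ∀ a w, φ a w ∈ W ↔ w ∈ W := fun a w => ⟨fun h => by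
        have := hWi a⁻¹ _ h
        rwa [map_inv, MulAut.inv_def, MulEquiv.symm_apply_apply] at this, hWi a w⟩
      have hmap : ∀ a, W.map (φ a).toMonoidHom = W := fun a => by
        ext x
        rw [Subgroup.mem_map_equiv]
        exact (hmem a _).symm.trans (by rw [MulEquiv.apply_symm_apply])
      have hWq : 1 < Nat.card W := by
        haveI := (Subgroup.nontrivial_iff_ne_bot W).2 hWb
        exact Finite.one_lt_card
      have hidx := W.card_mul_index
      -- trivial on the quotient
      let ψ : P →* MulAut (R ⧸ W) :=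
        { toFun := fun a => QuotientGroup.congr W W (φ a) (hmap a)
          map_one' := MulEquiv.ext fun x => by
            obtain ⟨x, rfl⟩ := QuotientGroup.mk_surjective x
            simp
          map_mul' := fun a b => MulEquiv.ext fun x => by
            obtain ⟨x, rfl⟩ := QuotientGroup.mk_surjective x
            show QuotientGroup.mk (φ (a * b) x) = QuotientGroup.mk (φ a (φ b x))
            rw [map_mul]; rfl }
      have hψ : ∀ a x, ψ a (QuotientGroup.mk x) = QuotientGroup.mk (φ a x) := fun a x => rfl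
      have hqlt : Nat.card (R ⧸ W) < n := by
        show W.index < n
        rw [← hn, ← hidx]
        exact lt_mul_of_one_lt_left (Nat.pos_of_ne_zero W.index_ne_zero_of_finite) hWq
      have hq1 := ih _ hqlt ψ (hR.to_quotient W) hP C D hC hD (fun c hc d hd x => by
        obtain ⟨x, rfl⟩ := QuotientGroup.mk_surjective x
        obtain ⟨v, w, hv, hw, rfl⟩ := hfac c hc d hd x
        exact ⟨_, _, by rw [hψ, hv], by rw [hψ, hw], rfl⟩) rfl
      -- fixed points in the cosets
      have hcoset : ∀ x : R, ∃ f : R, (∀ a, φ a f = f) ∧ f⁻¹ * x ∈ W := by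
        intro x
        let α := {y : R // x⁻¹ * y ∈ W}
        letI : MulAction P α :=
          { smul := fun a y => ⟨φ a y.1, by
              have h := hq1 a (QuotientGroup.mk y.1)
              rw [hψ, QuotientGroup.eq] at h
              have h2 := W.mul_mem y.2 (W.inv_mem h)
              rw [mul_inv_rev, inv_inv, mul_assoc, ← mul_assoc y.1, mul_inv_cancel, one_mul] at h2
              exact h2⟩
            one_smul := fun y => Subtype.ext (show φ 1 y.1 = y.1 by rw [map_one]; rfl)
            mul_smul := fun a b y => Subtype.ext (show φ (a * b) y.1 = φ a (φ b y.1) by rw [map_mul]; rfl) }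
        have hcardα : Nat.card α = Nat.card W :=
          Nat.card_congr ((Equiv.mulLeft x⁻¹).subtypeEquiv fun y => Iff.rfl)
        obtain ⟨⟨f, hf⟩, hfix⟩ := hP.nonempty_fixed_point_of_prime_not_dvd_card α (by
          rw [hcardα]
          obtain ⟨j, hj⟩ := (hR.to_subgroup W).exists_card_eq
          rw [hj]
          exact fun h => hpq ((Nat.prime_dvd_prime_iff_eq hp.out hq).1 (hp.out.dvd_of_dvd_pow h)))
        refine ⟨f, fun a => congrArg Subtype.val (hfix a), ?_⟩
        simpa using W.inv_mem hf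
      let ω : P →* MulAut W :=
        { toFun := fun a =>
            { toFun := fun w => ⟨φ a w, hWi a _ w.2⟩
              invFun := fun w => ⟨(φ a).symm w, (hmem a _).1 (by rw [MulEquiv.apply_symm_apply]; exact w.2)⟩
              left_inv := fun w => Subtype.ext (MulEquiv.symm_apply_apply _ _)
              right_inv := fun w => Subtype.ext (MulEquiv.apply_symm_apply _ _)
              map_mul' := fun u v => Subtype.ext (map_mul (φ a) _ _) }
          map_one' := MulEquiv.ext fun w => Subtype.ext (show φ 1 (w : R) = w by rw [map_one]; rfl)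
          map_mul' := fun a b => MulEquiv.ext fun w => Subtype.ext
            (show φ (a * b) (w : R) = φ a (φ b w) by rw [map_mul]; rfl) }
      have hWlt : Nat.card W < n := by
        rw [← hn]
        exact lt_of_le_of_ne (Subgroup.card_le_card_group W) fun h => hWt (Subgroup.card_eq_iff_eq_top W |>.1 h)
      have hW1 := ih _ hWlt ω (hR.to_subgroup W) hP C D hC hD (fun c hc d hd x => by
        obtain ⟨v, w, hv, hw, hvw⟩ := hfac c hc d hd (x : R)
        obtain ⟨f, hf, hfv⟩ := hcoset v
        obtain ⟨f', hf', hfw⟩ := hcoset w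
        set v1 := f⁻¹ * v with hv1
        set w1 := f'⁻¹ * w with hw1
        have h1 : f'⁻¹ * v1 * f' ∈ W := by simpa using hWn.conj_mem _ hfv f'⁻¹
        have h2 : f * f' ∈ W := by
          have e1 : f * f' = (x : R) * (f'⁻¹ * v1 * f' * w1)⁻¹ := by rw [← hvw, hv1, hw1]; group
          rw [e1]
          exact W.mul_mem x.2 (W.inv_mem (W.mul_mem h1 hfw))
        refine ⟨⟨f * f' * (f'⁻¹ * v1 * f'), W.mul_mem h2 h1⟩, ⟨w1, hfw⟩, Subtype.ext ?_, Subtype.ext ?_, Subtype.ext ?_⟩
        · show φ d (f * f' * (f'⁻¹ * v1 * f')) = f * f' * (f'⁻¹ * v1 * f')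
          simp only [hv1, map_mul, map_inv, hf, hf', hv]
        · show φ c w1 = w1
          simp only [hw1, map_mul, map_inv, hf', hw]
        · show f * f' * (f'⁻¹ * v1 * f') * w1 = (x : R)
          rw [← hvw, hv1, hw1]; group) rfl
      obtain ⟨f, hf, hfr⟩ := hcoset r
      have h1 : φ g (f⁻¹ * r) = f⁻¹ * r := congrArg Subtype.val (hW1 g ⟨_, hfr⟩)
      rw [map_mul, map_inv, hf] at h1
      exact mul_left_cancel h1
    · push Not at hW
      have hcom : ∀ a b : R, a * b = b * a := by
        haveI := hR.center_nontrivial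
        have hne : Subgroup.center R ≠ ⊥ := (Subgroup.nontrivial_iff_ne_bot _).1 inferInstance
        have htop := hW (Subgroup.center R) inferInstance (fun a w hw => by
          rw [Subgroup.mem_center_iff] at hw ⊢
          intro b
          obtain ⟨b, rfl⟩ := (φ a).surjective b
          rw [← map_mul, hw, map_mul]) hne
        exact fun a b => Subgroup.mem_center_iff.1 (htop ▸ Subgroup.mem_top b) a
      have hirr : ∀ W : Subgroup R, (∀ a ∈ φ.range, ∀ w ∈ W, (a : MulAut R) w ∈ W) → W = ⊥ ∨ W = ⊤ := by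
        intro W hWinv
        by_cases hb : W = ⊥
        · exact Or.inl hb
        · exact Or.inr (hW W ⟨fun x hx b => by rwa [hcom b x, mul_inv_cancel_right]⟩
            (fun a w hw => hWinv _ ⟨a, rfl⟩ w hw) hb)
      have hgen : ∀ S : Set P, Subgroup.closure S = ⊤ → Subgroup.closure (φ.rangeRestrict '' S) = ⊤ := fun S hS => by
        rw [← MonoidHom.map_closure, hS, Subgroup.map_top_of_surjective _ φ.rangeRestrict_surjective]
      have h := irreducible_case hp2 hq hpq hcom hR φ.range (hP.of_surjective _ φ.rangeRestrict_surjective) hirr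
        (φ.rangeRestrict '' C) (φ.rangeRestrict '' D) (hgen C hC) (hgen D hD) (by
          rintro _ ⟨c, hc, rfl⟩ _ ⟨d, hd, rfl⟩ x
          exact hfac c hc d hd x)
      have hg : φ g = 1 := Subgroup.mem_bot.1 (h ▸ (⟨g, rfl⟩ : φ g ∈ φ.range))
      rw [hg]; rfl

end Cfsg.Agent.Small.TwoFixedSpaces
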