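import Mathlib.GroupTheory.PGroup
import Mathlib.LinearAlgebra.Matrix.ToLin
import Mathlib.LinearAlgebra.Matrix.SpecialLinearGroup
import Mathlib.LinearAlgebra.Quotient.Basic
import Mathlib.FieldTheory.Finite.Basic

/-!
The flag of iterated fixed spaces of a p-subgroup of SL_n in characteristic p.
-/

set_option autoImplicit false

namespace Cfsg.Agent.Small.UnipFlag

open Matrix

variable {F : Type*} [Field F] {n : ℕ} (U : Subgroup (Matrix.SpecialLinearGroup (Fin n) F))

/-- The iterated fixed spaces. -/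
def W : ℕ → Submodule F (Fin n → F)
  | 0 => ⊥
  | i + 1 => ⨅ u : ↥U,
      (W i).comap (Matrix.mulVecLin ((u : Matrix.SpecialLinearGroup (Fin n) F) : Matrix (Fin n) (Fin n) F) - LinearMap.id)

theorem mem_W_succ {i : ℕ} {v : Fin n → F} :
    v ∈ W U (i + 1) ↔ ∀ u ∈ U, (u : Matrix (Fin n) (Fin n) F) *ᵥ v - v ∈ W U i := by
  simp [W, Subtype.forall]

theorem W_mono : ∀ i, W U i ≤ W U (i + 1)
  | 0 => bot_le
  | i + 1 => fun v hv => (mem_W_succ U).2 fun u hu =>
      W_mono i ((mem_W_succ U).1 hv u hu)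

theorem W_invariant {g : Matrix.SpecialLinearGroup (Fin n) F}
    (hg : g ∈ Subgroup.normalizer (U : Set (Matrix.SpecialLinearGroup (Fin n) F))) :
    ∀ i, ∀ v ∈ W U i, (g : Matrix (Fin n) (Fin n) F) *ᵥ v ∈ W U i
  | 0 => fun v hv => by
    have : v = 0 := by simpa [W] using hv
    simp [this]
  | i + 1 => fun v hv => by
    rw [mem_W_succ]
    intro u hu
    have hu' : g⁻¹ * u * g ∈ U := by
      have := (Subgroup.mem_normalizer_iff.1 (Subgroup.inv_mem _ hg) u).1 hu
      rwa [inv_inv] at this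
    have := W_invariant hg i _ ((mem_W_succ U).1 hv _ hu')
    rw [mulVec_sub, mulVec_mulVec, ← Matrix.SpecialLinearGroup.coe_mul,
      show g * (g⁻¹ * u * g) = u * g by group, Matrix.SpecialLinearGroup.coe_mul, ← mulVec_mulVec] at this
    exact this

theorem W_map {g : Matrix.SpecialLinearGroup (Fin n) F}
    (hg : g ∈ Subgroup.normalizer (U : Set (Matrix.SpecialLinearGroup (Fin n) F))) (i : ℕ) :
    (W U i).map (Matrix.mulVecLin (g : Matrix (Fin n) (Fin n) F)) = W U i := by
  refine le_antisymm (Submodule.map_le_iff_le_comap.2 fun v hv => W_invariant U hg i v hv) fun v hv => ?_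
  refine ⟨_, W_invariant U (Subgroup.inv_mem _ hg) i v hv, ?_⟩
  rw [Matrix.mulVecLin_apply, mulVec_mulVec, ← Matrix.SpecialLinearGroup.coe_mul, mul_inv_cancel,
    Matrix.SpecialLinearGroup.coe_one, one_mulVec]

variable [Fintype F] (p : ℕ) [hp : Fact p.Prime] [CharP F p]

include hp in
theorem W_strict (hU : IsPGroup p ↥U) {i : ℕ} (h : W U i ≠ ⊤) : W U i < W U (i + 1) := by
  refine lt_of_le_of_ne (W_mono U i) fun heq => ?_
  let L : ↥U → ((Fin n → F) ⧸ W U i) →ₗ[F] ((Fin n → F) ⧸ W U i) := fun u =>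
    (W U i).mapQ (W U i)
      (Matrix.mulVecLin ((u : Matrix.SpecialLinearGroup (Fin n) F) : Matrix (Fin n) (Fin n) F))
      fun v hv => W_invariant U (Subgroup.le_normalizer u.2) i v hv
  letI act : MulAction ↥U ((Fin n → F) ⧸ W U i) :=
    { smul := fun u x => L u x
      one_smul := fun x => by
        obtain ⟨v, rfl⟩ := Submodule.Quotient.mk_surjective _ x
        show L 1 _ = _
        simp [L]
      mul_smul := fun a b x => by
        obtain ⟨v, rfl⟩ := Submodule.Quotient.mk_surjective _ x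
        show L (a * b) _ = L a (L b _)
        simp [L, mulVec_mulVec]
        rw [← mulVec_mulVec]
        rfl }
  haveI : Nontrivial ((Fin n → F) ⧸ W U i) := Submodule.Quotient.nontrivial_iff.2 h
  haveI : Finite ((Fin n → F) ⧸ W U i) := Finite.of_surjective _ (Submodule.Quotient.mk_surjective _)
  have hdvd : p ∣ Nat.card ((Fin n → F) ⧸ W U i) := by
    obtain ⟨f, -, hf⟩ := FiniteField.card F p
    haveI := Fintype.ofFinite ((Fin n → F) ⧸ W U i)
    rw [Nat.card_eq_fintype_card, Module.card_eq_pow_finrank (K := F), hf, ← pow_mul]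
    exact dvd_pow_self p (Nat.mul_ne_zero f.pos.ne' Module.finrank_pos.ne')
  obtain ⟨x, hx, hne⟩ := hU.exists_fixed_point_of_prime_dvd_card_of_fixed_point _ hdvd
    (a := (0 : (Fin n → F) ⧸ W U i)) (fun u => map_zero (L u))
  obtain ⟨v, rfl⟩ := Submodule.Quotient.mk_surjective _ x
  refine hne ((Submodule.Quotient.mk_eq_zero _).2 ?_).symm
  rw [heq, mem_W_succ]
  intro u hu
  exact (Submodule.Quotient.eq _).1 (hx ⟨u, hu⟩)

include hp in
theorem exists_flag (hU : IsPGroup p ↥U) (hne : U ≠ ⊥) :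
    ∃ (k : ℕ) (V : Fin (k + 2) → Submodule F (Fin n → F)), 1 ≤ k ∧ StrictMono V ∧ V 0 = ⊥ ∧ V (Fin.last (k + 1)) = ⊤ ∧
      (∀ g ∈ Subgroup.normalizer (U : Set (Matrix.SpecialLinearGroup (Fin n) F)), ∀ i, (V i).map (Matrix.mulVecLin (g : Matrix (Fin n) (Fin n) F)) = V i) ∧
      (∀ u ∈ U, ∀ i : Fin (k + 1), ∀ v ∈ V i.succ, (u : Matrix (Fin n) (Fin n) F).mulVec v - v ∈ V (Fin.castSucc i)) := by
  classical
  have hex : ∃ m, W U m = ⊤ := by
    by_contra hc
    simp only [not_exists] at hc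
    have hr : ∀ m, m ≤ Module.finrank F (W U m) := by
      intro m
      induction m with
      | zero => exact Nat.zero_le _
      | succ m ih =>
        have := Submodule.finrank_lt_finrank_of_lt (W_strict U p hU (hc m))
        omega
    have h1 := hr (n + 1)
    have h2 := (W U (n + 1)).finrank_le
    rw [Module.finrank_fin_fun] at h2
    omega
  have h1 : W U 1 ≠ ⊤ := by
    intro h
    obtain ⟨⟨u, hu⟩, hu0⟩ := Subgroup.ne_bot_iff_exists_ne_one.1 hne
    have hu1 : u ≠ 1 := fun h => hu0 (Subtype.ext h)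
    apply hu1
    apply Subtype.ext
    apply Matrix.toLin'.injective
    refine LinearMap.ext fun v => ?_
    have := (mem_W_succ U).1 (h.symm ▸ Submodule.mem_top (x := v) : v ∈ W U 1) u hu
    simpa [W, sub_eq_zero] using this
  have h0 : W U 0 ≠ ⊤ := fun h => h1 (top_unique (h ▸ W_mono U 0))
  obtain ⟨k, hk⟩ : ∃ k, Nat.find hex = k + 2 := ⟨Nat.find hex - 2, by
    have a1 : Nat.find hex ≠ 0 := fun e => h0 (e ▸ Nat.find_spec hex)
    have a2 : Nat.find hex ≠ 1 := fun e => h1 (e ▸ Nat.find_spec hex)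
    omega⟩
  refine ⟨k + 1, fun i => W U i, by omega, ?_, rfl, ?_, fun g hg i => W_map U hg i, ?_⟩
  · refine Fin.strictMono_iff_lt_succ.2 fun i => ?_
    exact W_strict U p hU (Nat.find_min hex (by
      have := i.isLt
      rw [Fin.val_castSucc]
      omega))
  · have := Nat.find_spec hex
    rw [hk] at this
    exact this
  · intro u hu i v hv
    exact (mem_W_succ U).1 hv u hu

end Cfsg.Agent.Small.UnipFlag
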