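import Cfsg.Agent.Lib.Small.UnitaryConj
import Cfsg.Agent.Lib.Small.JordanType
import Cfsg.Agent.Lib.Small.TransposeSimilar

/-!
# Unipotent Jordan types in the unitary group
-/

set_option autoImplicit false
set_option linter.unusedSectionVars false

namespace Cfsg.Agent.Small.UnitaryTypes

open Module Matrix Cfsg.Agent.Small.JordanType

open scoped MatrixGroups

variable {F : Type*} [Field F] {n : ℕ}

/-- A unipotent element has the same Jordan type as its inverse. -/
theorem type_inv {g : GL (Fin n) F} {μ : Nat.Partition n} (h : HasType g μ) : HasType g⁻¹ μ := by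
  obtain ⟨t, k, b, hb, hk⟩ := h
  obtain ⟨u, hu⟩ : ∃ u, u = (Matrix.GeneralLinearGroup.toLin g : (Module.End F (Fin n → F))ˣ) := ⟨_, rfl⟩
  have hN : nil g = u.1 - 1 := by rw [nil, hu]
  have hM : nil g⁻¹ = (-u⁻¹).1 * nil g := by
    rw [hN, nil, map_inv, ← hu, Units.val_neg, mul_sub, mul_one, neg_mul, Units.inv_mul]
    abel
  have hc : Commute (-u⁻¹).1 (nil g) := by
    rw [hN, Units.val_neg]
    exact (((Commute.refl u.1).units_inv_left).sub_right (Commute.one_right _)).neg_left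
  have hpow : ∀ r, LinearMap.range (nil g⁻¹ ^ r) = LinearMap.range (nil g ^ r) := by
    intro r
    rw [hM, hc.mul_pow, (hc.pow_pow r r).eq, ← Units.val_pow_eq_pow_val, Module.End.mul_eq_comp]
    refine LinearMap.range_comp_of_range_eq_top _ (LinearMap.range_eq_top.mpr ?_)
    exact (LinearMap.GeneralLinearGroup.toLinearEquiv ((-u⁻¹) ^ r)).surjective
  obtain ⟨m, hm⟩ := hasType_isNilpotent ⟨t, k, b, hb, hk⟩
  obtain ⟨ν, hν⟩ := exists_type g⁻¹ ⟨m, by
    rw [← LinearMap.range_eq_bot, hpow, LinearMap.range_eq_bot, hm]⟩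
  obtain ⟨t', k', b', hb', hk'⟩ := hν
  have hμν : μ = ν := by
    refine Nat.Partition.ext ?_
    rw [← hk, ← hk']
    refine parts_eq_of_ranks k k' fun r => ?_
    rw [← hb.finrank_range, ← hb'.finrank_range, hpow]
  subst hμν
  exact ⟨t', k', b', hb', hk'⟩

/-- Every type has a representative fixed by all ring endomorphisms of the field. -/
theorem exists_fixed_rep (μ : Nat.Partition n) :
    ∃ g : GL (Fin n) F, HasType g μ ∧ ∀ (σ : F →+* F) (i j : Fin n), σ (g.1 i j) = g.1 i j := by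
  classical
  obtain ⟨g₀, t, k, b₀, -, hk⟩ := exists_of_type (F := F) μ
  obtain ⟨b, hbs⟩ : ∃ b : Basis (Σ i, Fin (k i)) F (Fin n → F), ∀ x, ∃ a, b x = Pi.single a 1 :=
    ⟨(Pi.basisFun F (Fin n)).reindex (b₀.indexEquiv (Pi.basisFun F (Fin n))).symm,
      fun x => ⟨b₀.indexEquiv (Pi.basisFun F (Fin n)) x, by simp⟩⟩
  obtain ⟨N, hN⟩ : ∃ N : Module.End F (Fin n → F), IsChain N b :=
    ⟨b.constr F fun x => if h : (x.2 : ℕ) + 1 < k x.1 then b ⟨x.1, ⟨(x.2 : ℕ) + 1, h⟩⟩ else 0,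
      fun x => b.constr_basis F _ x⟩
  have hnil : IsNilpotent N := ⟨∑ i, k i, (hN.pow_eq_zero_iff _).mpr fun i =>
    Finset.single_le_sum (fun _ _ => Nat.zero_le _) (Finset.mem_univ i)⟩
  obtain ⟨g, hg⟩ := Matrix.GeneralLinearGroup.toLin.surjective hnil.isUnit_add_one.unit
  have hgN : nil g = N := by
    rw [nil, hg]
    show N + 1 - 1 = N
    abel
  refine ⟨g, ⟨t, k, b, hgN.symm ▸ hN, hk⟩, fun σ i j => ?_⟩
  have hval : g.1 i j = (N (Pi.single j 1)) i + (Pi.single j (1 : F) : Fin n → F) i := by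
    have h1 : (Matrix.GeneralLinearGroup.toLin g : (Module.End F (Fin n → F))ˣ).1 = N + 1 := by rw [hg]; rfl
    have h2 := congrFun (LinearMap.congr_fun h1 (Pi.single j 1)) i
    rw [LinearMap.add_apply, Pi.add_apply, Module.End.one_apply] at h2
    rw [← h2]
    show _ = (Matrix.mulVec g.1 (Pi.single j 1)) i
    rw [Matrix.mulVec_single_one]
    rfl
  obtain ⟨x, hx⟩ : ∃ x, b x = Pi.single j (1 : F) := by
    by_contra hcon
    have hlin : ∀ x, (b x) j = 0 := by
      intro x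
      obtain ⟨a, ha⟩ := hbs x
      rw [ha, Pi.single_apply, if_neg]
      intro hja
      exact hcon ⟨x, by rw [ha, hja]⟩
    have h0 : (LinearMap.proj j : (Fin n → F) →ₗ[F] F) = 0 := b.ext hlin
    have h1 := LinearMap.congr_fun h0 (Pi.single j 1)
    simp at h1
  rw [hval, map_add, ← hx, hN x]
  have hfix : ∀ y, σ ((b y) i) = (b y) i := fun y => by
    obtain ⟨a, ha⟩ := hbs y
    rw [ha, Pi.single_apply]
    split_ifs <;> simp
  split_ifs with h
  · rw [hfix, hfix]
  · rw [hfix, Pi.zero_apply, map_zero]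

variable [Fintype F] [StarRing F] {q : ℕ}

/-- Every unipotent element is similar to a unitary one. -/
theorem exists_GU (hstar : ∀ x : F, star x = x ^ q) (hF : Fintype.card F = q ^ 2) {g : GL (Fin n) F}
    {μ : Nat.Partition n} (h : HasType g μ) : ∃ B : ↥(Cfsg.GU n F q), IsConj g (B : GL (Fin n) F) := by
  obtain ⟨r, hr, hfix⟩ := exists_fixed_rep (F := F) μ
  suffices ∃ B : ↥(Cfsg.GU n F q), IsConj r (B : GL (Fin n) F) by
    obtain ⟨B, hB⟩ := this
    exact ⟨B, (conj_of_type h hr).trans hB⟩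
  rw [UnitaryConj.exists_GU_iff hstar hF]
  have e : (r.1)ᴴ = (r.1)ᵀ := by
    ext i j
    exact hfix (starRingEnd F) j i
  rw [e, ← Matrix.transpose_nonsing_inv, ← Matrix.coe_units_inv]
  exact ((Units.coeHom (Matrix (Fin n) (Fin n) F)).map_isConj (conj_of_type hr (type_inv hr))).trans
    (TransposeSimilar.isConj_transpose _)

variable {p : ℕ} [Fact p.Prime] [CharP F p]

/-- Classes of elements of order `p` correspond. -/
theorem card_classes_order_p (hstar : ∀ x : F, star x = x ^ q) (hF : Fintype.card F = q ^ 2) :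
    Nat.card {C : ConjClasses ↥(Cfsg.GU n F q) // ∃ g : ↥(Cfsg.GU n F q), ConjClasses.mk g = C ∧ orderOf g = p} =
      Nat.card {C : ConjClasses (GL (Fin n) F) // ∃ g : GL (Fin n) F, ConjClasses.mk g = C ∧ orderOf g = p} := by
  refine Nat.card_eq_of_bijective (fun C => ⟨ConjClasses.map (Cfsg.GU n F q).subtype C.1, ?_⟩) ⟨?_, ?_⟩
  · obtain ⟨g, hg, ho⟩ := C.2
    exact ⟨(g : GL (Fin n) F), by rw [← hg]; rfl, by rw [Subgroup.orderOf_coe, ho]⟩
  · rintro ⟨C, g, rfl, hg⟩ ⟨D, h, rfl, hh⟩ e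
    have e1 := congrArg Subtype.val e
    exact Subtype.ext (ConjClasses.mk_eq_mk_iff_isConj.mpr ((UnitaryConj.conj_GU hstar hF g h).mpr
      (ConjClasses.mk_eq_mk_iff_isConj.mp e1)))
  · rintro ⟨D, h, rfl, hh⟩
    obtain ⟨μ, hμ, -, -⟩ := (order_p_iff h).mp hh
    obtain ⟨B, hB⟩ := exists_GU hstar hF hμ
    obtain ⟨c, hc⟩ := isConj_iff.mp hB
    have hoB : orderOf B = p := by
      rw [← Subgroup.orderOf_coe, ← hc, ← MulAut.conj_apply,
        MulEquiv.orderOf_eq, hh]
    exact ⟨⟨ConjClasses.mk B, B, rfl, hoB⟩, Subtype.ext (ConjClasses.mk_eq_mk_iff_isConj.mpr hB.symm)⟩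

end Cfsg.Agent.Small.UnitaryTypes
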