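import Cfsg.Agent.Lib.Small.JordanCentralizer
import Cfsg.Agent.Lib.Small.UnitaryTypes
import Cfsg.Agent.Lib.Small.RegularClassesSL
import Cfsg.Agent.Lib.Small.SpJordan
import Cfsg.Agent.Lib.Classical.UnitaryCount
import Mathlib.Algebra.Star.Subalgebra
import Mathlib.Algebra.Star.Unitary

/-!
The order of the centraliser of a unipotent element of given Jordan type in the general unitary group.
-/

set_option autoImplicit false
set_option linter.unusedSectionVars false
set_option linter.style.haveILetI false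

namespace Cfsg.Agent.Small.UnitaryJordanCent

open Matrix Cfsg.Agent.Small

/-! ### Unitary elements over a ring modulo a nil ideal -/

section Reduction

variable {R S : Type*} [Ring R] [StarRing R] [Finite R] [Ring S] [StarRing S]

theorem exists_sqrt (π : R →+* S) (hu : ∀ x, π x = 1 → IsUnit x) (l : R) (hl : l + star l = 1)
    (hlc : ∀ x, Commute l x) (h : R) (h0 : π h = 0) (hh : star h = h) :
    ∃ z : R, π z = 1 ∧ star z * z = 1 + h := by
  obtain ⟨N, hN⟩ : ∃ N, h ^ N = 0 := by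
    obtain ⟨a, b, hne, hab⟩ := Finite.exists_ne_map_eq_of_infinite (fun k : ℕ => h ^ k)
    wlog hlt : a < b generalizing a b
    · exact this b a (Ne.symm hne) hab.symm (by omega)
    refine ⟨a, (hu (1 - h ^ (b - a)) ?_).mul_left_eq_zero.1 ?_⟩
    · rw [map_sub, map_one, map_pow, h0, zero_pow (by omega), sub_zero]
    · rw [mul_sub, mul_one, ← pow_add, Nat.add_sub_cancel' hlt.le]
      exact sub_eq_zero.2 hab
  let c := star l * l
  have hlc' : ∀ x, Commute (star l) x := fun x => by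
    rw [show star l = 1 - l from eq_sub_of_add_eq' hl]
    exact (Commute.one_left x).sub_left (hlc x)
  have hcc : ∀ x, Commute c x := fun x => (hlc' x).mul_left (hlc x)
  have hgen : ∀ x ∈ ({h, c} : Set R), ∀ y ∈ ({h, c} : Set R), x * y = y * x := by
    rintro x (rfl | rfl) y (rfl | rfl)
    exacts [rfl, ((hcc x).eq).symm, (hcc y).eq, rfl]
  letI : CommRing ↥(Subring.closure ({h, c} : Set R)) := Subring.closureCommRingOfComm hgen
  have hsa : ∀ x ∈ Subring.closure ({h, c} : Set R), star x = x := by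
    intro x hx
    induction hx using Subring.closure_induction with
    | mem y hy =>
      rcases hy with rfl | rfl
      · exact hh
      · rw [star_mul, star_star]
    | zero => exact star_zero R
    | one => exact star_one R
    | add y z _ _ ey ez => rw [star_add, ey, ez]
    | neg y _ ey => rw [star_neg, ey]
    | mul y z hy hz ey ez =>
      rw [star_mul, ey, ez]
      exact congrArg Subtype.val (mul_comm (⟨z, hz⟩ : ↥(Subring.closure ({h, c} : Set R))) ⟨y, hy⟩)
  obtain ⟨H, hH⟩ : ∃ H : ↥(Subring.closure ({h, c} : Set R)), (H : R) = h :=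
    ⟨⟨h, Subring.subset_closure (Or.inl rfl)⟩, rfl⟩
  obtain ⟨C, hC⟩ : ∃ C : ↥(Subring.closure ({h, c} : Set R)), (C : R) = c :=
    ⟨⟨c, Subring.subset_closure (Or.inr rfl)⟩, rfl⟩
  have hit : ∀ k, ∃ s a e, s = H * a ∧ H - s - C * s * s = H ^ (k + 1) * e := by
    intro k
    induction k with
    | zero => exact ⟨0, 0, 1, by ring, by ring⟩
    | succ k ih =>
      obtain ⟨s, a, e, hs, he⟩ := ih
      refine ⟨s + H ^ (k + 1) * e, a + H ^ k * e, -C * (2 * a * e + H ^ k * e * e), by rw [hs]; ring, ?_⟩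
      rw [show H - (s + H ^ (k + 1) * e) - C * (s + H ^ (k + 1) * e) * (s + H ^ (k + 1) * e) =
        (H - s - C * s * s) - H ^ (k + 1) * e - C * (2 * s + H ^ (k + 1) * e) * (H ^ (k + 1) * e) by ring, he, hs]
      ring
  obtain ⟨s, a, e, hs, he⟩ := hit N
  have he' : h = (s : R) + c * (s : R) * (s : R) := by
    have e1 := congrArg Subtype.val he
    simp only [AddSubgroupClass.coe_sub, Subring.coe_mul, SubmonoidClass.coe_pow, hH, hC] at e1
    rw [pow_succ, hN, zero_mul, zero_mul, sub_sub, sub_eq_zero] at e1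
    exact e1
  refine ⟨1 + l * (s : R), ?_, ?_⟩
  · rw [map_add, map_one, map_mul, hs, Subring.coe_mul, map_mul, hH, h0, zero_mul, mul_zero, add_zero]
  · rw [star_add, star_one, star_mul, hsa _ s.2, ← (hlc' (s : R)).eq, add_mul, one_mul, mul_add (star l * (s : R)),
      mul_one]
    refine Eq.trans ?_ (congrArg (fun x => 1 + x) he'.symm)
    have e2 : star l * (s : R) * (l * (s : R)) = c * (s : R) * (s : R) := by
      rw [mul_assoc, ← mul_assoc (s : R), ← (hlc (s : R)).eq]
      simp only [c, mul_assoc]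
    rw [e2]
    calc 1 + l * (s : R) + (star l * (s : R) + c * (s : R) * (s : R)) =
        1 + ((l + star l) * (s : R) + c * (s : R) * (s : R)) := by rw [add_mul]; abel
      _ = _ := by rw [hl, one_mul]

theorem card_unitary_sq (π : R →+* S) (hπs : ∀ x, π (star x) = star (π x)) (hsurj : Function.Surjective π)
    (hu : ∀ x, π x = 1 → IsUnit x) (l δ δ' : R) (hl : l + star l = 1) (hlc : ∀ x, Commute l x)
    (hδ : star δ = -δ) (hδc : ∀ x, Commute δ x) (hinv : δ * δ' = 1) :
    Nat.card ↥(unitary R) ^ 2 = Nat.card {x : R // π x = 0} * Nat.card ↥(unitary S) ^ 2 := by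
  have hinv' : δ' * δ = 1 := mul_eq_one_comm.1 hinv
  have hδ'c : ∀ x, Commute δ' x := fun x => by
    have h := (hδc x).eq
    calc δ' * x = δ' * (x * δ) * δ' := by rw [mul_assoc δ', mul_assoc x, hinv, mul_one]
      _ = δ' * (δ * x) * δ' := by rw [h]
      _ = x * δ' := by rw [← mul_assoc δ' δ, hinv', one_mul]
  have hδ' : star δ' = -δ' := by
    have h1 : star δ' * star δ = 1 := by rw [← star_mul, hinv, star_one]
    rw [hδ, mul_neg, ← neg_mul] at h1
    have h2 := congrArg (fun x => -(x * δ')) h1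
    simp only [mul_assoc, hinv, mul_one, neg_neg, one_mul] at h2
    exact h2
  let I := {x : R // π x = 0}
  let H := {x : R // π x = 0 ∧ star x = x}
  have hπ' : ∀ x, π x = 0 → π (star x) = 0 := fun x hx => by rw [hπs, hx, star_zero]
  have hll : ∀ y, l * y + star l * y = y := fun y => by rw [← add_mul, hl, one_mul]
  let e1 : I ≃ H × H :=
    { toFun := fun x => (⟨x.1 + star x.1, by rw [map_add, x.2, hπ' _ x.2, add_zero],
          by rw [star_add, star_star, add_comm]⟩,
        ⟨δ * (x.1 - l * (x.1 + star x.1)), by simp [x.2, hπ' _ x.2], by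
          have hsum := hll (x.1 + star x.1)
          rw [star_mul, hδ, star_sub, star_mul, star_add, star_star, mul_neg, ← (hδc _).eq, ← mul_neg, neg_sub,
            add_comm (star x.1) x.1]
          congr 1
          rw [← ((Commute.one_left (x.1 + star x.1)).sub_left (hlc _)).eq.trans
            (congrArg ((x.1 + star x.1) * ·) (eq_sub_of_add_eq' hl).symm)]
          noncomm_ring⟩)
      invFun := fun y => ⟨l * y.1.1 + δ' * y.2.1, by simp [y.1.2.1, y.2.2.1]⟩
      left_inv := fun x => Subtype.ext (by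
        show l * (x.1 + star x.1) + δ' * (δ * (x.1 - l * (x.1 + star x.1))) = x.1
        rw [← mul_assoc δ', hinv', one_mul]; abel)
      right_inv := fun y => by
        obtain ⟨⟨u, hu0, hus⟩, ⟨v, hv0, hvs⟩⟩ := y
        have hs : (l * u + δ' * v) + star (l * u + δ' * v) = u := by
          rw [star_add, star_mul, star_mul, hus, hvs, hδ', mul_neg, ← (hδ'c v).eq,
            ← ((Commute.one_left u).sub_left (hlc u)).eq.trans (congrArg (u * ·) (eq_sub_of_add_eq' hl).symm)]
          noncomm_ring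
        refine Prod.ext (Subtype.ext hs) (Subtype.ext ?_)
        show δ * (l * u + δ' * v - l * (l * u + δ' * v + star (l * u + δ' * v))) = v
        rw [hs, add_sub_cancel_left, ← mul_assoc, hinv, one_mul] }
  choose z hz1 hz2 using fun h : H => exists_sqrt π hu l hl hlc h.1 h.2.1 h.2.2
  let f : ↥(unitary R) →* ↥(unitary S) :=
    { toFun := fun x => ⟨π x.1, by
        rw [Unitary.mem_iff, ← hπs, ← map_mul, ← map_mul, (Unitary.mem_iff.1 x.2).1, (Unitary.mem_iff.1 x.2).2,
          map_one]; exact ⟨rfl, rfl⟩⟩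
      map_one' := Subtype.ext (map_one π)
      map_mul' := fun a b => Subtype.ext (map_mul π _ _) }
  have hmem : ∀ x : R, star x * x = 1 → x ∈ unitary R := fun x hx => Unitary.mem_iff.2 ⟨hx, mul_eq_one_comm.1 hx⟩
  have hfix : ∀ (x : R) (h : H), star x * x = 1 + h.1 → ∃ u : ↥(unitary R), u.1 * z h = x := by
    intro x h hx
    obtain ⟨U, hU⟩ := hu _ (hz1 h)
    refine ⟨⟨x * U⁻¹.1, hmem _ ?_⟩, ?_⟩
    · rw [star_mul, mul_assoc, ← mul_assoc (star x), hx, ← hz2 h, ← hU, mul_assoc (star U.1), Units.mul_inv,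
        mul_one, ← star_mul, Units.mul_inv, star_one]
    · show x * U⁻¹.1 * z h = x
      rw [mul_assoc, ← hU, Units.inv_mul, mul_one]
  have hfs : Function.Surjective f := by
    intro y
    obtain ⟨x, hx⟩ := hsurj y.1
    have hH : π (star x * x - 1) = 0 ∧ star (star x * x - 1) = star x * x - 1 :=
      ⟨by rw [map_sub, map_mul, hπs, hx, map_one, Unitary.coe_star_mul_self, sub_self],
        by rw [star_sub, star_mul, star_star, star_one]⟩
    obtain ⟨u, hu'⟩ := hfix x ⟨_, hH⟩ (by simp)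
    refine ⟨u, Subtype.ext ?_⟩
    show π u.1 = y.1
    rw [← hx, ← hu', map_mul, hz1, mul_one]
  let g : H × ↥f.ker → {x : R // π x = 1} := fun y => ⟨y.2.1.1 * z y.1, by
    rw [map_mul, hz1, mul_one]; exact congrArg Subtype.val (MonoidHom.mem_ker.1 y.2.2)⟩
  have hg : Function.Bijective g := by
    constructor
    · rintro ⟨h, u⟩ ⟨h', u'⟩ e
      have e' : u.1.1 * z h = u'.1.1 * z h' := congrArg Subtype.val e
      have key : ∀ (h : H) (u : ↥(unitary R)), star (u.1 * z h) * (u.1 * z h) = 1 + h.1 := fun h u => by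
        rw [star_mul, mul_assoc, ← mul_assoc (star u.1), Unitary.coe_star_mul_self, one_mul, hz2]
      obtain rfl : h = h' := Subtype.ext (add_left_cancel ((key h u.1).symm.trans (e' ▸ key h' u'.1)))
      exact Prod.ext rfl (Subtype.ext (Subtype.ext ((hu _ (hz1 h)).mul_left_injective e')))
    · rintro ⟨x, hx⟩
      have hH : π (star x * x - 1) = 0 ∧ star (star x * x - 1) = star x * x - 1 :=
        ⟨by rw [map_sub, map_mul, hπs, hx, map_one, star_one, mul_one, sub_self],
          by rw [star_sub, star_mul, star_star, star_one]⟩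
      obtain ⟨u, hu'⟩ := hfix x ⟨_, hH⟩ (by simp)
      refine ⟨(⟨_, hH⟩, ⟨u, MonoidHom.mem_ker.2 (Subtype.ext ?_)⟩), Subtype.ext hu'⟩
      show π u.1 = 1
      rw [← hx, ← hu', map_mul, hz1, mul_one]
  let e2 : {x : R // π x = 1} ≃ I := (Equiv.subRight (1 : R)).subtypeEquiv fun x => by
    rw [Equiv.subRight_apply, map_sub, map_one, sub_eq_zero]
  have hI1 : Nat.card I = Nat.card H * Nat.card H := by rw [Nat.card_congr e1, Nat.card_prod]
  have hI2 : Nat.card I = Nat.card H * Nat.card ↥f.ker := by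
    rw [← Nat.card_congr e2, ← Nat.card_eq_of_bijective g hg, Nat.card_prod]
  haveI : Nonempty H := ⟨⟨0, map_zero π, star_zero R⟩⟩
  have hker : Nat.card ↥f.ker = Nat.card H := Nat.eq_of_mul_eq_mul_left Nat.card_pos (hI2.symm.trans hI1)
  rw [Subgroup.card_eq_card_quotient_mul_card_subgroup f.ker,
    Nat.card_congr (QuotientGroup.quotientKerEquivOfSurjective f hfs).toEquiv, mul_pow, hker, sq (Nat.card H), ← hI1,
    mul_comm]

end Reduction

/-! ### The blocks -/

section Blocks

variable {F : Type*} [Field F] {t : ℕ} {d : Fin t → ℕ}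

local notation "I'" => (k : Fin t) × Fin (d k)

/-- The position of an entry inside a block. -/
def emb {m : ℕ} (k : Fin t) (hk : d k = m) (a : Fin m) : I' := ⟨k, a.cast hk.symm⟩

/-- One block of a matrix. -/
def sub {m : ℕ} (X : Matrix I' I' F) (k l : Fin t) (hk : d k = m) (hl : d l = m) : Matrix (Fin m) (Fin m) F :=
  X.submatrix (emb k hk) (emb l hl)

theorem sub_bd_mul (f : ∀ m, Matrix (Fin m) (Fin m) F) {m : ℕ} (X : Matrix I' I' F) (k l : Fin t) (hk : d k = m)
    (hl : d l = m) : sub (Matrix.blockDiagonal' (fun k => f (d k)) * X) k l hk hl = f m * sub X k l hk hl := by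
  subst hk
  ext a b
  rw [sub, Matrix.submatrix_apply, Matrix.mul_apply, Matrix.mul_apply, Fintype.sum_sigma,
    Finset.sum_eq_single k (fun j _ hj => Finset.sum_eq_zero fun c _ => by
      rw [emb, Matrix.blockDiagonal'_apply_ne _ _ _ hj.symm, zero_mul]) (by simp)]
  refine Finset.sum_congr rfl fun c _ => ?_
  rw [emb, Matrix.blockDiagonal'_apply_eq, sub, Matrix.submatrix_apply, emb, emb]
  rfl

theorem sub_mul_bd (f : ∀ m, Matrix (Fin m) (Fin m) F) {m : ℕ} (X : Matrix I' I' F) (k l : Fin t) (hk : d k = m)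
    (hl : d l = m) : sub (X * Matrix.blockDiagonal' (fun k => f (d k))) k l hk hl = sub X k l hk hl * f m := by
  subst hl
  ext a b
  rw [sub, Matrix.submatrix_apply, Matrix.mul_apply, Matrix.mul_apply, Fintype.sum_sigma,
    Finset.sum_eq_single l (fun j _ hj => Finset.sum_eq_zero fun c _ => by
      simp only [emb]
      rw [Matrix.blockDiagonal'_apply_ne _ _ _ hj, mul_zero]) (by simp)]
  refine Finset.sum_congr rfl fun c _ => ?_
  rw [emb, emb, Matrix.blockDiagonal'_apply_eq, sub, Matrix.submatrix_apply, emb, emb]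
  rfl

variable (hd : ∀ k, 1 ≤ d k)
include hd

theorem entry_zero {X : Matrix I' I' F} (hX : X * JordanCent.nilM F d = JordanCent.nilM F d * X)
    (a b : I') (h : ¬ (b.2.val ≤ a.2.val ∧ d a.1 ≤ a.2.val - b.2.val + d b.1)) : X a b = 0 := by
  rw [← JordanCent.build_entries d hd X hX, JordanCent.build, dif_neg h]

/-- The diagonal part of a block. -/
theorem entry_diag {X : Matrix I' I' F} (hX : X * JordanCent.nilM F d = JordanCent.nilM F d * X)
    {m : ℕ} (k l : Fin t) (hk : d k = m) (hl : d l = m) (a : Fin m) :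
    sub X k l hk hl a a = X ⟨k, ⟨0, hd k⟩⟩ ⟨l, ⟨0, hd l⟩⟩ := by
  rw [sub, Matrix.submatrix_apply, ← JordanCent.build_entries d hd X hX, JordanCent.build, JordanCent.build,
    dif_pos ⟨le_refl _, show d k ≤ _ + d l by omega⟩, dif_pos ⟨le_refl _, show d k ≤ _ + d l by omega⟩]
  congr 4
  exact Fin.ext (show a.val - a.val = 0 - 0 by omega)

theorem sub_lower {X : Matrix I' I' F} (hX : X * JordanCent.nilM F d = JordanCent.nilM F d * X)
    {m : ℕ} (k l : Fin t) (hk : d k = m) (hl : d l = m) : (sub X k l hk hl).BlockTriangular OrderDual.toDual := by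
  intro a b hab
  have hab' : a.val < b.val := hab
  exact entry_zero hd hX _ _ fun h => by
    have := h.1
    simp only [emb, Fin.coe_cast] at this
    omega

theorem top_mul {X Y : Matrix I' I' F} (hX : X * JordanCent.nilM F d = JordanCent.nilM F d * X)
    (hY : Y * JordanCent.nilM F d = JordanCent.nilM F d * Y) {i : ℕ} (k l : {k // d k = i}) :
    (X * Y) ⟨k.1, ⟨0, hd k.1⟩⟩ ⟨l.1, ⟨0, hd l.1⟩⟩ =
      ∑ j : {k // d k = i}, X ⟨k.1, ⟨0, hd k.1⟩⟩ ⟨j.1, ⟨0, hd j.1⟩⟩ * Y ⟨j.1, ⟨0, hd j.1⟩⟩ ⟨l.1, ⟨0, hd l.1⟩⟩ := by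
  rw [Matrix.mul_apply]
  refine (Finset.sum_of_injOn (fun j : {k // d k = i} => (⟨j.1, ⟨0, hd j.1⟩⟩ : I'))
    (fun a _ b _ h => Subtype.ext (congrArg Sigma.fst h)) (fun _ _ => Finset.mem_univ _) ?_ fun _ _ => rfl).symm
  rintro ⟨j, c⟩ - hj
  by_cases h1 : c.val ≤ 0 ∧ d k.1 ≤ 0 - c.val + d j
  · by_cases h2 : 0 ≤ c.val ∧ d j ≤ c.val - 0 + d l.1
    · exfalso
      have hc : c = ⟨0, hd j⟩ := Fin.ext (Nat.le_zero.1 h1.1)
      have := k.2
      have := l.2
      exact hj ⟨⟨j, by omega⟩, Finset.mem_coe.2 (Finset.mem_univ _), by subst hc; rfl⟩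
    · rw [entry_zero hd hY ⟨j, c⟩ ⟨l.1, ⟨0, hd l.1⟩⟩ h2, mul_zero]
  · rw [entry_zero hd hX ⟨k.1, ⟨0, hd k.1⟩⟩ ⟨j, c⟩ h1, zero_mul]

end Blocks

/-! ### The count -/

variable {K : Type*} [Field K] [Fintype K] [StarRing K] {q : ℕ}

theorem blockTriangular_smul_one {m : ℕ} (c : K) :
    (c • (1 : Matrix (Fin m) (Fin m) K)).BlockTriangular OrderDual.toDual := fun a b hab => by
  rw [Matrix.smul_apply, Matrix.one_apply_ne (fun h => by subst h; exact lt_irrefl _ hab), smul_zero]

theorem exists_block (hstar : ∀ x : K, star x = x ^ q) (hK : Fintype.card K = q ^ 2) {p : ℕ} [Fact p.Prime]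
    [CharP K p] (m : ℕ) : ∃ P Q : Matrix (Fin m) (Fin m) K, P * Q = 1 ∧ Q * P = 1 ∧
      (P * Cfsg.jordanBlock m K * Q)ᴴ * (P * Cfsg.jordanBlock m K * Q) = 1 := by
  have hN : SpJordan.Nb m K ^ m = 0 := by
    ext i j
    rw [SpJordan.Nb_pow, if_neg (by omega), Matrix.zero_apply]
  obtain ⟨g, hg⟩ : ∃ g : GL (Fin m) K, g.1 = Cfsg.jordanBlock m K := by
    rw [SpJordan.jordanBlock_eq]
    exact (show IsNilpotent (SpJordan.Nb m K) from ⟨m, hN⟩).isUnit_one_add
  obtain ⟨μ, hμ⟩ := JordanType.exists_type g ⟨m, by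
    rw [RegularClassesSL.nil_eq, ← RegularUnipotent.mulVecLin_pow, hg, SpJordan.jordanBlock_eq,
      add_sub_cancel_left, hN, Matrix.mulVecLin_zero]⟩
  obtain ⟨B, hB⟩ := UnitaryTypes.exists_GU hstar hK hμ
  obtain ⟨c, hc⟩ := isConj_iff.1 hB
  refine ⟨c.1, (c⁻¹).1, Units.mul_inv _, Units.inv_mul _, ?_⟩
  rw [← hg, ← Units.val_mul, ← Units.val_mul, hc]
  exact (PSUn.mem_GU_iff_star hstar _).1 B.2

theorem exists_trace_skew (hstar : ∀ x : K, star x = x ^ q) (hK : Fintype.card K = q ^ 2) :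
    (∃ a : K, a + star a = 1) ∧ ∃ a : K, a ≠ 0 ∧ star a = -a := by
  obtain ⟨x, hx⟩ : ∃ x : K, star x ≠ x := by
    by_contra h
    push Not at h
    have hq : 2 ≤ q := by
      have := Fintype.one_lt_card (α := K)
      rw [hK] at this
      nlinarith
    have hp : ((Polynomial.X : Polynomial K) ^ q - Polynomial.X) ≠ 0 :=
      FiniteField.X_pow_card_sub_X_ne_zero K (by omega)
    have hsub : (Finset.univ : Finset K).val ⊆ ((Polynomial.X : Polynomial K) ^ q - Polynomial.X).roots := fun y _ => by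
      rw [Polynomial.mem_roots hp]
      simp [← hstar, h]
    have hle := Polynomial.card_le_degree_of_subset_roots hsub
    rw [Finset.card_univ, hK, FiniteField.X_pow_card_sub_X_natDegree_eq K (by omega : 1 < q)] at hle
    nlinarith
  refine ⟨?_, x - star x, sub_ne_zero.2 (Ne.symm hx), by rw [star_sub, star_star, neg_sub]⟩
  by_cases h : x + star x = 0
  · have h1 : (1 : K) + 1 ≠ 0 := by
      intro h2
      have e : star x = x := by linear_combination h - x * h2
      exact hx e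
    exact ⟨(1 + 1)⁻¹, by rw [star_inv₀, star_add, star_one, ← two_mul, show (2 : K) = 1 + 1 by norm_num,
      mul_inv_cancel₀ h1]⟩
  · exact ⟨x / (x + star x), by rw [star_div₀, star_add, star_star, add_comm (star x) x, ← add_div, div_self h]⟩

theorem card_unitary_matrix (hstar : ∀ x : K, star x = x ^ q) (ι : Type) [Fintype ι] [DecidableEq ι] :
    Nat.card ↥(unitary (Matrix ι ι K)) = Nat.card ↥(Cfsg.GU (Fintype.card ι) K q) := by
  let e := Fintype.equivFin ι
  have hmem : ∀ A : Matrix ι ι K, A ∈ unitary (Matrix ι ι K) ↔ (A.submatrix e.symm e.symm)ᴴ * A.submatrix e.symm e.symm = 1 := by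
    intro A
    rw [Unitary.mem_iff, Matrix.conjTranspose_submatrix, Matrix.submatrix_mul_equiv, ← Matrix.submatrix_one_equiv e.symm,
      Matrix.star_eq_conjTranspose]
    constructor
    · rintro ⟨h, -⟩; rw [h]
    · intro h
      have h' := congrArg (fun M : Matrix _ _ K => M.submatrix e e) h
      simp only [Matrix.submatrix_submatrix, Equiv.symm_comp_self, Matrix.submatrix_id_id] at h'
      exact ⟨h', mul_eq_one_comm.1 h'⟩
  let tf : ↥(unitary (Matrix ι ι K)) → ↥(Cfsg.GU (Fintype.card ι) K q) := fun A =>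
    ⟨⟨A.1.submatrix e.symm e.symm, (A.1.submatrix e.symm e.symm)ᴴ, mul_eq_one_comm.1 ((hmem _).1 A.2),
      (hmem _).1 A.2⟩, (PSUn.mem_GU_iff_star hstar _).2 ((hmem _).1 A.2)⟩
  refine Nat.card_eq_of_bijective tf ⟨fun A B h => Subtype.ext ?_, fun g => ?_⟩
  · have := congrArg (fun g : ↥(Cfsg.GU (Fintype.card ι) K q) => g.1.1.submatrix e e) h
    simpa [tf, Matrix.submatrix_submatrix] using this
  · have h : (g.1.1.submatrix e e).submatrix e.symm e.symm = g.1.1 := by simp [Matrix.submatrix_submatrix]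
    exact ⟨⟨g.1.1.submatrix e e, (hmem _).2 (h.symm ▸ (PSUn.mem_GU_iff_star hstar _).1 g.2)⟩,
      Subtype.ext (Units.ext h)⟩

theorem card_centralizer (hstar : ∀ x : K, star x = x ^ q) (hK : Fintype.card K = q ^ 2) {p : ℕ} [Fact p.Prime]
    [CharP K p] {n t : ℕ} (d : Fin t → ℕ) (hd : ∀ k, 1 ≤ d k) (e : ((k : Fin t) × Fin (d k)) ≃ Fin n)
    (u : ↥(Cfsg.GU n K q))
    (hu : IsConj (Matrix.reindex e e (Cfsg.jordanTypeMatrix d K)) ((u : GL (Fin n) K) : Matrix (Fin n) (Fin n) K)) :
    Nat.card ↥(Subgroup.centralizer ({u} : Set ↥(Cfsg.GU n K q))) =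
      q ^ Nat.card {x : JordanCent.Pos d // ¬ JordanCent.IsTop d x} *
        ∏ i : Fin (Finset.univ.sup d + 1), Nat.card ↥(Cfsg.GU (Finset.univ.filter (fun k : Fin t => d k = i)).card K q) := by
  classical
  choose Pm Qm hPQ hQP hPJ using exists_block hstar hK (p := p)
  obtain ⟨P, hP⟩ : ∃ P, P = Matrix.blockDiagonal' (fun k => Pm (d k)) := ⟨_, rfl⟩
  obtain ⟨Q, hQ⟩ : ∃ Q, Q = Matrix.blockDiagonal' (fun k => Qm (d k)) := ⟨_, rfl⟩
  obtain ⟨J, hJ⟩ : ∃ J, J = Cfsg.jordanTypeMatrix d K := ⟨_, rfl⟩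
  have hPQ' : P * Q = 1 := by
    rw [hP, hQ, ← Matrix.blockDiagonal'_mul, ← Matrix.blockDiagonal'_one]
    exact congrArg _ (funext fun k => hPQ _)
  have hQP' : Q * P = 1 := mul_eq_one_comm.1 hPQ'
  obtain ⟨v, hv⟩ : ∃ v, v = P * J * Q := ⟨_, rfl⟩
  have hvs : vᴴ * v = 1 := by
    rw [hv, hP, hQ, hJ, Cfsg.jordanTypeMatrix, ← Matrix.blockDiagonal'_mul, ← Matrix.blockDiagonal'_mul,
      Matrix.blockDiagonal'_conjTranspose, ← Matrix.blockDiagonal'_mul, ← Matrix.blockDiagonal'_one]
    exact congrArg _ (funext fun k => hPJ _)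
  have hvs' : v * vᴴ = 1 := mul_eq_one_comm.1 hvs
  let R := StarSubalgebra.centralizer K ({v} : Set (Matrix ((k : Fin t) × Fin (d k)) ((k : Fin t) × Fin (d k)) K))
  have hRmem : ∀ Y, Y ∈ R ↔ v * Y = Y * v := by
    intro Y
    rw [StarSubalgebra.mem_centralizer_iff]
    constructor
    · exact fun h => (h v rfl).1
    · rintro h g rfl
      refine ⟨h, ?_⟩
      rw [Matrix.star_eq_conjTranspose]
      calc gᴴ * Y = gᴴ * (Y * g) * gᴴ := by rw [mul_assoc gᴴ, mul_assoc Y, hvs', mul_one]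
        _ = gᴴ * (g * Y) * gᴴ := by rw [h]
        _ = Y * gᴴ := by rw [← mul_assoc gᴴ, hvs, one_mul]
  have hcomm : ∀ Y, Y ∈ R ↔ (Q * Y * P) * JordanCent.nilM K d = JordanCent.nilM K d * (Q * Y * P) := by
    intro Y
    rw [hRmem, hv, hJ, JordanCent.jordan_eq, mul_add, add_mul, mul_one, hPQ', add_mul, mul_add, one_mul, mul_one,
      add_right_inj]
    constructor
    · intro h
      have h' := congrArg (fun M => Q * M * P) h.symm
      simpa only [← mul_assoc, hQP', one_mul, mul_assoc _ Q P, mul_one] using h'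
    · intro h
      have h' := congrArg (fun M => P * M * Q) h.symm
      simpa only [← mul_assoc, hPQ', one_mul, mul_assoc _ P Q, mul_one] using h'
  have hconjm : ∀ X Y, Q * (X * Y) * P = Q * X * P * (Q * Y * P) := fun X Y => by
    simp only [← mul_assoc, mul_assoc _ P Q, hPQ', mul_one]
  let top : ∀ k : Fin t, (k : Fin t) × Fin (d k) := fun k => ⟨k, ⟨0, hd k⟩⟩
  have hstarblk : ∀ Y ∈ R, ∀ k l : Fin t, d k = d l →
      (Q * Yᴴ * P) (top k) (top l) = star ((Q * Y * P) (top l) (top k)) := by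
    intro Y hY k l hkl
    obtain ⟨X, hX⟩ : ∃ X, X = Q * Y * P := ⟨_, rfl⟩
    obtain ⟨X', hX'⟩ : ∃ X', X' = Q * Yᴴ * P := ⟨_, rfl⟩
    have cX : X * JordanCent.nilM K d = JordanCent.nilM K d * X := hX ▸ (hcomm Y).1 hY
    have cX' : X' * JordanCent.nilM K d = JordanCent.nilM K d * X' := hX' ▸ (hcomm _).1 (star_mem hY)
    rw [← hX, ← hX']
    obtain ⟨m, hk⟩ : ∃ m, d k = m := ⟨_, rfl⟩
    have hl : d l = m := hkl ▸ hk
    have hm : 1 ≤ m := hk ▸ hd k
    obtain ⟨c, hc⟩ : ∃ c, c = X (top l) (top k) := ⟨_, rfl⟩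
    rw [← hc]
    have hY' : Y = P * X * Q := by simp only [hX, ← mul_assoc, hPQ', one_mul, mul_assoc _ P Q, mul_one]
    have hQc : Qᴴ = Matrix.blockDiagonal' (fun k => (Qm (d k))ᴴ) := by rw [hQ, Matrix.blockDiagonal'_conjTranspose]
    have hPc : Pᴴ = Matrix.blockDiagonal' (fun k => (Pm (d k))ᴴ) := by rw [hP, Matrix.blockDiagonal'_conjTranspose]
    have hsub : sub X' k l hk hl = Qm m * (Qm m)ᴴ * (sub X l k hl hk)ᴴ * ((Pm m)ᴴ * Pm m) := by
      rw [hX', hY', Matrix.conjTranspose_mul, Matrix.conjTranspose_mul, hQc, hPc,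
        show ∀ A B C : Matrix ((k : Fin t) × Fin (d k)) ((k : Fin t) × Fin (d k)) K, Q * (A * (B * C)) * P = Q * (A * B * C * P) by
          intros; simp only [mul_assoc], hP, hQ, sub_bd_mul, sub_mul_bd, sub_mul_bd (fun m => (Pm m)ᴴ),
        sub_bd_mul (fun m => (Qm m)ᴴ)]
      simp only [mul_assoc]
      congr 3
    have hG : Qm m * (Qm m)ᴴ * ((Pm m)ᴴ * Pm m) = 1 := by
      rw [mul_assoc, ← mul_assoc (Qm m)ᴴ, ← Matrix.conjTranspose_mul, hPQ, Matrix.conjTranspose_one, one_mul, hQP]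
    have hdet : (sub X' k l hk hl - star c • 1).det = 0 := by
      have : sub X' k l hk hl - star c • 1 =
          Qm m * (Qm m)ᴴ * ((sub X l k hl hk - c • 1)ᴴ) * ((Pm m)ᴴ * Pm m) := by
        rw [Matrix.conjTranspose_sub, Matrix.conjTranspose_smul, Matrix.conjTranspose_one, mul_sub, sub_mul, ← hsub,
          Matrix.mul_smul, mul_one, Matrix.smul_mul, hG]
      rw [this, Matrix.det_mul, Matrix.det_mul, Matrix.det_conjTranspose,
        Matrix.det_of_lowerTriangular _ ((sub_lower hd cX l k hl hk).sub (blockTriangular_smul_one c)),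
        Finset.prod_eq_zero (Finset.mem_univ ⟨0, hm⟩), star_zero, mul_zero, zero_mul]
      rw [Matrix.sub_apply, Matrix.smul_apply, Matrix.one_apply_eq, entry_diag hd cX, smul_eq_mul, mul_one, hc,
        sub_self]
    rw [Matrix.det_of_lowerTriangular _ ((sub_lower hd cX' k l hk hl).sub (blockTriangular_smul_one _)),
      Finset.prod_congr rfl (g := fun _ => X' (top k) (top l) - star c) (fun a _ => by
        rw [Matrix.sub_apply, Matrix.smul_apply, Matrix.one_apply_eq, entry_diag hd cX', smul_eq_mul, mul_one]),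
      Finset.prod_const] at hdet
    exact sub_eq_zero.1 (eq_zero_of_pow_eq_zero hdet)
  let S := ∀ i : Fin (Finset.univ.sup d + 1), Matrix {k // d k = i.val} {k // d k = i.val} K
  let π : R →+* S :=
    { toFun := fun Y i => Matrix.of fun k l => (Q * Y.1 * P) (top k.1) (top l.1)
      map_one' := by
        funext i; ext k l
        rw [Matrix.of_apply, OneMemClass.coe_one, mul_one, hQP', Pi.one_apply, Matrix.one_apply, Matrix.one_apply]
        refine if_congr ⟨fun h => Subtype.ext (congrArg Sigma.fst h), fun h => by rw [h]⟩ rfl rfl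
      map_mul' := fun A B => by
        funext i; ext k l
        rw [Matrix.of_apply, MulMemClass.coe_mul, hconjm, Pi.mul_apply, Matrix.mul_apply]
        exact top_mul hd ((hcomm _).1 A.2) ((hcomm _).1 B.2) k l
      map_zero' := by
        funext i; ext k l
        rw [Matrix.of_apply, ZeroMemClass.coe_zero, mul_zero, zero_mul]
        rfl
      map_add' := fun A B => by
        funext i; ext k l
        rw [Matrix.of_apply, AddMemClass.coe_add, mul_add, add_mul, Matrix.add_apply]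
        rfl }
  have hπs : ∀ Y, π (star Y) = star (π Y) := fun Y => by
    funext i; ext k l
    exact hstarblk Y.1 Y.2 k.1 l.1 (k.2.trans l.2.symm)
  have hent : ∀ (Y : R) (i : Fin (Finset.univ.sup d + 1)),
      JordanCent.blockOf d hd (JordanCent.entries d hd (Q * Y.1 * P)) i = π Y i := fun Y i => rfl
  have hQYP : ∀ Y, P * (Q * Y * P) * Q = Y := fun Y => by
    simp only [← mul_assoc, hPQ', one_mul, mul_assoc _ P Q, mul_one]
  have hPXQ : ∀ X, Q * (P * X * Q) * P = X := fun X => by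
    simp only [← mul_assoc, hQP', one_mul, mul_assoc _ Q P, mul_one]
  let E : R ≃ (JordanCent.Pos d → K) :=
    { toFun := fun Y => JordanCent.entries d hd (Q * Y.1 * P)
      invFun := fun f => ⟨P * JordanCent.build d f * Q, (hcomm _).2 (by rw [hPXQ]; exact JordanCent.build_comm d f)⟩
      left_inv := fun Y => Subtype.ext (by
        show P * JordanCent.build d (JordanCent.entries d hd (Q * Y.1 * P)) * Q = Y.1
        rw [JordanCent.build_entries d hd _ ((hcomm _).1 Y.2), hQYP])
      right_inv := fun f => by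
        show JordanCent.entries d hd (Q * (P * JordanCent.build d f * Q) * P) = f
        rw [hPXQ, JordanCent.entries_build] }
  have hπE : ∀ Y i, π Y i = JordanCent.blockOf d hd (E Y) i := fun Y i => rfl
  have hsurj : Function.Surjective π := by
    intro s
    refine ⟨E.symm fun x => if h : JordanCent.IsTop d x then
      s ⟨d x.1.1, Nat.lt_succ_of_le (Finset.le_sup (Finset.mem_univ _))⟩ ⟨x.1.1, rfl⟩ ⟨x.1.2.2, h.1.symm⟩ else 0, ?_⟩
    funext i
    rw [hπE, Equiv.apply_symm_apply]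
    ext k l
    rw [JordanCent.blockOf, dif_pos (⟨k.2.trans l.2.symm, rfl⟩ : JordanCent.IsTop d _)]
    obtain ⟨i, hi⟩ := i
    obtain ⟨k, hk⟩ := k
    obtain ⟨l, hl⟩ := l
    dsimp only at hk hl ⊢
    subst hk
    rfl
  haveI : Finite R := Finite.of_equiv _ E.symm
  have hker : Nat.card {Y : R // π Y = 0} = q ^ (2 * Nat.card {x : JordanCent.Pos d // ¬ JordanCent.IsTop d x}) := by
    have h1 : ∀ Y, π Y = 0 ↔ ∀ x, JordanCent.IsTop d x → E Y x = 0 := by
      intro Y
      constructor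
      · rintro h ⟨⟨k, i, l⟩, hx⟩ ⟨hkl, hi⟩
        obtain rfl : i = ⟨0, hd k⟩ := Fin.ext hi
        exact congrFun (congrFun (congrFun h ⟨d k, Nat.lt_succ_of_le (Finset.le_sup (Finset.mem_univ _))⟩) ⟨k, rfl⟩)
          ⟨l, hkl.symm⟩
      · intro h
        funext i; ext k l
        rw [hπE]
        exact h _ ⟨k.2.trans l.2.symm, rfl⟩
    rw [Nat.card_congr (E.subtypeEquiv (q := fun f => ∀ x, JordanCent.IsTop d x → f x = 0) h1),
      Nat.card_congr (show {f : JordanCent.Pos d → K // ∀ x, JordanCent.IsTop d x → f x = 0} ≃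
        ({x : JordanCent.Pos d // ¬ JordanCent.IsTop d x} → K) from
        { toFun := fun f x => f.1 x.1
          invFun := fun g => ⟨fun x => if h : JordanCent.IsTop d x then 0 else g ⟨x, h⟩, fun x hx => dif_pos hx⟩
          left_inv := fun f => Subtype.ext (funext fun x => by
            dsimp only
            split_ifs with h
            · exact (f.2 x h).symm
            · rfl)
          right_inv := fun g => funext fun x => dif_neg x.2 }),
      Nat.card_fun, Nat.card_eq_fintype_card (α := K), hK, ← pow_mul]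
  have hunit : ∀ Y : R, π Y = 1 → IsUnit Y := by
    intro Y hY
    have hdet : (Q * Y.1 * P).det ≠ 0 := by
      rw [← JordanCent.build_entries d hd _ ((hcomm _).1 Y.2), JordanCent.det_ne_iff_blocks d hd]
      intro i
      rw [hent, hY, Pi.one_apply, Matrix.det_one]
      exact one_ne_zero
    have hdY : Y.1.det ≠ 0 := fun h0 => hdet (by rw [Matrix.det_mul, Matrix.det_mul, h0, mul_zero, zero_mul])
    have hinj : Function.Injective fun Z : R => Y * Z := fun A B h => Subtype.ext
      (((Matrix.isUnit_iff_isUnit_det _).2 hdY.isUnit).mul_left_cancel (congrArg Subtype.val h))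
    obtain ⟨Z, hZ⟩ := Finite.injective_iff_surjective.1 hinj 1
    exact IsUnit.of_mul_eq_one Z hZ
  obtain ⟨⟨a, ha⟩, b, hb, hbs⟩ := exists_trace_skew hstar hK
  have hsq := card_unitary_sq π hπs hsurj hunit (algebraMap K R a) (algebraMap K R b) (algebraMap K R b⁻¹)
    (by rw [← algebraMap_star_comm, ← map_add, ha, map_one]) (fun x => Algebra.commutes a x)
    (by rw [← algebraMap_star_comm, hbs, map_neg]) (fun x => Algebra.commutes b x)
    (by rw [← map_mul, mul_inv_cancel₀ hb, map_one])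
  rw [hker, pow_mul', ← mul_pow] at hsq
  have hUR := Nat.pow_left_injective two_ne_zero hsq
  let piE : ↥(unitary S) ≃ ∀ i : Fin (Finset.univ.sup d + 1), ↥(unitary (Matrix {k // d k = i.val} {k // d k = i.val} K)) :=
    { toFun := fun x i => ⟨x.1 i, Unitary.mem_iff.2 ⟨congrFun (Unitary.coe_star_mul_self x) i,
        congrFun (Unitary.coe_mul_star_self x) i⟩⟩
      invFun := fun y => ⟨fun i => (y i).1, Unitary.mem_iff.2 ⟨funext fun i => Unitary.coe_star_mul_self (y i),
        funext fun i => Unitary.coe_mul_star_self (y i)⟩⟩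
      left_inv := fun x => rfl
      right_inv := fun y => rfl }
  rw [Nat.card_congr piE, Nat.card_pi, Finset.prod_congr rfl fun i _ => card_unitary_matrix hstar {k // d k = i.val}]
    at hUR
  rw [Finset.prod_congr rfl fun (i : Fin (Finset.univ.sup d + 1)) _ =>
    congrArg (fun a => Nat.card ↥(Cfsg.GU a K q)) (Fintype.card_subtype (fun k => d k = i.val))] at hUR
  rw [← hUR]
  -- transfer to the given element
  obtain ⟨w, hw⟩ : ∃ w, w = Matrix.reindexAlgEquiv K K e v := ⟨_, rfl⟩
  have hre : ∀ M : Matrix ((k : Fin t) × Fin (d k)) ((k : Fin t) × Fin (d k)) K,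
      Matrix.reindexAlgEquiv K K e Mᴴ = (Matrix.reindexAlgEquiv K K e M)ᴴ := fun M =>
    (Matrix.conjTranspose_submatrix M e.symm e.symm).symm
  have hws : wᴴ * w = 1 := by rw [hw, ← hre, ← map_mul, hvs, map_one]
  let wu : ↥(Cfsg.GU n K q) := ⟨⟨w, wᴴ, mul_eq_one_comm.1 hws, hws⟩, (PSUn.mem_GU_iff_star hstar _).2 hws⟩
  have hwconj : IsConj w (u.1.1) := by
    refine IsConj.trans ?_ hu
    refine IsConj.symm ⟨⟨Matrix.reindexAlgEquiv K K e P, Matrix.reindexAlgEquiv K K e Q,
      by rw [← map_mul, hPQ', map_one], by rw [← map_mul, hQP', map_one]⟩, ?_⟩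
    show Matrix.reindexAlgEquiv K K e P * Matrix.reindexAlgEquiv K K e (Cfsg.jordanTypeMatrix d K) =
      w * Matrix.reindexAlgEquiv K K e P
    rw [hw, ← map_mul, ← map_mul, hv, mul_assoc _ Q P, hQP', mul_one, hJ]
  obtain ⟨c, hc⟩ := hwconj
  obtain ⟨x, hx⟩ := isConj_iff.1 ((UnitaryConj.conj_GU hstar hK wu u).2 (isConj_iff.2 ⟨c,
    mul_inv_eq_iff_eq_mul.2 (Units.ext hc)⟩))
  have hcen : Nat.card ↥(Subgroup.centralizer ({u} : Set ↥(Cfsg.GU n K q))) =
      Nat.card {g : ↥(Cfsg.GU n K q) // g * wu = wu * g} := by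
    refine Nat.card_congr (((MulAut.conj x⁻¹).toEquiv).subtypeEquiv fun g => ?_)
    rw [Subgroup.mem_centralizer_singleton_iff]
    change g * u = u * g ↔ x⁻¹ * g * (x⁻¹)⁻¹ * wu = wu * (x⁻¹ * g * (x⁻¹)⁻¹)
    rw [← hx, inv_inv]
    constructor
    · intro h
      have h' := congrArg (fun y => x⁻¹ * y * x) h
      simpa [mul_assoc] using h'
    · intro h
      have h' := congrArg (fun y => x * y * x⁻¹) h
      simpa [mul_assoc] using h'
  rw [hcen]
  have h1 : ∀ A : ↥(unitary R), A.1.1ᴴ * A.1.1 = 1 ∧ A.1.1 * A.1.1ᴴ = 1 := fun A =>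
    ⟨congrArg Subtype.val (Unitary.coe_star_mul_self A), congrArg Subtype.val (Unitary.coe_mul_star_self A)⟩
  have hmk : ∀ A : ↥(unitary R), ∃ g : ↥(Cfsg.GU n K q), g * wu = wu * g ∧
      g.1.1 = Matrix.reindexAlgEquiv K K e A.1.1 := by
    intro A
    obtain ⟨M, hM⟩ : ∃ M, M = Matrix.reindexAlgEquiv K K e A.1.1 := ⟨_, rfl⟩
    have hMs : Mᴴ * M = 1 := by rw [hM, ← hre, ← map_mul, (h1 A).1, map_one]
    refine ⟨⟨⟨M, Mᴴ, mul_eq_one_comm.1 hMs, hMs⟩, (PSUn.mem_GU_iff_star hstar _).2 hMs⟩, Subtype.ext (Units.ext ?_), hM⟩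
    show M * w = w * M
    rw [hM, hw, ← map_mul, ← map_mul, (hRmem _).1 A.1.2]
  choose tf htc htv using hmk
  refine (Nat.card_eq_of_bijective (fun A => (⟨tf A, htc A⟩ : {g : ↥(Cfsg.GU n K q) // g * wu = wu * g})) ⟨?_, ?_⟩).symm
  · intro A B h
    have h2 : (tf A).1.1 = (tf B).1.1 := by rw [show tf A = tf B from congrArg Subtype.val h]
    rw [htv, htv] at h2
    exact Subtype.ext (Subtype.ext ((Matrix.reindexAlgEquiv K K e).injective h2))
  · intro y
    obtain ⟨A, hA⟩ : ∃ A, Matrix.reindexAlgEquiv K K e A = y.1.1.1 :=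
      ⟨_, (Matrix.reindexAlgEquiv K K e).apply_symm_apply _⟩
    have hs : Aᴴ * A = 1 := (Matrix.reindexAlgEquiv K K e).injective (by
      rw [map_mul, hre, hA, map_one]; exact (PSUn.mem_GU_iff_star hstar _).1 y.1.2)
    have hAR : A ∈ R := (hRmem _).2 ((Matrix.reindexAlgEquiv K K e).injective (by
      rw [map_mul, map_mul, hA, ← hw]
      exact (congrArg (fun z : ↥(Cfsg.GU n K q) => z.1.1) y.2).symm))
    exact ⟨⟨⟨A, hAR⟩, Unitary.mem_iff.2 ⟨Subtype.ext hs, Subtype.ext (mul_eq_one_comm.1 hs)⟩⟩,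
      Subtype.ext (Subtype.ext (Units.ext ((htv _).trans hA)))⟩

end Cfsg.Agent.Small.UnitaryJordanCent
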