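import Cfsg.Agent.Lib.Small.QuadExt

/-!
# Restriction of scalars for the unitary group and hyperbolic bases of the norm form
-/

set_option autoImplicit false
set_option linter.unusedSectionVars false

namespace Cfsg.Agent.Small.UnitaryRestrict

open Matrix QuadExt

variable {F K : Type*} [Field F] [Fintype F] [Field K] [Fintype K] [Algebra F K] {q : ℕ}

/-- The norm form `Σ u_i ū_i`. -/
def nrm (σ : K →+* K) {n : ℕ} (u : Fin n → K) : K := ∑ i, u i * σ (u i)

theorem hermForm_eq (σ : K →+* K) (hσ : ∀ x, σ x = x ^ q) {n : ℕ} (u v : Fin n → K) :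
    Cfsg.hermForm n K q u v = ∑ i, u i * σ (v i) := by
  simp [Cfsg.hermForm, hσ]

/-- The unitary group acting over the ground field. -/
noncomputable def rho (F : Type*) [Field F] [Algebra F K] (n q : ℕ) :
    ↥(Cfsg.GU n K q) →* ((Fin n → K) →ₗ[F] (Fin n → K)) where
  toFun g := (Matrix.mulVecLin ((g : GL (Fin n) K) : Matrix (Fin n) (Fin n) K)).restrictScalars F
  map_one' := by ext; simp
  map_mul' g h := by apply LinearMap.ext; intro v; simp

theorem rho_apply (n q : ℕ) (g : ↥(Cfsg.GU n K q)) (v : Fin n → K) :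
    rho F n q g v = ((g : GL (Fin n) K) : Matrix (Fin n) (Fin n) K) *ᵥ v := rfl

theorem rho_injective (n q : ℕ) : Function.Injective (rho F (K := K) n q) := by
  intro g h e
  apply Subtype.ext
  apply Units.ext
  exact Matrix.ext_of_mulVec_single fun i => LinearMap.congr_fun e (Pi.single i 1)

theorem rho_nrm (σ : K →+* K) (hσ : ∀ x, σ x = x ^ q) (n : ℕ) (g : ↥(Cfsg.GU n K q)) (v : Fin n → K) :
    nrm σ (rho F n q g v) = nrm σ v := by
  rw [nrm, nrm, ← hermForm_eq σ hσ, ← hermForm_eq σ hσ, rho_apply]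
  exact g.2 v v

/-- A norm preserving bijection out of an equinumerous coordinate space gives an embedding. -/
theorem exists_embed {n : ℕ} {ι : Type} [Fintype ι] [DecidableEq ι] (σ : K →+* K) (hσ : ∀ x, σ x = x ^ q)
    (hK : Fintype.card K = Fintype.card F ^ 2) (hι : Fintype.card ι = 2 * n) (Q : (ι → F) → F)
    (hQ : ∀ v, (∀ w, Q (v + w) = Q w) → v = 0) (Φ : (ι → F) →ₗ[F] (Fin n → K))
    (hΦ : ∀ v, nrm σ (Φ v) = algebraMap F K (Q v)) :
    ∃ φ : ↥(Cfsg.GU n K q) →* ↥(Cfsg.isometryGroup F Q), Function.Injective φ := by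
  classical
  have hinj : Function.Injective Φ := by
    rw [← LinearMap.ker_eq_bot, LinearMap.ker_eq_bot']
    intro v hv
    refine hQ v fun w => (algebraMap F K).injective ?_
    rw [← hΦ, ← hΦ, map_add, hv, zero_add]
  have hbij : Function.Bijective Φ := by
    rw [Fintype.bijective_iff_injective_and_card]
    refine ⟨hinj, ?_⟩
    rw [Fintype.card_fun, Fintype.card_fun, hι, hK, Fintype.card_fin, ← pow_mul]
  exact embed_isometry (LinearEquiv.ofBijective Φ hbij) (rho F n q) (rho_injective n q) (nrm σ)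
    (algebraMap F K) (algebraMap F K).injective Q hΦ (rho_nrm σ hσ n)

theorem plus_nondeg (m : ℕ) (v : Fin m ⊕ Fin m → F)
    (h : ∀ w, Cfsg.quadFormPlus m F (v + w) = Cfsg.quadFormPlus m F w) : v = 0 := by
  have h0 : Cfsg.quadFormPlus m F v = 0 := by
    have := h 0
    simpa [Cfsg.quadFormPlus] using this
  funext x
  cases x with
  | inl i =>
    have := h (Pi.single (Sum.inr i) 1)
    simp [Cfsg.quadFormPlus, add_mul, mul_add, Finset.sum_add_distrib, Pi.single_apply] at this h0 ⊢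
    linear_combination this - h0
  | inr i =>
    have := h (Pi.single (Sum.inl i) 1)
    simp [Cfsg.quadFormPlus, add_mul, mul_add, Finset.sum_add_distrib, Pi.single_apply] at this h0 ⊢
    linear_combination this - h0

theorem smul_eq (c : F) (x : K) : c • x = algebraMap F K c * x := Algebra.smul_def c x

/-- A hyperbolic basis of the norm form in even dimension. -/
theorem exists_even_map {n k : ℕ} (e : Fin k × Fin 2 ≃ Fin n) (σ : K →+* K) (hσσ : ∀ x, σ (σ x) = x)
    (hσF : ∀ a, σ (algebraMap F K a) = algebraMap F K a) (w : K) (hw : σ w ≠ w)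
    (ν : K) (hν : ν * σ ν = -1) (ζ : K) (hζ : ζ * σ ζ = 1) (hζ1 : ζ ≠ 1) :
    ∃ Φ : (Fin n ⊕ Fin n → F) →ₗ[F] (Fin n → K),
      ∀ v, nrm σ (Φ v) = algebraMap F K (Cfsg.quadFormPlus n F v) := by
  obtain ⟨d, hd⟩ : ∃ d : K, (w - σ w) * d = 1 := ⟨(w - σ w)⁻¹, mul_inv_cancel₀ (sub_ne_zero.mpr (Ne.symm hw))⟩
  obtain ⟨c, hc⟩ : ∃ c : K, (1 - σ ζ) * c = 1 := by
    refine ⟨(1 - σ ζ)⁻¹, mul_inv_cancel₀ (sub_ne_zero.mpr fun h => hζ1 ?_)⟩
    rw [← hσσ ζ, ← h, map_one]
  have hd' : (σ w - w) * σ d = 1 := by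
    have := congrArg σ hd
    rwa [map_mul, map_sub, hσσ, map_one] at this
  have hdd : σ d = -d := by linear_combination (-σ d) * hd - d * hd'
  have hc' : (1 - ζ) * σ c = 1 := by
    have := congrArg σ hc
    rwa [map_mul, map_sub, hσσ, map_one] at this
  let A : (Fin n ⊕ Fin n → F) → Fin k → K := fun v j =>
    algebraMap F K (v (Sum.inl (e (j, 0)))) + algebraMap F K (v (Sum.inl (e (j, 1)))) * w
  let B : (Fin n ⊕ Fin n → F) → Fin k → K := fun v j =>
    σ ((algebraMap F K (v (Sum.inr (e (j, 0)))) * (-(σ w) * d) + algebraMap F K (v (Sum.inr (e (j, 1)))) * d) * c)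
  let Φ : (Fin n ⊕ Fin n → F) →ₗ[F] (Fin n → K) :=
    { toFun := fun v i => if (e.symm i).2 = 0 then A v (e.symm i).1 + B v (e.symm i).1
        else ν * A v (e.symm i).1 + ν * ζ * B v (e.symm i).1
      map_add' := fun u v => by
        funext i
        simp only [Pi.add_apply, A, B, map_add, map_mul]
        split_ifs <;> ring
      map_smul' := fun a v => by
        funext i
        simp only [Pi.smul_apply, smul_eq_mul, smul_eq, A, B, map_add, map_mul, hσF, RingHom.id_apply]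
        split_ifs <;> ring }
  refine ⟨Φ, fun v => ?_⟩
  rw [nrm, Cfsg.quadFormPlus, map_sum, ← e.sum_comp, ← e.sum_comp, Fintype.sum_prod_type, Fintype.sum_prod_type]
  refine Finset.sum_congr rfl fun j _ => ?_
  simp only [Fin.sum_univ_two, Φ, LinearMap.coe_mk, AddHom.coe_mk, Equiv.symm_apply_apply, Fin.one_eq_zero_iff,
    OfNat.ofNat_ne_one, if_true, if_false, A, B, map_add, map_mul, map_neg, hσF, hσσ, hdd]
  set a1 := algebraMap F K (v (Sum.inl (e (j, 0))))
  set a2 := algebraMap F K (v (Sum.inl (e (j, 1))))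
  set b1 := algebraMap F K (v (Sum.inr (e (j, 0))))
  set b2 := algebraMap F K (v (Sum.inr (e (j, 1))))
  linear_combination ((a1 + a2 * w) * (a1 + a2 * σ w) + (b1 * (w * d) - b2 * d) * σ c * ((b1 * (-(σ w) * d) + b2 * d) * c) * (ζ * σ ζ)
      + (a1 + a2 * w) * ((b1 * (-(σ w) * d) + b2 * d) * c) * σ ζ + (b1 * (w * d) - b2 * d) * σ c * (a1 + a2 * σ w) * ζ) * hν
    - (b1 * (w * d) - b2 * d) * σ c * ((b1 * (-(σ w) * d) + b2 * d) * c) * hζ
    + (a1 + a2 * w) * (b1 * (-(σ w) * d) + b2 * d) * hc + (b1 * (w * d) - b2 * d) * (a1 + a2 * σ w) * hc'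
    + (a1 * b1 + a2 * b2) * hd

end Cfsg.Agent.Small.UnitaryRestrict
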