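import Cfsg.Agent.Lib.Small.UnitarySquareZero
import Cfsg.Agent.Lib.Small.Semisimple

/-!
# Semisimple unitary elements: the centraliser has every norm-one determinant
-/

set_option autoImplicit false
set_option linter.unusedSectionVars false

namespace Cfsg.Agent.Small.UnitarySemisimple

open Matrix Cfsg.Agent.Small

open scoped MatrixGroups

variable {F : Type*} [Field F] [Fintype F] {n q : ℕ}

/-- The linear map of `a` has no invariant subspace. -/
def Irred {k : ℕ} (a : Matrix (Fin k) (Fin k) F) : Prop :=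
  ∀ X : Submodule F (Fin k → F), (∀ x ∈ X, a *ᵥ x ∈ X) → X = ⊥ ∨ X = ⊤

theorem irred_semisimple {k : ℕ} {a : Matrix (Fin k) (Fin k) F} (ha : Irred a) :
    Module.End.IsSemisimple (Matrix.toLin' a) := by
  refine Module.End.isSemisimple_iff.2 fun X hX => ?_
  rw [Module.End.mem_invtSubmodule_iff_forall_mem_of_mem] at hX
  rcases ha X (fun x hx => by simpa using hX x hx) with rfl | rfl
  · exact ⟨⊤, (Module.End.mem_invtSubmodule_iff_forall_mem_of_mem _).2 fun _ _ => Submodule.mem_top, isCompl_bot_top⟩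
  · exact ⟨⊥, (Module.End.mem_invtSubmodule_iff_forall_mem_of_mem _).2 fun x hx => by
      simp [(Submodule.mem_bot F).1 hx], isCompl_top_bot⟩

/-- A nonzero element of the commutant is injective. -/
theorem commutant_inj {k : ℕ} {a x : Matrix (Fin k) (Fin k) F} (ha : Irred a) (hx : x * a = a * x) (hx0 : x ≠ 0) :
    LinearMap.ker (Matrix.toLin' x) = ⊥ := by
  refine (ha _ fun v hv => ?_).resolve_right fun e => hx0 ?_
  · rw [LinearMap.mem_ker, Matrix.toLin'_apply] at hv ⊢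
    rw [Matrix.mulVec_mulVec, hx, ← Matrix.mulVec_mulVec, hv, Matrix.mulVec_zero]
  · exact (Matrix.toLin' (R := F)).map_eq_zero_iff.1 (LinearMap.ker_eq_top.1 e)

/-- The commutant is commutative. -/
theorem commutant_comm {k : ℕ} {a x y : Matrix (Fin k) (Fin k) F} (ha : Irred a) (hx : x * a = a * x)
    (hy : y * a = a * y) : x * y = y * x := by
  let C := Subring.centralizer ({a} : Set (Matrix (Fin k) (Fin k) F))
  haveI : Finite C := Finite.of_injective _ Subtype.val_injective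
  rcases Nat.eq_zero_or_pos k with hk | hk
  · subst hk
    ext i
    exact i.elim0
  haveI : Nonempty (Fin k) := ⟨⟨0, hk⟩⟩
  haveI : NoZeroDivisors C := ⟨fun {u v} huv => by
    by_contra hne
    push Not at hne
    have h1 : (u : Matrix (Fin k) (Fin k) F) * a = a * (u : Matrix (Fin k) (Fin k) F) :=
      (Subring.mem_centralizer_iff.1 u.2 a rfl).symm
    have hinj := commutant_inj ha h1 fun e => hne.1 (Subtype.ext e)
    refine hne.2 (Subtype.ext (Matrix.ext_of_mulVec_single fun i => LinearMap.ker_eq_bot.1 hinj ?_))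
    rw [Matrix.toLin'_apply, Matrix.toLin'_apply, ZeroMemClass.coe_zero, Matrix.zero_mulVec, Matrix.mulVec_zero,
      Matrix.mulVec_mulVec, show (u : Matrix (Fin k) (Fin k) F) * v = 0 from congrArg Subtype.val huv,
      Matrix.zero_mulVec]⟩
  haveI : IsDomain C := NoZeroDivisors.to_isDomain C
  have hmem : ∀ z, z * a = a * z → z ∈ C := fun z hz => Subring.mem_centralizer_iff.2 fun b hb => by
    rw [Set.mem_singleton_iff.1 hb, hz]
  exact congrArg Subtype.val ((Finite.isDomain_to_isField C).mul_comm ⟨x, hmem x hx⟩ ⟨y, hmem y hy⟩)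

/-- An irreducible frame inside an invariant subspace. -/
theorem exists_frame (A : Matrix (Fin n) (Fin n) F) (Y : Submodule F (Fin n → F)) (hY : Y ≠ ⊥)
    (hA : ∀ x ∈ Y, A *ᵥ x ∈ Y) :
    ∃ (k : ℕ) (U : Matrix (Fin n) (Fin k) F) (W : Matrix (Fin k) (Fin n) F) (a : Matrix (Fin k) (Fin k) F),
      0 < k ∧ W * U = 1 ∧ A * U = U * a ∧ (∀ x, U *ᵥ x ∈ Y) ∧ Irred a := by
  classical
  let P : ℕ → Prop := fun d => ∃ Z : Submodule F (Fin n → F), Z ≤ Y ∧ Z ≠ ⊥ ∧ (∀ x ∈ Z, A *ᵥ x ∈ Z) ∧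
    Module.finrank F Z = d
  have hP : ∃ d, P d := ⟨_, Y, le_rfl, hY, hA, rfl⟩
  obtain ⟨Z, hZY, hZ0, hZA, hZd⟩ := Nat.find_spec hP
  obtain ⟨U, hU⟩ : ∃ U : Matrix (Fin n) (Fin (Module.finrank F Z)) F, Matrix.toLin' U =
      Z.subtype.comp ((Module.finBasis F Z).equivFun.symm : (Fin _ → F) →ₗ[F] Z) := Matrix.toLin'.surjective _
  have hinj : LinearMap.ker (Matrix.toLin' U) = ⊥ := by
    rw [hU, LinearMap.ker_eq_bot]
    exact Z.injective_subtype.comp (Module.finBasis F Z).equivFun.symm.injective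
  obtain ⟨W₀, hW₀⟩ := (Matrix.toLin' U).exists_leftInverse_of_injective hinj
  obtain ⟨W, hW⟩ : ∃ W, W = LinearMap.toMatrix' W₀ := ⟨_, rfl⟩
  have hWU : W * U = 1 := by
    apply Matrix.toLin'.injective
    rw [Matrix.toLin'_mul, hW, Matrix.toLin'_toMatrix', hW₀, Matrix.toLin'_one]
  have hUZ : ∀ x, U *ᵥ x ∈ Z := fun x => by
    rw [← Matrix.toLin'_apply, hU]
    exact Submodule.coe_mem _
  have hZU : ∀ z ∈ Z, ∃ x, U *ᵥ x = z := fun z hz =>
    ⟨(Module.finBasis F Z).equivFun ⟨z, hz⟩, by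
      rw [← Matrix.toLin'_apply, hU, LinearMap.comp_apply, LinearEquiv.coe_coe, LinearEquiv.symm_apply_apply]
      rfl⟩
  obtain ⟨a, ha⟩ : ∃ a, a = W * A * U := ⟨_, rfl⟩
  have hAU : A * U = U * a := Matrix.ext_of_mulVec_single fun i => by
    obtain ⟨y, hy⟩ := hZU _ (hZA _ (hUZ (Pi.single i 1)))
    rw [Matrix.mulVec_mulVec] at hy
    rw [ha, ← Matrix.mulVec_mulVec (M := U), Matrix.mul_assoc W, ← Matrix.mulVec_mulVec (M := W), ← hy,
      Matrix.mulVec_mulVec (M := W), hWU, Matrix.one_mulVec]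
  refine ⟨_, U, W, a, ?_, hWU, hAU, fun x => hZY (hUZ x), fun X hX => ?_⟩
  · rcases Nat.eq_zero_or_pos (Module.finrank F Z) with h | h
    · exact absurd (Submodule.finrank_eq_zero.1 h) hZ0
    · exact h
  by_cases hX0 : X = ⊥
  · exact Or.inl hX0
  refine Or.inr ?_
  have hinj' : Function.Injective (Matrix.toLin' U) := LinearMap.ker_eq_bot.1 hinj
  have hle : Nat.find hP ≤ Module.finrank F (X.map (Matrix.toLin' U)) := by
    refine Nat.find_min' hP ⟨_, ?_, ?_, ?_, rfl⟩
    · rintro _ ⟨x, -, rfl⟩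
      exact hZY (by rw [Matrix.toLin'_apply]; exact hUZ x)
    · intro e
      exact hX0 (Submodule.map_injective_of_injective hinj' (by rw [e, Submodule.map_bot]))
    · rintro _ ⟨x, hx, rfl⟩
      exact ⟨a *ᵥ x, hX x hx, by rw [Matrix.toLin'_apply, Matrix.toLin'_apply, Matrix.mulVec_mulVec, Matrix.mulVec_mulVec, hAU]⟩
  rw [(Submodule.equivMapOfInjective _ hinj' X).finrank_eq.symm, ← hZd] at hle
  exact Submodule.eq_top_of_finrank_eq (le_antisymm (Submodule.finrank_le _) (by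
    rw [Module.finrank_fin_fun]; exact hle))

theorem exists_det {k : ℕ} {a : Matrix (Fin k) (Fin k) F} (ha : Irred a) (hk : 0 < k) (c : F) :
    ∃ y : Matrix (Fin k) (Fin k) F, y * a = a * y ∧ y.det = c := by
  obtain ⟨y, hy, hd⟩ := Semisimple.exists_commute_det (Matrix.toLin' a) (irred_semisimple ha)
    (by rw [Module.finrank_fin_fun]; exact hk) c
  refine ⟨LinearMap.toMatrix' y, ?_, by rw [LinearMap.det_toMatrix', hd]⟩
  apply Matrix.toLin'.injective
  rw [Matrix.toLin'_mul, Matrix.toLin'_mul, Matrix.toLin'_toMatrix']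
  exact hy

variable [StarRing F]

/-- An isometry of an invariant nondegenerate frame extends to the centraliser. -/
theorem exists_extend {m : Type*} [Fintype m] [DecidableEq m] (A : Matrix (Fin n) (Fin n) F) (hA : Aᴴ * A = 1)
    (U : Matrix (Fin n) m F) (hU : IsUnit (Uᴴ * U).det) (a : Matrix m m F) (hAU : A * U = U * a)
    (M : Matrix m m F) (hM : Mᴴ * (Uᴴ * U) * M = Uᴴ * U) (hMa : M * a = a * M) :
    ∃ G : Matrix (Fin n) (Fin n) F, Gᴴ * G = 1 ∧ G * A = A * G ∧ G.det = M.det := by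
  obtain ⟨H, hH⟩ : ∃ H, H = Uᴴ * U := ⟨_, rfl⟩
  obtain ⟨K, hK⟩ : ∃ K, K = H⁻¹ := ⟨_, rfl⟩
  rw [← hH] at hU hM
  have hKH : K * H = 1 := by rw [hK]; exact Matrix.nonsing_inv_mul _ hU
  have hHK : H * K = 1 := by rw [hK]; exact Matrix.mul_nonsing_inv _ hU
  have hHs : Hᴴ = H := by rw [hH, Matrix.conjTranspose_mul, Matrix.conjTranspose_conjTranspose]
  have hKs : Kᴴ = K := by rw [hK, Matrix.conjTranspose_nonsing_inv, hHs]
  have haH : aᴴ * H * a = H := by
    rw [hH]
    calc aᴴ * (Uᴴ * U) * a = (U * a)ᴴ * (U * a) := by rw [Matrix.conjTranspose_mul]; simp only [Matrix.mul_assoc]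
      _ = Uᴴ * (Aᴴ * A) * U := by rw [← hAU, Matrix.conjTranspose_mul]; simp only [Matrix.mul_assoc]
      _ = Uᴴ * U := by rw [hA, Matrix.mul_one]
  have hV : K * Uᴴ * A = a * (K * Uᴴ) := by
    have e1 : K * aᴴ * H * a = 1 := by
      rw [Matrix.mul_assoc K, Matrix.mul_assoc K, haH, hKH]
    have e2 : a * (K * aᴴ * H) = 1 := mul_eq_one_comm.1 e1
    have e3 : Uᴴ * Aᴴ = aᴴ * Uᴴ := by
      rw [← Matrix.conjTranspose_mul, ← Matrix.conjTranspose_mul, hAU]
    calc K * Uᴴ * A = a * (K * aᴴ * H) * (K * Uᴴ * A) := by rw [e2, Matrix.one_mul]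
      _ = a * K * (aᴴ * ((H * K) * (Uᴴ * A))) := by simp only [Matrix.mul_assoc]
      _ = a * K * ((aᴴ * Uᴴ) * A) := by rw [hHK, Matrix.one_mul, ← Matrix.mul_assoc aᴴ]
      _ = a * (K * Uᴴ) := by rw [← e3, Matrix.mul_assoc Uᴴ, hA, Matrix.mul_one, Matrix.mul_assoc]
  obtain ⟨X, hX⟩ : ∃ X, X = (M - 1) * K := ⟨_, rfl⟩
  refine ⟨1 + U * X * Uᴴ, ?_, ?_, ?_⟩
  · have e : Xᴴ + X + Xᴴ * H * X = 0 := by
      have e1 : Xᴴ = K * (Mᴴ - 1) := by
        rw [hX, Matrix.conjTranspose_mul, Matrix.conjTranspose_sub, Matrix.conjTranspose_one, hKs]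
      have e2 : X = K * (H * (M - 1)) * K := by rw [← Matrix.mul_assoc K, hKH, Matrix.one_mul, hX]
      have e3 : Xᴴ = K * ((Mᴴ - 1) * H) * K := by
        rw [e1, Matrix.mul_assoc K, Matrix.mul_assoc _ H, hHK, Matrix.mul_one]
      have e4 : Xᴴ * H * X = K * ((Mᴴ - 1) * H * (M - 1)) * K := by
        rw [e1, hX]; simp only [Matrix.mul_assoc]
      rw [e4, e3, e2, ← Matrix.add_mul, ← Matrix.mul_add, ← Matrix.add_mul, ← Matrix.mul_add]
      have e5 : (Mᴴ - 1) * H + H * (M - 1) + (Mᴴ - 1) * H * (M - 1) = Mᴴ * H * M - H := by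
        simp only [Matrix.sub_mul, Matrix.mul_sub, Matrix.one_mul, Matrix.mul_one]
        abel
      rw [e5, hM, sub_self, Matrix.mul_zero, Matrix.zero_mul]
    calc (1 + U * X * Uᴴ)ᴴ * (1 + U * X * Uᴴ) = 1 + U * (Xᴴ + X + Xᴴ * H * X) * Uᴴ := by
          rw [hH]
          simp only [Matrix.conjTranspose_add, Matrix.conjTranspose_one, Matrix.conjTranspose_mul,
            Matrix.conjTranspose_conjTranspose, Matrix.add_mul, Matrix.mul_add, Matrix.one_mul, Matrix.mul_one,
            Matrix.mul_assoc]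
          abel
      _ = 1 := by rw [e, Matrix.mul_zero, Matrix.zero_mul, add_zero]
  · rw [hX, Matrix.add_mul, Matrix.mul_add, Matrix.one_mul, Matrix.mul_one]
    congr 1
    calc U * ((M - 1) * K) * Uᴴ * A = U * (M - 1) * (K * Uᴴ * A) := by simp only [Matrix.mul_assoc]
      _ = U * ((M - 1) * a) * (K * Uᴴ) := by rw [hV]; simp only [Matrix.mul_assoc]
      _ = A * (U * ((M - 1) * K) * Uᴴ) := by
        rw [Matrix.sub_mul, Matrix.one_mul, hMa, ← Matrix.mul_assoc A, ← Matrix.mul_assoc A, hAU]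
        simp only [Matrix.sub_mul, Matrix.mul_sub, Matrix.one_mul, Matrix.mul_assoc]
  · rw [Matrix.mul_assoc U X, Matrix.det_one_add_mul_comm, hX, Matrix.mul_assoc, ← hH, Matrix.mul_assoc, hKH,
      Matrix.mul_one, add_sub_cancel]

/-- The centraliser of a semisimple unitary element has every norm-one determinant. -/
theorem exists_centralizing_det (hstar : ∀ x : F, star x = x ^ q) (hF : Fintype.card F = q ^ 2) (hn : 0 < n)
    (A : Matrix (Fin n) (Fin n) F) (hA : Aᴴ * A = 1) (hss : Module.End.IsSemisimple (Matrix.toLin' A))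
    (l : F) (hl : star l * l = 1) :
    ∃ G : Matrix (Fin n) (Fin n) F, Gᴴ * G = 1 ∧ G * A = A * G ∧ G.det = l := by
  obtain ⟨μ, hμ0, hμ⟩ : ∃ μ : F, μ ≠ 0 ∧ l * star μ = μ := by
    obtain ⟨x, hx⟩ : ∃ x : F, x + l * star x ≠ 0 := by
      by_contra hc
      push Not at hc
      obtain ⟨b, hb⟩ := Hermitian.exists_star_ne hstar hF
      have h1 := hc 1
      rw [star_one, mul_one] at h1
      have h2 := hc b
      exact hb (by linear_combination (star b) * h1 - h2)
    refine ⟨_, hx, ?_⟩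
    rw [star_add, star_mul, star_star]
    linear_combination x * hl
  by_cases hgood : ∃ (k : ℕ) (U : Matrix (Fin n) (Fin k) F) (a : Matrix (Fin k) (Fin k) F),
      0 < k ∧ IsUnit (Uᴴ * U).det ∧ A * U = U * a ∧ Irred a
  · obtain ⟨k, U, a, hk, hU, hAU, ha⟩ := hgood
    obtain ⟨c, hca, hcd⟩ := exists_det ha hk μ
    obtain ⟨H, hH⟩ : ∃ H, H = Uᴴ * U := ⟨_, rfl⟩
    obtain ⟨d, hd⟩ : ∃ d, d = H⁻¹ * cᴴ * H := ⟨_, rfl⟩
    have hU' : IsUnit H.det := hH ▸ hU
    have hHs : Hᴴ = H := by rw [hH, Matrix.conjTranspose_mul, Matrix.conjTranspose_conjTranspose]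
    have haH : aᴴ * H * a = H := by
      rw [hH]
      calc aᴴ * (Uᴴ * U) * a = (U * a)ᴴ * (U * a) := by rw [Matrix.conjTranspose_mul]; simp only [Matrix.mul_assoc]
        _ = Uᴴ * (Aᴴ * A) * U := by rw [← hAU, Matrix.conjTranspose_mul]; simp only [Matrix.mul_assoc]
        _ = Uᴴ * U := by rw [hA, Matrix.mul_one]
    have hHd : H * d = cᴴ * H := by rw [hd, Matrix.mul_assoc H⁻¹, Matrix.mul_nonsing_inv_cancel_left _ _ hU']
    have hda : d * a = a * d := by
      have ec : cᴴ * aᴴ = aᴴ * cᴴ := by rw [← Matrix.conjTranspose_mul, ← Matrix.conjTranspose_mul, hca]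
      have e1 : aᴴ * (H * (d * a)) = aᴴ * (H * (a * d)) := by
        calc aᴴ * (H * (d * a)) = aᴴ * (H * d) * a := by simp only [Matrix.mul_assoc]
          _ = cᴴ * (aᴴ * H * a) := by rw [hHd, ← Matrix.mul_assoc aᴴ cᴴ, ← ec]; simp only [Matrix.mul_assoc]
          _ = aᴴ * H * a * d := by rw [haH, hHd]
          _ = aᴴ * (H * (a * d)) := by simp only [Matrix.mul_assoc]
      have hadet : IsUnit (aᴴ).det := by
        have := congrArg Matrix.det haH
        rw [Matrix.det_mul, Matrix.det_mul] at this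
        exact isUnit_of_mul_isUnit_left (isUnit_of_mul_isUnit_left (this ▸ hU'))
      have e2 := congrArg (fun X => H⁻¹ * ((aᴴ)⁻¹ * X)) e1
      simpa only [Matrix.nonsing_inv_mul_cancel_left _ _ hadet, Matrix.nonsing_inv_mul_cancel_left _ _ hU'] using e2
    have hcd2 : c * d = d * c := commutant_comm ha hca hda
    have hdd : d.det = star μ := by
      rw [hd, Matrix.det_mul, Matrix.det_mul, Matrix.det_conjTranspose, hcd, mul_comm, ← mul_assoc, ← Matrix.det_mul,
        Matrix.mul_nonsing_inv _ hU', Matrix.det_one, one_mul]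
    have hdu : IsUnit d.det := by rw [hdd, isUnit_iff_ne_zero]; exact star_ne_zero.2 hμ0
    have hdH : dᴴ * H = H * c := by
      have := congrArg Matrix.conjTranspose hHd
      rwa [Matrix.conjTranspose_mul, Matrix.conjTranspose_mul, Matrix.conjTranspose_conjTranspose, hHs] at this
    have hM : (c * d⁻¹)ᴴ * H * (c * d⁻¹) = H := by
      have e1 : cᴴ * H * c = dᴴ * H * d := by
        rw [← hHd, Matrix.mul_assoc, ← hcd2, ← Matrix.mul_assoc, hdH]
      calc (c * d⁻¹)ᴴ * H * (c * d⁻¹) = (d⁻¹)ᴴ * (cᴴ * H * c) * d⁻¹ := by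
            rw [Matrix.conjTranspose_mul]; simp only [Matrix.mul_assoc]
        _ = (d * d⁻¹)ᴴ * H * (d * d⁻¹) := by
            rw [e1, Matrix.conjTranspose_mul]; simp only [Matrix.mul_assoc]
        _ = H := by rw [Matrix.mul_nonsing_inv _ hdu, Matrix.conjTranspose_one, Matrix.one_mul, Matrix.mul_one]
    have hMa : c * d⁻¹ * a = a * (c * d⁻¹) := by
      have e : d⁻¹ * a = a * d⁻¹ := by
        calc d⁻¹ * a = d⁻¹ * (a * d) * d⁻¹ := by
              rw [Matrix.mul_assoc, Matrix.mul_assoc a, Matrix.mul_nonsing_inv _ hdu, Matrix.mul_one]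
          _ = a * d⁻¹ := by rw [← hda, Matrix.nonsing_inv_mul_cancel_left _ _ hdu]
      rw [Matrix.mul_assoc, e, ← Matrix.mul_assoc, hca, Matrix.mul_assoc]
    obtain ⟨G, h1, h2, h3⟩ := exists_extend A hA U hU a hAU (c * d⁻¹) (hH ▸ hM) hMa
    refine ⟨G, h1, h2, ?_⟩
    rw [h3, Matrix.det_mul, Matrix.det_nonsing_inv, Ring.inverse_eq_inv', hcd, hdd, ← div_eq_mul_inv,
      div_eq_iff (star_ne_zero.2 hμ0), hμ]
  -- every irreducible frame is isotropic
  have hiso : ∀ {k : ℕ} (U : Matrix (Fin n) (Fin k) F) (a : Matrix (Fin k) (Fin k) F),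
      0 < k → A * U = U * a → Irred a → Uᴴ * U = 0 := by
    intro k U a hk hAU ha
    have haH : aᴴ * (Uᴴ * U) * a = Uᴴ * U := by
      calc aᴴ * (Uᴴ * U) * a = (U * a)ᴴ * (U * a) := by rw [Matrix.conjTranspose_mul]; simp only [Matrix.mul_assoc]
        _ = Uᴴ * (Aᴴ * A) * U := by rw [← hAU, Matrix.conjTranspose_mul]; simp only [Matrix.mul_assoc]
        _ = Uᴴ * U := by rw [hA, Matrix.mul_one]
    by_cases hU0 : U = 0
    · rw [hU0, Matrix.mul_zero]
    have hUker : LinearMap.ker (Matrix.toLin' U) = ⊥ := by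
      refine (ha _ fun x hx => ?_).resolve_right fun e => hU0 ?_
      · rw [LinearMap.mem_ker, Matrix.toLin'_apply] at hx ⊢
        rw [Matrix.mulVec_mulVec, ← hAU, ← Matrix.mulVec_mulVec, hx, Matrix.mulVec_zero]
      · exact (Matrix.toLin' (R := F)).map_eq_zero_iff.1 (LinearMap.ker_eq_top.1 e)
    have ha0 : a.det ≠ 0 := by
      intro h0
      obtain ⟨v, hv, hv0⟩ := Matrix.exists_mulVec_eq_zero_iff.2 h0
      refine hv (LinearMap.ker_eq_bot.1 hUker ?_)
      rw [Matrix.toLin'_apply, map_zero, ← Matrix.one_mulVec (U *ᵥ v), ← hA, ← Matrix.mulVec_mulVec,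
        Matrix.mulVec_mulVec v A U, hAU, ← Matrix.mulVec_mulVec, hv0, Matrix.mulVec_zero, Matrix.mulVec_zero]
    have haHu : IsUnit (aᴴ).det := by
      rw [Matrix.det_conjTranspose, isUnit_iff_ne_zero]; exact star_ne_zero.2 ha0
    rcases ha (LinearMap.ker (Matrix.toLin' (Uᴴ * U))) (fun x hx => by
        rw [LinearMap.mem_ker, Matrix.toLin'_apply] at hx ⊢
        have e : Uᴴ * U * a = (aᴴ)⁻¹ * (Uᴴ * U) := by
          conv_rhs => rw [← haH, Matrix.mul_assoc, Matrix.nonsing_inv_mul_cancel_left _ _ haHu]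
        rw [Matrix.mulVec_mulVec, e, ← Matrix.mulVec_mulVec, hx, Matrix.mulVec_zero]) with e | e
    · refine absurd ⟨k, U, a, hk, ?_, hAU, ha⟩ hgood
      rw [isUnit_iff_ne_zero]
      intro h0
      obtain ⟨v, hv, hv0⟩ := Matrix.exists_mulVec_eq_zero_iff.2 h0
      exact hv ((Submodule.mem_bot F).1 (e ▸ (by rw [LinearMap.mem_ker, Matrix.toLin'_apply, hv0] :
        v ∈ LinearMap.ker (Matrix.toLin' (Uᴴ * U)))))
    · exact (Matrix.toLin' (R := F)).map_eq_zero_iff.1 (LinearMap.ker_eq_top.1 e)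
  obtain ⟨k, U, W, a, hk, hWU, hAU, -, ha⟩ := exists_frame A ⊤ (by
    intro e
    have h1 := congrArg (fun S : Submodule F (Fin n → F) => Module.finrank F S) e
    simp at h1
    omega) (fun _ _ => Submodule.mem_top)
  have hU0 := hiso U a hk hAU ha
  have hAUH : Uᴴ * Aᴴ = aᴴ * Uᴴ := by rw [← Matrix.conjTranspose_mul, ← Matrix.conjTranspose_mul, hAU]
  have hauu : IsUnit a.det := by
    rw [isUnit_iff_ne_zero]
    intro h0
    obtain ⟨v, hv, hv0⟩ := Matrix.exists_mulVec_eq_zero_iff.2 h0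
    refine hv ?_
    have := congrArg (fun X => (W * Aᴴ * X) *ᵥ v) hAU
    simp only [← Matrix.mul_assoc] at this
    rw [Matrix.mul_assoc W Aᴴ A, hA, Matrix.mul_one, hWU, Matrix.one_mulVec, ← Matrix.mulVec_mulVec, hv0,
      Matrix.mulVec_zero] at this
    exact this
  have hsurj : ∀ y : Fin k → F, ∃ x, Uᴴ *ᵥ x = y := fun y => ⟨Wᴴ *ᵥ y, by
    rw [Matrix.mulVec_mulVec, ← Matrix.conjTranspose_mul, hWU, Matrix.conjTranspose_one, Matrix.one_mulVec]⟩
  have hinv : LinearMap.ker (Matrix.toLin' Uᴴ) ∈ Module.End.invtSubmodule (Matrix.toLin' A) := by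
    rw [Module.End.mem_invtSubmodule_iff_forall_mem_of_mem]
    intro x hx
    rw [LinearMap.mem_ker, Matrix.toLin'_apply] at hx ⊢
    rw [Matrix.toLin'_apply, Matrix.mulVec_mulVec]
    have hau : IsUnit (aᴴ).det := by rw [Matrix.det_conjTranspose]; exact hauu.star
    have e2 : Uᴴ * A = (aᴴ)⁻¹ * Uᴴ := by
      have : Uᴴ = aᴴ * (Uᴴ * A) := by rw [← Matrix.mul_assoc, ← hAUH, Matrix.mul_assoc, hA, Matrix.mul_one]
      conv_rhs => rw [this, Matrix.nonsing_inv_mul_cancel_left _ _ hau]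
    rw [e2, ← Matrix.mulVec_mulVec, hx, Matrix.mulVec_zero]
  obtain ⟨Y, hY, hc⟩ := Module.End.isSemisimple_iff.1 hss _ hinv
  have hY0 : Y ≠ ⊥ := by
    intro e
    rw [e] at hc
    have htop := eq_top_of_isCompl_bot hc
    obtain ⟨x, hx⟩ := hsurj (Pi.single ⟨0, hk⟩ 1)
    have hker : x ∈ LinearMap.ker (Matrix.toLin' Uᴴ) := htop ▸ Submodule.mem_top
    rw [LinearMap.mem_ker, Matrix.toLin'_apply, hx] at hker
    have := congrFun hker ⟨0, hk⟩
    simp at this
  obtain ⟨k', U₁, W₁, b, hk', hWU₁, hAU₁, hUY, hb⟩ := exists_frame A Y hY0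
    (fun x hx => by simpa using (Module.End.mem_invtSubmodule_iff_forall_mem_of_mem _).1 hY x hx)
  have hU1 := hiso U₁ b hk' hAU₁ hb
  obtain ⟨P, hP⟩ : ∃ P, P = Uᴴ * U₁ := ⟨_, rfl⟩
  have hab : aᴴ * P * b = P := by
    rw [hP]
    calc aᴴ * (Uᴴ * U₁) * b = (U * a)ᴴ * (U₁ * b) := by rw [Matrix.conjTranspose_mul]; simp only [Matrix.mul_assoc]
      _ = Uᴴ * (Aᴴ * A) * U₁ := by rw [← hAU, ← hAU₁, Matrix.conjTranspose_mul]; simp only [Matrix.mul_assoc]
      _ = Uᴴ * U₁ := by rw [hA, Matrix.mul_one]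
  have hPinj : Function.Injective (Matrix.toLin' P) := by
    rw [← LinearMap.ker_eq_bot]
    refine (Submodule.eq_bot_iff _).2 fun x hx => ?_
    rw [LinearMap.mem_ker, Matrix.toLin'_apply, hP, ← Matrix.mulVec_mulVec] at hx
    have h1 : U₁ *ᵥ x ∈ LinearMap.ker (Matrix.toLin' Uᴴ) ⊓ Y :=
      ⟨by rw [SetLike.mem_coe, LinearMap.mem_ker, Matrix.toLin'_apply]; exact hx, hUY x⟩
    rw [hc.inf_eq_bot, Submodule.mem_bot] at h1
    have := congrArg (fun v => W₁ *ᵥ v) h1
    simpa [Matrix.mulVec_mulVec, hWU₁] using this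
  have hPsurj : LinearMap.range (Matrix.toLin' P) = ⊤ := by
    -- the range is invariant under the transpose inverse of `a`, so its annihilator is invariant under `a`
    let X : Submodule F (Fin k → F) := LinearMap.ker (Matrix.toLin' Pᴴ)
    have hX : X = ⊥ := by
      refine (ha X fun x hx => ?_).resolve_right fun e => ?_
      · rw [LinearMap.mem_ker, Matrix.toLin'_apply] at hx ⊢
        have e1 : bᴴ * (Pᴴ * a) = Pᴴ := by
          have := congrArg Matrix.conjTranspose hab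
          rwa [Matrix.conjTranspose_mul, Matrix.conjTranspose_mul, Matrix.conjTranspose_conjTranspose] at this
        have hbu : IsUnit (bᴴ).det := by
          rw [Matrix.det_conjTranspose, isUnit_iff_ne_zero, star_ne_zero]
          intro h0
          obtain ⟨v, hv, hv0⟩ := Matrix.exists_mulVec_eq_zero_iff.2 h0
          refine hv (hPinj ?_)
          rw [Matrix.toLin'_apply, Matrix.toLin'_apply, Matrix.mulVec_zero, ← hab, ← Matrix.mulVec_mulVec, hv0,
            Matrix.mulVec_zero]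
        have e2 : bᴴ *ᵥ (Pᴴ *ᵥ (a *ᵥ x)) = 0 := by
          rw [Matrix.mulVec_mulVec, Matrix.mulVec_mulVec, Matrix.mul_assoc, e1, hx]
        have := congrArg (fun v => (bᴴ)⁻¹ *ᵥ v) e2
        simpa [Matrix.mulVec_mulVec, Matrix.nonsing_inv_mul_cancel_left _ _ hbu] using this
      · have hP0 : Pᴴ = 0 := (Matrix.toLin' (R := F)).map_eq_zero_iff.1 (LinearMap.ker_eq_top.1 e)
        have hP0' : P = 0 := by rw [← Matrix.conjTranspose_conjTranspose P, hP0, Matrix.conjTranspose_zero]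
        have := hPinj (a₁ := Pi.single ⟨0, hk'⟩ 1) (a₂ := 0) (by simp [hP0'])
        have := congrFun this ⟨0, hk'⟩
        simp at this
    have h1 := LinearMap.finrank_range_add_finrank_ker (Matrix.toLin' P)
    have h2 := LinearMap.finrank_range_add_finrank_ker (Matrix.toLin' Pᴴ)
    rw [LinearMap.ker_eq_bot.2 hPinj, finrank_bot, Module.finrank_fin_fun] at h1
    rw [show LinearMap.ker (Matrix.toLin' Pᴴ) = ⊥ from hX, finrank_bot, Module.finrank_fin_fun] at h2
    have h3 : Module.finrank F (LinearMap.range (Matrix.toLin' Pᴴ)) ≤ k' :=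
      (Submodule.finrank_le _).trans (Module.finrank_fin_fun F).le
    exact Submodule.eq_top_of_finrank_eq (le_antisymm (Submodule.finrank_le _) (by rw [Module.finrank_fin_fun]; omega))
  have hkk : k' = k := by
    have h1 := LinearMap.finrank_range_add_finrank_ker (Matrix.toLin' P)
    rw [hPsurj, finrank_top, LinearMap.ker_eq_bot.2 hPinj, finrank_bot, Module.finrank_fin_fun,
      Module.finrank_fin_fun] at h1
    omega
  subst hkk
  have hPu : IsUnit P.det := by
    rw [isUnit_iff_ne_zero]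
    intro h0
    obtain ⟨v, hv, hv0⟩ := Matrix.exists_mulVec_eq_zero_iff.2 h0
    exact hv (hPinj (by rw [Matrix.toLin'_apply, hv0, map_zero]))
  -- a hyperbolic pair of frames
  obtain ⟨V, hV⟩ : ∃ V, V = U₁ * P⁻¹ := ⟨_, rfl⟩
  obtain ⟨b', hb'⟩ : ∃ b', b' = P * b * P⁻¹ := ⟨_, rfl⟩
  have hAV : A * V = V * b' := by
    rw [hV, hb', ← Matrix.mul_assoc A, hAU₁, Matrix.mul_assoc U₁ P⁻¹, ← Matrix.mul_assoc P⁻¹ (P * b),
      Matrix.nonsing_inv_mul_cancel_left _ _ hPu, Matrix.mul_assoc]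
  have hUV : Uᴴ * V = 1 := by rw [hV, ← Matrix.mul_assoc, ← hP, Matrix.mul_nonsing_inv _ hPu]
  have hVU : Vᴴ * U = 1 := by
    have := congrArg Matrix.conjTranspose hUV
    rwa [Matrix.conjTranspose_mul, Matrix.conjTranspose_conjTranspose, Matrix.conjTranspose_one] at this
  have hVV : Vᴴ * V = 0 := by
    rw [hV, Matrix.conjTranspose_mul, Matrix.mul_assoc, ← Matrix.mul_assoc U₁ᴴ, hU1, Matrix.zero_mul, Matrix.mul_zero]
  have hab' : aᴴ * b' = 1 := by
    rw [hb', ← Matrix.mul_assoc, ← Matrix.mul_assoc, hab, Matrix.mul_nonsing_inv _ hPu]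
  obtain ⟨y, hya, hyd⟩ := exists_det ha hk μ
  have hyu : IsUnit (yᴴ).det := by rw [Matrix.det_conjTranspose, hyd, isUnit_iff_ne_zero]; exact star_ne_zero.2 hμ0
  obtain ⟨z, hz⟩ : ∃ z, z = (yᴴ)⁻¹ := ⟨_, rfl⟩
  have hyz : yᴴ * z = 1 := by rw [hz]; exact Matrix.mul_nonsing_inv _ hyu
  have hzy : zᴴ * y = 1 := by
    have := congrArg Matrix.conjTranspose hyz
    rwa [Matrix.conjTranspose_mul, Matrix.conjTranspose_conjTranspose, Matrix.conjTranspose_one] at this
  have hzb : z * b' = b' * z := by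
    have e1 : b' * aᴴ = 1 := mul_eq_one_comm.1 hab'
    have e2 : z * yᴴ = 1 := mul_eq_one_comm.1 hyz
    have ec : yᴴ * aᴴ = aᴴ * yᴴ := by rw [← Matrix.conjTranspose_mul, ← Matrix.conjTranspose_mul, hya]
    calc z * b' = (z * b') * ((yᴴ * aᴴ) * (b' * z)) := by
          rw [Matrix.mul_assoc yᴴ, ← Matrix.mul_assoc aᴴ, hab', Matrix.one_mul, hyz, Matrix.mul_one]
      _ = z * ((b' * aᴴ) * yᴴ) * (b' * z) := by rw [ec]; simp only [Matrix.mul_assoc]
      _ = b' * z := by rw [e1, Matrix.one_mul, e2, Matrix.one_mul]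
  obtain ⟨G, h1, h2, h3⟩ := exists_extend A hA (Matrix.fromCols U V)
    (m := Fin k' ⊕ Fin k') (by
      rw [Matrix.conjTranspose_fromCols_eq_fromRows_conjTranspose, Matrix.fromRows_mul_fromCols, hU0, hUV, hVU, hVV]
      refine Matrix.isUnit_det_of_left_inverse (B := Matrix.fromBlocks 0 1 1 0) ?_
      simp [Matrix.fromBlocks_multiply, Matrix.fromBlocks_one])
    (Matrix.fromBlocks a 0 0 b') (by
      rw [Matrix.mul_fromCols, Matrix.fromCols_mul_fromBlocks, hAU, hAV, Matrix.mul_zero, Matrix.mul_zero, add_zero,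
        zero_add])
    (Matrix.fromBlocks y 0 0 z) (by
      rw [Matrix.conjTranspose_fromCols_eq_fromRows_conjTranspose, Matrix.fromRows_mul_fromCols, hU0, hUV, hVU, hVV,
        Matrix.fromBlocks_conjTranspose, Matrix.fromBlocks_multiply, Matrix.fromBlocks_multiply]
      simp [hyz, hzy])
    (by rw [Matrix.fromBlocks_multiply, Matrix.fromBlocks_multiply]; simp [hya, hzb])
  refine ⟨G, h1, h2, ?_⟩
  rw [h3, Matrix.det_fromBlocks_zero₁₂, hz, Matrix.det_nonsing_inv, Ring.inverse_eq_inv', Matrix.det_conjTranspose,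
    hyd, ← div_eq_mul_inv, div_eq_iff (star_ne_zero.2 hμ0), hμ]

variable {p : ℕ} [Fact p.Prime] [CharP F p]

/-- Semisimple elements of `SU` with equal characteristic polynomial are conjugate. -/
theorem conj_of_charpoly (hstar : ∀ x : F, star x = x ^ q) (hF : Fintype.card F = q ^ 2)
    (g h : ↥(Cfsg.SU n F q)) (hg : (orderOf g).Coprime p) (hh : (orderOf h).Coprime p)
    (hc : g.1.1.charpoly = h.1.1.charpoly) : IsConj g h := by
  rcases Nat.eq_zero_or_pos n with rfl | hn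
  · have : g = h := Subtype.ext (Subtype.ext (Matrix.ext fun i => i.elim0))
    rw [this]
  have ho : ∀ x : ↥(Cfsg.SU n F q), orderOf (Matrix.SpecialLinearGroup.toGL x.1) = orderOf x := fun x => by
    rw [orderOf_injective _ Matrix.SpecialLinearGroup.toGL_injective, Subgroup.orderOf_coe]
  refine UnitarySquareZero.conj_SU hstar hF g h
    (Semisimple.isConj_of_charpoly p _ _ (by rw [ho]; exact hg) (by rw [ho]; exact hh) hc) fun l hl => ?_
  exact exists_centralizing_det hstar hF hn g.1.1 (Unitary.conjTranspose_mul_self hstar g)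
    (Semisimple.matrix_isSemisimple p (Matrix.SpecialLinearGroup.toGL g.1) (by rw [ho]; exact hg)) l hl

end Cfsg.Agent.Small.UnitarySemisimple
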