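import Cfsg.Agent.Lib.Small.UnitaryConj
import Cfsg.Agent.Lib.Small.JordanType
import Cfsg.Agent.Lib.Small.Unitary.Basic

/-!
# Unitary elements with `(a - 1) ^ 2 = 0`

Their centraliser in the general unitary group has every needed determinant, so conjugacy in `SU` is conjugacy
in `GL`, which is decided by the rank of `a - 1`.
-/

set_option autoImplicit false
set_option linter.unusedSectionVars false

namespace Cfsg.Agent.Small.UnitarySquareZero

open Matrix Cfsg.Agent.Small.Unitary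

open scoped MatrixGroups

variable {F : Type*} [Field F] {n : ℕ}

theorem nil_eq (g : GL (Fin n) F) : JordanType.nil g = Matrix.toLin' (g.1 - 1) := by
  rw [map_sub, Matrix.toLin'_one]
  rfl

/-- Square zero unipotents are classified by their rank. -/
theorem conj_of_sq_zero {g h : GL (Fin n) F} (hg : (g.1 - 1) * (g.1 - 1) = 0) (hh : (h.1 - 1) * (h.1 - 1) = 0)
    (hr : (g.1 - 1).rank = (h.1 - 1).rank) : IsConj g h := by
  have hsq : ∀ x : GL (Fin n) F, (x.1 - 1) * (x.1 - 1) = 0 → JordanType.nil x ^ 2 = 0 := fun x hx => by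
    rw [nil_eq, pow_two, Module.End.mul_eq_comp, ← Matrix.toLin'_mul, hx, map_zero]
  obtain ⟨μ, hμ⟩ := JordanType.exists_type g ⟨2, hsq g hg⟩
  obtain ⟨ν, hν⟩ := JordanType.exists_type h ⟨2, hsq h hh⟩
  suffices μ = ν by subst this; exact JordanType.conj_of_type hμ hν
  obtain ⟨t, k, b, hb, hk⟩ := hμ
  obtain ⟨t', k', b', hb', hk'⟩ := hν
  refine Nat.Partition.ext ?_
  rw [← hk, ← hk']
  refine JordanType.parts_eq_of_ranks k k' fun r => ?_
  rw [← hb.finrank_range, ← hb'.finrank_range]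
  rcases r with _ | _ | r
  · rw [pow_zero, pow_zero]
  · rw [pow_one, pow_one, nil_eq, nil_eq]
    exact hr
  · rw [pow_eq_zero_of_le (by omega) (hsq g hg), pow_eq_zero_of_le (by omega) (hsq h hh)]

theorem rank_of_conj {g h : GL (Fin n) F} (hc : IsConj g h) : (g.1 - 1).rank = (h.1 - 1).rank := by
  obtain ⟨c, rfl⟩ := isConj_iff.1 hc
  have e : (c * g * c⁻¹).1 - 1 = c.1 * (g.1 - 1) * (c⁻¹).1 := by
    rw [mul_sub, sub_mul, mul_one, Units.mul_inv, Units.val_mul, Units.val_mul]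
  rw [e, Matrix.rank_mul_eq_left_of_isUnit_det _ _ ((Matrix.isUnit_iff_isUnit_det _).1 (c⁻¹).isUnit),
    Matrix.rank_mul_eq_right_of_isUnit_det _ _ ((Matrix.isUnit_iff_isUnit_det _).1 c.isUnit)]

variable [Fintype F] [StarRing F] {q : ℕ}

/-- A hermitian projection gives elements with prescribed determinant in the centraliser. -/
theorem exists_scaling {k : ℕ} (A : Matrix (Fin n) (Fin n) F) (U : Matrix (Fin n) (Fin k) F)
    (hU : IsUnit (Uᴴ * U).det) (R R' : Matrix (Fin k) (Fin k) F) (hR : A * U = U * R) (hR' : Aᴴ * U = U * R')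
    (l : F) (hl : star l * l = 1) :
    ∃ G : Matrix (Fin n) (Fin n) F, Gᴴ * G = 1 ∧ G * A = A * G ∧ G.det = l ^ k := by
  obtain ⟨K, hK⟩ : ∃ K, K = (Uᴴ * U)⁻¹ := ⟨_, rfl⟩
  have hKH : K * (Uᴴ * U) = 1 := by rw [hK]; exact Matrix.nonsing_inv_mul _ hU
  have hHK : Uᴴ * U * K = 1 := by rw [hK]; exact Matrix.mul_nonsing_inv _ hU
  have hKs : Kᴴ = K := by
    rw [hK, Matrix.conjTranspose_nonsing_inv, Matrix.conjTranspose_mul, Matrix.conjTranspose_conjTranspose]
  obtain ⟨E, hE⟩ : ∃ E, E = U * K * Uᴴ := ⟨_, rfl⟩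
  have hEs : Eᴴ = E := by
    rw [hE, Matrix.conjTranspose_mul, Matrix.conjTranspose_mul, Matrix.conjTranspose_conjTranspose, hKs,
      Matrix.mul_assoc]
  have hEE : E * E = E := by
    rw [hE, show U * K * Uᴴ * (U * K * Uᴴ) = U * (K * (Uᴴ * U)) * K * Uᴴ by simp only [Matrix.mul_assoc], hKH,
      Matrix.mul_one]
  have hRK : R * K = K * R'ᴴ := by
    have e1 : Uᴴ * U * R = R'ᴴ * (Uᴴ * U) := by
      rw [Matrix.mul_assoc, ← hR, ← Matrix.mul_assoc R'ᴴ, ← Matrix.conjTranspose_mul, ← hR',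
        Matrix.conjTranspose_mul, Matrix.conjTranspose_conjTranspose, Matrix.mul_assoc]
    calc R * K = K * (Uᴴ * U) * R * K := by rw [hKH, Matrix.one_mul]
      _ = K * R'ᴴ * (Uᴴ * U * K) := by rw [Matrix.mul_assoc K, e1]; simp only [Matrix.mul_assoc]
      _ = K * R'ᴴ := by rw [hHK, Matrix.mul_one]
  have hAE : A * E = E * A := by
    rw [hE, ← Matrix.mul_assoc A, ← Matrix.mul_assoc A, hR, Matrix.mul_assoc U R K, hRK, ← Matrix.mul_assoc U K,
      Matrix.mul_assoc _ R'ᴴ, ← Matrix.conjTranspose_mul, ← hR', Matrix.conjTranspose_mul,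
      Matrix.conjTranspose_conjTranspose]
    simp only [Matrix.mul_assoc]
  refine ⟨1 + (l - 1) • E, ?_, ?_, ?_⟩
  · rw [Matrix.conjTranspose_add, Matrix.conjTranspose_one, Matrix.conjTranspose_smul, hEs, star_sub, star_one,
      add_mul, one_mul, mul_add, mul_one, Matrix.smul_mul, Matrix.mul_smul, hEE, smul_smul, add_assoc, ← add_smul,
      ← add_smul]
    rw [show l - 1 + (star l - 1 + (star l - 1) * (l - 1)) = star l * l - 1 by ring, hl, sub_self, zero_smul,
      add_zero]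
  · rw [add_mul, one_mul, mul_add, mul_one, Matrix.smul_mul, Matrix.mul_smul, hAE]
  · rw [hE, ← Matrix.smul_mul, Matrix.det_one_add_mul_comm, Matrix.mul_smul, ← Matrix.mul_assoc, hHK,
      ← sub_add_cancel l 1, add_sub_cancel_right, add_comm (l - 1)]
    rw [show (1 : Matrix (Fin k) (Fin k) F) + (l - 1) • 1 = (1 + (l - 1)) • 1 by rw [add_smul, one_smul],
      Matrix.det_smul, Matrix.det_one, mul_one, Fintype.card_fin]

/-- A sesquilinear form over the quadratic extension with zero diagonal is zero. -/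
theorem sesq_zero (hstar : ∀ x : F, star x = x ^ q) (hF : Fintype.card F = q ^ 2) {k : ℕ}
    (M : Matrix (Fin k) (Fin k) F) (h : ∀ x : Fin k → F, star x ⬝ᵥ (M *ᵥ x) = 0) : M = 0 := by
  obtain ⟨c, hc⟩ := Hermitian.exists_star_ne hstar hF
  ext i j
  have hd : ∀ m, M m m = 0 := fun m => by
    have h1 := h (Pi.single m 1)
    simpa [dotProduct, Pi.single_apply, Matrix.mulVec, apply_ite star] using h1
  have hcross : ∀ r : F, r * M i j + star r * M j i = 0 := fun r => by
    have h1 := h (Pi.single i 1 + r • Pi.single j 1)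
    rw [Matrix.mulVec_add, Matrix.mulVec_smul, Matrix.mulVec_single_one, Matrix.mulVec_single_one, star_add,
      star_smul, add_dotProduct, smul_dotProduct, dotProduct_add, dotProduct_add, dotProduct_smul,
      dotProduct_smul] at h1
    simp [dotProduct, Pi.single_apply, apply_ite star, hd] at h1
    exact h1
  have h1 := hcross 1
  have h2 := hcross c
  rw [one_mul, star_one, one_mul] at h1
  have h3 : (c - star c) * M i j = 0 := by linear_combination h2 - star c * h1
  exact (mul_eq_zero.1 h3).resolve_left (sub_ne_zero.2 (Ne.symm hc))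

/-- The plane scaling: every square of a norm-one scalar is a determinant in the centraliser. -/
theorem exists_plane (hstar : ∀ x : F, star x = x ^ q) (hF : Fintype.card F = q ^ 2) (A : Matrix (Fin n) (Fin n) F)
    (hA : Aᴴ * A = 1) (h2 : (A - 1) * (A - 1) = 0) (h1 : A ≠ 1) (l : F) (hl : star l * l = 1) :
    ∃ G : Matrix (Fin n) (Fin n) F, Gᴴ * G = 1 ∧ G * A = A * G ∧ G.det = l ^ 2 := by
  obtain ⟨w, hw⟩ : ∃ w : Fin n → F, herm w ((A - 1) *ᵥ w) ≠ 0 := by
    by_contra hcon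
    exact h1 (sub_eq_zero.1 (sesq_zero hstar hF (A - 1) fun x => by
      by_contra hx
      exact hcon ⟨x, hx⟩))
  obtain ⟨u, hu⟩ : ∃ u, u = (A - 1) *ᵥ w := ⟨_, rfl⟩
  rw [← hu] at hw
  have hAi : Aᴴ = 1 - (A - 1) := by
    refine left_inv_eq_right_inv hA ?_
    linear_combination (norm := noncomm_ring) (-1 : Matrix (Fin n) (Fin n) F) * h2
  have hAw : A *ᵥ w = w + u := by rw [hu, Matrix.sub_mulVec, Matrix.one_mulVec, add_sub_cancel]
  have hAu : A *ᵥ u = u := by
    have e := congrArg (fun M => M *ᵥ w) h2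
    simp only [Matrix.zero_mulVec, ← Matrix.mulVec_mulVec, ← hu] at e
    rwa [Matrix.sub_mulVec, Matrix.one_mulVec, sub_eq_zero] at e
  have hHw : Aᴴ *ᵥ w = w - u := by rw [hAi, Matrix.sub_mulVec, Matrix.one_mulVec, hu]
  have hHu : Aᴴ *ᵥ u = u := by
    rw [hAi, Matrix.sub_mulVec, Matrix.one_mulVec, Matrix.sub_mulVec, Matrix.one_mulVec, hAu, sub_self, sub_zero]
  have huu : herm u u = 0 := by
    have e : herm (A *ᵥ w) (A *ᵥ u) = herm w u := by
      rw [herm, Matrix.star_mulVec, ← Matrix.dotProduct_mulVec, Matrix.mulVec_mulVec, hA, Matrix.one_mulVec]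
      rfl
    rw [hAw, hAu, herm_add_left] at e
    simpa using e
  obtain ⟨U, hU⟩ : ∃ U : Matrix (Fin n) (Fin 2) F, U = Matrix.of fun i j => ![w, u] j i := ⟨_, rfl⟩
  have hgram : ∀ i j, (Uᴴ * U) i j = herm (![w, u] i) (![w, u] j) := fun i j => by rw [hU]; rfl
  have hdet : IsUnit (Uᴴ * U).det := by
    rw [Matrix.det_fin_two, hgram, hgram, hgram, hgram, isUnit_iff_ne_zero]
    simp only [Matrix.cons_val_zero, Matrix.cons_val_one]
    rw [huu, mul_zero, zero_sub, neg_ne_zero, mul_ne_zero_iff, ← star_herm w u]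
    exact ⟨hw, star_ne_zero.2 hw⟩
  have hmul : ∀ (B : Matrix (Fin n) (Fin n) F) (R : Matrix (Fin 2) (Fin 2) F),
      (∀ j, B *ᵥ (![w, u] j) = R 0 j • w + R 1 j • u) → B * U = U * R := fun B R hB => by
    ext i j
    have e := congrFun (hB j) i
    rw [Matrix.mul_apply, Matrix.mul_apply, Fin.sum_univ_two, hU]
    simp only [Matrix.of_apply, Matrix.cons_val_zero, Matrix.cons_val_one]
    refine e.trans ?_
    simp [mul_comm]
  refine exists_scaling A U hdet !![1, 0; 1, 1] !![1, 0; -1, 1] (hmul _ _ ?_) (hmul _ _ ?_) l hl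
  · intro j
    fin_cases j <;> simp [hAw, hAu]
  · intro j
    fin_cases j <;> simp [hHw, hHu, sub_eq_add_neg]

/-- The line scaling: a transvection in dimension at least three centralises every determinant. -/
theorem exists_line (hstar : ∀ x : F, star x = x ^ q) (hF : Fintype.card F = q ^ 2) (hn : 3 ≤ n)
    (A : Matrix (Fin n) (Fin n) F) (hA : Aᴴ * A = 1) (hr : (A - 1).rank = 1) (l : F) (hl : star l * l = 1) :
    ∃ G : Matrix (Fin n) (Fin n) F, Gᴴ * G = 1 ∧ G * A = A * G ∧ G.det = l := by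
  obtain ⟨v, hv, hvv⟩ : ∃ v : Fin n → F, A *ᵥ v = v ∧ herm v v ≠ 0 := by
    by_contra hcon
    obtain ⟨K, hKd⟩ : ∃ K, K = LinearMap.ker (A - 1).mulVecLin := ⟨_, rfl⟩
    have hdim : 1 + Module.finrank F K = n := by
      rw [hKd, ← hr, Matrix.rank, LinearMap.finrank_range_add_finrank_ker, Module.finrank_fin_fun]
    obtain ⟨B, hB⟩ : ∃ B : Matrix (Fin n) (Fin (Module.finrank F K)) F, Matrix.toLin' B =
        K.subtype.comp ((Module.finBasis F K).equivFun.symm : (Fin _ → F) →ₗ[F] K) :=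
      Matrix.toLin'.surjective _
    have hBinj : LinearMap.ker (Matrix.toLin' B) = ⊥ := by
      rw [hB, LinearMap.ker_eq_bot]
      exact K.injective_subtype.comp (Module.finBasis F K).equivFun.symm.injective
    have hBK : ∀ x, B *ᵥ x ∈ K := fun x => by
      rw [← Matrix.toLin'_apply, hB]
      exact Submodule.coe_mem _
    have hzero : Bᴴ * B = 0 := sesq_zero hstar hF _ fun x => by
      rw [← Matrix.mulVec_mulVec, Matrix.dotProduct_mulVec, ← Matrix.star_mulVec]
      by_contra hx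
      refine hcon ⟨B *ᵥ x, ?_, hx⟩
      have h1 := (SetLike.ext_iff.1 hKd (B *ᵥ x)).1 (hBK x)
      rw [LinearMap.mem_ker, Matrix.mulVecLin_apply, Matrix.sub_mulVec, Matrix.one_mulVec, sub_eq_zero] at h1
      exact h1
    obtain ⟨W, hW⟩ := (Matrix.toLin' B).exists_leftInverse_of_injective hBinj
    have hWB : LinearMap.toMatrix' W * B = 1 := by
      apply Matrix.toLin'.injective
      rw [Matrix.toLin'_mul, Matrix.toLin'_toMatrix', hW, Matrix.toLin'_one]
    have hsurj : Function.Surjective (Matrix.toLin' Bᴴ) := fun y => ⟨(LinearMap.toMatrix' W)ᴴ *ᵥ y, by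
      rw [Matrix.toLin'_apply, Matrix.mulVec_mulVec, ← Matrix.conjTranspose_mul, hWB, Matrix.conjTranspose_one,
        Matrix.one_mulVec]⟩
    have h1 := LinearMap.finrank_range_add_finrank_ker (Matrix.toLin' Bᴴ)
    rw [LinearMap.range_eq_top.2 hsurj, finrank_top, Module.finrank_fin_fun, Module.finrank_fin_fun] at h1
    have h3 := LinearMap.finrank_range_add_finrank_ker (Matrix.toLin' B)
    rw [hBinj, finrank_bot, add_zero, Module.finrank_fin_fun] at h3
    have h4 : LinearMap.range (Matrix.toLin' B) ≤ LinearMap.ker (Matrix.toLin' Bᴴ) := by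
      rintro _ ⟨x, rfl⟩
      rw [LinearMap.mem_ker, Matrix.toLin'_apply, Matrix.toLin'_apply, Matrix.mulVec_mulVec, hzero,
        Matrix.zero_mulVec]
    have h5 := Submodule.finrank_mono h4
    omega
  have hHv : Aᴴ *ᵥ v = v := by
    conv_lhs => rw [← hv]
    rw [Matrix.mulVec_mulVec, hA, Matrix.one_mulVec]
  have hmul : ∀ B : Matrix (Fin n) (Fin n) F, B *ᵥ v = v →
      B * Matrix.replicateCol (Fin 1) v = Matrix.replicateCol (Fin 1) v * (1 : Matrix (Fin 1) (Fin 1) F) := fun B hB => by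
    rw [Matrix.mul_one, ← Matrix.replicateCol_mulVec, hB]
  obtain ⟨G, hG, hGA, hGd⟩ := exists_scaling A (Matrix.replicateCol (Fin 1) v)
    (by rw [Matrix.det_fin_one, isUnit_iff_ne_zero]; exact hvv) 1 1 (hmul _ hv) (hmul _ hHv) l hl
  exact ⟨G, hG, hGA, by rw [hGd, pow_one]⟩

/-- Conjugacy in `SU` from conjugacy in `GL`. -/
theorem conj_SU (hstar : ∀ x : F, star x = x ^ q) (hF : Fintype.card F = q ^ 2) (a b : ↥(Cfsg.SU n F q))
    (hc : IsConj (Matrix.SpecialLinearGroup.toGL a.1) (Matrix.SpecialLinearGroup.toGL b.1))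
    (hcent : ∀ l : F, star l * l = 1 →
      ∃ G : Matrix (Fin n) (Fin n) F, Gᴴ * G = 1 ∧ G * a.1.1 = a.1.1 * G ∧ G.det = l) :
    IsConj a b := by
  obtain ⟨g, hg⟩ := isConj_iff.1 ((UnitaryConj.conj_GU hstar hF (PSUn.toU a) (PSUn.toU b)).2 hc)
  have hgu := (PSUn.mem_GU_iff_star hstar _).1 g.2
  have hdet : star g.1.1.det * g.1.1.det = 1 := by
    rw [← Matrix.det_conjTranspose, ← Matrix.det_mul, hgu, Matrix.det_one]
  have hne : g.1.1.det ≠ 0 := fun h => by simp [h] at hdet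
  obtain ⟨G, hG, hGA, hGd⟩ := hcent (g.1.1.det)⁻¹ (by rw [star_inv₀, ← mul_inv, hdet, inv_one])
  have hM : (g.1.1 * G)ᴴ * (g.1.1 * G) = 1 := by
    rw [Matrix.conjTranspose_mul, Matrix.mul_assoc, ← Matrix.mul_assoc (g.1.1ᴴ), hgu, Matrix.one_mul, hG]
  refine isConj_iff.2 ⟨mkSU hstar (g.1.1 * G) hM (by rw [Matrix.det_mul, hGd, mul_inv_cancel₀ hne]), ?_⟩
  rw [mul_inv_eq_iff_eq_mul]
  apply Subtype.ext
  apply Subtype.ext
  show g.1.1 * G * a.1.1 = b.1.1 * (g.1.1 * G)
  have hga : g.1.1 * a.1.1 = b.1.1 * g.1.1 :=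
    congrArg (fun x : ↥(Cfsg.GU n F q) => x.1.1) (mul_inv_eq_iff_eq_mul.1 hg)
  rw [Matrix.mul_assoc, hGA, ← Matrix.mul_assoc, hga, Matrix.mul_assoc]

theorem star_mul_self_mat (hstar : ∀ x : F, star x = x ^ q) (a : ↥(Cfsg.SU n F q)) : (a.1.1)ᴴ * a.1.1 = 1 :=
  Unitary.conjTranspose_mul_self hstar a

/-- Transvections are conjugate. -/
theorem conj_transvection (hstar : ∀ x : F, star x = x ^ q) (hF : Fintype.card F = q ^ 2) (hn : 3 ≤ n)
    (a b : ↥(Cfsg.SU n F q)) (ha : (a.1.1 - 1).rank = 1) (ha2 : (a.1.1 - 1) * (a.1.1 - 1) = 0)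
    (hb : (b.1.1 - 1).rank = 1) (hb2 : (b.1.1 - 1) * (b.1.1 - 1) = 0) : IsConj a b :=
  conj_SU hstar hF a b
    (conj_of_sq_zero (g := Matrix.SpecialLinearGroup.toGL a.1) (h := Matrix.SpecialLinearGroup.toGL b.1)
      ha2 hb2 (ha.trans hb.symm))
    fun l hl => exists_line hstar hF hn a.1.1 (star_mul_self_mat hstar a) ha l hl

/-- Involutions in even characteristic are classified by rank. -/
theorem conj_involution (hstar : ∀ x : F, star x = x ^ q) (hF : Fintype.card F = q ^ 2) [CharP F 2]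
    (a b : ↥(Cfsg.SU n F q)) (ha : orderOf a = 2) (hb : orderOf b = 2)
    (hr : (a.1.1 - 1).rank = (b.1.1 - 1).rank) : IsConj a b := by
  have hsq : ∀ x : ↥(Cfsg.SU n F q), orderOf x = 2 → (x.1.1 - 1) * (x.1.1 - 1) = 0 := fun x hx => by
    have e : x ^ 2 = 1 := hx ▸ pow_orderOf_eq_one x
    have e1 : x.1.1 * x.1.1 = 1 := by
      rw [pow_two] at e
      exact congrArg (fun y : ↥(Cfsg.SU n F q) => y.1.1) e
    have h2 : (2 : F) = 0 := CharTwo.two_eq_zero
    rw [sub_mul, mul_sub, mul_one, one_mul, e1]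
    ext i j
    simp only [Matrix.sub_apply, Matrix.zero_apply]
    linear_combination ((1 : Matrix (Fin n) (Fin n) F) i j - x.1.1 i j) * h2
  refine conj_SU hstar hF a b
    (conj_of_sq_zero (g := Matrix.SpecialLinearGroup.toGL a.1) (h := Matrix.SpecialLinearGroup.toGL b.1)
      (hsq a ha) (hsq b hb) hr) fun m hm => ?_
  have hqe : Even q := by
    obtain ⟨k, -, hk⟩ := FiniteField.card F 2
    rw [hF] at hk
    rcases Nat.even_or_odd q with h | h
    · exact h
    · exact absurd (hk ▸ (h.pow (n := 2))) (Nat.not_odd_iff_even.2 (Nat.even_pow.2 ⟨even_two, k.2.ne'⟩))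
  obtain ⟨r, hr2⟩ := hqe
  have hm' : m ^ (q + 1) = 1 := by rw [pow_succ, ← hstar, hm]
  obtain ⟨G, hG, hGA, hGd⟩ := exists_plane hstar hF a.1.1 (star_mul_self_mat hstar a) (hsq a ha)
    (fun h => by
      have : a = 1 := Subtype.ext (Subtype.ext h)
      rw [this, orderOf_one] at ha
      omega)
    (m ^ (r + 1)) (by rw [star_pow, ← mul_pow, hm, one_pow])
  refine ⟨G, hG, hGA, ?_⟩
  rw [hGd, ← pow_mul, show (r + 1) * 2 = q + 1 + 1 by omega, pow_succ, hm', one_mul]

end Cfsg.Agent.Small.UnitarySquareZero
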