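import Cfsg.Agent.Lib.Small.WeaklyClosedUnip

/-! Height and separation tables for the weakly closed subgroups. -/

set_option autoImplicit false
set_option maxRecDepth 100000

namespace Cfsg.Agent.Small.WeakClosed

open Cfsg.Lie

theorem okG2 : tableOK chevG2 [3, 5] 2 = true ∧ sepOK chevG2 2 = true := by
  constructor <;> decide +kernel

theorem okB2 : tableOK chevB2 [3, 4] 2 = true ∧ sepOK chevB2 2 = true := by
  constructor <;> decide +kernel

theorem okD4 : tableOK chevD4 [6, 10, 6, 6] 2 = true ∧ sepOK chevD4 2 = true := by
  constructor <;> decide +kernel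

theorem okF4 : tableOK chevF4 [8, 15, 21, 11] 2 = true ∧ sepOK chevF4 2 = true := by
  constructor <;> decide +kernel

theorem okE6 : tableOK chevE6 [24, 33, 45, 63, 45, 24] 1 = true ∧ sepOK chevE6 1 = true := by
  constructor <;> decide +kernel

theorem okE7 : tableOK chevE7 [34, 49, 66, 96, 75, 52, 27] 1 = true ∧ sepOK chevE7 1 = true := by
  constructor <;> decide +kernel

theorem okE8 : tableOK chevE8 [46, 68, 91, 135, 110, 84, 57, 29] 1 = true ∧ sepOK chevE8 1 = true := by
  constructor <;> decide +kernel

end Cfsg.Agent.Small.WeakClosed
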