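import Cfsg.Agent.Lib.Small.SteinbergValues
import Cfsg.Agent.Lib.Lie.Coeff
import Mathlib.FieldTheory.Finite.Basic

/-!
Weakly closed subgroups of the maximal unipotent subgroup of an untwisted group.
-/

set_option autoImplicit false
set_option synthInstance.maxHeartbeats 400000

namespace Cfsg.Agent.Small.WeakClosed

open Cfsg Cfsg.Lie Cfsg.Agent.Lie Cfsg.Agent.Small.WeylCosets Cfsg.Agent.Small.StChar
open scoped MatrixGroups

/-! ### Tables -/

/-- Scaled height. -/
def ht (D : ChevalleyDatum) (lw : List ℤ) (r : ℕ) : ℤ :=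
  ((List.range D.rank).map fun k => lw.getD k 0 * D.cartan k r).sum

/-- Commutator terms of the simple root a and s of height at most that of r. -/
def lowTerms (D : ChevalleyDatum) (lw : List ℤ) (r a s : ℕ) : List (ℕ × ℤ × ℕ × ℕ) :=
  (D.commTerms (D.simple a) s).filter fun c => decide (ht D lw c.1 ≤ ht D lw r)

/-- r is the sum of k copies of the simple root a and a root s with admissible commutator. -/
def splitOK (D : ChevalleyDatum) (lw : List ℤ) (r a k : ℕ) (cond : ℤ → Bool) : Bool :=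
  match D.chainRoot (D.neg (D.simple a)) r k with
  | none => false
  | some s =>
    decide (D.nroots / 2 ≤ s ∧ s < D.nroots ∧ s ≠ D.simple a ∧ s ≠ D.neg (D.simple a)) &&
    match lowTerms D lw r a s with
    | [(r1, c, i, j)] => decide (k = 1 ∧ r1 = r ∧ i = 1 ∧ j = 1) && cond c
    | [(_, _, i1, j1), (r2, c, i, j)] =>
      decide (k = 2 ∧ i1 = 1 ∧ j1 = 1 ∧ r2 = r ∧ i = 2 ∧ j = 1) && cond c
    | [(_, _, i1, j1), (_, _, i2, j2), (r3, c, i, j)] =>
      decide (k = 3 ∧ i1 = 1 ∧ j1 = 1 ∧ i2 = 2 ∧ j2 = 1 ∧ r3 = r ∧ i = 3 ∧ j = 1) && cond c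
    | _ => false

/-- Every root of height above the simple ones can be split. -/
def rootOK (D : ChevalleyDatum) (lw : List ℤ) (b r : ℕ) : Bool :=
  ((List.range D.rank).any fun a => splitOK D lw r a 1 fun c => decide (c = 1 ∨ c = -1)) ||
  ((List.range D.rank).any fun a => splitOK D lw r a 2 fun c => decide (c = 1 ∨ c = -1)) ||
  (decide (2 ≤ b) &&
    ((List.range D.rank).any fun a => splitOK D lw r a 3 fun c => decide (c = 1 ∨ c = -1)) &&
    ((List.range D.rank).any fun a => splitOK D lw r a 1 fun c => decide (c % 2 = 1)))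

/-- Table check. -/
def tableOK (D : ChevalleyDatum) (lw : List ℤ) (b : ℕ) : Bool :=
  decide (0 < ht D lw (D.simple 0)) &&
  ((List.range D.rank).all fun i => decide (ht D lw (D.simple i) = ht D lw (D.simple 0))) &&
  ((List.range (D.nroots - D.nroots / 2)).all fun m =>
    ((List.range D.rank).any fun i => decide (D.simple i = D.nroots / 2 + m)) ||
      (decide (ht D lw (D.simple 0) < ht D lw (D.nroots / 2 + m)) && rootOK D lw b (D.nroots / 2 + m)))

/-- The value on the simple root j of the exponent vector x·e_k + y·e_l. -/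
def expo (D : ChevalleyDatum) (k l : ℕ) (x y : ℤ) (j : ℕ) : ℤ :=
  x * D.cartan k (D.simple j) + y * D.cartan l (D.simple j)

/-- Torus elements separating two simple roots. -/
def sepOK (D : ChevalleyDatum) (b : ℕ) : Bool :=
  (List.range D.rank).all fun i => (List.range D.rank).all fun j => decide (i = j) ||
    [((1 : ℤ), (0 : ℤ)), (1, 1), (2, 1), (1, 2), (2, 3), (3, 2)].any fun xy =>
      (List.range D.rank).any fun k => (List.range D.rank).any fun l =>
        (decide (expo D k l xy.1 xy.2 i = 0) && decide (expo D k l xy.1 xy.2 j ≠ 0) &&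
            decide ((expo D k l xy.1 xy.2 j).natAbs ≤ b)) ||
        (decide (expo D k l xy.1 xy.2 j = 0) && decide (expo D k l xy.1 xy.2 i ≠ 0) &&
            decide ((expo D k l xy.1 xy.2 i).natAbs ≤ b))

/-! ### Additive relations -/

section Algebra

variable {F A : Type*} [Field F] [CommGroup A]

theorem eq_one_two {f g : F → A} (hf : ∀ a b, f (a + b) = f a * f b) {c c1 : F} (hc : c ≠ 0)
    (hx : ∃ x : F, x ≠ 0 ∧ x ≠ 1)
    (h : ∀ t u : F, g (c1 * (-t) ^ 1 * u ^ 1) * f (c * (-t) ^ 2 * u ^ 1) = 1) (z : F) : f z = 1 := by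
  obtain ⟨x, hx0, hx1⟩ := hx
  set v := z / (c * (x - 1)) with hv
  have key : ∀ s : F, s ≠ 0 → g (c1 * v) * f (c * s * v) = 1 := by
    intro s hs
    have h1 := h (-s) (v / s)
    rw [show c1 * (- -s) ^ 1 * (v / s) ^ 1 = c1 * v by field_simp,
      show c * (- -s) ^ 2 * (v / s) ^ 1 = c * s * v by field_simp] at h1
    exact h1
  have h2 := (key x hx0).trans (key 1 one_ne_zero).symm
  have h3 := mul_left_cancel h2
  have h4 : f (c * x * v) = f (c * (x - 1) * v) * f (c * 1 * v) := by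
    rw [← hf]; ring_nf
  rw [h3, right_eq_mul] at h4
  rwa [show c * (x - 1) * v = z by
    rw [hv]; field_simp [hc, sub_ne_zero.2 hx1]] at h4

theorem eq_one_three {f g1 g2 : F → A} (hf : ∀ a b, f (a + b) = f a * f b)
    (hg : ∀ a b, g2 (a + b) = g2 a * g2 b) {c c1 c2 : F} (hc : c ≠ 0) (h2 : (2 : F) ≠ 0)
    (hx : ∃ x : F, x ≠ 0 ∧ x ≠ 1 ∧ x ≠ -1)
    (h : ∀ t u : F, g1 (c1 * (-t) ^ 1 * u ^ 1) * g2 (c2 * (-t) ^ 2 * u ^ 1) *
      f (c * (-t) ^ 3 * u ^ 1) = 1) (z : F) : f z = 1 := by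
  obtain ⟨x, hx0, hx1, hx2⟩ := hx
  set v := z / (2 * c * (x - 1)) with hv
  have key : ∀ s : F, s ≠ 0 → g1 (c1 * v) * g2 (c2 * s * v) * f (c * s ^ 2 * v) = 1 := by
    intro s hs
    have h1 := h (-s) (v / s)
    rw [show c1 * (- -s) ^ 1 * (v / s) ^ 1 = c1 * v by field_simp,
      show c2 * (- -s) ^ 2 * (v / s) ^ 1 = c2 * s * v by field_simp,
      show c * (- -s) ^ 3 * (v / s) ^ 1 = c * s ^ 2 * v by field_simp] at h1
    exact h1
  have sq : ∀ y : F, y ≠ 0 → 1 + y ≠ 0 → f (2 * c * y * v) = g1 (c1 * v) := by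
    intro y hy hy'
    have e1 := key 1 one_ne_zero
    have e2 := key y hy
    have e3 := key (1 + y) hy'
    rw [show c2 * (1 + y) * v = c2 * 1 * v + c2 * y * v by ring, hg,
      show c * (1 + y) ^ 2 * v = c * 1 ^ 2 * v + c * y ^ 2 * v + 2 * c * y * v by ring, hf, hf] at e3
    have e4 : (g1 (c1 * v) * g2 (c2 * 1 * v) * f (c * 1 ^ 2 * v)) *
        (g1 (c1 * v) * g2 (c2 * y * v) * f (c * y ^ 2 * v)) * f (2 * c * y * v) =
        g1 (c1 * v) * (g1 (c1 * v) * (g2 (c2 * 1 * v) * g2 (c2 * y * v)) *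
          (f (c * 1 ^ 2 * v) * f (c * y ^ 2 * v) * f (2 * c * y * v))) := by
      simp only [mul_assoc, mul_comm, mul_left_comm]
    rwa [e1, e2, e3, one_mul, one_mul, mul_one] at e4
  have h3 : f (2 * c * x * v) = f (2 * c * 1 * v) :=
    (sq x hx0 (fun h => hx2 (eq_neg_of_add_eq_zero_right h))).trans
      (sq 1 one_ne_zero (by rwa [one_add_one_eq_two])).symm
  have h4 : f (2 * c * x * v) = f (2 * c * (x - 1) * v) * f (2 * c * 1 * v) := by
    rw [← hf]; ring_nf
  rw [h3, right_eq_mul] at h4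
  rwa [show 2 * c * (x - 1) * v = z by
    rw [hv]; field_simp [hc, h2, sub_ne_zero.2 hx1]] at h4

end Algebra

/-- An additive subgroup of a finite field closed under multiplication by squares is trivial or full. -/
theorem mem_of_sq {F : Type*} [Field F] [Finite F] (P : F → Prop)
    (hsub : ∀ a b, P a → P b → P (a - b)) (hsq : ∀ a c, c ≠ 0 → P a → P (c ^ 2 * a))
    {y : F} (hy : P y) (hy0 : y ≠ 0) (z : F) : P z := by
  have h0 : P 0 := by simpa using hsub y y hy hy
  have hs : ∀ c, P (c ^ 2 * y) := by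
    intro c
    rcases eq_or_ne c 0 with rfl | hc
    · simpa using h0
    · exact hsq y c hc hy
  by_cases h2 : ringChar F = 2
  · obtain ⟨c, hc⟩ := FiniteField.isSquare_of_char_two h2 (z / y)
    have h := hs c
    rwa [sq, ← hc, div_mul_cancel₀ _ hy0] at h
  · have h2' : (2 : F) ≠ 0 := Ring.two_ne_zero h2
    have h := hsub _ _ (hs ((z / y + 1) / 2)) (hs ((z / y - 1) / 2))
    rwa [show ((z / y + 1) / 2) ^ 2 * y - ((z / y - 1) / 2) ^ 2 * y = z by field_simp; ring] at h

theorem prod_filter_one {α G : Type*} [Monoid G] (p : α → Bool) (f : α → G) :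
    ∀ L : List α, (∀ a ∈ L, p a = false → f a = 1) → (L.map f).prod = ((L.filter p).map f).prod := by
  intro L
  induction L with
  | nil => intro _; rfl
  | cons m L ih =>
    intro h
    have ih' := ih fun r hr => h r (List.mem_cons_of_mem _ hr)
    rcases Bool.eq_false_or_eq_true (p m) with hm | hm
    · simp [List.filter_cons_of_pos hm, ih']
    · simp [hm, ih', h m List.mem_cons_self hm]

theorem mem_normalizer_of_conj {G : Type*} [Group G] {S : Subgroup G} {g : G}
    (h : S.map (MulAut.conj g).toMonoidHom = S) : g ∈ Subgroup.normalizer (S : Set G) := by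
  refine Subgroup.mem_normalizer_iff.2 fun x => ⟨fun hx => h ▸ ⟨x, hx, rfl⟩, fun hx => ?_⟩
  rw [← h] at hx
  obtain ⟨y, hy, hyx⟩ := hx
  rwa [(MulAut.conj g).injective (a₁ := y) (a₂ := x) hyx] at hy

theorem conj_of_mem_normalizer {G : Type*} [Group G] {S : Subgroup G} {g : G}
    (h : g ∈ Subgroup.normalizer (S : Set G)) : S.map (MulAut.conj g).toMonoidHom = S := by
  refine le_antisymm ?_ fun x hx => ⟨g⁻¹ * x * g, (Subgroup.mem_normalizer_iff''.1 h x).1 hx,
    show g * (g⁻¹ * x * g) * g⁻¹ = x by group⟩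
  rintro _ ⟨y, hy, rfl⟩
  exact (Subgroup.mem_normalizer_iff.1 h y).1 hy

/-! ### Weakly closed subgroups -/

variable {D : ChevalleyDatum} {F : Type*} [Field F] (hF : Facts D)

theorem ht_eq (lw : List ℤ) (r : ℕ) : ht D lw r = psiOf D (fun k => lw.getD k 0) r := by
  unfold psiOf ht
  induction D.rank with
  | zero => simp
  | succ n ih => rw [List.range_succ, List.map_append, List.sum_append, ih, Finset.sum_range_succ]; simp

/-- The roots outside Φ_J of height above m. -/
noncomputable def above (D : ChevalleyDatum) (lw : List ℤ) (J : Set ℕ) (m : ℤ) : List ℕ :=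
  (Facts.radL D J).filter fun r => decide (m < ht D lw r)

theorem mem_above {lw : List ℤ} {J : Set ℕ} {m : ℤ} {r : ℕ} :
    r ∈ above D lw J m ↔ r ∈ Facts.radL D J ∧ m < ht D lw r := by
  simp [above]

/-- The data of the argument. -/
structure Setup {D : ChevalleyDatum} {F : Type*} [Field F] (hF : Facts D)
    (X : Subgroup (GL D.Idx F)) (J : Set ℕ) (lw : List ℤ) (b : ℕ) (l : List (List ℤ)) : Prop where
  table : tableOK D lw b = true
  sep : sepOK D b = true
  coeff : okCoeff D l = true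
  card : b + 2 ≤ Nat.card F
  bpos : 1 ≤ b
  le : X ≤ (hF.tsys F).US (Facts.radL D J)
  normal : (hF.tsys F).B ≤ Subgroup.normalizer (X : Set (GL D.Idx F))
  out : ∀ i : Fin D.rank, i.val ∉ J → ¬ X ≤ (hF.tsys F).US (TorusSys.posNe D i)

variable {X : Subgroup (GL D.Idx F)} {J : Set ℕ} {lw : List ℤ} {b : ℕ} {l : List (List ℤ)}

theorem Setup.ht_simple (S : Setup hF X J lw b l) (i : Fin D.rank) :
    ht D lw (D.simple i.val) = ht D lw (D.simple 0) := by
  have h := S.table
  simp only [tableOK, Bool.and_eq_true, List.all_eq_true, List.mem_range, decide_eq_true_eq] at h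
  exact h.1.2 i.val i.isLt

theorem Setup.ht_zero (S : Setup hF X J lw b l) : 0 < ht D lw (D.simple 0) := by
  have h := S.table
  simp only [tableOK, Bool.and_eq_true, decide_eq_true_eq] at h
  exact h.1.1

theorem Setup.pos_cases (S : Setup hF X J lw b l) {r : ℕ} (h1 : D.nroots / 2 ≤ r) (h2 : r < D.nroots) :
    (∃ i : Fin D.rank, r = D.simple i.val) ∨
      (ht D lw (D.simple 0) < ht D lw r ∧ rootOK D lw b r = true) := by
  have h := S.table
  simp only [tableOK, Bool.and_eq_true, List.all_eq_true, List.mem_range, decide_eq_true_eq,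
    Bool.or_eq_true, List.any_eq_true] at h
  rcases h.2 (r - D.nroots / 2) (by omega) with ⟨i, hi, he⟩ | ⟨he, he'⟩
  · exact Or.inl ⟨⟨i, hi⟩, by rw [he]; omega⟩
  · rw [Nat.add_sub_cancel' h1] at he he'
    exact Or.inr ⟨he, he'⟩

theorem Setup.ht_ge (S : Setup hF X J lw b l) {r : ℕ} (h1 : D.nroots / 2 ≤ r) (h2 : r < D.nroots) :
    ht D lw (D.simple 0) ≤ ht D lw r := by
  rcases S.pos_cases hF h1 h2 with ⟨i, rfl⟩ | ⟨h, -⟩
  · exact (S.ht_simple hF i).ge
  · exact h.le

theorem Setup.ht_comm (_ : Setup hF X J lw b l) {r s : ℕ} (hr : r < D.nroots) (hs : s < D.nroots)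
    {c : ℕ × ℤ × ℕ × ℕ} (hc : c ∈ D.commTerms r s) :
    ht D lw c.1 = c.2.2.1 * ht D lw r + c.2.2.2 * ht D lw s := by
  simp only [ht_eq]
  exact hF.psiOf_commTerms _ hr hs hc

/-- Terms of a commutator of a root outside Φ_J and a positive root. -/
theorem Setup.comm_rad (S : Setup hF X J lw b l) {r s : ℕ} (hr1 : D.nroots / 2 ≤ r)
    (hr : r < D.nroots) (hs1 : D.nroots / 2 ≤ s) (hs : s < D.nroots)
    (h : r ∈ Facts.radL D J ∨ s ∈ Facts.radL D J) {c : ℕ × ℤ × ℕ × ℕ} (hc : c ∈ D.commTerms r s) :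
    c.1 ∈ Facts.radL D J := by
  obtain ⟨hlt, -, -⟩ := hF.commTerms_gt hr hs hr1 hs1 hc
  obtain ⟨h1, h2, -⟩ := hF.commTerms_psi hr hs hc
  rw [Facts.radL_iff S.coeff J hlt, hF.psiOf_commTerms _ hr hs hc]
  have a := (Facts.wJ_spec S.coeff J hr).2.1 hr1
  have a' := (Facts.wJ_spec S.coeff J hs).2.1 hs1
  have h1' : (1 : ℤ) ≤ c.2.2.1 := by exact_mod_cast h1
  have h2' : (1 : ℤ) ≤ c.2.2.2 := by exact_mod_cast h2
  rcases h with h | h
  · have := (Facts.radL_iff S.coeff J hr).1 h
    nlinarith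
  · have := (Facts.radL_iff S.coeff J hs).1 h
    nlinarith

theorem above_le_U (m : ℤ) : (hF.tsys F).US (above D lw J m) ≤ (hF.tsys F).U :=
  CommSys.US_mono _ fun r hr => Facts.mem_posL.2
    ⟨((Facts.mem_radL J).1 (mem_above.1 hr).1).1, ((Facts.mem_radL J).1 (mem_above.1 hr).1).2.1⟩

/-- X together with the roots above m. -/
noncomputable def K (X : Subgroup (GL D.Idx F)) (J : Set ℕ) (lw : List ℤ) (m : ℤ) :
    Subgroup (GL D.Idx F) :=
  X ⊔ (hF.tsys F).US (above D lw J m)

theorem Setup.K_normal (S : Setup hF X J lw b l) (m : ℤ) :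
    (hF.tsys F).B ≤ Subgroup.normalizer (K hF X J lw m : Set (GL D.Idx F)) := by
  have hR : (hF.tsys F).B ≤
      Subgroup.normalizer ((hF.tsys F).US (above D lw J m) : Set (GL D.Idx F)) := by
    refine sup_le (CommSys.US_le _ fun r hr t => ?_) fun a ha => ?_
    · obtain ⟨h1, h2⟩ := Facts.mem_posL.1 hr
      refine (hF.tsys F).x_normalizes h2 (fun s hs => ?_) t
      obtain ⟨hsJ, hsm⟩ := mem_above.1 hs
      obtain ⟨hs1, hs2, -⟩ := (Facts.mem_radL J).1 hsJ
      refine ⟨hs2, fun he => ?_, fun _ c hc => mem_above.2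
        ⟨S.comm_rad hF h1 h2 hs1 hs2 (Or.inr hsJ) hc, ?_⟩⟩
      · have := (hF.neg_ge_iff h2).1 (he ▸ hs1)
        omega
      · obtain ⟨c1, c2, -⟩ := hF.commTerms_psi h2 hs2 hc
        rw [S.ht_comm hF h2 hs2 hc]
        have := S.ht_ge hF h1 h2
        have := S.ht_ge hF hs1 hs2
        have := S.ht_zero hF
        have c1' : (1 : ℤ) ≤ c.2.2.1 := by exact_mod_cast c1
        have c2' : (1 : ℤ) ≤ c.2.2.2 := by exact_mod_cast c2
        nlinarith
    · have hlt : ∀ r ∈ above D lw J m, r < D.nroots := fun r hr =>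
        ((Facts.mem_radL J).1 (mem_above.1 hr).1).2.1
      refine Subgroup.mem_normalizer_iff.2 fun x =>
        ⟨fun hx => (hF.tsys F).H_conj_US ha hlt hx, fun hx => ?_⟩
      have h := (hF.tsys F).H_conj_US (inv_mem ha) hlt hx
      simpa [mul_assoc] using h
  intro g hg
  refine mem_normalizer_of_conj ?_
  rw [K, Subgroup.map_sup, conj_of_mem_normalizer (S.normal hg), conj_of_mem_normalizer (hR hg)]

theorem Setup.normal_inst (S : Setup hF X J lw b l) (m : ℤ) :
    ((K hF X J lw m).subgroupOf (hF.tsys F).U).Normal :=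
  Subgroup.normal_subgroupOf_of_le_normalizer ((hF.tsys F).U_le_B.trans (S.K_normal hF m))

/-- Below: a root outside Φ_J is congruent to elements of height at least its own. -/
def Known (X : Subgroup (GL D.Idx F)) (J : Set ℕ) (lw : List ℤ) (r : ℕ) : Prop :=
  ∀ t : F, hF.xg r t ∈ K hF X J lw (ht D lw r)

theorem Setup.lift (S : Setup hF X J lw b l) {m : ℤ}
    (known : ∀ r ∈ Facts.radL D J, ht D lw r < m → Known hF X J lw r) :
    ∀ r ∈ Facts.radL D J, ∀ t : F, hF.xg r t ∈ K hF X J lw (m - 1) := by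
  intro r
  induction hk : (m - ht D lw r).toNat using Nat.strong_induction_on generalizing r with
  | _ k ih =>
    subst hk
    intro hr t
    by_cases hm : m ≤ ht D lw r
    · exact Subgroup.mem_sup_right (CommSys.x_mem_US _ (mem_above.2 ⟨hr, by omega⟩) t)
    · have hle : K hF X J lw (ht D lw r) ≤ K hF X J lw (m - 1) := by
        refine sup_le le_sup_left (CommSys.US_le _ fun s hs u => ?_)
        obtain ⟨hs1, hs2⟩ := mem_above.1 hs
        exact ih _ (by omega) s rfl hs1 u
      exact hle (known r hr (not_le.1 hm) t)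

/-- The image of a root element in U modulo K_m. -/
noncomputable def img (S : Setup hF X J lw b l) (m : ℤ) (r : ℕ) (t : F)
    (h : D.nroots / 2 ≤ r ∧ r < D.nroots) :
    ↥(hF.tsys F).U ⧸ (K hF X J lw m).subgroupOf (hF.tsys F).U :=
  (⟨hF.xg r t, (hF.tsys F).x_mem_U h.1 h.2 t⟩ : ↥(hF.tsys F).U)

theorem Setup.img_eq_one (S : Setup hF X J lw b l) (m : ℤ) {r : ℕ}
    (h : D.nroots / 2 ≤ r ∧ r < D.nroots) (t : F) :
    haveI := S.normal_inst hF m
    img hF S m r t h = 1 ↔ hF.xg r t ∈ K hF X J lw m := by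
  haveI := S.normal_inst hF m
  rw [img, QuotientGroup.eq_one_iff, Subgroup.mem_subgroupOf]

theorem Setup.img_add (S : Setup hF X J lw b l) (m : ℤ) {r : ℕ}
    (h : D.nroots / 2 ≤ r ∧ r < D.nroots) (t u : F) :
    haveI := S.normal_inst hF m
    img hF S m r (t + u) h = img hF S m r t h * img hF S m r u h := by
  haveI := S.normal_inst hF m
  rw [img, img, img, ← QuotientGroup.mk_mul]
  exact congrArg _ (Subtype.ext (hF.xg_add r t u))

theorem Setup.pos_of_rad {r : ℕ} (hr : r ∈ Facts.radL D J) : D.nroots / 2 ≤ r ∧ r < D.nroots :=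
  ⟨((Facts.mem_radL J).1 hr).1, ((Facts.mem_radL J).1 hr).2.1⟩

/-- The commutator formula in U modulo K_m. -/
theorem Setup.comm_img (S : Setup hF X J lw b l) (m : ℤ) {r s : ℕ}
    (hr : D.nroots / 2 ≤ r ∧ r < D.nroots) (hs : D.nroots / 2 ≤ s ∧ s < D.nroots) (hne : s ≠ r)
    (t u : F) :
    haveI := S.normal_inst hF m
    ∃ W : List (↥(hF.tsys F).U ⧸ (K hF X J lw m).subgroupOf (hF.tsys F).U),
      img hF S m s u hs * img hF S m r t hr = img hF S m r t hr * img hF S m s u hs * W.prod ∧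
      ∃ f : ℕ × ℤ × ℕ × ℕ → ↥(hF.tsys F).U ⧸ (K hF X J lw m).subgroupOf (hF.tsys F).U,
        W = (D.commTerms r s).map f ∧ ∀ c ∈ D.commTerms r s, ∃ hc, f c =
          img hF S m c.1 ((c.2.1 : F) * (-t) ^ c.2.2.1 * u ^ c.2.2.2) hc := by
  classical
  haveI := S.normal_inst hF m
  have hpos : ∀ c ∈ D.commTerms r s, D.nroots / 2 ≤ c.1 ∧ c.1 < D.nroots := fun c hc => by
    obtain ⟨h1, h2, -⟩ := hF.commTerms_gt hr.2 hs.2 hr.1 hs.1 hc
    exact ⟨by omega, h1⟩
  let g : ℕ × ℤ × ℕ × ℕ → ↥(hF.tsys F).U := fun c =>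
    if h : D.nroots / 2 ≤ c.1 ∧ c.1 < D.nroots then
      ⟨hF.xg c.1 ((c.2.1 : F) * (-t) ^ c.2.2.1 * u ^ c.2.2.2), (hF.tsys F).x_mem_U h.1 h.2 _⟩ else 1
  refine ⟨(D.commTerms r s).map fun c => QuotientGroup.mk (g c), ?_, _, rfl,
    fun c hc => ⟨hpos c hc, by simp only [g, dif_pos (hpos c hc)]; rfl⟩⟩
  rw [show ((D.commTerms r s).map fun c =>
      (QuotientGroup.mk (g c) : ↥(hF.tsys F).U ⧸ (K hF X J lw m).subgroupOf (hF.tsys F).U)) =
    ((D.commTerms r s).map g).map (QuotientGroup.mk' _) by rw [List.map_map]; rfl,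
    ← map_list_prod, QuotientGroup.mk'_apply, img, img, ← QuotientGroup.mk_mul, ← QuotientGroup.mk_mul,
    ← QuotientGroup.mk_mul]
  refine congrArg _ (Subtype.ext ?_)
  have hneg : s ≠ D.neg r := by
    intro he
    have := (hF.neg_ge_iff hr.2).1 (he ▸ hs.1)
    omega
  have h := (hF.tsys F).x_comm r s hr.2 hs.2 hne hneg t u
  rw [Subgroup.coe_mul, Subgroup.coe_mul, Subgroup.coe_mul, SubmonoidClass.coe_list_prod]
  refine h.trans (congrArg _ ?_)
  rw [ChevalleyDatum.commWord, List.map_map, List.map_map]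
  refine congrArg List.prod (List.map_congr_left fun c hc => ?_)
  simp only [Function.comp_apply, g, dif_pos (hpos c hc)]
  rfl

/-- Above the level, root elements are central. -/
theorem Setup.central (S : Setup hF X J lw b l) {m : ℤ}
    (known : ∀ r ∈ Facts.radL D J, ht D lw r < m → Known hF X J lw r) {r : ℕ}
    (hr : r ∈ Facts.radL D J) (t : F) :
    haveI := S.normal_inst hF m
    img hF S m r t (Setup.pos_of_rad hr) ∈
      Subgroup.center (↥(hF.tsys F).U ⧸ (K hF X J lw m).subgroupOf (hF.tsys F).U) := by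
  classical
  haveI := S.normal_inst hF m
  set π := QuotientGroup.mk' ((K hF X J lw m).subgroupOf (hF.tsys F).U) with hπ
  set C : Subgroup ↥(hF.tsys F).U :=
    (Subgroup.center (↥(hF.tsys F).U ⧸ (K hF X J lw m).subgroupOf (hF.tsys F).U)).comap π with hC
  have hhigh : ∀ v ∈ above D lw J (m - 1), ∀ u : F, ∀ h : D.nroots / 2 ≤ v ∧ v < D.nroots,
      (⟨hF.xg v u, (hF.tsys F).x_mem_U h.1 h.2 u⟩ : ↥(hF.tsys F).U) ∈ C := by
    intro v hv u hvp
    obtain ⟨hvJ, hvm⟩ := mem_above.1 hv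
    have hcomm : ∀ s (hs : D.nroots / 2 ≤ s ∧ s < D.nroots) (z : F),
        img hF S m s z hs * img hF S m v u hvp = img hF S m v u hvp * img hF S m s z hs := by
      intro s hs z
      by_cases hne : s = v
      · subst hne
        rw [← S.img_add hF m, ← S.img_add hF m, add_comm]
      obtain ⟨W, hW, f, rfl, hf⟩ := S.comm_img hF m hvp hs hne u z
      rw [hW, prod_filter_one (fun _ => false) f _ fun c hc _ => ?_]
      · simp
      · obtain ⟨hcp, he⟩ := hf c hc
        rw [he, S.img_eq_one hF m]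
        refine Subgroup.mem_sup_right (CommSys.x_mem_US _ (mem_above.2
          ⟨S.comm_rad hF hvp.1 hvp.2 hs.1 hs.2 (Or.inl hvJ) hc, ?_⟩) _)
        obtain ⟨c1, c2, -⟩ := hF.commTerms_psi hvp.2 hs.2 hc
        rw [S.ht_comm hF hvp.2 hs.2 hc]
        have := S.ht_ge hF hs.1 hs.2
        have := S.ht_ge hF hvp.1 hvp.2
        have := S.ht_zero hF
        have c1' : (1 : ℤ) ≤ c.2.2.1 := by exact_mod_cast c1
        have c2' : (1 : ℤ) ≤ c.2.2.2 := by exact_mod_cast c2
        nlinarith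
    rw [hC, Subgroup.mem_comap, Subgroup.mem_center_iff]
    intro y
    obtain ⟨⟨y, hy⟩, rfl⟩ := QuotientGroup.mk'_surjective _ y
    have hgen : (hF.tsys F).U ≤ ((Subgroup.centralizer {π ⟨hF.xg v u,
        (hF.tsys F).x_mem_U hvp.1 hvp.2 u⟩}).comap π).map (hF.tsys F).U.subtype := by
      refine CommSys.US_le _ fun s hs z => ?_
      have hs' := Facts.mem_posL.1 hs
      refine ⟨⟨hF.xg s z, (hF.tsys F).x_mem_U hs'.1 hs'.2 z⟩, ?_, rfl⟩
      rw [SetLike.mem_coe, Subgroup.mem_comap, Subgroup.mem_centralizer_iff]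
      rintro _ rfl
      exact (hcomm s hs' z).symm
    obtain ⟨y', hy', hyy⟩ := hgen hy
    obtain rfl : y' = ⟨y, hy⟩ := Subtype.ext hyy
    rw [SetLike.mem_coe, Subgroup.mem_comap, Subgroup.mem_centralizer_iff] at hy'
    exact (hy' _ rfl).symm
  have hle : K hF X J lw (m - 1) ≤ C.map (hF.tsys F).U.subtype := by
    refine sup_le (fun x hx => ?_) (CommSys.US_le _ fun v hv u => ?_)
    · have hxU : x ∈ (hF.tsys F).U := CommSys.US_mono _
        (fun r hr => Facts.mem_posL.2 (Setup.pos_of_rad hr)) (S.le hx)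
      refine ⟨⟨x, hxU⟩, ?_, rfl⟩
      have h1 : π ⟨x, hxU⟩ = 1 :=
        (QuotientGroup.eq_one_iff _).2 (Subgroup.mem_sup_left hx)
      rw [SetLike.mem_coe, hC, Subgroup.mem_comap, h1]
      exact one_mem _
    · have hvp := Setup.pos_of_rad (mem_above.1 hv).1
      exact ⟨_, hhigh v hv u hvp, rfl⟩
  obtain ⟨y, hy, hye⟩ := hle (S.lift hF known r hr t)
  obtain rfl : y = ⟨hF.xg r t, (hF.tsys F).x_mem_U (Setup.pos_of_rad hr).1 (Setup.pos_of_rad hr).2 t⟩ :=
    Subtype.ext hye
  exact hy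

theorem splitOK_cases {lw : List ℤ} {r a k : ℕ} {cond : ℤ → Bool} (h : splitOK D lw r a k cond = true) :
    ∃ s, (D.nroots / 2 ≤ s ∧ s < D.nroots ∧ s ≠ D.simple a) ∧ ∃ c, cond c = true ∧
      (lowTerms D lw r a s = [(r, c, 1, 1)] ∨
        (∃ w c1, lowTerms D lw r a s = [(w, c1, 1, 1), (r, c, 2, 1)]) ∨
        (k = 3 ∧ ∃ w1 c1 w2 c2,
          lowTerms D lw r a s = [(w1, c1, 1, 1), (w2, c2, 2, 1), (r, c, 3, 1)])) := by
  unfold splitOK at h
  split at h
  · exact absurd h Bool.false_ne_true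
  rename_i s hs0
  simp only [Bool.and_eq_true, decide_eq_true_eq] at h
  obtain ⟨⟨hs1, hs2, hsne, -⟩, h⟩ := h
  refine ⟨s, ⟨hs1, hs2, hsne⟩, ?_⟩
  rcases hl : lowTerms D lw r a s with _ | ⟨⟨x1, d1, i1, j1⟩, _ | ⟨⟨x2, d2, i2, j2⟩, _ |
    ⟨⟨x3, d3, i3, j3⟩, _ | ⟨e, L⟩⟩⟩⟩ <;> rw [hl] at h <;>
    simp only [Bool.and_eq_true, decide_eq_true_eq, Bool.false_eq_true] at h
  · obtain ⟨⟨-, rfl, rfl, rfl⟩, hc⟩ := h
    exact ⟨_, hc, Or.inl rfl⟩
  · obtain ⟨⟨-, rfl, rfl, rfl, rfl, rfl⟩, hc⟩ := h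
    exact ⟨_, hc, Or.inr (Or.inl ⟨_, _, rfl⟩)⟩
  · obtain ⟨⟨hk, rfl, rfl, rfl, rfl, rfl, rfl, rfl⟩, hc⟩ := h
    exact ⟨_, hc, Or.inr (Or.inr ⟨hk, _, _, _, _, rfl⟩)⟩

theorem exists_ne_ne [Finite F] {S : Finset F} (h : S.card < Nat.card F) : ∃ x : F, x ∉ S := by
  classical
  have := Fintype.ofFinite F
  by_contra hc
  simp only [not_exists, not_not] at hc
  rw [Finset.eq_univ_of_forall hc, Finset.card_univ, Nat.card_eq_fintype_card] at h
  exact lt_irrefl _ h

/-- A split root is known when the lower ones are. -/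
theorem Setup.step_split [Finite F] (S : Setup hF X J lw b l) {r : ℕ}
    (known : ∀ v ∈ Facts.radL D J, ht D lw v < ht D lw r → Known hF X J lw v)
    (hr : r ∈ Facts.radL D J) {a k : ℕ} (ha : a < D.rank) {cond : ℤ → Bool}
    (hok : splitOK D lw r a k cond = true) (hc : ∀ c, cond c = true → (c : F) ≠ 0)
    (h3 : k = 3 → (2 : F) ≠ 0 ∧ 4 ≤ Nat.card F) : Known hF X J lw r := by
  classical
  set m := ht D lw r with hm
  haveI := S.normal_inst hF m
  letI : CommGroup ↥(Subgroup.center (↥(hF.tsys F).U ⧸ (K hF X J lw m).subgroupOf (hF.tsys F).U)) :=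
    { (inferInstance : Group ↥(Subgroup.center
        (↥(hF.tsys F).U ⧸ (K hF X J lw m).subgroupOf (hF.tsys F).U))) with
      mul_comm := fun x y => Subtype.ext (Subgroup.mem_center_iff.1 y.2 x.1) }
  intro t
  obtain ⟨s, ⟨hs1, hs2, hsne⟩, c, hcc, hcases⟩ := splitOK_cases hok
  have hα : D.nroots / 2 ≤ D.simple a ∧ D.simple a < D.nroots := ⟨hF.simple_ge a ha, hF.simple_lt a ha⟩
  -- all low terms lie outside Φ_J
  have hterm : ∀ e ∈ lowTerms D lw r a s, e ∈ D.commTerms (D.simple a) s :=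
    fun e he => (List.mem_filter.1 he).1
  have hrmem : ∃ e ∈ D.commTerms (D.simple a) s, e.1 = r := by
    rcases hcases with heq | ⟨w, c1, heq⟩ | ⟨-, w1, c1, w2, c2, heq⟩
    · exact ⟨(r, c, 1, 1), hterm _ (by rw [heq]; simp), rfl⟩
    · exact ⟨(r, c, 2, 1), hterm _ (by rw [heq]; simp), rfl⟩
    · exact ⟨(r, c, 3, 1), hterm _ (by rw [heq]; simp), rfl⟩
  obtain ⟨c0, hc0, hc0r⟩ := hrmem
  have hor : D.simple a ∈ Facts.radL D J ∨ s ∈ Facts.radL D J := by
    have h1 := (Facts.radL_iff S.coeff J (Setup.pos_of_rad hr).2).1 hr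
    have e : psiOf D (Facts.wJ D l J) r = c0.2.2.1 * psiOf D (Facts.wJ D l J) (D.simple a) +
        c0.2.2.2 * psiOf D (Facts.wJ D l J) s := by
      rw [← hc0r]; exact hF.psiOf_commTerms _ hα.2 hs2 hc0
    by_contra hcon
    simp only [Facts.radL_iff S.coeff J hα.2, Facts.radL_iff S.coeff J hs2, not_or, not_lt] at hcon
    rw [e] at h1
    nlinarith [hcon.1, hcon.2]
  have hlow : ∀ v (hv : v ∈ Facts.radL D J), ∀ z, img hF S m v z (Setup.pos_of_rad hv) ∈
      Subgroup.center (↥(hF.tsys F).U ⧸ (K hF X J lw m).subgroupOf (hF.tsys F).U) :=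
    fun v hv z => S.central hF known hv z
  let E : ℕ → F → ↥(Subgroup.center (↥(hF.tsys F).U ⧸ (K hF X J lw m).subgroupOf (hF.tsys F).U)) :=
    fun v z => if hv : v ∈ Facts.radL D J then ⟨_, hlow v hv z⟩ else 1
  have hEadd : ∀ v, v ∈ Facts.radL D J → ∀ x y, E v (x + y) = E v x * E v y := fun v hv x y => by
    simp only [E, dif_pos hv]
    exact Subtype.ext (S.img_add hF m (Setup.pos_of_rad hv) x y)
  have heqn : ∀ x z : F, ((lowTerms D lw r a s).map fun c =>
      E c.1 ((c.2.1 : F) * (-x) ^ c.2.2.1 * z ^ c.2.2.2)).prod = 1 := by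
    intro x z
    obtain ⟨W, hW, f, rfl, hf⟩ := S.comm_img hF m hα ⟨hs1, hs2⟩ hsne x z
    have hsc : img hF S m s z ⟨hs1, hs2⟩ * img hF S m (D.simple a) x hα =
        img hF S m (D.simple a) x hα * img hF S m s z ⟨hs1, hs2⟩ := by
      rcases hor with h | h
      · exact Subgroup.mem_center_iff.1 (hlow _ h x) _
      · exact (Subgroup.mem_center_iff.1 (hlow _ h z) _).symm
    rw [hsc, left_eq_mul] at hW
    rw [prod_filter_one (fun c => decide (ht D lw c.1 ≤ ht D lw r)) f] at hW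
    · apply Subtype.ext
      rw [SubmonoidClass.coe_list_prod, List.map_map, OneMemClass.coe_one]
      refine Eq.trans ?_ hW
      refine congrArg List.prod (List.map_congr_left fun c hc => ?_)
      obtain ⟨hcp, he⟩ := hf c (hterm c hc)
      have hcJ := S.comm_rad hF hα.1 hα.2 hs1 hs2 hor (hterm c hc)
      rw [he, Function.comp_apply]
      simp only [E, dif_pos hcJ]
    · intro c hc hcf
      obtain ⟨hcp, he⟩ := hf c hc
      rw [he, S.img_eq_one hF m]
      refine Subgroup.mem_sup_right (CommSys.x_mem_US _ (mem_above.2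
        ⟨S.comm_rad hF hα.1 hα.2 hs1 hs2 hor hc, ?_⟩) _)
      simpa using hcf
  have hgoal : E r t = 1 → hF.xg r t ∈ K hF X J lw (ht D lw r) := by
    intro h
    simp only [E, dif_pos hr] at h
    exact (S.img_eq_one hF m (Setup.pos_of_rad hr) t).1 (congrArg Subtype.val h)
  apply hgoal
  have hnot : ∀ {x : F}, x ∉ ({(0 : F), 1} : Finset F) → x ≠ 0 ∧ x ≠ 1 := fun hx => by
    simpa [not_or] using hx
  rcases hcases with heq | ⟨w, c1, heq⟩ | ⟨hk, w1, c1, w2, c2, heq⟩
  · have := heqn (-1) (t / (c : F))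
    rw [heq] at this
    simpa [mul_div_cancel₀ t (hc c hcc)] using this
  · obtain ⟨x, hx⟩ := exists_ne_ne (S := {(0 : F), 1}) (lt_of_le_of_lt Finset.card_le_two
      (by have := S.card; have := S.bpos; omega))
    refine eq_one_two (g := E w) (hEadd _ hr) (hc c hcc) ⟨x, hnot hx⟩ (c1 := (c1 : F))
      (fun x z => ?_) t
    have := heqn x z
    rw [heq] at this
    simpa using this
  · obtain ⟨h2, h4⟩ := h3 hk
    obtain ⟨x, hx⟩ := exists_ne_ne (S := {(0 : F), 1, -1}) (lt_of_le_of_lt Finset.card_le_three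
      (by omega))
    simp only [Finset.mem_insert, Finset.mem_singleton, not_or] at hx
    have hw2 : w2 ∈ Facts.radL D J :=
      S.comm_rad hF hα.1 hα.2 hs1 hs2 hor (c := (w2, c2, 2, 1)) (hterm _ (by rw [heq]; simp))
    refine eq_one_three (g1 := E w1) (g2 := E w2) (hEadd _ hr) (hEadd _ hw2) (hc c hcc) h2
      ⟨x, hx.1, hx.2.1, hx.2.2⟩ (c1 := (c1 : F)) (c2 := (c2 : F)) (fun x z => ?_) t
    have := heqn x z
    rw [heq] at this
    simpa [mul_assoc] using this

/-- The roots of least height outside Φ_J. -/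
noncomputable def low (D : ChevalleyDatum) (lw : List ℤ) (J : Set ℕ) : List ℕ :=
  (Facts.radL D J).filter fun r => decide (ht D lw r ≤ ht D lw (D.simple 0))

theorem mem_low {lw : List ℤ} {J : Set ℕ} {r : ℕ} :
    r ∈ low D lw J ↔ r ∈ Facts.radL D J ∧ ht D lw r ≤ ht D lw (D.simple 0) := by
  simp [low]

/-- Coordinate vectors on the lowest roots occurring in X. -/
def Vec0 (X : Subgroup (GL D.Idx F)) (J : Set ℕ) (lw : List ℤ) (t : ℕ → F) : Prop :=
  (hF.tsys F).prodOver (low D lw J) t ∈ K hF X J lw (ht D lw (D.simple 0))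

theorem Setup.no_lower (S : Setup hF X J lw b l) :
    ∀ r ∈ Facts.radL D J, ht D lw r < ht D lw (D.simple 0) → Known hF X J lw r :=
  fun _ hr h => absurd h (not_lt.2 (S.ht_ge hF (Setup.pos_of_rad hr).1 (Setup.pos_of_rad hr).2))

theorem Setup.vec_sub (S : Setup hF X J lw b l) {t u : ℕ → F} (ht' : Vec0 hF X J lw t)
    (hu : Vec0 hF X J lw u) : Vec0 hF X J lw (t - u) := by
  classical
  set c := ht D lw (D.simple 0)
  haveI := S.normal_inst hF c
  set f : ℕ → F → ↥(hF.tsys F).U ⧸ (K hF X J lw c).subgroupOf (hF.tsys F).U := fun r z =>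
    if h : D.nroots / 2 ≤ r ∧ r < D.nroots then img hF S c r z h else 1 with hf
  have key : ∀ L : List ℕ, (∀ r ∈ L, r ∈ Facts.radL D J) → ∀ v w : ℕ → F,
      (L.map fun r => f r (v r + w r)).prod =
        (L.map fun r => f r (v r)).prod * (L.map fun r => f r (w r)).prod := by
    intro L
    induction L with
    | nil => simp
    | cons m L ih =>
      intro hL v w
      have hm := hL m List.mem_cons_self
      have hc : f m (w m) ∈ Subgroup.center _ := by
        simp only [hf, dif_pos (Setup.pos_of_rad hm)]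
        exact S.central hF (S.no_lower hF) hm _
      simp only [List.map_cons, List.prod_cons]
      rw [ih (fun r hr => hL r (List.mem_cons_of_mem _ hr))]
      have ha : f m (v m + w m) = f m (v m) * f m (w m) := by
        simp only [hf, dif_pos (Setup.pos_of_rad hm)]
        exact S.img_add hF c _ _ _
      rw [ha, mul_assoc (f m (v m)), mul_assoc (f m (v m)), ← mul_assoc (f m (w m)),
        ← Subgroup.mem_center_iff.1 hc, mul_assoc]
  have hmem : ∀ v : ℕ → F, Vec0 hF X J lw v ↔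
      ((low D lw J).map fun r => f r (v r)).prod = 1 := by
    intro v
    have hU : ∀ r ∈ low D lw J, D.nroots / 2 ≤ r ∧ r < D.nroots := fun r hr =>
      Setup.pos_of_rad (mem_low.1 hr).1
    let g : ℕ → ↥(hF.tsys F).U := fun r => if h : D.nroots / 2 ≤ r ∧ r < D.nroots then
      ⟨hF.xg r (v r), (hF.tsys F).x_mem_U h.1 h.2 _⟩ else 1
    have e1 : ((low D lw J).map fun r => f r (v r)).prod =
        QuotientGroup.mk' _ ((low D lw J).map g).prod := by
      rw [map_list_prod, List.map_map]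
      refine congrArg List.prod (List.map_congr_left fun r hr => ?_)
      simp only [hf, g, Function.comp_apply, dif_pos (hU r hr)]
      rfl
    rw [e1, QuotientGroup.mk'_apply, QuotientGroup.eq_one_iff, Subgroup.mem_subgroupOf,
      SubmonoidClass.coe_list_prod, List.map_map, Vec0]
    refine iff_of_eq (congrArg (· ∈ _) ?_)
    refine congrArg List.prod (List.map_congr_left fun r hr => ?_)
    simp only [g, Function.comp_apply, dif_pos (hU r hr)]
    rfl
  rw [hmem] at ht' hu ⊢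
  have := key (low D lw J) (fun r hr => (mem_low.1 hr).1) (t - u) u
  simp only [Pi.sub_apply, sub_add_cancel] at this
  rw [ht', hu, mul_one] at this
  exact this.symm

theorem Setup.vec_torus (S : Setup hF X J lw b l) (c : Fin D.rank → Fˣ) {t : ℕ → F}
    (h : Vec0 hF X J lw t) : Vec0 hF X J lw fun r => (torChar D c r : F) * t r := by
  have hB : torus D F c ∈ (hF.tsys F).B := (hF.tsys F).H_le_B (by
    rw [hF.tsys_H, hF.diagonalSubgroup_eq]
    exact ⟨c, rfl⟩)
  have h1 := (Subgroup.mem_normalizer_iff.1 (S.K_normal hF _ hB) _).1 h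
  unfold Vec0
  convert h1 using 1
  rw [← MulAut.conj_apply, CommSys.prodOver, CommSys.prodOver, map_list_prod, List.map_map]
  refine congrArg List.prod (List.map_congr_left fun r hr => ?_)
  exact (hF.torus_conj c (Setup.pos_of_rad (mem_low.1 hr).1).2 _).symm

theorem Setup.exists_vec (S : Setup hF X J lw b l) {i : Fin D.rank} (hi : i.val ∉ J) :
    ∃ t : ℕ → F, Vec0 hF X J lw t ∧ t (D.simple i.val) ≠ 0 := by
  classical
  by_contra hc
  simp only [not_exists, not_and, not_not] at hc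
  refine S.out i hi fun g hg => ?_
  obtain ⟨t, ht'⟩ := (hF.tsys F).exists_prodOver (closed_radL S.coeff J hF) (S.le hg)
  have hlowV : Vec0 hF X J lw t := by
    have hxU : ∀ r ∈ Facts.radL D J, D.nroots / 2 ≤ r ∧ r < D.nroots := fun r hr => Setup.pos_of_rad hr
    haveI := S.normal_inst hF (ht D lw (D.simple 0))
    set f : ℕ → ↥(hF.tsys F).U ⧸ (K hF X J lw (ht D lw (D.simple 0))).subgroupOf (hF.tsys F).U :=
      fun r => if h : D.nroots / 2 ≤ r ∧ r < D.nroots then img hF S _ r (t r) h else 1 with hf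
    let g0 : ℕ → ↥(hF.tsys F).U := fun r => if h : D.nroots / 2 ≤ r ∧ r < D.nroots then
      ⟨hF.xg r (t r), (hF.tsys F).x_mem_U h.1 h.2 _⟩ else 1
    have hg0 : ∀ L : List ℕ, (∀ r ∈ L, r ∈ Facts.radL D J) →
        ((hF.tsys F).prodOver L t = ((L.map g0).prod : ↥(hF.tsys F).U)) ∧
        (L.map f).prod = QuotientGroup.mk' _ (L.map g0).prod := by
      intro L hL
      refine ⟨?_, ?_⟩
      · rw [SubmonoidClass.coe_list_prod, List.map_map]
        refine congrArg List.prod (List.map_congr_left fun r hr => ?_)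
        simp only [g0, Function.comp_apply, dif_pos (hxU r (hL r hr))]
        rfl
      · rw [map_list_prod, List.map_map]
        refine congrArg List.prod (List.map_congr_left fun r hr => ?_)
        simp only [hf, g0, Function.comp_apply, dif_pos (hxU r (hL r hr))]
        rfl
    obtain ⟨a1, a2⟩ := hg0 _ fun r hr => hr
    obtain ⟨b1, b2⟩ := hg0 (low D lw J) fun r hr => (mem_low.1 hr).1
    have hone : ((Facts.radL D J).map f).prod = 1 := by
      rw [a2, QuotientGroup.mk'_apply, QuotientGroup.eq_one_iff, Subgroup.mem_subgroupOf, ← a1, ← ht']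
      exact Subgroup.mem_sup_left hg
    rw [prod_filter_one (fun r => decide (ht D lw r ≤ ht D lw (D.simple 0))) f _ fun r hr h => ?_] at hone
    · rw [show (Facts.radL D J).filter _ = low D lw J from rfl, b2, QuotientGroup.mk'_apply,
        QuotientGroup.eq_one_iff, Subgroup.mem_subgroupOf, ← b1] at hone
      exact hone
    · simp only [hf, dif_pos (hxU r hr)]
      rw [S.img_eq_one hF]
      exact Subgroup.mem_sup_right (CommSys.x_mem_US _ (mem_above.2 ⟨hr, by simpa using h⟩) _)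
  have hz := hc t hlowV
  rw [ht', CommSys.prodOver, prod_filter_one (fun r => decide (r ≠ D.simple i.val))]
  · refine list_prod_mem fun x hx => ?_
    obtain ⟨r, hr, rfl⟩ := List.mem_map.1 hx
    obtain ⟨h1, h2⟩ := List.mem_filter.1 hr
    exact CommSys.x_mem_US _ (TorusSys.mem_posNe.2 ⟨(Setup.pos_of_rad h1).1, (Setup.pos_of_rad h1).2,
      of_decide_eq_true h2⟩) _
  · intro r _ h
    obtain rfl : r = D.simple i.val := by simpa using h
    rw [hz, CommSys.x_zero]

theorem torChar_pair (c : Fˣ) (k l : Fin D.rank) (x y : ℤ) (r : ℕ) :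
    torChar D (Pi.mulSingle k (c ^ x) * Pi.mulSingle l (c ^ y)) r =
      c ^ (x * D.cartan k.val r + y * D.cartan l.val r) := by
  have h1 : ∀ (k : Fin D.rank) (x : ℤ),
      ∏ i, (Pi.mulSingle k (c ^ x) : Fin D.rank → Fˣ) i ^ D.cartan i.val r = c ^ (x * D.cartan k.val r) := by
    intro k x
    rw [Finset.prod_eq_single k (fun i _ hne => by simp [Pi.mulSingle_eq_of_ne hne]) (by simp),
      Pi.mulSingle_eq_same, ← _root_.zpow_mul]
  simp only [torChar, Pi.mul_apply, mul_zpow, Finset.prod_mul_distrib]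
  rw [h1, h1, ← _root_.zpow_add]

/-- A torus element separating two simple roots. -/
theorem Setup.exists_sep [Finite F] (S : Setup hF X J lw b l) {i j : Fin D.rank} (hne : i ≠ j) :
    ∃ c : Fin D.rank → Fˣ,
      (torChar D c (D.simple i.val) = 1 ∧ torChar D c (D.simple j.val) ≠ 1) ∨
      (torChar D c (D.simple j.val) = 1 ∧ torChar D c (D.simple i.val) ≠ 1) := by
  have := Fintype.ofFinite F
  obtain ⟨u, hu⟩ := IsCyclic.exists_generator (α := Fˣ)
  have hord : (orderOf u : ℤ) = (Nat.card F : ℤ) - 1 := by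
    rw [orderOf_eq_card_of_forall_mem_zpowers hu, Nat.card_units]
    have := Nat.card_pos (α := F)
    omega
  have hne1 : ∀ e : ℤ, e ≠ 0 → e.natAbs ≤ b → u ^ e ≠ 1 := by
    intro e he heb h
    have h1 := Int.le_of_dvd (abs_pos.2 he) (dvd_abs _ _ |>.2 (orderOf_dvd_iff_zpow_eq_one.2 h))
    have := S.card
    rw [hord, Int.abs_eq_natAbs] at h1
    omega
  have h := S.sep
  simp only [sepOK, List.all_eq_true, List.mem_range, Bool.or_eq_true, decide_eq_true_eq,
    List.any_eq_true, Bool.and_eq_true] at h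
  rcases h i.val i.isLt j.val j.isLt with h' | ⟨⟨x, y⟩, -, k, hk, m, hm, h'⟩
  · exact absurd (Fin.ext h') hne
  refine ⟨Pi.mulSingle ⟨k, hk⟩ (u ^ x) * Pi.mulSingle ⟨m, hm⟩ (u ^ y), ?_⟩
  simp only [torChar_pair]
  simp only [expo] at h'
  rcases h' with ⟨⟨h1, h2⟩, h3⟩ | ⟨⟨h1, h2⟩, h3⟩
  · exact Or.inl ⟨by rw [h1, zpow_zero], hne1 _ h2 h3⟩
  · exact Or.inr ⟨by rw [h1, zpow_zero], hne1 _ h2 h3⟩

theorem Setup.low_simple (S : Setup hF X J lw b l) {r : ℕ} (hr : r ∈ low D lw J) :
    ∃ i : Fin D.rank, r = D.simple i.val := by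
  obtain ⟨h1, h2⟩ := mem_low.1 hr
  rcases S.pos_cases hF (Setup.pos_of_rad h1).1 (Setup.pos_of_rad h1).2 with h | ⟨h, -⟩
  · exact h
  · omega

theorem Setup.sq_closed (S : Setup hF X J lw b l) {t : ℕ → F} (h : Vec0 hF X J lw t) {r : ℕ}
    (hr : r < D.nroots) {a : F} (ha : a ≠ 0) :
    ∃ w : ℕ → F, Vec0 hF X J lw (fun v => w v * t v) ∧ w r = a ^ 2 := by
  refine ⟨_, S.vec_torus hF (Facts.hCoord D r (Units.mk0 a ha)) h, ?_⟩
  rw [Facts.torChar_hCoord, hF.pairing_self r hr]
  norm_num [sq, zpow_two]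

theorem Setup.vec_single [Finite F] (S : Setup hF X J lw b l) {i : Fin D.rank} (hi : i.val ∉ J) :
    ∃ t : ℕ → F, Vec0 hF X J lw t ∧ t (D.simple i.val) ≠ 0 ∧
      ∀ v ∈ low D lw J, v ≠ D.simple i.val → t v = 0 := by
  classical
  obtain ⟨t, ht', hti⟩ := S.exists_vec hF hi
  set L := (low D lw J).toFinset with hL
  induction hn : (L.filter fun v => v ≠ D.simple i.val ∧ t v ≠ 0).card using Nat.strong_induction_on
    generalizing t with
  | _ n ih =>
    subst hn
    by_cases hall : ∀ v ∈ low D lw J, v ≠ D.simple i.val → t v = 0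
    · exact ⟨t, ht', hti, hall⟩
    simp only [not_forall] at hall
    obtain ⟨v, hv, hvi, htv⟩ := hall
    obtain ⟨j, rfl⟩ := S.low_simple hF hv
    have hij : i ≠ j := fun h => hvi (h ▸ rfl)
    have hfin : ∀ t' : ℕ → F, Vec0 hF X J lw t' → t' (D.simple i.val) ≠ 0 → t' (D.simple j.val) = 0 →
        (∀ w, t w = 0 → t' w = 0) →
        ∃ t : ℕ → F, Vec0 hF X J lw t ∧ t (D.simple i.val) ≠ 0 ∧
          ∀ v ∈ low D lw J, v ≠ D.simple i.val → t v = 0 := by
      intro t' h1 h2 h3 h4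
      refine ih _ (Finset.card_lt_card (Finset.ssubset_iff_subset_ne.2 ⟨fun w hw => ?_, fun he => ?_⟩))
        t' h1 h2 rfl
      · simp only [Finset.mem_filter] at hw ⊢
        exact ⟨hw.1, hw.2.1, fun h => hw.2.2 (h4 w h)⟩
      · have : D.simple j.val ∈ L.filter fun v => v ≠ D.simple i.val ∧ t v ≠ 0 :=
          Finset.mem_filter.2 ⟨List.mem_toFinset.2 hv, hvi, htv⟩
        rw [← he] at this
        exact (Finset.mem_filter.1 this).2.2 h3
    obtain ⟨c, ⟨hci, hcj⟩ | ⟨hcj, hci⟩⟩ := S.exists_sep hF hij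
    · let P : F → Prop := fun z => ∃ d : ℕ → F, Vec0 hF X J lw d ∧ d (D.simple i.val) = 0 ∧
        d (D.simple j.val) = z ∧ ∀ w, t w = 0 → d w = 0
      have hP : P (t (D.simple j.val)) := by
        refine mem_of_sq P ?_ ?_ (y := ((torChar D c (D.simple j.val) : F) - 1) * t (D.simple j.val))
          ⟨_, S.vec_sub hF (S.vec_torus hF c ht') ht', by simp [hci], by simp [sub_mul],
            fun w hw => by simp [hw]⟩ (mul_ne_zero (sub_ne_zero.2 (by simpa using hcj)) htv) _
        · rintro x y ⟨d, d1, d2, d3, d4⟩ ⟨e, e1, e2, e3, e4⟩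
          exact ⟨_, S.vec_sub hF d1 e1, by simp [d2, e2], by simp [d3, e3],
            fun w hw => by simp [d4 w hw, e4 w hw]⟩
        · rintro x a ha ⟨d, d1, d2, d3, d4⟩
          obtain ⟨f, f1, f2⟩ := S.sq_closed hF d1 (hF.simple_lt j.val j.isLt) ha
          exact ⟨_, f1, by simp [d2], by simp [d3, f2], fun w hw => by simp [d4 w hw]⟩
      obtain ⟨d, d1, d2, d3, d4⟩ := hP
      exact hfin _ (S.vec_sub hF ht' d1) (by simpa [d2] using hti) (by simp [d3])
        fun w hw => by simp [hw, d4 w hw]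
    · refine hfin _ (S.vec_sub hF (S.vec_torus hF c ht') ht') ?_ (by simp [hcj]) fun w hw => by simp [hw]
      have : ((torChar D c (D.simple i.val) : F) - 1) * t (D.simple i.val) ≠ 0 :=
        mul_ne_zero (sub_ne_zero.2 (by simpa using hci)) hti
      simpa [sub_mul] using this

theorem Setup.known_simple [Finite F] (S : Setup hF X J lw b l) {i : Fin D.rank} (hi : i.val ∉ J) :
    Known hF X J lw (D.simple i.val) := by
  classical
  obtain ⟨t, t1, t2, t3⟩ := S.vec_single hF hi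
  have hr : D.simple i.val ∈ low D lw J := mem_low.2
    ⟨(Facts.mem_radL J).2 ⟨hF.simple_ge i.val i.isLt, hF.simple_lt i.val i.isLt,
      fun h => hi ((hF.inRootSub_simple J i.isLt).1 h)⟩, (S.ht_simple hF i).le⟩
  intro z
  let P : F → Prop := fun z => ∃ t : ℕ → F, Vec0 hF X J lw t ∧ t (D.simple i.val) = z ∧
    ∀ v ∈ low D lw J, v ≠ D.simple i.val → t v = 0
  have hP : P z := by
    refine mem_of_sq P ?_ ?_ (y := t (D.simple i.val)) ⟨t, t1, rfl, t3⟩ t2 z
    · rintro x y ⟨d, d1, d2, d3⟩ ⟨e, e1, e2, e3⟩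
      exact ⟨_, S.vec_sub hF d1 e1, by simp [d2, e2], fun w hw hne => by simp [d3 w hw hne, e3 w hw hne]⟩
    · rintro x a ha ⟨d, d1, d2, d3⟩
      obtain ⟨f, f1, f2⟩ := S.sq_closed hF d1 (hF.simple_lt i.val i.isLt) ha
      exact ⟨_, f1, by simp [d2, f2], fun w hw hne => by simp [d3 w hw hne]⟩
  obtain ⟨d, d1, d2, d3⟩ := hP
  have hnd : (low D lw J).Nodup :=
    (closed_radL S.coeff J hF).sorted.nodup.filter _
  unfold Vec0 at d1
  rw [CommSys.prodOver, List.prod_map_eq_pow_single (D.simple i.val) _ fun v hne hv => by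
      rw [d3 v hv hne, CommSys.x_zero],
    List.count_eq_one_of_mem hnd hr, pow_one, d2] at d1
  rw [S.ht_simple hF i]
  exact d1

theorem Setup.all_known [Finite F] (S : Setup hF X J lw b l) :
    ∀ r ∈ Facts.radL D J, Known hF X J lw r := by
  intro r
  induction hk : (ht D lw r).toNat using Nat.strong_induction_on generalizing r with
  | _ k ih =>
    subst hk
    intro hr
    obtain ⟨h1, h2⟩ := Setup.pos_of_rad hr
    rcases S.pos_cases hF h1 h2 with ⟨i, rfl⟩ | ⟨-, hok⟩
    · exact S.known_simple hF fun hi => ((Facts.mem_radL J).1 hr).2.2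
        ((hF.inRootSub_simple J i.isLt).2 hi)
    have known : ∀ v ∈ Facts.radL D J, ht D lw v < ht D lw r → Known hF X J lw v := fun v hv hlt => by
      refine ih _ ?_ v rfl hv
      have := S.ht_ge hF (Setup.pos_of_rad hv).1 (Setup.pos_of_rad hv).2
      have := S.ht_zero hF
      omega
    have hunit : ∀ c : ℤ, decide (c = 1 ∨ c = -1) = true → (c : F) ≠ 0 := by
      intro c hc
      rcases of_decide_eq_true hc with rfl | rfl <;> simp
    simp only [rootOK, Bool.or_eq_true, Bool.and_eq_true, List.any_eq_true, List.mem_range,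
      decide_eq_true_eq] at hok
    rcases hok with (⟨a, ha, h⟩ | ⟨a, ha, h⟩) | ⟨⟨hb, a, ha, h⟩, a', ha', h'⟩
    · exact S.step_split hF known hr ha h hunit (by simp)
    · exact S.step_split hF known hr ha h hunit (by simp)
    by_cases h2F : (2 : F) = 0
    · refine S.step_split hF known hr ha' h' (fun c hc => ?_) (by simp)
      obtain ⟨d, rfl⟩ : ∃ d, c = 2 * d + 1 := ⟨c / 2, by
        have := of_decide_eq_true hc; omega⟩
      push_cast
      simp [h2F]
    · exact S.step_split hF known hr ha h hunit fun _ => ⟨h2F, by have := S.card; omega⟩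

theorem Setup.eq_radical [Finite F] (S : Setup hF X J lw b l) :
    X = (hF.tsys F).US (Facts.radL D J) := by
  refine le_antisymm S.le (CommSys.US_le _ fun r => ?_)
  set M : ℕ := ((Facts.radL D J).map fun v => (ht D lw v).natAbs).sum with hM
  induction hk : M + 1 - (ht D lw r).toNat using Nat.strong_induction_on generalizing r with
  | _ k ih =>
    subst hk
    intro hr t
    have hle : K hF X J lw (ht D lw r) ≤ X := by
      refine sup_le le_rfl (CommSys.US_le _ fun v hv u => ?_)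
      obtain ⟨hv1, hv2⟩ := mem_above.1 hv
      refine ih _ ?_ v rfl hv1 u
      have h1 : (ht D lw v).natAbs ≤ M := List.le_sum_of_mem (List.mem_map.2 ⟨v, hv1, rfl⟩)
      have := S.ht_ge hF (Setup.pos_of_rad hr).1 (Setup.pos_of_rad hr).2
      have := S.ht_zero hF
      omega
    exact hle (S.all_known hF r hr t)

include hF in
/-- Weakly closed subgroups of U are unipotent radicals. -/
theorem weakly_closed [Finite F] (htab : tableOK D lw b = true) (hsep : sepOK D b = true)
    (hl : okCoeff D l = true) (hb : 1 ≤ b) (hq : b + 2 ≤ Nat.card F)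
    (hXU : X ≤ D.posUnipotent F)
    (hwc : ∀ g ∈ D.group F, X.map (MulAut.conj g).toMonoidHom ≤ D.posUnipotent F →
      X.map (MulAut.conj g).toMonoidHom = X) :
    ∃ J : Set ℕ, (∀ j ∈ J, j < D.rank) ∧ X = D.unipotentRadical F J := by
  classical
  have := Fintype.ofFinite F
  set J : Finset ℕ := (Finset.range D.rank).filter fun i =>
    ∃ h : i < D.rank, X.map (MulAut.conj ((hF.tsys F).nS ⟨i, h⟩)).toMonoidHom = X with hJ
  refine ⟨↑J, fun j hj => Finset.mem_range.1 (Finset.mem_filter.1 hj).1, ?_⟩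
  rw [hF.unipotentRadical_eq]
  have hXU' : X ≤ (hF.tsys F).U := by rwa [hF.tsys_U]
  have hBU : (hF.tsys F).B ≤ Subgroup.normalizer ((hF.tsys F).U : Set (GL D.Idx F)) :=
    sup_le Subgroup.le_normalizer (hF.tsys F).H_le_normalizer_U
  have hnorm : (hF.tsys F).B ≤ Subgroup.normalizer (X : Set (GL D.Idx F)) := fun g hg => by
    refine mem_normalizer_of_conj (hwc g (B_mem_group hF hg) ?_)
    refine (Subgroup.map_mono hXU').trans ?_
    rw [conj_of_mem_normalizer (hBU hg), hF.tsys_U]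
  have hnS : ∀ i : Fin D.rank, (hF.tsys F).nS i ∈ D.group F := fun i => by
    rw [hF.tsys_nS]; exact hF.wg_mem_group _
  have hle : X ≤ (hF.tsys F).US (Facts.radL D (↑J : Set ℕ)) := by
    obtain ⟨L, hL⟩ := exists_longestJ hF J
    have hn : (hF.tsys F).nW L ∈ Subgroup.normalizer (X : Set (GL D.Idx F)) := by
      obtain ⟨ω, hω, hωw⟩ := exists_word_mem hF.refSys hL.mem
      obtain ⟨a, ha, he⟩ := (hF.tsys F).nw_eq hωw
      have h1 : (hF.tsys F).nw ω ∈ Subgroup.normalizer (X : Set (GL D.Idx F)) := by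
        refine list_prod_mem fun x hx => ?_
        obtain ⟨i, hi, rfl⟩ := List.mem_map.1 hx
        obtain ⟨-, h, he'⟩ := Finset.mem_filter.1 (show i.val ∈ J from hω i hi)
        exact mem_normalizer_of_conj he'
      have h3 := mul_mem (inv_mem (hnorm ((hF.tsys F).H_le_B ha))) h1
      rwa [he, inv_mul_cancel_left] at h3
    intro x hx
    exact (longest_conj_B hF hL hl (hXU' hx)).1
      ((hF.tsys F).U_le_B (hXU' ((Subgroup.mem_normalizer_iff.1 hn x).1 hx)))
  refine Setup.eq_radical hF (lw := lw) (b := b) (l := l) ⟨htab, hsep, hl, hq, hb, hle, hnorm,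
    fun i hi hsub => hi (Finset.mem_coe.2 (Finset.mem_filter.2 ⟨Finset.mem_range.2 i.isLt, i.isLt,
      hwc _ (hnS i) ?_⟩))⟩
  rintro _ ⟨x, hx, rfl⟩
  rw [← hF.tsys_U]
  exact (hF.tsys F).US_posNe_le_U i ((hF.tsys F).nS_conj_posNe i (hsub hx)).1

end Cfsg.Agent.Small.WeakClosed
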