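import Cfsg.Agent.Lib.Lie.Coxeter

/-!
Cosets and double cosets of the standard subgroups of a reflection system: minimal representatives.
-/

set_option autoImplicit false

namespace Cfsg.Agent.Small.WeylCosets

open Cfsg.Agent.Lie RefSystem

variable {B W Φ : Type*} [Group W] [MulAction W Φ] [DecidableEq Φ] (R : RefSystem B W Φ)

/-- The standard subgroup of a set of simple reflections. -/
def WJ (J : Set B) : Subgroup W := Subgroup.closure (R.s '' J)

theorem s_mem {J : Set B} {j : B} (h : j ∈ J) : R.s j ∈ WJ R J := Subgroup.subset_closure ⟨j, h, rfl⟩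

theorem pr_mem {J : Set B} {ω : List B} (h : ∀ j ∈ ω, j ∈ J) : R.pr ω ∈ WJ R J :=
  Subgroup.list_prod_mem _ fun g hg => by
    obtain ⟨j, hj, rfl⟩ := List.mem_map.1 hg
    exact s_mem R (h j hj)

theorem pr_eq_nil : R.pr ([] : List B) = 1 := rfl

theorem exists_word_mem {J : Set B} {v : W} (hv : v ∈ WJ R J) :
    ∃ ω : List B, (∀ j ∈ ω, j ∈ J) ∧ R.pr ω = v := by
  induction hv using Subgroup.closure_induction with
  | mem x hx =>
    obtain ⟨j, hj, rfl⟩ := hx
    exact ⟨[j], by simpa using hj, R.pr_singleton j⟩
  | one => exact ⟨[], by simp, rfl⟩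
  | mul x y _ _ hx hy =>
    obtain ⟨a, ha, rfl⟩ := hx
    obtain ⟨b, hb, rfl⟩ := hy
    exact ⟨a ++ b, fun j hj => (List.mem_append.1 hj).elim (ha j) (hb j), R.pr_append a b⟩
  | inv x _ hx =>
    obtain ⟨a, ha, rfl⟩ := hx
    exact ⟨a.reverse, fun j hj => ha j (List.mem_reverse.1 hj), R.pr_reverse a⟩

theorem exists_reduced_mem {J : Set B} {v : W} (hv : v ∈ WJ R J) :
    ∃ ω : List B, (∀ j ∈ ω, j ∈ J) ∧ R.pr ω = v ∧ ω.length = R.len v := by
  obtain ⟨ω, hJ, hω⟩ := exists_word_mem R hv
  induction hn : ω.length using Nat.strong_induction_on generalizing ω with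
  | _ n ih =>
    subst hn
    rcases (R.len_pr_le ω).lt_or_eq with hlt | heq
    · obtain ⟨A, i, Mid, j, C, rfl, hd⟩ := R.deletion' hlt
      refine ih _ ?_ (A ++ (Mid ++ C)) ?_ ?_ rfl
      · simp
      · intro k hk
        refine hJ k ?_
        simp only [List.mem_append, List.mem_cons] at hk ⊢
        tauto
      · rw [← hω, R.pr_shorten hd]
    · exact ⟨ω, hJ, hω, by rw [← heq, hω]⟩

theorem len_inv (w : W) : R.len w⁻¹ = R.len w := by
  have key : ∀ w, R.len w⁻¹ ≤ R.len w := by
    intro w
    obtain ⟨ω, hω, hlen⟩ := R.exists_reduced w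
    have := R.len_pr_le ω.reverse
    rwa [R.pr_reverse, hω, List.length_reverse, hlen] at this
  exact le_antisymm (key w) (by simpa using key w⁻¹)

theorem len_s (j : B) : R.len (R.s j) = 1 := by
  have := R.len_mul_s_of_mem (w := 1) (j := j) (by simpa using R.α_mem j)
  simpa [R.len_one] using this

/-- Minimal length in the coset x W_J. -/
def IsMin (J : Set B) (x : W) : Prop := ∀ v ∈ WJ R J, R.len x ≤ R.len (x * v)

/-- Lengths add over minimal coset representatives. -/
theorem len_add {J : Set B} {x v : W} (hx : IsMin R J x) (hv : v ∈ WJ R J) :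
    R.len (x * v) = R.len x + R.len v := by
  obtain ⟨p, hp, hpl⟩ := R.exists_reduced x
  obtain ⟨q, hqJ, hq, hql⟩ := exists_reduced_mem R hv
  have hpq : R.pr (p ++ q) = x * v := by rw [R.pr_append, hp, hq]
  have hle := R.len_pr_le (p ++ q)
  rw [hpq, List.length_append, hpl, hql] at hle
  refine le_antisymm hle (le_of_not_gt fun hlt => ?_)
  have hlt' : R.len (R.pr (p ++ q)) < (p ++ q).length := by
    rw [hpq, List.length_append, hpl, hql]; exact hlt
  obtain ⟨A, i, Mid, j, C, hsplit, hd⟩ := R.deletion' hlt'
  have hshort : R.pr (p ++ q) = R.pr (A ++ (Mid ++ C)) := by rw [hsplit, R.pr_shorten hd]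
  rcases List.append_eq_append_iff.1 hsplit with ⟨a', hA, hq'⟩ | ⟨c', hp', hrest⟩
  · -- both letters are in q
    subst hA
    rw [List.append_assoc, R.pr_append, R.pr_append p (a' ++ _)] at hshort
    have he := mul_left_cancel hshort
    have := R.len_pr_le (a' ++ (Mid ++ C))
    rw [← he, hq, ← hql, hq'] at this
    simp at this
  · rcases c' with _ | ⟨i', c''⟩
    · rw [List.nil_append] at hrest
      rw [List.append_nil] at hp'
      subst hp'
      rw [R.pr_append, R.pr_append p (Mid ++ C)] at hshort
      have he := mul_left_cancel hshort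
      have := R.len_pr_le (Mid ++ C)
      rw [← he, hq, ← hql, ← hrest] at this
      simp at this
    rw [List.cons_append, List.cons.injEq] at hrest
    obtain ⟨rfl, hrest⟩ := hrest
    rcases List.append_eq_append_iff.1 hrest with ⟨a', hc, hq'⟩ | ⟨c, hM, hq'⟩
    · -- j is at the start of a'
      rcases a' with _ | ⟨j', C'⟩
      · rw [List.append_nil] at hc
        rw [List.nil_append] at hq'
        subst hc
        -- i in p, j in q
        have h1 : R.pr (A ++ c'') ∈ {y | ∃ u ∈ WJ R J, y = x * u} := by
          refine ⟨v * (R.pr C)⁻¹, mul_mem hv (inv_mem (pr_mem R fun k hk => hqJ k ?_)), ?_⟩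
          · rw [← hq']; exact List.mem_cons_of_mem _ hk
          · rw [← mul_assoc, ← hpq, hshort, ← List.append_assoc, R.pr_append (A ++ c''), mul_inv_cancel_right]
        obtain ⟨u, hu, he⟩ := h1
        have h2 := R.len_pr_le (A ++ c'')
        have h3 := hx u hu
        rw [← he] at h3
        rw [hp'] at hpl
        simp at hpl h2
        omega
      · rw [List.cons_append, List.cons.injEq] at hq'
        obtain ⟨rfl, hq'⟩ := hq'
        -- both letters are in p
        subst hq'
        rw [show A ++ (Mid ++ (C' ++ q)) = (A ++ (Mid ++ C')) ++ q by simp, R.pr_append, R.pr_append] at hshort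
        have he := mul_right_cancel hshort
        have := R.len_pr_le (A ++ (Mid ++ C'))
        rw [← he, hp] at this
        rw [hp', hc] at hpl
        simp at hpl this
        omega
    · -- i in p, j in q
      subst hM
      have h1 : R.pr (A ++ c'') ∈ {y | ∃ u ∈ WJ R J, y = x * u} := by
        refine ⟨v * (R.pr (c ++ C))⁻¹, mul_mem hv (inv_mem (pr_mem R fun k hk => hqJ k ?_)), ?_⟩
        · rw [hq']
          simp only [List.mem_append, List.mem_cons] at hk ⊢
          tauto
        · rw [← mul_assoc, ← hpq, hshort,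
            show A ++ ((c'' ++ c) ++ C) = (A ++ c'') ++ (c ++ C) by simp, R.pr_append (A ++ c''),
            mul_inv_cancel_right]
      obtain ⟨u, hu, he⟩ := h1
      have h2 := R.len_pr_le (A ++ c'')
      have h3 := hx u hu
      rw [← he] at h3
      rw [hp'] at hpl
      simp at hpl h2
      omega

theorem exists_min [Finite W] (J : Set B) (w : W) : ∃ x, IsMin R J x ∧ x⁻¹ * w ∈ WJ R J := by
  classical
  have := Fintype.ofFinite W
  obtain ⟨x, hx, hmin⟩ := (Finset.univ.filter fun x => x⁻¹ * w ∈ WJ R J).exists_min_image R.len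
    ⟨w, by simp [one_mem]⟩
  rw [Finset.mem_filter] at hx
  refine ⟨x, fun v hv => hmin _ (Finset.mem_filter.2 ⟨Finset.mem_univ _, ?_⟩), hx.2⟩
  rw [mul_inv_rev, mul_assoc]
  exact mul_mem (inv_mem hv) hx.2

/-- Minimal representatives are the elements with ascents at every letter. -/
theorem isMin_iff [Finite W] {J : Set B} {x : W} : IsMin R J x ↔ ∀ j ∈ J, x • R.α j ∈ R.P := by
  refine ⟨fun hx j hj => ?_, fun h => ?_⟩
  · by_contra hn
    have := R.len_mul_s_of_not_mem hn
    rw [len_add R hx (s_mem R hj), len_s] at this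
    omega
  · obtain ⟨x₀, hx₀, hv⟩ := exists_min R J x
    obtain ⟨q, hqJ, hq, hql⟩ := exists_reduced_mem R hv
    rcases List.eq_nil_or_concat q with rfl | ⟨q', j, rfl⟩
    · have e : x₀ = x := inv_mul_eq_one.1 hq.symm
      rwa [← e]
    · rw [List.concat_eq_append] at hqJ hq hql
      have hj : j ∈ J := hqJ j (by simp)
      have hx : x = x₀ * R.pr q' * R.s j := by
        rw [mul_assoc, ← R.pr_singleton j, ← R.pr_append, hq, mul_inv_cancel_left]
      have h1 := R.len_mul_s_of_mem (h j hj)
      have h2 : x * R.s j = x₀ * R.pr q' := by rw [hx, mul_assoc, R.sq, mul_one]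
      have h3 := len_add R hx₀ (pr_mem R fun k hk => hqJ k (List.mem_append_left _ hk))
      have h4 := len_add R hx₀ hv
      rw [mul_inv_cancel_left] at h4
      have h5 := R.len_pr_le q'
      rw [h2, h3] at h1
      rw [List.length_append, List.length_singleton] at hql
      omega

theorem min_unique {J : Set B} {x y : W} (hx : IsMin R J x) (hy : IsMin R J y)
    (h : x⁻¹ * y ∈ WJ R J) : x = y := by
  have h1 := len_add R hx h
  have h2 := len_add R hy (inv_mem h)
  rw [mul_inv_cancel_left] at h1
  rw [mul_inv_rev, inv_inv, mul_inv_cancel_left] at h2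
  exact inv_mul_eq_one.1 (R.eq_one_of_len_eq_zero (by omega))

/-- Minimal double coset representatives exist. -/
theorem exists_min2 [Finite W] (I J : Set B) (w : W) :
    ∃ d, IsMin R I d ∧ IsMin R J d⁻¹ ∧ ∃ v ∈ WJ R J, ∃ u ∈ WJ R I, w = v * d * u := by
  classical
  have := Fintype.ofFinite W
  obtain ⟨d, hd, hmin⟩ := (Finset.univ.filter fun d => ∃ v ∈ WJ R J, ∃ u ∈ WJ R I,
    w = v * d * u).exists_min_image R.len
    ⟨w, Finset.mem_filter.2 ⟨Finset.mem_univ _, 1, one_mem _, 1, one_mem _, by simp⟩⟩
  obtain ⟨v, hv, u, hu, rfl⟩ := (Finset.mem_filter.1 hd).2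
  refine ⟨d, fun a ha => hmin _ (Finset.mem_filter.2 ⟨Finset.mem_univ _, v, hv, a⁻¹ * u,
    mul_mem (inv_mem ha) hu, by group⟩), fun a ha => ?_, v, hv, u, hu, rfl⟩
  rw [len_inv R d, ← len_inv R (d⁻¹ * a)]
  exact hmin _ (Finset.mem_filter.2 ⟨Finset.mem_univ _, v * a, mul_mem hv ha, u, hu, by group⟩)

/-- Minimal double coset representatives are unique. -/
theorem min2_unique {I J : Set B} {d d' v u : W} (h1 : IsMin R I d) (h2 : IsMin R J d⁻¹)
    (h1' : IsMin R I d') (h2' : IsMin R J d'⁻¹) (hv : v ∈ WJ R J) (hu : u ∈ WJ R I)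
    (he : d' = v * d * u) : d' = d := by
  -- choose v, u of least total length
  classical
  suffices H : ∀ n v u, v ∈ WJ R J → u ∈ WJ R I → R.len v + R.len u = n → d' = v * d * u → d' = d from
    H _ v u hv hu rfl he
  intro n
  induction n using Nat.strong_induction_on with
  | _ n ih =>
    intro v u hv hu hn he
    have hvd : R.len (v * d) = R.len v + R.len d := by
      have := len_add R h2 (inv_mem hv)
      rw [len_inv, len_inv R v, ← mul_inv_rev, len_inv] at this
      omega
    by_cases hadd : R.len (v * d * u) = R.len v + R.len d + R.len u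
    · have h3 : R.len (v * d) = R.len d' + R.len u := by
        have := len_add R h1' (inv_mem hu)
        rw [len_inv R u, he, mul_inv_cancel_right] at this
        rw [he]; exact this
      rw [← he] at hadd
      have hu1 : u = 1 := R.eq_one_of_len_eq_zero (by omega)
      subst hu1
      rw [mul_one] at he
      have := len_add R h2' hv
      rw [he] at this
      rw [mul_inv_rev, inv_mul_cancel_right, ← mul_inv_rev, len_inv, len_inv, hvd] at this
      have hv1 : v = 1 := R.eq_one_of_len_eq_zero (by omega)
      rw [he, hv1, one_mul]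
    obtain ⟨qv, hqvJ, hqv, hqvl⟩ := exists_reduced_mem R hv
    obtain ⟨qu, hquI, hqu, hqul⟩ := exists_reduced_mem R hu
    obtain ⟨qd, hqd, hqdl⟩ := R.exists_reduced d
    have hpr : R.pr (qv ++ qd ++ qu) = d' := by rw [R.pr_append, R.pr_append, hqv, hqd, hqu, he]
    have hlt : R.len (R.pr (qv ++ qd ++ qu)) < (qv ++ qd ++ qu).length := by
      have := R.len_pr_le (qv ++ qd ++ qu)
      rw [hpr, he] at this ⊢
      simp only [List.length_append, hqvl, hqdl, hqul] at this ⊢
      omega
    obtain ⟨A, i, Mid, j, C, hsplit, hd⟩ := R.deletion' hlt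
    have hshort : d' = R.pr (A ++ (Mid ++ C)) := by rw [← hpr, hsplit, R.pr_shorten hd]
    -- the second letter lies in qu
    rcases List.append_eq_append_iff.1 hsplit with ⟨a', hA, hq'⟩ | ⟨c', hp', hrest⟩
    · subst hA
      rw [List.append_assoc (qv ++ qd), R.pr_append (qv ++ qd), R.pr_append qv, hqv, hqd, he] at hshort
      have he' := mul_left_cancel hshort
      have := R.len_pr_le (a' ++ (Mid ++ C))
      rw [← he', ← hqul, hq'] at this
      simp at this
    · rcases c' with _ | ⟨i', c''⟩
      · rw [List.nil_append] at hrest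
        rw [List.append_nil] at hp'
        rw [← hp', R.pr_append (qv ++ qd), R.pr_append qv, hqv, hqd, he] at hshort
        have he' := mul_left_cancel hshort
        have := R.len_pr_le (Mid ++ C)
        rw [← he', ← hqul, ← hrest] at this
        simp at this
      rw [List.cons_append, List.cons.injEq] at hrest
      obtain ⟨rfl, hrest⟩ := hrest
      have key : ∀ q1 q2 : List B, (∀ k ∈ q2, k ∈ I) →
          q2.length < qu.length → d' = R.pr q1 * R.pr q2 → q1 = A ++ c'' → d' = d := by
        intro q1 q2 hq2 hlen2 hd' hq1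
        rcases List.append_eq_append_iff.1 hp' with ⟨a, ha, hd2⟩ | ⟨c, hc, hrest2⟩
        · -- i in qd
          subst ha
          rw [hq1, List.append_assoc, R.pr_append qv, hqv] at hd'
          -- a shorter element of the double coset
          have hd0 : R.pr (a ++ c'') = v⁻¹ * d' * (R.pr q2)⁻¹ := by rw [hd']; group
          have hmin1 := h1 (u * (R.pr q2)⁻¹) (mul_mem hu (inv_mem (pr_mem R hq2)))
          have h5 := R.len_pr_le (a ++ c'')
          rw [hd0, he] at h5
          rw [show d * (u * (R.pr q2)⁻¹) = v⁻¹ * (v * d * u) * (R.pr q2)⁻¹ by group] at hmin1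
          rw [hd2] at hqdl
          simp at hqdl h5
          omega
        · rcases c with _ | ⟨k, c3⟩
          · rw [List.append_nil] at hc
            rw [List.nil_append] at hrest2
            subst hc
            rw [hq1, R.pr_append, hqv] at hd'
            have hd0 : R.pr c'' = v⁻¹ * d' * (R.pr q2)⁻¹ := by rw [hd']; group
            have hmin1 := h1 (u * (R.pr q2)⁻¹) (mul_mem hu (inv_mem (pr_mem R hq2)))
            have h5 := R.len_pr_le c''
            rw [hd0, he] at h5
            rw [show d * (u * (R.pr q2)⁻¹) = v⁻¹ * (v * d * u) * (R.pr q2)⁻¹ by group] at hmin1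
            rw [← hrest2] at hqdl
            simp at hqdl h5
            omega
          · rw [List.cons_append, List.cons.injEq] at hrest2
            obtain ⟨rfl, hrest2⟩ := hrest2
            subst hrest2
            refine ih (R.len (R.pr (A ++ c3)) + R.len (R.pr q2)) ?_ _ _ (pr_mem R fun l hl => hqvJ l ?_)
              (pr_mem R hq2) rfl ?_
            · have h8 := R.len_pr_le (A ++ c3)
              have h9 := R.len_pr_le q2
              rw [hc] at hqvl
              simp at hqvl h8 ⊢
              omega
            · rw [hc]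
              simp only [List.mem_append, List.mem_cons] at hl ⊢
              tauto
            · rw [hd', hq1, ← List.append_assoc, R.pr_append (A ++ c3), hqd]
      rcases List.append_eq_append_iff.1 hrest with ⟨a', hc, hq'⟩ | ⟨c, hM, hq'⟩
      · rcases a' with _ | ⟨j', C'⟩
        · rw [List.append_nil] at hc
          rw [List.nil_append] at hq'
          subst hc
          refine key (A ++ c'') C (fun k hk => hquI k (by rw [← hq']; exact List.mem_cons_of_mem _ hk))
            (by rw [← hq']; simp) ?_ rfl
          rw [← R.pr_append, List.append_assoc, hshort]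
        · rw [List.cons_append, List.cons.injEq] at hq'
          obtain ⟨rfl, hq'⟩ := hq'
          subst hq'
          rw [show A ++ (Mid ++ (C' ++ qu)) = (A ++ (Mid ++ C')) ++ qu by simp, R.pr_append, hqu, he] at hshort
          have he' := mul_right_cancel hshort
          have h6 := R.len_pr_le (A ++ (Mid ++ C'))
          rw [← he', hvd] at h6
          have h7 : (qv ++ qd).length = (A ++ i :: c'').length := by rw [hp']
          rw [hc] at h7
          simp [hqvl, hqdl] at h6 h7
          omega
      · subst hM
        refine key (A ++ c'') (c ++ C) (fun k hk => hquI k ?_) (by rw [hq']; simp) ?_ rfl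
        · rw [hq']
          simp only [List.mem_append, List.mem_cons] at hk ⊢
          tauto
        · rw [← R.pr_append, hshort]; simp

end Cfsg.Agent.Small.WeylCosets
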