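import Mathlib

/-!
Word maps on `SL 2 F`: a nontrivial word takes a noncentral value as soon as `F` is large.
-/

set_option autoImplicit false
set_option maxHeartbeats 2000000
set_option linter.unnecessarySeqFocus false
set_option linter.unusedSimpArgs false

namespace Cfsg.Agent.Small.WordMap

open Matrix Polynomial

variable {F : Type*} [Field F]

/-- The conjugating matrix for the `i`-th generator, over any ring. -/
def hMat {R : Type*} [CommRing R] (a : R) : Matrix (Fin 2) (Fin 2) R := !![1 + a * a, a; a, 1]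

/-- Its inverse. -/
def hInv {R : Type*} [CommRing R] (a : R) : Matrix (Fin 2) (Fin 2) R := !![1, -a; -a, 1 + a * a]

theorem hMat_mul_hInv {R : Type*} [CommRing R] (a : R) : hMat a * hInv a = 1 := by
  ext i j; fin_cases i <;> fin_cases j <;> simp [hMat, hInv, Matrix.mul_apply] <;> ring

theorem hInv_mul_hMat {R : Type*} [CommRing R] (a : R) : hInv a * hMat a = 1 := by
  ext i j; fin_cases i <;> fin_cases j <;> simp [hMat, hInv, Matrix.mul_apply] <;> ring

/-- The diagonal matrix of a letter. -/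
def dMat {R : Type*} [CommRing R] (T : R) (b : Bool) : Matrix (Fin 2) (Fin 2) R :=
  if b then !![T, 0; 0, 1] else !![1, 0; 0, T]

/-- The matrix of a word, cleared of denominators. -/
def wMat {R : Type*} [CommRing R] (t : R) (K : ℕ) : List (ℕ × Bool) → Matrix (Fin 2) (Fin 2) R
  | [] => 1
  | (i, b) :: L => hMat (t ^ (i + 1)) * dMat (t ^ (2 * K)) b * hInv (t ^ (i + 1)) * wMat t K L

/-- The favoured coordinate of a letter. -/
def side (b : Bool) : Fin 2 := if b then 0 else 1

/-- The other coordinate. -/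
def otherSide (b : Bool) : Fin 2 := if b then 1 else 0

theorem natDegree_pair {p a b : F[X]} {D : ℕ} (hp : p ≠ 0) (hb : b.natDegree + D < a.natDegree)
    (q : F[X]) (hq : q.natDegree ≤ D) :
    (p * a + q * b).natDegree = p.natDegree + a.natDegree := by
  have ha : a ≠ 0 := by rintro rfl; simp at hb
  rw [natDegree_add_eq_left_of_natDegree_lt]
  · exact natDegree_mul hp ha
  · rw [natDegree_mul hp ha]
    have := natDegree_mul_le (p := q) (q := b)
    omega

theorem between_entries (i j N : ℕ) (hi : i ≤ N) (hj : j ≤ N) (hne : i ≠ j) (r c : Fin 2) :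
    ((hInv ((X : F[X]) ^ (i + 1)) * hMat (X ^ (j + 1)) : Matrix (Fin 2) (Fin 2) F[X]) r c) ≠ 0 ∧
    ((hInv ((X : F[X]) ^ (i + 1)) * hMat (X ^ (j + 1)) : Matrix (Fin 2) (Fin 2) F[X]) r c).natDegree ≤ 4 * (N + 1) := by
  set a : F[X] := X ^ (i + 1) with ha
  set b : F[X] := X ^ (j + 1) with hb
  have hba : b - a ≠ 0 := by
    rw [sub_ne_zero]
    intro h
    have := congrArg natDegree h
    simp [ha, hb] at this
    omega
  have h1 : ∀ (x y : F[X]), (x.coeff 0 = 0) → (y.coeff 0 = 0) → 1 + x * y ≠ 0 := by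
    intro x y hx _ h
    have := congrArg (fun p => coeff p 0) h
    simp [mul_coeff_zero, hx] at this
  have ha0 : a.coeff 0 = 0 := by simp [ha]
  have hb0 : b.coeff 0 = 0 := by simp [hb]
  have hda : a.natDegree ≤ N + 1 := by simp [ha]; omega
  have hdb : b.natDegree ≤ N + 1 := by simp [hb]; omega
  have hn1 : natDegree (1 : F[X]) ≤ 0 := by simp
  constructor
  · fin_cases r <;> fin_cases c <;> simp [hInv, hMat, Matrix.mul_apply]
    · rw [show 1 + b * b + -(a * b) = 1 + b * (b - a) by ring]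
      exact h1 _ _ hb0 (by simp [ha0, hb0])
    · rw [show b + -a = b - a by ring]; exact hba
    · rw [show -(a * (1 + b * b)) + (1 + a * a) * b = (b - a) * (1 + (-a) * b) by ring]
      exact mul_ne_zero hba (h1 _ _ (by simp [ha0]) hb0)
    · rw [show -(a * b) + (1 + a * a) = 1 + a * (a - b) by ring]
      exact h1 _ _ ha0 (by simp [ha0, hb0])
  · have e1 : (a * b).natDegree ≤ 2 * (N + 1) := natDegree_mul_le.trans (by omega)
    have e2 : (1 + b * b).natDegree ≤ 2 * (N + 1) :=
      natDegree_add_le_of_degree_le (by simp) (natDegree_mul_le.trans (by omega))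
    have e3 : (1 + a * a).natDegree ≤ 2 * (N + 1) :=
      natDegree_add_le_of_degree_le (by simp) (natDegree_mul_le.trans (by omega))
    fin_cases r <;> fin_cases c <;> simp [hInv, hMat, Matrix.mul_apply]
    · exact natDegree_add_le_of_degree_le (e2.trans (by omega)) (by rw [natDegree_neg]; omega)
    · exact natDegree_add_le_of_degree_le (by omega) (by rw [natDegree_neg]; omega)
    · exact natDegree_add_le_of_degree_le
        (by rw [natDegree_neg]; exact natDegree_mul_le.trans (by omega))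
        (natDegree_mul_le.trans (by omega))
    · exact natDegree_add_le_of_degree_le (by rw [natDegree_neg]; omega) (e3.trans (by omega))

theorem mulVec_two (M : Matrix (Fin 2) (Fin 2) F[X]) (u : Fin 2 → F[X]) (r : Fin 2) (b : Bool) :
    (M *ᵥ u) r = M r (side b) * u (side b) + M r (otherSide b) * u (otherSide b) := by
  cases b <;> simp [Matrix.mulVec, dotProduct, side, otherSide, Fin.sum_univ_two, add_comm]

/-- The chosen column. -/
noncomputable def col (N K : ℕ) : List (ℕ × Bool) → (Fin 2 → F[X])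
  | [] => fun _ => 0
  | (i, b) :: L =>
    (hInv ((X : F[X]) ^ (i + 1)) * wMat X K ((i, b) :: L) * hMat (X ^ (N + 1))) *ᵥ Pi.single 1 1

theorem col_cons (N K i : ℕ) (b : Bool) (L : List (ℕ × Bool)) :
    col (F := F) N K ((i, b) :: L) =
      dMat ((X : F[X]) ^ (2 * K)) b *ᵥ
        ((hInv (X ^ (i + 1)) * wMat X K L * hMat (X ^ (N + 1))) *ᵥ Pi.single 1 1) := by
  rw [col, wMat, Matrix.mulVec_mulVec]
  simp only [← mul_assoc, hInv_mul_hMat, one_mul]

theorem dMat_mulVec (T : F[X]) (b : Bool) (v : Fin 2 → F[X]) :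
    (dMat T b *ᵥ v) (side b) = T * v (side b) ∧
      (dMat T b *ᵥ v) (otherSide b) = v (otherSide b) := by
  cases b <;> simp [dMat, side, otherSide, Matrix.mulVec, dotProduct, Fin.sum_univ_two]

theorem dStep (N : ℕ) (b : Bool) (v : Fin 2 → F[X]) (hv : ∀ r, v r ≠ 0) (B : ℕ)
    (hB : ∀ r, (v r).natDegree ≤ B) (hd : ∀ r s, (v r).natDegree ≤ (v s).natDegree + 4 * (N + 1)) :
    ((dMat ((X : F[X]) ^ (2 * (4 * (N + 1) + 1))) b *ᵥ v) (otherSide b)).natDegree + 4 * (N + 1) <
      ((dMat ((X : F[X]) ^ (2 * (4 * (N + 1) + 1))) b *ᵥ v) (side b)).natDegree ∧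
    ((dMat ((X : F[X]) ^ (2 * (4 * (N + 1) + 1))) b *ᵥ v) (side b)).natDegree ≤
      B + 2 * (4 * (N + 1) + 1) := by
  obtain ⟨h1, h2⟩ := dMat_mulVec ((X : F[X]) ^ (2 * (4 * (N + 1) + 1))) b v
  rw [h1, h2, natDegree_mul (pow_ne_zero _ X_ne_zero) (hv _), natDegree_X_pow]
  have := hd (otherSide b) (side b)
  have := hB (side b)
  omega

theorem col_inv (N : ℕ) : ∀ (L : List (ℕ × Bool)), FreeGroup.IsReduced L → (∀ x ∈ L, x.1 < N) →
    ∀ i b L', L = (i, b) :: L' →
    (col (F := F) N (4 * (N + 1) + 1) L (otherSide b)).natDegree + 4 * (N + 1) <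
      (col (F := F) N (4 * (N + 1) + 1) L (side b)).natDegree ∧
    (col (F := F) N (4 * (N + 1) + 1) L (side b)).natDegree ≤ L.length * (16 * (N + 1)) := by
  intro L
  induction L with
  | nil => intro _ _ i b L' h; cases h
  | cons x L ih =>
    intro hred hN i b L' h
    obtain ⟨rfl, rfl⟩ : x = (i, b) ∧ L = L' := by simpa using h
    have hi : i < N := hN (i, b) (by simp)
    rw [col_cons, List.length_cons, add_one_mul]
    cases L with
    | nil =>
      have he := between_entries (F := F) i N N hi.le le_rfl hi.ne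
      have hv : ∀ r, ((hInv ((X : F[X]) ^ (i + 1)) * wMat X (4 * (N + 1) + 1) [] *
          hMat (X ^ (N + 1))) *ᵥ Pi.single 1 1) r =
          (hInv ((X : F[X]) ^ (i + 1)) * hMat (X ^ (N + 1)) : Matrix (Fin 2) (Fin 2) F[X]) r 1 := by
        intro r
        rw [Matrix.mulVec_single_one, wMat, mul_one]
        rfl
      obtain ⟨h1, h2⟩ := dStep N b ((hInv ((X : F[X]) ^ (i + 1)) * wMat X (4 * (N + 1) + 1) [] *
          hMat (X ^ (N + 1))) *ᵥ Pi.single 1 1) (fun r => by rw [hv]; exact (he r 1).1) (4 * (N + 1))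
        (fun r => by rw [hv]; exact (he r 1).2)
        (fun r s => by rw [hv, hv]; exact (he r 1).2.trans (Nat.le_add_left _ _))
      exact ⟨h1, h2.trans (by omega)⟩
    | cons y L'' =>
      obtain ⟨j, c⟩ := y
      rw [FreeGroup.isReduced_cons_cons] at hred
      obtain ⟨hjb, hred'⟩ := hred
      have hN' : ∀ x ∈ (j, c) :: L'', x.1 < N := fun x hx => hN x (by simp [hx])
      obtain ⟨I1, I2⟩ := ih hred' hN' j c L'' rfl
      have hv : (hInv ((X : F[X]) ^ (i + 1)) * wMat X (4 * (N + 1) + 1) ((j, c) :: L'') *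
          hMat (X ^ (N + 1))) *ᵥ Pi.single 1 1 =
          (hInv ((X : F[X]) ^ (i + 1)) * hMat (X ^ (j + 1))) *ᵥ
            col N (4 * (N + 1) + 1) ((j, c) :: L'') := by
        have key : ∀ (A B C D E : Matrix (Fin 2) (Fin 2) F[X]), B * C = 1 →
            A * D * E = A * B * (C * D * E) := by
          intro A B C D E h
          rw [mul_assoc A B, ← mul_assoc B (C * D) E, ← mul_assoc B C D, h, one_mul, mul_assoc]
        rw [col, Matrix.mulVec_mulVec]
        exact congrArg (fun M => M *ᵥ Pi.single 1 1) (key _ _ _ _ _ (hMat_mul_hInv _))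
      rw [hv]
      set u := col (F := F) N (4 * (N + 1) + 1) ((j, c) :: L'') with hu
      by_cases hij : i = j
      · subst hij
        obtain rfl : b = c := hjb rfl
        rw [hInv_mul_hMat, Matrix.one_mulVec]
        obtain ⟨h1, h2⟩ := dMat_mulVec ((X : F[X]) ^ (2 * (4 * (N + 1) + 1))) b u
        have hu0 : u (side b) ≠ 0 := by intro h; simp [h] at I1
        rw [h1, h2, natDegree_mul (pow_ne_zero _ X_ne_zero) hu0, natDegree_X_pow]
        omega
      · have hj : j < N := hN' (j, c) (by simp)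
        have he := between_entries (F := F) i j N hi.le hj.le hij
        have hdeg : ∀ r, (((hInv ((X : F[X]) ^ (i + 1)) * hMat (X ^ (j + 1))) *ᵥ u) r).natDegree =
            ((hInv ((X : F[X]) ^ (i + 1)) * hMat (X ^ (j + 1)) :
              Matrix (Fin 2) (Fin 2) F[X]) r (side c)).natDegree +
              (u (side c)).natDegree := by
          intro r
          rw [mulVec_two _ _ _ c]
          exact natDegree_pair (he r _).1 I1 _ (he r _).2
        have hne : ∀ r, ((hInv ((X : F[X]) ^ (i + 1)) * hMat (X ^ (j + 1))) *ᵥ u) r ≠ 0 := by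
          intro r h0
          have := hdeg r
          rw [h0, natDegree_zero] at this
          omega
        obtain ⟨h1, h2⟩ := dStep N b _ hne ((u (side c)).natDegree + 4 * (N + 1))
          (fun r => by rw [hdeg]; have := (he r (side c)).2; omega)
          (fun r s => by rw [hdeg, hdeg]; have := (he r (side c)).2; omega)
        exact ⟨h1, by omega⟩

theorem wMat_map {R S : Type*} [CommRing R] [CommRing S] (f : R →+* S) (t : R) (K : ℕ)
    (L : List (ℕ × Bool)) : (wMat t K L).map f = wMat (f t) K L := by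
  induction L with
  | nil => simp [wMat]
  | cons x L ih =>
    obtain ⟨i, b⟩ := x
    simp only [wMat, Matrix.map_mul, ih]
    congr 1
    congr 1
    · congr 1
      · ext r c; fin_cases r <;> fin_cases c <;> simp [hMat]
      · ext r c; cases b <;> fin_cases r <;> fin_cases c <;> simp [dMat]
    · ext r c; fin_cases r <;> fin_cases c <;> simp [hInv]

/-- The generators. -/
noncomputable def gen (τ : Fˣ) (K : ℕ) (i : ℕ) : Matrix.SpecialLinearGroup (Fin 2) F :=
  ⟨hMat ((τ : F) ^ (i + 1)) * !![(τ : F) ^ K, 0; 0, ((τ⁻¹ : Fˣ) : F) ^ K] *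
      hInv ((τ : F) ^ (i + 1)), by
    simp only [Matrix.det_mul, hMat, hInv, Matrix.det_fin_two_of]
    have h : (τ : F) ^ K * ((τ⁻¹ : Fˣ) : F) ^ K = 1 := by
      rw [← mul_pow, Units.mul_inv, one_pow]
    linear_combination h⟩

theorem gen_letter (τ : Fˣ) (K i : ℕ) (b : Bool) :
    ((cond b (gen τ K i) (gen τ K i)⁻¹ : Matrix.SpecialLinearGroup (Fin 2) F) :
      Matrix (Fin 2) (Fin 2) F) =
    ((τ⁻¹ : Fˣ) : F) ^ K •
      (hMat ((τ : F) ^ (i + 1)) * dMat ((τ : F) ^ (2 * K)) b * hInv ((τ : F) ^ (i + 1))) := by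
  have hK : ((τ⁻¹ : Fˣ) : F) ^ K * (τ : F) ^ (2 * K) = (τ : F) ^ K := by
    rw [two_mul, pow_add, ← mul_assoc, ← mul_pow, Units.inv_mul, one_pow, one_mul]
  cases b
  · rw [cond_false, Matrix.SpecialLinearGroup.coe_inv]
    change Matrix.adjugate (hMat _ * _ * hInv _) = _
    rw [Matrix.adjugate_mul_distrib, Matrix.adjugate_mul_distrib]
    simp only [hMat, hInv, Matrix.adjugate_fin_two_of, dMat, Bool.false_eq_true, if_false,
      neg_neg, neg_zero]
    rw [← Matrix.smul_mul, ← Matrix.mul_smul]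
    simp only [Matrix.smul_of, Matrix.smul_cons, smul_eq_mul, mul_one, mul_zero, Matrix.smul_empty,
      hK, ← mul_assoc]
  · rw [cond_true]
    change hMat _ * _ * hInv _ = _
    rw [← Matrix.smul_mul, ← Matrix.mul_smul]
    simp only [dMat, if_true, Matrix.smul_of, Matrix.smul_cons, smul_eq_mul, mul_one, mul_zero,
      Matrix.smul_empty, hK]

theorem lift_mk_gen (τ : Fˣ) (K : ℕ) (L : List (ℕ × Bool)) :
    ((FreeGroup.lift (gen τ K) (FreeGroup.mk L) : Matrix.SpecialLinearGroup (Fin 2) F) :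
      Matrix (Fin 2) (Fin 2) F) =
    (((τ⁻¹ : Fˣ) : F) ^ K) ^ L.length • wMat (τ : F) K L := by
  induction L with
  | nil => simp [wMat, ← FreeGroup.one_eq_mk]
  | cons x L ih =>
    obtain ⟨i, b⟩ := x
    rw [FreeGroup.lift_mk, List.map_cons, List.prod_cons, ← FreeGroup.lift_mk,
      Matrix.SpecialLinearGroup.coe_mul, ih, gen_letter, wMat, List.length_cons,
      Matrix.smul_mul, Matrix.mul_smul, smul_smul, ← pow_succ']

/-- A bound beyond which the word `w` is not a law. -/
def bound (w : FreeGroup ℕ) : ℕ :=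
  (w.toWord.length + 2) * (16 * ((w.toWord.map Prod.fst).sum + 2)) + 3

theorem exists_noncentral (w : FreeGroup ℕ) (hw : w ≠ 1) [Fintype F]
    (hF : bound w ≤ Fintype.card F) :
    ∃ f : ℕ → Matrix.SpecialLinearGroup (Fin 2) F,
      FreeGroup.lift f w ∉ Subgroup.center (Matrix.SpecialLinearGroup (Fin 2) F) := by
  classical
  set L := w.toWord with hL
  set N := (L.map Prod.fst).sum + 1 with hNdef
  set K := 4 * (N + 1) + 1 with hKdef
  have hN : ∀ x ∈ L, x.1 < N := by
    intro x hx
    have := List.le_sum_of_mem (List.mem_map.mpr ⟨x, hx, rfl⟩ : x.1 ∈ L.map Prod.fst)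
    omega
  obtain ⟨⟨i, b⟩, L', hcons⟩ : ∃ x L', L = x :: L' := by
    cases hL' : L with
    | nil => exact absurd (FreeGroup.toWord_eq_nil_iff.mp (hL.symm.trans hL')) hw
    | cons x L' => exact ⟨x, L', rfl⟩
  obtain ⟨I1, I2⟩ := col_inv (F := F) N L FreeGroup.isReduced_toWord hN i b L' hcons
  rw [← hKdef] at I1 I2
  have hi : i < N := hN (i, b) (by simp [hcons])
  have he := between_entries (F := F) N i N le_rfl hi.le hi.ne'
  set P : F[X] := (hInv ((X : F[X]) ^ (N + 1)) * wMat X K L * hMat (X ^ (N + 1)) :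
    Matrix (Fin 2) (Fin 2) F[X]) 0 1 with hP
  have hPeq : P = ((hInv ((X : F[X]) ^ (N + 1)) * hMat (X ^ (i + 1))) *ᵥ col N K L) 0 := by
    have key : ∀ (A B C D E : Matrix (Fin 2) (Fin 2) F[X]), B * C = 1 →
        A * B * (C * D * E) = A * D * E := by
      intro A B C D E h
      rw [mul_assoc A B, ← mul_assoc B (C * D) E, ← mul_assoc B C D, h, one_mul, mul_assoc]
    rw [hP, hcons, col, Matrix.mulVec_mulVec, key _ _ _ _ _ (hMat_mul_hInv _)]
    rw [Matrix.mulVec_single_one]
    rfl
  have hdeg : P.natDegree = ((hInv ((X : F[X]) ^ (N + 1)) * hMat (X ^ (i + 1)) :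
      Matrix (Fin 2) (Fin 2) F[X]) 0 (side b)).natDegree
      + (col (F := F) N K L (side b)).natDegree := by
    rw [hPeq, mulVec_two _ _ _ b]
    exact natDegree_pair (he 0 _).1 I1 _ (he 0 _).2
  have hP0 : P ≠ 0 := by
    intro h
    rw [h, natDegree_zero] at hdeg
    omega
  have hsmall : (P * X).natDegree < Fintype.card F := by
    rw [natDegree_mul hP0 X_ne_zero, natDegree_X, hdeg]
    have := (he 0 (side b)).2
    simp only [bound, ← hL] at hF
    have h16 : N + 1 = (L.map Prod.fst).sum + 2 := by omega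
    rw [← h16, Nat.add_mul] at hF
    omega
  obtain ⟨τ, hτ⟩ : ∃ τ : F, (P * X).eval τ ≠ 0 := by
    by_contra! hall
    refine mul_ne_zero hP0 X_ne_zero ?_
    refine Polynomial.eq_zero_of_natDegree_lt_card_of_eval_eq_zero' (P * X) Finset.univ
      (fun x _ => hall x) ?_
    simpa using hsmall
  rw [eval_mul, eval_X, mul_ne_zero_iff] at hτ
  refine ⟨gen (Units.mk0 τ hτ.2) K, fun hc => hτ.1 ?_⟩
  obtain ⟨r, -, hr⟩ := Matrix.SpecialLinearGroup.mem_center_iff.mp hc
  rw [← FreeGroup.mk_toWord (x := w), lift_mk_gen] at hr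
  set c : F := ((((Units.mk0 τ hτ.2)⁻¹ : Fˣ) : F) ^ K) ^ w.toWord.length with hcdef
  have hc0 : c ≠ 0 := by simp [hcdef, hτ.2]
  have hev : c * P.eval τ = (hInv (τ ^ (N + 1)) * (c • wMat τ K L) * hMat (τ ^ (N + 1))) 0 1 := by
    have hm : ∀ M : Matrix (Fin 2) (Fin 2) F[X], (M 0 1).eval τ = (M.map (evalRingHom τ)) 0 1 :=
      fun M => rfl
    have hmI : (hInv ((X : F[X]) ^ (N + 1))).map (evalRingHom τ) = hInv (τ ^ (N + 1)) := by
      ext r c; fin_cases r <;> fin_cases c <;> simp [hInv]
    have hmM : (hMat ((X : F[X]) ^ (N + 1))).map (evalRingHom τ) = hMat (τ ^ (N + 1)) := by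
      ext r c; fin_cases r <;> fin_cases c <;> simp [hMat]
    rw [Matrix.mul_smul, Matrix.smul_mul, Matrix.smul_apply, smul_eq_mul, hP, hm, Matrix.map_mul,
      Matrix.map_mul, wMat_map, hmI, hmM, coe_evalRingHom, eval_X]
  rw [Units.val_mk0] at hr
  rw [← hr, Matrix.mul_assoc, Matrix.scalar_apply, ← Matrix.smul_one_eq_diagonal, Matrix.smul_mul,
    Matrix.one_mul, Matrix.mul_smul, hInv_mul_hMat] at hev
  simpa [hc0] using hev

end Cfsg.Agent.Small.WordMap
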